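import Cfsg.Agent.Lib.Sporadic.MathieuPrimeElements
import Cfsg.Agent.Lib.Char.PrimeSubgroupEstimate
import Cfsg.Agent.Lib.Blocks.GroupAlg
import Cfsg.Agent.Lib.CharAction.Galois

/-!
# M22 and M24 have no irreducible character of 2-defect zero

The values of a character at the elements of order 23, 11 and 7 already exceed the norm allowed by
the orthogonality relations.
-/

set_option autoImplicit false

namespace CfsgLib.Sporadic

open Cfsg MulAction CfsgLib.Char
open scoped Pointwise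

/-! ### residues -/

theorem residue_11_3 : ((3 : ℕ) : ZMod 11) ≠ 0 ∧
    (∀ j : ZMod 11, j ≠ 0 → ∃ e < 5, j = ((3 : ℕ) : ZMod 11) ^ e ∨ j = -((3 : ℕ) : ZMod 11) ^ e) := by
  decide

theorem residue_11_2 : ((2 : ℕ) : ZMod 11) ≠ 0 ∧
    (∀ j : ZMod 11, j ≠ 0 → ∃ e < 5, j = ((2 : ℕ) : ZMod 11) ^ e ∨ j = -((2 : ℕ) : ZMod 11) ^ e) ∧
    (-1 : ZMod 11) = ((2 : ℕ) : ZMod 11) ^ 5 := by
  decide

theorem residue_7_2 : ((2 : ℕ) : ZMod 7) ≠ 0 ∧
    (∀ j : ZMod 7, j ≠ 0 → ∃ e < 3, j = ((2 : ℕ) : ZMod 7) ^ e ∨ j = -((2 : ℕ) : ZMod 7) ^ e) := by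
  decide

theorem residue_23_2 : ((2 : ℕ) : ZMod 23) ≠ 0 ∧
    (∀ j : ZMod 23, j ≠ 0 → ∃ e < 11, j = ((2 : ℕ) : ZMod 23) ^ e ∨ j = -((2 : ℕ) : ZMod 23) ^ e) := by
  decide

/-! ### the elements -/

theorem exists_prime_elt_M24 {q k px pg : ℕ} [Fact q.Prime]
    (h : (isAut px && isAut pg && Nat.beq (ppow px q) pone && ! Nat.beq (movedCount px) 0 &&
      Nat.beq (pmul pg px) (pmul (ppow px k) pg)) = true) :
    ∃ x : ↥M24, Rep (x : Equiv.Perm GolayPt) px ∧ orderOf x = q ∧ IsConj x (x ^ k) := by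
  simp only [Bool.and_eq_true, Bool.not_eq_true'] at h
  obtain ⟨⟨⟨⟨hx, hg⟩, hpow⟩, hne⟩, hc⟩ := h
  obtain ⟨x, hxr⟩ := exists_M24_elt hx
  obtain ⟨g, hgr⟩ := exists_M24_elt hg
  refine ⟨x, hxr, orderOf_eq_prime (pow_eq_one_of_ppow hxr hpow) fun e => ?_,
    isConj_iff.2 ⟨g, conj_of_pmul hgr hxr hc⟩⟩
  rw [Bool.eq_false_iff, ne_eq, Nat.beq_eq] at hne
  refine hne ?_
  rw [← card_moved hxr, Finset.card_eq_zero, Finset.filter_eq_empty_iff]
  intro y _
  rw [e]
  simp

/-- An element commuting with `x` is determined by the images of the listed points. -/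
theorem card_centralizer_le {H : Type*} [Group H] [Finite H] (ι : H →* ↥M24)
    (hι : Function.Injective ι) {x : H} {p q F : ℕ} {os rs : List ℕ}
    (hx : Rep ((ι x : ↥M24) : Equiv.Perm GolayPt) p) (hok : coverOK p q F os rs = true) {r f : ℕ}
    (hrs : ∀ j ∈ rs, j = r ∨ j = f ∨ ∀ h : H, ι h • pt j = pt j) (T : Finset (GolayPt × GolayPt))
    (hT : ∀ g : H, g * x = x * g → (ι g • pt r, ι g • pt f) ∈ T) :
    Nat.card (Subgroup.centralizer ({x} : Set H)) ≤ T.card := by
  classical
  rw [← Fintype.card_coe T, ← Nat.card_eq_fintype_card]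
  refine Nat.card_le_card_of_injective
    (fun g : Subgroup.centralizer ({x} : Set H) =>
      (⟨_, hT g.1 (Subgroup.mem_centralizer_singleton_iff.1 g.2)⟩ : T)) fun a b e => ?_
  have e1 : ι a.1 • pt r = ι b.1 • pt r ∧ ι a.1 • pt f = ι b.1 • pt f := by
    simpa using e
  refine Subtype.ext ?_
  have hc : ((b : H)⁻¹ * a) * x = x * ((b : H)⁻¹ * a) :=
    (((show Commute (b : H) x from Subgroup.mem_centralizer_singleton_iff.1 b.2).inv_left).mul_left
      (show Commute (a : H) x from Subgroup.mem_centralizer_singleton_iff.1 a.2)).eq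
  have h1 : ι ((b : H)⁻¹ * a) = 1 := by
    refine eq_one_of_cover hx hok (by rw [← map_mul, ← map_mul, hc]) fun j hj => ?_
    rcases hrs j hj with rfl | rfl | h
    · rw [map_mul, map_inv, mul_smul, e1.1, inv_smul_smul]
    · rw [map_mul, map_inv, mul_smul, e1.2, inv_smul_smul]
    · exact h _
  rw [← map_one ι] at h1
  exact (inv_mul_eq_one.1 (hι h1)).symm

theorem card_univ_point : (Finset.univ : Finset GolayPt).card = 24 := by decide +kernel

theorem fixed_card {σ : Equiv.Perm GolayPt} {p m : ℕ} (h : Rep σ p) (hm : movedCount p = m) :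
    (Finset.univ.filter fun y => σ y ≠ y).card = m ∧
      (Finset.univ.filter fun y => σ y = y).card = 24 - m := by
  refine ⟨(card_moved h).trans hm, ?_⟩
  have := Finset.card_filter_add_card_filter_not (s := (Finset.univ : Finset GolayPt))
    (fun y => σ y = y)
  rw [card_univ_point] at this
  rw [← hm, ← card_moved h]
  simp only [ne_eq] at this ⊢
  omega

/-- The element of order 23. -/
theorem exists_x23 : ∃ x : ↥M24, orderOf x = 23 ∧ IsConj x (x ^ 2) ∧
    Nat.card (Subgroup.normalizer (Subgroup.zpowers x : Set ↥M24)) ≤ 253 := by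
  classical
  have := Fact.mk (show Nat.Prime 23 by norm_num)
  obtain ⟨x, hx, hord, hconj⟩ := exists_prime_elt_M24 (q := 23) (k := 2)
    (px := 19048234455185246439225536509877620) (pg := 146259916437881707221041322864582784)
    (by decide +kernel)
  refine ⟨x, hord, hconj, ?_⟩
  have hok : coverOK 19048234455185246439225536509877620 23
      (Nat.xor 16777215 (Nat.shiftLeft 1 21)) [] [0] = true := by decide +kernel
  have hC := card_centralizer_le (MonoidHom.id ↥M24) (fun _ _ e => e) hx hok (r := 0) (f := 0)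
    (by simp) ((Finset.univ : Finset GolayPt).image fun y => (y, y))
    (fun g _ => Finset.mem_image.2 ⟨_, Finset.mem_univ _, rfl⟩)
  obtain ⟨c, k, n, hc, hc0, hk, hn, hN, hG⟩ := exists_normalizer_factors hord
    (by rw [M24_card]; norm_num) (cmax := 24) (hC.trans (Finset.card_image_le.trans card_univ_point.le))
  rw [hN]
  rw [M24_card] at hG
  have hk' : k ≤ 22 := Nat.le_of_dvd (by norm_num) hk
  obtain rfl : c = 1 := by omega
  interval_cases k <;> omega

/-- The element of order 11 of M24. -/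
theorem exists_x11 : ∃ x : ↥M24, orderOf x = 11 ∧ IsConj x (x ^ 2) ∧
    Nat.card (Subgroup.normalizer (Subgroup.zpowers x : Set ↥M24)) ≤ 110 := by
  classical
  have := Fact.mk (show Nat.Prime 11 by norm_num)
  obtain ⟨x, hx, hord, hconj⟩ := exists_prime_elt_M24 (q := 11) (k := 2)
    (px := 853578880230531206870209755574157781) (pg := 419783189053049315041144008537224801)
    (by decide +kernel)
  refine ⟨x, hord, hconj, ?_⟩
  have hok : coverOK 853578880230531206870209755574157781 11 12388621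
      [3951624, 10554382, 9968772, 593097, 11046145, 1182989, 855332, 7409024, 8654232, 2363013]
      [0] = true := by decide +kernel
  have hC := card_centralizer_le (MonoidHom.id ↥M24) (fun _ _ e => e) hx hok (r := 0) (f := 0)
    (by simp) ((Finset.univ : Finset GolayPt).image fun y => (y, y))
    (fun g _ => Finset.mem_image.2 ⟨_, Finset.mem_univ _, rfl⟩)
  obtain ⟨c, k, n, hc, hc0, hk, hn, hN, hG⟩ := exists_normalizer_factors hord
    (by rw [M24_card]; norm_num) (cmax := 24) (hC.trans (Finset.card_image_le.trans card_univ_point.le))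
  rw [hN]
  rw [M24_card] at hG
  have hk' : k ≤ 10 := Nat.le_of_dvd (by norm_num) hk
  have hc' : c ≤ 2 := by omega
  interval_cases c <;> interval_cases k <;> omega

/-- The element of order 7 of M24. -/
theorem exists_x7 : ∃ x : ↥M24, orderOf x = 7 ∧ IsConj x (x ^ 2) ∧
    Nat.card (Subgroup.normalizer (Subgroup.zpowers x : Set ↥M24)) ≤ 126 ∧
    ∃ t : ↥M24, orderOf t = 2 ∧ t * x = x * t := by
  classical
  have := Fact.mk (show Nat.Prime 7 by norm_num)
  obtain ⟨x, hx, hord, hconj⟩ := exists_prime_elt_M24 (q := 7) (k := 2)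
    (px := 832539180890522160093402719119966506) (pg := 469544896210215200763068718201812352)
    (by decide +kernel)
  refine ⟨x, hord, hconj, ?_, ?_⟩
  · have hok : coverOK 832539180890522160093402719119966506 7 173333
        [4343317, 2328324, 145176, 2263063, 702724, 8546577, 208020, 1182989, 4361520, 175681]
        [0, 17] = true := by decide +kernel
    obtain ⟨h21, h3⟩ := fixed_card hx (m := 21) (by decide +kernel)
    have hC := card_centralizer_le (MonoidHom.id ↥M24) (fun _ _ e => e) hx hok (r := 0) (f := 17)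
      (by simp) ((Finset.univ.filter fun y => (x : Equiv.Perm GolayPt) y ≠ y) ×ˢ
        (Finset.univ.filter fun y => (x : Equiv.Perm GolayPt) y = y))
      (fun g hg => Finset.mem_product.2 ⟨Finset.mem_filter.2 ⟨Finset.mem_univ _, ?_⟩,
        Finset.mem_filter.2 ⟨Finset.mem_univ _, ?_⟩⟩)
    · obtain ⟨c, k, n, hc, hc0, hk, hn, hN, hG⟩ := exists_normalizer_factors hord
        (by rw [M24_card]; norm_num) (cmax := 63)
        (hC.trans (by rw [Finset.card_product, h21, h3]))
      rw [hN]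
      rw [M24_card] at hG
      have hk' : k ≤ 6 := Nat.le_of_dvd (by norm_num) hk
      have hc' : c ≤ 9 := by omega
      interval_cases c <;> interval_cases k <;> omega
    · intro e
      have h1 : x • g • pt 0 = g • pt 0 := e
      rw [← mul_smul, ← hg, mul_smul, smul_left_cancel_iff] at h1
      have h2 : pget 832539180890522160093402719119966506 0 = ix (pt 0) := by
        rw [show (0 : ℕ) = ix (pt 0) by decide, hx]
        exact congrArg ix h1
      revert h2; decide +kernel
    · show x • g • pt 17 = g • pt 17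
      rw [← mul_smul, ← hg, mul_smul, fixes_of_pget hx (by norm_num) (by decide +kernel)]
  · obtain ⟨t, ht⟩ := exists_M24_elt (p := 62887575111239546263559934964861664) (by decide +kernel)
    refine ⟨t, orderOf_eq_prime (pow_eq_one_of_ppow ht (by decide +kernel)) fun e => ?_,
      Subtype.ext ?_⟩
    · have h : movedCount 62887575111239546263559934964861664 = 0 := by
        rw [← card_moved ht, Finset.card_eq_zero, Finset.filter_eq_empty_iff]
        intro y _; rw [e]; simp
      revert h; decide +kernel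
    · have e : pmul 62887575111239546263559934964861664 832539180890522160093402719119966506 =
          pmul 832539180890522160093402719119966506 62887575111239546263559934964861664 :=
        Nat.eq_of_beq_eq_true (by decide +kernel)
      exact (e ▸ ht.mul hx).unique (hx.mul ht)

theorem M22_fixes (g : ↥Spor.M22) (h : Spor.M22 ≤ M24) :
    Subgroup.inclusion h g • (none : GolayPt) = none ∧
      Subgroup.inclusion h g • (some 0 : GolayPt) = some 0 := ⟨g.2.1.2, g.2.2⟩

theorem exists_prime_elt_M22 {q k px pg : ℕ} [Fact q.Prime]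
    (h : (isAut px && isAut pg && Nat.beq (ppow px q) pone && ! Nat.beq (movedCount px) 0 &&
      Nat.beq (pmul pg px) (pmul (ppow px k) pg) && Nat.beq (pget px 23) 23 &&
      Nat.beq (pget px 0) 0 && Nat.beq (pget pg 23) 23 && Nat.beq (pget pg 0) 0) = true) :
    ∃ (h : Spor.M22 ≤ M24) (x : ↥Spor.M22),
      Rep ((Subgroup.inclusion h x : ↥M24) : Equiv.Perm GolayPt) px ∧ orderOf x = q ∧
      IsConj x (x ^ k) := by
  simp only [Bool.and_eq_true, Bool.not_eq_true', Nat.beq_eq] at h
  obtain ⟨⟨⟨⟨⟨⟨⟨⟨hx, hg⟩, hpow⟩, hne⟩, hc⟩, h1⟩, h2⟩, h3⟩, h4⟩ := h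
  obtain ⟨x, hxr⟩ := exists_M24_elt hx
  obtain ⟨g, hgr⟩ := exists_M24_elt hg
  have hmem : ∀ (u : ↥M24) (p : ℕ), Rep (u : Equiv.Perm GolayPt) p → pget p 23 = 23 →
      pget p 0 = 0 → (u : Equiv.Perm GolayPt) ∈ Spor.M22 := fun u p hr a b => by
    have e1 : u • pt 23 = pt 23 := fixes_of_pget hr (by norm_num) a
    have e2 : u • pt 0 = pt 0 := fixes_of_pget hr (by norm_num) b
    exact ⟨⟨u.2, e1⟩, e2⟩
  refine ⟨inf_le_left.trans inf_le_left, ⟨x, hmem x px hxr h1 h2⟩, hxr,
    orderOf_eq_prime (Subtype.ext ?_) fun e => ?_,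
    isConj_iff.2 ⟨⟨g, hmem g pg hgr h3 h4⟩, Subtype.ext ?_⟩⟩
  · show (x : Equiv.Perm GolayPt) ^ q = 1
    rw [← Subgroup.coe_pow, pow_eq_one_of_ppow hxr (by simpa using hpow), Subgroup.coe_one]
  · rw [Bool.eq_false_iff, ne_eq, Nat.beq_eq, ← card_moved hxr, Finset.card_eq_zero,
      Finset.filter_eq_empty_iff] at hne
    refine hne fun y _ => ?_
    rw [show (x : Equiv.Perm GolayPt) = 1 from congrArg Subtype.val e]
    simp
  · show (g : Equiv.Perm GolayPt) * x * (g : Equiv.Perm GolayPt)⁻¹ = (x : Equiv.Perm GolayPt) ^ k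
    rw [← Subgroup.coe_pow, ← Subgroup.coe_inv, ← Subgroup.coe_mul, ← Subgroup.coe_mul,
      conj_of_pmul hgr hxr (k := k) (by simpa using hc)]

theorem exists_y11 : ∃ x : ↥Spor.M22, orderOf x = 11 ∧ IsConj x (x ^ 3) ∧
    Nat.card (Subgroup.normalizer (Subgroup.zpowers x : Set ↥Spor.M22)) ≤ 55 := by
  classical
  have := Fact.mk (show Nat.Prime 11 by norm_num)
  obtain ⟨hle, x, hx, hord, hconj⟩ := exists_prime_elt_M22 (q := 11) (k := 3)
    (px := 980576354905211531308813159233951392) (pg := 982812926502446542483375833753400352)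
    (by decide +kernel)
  refine ⟨x, hord, hconj, ?_⟩
  have hok : coverOK 980576354905211531308813159233951392 11 16263287
      [4271202, 9968772, 10513600, 11046145, 11669008, 9178690, 12594948] [1, 23, 0] = true := by
    decide +kernel
  have hC := card_centralizer_le (Subgroup.inclusion hle) (Subgroup.inclusion_injective _) hx hok
    (r := 1) (f := 1) (fun j hj => ?_) ((Finset.univ : Finset GolayPt).image fun y => (y, y))
    (fun g _ => Finset.mem_image.2 ⟨_, Finset.mem_univ _, rfl⟩)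
  · obtain ⟨c, k, n, hc, hc0, hk, hn, hN, hG⟩ := exists_normalizer_factors hord
      (by rw [card_sporM22]; norm_num) (cmax := 24)
      (hC.trans (Finset.card_image_le.trans card_univ_point.le))
    rw [hN]
    rw [card_sporM22] at hG
    have hk' : k ≤ 10 := Nat.le_of_dvd (by norm_num) hk
    have hc' : c ≤ 2 := by omega
    interval_cases c <;> interval_cases k <;> omega
  · simp only [List.mem_cons, List.not_mem_nil, or_false] at hj
    rcases hj with rfl | rfl | rfl
    · exact Or.inl rfl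
    · exact Or.inr (Or.inr fun g => (M22_fixes g hle).1)
    · exact Or.inr (Or.inr fun g => (M22_fixes g hle).2)

theorem exists_y7 : ∃ x : ↥Spor.M22, orderOf x = 7 ∧ IsConj x (x ^ 2) ∧
    Nat.card (Subgroup.normalizer (Subgroup.zpowers x : Set ↥Spor.M22)) ≤ 21 := by
  classical
  have := Fact.mk (show Nat.Prime 7 by norm_num)
  obtain ⟨hle, x, hx, hord, hconj⟩ := exists_prime_elt_M22 (q := 7) (k := 2)
    (px := 963636508119918896843785411337304640) (pg := 980512820183673053517745274082149408)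
    (by decide +kernel)
  refine ⟨x, hord, hconj, ?_⟩
  have hok : coverOK 963636508119918896843785411337304640 7 8802327
      [346141, 8849458, 4216883, 153797, 8657159, 8546577, 1460739, 8407702, 8834052, 924689]
      [1, 23, 0] = true := by
    decide +kernel
  have hC := card_centralizer_le (Subgroup.inclusion hle) (Subgroup.inclusion_injective _) hx hok
    (r := 1) (f := 1) (fun j hj => ?_) ((Finset.univ : Finset GolayPt).image fun y => (y, y))
    (fun g _ => Finset.mem_image.2 ⟨_, Finset.mem_univ _, rfl⟩)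
  · obtain ⟨c, k, n, hc, hc0, hk, hn, hN, hG⟩ := exists_normalizer_factors hord
      (by rw [card_sporM22]; norm_num) (cmax := 24)
      (hC.trans (Finset.card_image_le.trans card_univ_point.le))
    rw [hN]
    rw [card_sporM22] at hG
    have hk' : k ≤ 6 := Nat.le_of_dvd (by norm_num) hk
    have hc' : c ≤ 3 := by omega
    interval_cases c <;> interval_cases k <;> omega
  · simp only [List.mem_cons, List.not_mem_nil, or_false] at hj
    rcases hj with rfl | rfl | rfl
    · exact Or.inl rfl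
    · exact Or.inr (Or.inr fun g => (M22_fixes g hle).1)
    · exact Or.inr (Or.inr fun g => (M22_fixes g hle).2)

/-! ### no defect zero -/

theorem degree_candidates {P : Prop} {d n e o : ℕ} (ho : ¬ 2 ∣ o) (hn : n = 2 ^ e * o)
    (hd : d ∣ n) (hv : d.factorization 2 = e) (hsq : d ^ 2 ≤ n) (b : ℕ)
    (hb : n < (2 ^ e * b) ^ 2) (h : ∀ m < b, m ∣ o → d = 2 ^ e * m → P) : P := by
  obtain ⟨m, rfl⟩ : 2 ^ e ∣ d := hv ▸ Nat.ordProj_dvd d 2
  refine h m ?_ ?_ rfl
  · by_contra hm
    have := Nat.pow_le_pow_left (Nat.mul_le_mul_left (2 ^ e) (not_lt.1 hm)) 2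
    omega
  · rw [hn] at hd
    exact Nat.dvd_of_mul_dvd_mul_left (by positivity) hd

theorem sum_two_sets {G : Type*} [Group G] [Fintype G] [DecidableEq G] (χ : IrrCharacter G)
    (hχ : (χ : G → ℂ) ≠ fun _ => 1) {d : ℕ} (hd : (χ : G → ℂ) 1 = d) {ε : ℝ} (hε : |ε| ≤ 1)
    {q₁ q₂ : ℕ} [Fact q₁.Prime] [Fact q₂.Prime] {x₁ x₂ : G} (h₁ : orderOf x₁ = q₁)
    (h₂ : orderOf x₂ = q₂) (hne : q₁ ≠ q₂) :
    (d : ℝ) ^ 2 + ε * d +
      ((∑ g ∈ PrimeBound.classSet q₁ x₁,
          (Complex.normSq ((χ : G → ℂ) g) + ε * ((χ : G → ℂ) g).re)) +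
        ∑ g ∈ PrimeBound.classSet q₂ x₂,
          (Complex.normSq ((χ : G → ℂ) g) + ε * ((χ : G → ℂ) g).re)) ≤ Nat.card G := by
  rw [← Finset.sum_union]
  · refine PrimeBound.sum_le_card χ hχ hd hε _ (fun h => ?_) fun g hg m hm => ?_
    · rcases Finset.mem_union.1 h with h | h
      · exact (Fact.out : q₁.Prime).one_lt.ne
          (orderOf_one.symm.trans (PrimeBound.orderOf_of_mem_classSet h₁ h))
      · exact (Fact.out : q₂.Prime).one_lt.ne
          (orderOf_one.symm.trans (PrimeBound.orderOf_of_mem_classSet h₂ h))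
    · rcases Finset.mem_union.1 hg with hg | hg
      · exact Finset.mem_union_left _ (PrimeBound.classSet_closed h₁ hg hm)
      · exact Finset.mem_union_right _ (PrimeBound.classSet_closed h₂ hg hm)
  · rw [Finset.disjoint_left]
    exact fun g h h' => hne ((PrimeBound.orderOf_of_mem_classSet h₁ h).symm.trans
      (PrimeBound.orderOf_of_mem_classSet h₂ h'))

theorem sum_three_sets {G : Type*} [Group G] [Fintype G] [DecidableEq G] (χ : IrrCharacter G)
    (hχ : (χ : G → ℂ) ≠ fun _ => 1) {d : ℕ} (hd : (χ : G → ℂ) 1 = d) {ε : ℝ} (hε : |ε| ≤ 1)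
    {q₁ q₂ q₃ : ℕ} [Fact q₁.Prime] [Fact q₂.Prime] [Fact q₃.Prime] {x₁ x₂ x₃ : G}
    (h₁ : orderOf x₁ = q₁) (h₂ : orderOf x₂ = q₂) (h₃ : orderOf x₃ = q₃) (h12 : q₁ ≠ q₂)
    (h13 : q₁ ≠ q₃) (h23 : q₂ ≠ q₃) :
    (d : ℝ) ^ 2 + ε * d +
      (((∑ g ∈ PrimeBound.classSet q₁ x₁,
          (Complex.normSq ((χ : G → ℂ) g) + ε * ((χ : G → ℂ) g).re)) +
        ∑ g ∈ PrimeBound.classSet q₂ x₂,
          (Complex.normSq ((χ : G → ℂ) g) + ε * ((χ : G → ℂ) g).re)) +
        ∑ g ∈ PrimeBound.classSet q₃ x₃,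
          (Complex.normSq ((χ : G → ℂ) g) + ε * ((χ : G → ℂ) g).re)) ≤ Nat.card G := by
  have o₁ : ∀ g ∈ PrimeBound.classSet q₁ x₁, orderOf g = q₁ := fun g hg =>
    PrimeBound.orderOf_of_mem_classSet h₁ hg
  have o₂ : ∀ g ∈ PrimeBound.classSet q₂ x₂, orderOf g = q₂ := fun g hg =>
    PrimeBound.orderOf_of_mem_classSet h₂ hg
  have o₃ : ∀ g ∈ PrimeBound.classSet q₃ x₃, orderOf g = q₃ := fun g hg =>
    PrimeBound.orderOf_of_mem_classSet h₃ hg
  rw [← Finset.sum_union (Finset.disjoint_left.2 fun g h h' => h12 ((o₁ g h).symm.trans (o₂ g h'))),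
    ← Finset.sum_union (Finset.disjoint_left.2 fun g h h' => by
      rcases Finset.mem_union.1 h with h | h
      · exact h13 ((o₁ g h).symm.trans (o₃ g h'))
      · exact h23 ((o₂ g h).symm.trans (o₃ g h')))]
  refine PrimeBound.sum_le_card χ hχ hd hε _ (fun h => ?_) fun g hg m hm => ?_
  · rcases Finset.mem_union.1 h with h | h
    · rcases Finset.mem_union.1 h with h | h
      · exact (Fact.out : q₁.Prime).one_lt.ne (orderOf_one.symm.trans (o₁ _ h))
      · exact (Fact.out : q₂.Prime).one_lt.ne (orderOf_one.symm.trans (o₂ _ h))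
    · exact (Fact.out : q₃.Prime).one_lt.ne (orderOf_one.symm.trans (o₃ _ h))
  · simp only [Finset.mem_union] at hg ⊢
    rcases hg with (hg | hg) | hg
    · exact Or.inl (Or.inl (PrimeBound.classSet_closed h₁ hg hm))
    · exact Or.inl (Or.inr (PrimeBound.classSet_closed h₂ hg hm))
    · exact Or.inr (PrimeBound.classSet_closed h₃ hg hm)

/-- M22 has no character of 2-defect zero. -/
theorem M22_no_defect_zero (χ : IrrCharacter ↥Spor.M22) :
    (charDegree (χ : ↥Spor.M22 → ℂ)).factorization 2 ≠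
      (Nat.card ↥Spor.M22).factorization 2 := by
  classical
  intro hv
  have := Fintype.ofFinite ↥Spor.M22
  have := Fact.mk (show Nat.Prime 11 by norm_num)
  have := Fact.mk (show Nat.Prime 7 by norm_num)
  obtain ⟨d, hd, hd0, hdvd⟩ := CharAction.degree_dvd_card χ
  rw [CharAction.charDegree_eq_of_apply_one hd, card_sporM22] at hv
  rw [card_sporM22] at hdvd
  have hv7 : (443520 : ℕ).factorization 2 = 7 := by
    rw [show (443520 : ℕ) = 2 ^ 7 * 3465 from rfl, Nat.factorization_mul (by norm_num) (by norm_num),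
      Finsupp.add_apply, Nat.factorization_eq_zero_of_not_dvd (show ¬ (2 ∣ 3465) by norm_num),
      Nat.Prime.factorization_pow Nat.prime_two]
    simp
  rw [hv7] at hv
  have hχ : (χ : ↥Spor.M22 → ℂ) ≠ fun _ => 1 := fun e => by
    rw [e] at hd
    have : d = 1 := by simp at hd; exact_mod_cast hd.symm
    rw [this] at hv
    simp at hv
  have hsq := PrimeBound.sum_le_card χ hχ hd (ε := 0) (by simp) ∅ (by simp) (by simp)
  rw [Finset.sum_empty, card_sporM22] at hsq
  have hsq' : d ^ 2 ≤ 443520 := by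
    have : (d : ℝ) ^ 2 ≤ (443520 : ℕ) := by linarith
    exact_mod_cast this
  refine degree_candidates (show ¬ 2 ∣ 3465 by norm_num) (show 443520 = 2 ^ 7 * 3465 from rfl)
    hdvd hv hsq' 6 (by norm_num) fun m hm hmdvd hdm => ?_
  obtain ⟨x, hx, hxc, hxN⟩ := exists_y11
  obtain ⟨y, hy, hyc, hyN⟩ := exists_y7
  have hsum := sum_two_sets χ hχ hd (ε := ((-1 : ℤ) : ℝ)) (by norm_num) hx hy (by norm_num)
  have hG : (Nat.card ↥Spor.M22 : ℝ) = 443520 := by rw [card_sporM22]; norm_num
  have key : ∀ B₁₁ B₇ : ℕ,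
      (∀ u β : ℤ, u % 11 = (2 * (d : ℤ)) % 11 → (u + β) % 2 = 0 →
        (B₁₁ : ℤ) ≤ u ^ 2 + (-2) * u + 11 * β ^ 2) →
      (∀ u β : ℤ, u % 7 = (2 * (d : ℤ)) % 7 → (u + β) % 2 = 0 →
        (B₇ : ℤ) ≤ u ^ 2 + (-2) * u + 7 * β ^ 2) →
      (443520 : ℝ) < (d : ℝ) ^ 2 - d + 20160 * B₁₁ + 31680 * B₇ → False := by
    intro B₁₁ B₇ hb11 hb7 hlt
    have e11 := PrimeBound.estimate (IsIrr.isCharacter χ.2) hd hx (a := 3) residue_11_3.1 hxc (h := 5)
      residue_11_3.2 rfl hxN (ε := -1) (B := B₁₁) fun n₀ A A' e _ _ => by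
        have e' : (d : ℤ) = n₀ + 5 * (A + A') := by exact_mod_cast e
        have h := hb11 (2 * (n₀ : ℤ) - A - A') ((A : ℤ) - A') (by omega) (by omega)
        push_cast
        linarith
    have e7 := PrimeBound.estimate (IsIrr.isCharacter χ.2) hd hy (a := 2) residue_7_2.1 hyc (h := 3)
      residue_7_2.2 rfl hyN (ε := -1) (B := B₇) fun n₀ A A' e _ _ => by
        have e' : (d : ℤ) = n₀ + 3 * (A + A') := by exact_mod_cast e
        have h := hb7 (2 * (n₀ : ℤ) - A - A') ((A : ℤ) - A') (by omega) (by omega)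
        push_cast
        linarith
    rw [hG] at e11 e7 hsum
    push_cast at e11 e7 hsum
    linarith
  have hm' : m = 1 ∨ m = 3 ∨ m = 5 := by
    interval_cases m <;> omega
  rcases hm' with rfl | rfl | rfl <;> (norm_num at hdm; subst hdm)
  · exact key 14 8
      (fun u β hu hp => PrimeBound.quad_le (K := 7) (r := 2 * 128 % 11) (by norm_num) (by norm_num)
        (by norm_num) (by decide +kernel) (by simpa using hu) hp)
      (fun u β hu hp => PrimeBound.quad_le (K := 7) (r := 2 * 128 % 7) (by norm_num) (by norm_num)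
        (by norm_num) (by decide +kernel) (by simpa using hu) hp)
      (by norm_num)
  · exact key 8 8
      (fun u β hu hp => PrimeBound.quad_le (K := 7) (r := 2 * 384 % 11) (by norm_num) (by norm_num)
        (by norm_num) (by decide +kernel) (by simpa using hu) hp)
      (fun u β hu hp => PrimeBound.quad_le (K := 7) (r := 2 * 384 % 7) (by norm_num) (by norm_num)
        (by norm_num) (by decide +kernel) (by simpa using hu) hp)
      (by norm_num)
  · exact key 8 10
      (fun u β hu hp => PrimeBound.quad_le (K := 7) (r := 2 * 640 % 11) (by norm_num) (by norm_num)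
        (by norm_num) (by decide +kernel) (by simpa using hu) hp)
      (fun u β hu hp => PrimeBound.quad_le (K := 7) (r := 2 * 640 % 7) (by norm_num) (by norm_num)
        (by norm_num) (by decide +kernel) (by simpa using hu) hp)
      (by norm_num)

theorem isIntegral_natCast_complex (n : ℕ) : IsIntegral ℤ (n : ℂ) :=
  map_natCast (algebraMap ℤ ℂ) n ▸ isIntegral_algebraMap

/-- At an element commuting with an involution a defect zero character has an even value. -/
theorem half_integral {χ : IrrCharacter ↥M24} {m : ℕ} (hd : (χ : ↥M24 → ℂ) 1 = ((1024 * m : ℕ) : ℂ))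
    (hm : 0 < m) {y t : ↥M24} (ht : orderOf t = 2) (hty : t * y = y * t) :
    IsIntegral ℤ ((χ : ↥M24 → ℂ) y / 2) := by
  have := Fintype.ofFinite ↥M24
  set C := Subgroup.centralizer ({y} : Set ↥M24) with hC
  have h2 : 2 ∣ Nat.card C := by
    have h : (⟨t, Subgroup.mem_centralizer_singleton_iff.2 hty⟩ : C) ^ 2 = 1 :=
      Subtype.ext (show t ^ 2 = 1 from ht ▸ pow_orderOf_eq_one t)
    have ho : orderOf (⟨t, Subgroup.mem_centralizer_singleton_iff.2 hty⟩ : C) = 2 :=
      orderOf_eq_prime h fun e => by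
        have : t = 1 := congrArg Subtype.val e
        rw [this, orderOf_one] at ht
        norm_num at ht
    exact ho ▸ orderOf_dvd_natCard _
  obtain ⟨c, hc⟩ := h2
  have hi := Blocks.isIntegral_centralChar χ y
  have hcard : (C.index : ℂ) * (2 * c) = 244823040 := by
    have h := C.index_mul_card
    rw [hc, M24_card] at h
    exact_mod_cast h
  have key : centralChar (χ : ↥M24 → ℂ) y * ((c * m : ℕ) : ℂ) =
      (239085 : ℂ) * ((χ : ↥M24 → ℂ) y / 2) := by
    rw [centralChar, hd, ← hC]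
    push_cast
    have hm0 : (m : ℂ) ≠ 0 := Nat.cast_ne_zero.2 hm.ne'
    field_simp
    linear_combination (χ : ↥M24 → ℂ) y * hcard
  have h1 : IsIntegral ℤ ((239085 : ℂ) * ((χ : ↥M24 → ℂ) y / 2)) :=
    key ▸ hi.mul (isIntegral_natCast_complex _)
  have hχy : IsIntegral ℤ ((χ : ↥M24 → ℂ) y) := IsChar.isIntegral (IsIrr.isCharacter χ.2) y
  have e : (χ : ↥M24 → ℂ) y / 2 =
      (239085 : ℂ) * ((χ : ↥M24 → ℂ) y / 2) - (119542 : ℂ) * (χ : ↥M24 → ℂ) y := by ring
  rw [e]
  exact h1.sub ((isIntegral_natCast_complex 119542).mul hχy)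

/-- M24 has no character of 2-defect zero. -/
theorem M24_no_defect_zero (χ : IrrCharacter ↥M24) :
    (charDegree (χ : ↥M24 → ℂ)).factorization 2 ≠ (Nat.card ↥M24).factorization 2 := by
  classical
  intro hv
  have := Fintype.ofFinite ↥M24
  have := Fact.mk (show Nat.Prime 23 by norm_num)
  have := Fact.mk (show Nat.Prime 11 by norm_num)
  have := Fact.mk (show Nat.Prime 7 by norm_num)
  obtain ⟨d, hd, hd0, hdvd⟩ := CharAction.degree_dvd_card χ
  rw [CharAction.charDegree_eq_of_apply_one hd, M24_card] at hv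
  rw [M24_card] at hdvd
  have hv10 : (244823040 : ℕ).factorization 2 = 10 := by
    rw [show (244823040 : ℕ) = 2 ^ 10 * 239085 from rfl,
      Nat.factorization_mul (by norm_num) (by norm_num), Finsupp.add_apply,
      Nat.factorization_eq_zero_of_not_dvd (show ¬ (2 ∣ 239085) by norm_num),
      Nat.Prime.factorization_pow Nat.prime_two]
    simp
  rw [hv10] at hv
  have hχ : (χ : ↥M24 → ℂ) ≠ fun _ => 1 := fun e => by
    rw [e] at hd
    have : d = 1 := by simp at hd; exact_mod_cast hd.symm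
    rw [this] at hv
    simp at hv
  have hsq := PrimeBound.sum_le_card χ hχ hd (ε := 0) (by simp) ∅ (by simp) (by simp)
  rw [Finset.sum_empty, M24_card] at hsq
  have hsq' : d ^ 2 ≤ 244823040 := by
    have : (d : ℝ) ^ 2 ≤ (244823040 : ℕ) := by linarith
    exact_mod_cast this
  refine degree_candidates (show ¬ 2 ∣ 239085 by norm_num)
    (show 244823040 = 2 ^ 10 * 239085 from rfl) hdvd hv hsq' 16 (by norm_num)
    fun m hm hmdvd hdm => ?_
  have hm0 : 0 < m := by
    rcases Nat.eq_zero_or_pos m with rfl | h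
    · simp at hmdvd
    · exact h
  obtain ⟨x, hx, hxc, hxN⟩ := exists_x23
  obtain ⟨y, hy, hyc, hyN⟩ := exists_x11
  obtain ⟨z, hz, hzc, hzN, t, ht, htz⟩ := exists_x7
  have heven : ∀ k : ℕ, IsIntegral ℤ ((χ : ↥M24 → ℂ) (z ^ k) / 2) := fun k =>
    half_integral (by rw [hd, hdm]; norm_num) hm0 ht
      ((show Commute t z from htz).pow_right k).eq
  have hsum := sum_three_sets χ hχ hd (ε := ((1 : ℤ) : ℝ)) (by norm_num) hx hy hz (by norm_num)
    (by norm_num) (by norm_num)
  have hG : (Nat.card ↥M24 : ℝ) = 244823040 := by rw [M24_card]; norm_num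
  have key : ∀ B₂₃ B₁₁ B₇ : ℕ,
      (∀ u β : ℤ, u % 23 = (2 * (d : ℤ)) % 23 → (u + β) % 2 = 0 →
        (B₂₃ : ℤ) ≤ u ^ 2 + 2 * u + 23 * β ^ 2) →
      (∀ v : ℤ, v % 11 = (d : ℤ) % 11 → (B₁₁ : ℤ) ≤ 4 * (v ^ 2 + v)) →
      (∀ v β : ℤ, v % 7 = (d : ℤ) % 7 → (v + β) % 2 = 0 →
        (B₇ : ℤ) ≤ 4 * (v ^ 2 + v + 7 * β ^ 2)) →
      (244823040 : ℝ) < (d : ℝ) ^ 2 + d + 5322240 * B₂₃ + 5564160 * B₁₁ + 2914560 * B₇ →
      False := by
    intro B₂₃ B₁₁ B₇ hb23 hb11 hb7 hlt
    have e23 := PrimeBound.estimate (IsIrr.isCharacter χ.2) hd hx (a := 2) residue_23_2.1 hxc (h := 11)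
      residue_23_2.2 rfl hxN (ε := 1) (B := B₂₃) fun n₀ A A' e _ _ => by
        have e' : (d : ℤ) = n₀ + 11 * (A + A') := by exact_mod_cast e
        have h := hb23 (2 * (n₀ : ℤ) - A - A') ((A : ℤ) - A') (by omega) (by omega)
        push_cast
        linarith
    have e11 := PrimeBound.estimate (IsIrr.isCharacter χ.2) hd hy (a := 2) residue_11_2.1 hyc (h := 5)
      residue_11_2.2.1 rfl hyN (ε := 1) (B := B₁₁) fun n₀ A A' e hr _ => by
        obtain rfl : A = A' := hr residue_11_2.2.2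
        have e' : (d : ℤ) = n₀ + 5 * (A + A) := by exact_mod_cast e
        have h := hb11 ((n₀ : ℤ) - A) (by omega)
        push_cast
        linarith
    have e7 := PrimeBound.estimate (IsIrr.isCharacter χ.2) hd hz (a := 2) residue_7_2.1 hzc (h := 3)
      residue_7_2.2 rfl hzN (ε := 1) (B := B₇) fun n₀ A A' e _ hev => by
        obtain ⟨⟨a₀, rfl⟩, ⟨a₁, rfl⟩, ⟨a₂, rfl⟩⟩ := hev heven
        have e' : (d : ℤ) = 2 * a₀ + 3 * (2 * a₁ + 2 * a₂) := by exact_mod_cast e
        have h := hb7 (2 * (a₀ : ℤ) - a₁ - a₂) ((a₁ : ℤ) - a₂) (by omega) (by omega)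
        push_cast
        linarith
    rw [hG] at e23 e11 e7 hsum
    push_cast at e23 e11 e7 hsum
    linarith
  have b23 : ∀ (B : ℕ) (r : ℤ), r = (2 * (d : ℤ)) % 23 → ((B : ℤ) ≤ 14 * (14 - |(2 : ℤ)|)) →
      (∀ u ∈ Finset.Icc (-14 : ℤ) 14, u % 23 = r → (B : ℤ) ≤ u ^ 2 + 2 * u + u % 2 * 23) →
      ∀ u β : ℤ, u % 23 = (2 * (d : ℤ)) % 23 → (u + β) % 2 = 0 →
        (B : ℤ) ≤ u ^ 2 + 2 * u + 23 * β ^ 2 := fun B r hr hout hc u β hu hp =>
    PrimeBound.quad_le (K := 14) (r := r) (by norm_num) (by norm_num) hout hc (hr ▸ hu) hp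
  have b11 : ∀ (B : ℕ) (r : ℤ), r = (d : ℤ) % 11 → ((B : ℤ) ≤ 4 * 42) →
      (∀ u ∈ Finset.Icc (-7 : ℤ) 7, u % 11 = r → (B : ℤ) ≤ 4 * (u ^ 2 + u)) →
      ∀ v : ℤ, v % 11 = (d : ℤ) % 11 → (B : ℤ) ≤ 4 * (v ^ 2 + v) := fun B r hr hout hc v hv => by
    rcases le_or_gt |v| 7 with h | h
    · exact hc v (Finset.mem_Icc.2 (abs_le.1 h)) (hr ▸ hv)
    · rcases lt_abs.1 h with h | h <;> nlinarith
  have b7 : ∀ (B : ℕ) (r : ℤ), r = (d : ℤ) % 7 → ((B : ℤ) ≤ 4 * 42) →
      (∀ u ∈ Finset.Icc (-7 : ℤ) 7, u % 7 = r → (B : ℤ) ≤ 4 * (u ^ 2 + u + u % 2 * 7)) →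
      ∀ v β : ℤ, v % 7 = (d : ℤ) % 7 → (v + β) % 2 = 0 →
        (B : ℤ) ≤ 4 * (v ^ 2 + v + 7 * β ^ 2) := fun B r hr hout hc v β hv hp => by
    rcases le_or_gt |v| 7 with h | h
    · have h1 := hc v (Finset.mem_Icc.2 (abs_le.1 h)) (hr ▸ hv)
      rcases Int.emod_two_eq_zero_or_one v with e | e
      · rw [e] at h1; nlinarith [sq_nonneg β]
      · rw [e] at h1
        have hβ : β ≠ 0 := fun h0 => by subst h0; omega
        nlinarith [Int.one_le_abs hβ, sq_abs β]
    · rcases lt_abs.1 h with h | h <;> nlinarith [sq_nonneg β]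
  have hm' : m = 1 ∨ m = 3 ∨ m = 5 ∨ m = 7 ∨ m = 9 ∨ m = 11 ∨ m = 15 := by
    interval_cases m <;> omega
  rcases hm' with rfl | rfl | rfl | rfl | rfl | rfl | rfl <;> (norm_num at hdm; subst hdm)
  · exact key 26 8 24 (b23 26 _ rfl (by norm_num) (by decide +kernel))
      (b11 8 _ rfl (by norm_num) (by decide +kernel)) (b7 24 _ rfl (by norm_num) (by decide +kernel))
      (by norm_num)
  · exact key 38 48 0 (b23 38 _ rfl (by norm_num) (by decide +kernel))
      (b11 48 _ rfl (by norm_num) (by decide +kernel)) (b7 0 _ rfl (by norm_num) (by decide +kernel))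
      (by norm_num)
  · exact key 58 120 0 (b23 58 _ rfl (by norm_num) (by decide +kernel))
      (b11 120 _ rfl (by norm_num) (by decide +kernel)) (b7 0 _ rfl (by norm_num) (by decide +kernel))
      (by norm_num)
  · exact key 86 48 0 (b23 86 _ rfl (by norm_num) (by decide +kernel))
      (b11 48 _ rfl (by norm_num) (by decide +kernel)) (b7 0 _ rfl (by norm_num) (by decide +kernel))
      (by norm_num)
  · exact key 122 8 0 (b23 122 _ rfl (by norm_num) (by decide +kernel))
      (b11 8 _ rfl (by norm_num) (by decide +kernel)) (b7 0 _ rfl (by norm_num) (by decide +kernel))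
      (by norm_num)
  · exact key 120 0 0 (b23 120 _ rfl (by norm_num) (by decide +kernel))
      (b11 0 _ rfl (by norm_num) (by decide +kernel)) (b7 0 _ rfl (by norm_num) (by decide +kernel))
      (by norm_num)
  · exact key 48 80 0 (b23 48 _ rfl (by norm_num) (by decide +kernel))
      (b11 80 _ rfl (by norm_num) (by decide +kernel)) (b7 0 _ rfl (by norm_num) (by decide +kernel))
      (by norm_num)

end CfsgLib.Sporadic
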