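import Cfsg.Agent.Lib.Sporadic.Census

/-!
# Coset leaders, the punctured code, further censuses
-/

set_option autoImplicit false

namespace CfsgLib.Sporadic

open Cfsg
open scoped Pointwise

theorem wordOf_sub_mem (a b : GolayPt → ZMod 2) :
    a - b ∈ golayCode ↔ inCode (maskOf (support₂ a) ^^^ maskOf (support₂ b)) = true := by
  rw [ZModModule.sub_eq_add, ← wordOf_maskOf a, ← wordOf_maskOf b, ← wordOf_xor, wordOf_maskOf,
    wordOf_maskOf, mem_golayCode, support₂_wordOf,
    maskOf_setOfMask (Nat.xor_lt_two_pow (maskOf_lt _) (maskOf_lt _))]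

theorem sub_mem_iff_symmDiff (a b : GolayPt → ZMod 2) :
    a - b ∈ golayCode ↔
      symmDiff (support₂ a) (support₂ b) ∈ supports (golayCode : Set (GolayPt → ZMod 2)) := by
  rw [wordOf_sub_mem, mem_supports_iff, maskOf_symmDiff]

theorem hammingNorm_eq_card (w : GolayPt → ZMod 2) : hammingNorm w = (support₂ w).card := rfl

theorem support₂_injective : Function.Injective (support₂ : (GolayPt → ZMod 2) → Finset GolayPt) :=
  fun a b h => by rw [← wordOf_maskOf a, ← wordOf_maskOf b, h]

theorem exists_coset_leader (w : GolayPt → ZMod 2) :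
    ∃ v : GolayPt → ZMod 2, hammingNorm v ≤ 4 ∧ w - v ∈ golayCode := by
  obtain ⟨m, hm, hp, he⟩ := exists_light (maskOf_lt (support₂ w))
  refine ⟨wordOf m, ?_, ?_⟩
  · rwa [hammingNorm_eq_card, support₂_wordOf, card_setOfMask]
  · rwa [wordOf_sub_mem, support₂_wordOf, maskOf_setOfMask hm]

theorem coset_pair {w u v : GolayPt → ZMod 2} (hu : w - u ∈ golayCode) (hv : w - v ∈ golayCode)
    (hu4 : hammingNorm u ≤ 4) (hv4 : hammingNorm v ≤ 4) (h : u ≠ v) :
    hammingNorm u = 4 ∧ hammingNorm v = 4 ∧ support₂ u ∪ support₂ v ∈ octads ∧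
      Disjoint (support₂ u) (support₂ v) := by
  have hs : symmDiff (support₂ u) (support₂ v) ∈ supports (golayCode : Set (GolayPt → ZMod 2)) := by
    rw [← sub_mem_iff_symmDiff]
    have := Submodule.sub_mem _ hv hu
    rwa [sub_sub_sub_cancel_left] at this
  have hne : (symmDiff (support₂ u) (support₂ v)).card ≠ 0 := fun e => h (support₂_injective (by
    rwa [Finset.card_eq_zero, Finset.symmDiff_eq_empty] at e))
  have hc := card_symmDiff (support₂ u) (support₂ v)
  rw [hammingNorm_eq_card] at hu4 hv4 ⊢
  rw [hammingNorm_eq_card]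
  have h8 := card_code_support hs
  have hd : Disjoint (support₂ u) (support₂ v) := by
    rw [Finset.disjoint_iff_inter_eq_empty, ← Finset.card_eq_zero]
    omega
  refine ⟨by omega, by omega, ?_, hd⟩
  rw [← Finset.sup_eq_union, ← hd.symmDiff_eq_sup]
  exact ⟨hs, by omega⟩

theorem coset_cases (w : GolayPt → ZMod 2) :
    ({v : GolayPt → ZMod 2 | hammingNorm v ≤ 4 ∧ w - v ∈ golayCode}.ncard = 1 ∧
      ∃ v : GolayPt → ZMod 2, hammingNorm v ≤ 3 ∧ w - v ∈ golayCode) ∨
    ({v : GolayPt → ZMod 2 | hammingNorm v ≤ 4 ∧ w - v ∈ golayCode}.ncard = 6 ∧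
      ∀ v : GolayPt → ZMod 2, w - v ∈ golayCode → hammingNorm v ≤ 4 → hammingNorm v = 4) := by
  by_cases h : ∃ v : GolayPt → ZMod 2, hammingNorm v ≤ 3 ∧ w - v ∈ golayCode
  · refine Or.inl ⟨?_, h⟩
    obtain ⟨v, hv, hw⟩ := h
    rw [Set.ncard_eq_one]
    refine ⟨v, Set.eq_singleton_iff_unique_mem.2 ⟨⟨by omega, hw⟩, fun u ⟨hu, hu'⟩ => ?_⟩⟩
    by_contra hne
    have := (coset_pair hw hu' (by omega) hu (Ne.symm hne)).1
    omega
  · have h4 : ∀ v : GolayPt → ZMod 2, w - v ∈ golayCode → hammingNorm v ≤ 4 → hammingNorm v = 4 :=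
      fun v h1 h2 => by
        by_contra h3
        exact h ⟨v, by omega, h1⟩
    refine Or.inr ⟨?_, h4⟩
    obtain ⟨v, hv, hw⟩ := exists_coset_leader w
    have hvc : (support₂ v).card = 4 := h4 v hw hv
    rw [← Set.ncard_image_of_injective _ support₂_injective, ← card_sextetOf hvc,
      ← Set.ncard_coe_finset]
    congr 1
    ext t
    constructor
    · rintro ⟨u, ⟨hu, hu'⟩, rfl⟩
      rw [Finset.mem_coe, sextetOf, Finset.mem_insert, Finset.mem_image]
      by_cases e : u = v
      · exact Or.inl (congrArg _ e)
      · obtain ⟨-, -, ho, hd⟩ := coset_pair hw hu' hv hu (Ne.symm e)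
        refine Or.inr ⟨support₂ v ∪ support₂ u, ?_, ?_⟩
        · rw [Finset.mem_filter, mem_octadFinset]; exact ⟨ho, Finset.subset_union_left⟩
        · rw [Finset.union_sdiff_left, Finset.sdiff_eq_self_iff_disjoint.2 hd.symm]
    · intro ht
      rw [Finset.mem_coe] at ht
      have hS := sextetOf_mem hvc
      refine ⟨wordOf (maskOf t), ⟨?_, ?_⟩, by rw [support₂_wordOf, setOfMask_maskOf]⟩
      · rw [hammingNorm_eq_card, support₂_wordOf, setOfMask_maskOf, hS.2.1 t ht]
      · have : v - wordOf (maskOf t) ∈ golayCode := by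
          rw [sub_mem_iff_symmDiff, support₂_wordOf, setOfMask_maskOf]
          by_cases e : support₂ v = t
          · rw [e, symmDiff_self, Finset.bot_eq_empty]
            rw [mem_supports_iff, maskOf_empty]; decide +kernel
          · have ho := hS.2.2 _ (mem_sextetOf_self _) t ht e
            have hd : Disjoint (support₂ v) t := by
              have := ho.2
              rw [Finset.card_union, hvc, hS.2.1 t ht] at this
              rw [Finset.disjoint_iff_inter_eq_empty, ← Finset.card_eq_zero]; omega
            rw [hd.symmDiff_eq_sup, Finset.sup_eq_union]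
            exact ho.1
        have := Submodule.add_mem _ hw this
        rwa [sub_add_sub_cancel] at this

/-! ### the punctured code -/

/-- The restriction of a word to the 23 residues. -/
def punct (w : GolayPt → ZMod 2) : ZMod 23 → ZMod 2 := fun x => w (some x)

theorem hammingNorm_punct (w : GolayPt → ZMod 2) :
    hammingNorm (punct w) = popc (Nat.land (maskOf (support₂ w)) 8388607) := by
  have h1 : setOfMask 8388607 = Finset.univ.map Function.Embedding.some := by decide +kernel
  show _ = popc (maskOf (support₂ w) &&& 8388607)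
  rw [← card_setOfMask, setOfMask_land, setOfMask_maskOf, h1, hammingNorm]
  rw [show support₂ w ∩ Finset.univ.map Function.Embedding.some =
    (Finset.univ.filter fun x : ZMod 23 => w (some x) ≠ 0).map Function.Embedding.some from ?_,
    Finset.card_map]
  · rfl
  · ext x
    cases x <;> simp [support₂]

theorem punct_inj {u v : GolayPt → ZMod 2} (hu : u ∈ golayCode) (hv : v ∈ golayCode)
    (h : punct u = punct v) : u = v := by
  have h0 := (sub_mem_iff_symmDiff u v).1 (Submodule.sub_mem _ hu hv)
  have hsub : symmDiff (support₂ u) (support₂ v) ⊆ {none} := by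
    intro x hx
    cases x with
    | none => simp
    | some x =>
      have e : u (some x) = v (some x) := congrFun h x
      simp [Finset.mem_symmDiff, support₂, e] at hx
  have := Finset.card_le_card hsub
  rw [Finset.card_singleton] at this
  refine support₂_injective (Finset.symmDiff_eq_empty.1 (Finset.card_eq_zero.1 ?_))
  rcases card_code_support h0 with e | e | e | e | e <;> omega

/-- The set of the punctured words. -/
def punctCode : Set (ZMod 23 → ZMod 2) :=
  {u | ∃ w ∈ golayCode, ∀ x : ZMod 23, u x = w (some x)}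

theorem punctCode_eq : punctCode = punct '' (golayCode : Set (GolayPt → ZMod 2)) := by
  ext u
  exact ⟨fun ⟨w, hw, e⟩ => ⟨w, hw, (funext e).symm⟩, fun ⟨w, hw, e⟩ => ⟨w, hw, fun x => (congrFun e x).symm⟩⟩

theorem punctCode_ncard (f : ℕ → Bool) (P : (ZMod 23 → ZMod 2) → Prop)
    (h : ∀ w ∈ golayCode, P (punct w) ↔ f (maskOf (support₂ w)) = true) :
    {u | u ∈ punctCode ∧ P u}.ncard = countLt 4096 (fun k => f (enc k)) := by
  rw [← ncard_eq_countLt (S := {s | inCode (maskOf s) = true ∧ f (maskOf s) = true}) f
    (fun s => Iff.rfl)]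
  have e1 : {u | u ∈ punctCode ∧ P u} =
      punct '' {w | w ∈ golayCode ∧ f (maskOf (support₂ w)) = true} := by
    ext u
    constructor
    · rintro ⟨hu, hP⟩
      rw [punctCode_eq] at hu
      obtain ⟨w, hw, rfl⟩ := hu
      exact ⟨w, ⟨hw, (h w hw).1 hP⟩, rfl⟩
    · rintro ⟨w, ⟨hw, hf⟩, rfl⟩
      exact ⟨⟨w, hw, fun _ => rfl⟩, (h w hw).2 hf⟩
  rw [e1, Set.InjOn.ncard_image fun a ha b hb => punct_inj ha.1 hb.1,
    ← Set.ncard_image_of_injective _ support₂_injective]
  congr 1
  ext s
  constructor
  · rintro ⟨w, ⟨hw, hf⟩, rfl⟩; exact ⟨mem_golayCode.1 hw, hf⟩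
  · rintro ⟨h1, h2⟩
    refine ⟨wordOf (maskOf s), ⟨?_, ?_⟩, by rw [support₂_wordOf, setOfMask_maskOf]⟩
    · rwa [mem_golayCode, support₂_wordOf, setOfMask_maskOf]
    · rwa [support₂_wordOf, setOfMask_maskOf]

theorem punctCode_min : forallLt 4096 (fun k => Nat.beq k 0 ||
    Nat.ble 7 (popc (Nat.land (enc k) 8388607))) = true := by decide +kernel

theorem punctCode_min_weight {u : ZMod 23 → ZMod 2} (hu : u ∈ punctCode) (h0 : u ≠ 0) :
    7 ≤ hammingNorm u := by
  rw [punctCode_eq] at hu
  obtain ⟨w, hw, rfl⟩ := hu
  rw [hammingNorm_punct]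
  obtain ⟨k, hk, e⟩ := mem_golayCode_iff.1 hw
  rw [← e, support₂_wordOf, maskOf_setOfMask (enc_lt hk)]
  have := forallLt_elim punctCode_min hk
  rw [Bool.or_eq_true, Nat.beq_eq, Nat.ble_eq] at this
  refine this.resolve_left fun hk0 => h0 ?_
  subst hk0
  rw [← e, show enc 0 = 0 from rfl, wordOf_zero]
  rfl

theorem punctCode_perfect (u : ZMod 23 → ZMod 2) :
    ∃! c : ZMod 23 → ZMod 2, c ∈ punctCode ∧ hammingDist u c ≤ 3 := by
  have hex : ∃ c, c ∈ punctCode ∧ hammingDist u c ≤ 3 := by
    let w : GolayPt → ZMod 2 := fun p => p.elim 0 u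
    obtain ⟨v, hv, hw⟩ := exists_coset_leader w
    have key : ∀ z : GolayPt → ZMod 2, w - z ∈ golayCode →
        hammingNorm (punct z) ≤ 3 → ∃ c, c ∈ punctCode ∧ hammingDist u c ≤ 3 := by
      intro z hz hn
      refine ⟨punct (w - z), ⟨w - z, hz, fun _ => rfl⟩, ?_⟩
      rw [hammingDist_eq_hammingNorm, show -u + punct (w - z) = -(punct z) by
        ext x
        simp [w, punct]
        exact (by decide : ∀ a b : ZMod 2, a + (a - b) = b) _ _]
      simpa [ZModModule.neg_eq_self] using hn
    have hle : ∀ z : GolayPt → ZMod 2, hammingNorm z ≤ 4 → none ∈ support₂ z →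
        hammingNorm (punct z) ≤ 3 := by
      intro z hz hn
      have hle' : (Finset.univ.filter fun x : ZMod 23 => z (some x) ≠ 0).map
          Function.Embedding.some ⊆ (support₂ z).erase none := by
        intro x hx
        simp only [Finset.mem_map, Finset.mem_filter, Finset.mem_univ, true_and] at hx
        obtain ⟨a, ha, rfl⟩ := hx
        simp [support₂, ha]
      have := Finset.card_le_card hle'
      rw [Finset.card_map, Finset.card_erase_of_mem hn] at this
      rw [hammingNorm_eq_card] at hz
      show (Finset.univ.filter fun x : ZMod 23 => z (some x) ≠ 0).card ≤ 3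
      omega
    have hle2 : ∀ z : GolayPt → ZMod 2, hammingNorm (punct z) ≤ hammingNorm z := by
      intro z
      show (Finset.univ.filter fun x : ZMod 23 => z (some x) ≠ 0).card ≤ _
      rw [← Finset.card_map Function.Embedding.some, hammingNorm_eq_card]
      refine Finset.card_le_card fun x hx => ?_
      simp only [Finset.mem_map, Finset.mem_filter, Finset.mem_univ, true_and] at hx
      obtain ⟨a, ha, rfl⟩ := hx
      simp [support₂, ha]
    by_cases h3 : hammingNorm v ≤ 3
    · exact key v hw ((hle2 v).trans h3)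
    · -- a tetrad of the coset passes through the extra point
      have hvc : (support₂ v).card = 4 := by rw [← hammingNorm_eq_card]; omega
      have hS := sextetOf_mem hvc
      obtain ⟨t, ht, hn⟩ : ∃ t ∈ sextetOf (support₂ v), none ∈ t := by
        by_contra hne
        push Not at hne
        have hdis : ∀ a ∈ sextetOf (support₂ v), ∀ b ∈ sextetOf (support₂ v), a ≠ b → Disjoint a b := by
          intro a ha b hb hab
          have := (hS.2.2 a ha b hb hab).2
          rw [Finset.card_union, hS.2.1 a ha, hS.2.1 b hb] at this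
          rw [Finset.disjoint_iff_inter_eq_empty, ← Finset.card_eq_zero]; omega
        have h24 : ((sextetOf (support₂ v)).biUnion fun a => a).card = 24 := by
          rw [Finset.card_biUnion fun a ha b hb hab => hdis a ha b hb hab,
            Finset.sum_congr rfl (g := fun _ => 4) fun a ha => hS.2.1 a ha, Finset.sum_const, hS.1]
          rfl
        have hsub : ((sextetOf (support₂ v)).biUnion fun a => a) ⊆ Finset.univ.erase none := by
          intro x hx
          simp only [Finset.mem_biUnion] at hx
          obtain ⟨a, ha, hxa⟩ := hx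
          rw [Finset.mem_erase]
          exact ⟨fun e => hne a ha (e ▸ hxa), Finset.mem_univ _⟩
        have := Finset.card_le_card hsub
        rw [h24, Finset.card_erase_of_mem (Finset.mem_univ _), Finset.card_univ,
          show Fintype.card GolayPt = 24 by decide] at this
        omega
      refine key (wordOf (maskOf t)) ?_ (hle _ ?_ (by rwa [support₂_wordOf, setOfMask_maskOf]))
      · by_cases e : support₂ v = t
        · rw [← e, wordOf_maskOf]; exact hw
        · have ho := hS.2.2 _ (mem_sextetOf_self _) t ht e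
          have : v - wordOf (maskOf t) ∈ golayCode := by
            rw [sub_mem_iff_symmDiff, support₂_wordOf, setOfMask_maskOf]
            have hd : Disjoint (support₂ v) t := by
              have := ho.2
              rw [Finset.card_union, hvc, hS.2.1 t ht] at this
              rw [Finset.disjoint_iff_inter_eq_empty, ← Finset.card_eq_zero]; omega
            rw [hd.symmDiff_eq_sup, Finset.sup_eq_union]
            exact ho.1
          have := Submodule.add_mem _ hw this
          rwa [sub_add_sub_cancel] at this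
      · rw [hammingNorm_eq_card, support₂_wordOf, setOfMask_maskOf, hS.2.1 t ht]
  obtain ⟨c, hc, hd⟩ := hex
  refine ⟨c, ⟨hc, hd⟩, fun c' ⟨hc', hd'⟩ => ?_⟩
  by_contra hne
  have hsub : c' - c ∈ punctCode := by
    rw [punctCode_eq] at hc hc' ⊢
    obtain ⟨a, ha, rfl⟩ := hc
    obtain ⟨b, hb, rfl⟩ := hc'
    exact ⟨b - a, Submodule.sub_mem _ hb ha, rfl⟩
  have h7 := punctCode_min_weight hsub (sub_ne_zero.2 hne)
  rw [ZModModule.sub_eq_add, ← ZModModule.neg_eq_self c', ← hammingDist_eq_hammingNorm] at h7
  have := hammingDist_triangle c' u c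
  rw [hammingDist_comm c' u] at this
  omega

/-! ### meets of octads, of dodecads -/

/-- The subsets of size two or four of the standard octad, each met exactly in the stated number. -/
noncomputable def meetCheck (s : ℕ) : Bool :=
  cond (Nat.beq (Nat.land s 8536111) s && Nat.beq (popc s) 2)
    (Nat.beq (countList (codeList 8) fun x => Nat.beq (Nat.land 8536111 x) s) 16)
    (cond (Nat.beq (Nat.land s 8536111) s && Nat.beq (popc s) 4)
      (Nat.beq (countList (codeList 8) fun x => Nat.beq (Nat.land 8536111 x) s) 4) true)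

/-- `f` holds at `acc ||| x` for every submask `x < 2 ^ n` of `m`. -/
noncomputable def allSub (f : ℕ → Bool) (m n : ℕ) : ℕ → Bool :=
  Nat.rec (motive := fun _ => ℕ → Bool) (fun acc => f acc)
    (fun i ih acc => ih acc &&
      cond (Nat.beq (bitAt m i) 1) (ih (Nat.lor acc (Nat.shiftLeft 1 i))) true) n

theorem allSub_spec (f : ℕ → Bool) (m n : ℕ) : ∀ acc, allSub f m n acc = true →
    ∀ x < 2 ^ n, x &&& m = x → f (acc ||| x) = true := by
  induction n with
  | zero =>
    intro acc h x hx _
    rw [Nat.lt_one_iff.1 (show x < 1 by simpa using hx), Nat.or_zero]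
    exact h
  | succ n ih =>
    intro acc h x hx hxm
    change (allSub f m n acc && cond (Nat.beq (bitAt m n) 1)
      (allSub f m n (acc ||| 1 <<< n)) true) = true at h
    rw [Bool.and_eq_true] at h
    by_cases hb : x.testBit n
    · have hm : m.testBit n = true := by
        have := congrArg (fun y => Nat.testBit y n) hxm
        simpa [hb] using this
      have h2 : allSub f m n (acc ||| 1 <<< n) = true := by
        have e : Nat.beq (bitAt m n) 1 = true := by rw [Nat.beq_eq, bitAt_eq, hm]; rfl
        simpa [e] using h.2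
      have hy : x ^^^ 1 <<< n < 2 ^ n := by
        refine Nat.lt_pow_two_of_testBit _ fun i hi => ?_
        rw [Nat.testBit_xor, Nat.one_shiftLeft, Nat.testBit_two_pow]
        rcases Nat.lt_or_eq_of_le hi with hi | rfl
        · rw [Nat.testBit_lt_two_pow (hx.trans_le (Nat.pow_le_pow_right (by norm_num) hi))]
          simp; omega
        · simp [hb]
      have hym : (x ^^^ 1 <<< n) &&& m = x ^^^ 1 <<< n := by
        rw [Nat.and_xor_distrib_right, hxm]
        congr 1
        refine Nat.eq_of_testBit_eq fun i => ?_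
        rw [Nat.testBit_and, Nat.one_shiftLeft, Nat.testBit_two_pow]
        by_cases e : n = i
        · subst e; simp [hm]
        · simp [e]
      have := ih _ h2 _ hy hym
      rwa [show acc ||| 1 <<< n ||| (x ^^^ 1 <<< n) = acc ||| x from ?_] at this
      refine Nat.eq_of_testBit_eq fun i => ?_
      simp only [Nat.testBit_or, Nat.testBit_xor, Nat.one_shiftLeft, Nat.testBit_two_pow]
      by_cases e : n = i
      · subst e; simp [hb]
      · simp [e]
    · refine ih acc h.1 x (Nat.lt_pow_two_of_testBit _ fun i hi => ?_) hxm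
      rcases Nat.lt_or_eq_of_le hi with hi | rfl
      · exact Nat.testBit_lt_two_pow (hx.trans_le (Nat.pow_le_pow_right (by norm_num) hi))
      · simpa using hb

/-- A property of all the masks inside `m`. -/
theorem allSub_maskOf {f : ℕ → Bool} {m : ℕ} (h : allSub f m 24 0 = true) {s : Finset GolayPt}
    (hs : maskOf s &&& m = maskOf s) : f (maskOf s) = true := by
  have := allSub_spec f m 24 0 h _ (maskOf_lt s) hs
  rwa [Nat.zero_or] at this

theorem meetCheck_elim {s : ℕ} (hsub : Nat.beq (Nat.land s 8536111) s = true) (h : meetCheck s = true) :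
    (popc s = 2 → countList (codeList 8) (fun x => Nat.beq (Nat.land 8536111 x) s) = 16) ∧
      (popc s = 4 → countList (codeList 8) (fun x => Nat.beq (Nat.land 8536111 x) s) = 4) := by
  unfold meetCheck at h
  rw [hsub, Bool.true_and, Bool.true_and] at h
  constructor <;> intro e <;> rw [e] at h
  · rw [show Nat.beq 2 2 = true from rfl, cond_true] at h
    exact Nat.eq_of_beq_eq_true h
  · rw [show Nat.beq 4 2 = false from rfl, cond_false, show Nat.beq 4 4 = true from rfl, cond_true] at h
    exact Nat.eq_of_beq_eq_true h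

end CfsgLib.Sporadic
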