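import Mathlib
import Cfsg.Prelude.Def_Sporadic_a

/-!
# Counting in Steiner systems
-/

set_option autoImplicit false

namespace CfsgLib.Sporadic.Design

open Finset

variable {α : Type*} [Fintype α] [DecidableEq α] {t k : ℕ} {B : Set (Finset α)}

open Classical in
/-- The blocks as a finset. -/
noncomputable def blocks (B : Set (Finset α)) : Finset (Finset α) := (Set.toFinite B).toFinset

omit [DecidableEq α] in
theorem mem_blocks {b : Finset α} : b ∈ blocks B ↔ b ∈ B := Set.Finite.mem_toFinset _

omit [DecidableEq α] in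
theorem card_blocks : (blocks B).card = B.ncard := (Set.ncard_eq_toFinset_card B).symm

/-- The blocks containing a set. -/
noncomputable def above (B : Set (Finset α)) (s : Finset α) : Finset (Finset α) :=
  (blocks B).filter (s ⊆ ·)

theorem mem_above {s b : Finset α} : b ∈ above B s ↔ b ∈ B ∧ s ⊆ b := by
  simp [above, mem_blocks]

omit [Fintype α] in
theorem block_eq_of_subset (hB : Cfsg.IsSteinerSystem t k B) {s b c : Finset α} (hs : t ≤ s.card)
    (hb : b ∈ B) (hc : c ∈ B) (hsb : s ⊆ b) (hsc : s ⊆ c) : b = c := by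
  obtain ⟨u, hu, huc⟩ := exists_subset_card_eq hs
  exact (hB.2 u huc).unique ⟨hb, hu.trans hsb⟩ ⟨hc, hu.trans hsc⟩

theorem card_above_mul (hB : Cfsg.IsSteinerSystem t k B) {s : Finset α} (hs : s.card ≤ t) :
    (above B s).card * (k - s.card).choose (t - s.card) =
      (Fintype.card α - s.card).choose (t - s.card) := by
  classical
  have hT : sᶜ.powersetCard (t - s.card) =
      (above B s).biUnion fun b => (b \ s).powersetCard (t - s.card) := by
    ext u
    simp only [mem_powersetCard, mem_biUnion, mem_above]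
    constructor
    · rintro ⟨hu, huc⟩
      have hd : Disjoint s u := disjoint_left.2 fun x hx hxu => mem_compl.1 (hu hxu) hx
      obtain ⟨b, ⟨hb, hsub⟩, -⟩ := hB.2 (s ∪ u) (by rw [card_union_of_disjoint hd]; omega)
      exact ⟨b, ⟨hb, subset_union_left.trans hsub⟩, subset_sdiff.2 ⟨subset_union_right.trans hsub, hd.symm⟩, huc⟩
    · rintro ⟨b, -, hu, huc⟩
      exact ⟨fun x hx => mem_compl.2 (mem_sdiff.1 (hu hx)).2, huc⟩
  have hcard := congrArg Finset.card hT
  rw [card_powersetCard, card_compl, card_biUnion, sum_congr rfl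
    (g := fun _ => (k - s.card).choose (t - s.card)) fun b hb => by
      rw [card_powersetCard, card_sdiff_of_subset (mem_above.1 hb).2, hB.1 b (mem_above.1 hb).1],
    sum_const, smul_eq_mul] at hcard
  · exact hcard.symm
  · intro b hb c hc hbc
    simp only [Function.onFun, disjoint_left, mem_powersetCard]
    rintro u ⟨hu, huc⟩ ⟨hu', -⟩
    rw [mem_coe, mem_above] at hb hc
    have hd : Disjoint s u := disjoint_left.2 fun x hx hxu => (mem_sdiff.1 (hu hxu)).2 hx
    exact hbc (block_eq_of_subset hB (s := s ∪ u) (by rw [card_union_of_disjoint hd]; omega) hb.1 hc.1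
      (union_subset hb.2 (hu.trans sdiff_subset)) (union_subset hc.2 (hu'.trans sdiff_subset)))

theorem card_above_le (hB : Cfsg.IsSteinerSystem t k B) {lam : ℕ} {s : Finset α} (hs : s.card ≤ t)
    (h : lam * (k - s.card).choose (t - s.card) = (Fintype.card α - s.card).choose (t - s.card))
    (hpos : 0 < (k - s.card).choose (t - s.card)) : (above B s).card = lam :=
  Nat.eq_of_mul_eq_mul_right hpos ((card_above_mul hB hs).trans h.symm)

/-- The blocks meeting `b` exactly in `s`. -/
noncomputable def meet (B : Set (Finset α)) (b s : Finset α) : Finset (Finset α) :=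
  (blocks B).filter (b ∩ · = s)

theorem mem_meet {b s c : Finset α} : c ∈ meet B b s ↔ c ∈ B ∧ b ∩ c = s := by
  simp [meet, mem_blocks]

theorem meet_ncard (b s : Finset α) : {c : Finset α | c ∈ B ∧ b ∩ c = s}.ncard = (meet B b s).card := by
  rw [← Set.ncard_coe_finset]
  congr 1
  ext c; simp [mem_meet]

/-- The number of blocks above a subset of size `i` of a block, as a function of `i`. -/
def lamFun (v t k i : ℕ) : ℕ := if i ≤ t then (v - i).choose (t - i) / (k - i).choose (t - i) else 1

theorem card_above_of_subset_block (hB : Cfsg.IsSteinerSystem t k B) (htk : t ≤ k) {b s : Finset α}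
    (hb : b ∈ B) (hs : s ⊆ b) : (above B s).card = lamFun (Fintype.card α) t k s.card := by
  unfold lamFun
  split
  · rename_i h
    have hpos : 0 < (k - s.card).choose (t - s.card) := Nat.choose_pos (by omega)
    rw [← card_above_mul hB h, Nat.mul_div_cancel _ hpos]
  · rename_i h
    rw [card_eq_one]
    refine ⟨b, eq_singleton_iff_unique_mem.2 ⟨mem_above.2 ⟨hb, hs⟩, fun c hc => ?_⟩⟩
    exact block_eq_of_subset hB (by omega) (mem_above.1 hc).1 hb (mem_above.1 hc).2 hs

/-- The intersection numbers: if `G` solves the triangular system, it counts the meets. -/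
theorem card_meet (hB : Cfsg.IsSteinerSystem t k B) (htk : t ≤ k) (G : ℕ → ℕ)
    (hG : ∀ i ≤ k, (∑ j ∈ range (k - i + 1), (k - i).choose j * G (i + j)) =
      lamFun (Fintype.card α) t k i)
    {b s : Finset α} (hb : b ∈ B) (hs : s ⊆ b) : (meet B b s).card = G s.card := by
  classical
  induction hn : k - s.card using Nat.strong_induction_on generalizing s with
  | _ n ih =>
    have hsk : s.card ≤ k := hB.1 b hb ▸ card_le_card hs
    have hsplit : above B s = (b \ s).powerset.biUnion fun u => meet B b (s ∪ u) := by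
      ext c
      simp only [mem_above, mem_biUnion, mem_powerset, mem_meet]
      constructor
      · rintro ⟨hc, hsc⟩
        refine ⟨(b ∩ c) \ s, sdiff_subset_sdiff inter_subset_left subset_rfl, hc, ?_⟩
        rw [union_sdiff_of_subset (subset_inter hs hsc)]
      · rintro ⟨u, -, hc, e⟩
        exact ⟨hc, (subset_union_left.trans e.ge).trans inter_subset_right⟩
    have hcard := congrArg Finset.card hsplit
    rw [card_above_of_subset_block hB htk hb hs, card_biUnion] at hcard
    · rw [← hG _ hsk] at hcard
      have hbs : (b \ s).card = k - s.card := by rw [card_sdiff_of_subset hs, hB.1 b hb]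
      have hrest : ∀ u ∈ (b \ s).powerset.erase ∅, (meet B b (s ∪ u)).card = G (s.card + u.card) := by
        intro u hu
        rw [mem_erase, mem_powerset] at hu
        have hd : Disjoint s u := disjoint_left.2 fun x hx hxu => (mem_sdiff.1 (hu.2 hxu)).2 hx
        have hc : (s ∪ u).card = s.card + u.card := card_union_of_disjoint hd
        have hup : 0 < u.card := card_pos.2 (nonempty_iff_ne_empty.2 hu.1)
        have hsub : s ∪ u ⊆ b := union_subset hs (hu.2.trans sdiff_subset)
        have : (s ∪ u).card ≤ k := hB.1 b hb ▸ card_le_card hsub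
        rw [ih (k - (s ∪ u).card) (by omega) hsub rfl, hc]
      have hmem : (∅ : Finset α) ∈ (b \ s).powerset := empty_mem_powerset _
      rw [← add_sum_erase _ _ hmem, sum_congr rfl hrest, union_empty] at hcard
      have hall : ∑ u ∈ (b \ s).powerset, G (s.card + u.card) =
          ∑ j ∈ range (k - s.card + 1), (k - s.card).choose j * G (s.card + j) := by
        rw [sum_powerset_apply_card (fun j => G (s.card + j)), hbs]
        exact sum_congr rfl fun j _ => by rw [smul_eq_mul]
      rw [← add_sum_erase _ _ hmem, card_empty, Nat.add_zero] at hall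
      omega
    · intro u hu v hv huv
      simp only [Function.onFun, disjoint_left, mem_meet]
      rintro c ⟨-, e⟩ ⟨-, e'⟩
      rw [mem_coe, mem_powerset] at hu hv
      apply huv
      have key : ∀ w : Finset α, w ⊆ b \ s → (s ∪ w) \ s = w := fun w hw => by
        rw [union_sdiff_left, Finset.sdiff_eq_self_iff_disjoint]
        exact disjoint_left.2 fun x hx hxs => (mem_sdiff.1 (hw hx)).2 hxs
      rw [← key u hu, ← key v hv, ← e, ← e']

omit [Fintype α] in
theorem card_inter_lt (hB : Cfsg.IsSteinerSystem t k B) {b c : Finset α} (hb : b ∈ B) (hc : c ∈ B)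
    (hbc : b ≠ c) : (b ∩ c).card < t := by
  by_contra h
  exact hbc (block_eq_of_subset hB (s := b ∩ c) (by omega) hb hc inter_subset_left inter_subset_right)

theorem meet_pos {b c : Finset α} (hc : c ∈ B) : 0 < (meet B b (b ∩ c)).card :=
  card_pos.2 ⟨c, mem_meet.2 ⟨hc, rfl⟩⟩

/-- The intersection numbers of `S(5,8,24)`. -/
def g24 (i : ℕ) : ℕ := [30, 0, 16, 0, 4, 0, 0, 0, 1].getD i 0
/-- The intersection numbers of `S(4,7,23)`. -/
def g23 (i : ℕ) : ℕ := [0, 16, 0, 4, 0, 0, 0, 1].getD i 0
/-- The intersection numbers of `S(3,6,22)`. -/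
def g22 (i : ℕ) : ℕ := [16, 0, 4, 0, 0, 0, 1].getD i 0
/-- The intersection numbers of `S(5,6,12)`. -/
def g12 (i : ℕ) : ℕ := [1, 0, 3, 2, 3, 0, 1].getD i 0

theorem card_meet24 (hα : Fintype.card α = 24) (hB : Cfsg.IsSteinerSystem 5 8 B) {b s : Finset α}
    (hb : b ∈ B) (hs : s ⊆ b) : (meet B b s).card = g24 s.card :=
  card_meet hB (by norm_num) g24 (by rw [hα]; decide) hb hs

theorem card_meet23 (hα : Fintype.card α = 23) (hB : Cfsg.IsSteinerSystem 4 7 B) {b s : Finset α}
    (hb : b ∈ B) (hs : s ⊆ b) : (meet B b s).card = g23 s.card :=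
  card_meet hB (by norm_num) g23 (by rw [hα]; decide) hb hs

theorem card_meet22 (hα : Fintype.card α = 22) (hB : Cfsg.IsSteinerSystem 3 6 B) {b s : Finset α}
    (hb : b ∈ B) (hs : s ⊆ b) : (meet B b s).card = g22 s.card :=
  card_meet hB (by norm_num) g22 (by rw [hα]; decide) hb hs

theorem card_meet12 (hα : Fintype.card α = 12) (hB : Cfsg.IsSteinerSystem 5 6 B) {b s : Finset α}
    (hb : b ∈ B) (hs : s ⊆ b) : (meet B b s).card = g12 s.card :=
  card_meet hB (by norm_num) g12 (by rw [hα]; decide) hb hs

theorem inter24 (hα : Fintype.card α = 24) (hB : Cfsg.IsSteinerSystem 5 8 B) {b c : Finset α}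
    (hb : b ∈ B) (hc : c ∈ B) (hbc : b ≠ c) :
    (b ∩ c).card = 0 ∨ (b ∩ c).card = 2 ∨ (b ∩ c).card = 4 := by
  have h1 := card_inter_lt hB hb hc hbc
  have h2 := meet_pos (b := b) hc
  rw [card_meet24 hα hB hb inter_subset_left] at h2
  revert h1 h2
  generalize (b ∩ c).card = n
  intro h1 h2
  interval_cases n <;> simp_all [g24]

theorem inter23 (hα : Fintype.card α = 23) (hB : Cfsg.IsSteinerSystem 4 7 B) {b c : Finset α}
    (hb : b ∈ B) (hc : c ∈ B) (hbc : b ≠ c) : (b ∩ c).card = 1 ∨ (b ∩ c).card = 3 := by
  have h1 := card_inter_lt hB hb hc hbc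
  have h2 := meet_pos (b := b) hc
  rw [card_meet23 hα hB hb inter_subset_left] at h2
  revert h1 h2
  generalize (b ∩ c).card = n
  intro h1 h2
  interval_cases n <;> simp_all [g23]

theorem inter22 (hα : Fintype.card α = 22) (hB : Cfsg.IsSteinerSystem 3 6 B) {b c : Finset α}
    (hb : b ∈ B) (hc : c ∈ B) (hbc : b ≠ c) : (b ∩ c).card = 0 ∨ (b ∩ c).card = 2 := by
  have h1 := card_inter_lt hB hb hc hbc
  have h2 := meet_pos (b := b) hc
  rw [card_meet22 hα hB hb inter_subset_left] at h2
  revert h1 h2
  generalize (b ∩ c).card = n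
  intro h1 h2
  interval_cases n <;> simp_all [g22]

theorem inter12 (hα : Fintype.card α = 12) (hB : Cfsg.IsSteinerSystem 5 6 B) {b c : Finset α}
    (hb : b ∈ B) (hc : c ∈ B) (hbc : b ≠ c) :
    (b ∩ c).card = 0 ∨ (b ∩ c).card = 2 ∨ (b ∩ c).card = 3 ∨ (b ∩ c).card = 4 := by
  have h1 := card_inter_lt hB hb hc hbc
  have h2 := meet_pos (b := b) hc
  rw [card_meet12 hα hB hb inter_subset_left] at h2
  revert h1 h2
  generalize (b ∩ c).card = n
  intro h1 h2
  interval_cases n <;> simp_all [g12]

theorem compl12 (hα : Fintype.card α = 12) (hB : Cfsg.IsSteinerSystem 5 6 B) {b : Finset α}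
    (hb : b ∈ B) : bᶜ ∈ B := by
  have h := card_meet12 hα hB hb (empty_subset b)
  obtain ⟨c, hc⟩ := card_pos.1 (h.symm ▸ (by simp [g12]) : 0 < (meet B b ∅).card)
  obtain ⟨hcB, hd⟩ := mem_meet.1 hc
  have : c = bᶜ := by
    refine eq_of_subset_of_card_le (fun x hx => mem_compl.2 fun hxb => ?_)
      (by rw [card_compl, hα, hB.1 b hb, hB.1 c hcB])
    have : x ∈ b ∩ c := mem_inter.2 ⟨hxb, hx⟩
    rw [hd] at this
    exact Finset.notMem_empty x this
  exact this ▸ hcB

/-! ### the block graphs of `S(3,6,22)` -/

theorem card_above22 (hα : Fintype.card α = 22) (hB : Cfsg.IsSteinerSystem 3 6 B) {s : Finset α}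
    (hs : s.card ≤ 3) : (above B s).card = [77, 21, 5, 1].getD s.card 0 := by
  refine card_above_le hB hs ?_ (Nat.choose_pos (by omega))
  rw [hα]
  interval_cases s.card <;> decide

/-- Through a point outside a block there are six blocks disjoint from it. -/
theorem six_disjoint_through (hα : Fintype.card α = 22) (hB : Cfsg.IsSteinerSystem 3 6 B)
    {b : Finset α} (hb : b ∈ B) {p : α} (hp : p ∉ b) :
    ((above B {p}).filter (Disjoint b ·)).card = 6 := by
  classical
  have hsum : ∑ d ∈ above B {p}, ((b ∩ d).powersetCard 2).card = 15 := by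
    rw [← card_sigma]
    have h15 : (b.powersetCard 2).card = 15 := by rw [card_powersetCard, hB.1 b hb]; rfl
    rw [← h15]
    refine card_bij (fun x _ => x.2) (fun x hx => ?_) (fun x hx y hy e => ?_) (fun u hu => ?_)
    · simp only [mem_sigma, mem_powersetCard] at hx ⊢
      exact ⟨hx.2.1.trans inter_subset_left, hx.2.2⟩
    · obtain ⟨d, u⟩ := x
      obtain ⟨d', u'⟩ := y
      simp only [mem_sigma, mem_powersetCard, mem_above, singleton_subset_iff] at hx hy
      dsimp only at e
      subst e
      have hpu : p ∉ u := fun h => hp (mem_inter.1 (hx.2.1 h)).1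
      have : d = d' := block_eq_of_subset hB (s := insert p u)
        (by rw [card_insert_of_notMem hpu, hx.2.2]) hx.1.1 hy.1.1
        (insert_subset hx.1.2 (hx.2.1.trans inter_subset_right))
        (insert_subset hy.1.2 (hy.2.1.trans inter_subset_right))
      subst this
      rfl
    · rw [mem_powersetCard] at hu
      have hpu : p ∉ u := fun h => hp (hu.1 h)
      obtain ⟨d, ⟨hd, hsub⟩, -⟩ := hB.2 (insert p u) (by rw [card_insert_of_notMem hpu, hu.2])
      refine ⟨⟨d, u⟩, ?_, rfl⟩
      simp only [mem_sigma, mem_powersetCard, mem_above, singleton_subset_iff]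
      exact ⟨⟨hd, hsub (mem_insert_self _ _)⟩,
        subset_inter hu.1 ((subset_insert _ _).trans hsub), hu.2⟩
  have hcase : ∀ d ∈ above B {p}, ((b ∩ d).powersetCard 2).card = if Disjoint b d then 0 else 1 := by
    intro d hd
    rw [mem_above, singleton_subset_iff] at hd
    have hne : b ≠ d := fun e => hp (e ▸ hd.2)
    rw [card_powersetCard]
    split
    · rename_i h
      rw [disjoint_iff_inter_eq_empty] at h
      simp [h]
    · rename_i h
      rw [disjoint_iff_inter_eq_empty, ← card_eq_zero] at h
      rcases inter22 hα hB hb hd.1 hne with e | e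
      · exact absurd e h
      · rw [e]; rfl
  rw [sum_congr rfl hcase, sum_ite, sum_const_zero, zero_add, sum_const, smul_eq_mul, mul_one] at hsum
  have h21 : (above B ({p} : Finset α)).card = 21 := by
    rw [card_above22 hα hB (by simp)]; simp
  have := card_filter_add_card_filter_not (s := above B {p}) (fun d => Disjoint b d)
  omega

/-- The blocks disjoint from `b`. -/
noncomputable def apart (B : Set (Finset α)) (b : Finset α) : Finset (Finset α) := meet B b ∅

theorem mem_apart {b d : Finset α} : d ∈ apart B b ↔ d ∈ B ∧ Disjoint b d := by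
  rw [apart, mem_meet, disjoint_iff_inter_eq_empty]

theorem apart_incidences (hα : Fintype.card α = 22) (hB : Cfsg.IsSteinerSystem 3 6 B)
    {b : Finset α} (hb : b ∈ B) (c : Finset α) :
    ∑ d ∈ apart B b, (c ∩ d).card = 6 * (c \ b).card := by
  classical
  have : ∀ d ∈ apart B b, (c ∩ d).card = ∑ p ∈ c \ b, if p ∈ d then 1 else 0 := fun d hd => by
    rw [← card_filter]
    congr 1
    ext p
    simp only [mem_inter, mem_filter, mem_sdiff]
    exact ⟨fun ⟨h1, h2⟩ => ⟨⟨h1, fun h => disjoint_left.1 (mem_apart.1 hd).2 h h2⟩, h2⟩,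
      fun ⟨⟨h1, _⟩, h2⟩ => ⟨h1, h2⟩⟩
  rw [sum_congr rfl this, sum_comm, sum_congr rfl (g := fun _ => 6) fun p hp => ?_, sum_const,
    smul_eq_mul, mul_comm]
  rw [← card_filter, ← six_disjoint_through hα hB hb (mem_sdiff.1 hp).2]
  congr 1
  ext d
  simp only [mem_filter, mem_apart, mem_above, singleton_subset_iff]
  tauto

/-- The blocks disjoint from two given blocks. -/
theorem card_apart_both (hα : Fintype.card α = 22) (hB : Cfsg.IsSteinerSystem 3 6 B)
    {b c : Finset α} (hb : b ∈ B) (hc : c ∈ B) (hbc : b ≠ c) :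
    ((apart B b).filter (Disjoint c ·)).card = if Disjoint b c then 0 else 4 := by
  classical
  have h16 : (apart B b).card = 16 := by
    rw [apart, card_meet22 hα hB hb (empty_subset b), card_empty]; rfl
  have hsum := apart_incidences hα hB hb c
  rw [← sum_filter_add_sum_filter_not (apart B b) (fun d => Disjoint c d)] at hsum
  rw [sum_eq_zero (s := (apart B b).filter fun d => Disjoint c d) fun d hd => by
    rw [card_eq_zero]; exact disjoint_iff_inter_eq_empty.1 (mem_filter.1 hd).2, zero_add] at hsum
  have hfc := card_filter_add_card_filter_not (s := apart B b) (fun d => Disjoint c d)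
  have hmeet : ∀ d ∈ ((apart B b).filter fun d => ¬ Disjoint c d), c ≠ d → (c ∩ d).card = 2 := by
    intro d hd hcd
    obtain ⟨hd, hn⟩ := mem_filter.1 hd
    rcases inter22 hα hB hc (mem_apart.1 hd).1 hcd with e | e
    · exact absurd (disjoint_iff_inter_eq_empty.2 (card_eq_zero.1 e)) hn
    · exact e
  split
  · rename_i hd
    have hcm : c ∈ (apart B b).filter fun d => ¬ Disjoint c d := by
      refine mem_filter.2 ⟨mem_apart.2 ⟨hc, hd⟩, fun h => ?_⟩
      have := hB.1 c hc
      simp [disjoint_self.1 h] at this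
    rw [← add_sum_erase _ _ hcm, inter_self, hB.1 c hc,
      sum_congr rfl (g := fun _ => 2) fun d hd' => hmeet d (mem_of_mem_erase hd')
        (ne_of_mem_erase hd').symm,
      sum_const, smul_eq_mul, card_erase_of_mem hcm, card_sdiff, 
      disjoint_iff_inter_eq_empty.1 hd, card_empty, hB.1 c hc] at hsum
    omega
  · rename_i hd
    have h2 : (b ∩ c).card = 2 := by
      rcases inter22 hα hB hb hc hbc with e | e
      · exact absurd (disjoint_iff_inter_eq_empty.2 (card_eq_zero.1 e)) hd
      · exact e
    rw [sum_congr rfl (g := fun _ => 2) fun d hd' => hmeet d hd' fun e => hd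
        (by subst e; exact (mem_apart.1 (mem_filter.1 hd').1).2),
      sum_const, smul_eq_mul, card_sdiff, hB.1 c hc, h2] at hsum
    omega

end CfsgLib.Sporadic.Design
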