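import Cfsg.Agent.Lib.Sporadic.SmallSets

/-!
# Censuses of triads and duads; M22 on duads
-/

set_option autoImplicit false

namespace CfsgLib.Sporadic

open Cfsg MulAction
open scoped Pointwise

theorem triadGens_in : GensIn (stabilizer ↥M24 (setOfMask stdTriad)) triadGens := fun p hp => by
  obtain ⟨g, h1, h2, -⟩ := stabGens_in (gens := triadGens) (m := stdTriad) (pts := [])
    (by decide +kernel) p hp
  exact ⟨g, h1, h2⟩

theorem inOctad_beq (s : Finset GolayPt) (hs : s.card = 6) (b : Bool) :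
    (inOctad (maskOf s) == b) = true ↔ (b = true ↔ ∃ o ∈ octads, s ⊆ o) := by
  rw [← inOctad_iff s hs]
  cases inOctad (maskOf s) <;> cases b <;> simp

theorem triad_census {T : Finset GolayPt} (hT : T.card = 3) (b : Bool) :
    {U : Finset GolayPt | U.card = 3 ∧ Disjoint T U ∧ (b = true ↔ ∃ o ∈ octads, T ∪ U ⊆ o)}.ncard =
      {s : Finset GolayPt | s.card = 3 ∧ triadClass b (maskOf s) = true}.ncard := by
  obtain ⟨t, rfl⟩ := exists_smul_set (s := setOfMask stdTriad) (t := T)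
    (by rw [hT]; decide +kernel) (by decide +kernel)
  refine (ncard_smul_congr t fun s => ?_).symm
  have un : t • (setOfMask stdTriad ∪ s) = t • setOfMask stdTriad ∪ t • s :=
    Finset.smul_finset_union (a := (t : Equiv.Perm GolayPt))
  rw [card_smul_set, disjoint_smul_set]
  refine and_congr_right fun hs => ?_
  rw [triadClass, Bool.and_eq_true, Nat.beq_eq, disjoint_iff_land, maskOf_setOfMask (by decide)]
  show (maskOf s &&& stdTriad = 0 ∧ (inOctad (stdTriad ||| maskOf s) == b) = true) ↔ _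
  rw [Nat.and_comm]
  refine and_congr_right fun hd => ?_
  have hdis : Disjoint (setOfMask stdTriad) s := by
    rw [disjoint_iff_land, maskOf_setOfMask (by decide)]; exact hd
  have hsix : (setOfMask stdTriad ∪ s).card = 6 := by
    rw [Finset.card_union_of_disjoint hdis, hs, show (setOfMask stdTriad).card = 3 by decide +kernel]
  have e : maskOf (setOfMask stdTriad ∪ s) = stdTriad ||| maskOf s := by
    rw [maskOf_union, maskOf_setOfMask (by decide)]
  rw [← e, inOctad_beq _ hsix, ← un]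
  refine iff_congr Iff.rfl ⟨fun ⟨o, ho, hs⟩ => ⟨t • o, (smul_mem_octads' t).2 ho, (smul_set_subset t).2 hs⟩, ?_⟩
  rintro ⟨o, ho, hs⟩
  obtain ⟨o', rfl⟩ : ∃ o', o = t • o' := ⟨_, (smul_inv_smul t o).symm⟩
  exact ⟨o', (smul_mem_octads' t).1 ho, (smul_set_subset t).1 hs⟩

/-- The stabiliser of the two points of M22 and of the standard duad. -/
def duadGroup : Subgroup ↥M24 :=
  stabilizer ↥M24 (none : GolayPt) ⊓ stabilizer ↥M24 (some 0 : GolayPt) ⊓
    stabilizer ↥M24 (setOfMask stdDuad)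

theorem duadGens_in : GensIn duadGroup duadGens := fun p hp => by
  obtain ⟨g, h1, h2, h3⟩ := stabGens_in (gens := duadGens) (m := stdDuad) (pts := [23, 0])
    (by decide +kernel) p hp
  exact ⟨g, Subgroup.mem_inf.2 ⟨Subgroup.mem_inf.2 ⟨h3 none (by decide +kernel),
    h3 (some 0) (by decide +kernel)⟩, h1⟩, h2⟩

theorem duad_frame {p q : GolayPt} (hpq : p ≠ q) {s : Finset GolayPt} (hs : s.card = 2) (hp : p ∉ s)
    (hq : q ∉ s) :
    ∃ t : ↥M24, t • (none : GolayPt) = p ∧ t • (some 0 : GolayPt) = q ∧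
      t • setOfMask stdDuad = s := by
  obtain ⟨a, b, hab, rfl⟩ := Finset.card_eq_two.1 hs
  simp only [Finset.mem_insert, Finset.mem_singleton, not_or] at hp hq
  obtain ⟨t, ht⟩ := exists_map_list (xs := [none, some 0, some 1, some 2]) (ys := [p, q, a, b])
    (by decide +kernel) (by simp [hpq, hp.1, hp.2, hq.1, hq.2, hab]) rfl (by simp)
  simp only [List.map_cons, List.map_nil, List.cons.injEq, and_true] at ht
  refine ⟨t, ht.1, ht.2.1, ?_⟩
  rw [show setOfMask stdDuad = ({some 1, some 2} : Finset GolayPt) by decide +kernel, ← ht.2.2.1,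
    ← ht.2.2.2]
  ext z
  obtain ⟨w, rfl⟩ : ∃ w, z = t • w := ⟨_, (smul_inv_smul t z).symm⟩
  simp [mem_smul_set]

/-- The relation on the duads of M22 that is computed by `duadClass`. -/
theorem duadClass_iff (t : ↥M24) {u : Finset GolayPt} (hu : u.card = 2) (b : Bool) :
    duadClass b (maskOf u) = true ↔
      (t • (none : GolayPt) ∉ t • u ∧ t • (some 0 : GolayPt) ∉ t • u) ∧
        Disjoint (t • setOfMask stdDuad) (t • u) ∧
        (b = true ↔ ∃ o ∈ octads, t • (none : GolayPt) ∈ o ∧ t • (some 0 : GolayPt) ∈ o ∧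
          t • setOfMask stdDuad ∪ t • u ⊆ o) := by
  rw [mem_smul_set, mem_smul_set, disjoint_smul_set]
  let F : Finset GolayPt := setOfMask (stdDuad ||| m22Fixed)
  have hF : F = {none, some 0} ∪ setOfMask stdDuad := by decide +kernel
  have hF4 : F.card = 4 := by decide +kernel
  have hFm : maskOf F = stdDuad ||| m22Fixed := maskOf_setOfMask (by decide)
  rw [duadClass, Bool.and_eq_true, Nat.beq_eq]
  show (maskOf u &&& (stdDuad ||| m22Fixed) = 0 ∧
    (inOctad (m22Fixed ||| stdDuad ||| maskOf u) == b) = true) ↔ _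
  rw [Nat.or_comm m22Fixed stdDuad, ← hFm, ← disjoint_iff_land, ← maskOf_union]
  have hd : Disjoint u F ↔ (none ∉ u ∧ (some 0 : GolayPt) ∉ u) ∧ Disjoint (setOfMask stdDuad) u := by
    rw [hF, Finset.disjoint_union_right, Finset.disjoint_insert_right, Finset.disjoint_singleton_right,
      disjoint_comm (a := u)]
  rw [← and_assoc, ← hd]
  refine and_congr_right fun hdu => ?_
  rw [inOctad_beq _ (by rw [Finset.card_union_of_disjoint hdu.symm, hF4, hu])]
  refine iff_congr Iff.rfl ?_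
  have un : t • (setOfMask stdDuad ∪ u) = t • setOfMask stdDuad ∪ t • u :=
    Finset.smul_finset_union (a := (t : Equiv.Perm GolayPt))
  rw [← un]
  constructor
  · rintro ⟨o, ho, hs⟩
    rw [hF, Finset.union_subset_iff, Finset.union_subset_iff, Finset.insert_subset_iff,
      Finset.singleton_subset_iff] at hs
    exact ⟨t • o, (smul_mem_octads' t).2 ho, (mem_smul_set t).2 hs.1.1.1, (mem_smul_set t).2 hs.1.1.2,
      (smul_set_subset t).2 (Finset.union_subset hs.1.2 hs.2)⟩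
  · rintro ⟨o, ho, h1, h2, h3⟩
    obtain ⟨o', rfl⟩ : ∃ o', o = t • o' := ⟨_, (smul_inv_smul t o).symm⟩
    rw [smul_set_subset, Finset.union_subset_iff] at h3
    refine ⟨o', (smul_mem_octads' t).1 ho, ?_⟩
    rw [hF, Finset.union_subset_iff, Finset.union_subset_iff, Finset.insert_subset_iff,
      Finset.singleton_subset_iff]
    exact ⟨⟨⟨(mem_smul_set t).1 h1, (mem_smul_set t).1 h2⟩, h3.1⟩, h3.2⟩

theorem duad_census {p q : GolayPt} (hpq : p ≠ q) {s : Finset GolayPt} (hs : s.card = 2) (hp : p ∉ s)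
    (hq : q ∉ s) (b : Bool) :
    {t : Finset GolayPt | (t.card = 2 ∧ p ∉ t ∧ q ∉ t) ∧ Disjoint s t ∧
      (b = true ↔ ∃ o ∈ octads, p ∈ o ∧ q ∈ o ∧ s ∪ t ⊆ o)}.ncard =
      {u : Finset GolayPt | u.card = 2 ∧ duadClass b (maskOf u) = true}.ncard := by
  obtain ⟨t, rfl, rfl, rfl⟩ := duad_frame hpq hs hp hq
  refine (ncard_smul_congr t fun u => ?_).symm
  rw [card_smul_set]
  constructor
  · rintro ⟨h1, h2⟩
    obtain ⟨a, b', c⟩ := (duadClass_iff t h1 b).1 h2
    exact ⟨⟨h1, a⟩, b', c⟩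
  · rintro ⟨⟨h1, a⟩, b', c⟩
    exact ⟨h1, (duadClass_iff t h1 b).2 ⟨a, b', c⟩⟩

theorem exists_smul_duad {p q : GolayPt} (hpq : p ≠ q) {s u u' : Finset GolayPt}
    (hs : s.card = 2 ∧ p ∉ s ∧ q ∉ s) (hu : u.card = 2 ∧ p ∉ u ∧ q ∉ u)
    (hu' : u'.card = 2 ∧ p ∉ u' ∧ q ∉ u') (hus : u ≠ s) (hus' : u' ≠ s)
    (hi : (s ∩ u).card = (s ∩ u').card)
    (h : (∃ o ∈ octads, p ∈ o ∧ q ∈ o ∧ s ∪ u ⊆ o) ↔ ∃ o ∈ octads, p ∈ o ∧ q ∈ o ∧ s ∪ u' ⊆ o) :
    ∃ g : ↥M24, g • p = p ∧ g • q = q ∧ g • s = s ∧ g • u = u' := by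
  by_cases h0 : Disjoint s u
  · have h0' : Disjoint s u' := by
      rw [Finset.disjoint_iff_inter_eq_empty, ← Finset.card_eq_zero, ← hi, Finset.card_eq_zero,
        ← Finset.disjoint_iff_inter_eq_empty]
      exact h0
    obtain ⟨t, rfl, rfl, rfl⟩ := duad_frame hpq hs.1 hs.2.1 hs.2.2
    obtain ⟨v, rfl⟩ : ∃ v, u = t • v := ⟨_, (smul_inv_smul t u).symm⟩
    obtain ⟨v', rfl⟩ : ∃ v', u' = t • v' := ⟨_, (smul_inv_smul t u').symm⟩
    rw [card_smul_set] at hu hu'
    obtain ⟨b, hb⟩ : ∃ b : Bool, (b = true ↔ ∃ o ∈ octads, t • (none : GolayPt) ∈ o ∧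
        t • (some 0 : GolayPt) ∈ o ∧ t • setOfMask stdDuad ∪ t • v ⊆ o) := by
      by_cases hx : ∃ o ∈ octads, t • (none : GolayPt) ∈ o ∧
        t • (some 0 : GolayPt) ∈ o ∧ t • setOfMask stdDuad ∪ t • v ⊆ o
      · exact ⟨true, by simpa using hx⟩
      · exact ⟨false, iff_of_false (by simp) hx⟩
    have c := (duadClass_iff t hu.1 b).2 ⟨hu.2, h0, hb⟩
    have c' := (duadClass_iff t hu'.1 b).2 ⟨hu'.2, h0', hb.trans h⟩
    obtain ⟨g, hg, e⟩ : ∃ g ∈ duadGroup, g • v = v' := by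
      cases b
      · exact (class_spec duadGens_in (by decide) duadOut_ok).2 v v' hu.1 hu'.1 c c'
      · exact (class_spec duadGens_in (by decide) duadIn_ok).2 v v' hu.1 hu'.1 c c'
    obtain ⟨⟨g1, g2⟩, g3⟩ := hg
    exact ⟨t * g * t⁻¹, by rw [mul_smul, mul_smul, inv_smul_smul, g1],
      by rw [mul_smul, mul_smul, inv_smul_smul, g2], by rw [mul_smul, mul_smul, inv_smul_smul, g3],
      by rw [mul_smul, mul_smul, inv_smul_smul, e]⟩
  · -- the duads share a point
    have hone : ∀ v : Finset GolayPt, v.card = 2 → v ≠ s → (s ∩ v).card = (s ∩ u).card →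
        ∃ a b c, s = {a, b} ∧ v = {a, c} ∧ a ≠ b ∧ a ≠ c ∧ b ≠ c := by
      intro v hv hvs hv'
      have hpos : (s ∩ v).Nonempty := by
        rw [← Finset.card_pos, hv', Finset.card_pos, Finset.nonempty_iff_ne_empty]
        exact fun e => h0 (Finset.disjoint_iff_inter_eq_empty.2 e)
      obtain ⟨a, ha⟩ := hpos
      rw [Finset.mem_inter] at ha
      obtain ⟨b, hb⟩ := Finset.card_eq_one.1 (by rw [Finset.card_erase_of_mem ha.1, hs.1] : (s.erase a).card = 1)
      obtain ⟨c, hc⟩ := Finset.card_eq_one.1 (by rw [Finset.card_erase_of_mem ha.2, hv] : (v.erase a).card = 1)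
      have hba : b ≠ a := Finset.ne_of_mem_erase (hb ▸ Finset.mem_singleton_self b : b ∈ s.erase a)
      have hca : c ≠ a := Finset.ne_of_mem_erase (hc ▸ Finset.mem_singleton_self c : c ∈ v.erase a)
      refine ⟨a, b, c, by rw [← hb, Finset.insert_erase ha.1],
        by rw [← hc, Finset.insert_erase ha.2], hba.symm, hca.symm, fun e => hvs ?_⟩
      rw [← Finset.insert_erase ha.1, ← Finset.insert_erase ha.2, hb, hc, e]
    obtain ⟨a, b, c, es, rfl, hab, hac, hbc⟩ := hone u hu.1 hus rfl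
    obtain ⟨a', b', c', es', rfl, hab', hac', hbc'⟩ := hone u' hu'.1 hus' hi.symm
    subst es
    have hm : ∀ z ∈ [a, b, c], z ≠ p ∧ z ≠ q := by
      intro z hz
      simp only [Finset.mem_insert, Finset.mem_singleton, not_or] at hs hu
      simp only [List.mem_cons, List.not_mem_nil, or_false] at hz
      rcases hz with rfl | rfl | rfl
      exacts [⟨Ne.symm hs.2.1.1, Ne.symm hs.2.2.1⟩, ⟨Ne.symm hs.2.1.2, Ne.symm hs.2.2.2⟩,
        ⟨Ne.symm hu.2.1.2, Ne.symm hu.2.2.2⟩]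
    have hm' : ∀ z ∈ [a', b', c'], z ≠ p ∧ z ≠ q := by
      intro z hz
      have hs' := hs
      rw [es'] at hs'
      simp only [Finset.mem_insert, Finset.mem_singleton, not_or] at hs' hu'
      simp only [List.mem_cons, List.not_mem_nil, or_false] at hz
      rcases hz with rfl | rfl | rfl
      exacts [⟨Ne.symm hs'.2.1.1, Ne.symm hs'.2.2.1⟩, ⟨Ne.symm hs'.2.1.2, Ne.symm hs'.2.2.2⟩,
        ⟨Ne.symm hu'.2.1.2, Ne.symm hu'.2.2.2⟩]
    simp only [List.forall_mem_cons, List.not_mem_nil, IsEmpty.forall_iff, implies_true, and_true]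
      at hm hm'
    obtain ⟨g, hg⟩ := exists_map_list (xs := [p, q, a, b, c]) (ys := [p, q, a', b', c'])
      (by simp [hpq, hm.1.1.symm, hm.1.2.symm, hm.2.1.1.symm, hm.2.1.2.symm, hm.2.2.1.symm,
        hm.2.2.2.symm, hab, hac, hbc])
      (by simp [hpq, hm'.1.1.symm, hm'.1.2.symm, hm'.2.1.1.symm, hm'.2.1.2.symm, hm'.2.2.1.symm,
        hm'.2.2.2.symm, hab', hac', hbc']) rfl (by simp)
    simp only [List.map_cons, List.map_nil, List.cons.injEq, and_true] at hg
    obtain ⟨g1, g2, g3, g4, g5⟩ := hg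
    refine ⟨g, g1, g2, ?_, ?_⟩
    · conv_rhs => rw [es', ← g3, ← g4]
      ext z
      obtain ⟨w, rfl⟩ : ∃ w, z = g • w := ⟨_, (smul_inv_smul g z).symm⟩
      simp [mem_smul_set]
    · rw [← g3, ← g5]
      ext z
      obtain ⟨w, rfl⟩ : ∃ w, z = g • w := ⟨_, (smul_inv_smul g z).symm⟩
      simp [mem_smul_set]

end CfsgLib.Sporadic
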