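import Cfsg.Agent.Lib.Sporadic.Rank
import Cfsg.Agent.Lib.Sporadic.SmallSets2
import Cfsg.Agent.Lib.Sporadic.Design

/-!
# Maximal stabilisers by divisibility of suborbit lengths
-/

set_option autoImplicit false

namespace CfsgLib.Sporadic

open Cfsg MulAction
open scoped Pointwise

/-- An overgroup of a stabiliser gives a union of suborbit classes whose length divides the degree. -/
theorem exists_classes {G β ι : Type*} [Group G] [Finite G] [MulAction G β] [DecidableEq ι] (x : β)
    {Ω : Set β} (hx : x ∈ Ω) (hmove : ∀ (g : G), ∀ a ∈ Ω, g • a ∈ Ω)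
    (htrans : ∀ a ∈ Ω, ∃ g : G, g • x = a) (cls : β → ι) (size : ι → ℕ) (I : Finset ι)
    (hI : ∀ a ∈ Ω, cls a ∈ I)
    (hsize : ∀ i ∈ I, {a : β | a ∈ Ω ∧ cls a = i}.ncard = size i)
    (hsub : ∀ a ∈ Ω, ∀ b ∈ Ω, cls a = cls b → ∃ s : G, s • x = x ∧ s • a = b)
    (K : Subgroup G) (hK : stabilizer G x ≤ K) :
    ∃ S ∈ I.powerset, cls x ∈ S ∧ (∑ i ∈ S, size i) ∣ (∑ i ∈ I, size i) ∧ (S = I → K = ⊤) ∧
      (∀ k ∈ K, cls (k • x) ∈ S) ∧ (∀ i ∈ S, ∃ k ∈ K, cls (k • x) = i) := by
  classical
  have hΩ : Ω = orbit G x := by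
    ext a
    exact ⟨fun h => htrans a h, fun ⟨g, hg⟩ => hg ▸ hmove g x hx⟩
  have hfin : Ω.Finite := by rw [hΩ]; exact Set.finite_range _
  set A : Set β := {a | ∃ k ∈ K, k • x = a} with hA
  have hAΩ : A ⊆ Ω := fun a ⟨k, _, hk⟩ => hk ▸ hmove k x hx
  let S := I.filter fun i => ∃ a ∈ A, cls a = i
  have key : ∀ T : Finset ι, T ⊆ I → {a : β | a ∈ Ω ∧ cls a ∈ T}.ncard = ∑ i ∈ T, size i := by
    intro T hT
    induction T using Finset.induction_on with
    | empty => simp
    | insert i T hi ih =>
      rw [Finset.insert_subset_iff] at hT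
      rw [Finset.sum_insert hi, ← ih hT.2, ← hsize i hT.1, ← Set.ncard_union_eq (s := {a : β | a ∈ Ω ∧ cls a = i}) (t := {a : β | a ∈ Ω ∧ cls a ∈ T})
        (Set.disjoint_left.2 fun a (h1 : a ∈ Ω ∧ cls a = i) (h2 : a ∈ Ω ∧ cls a ∈ T) =>
          hi (h1.2 ▸ h2.2))
        (hfin.subset fun a (h : a ∈ Ω ∧ cls a = i) => h.1)
        (hfin.subset fun a (h : a ∈ Ω ∧ cls a ∈ T) => h.1)]
      congr 1
      ext a
      simp [and_or_left]
  have hAS : A = {a | a ∈ Ω ∧ cls a ∈ S} := by
    ext a
    refine ⟨fun h => ⟨hAΩ h, Finset.mem_filter.2 ⟨hI a (hAΩ h), a, h, rfl⟩⟩, fun ⟨h, hs⟩ => ?_⟩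
    obtain ⟨b, hb, e⟩ := (Finset.mem_filter.1 hs).2
    obtain ⟨s, hs1, hs2⟩ := hsub b (hAΩ hb) a h e
    obtain ⟨k, hk, rfl⟩ := hb
    exact ⟨s * k, mul_mem (hK hs1) hk, by rw [mul_smul, hs2]⟩
  have hcA : A.ncard = ∑ i ∈ S, size i := by rw [hAS, key S (Finset.filter_subset _ _)]
  have hcΩ : Ω.ncard = ∑ i ∈ I, size i := by
    rw [← key I subset_rfl]
    congr 1
    ext a
    exact ⟨fun h => ⟨h, hI a h⟩, fun h => h.1⟩
  have hxA : x ∈ A := ⟨1, one_mem _, one_smul _ _⟩
  refine ⟨S, Finset.mem_powerset.2 (Finset.filter_subset _ _), ?_, ?_, ?_, ?_, ?_⟩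
  · exact Finset.mem_filter.2 ⟨hI x hx, x, hxA, rfl⟩
  · have hAo : A = orbit ↥K x := by
      ext a
      exact ⟨fun ⟨k, hk, e⟩ => ⟨⟨k, hk⟩, e⟩, fun ⟨k, e⟩ => ⟨k, k.2, e⟩⟩
    have hst : Nat.card (stabilizer ↥K x) = Nat.card (stabilizer G x) :=
      Nat.card_congr
        { toFun := fun k => ⟨k.1.1, k.2⟩
          invFun := fun g => ⟨⟨g.1, hK g.2⟩, g.2⟩ }
    have e1 : A.ncard * Nat.card (stabilizer G x) = Nat.card K := by
      rw [hAo, ← hst, ← Nat.card_coe_set_eq, ← Nat.card_prod]
      exact Nat.card_congr (orbitProdStabilizerEquivGroup ↥K x)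
    have e2 : Ω.ncard * Nat.card (stabilizer G x) = Nat.card G := by
      rw [hΩ, ← Nat.card_coe_set_eq, ← Nat.card_prod]
      exact Nat.card_congr (orbitProdStabilizerEquivGroup G x)
    rw [← hcA, ← hcΩ]
    refine (Nat.mul_dvd_mul_iff_right (Nat.card_pos : 0 < Nat.card (stabilizer G x))).1 ?_
    rw [e1, e2]
    exact Subgroup.card_subgroup_dvd_card K
  · intro hS
    rw [eq_top_iff]
    intro g _
    have : g • x ∈ A := by rw [hAS, hS]; exact ⟨hmove g x hx, hI _ (hmove g x hx)⟩
    obtain ⟨k, hk, e⟩ := this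
    have : k⁻¹ * g ∈ stabilizer G x := by rw [mem_stabilizer_iff, mul_smul, ← e, inv_smul_smul]
    have := mul_mem hk (hK this)
    rwa [mul_inv_cancel_left] at this
  · intro k hk
    exact Finset.mem_filter.2 ⟨hI _ (hmove k x hx), k • x, ⟨k, hk, rfl⟩, rfl⟩
  · intro i hi
    obtain ⟨a, ⟨k, hk, rfl⟩, e⟩ := (Finset.mem_filter.1 hi).2
    exact ⟨k, hk, e⟩

/-- A stabiliser is maximal when no proper union of suborbit lengths divides the degree. -/
theorem isCoatom_stabilizer {G β ι : Type*} [Group G] [Finite G] [MulAction G β] [DecidableEq ι] (x : β)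
    {Ω : Set β} (hx : x ∈ Ω) (hmove : ∀ (g : G), ∀ a ∈ Ω, g • a ∈ Ω)
    (htrans : ∀ a ∈ Ω, ∃ g : G, g • x = a) (cls : β → ι) (size : ι → ℕ) (I : Finset ι)
    (hI : ∀ a ∈ Ω, cls a ∈ I)
    (hsize : ∀ i ∈ I, {a : β | a ∈ Ω ∧ cls a = i}.ncard = size i)
    (hsub : ∀ a ∈ Ω, ∀ b ∈ Ω, cls a = cls b → ∃ s : G, s • x = x ∧ s • a = b)
    (honly : ∀ a ∈ Ω, cls a = cls x → a = x) (htwo : ∃ a ∈ Ω, a ≠ x)
    (hnum : ∀ S ∈ I.powerset, cls x ∈ S → (∑ i ∈ S, size i) ∣ (∑ i ∈ I, size i) →
      S = {cls x} ∨ S = I) :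
    IsCoatom (stabilizer G x) := by
  constructor
  · intro e
    obtain ⟨a, ha, hne⟩ := htwo
    obtain ⟨g, rfl⟩ := htrans a ha
    exact hne (mem_stabilizer_iff.1 (e ▸ Subgroup.mem_top g))
  · intro K hK
    obtain ⟨S, hS, hxS, hdvd, htop, hcov, -⟩ :=
      exists_classes x hx hmove htrans cls size I hI hsize hsub K hK.le
    rcases hnum S hS hxS hdvd with e | e
    · refine absurd ?_ (not_le_of_gt hK)
      intro k hk
      have := hcov k hk
      rw [e, Finset.mem_singleton] at this
      exact honly _ (hmove k x hx) this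
    · exact htop e

/-- The sets of given size that meet a given set in a given number of points. -/
theorem ncard_meet_sets (s : Finset GolayPt) (k i : ℕ) :
    {a : Finset GolayPt | a.card = k ∧ (s ∩ a).card = i}.ncard =
      if i ≤ k then s.card.choose i * (24 - s.card).choose (k - i) else 0 := by
  classical
  split_ifs with hik
  · have h24 : Fintype.card GolayPt = 24 := by decide +kernel
    have hS : {a : Finset GolayPt | a.card = k ∧ (s ∩ a).card = i} =
        (fun p : Finset GolayPt × Finset GolayPt => p.1 ∪ p.2) ''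
          ↑(s.powersetCard i ×ˢ sᶜ.powersetCard (k - i)) := by
      ext a
      simp only [Set.mem_ofPred_eq, Set.mem_image, Finset.mem_coe, Finset.mem_product,
        Finset.mem_powersetCard, Prod.exists]
      constructor
      · rintro ⟨h1, h2⟩
        refine ⟨s ∩ a, a \ s, ⟨⟨Finset.inter_subset_left, h2⟩,
          fun x hx => Finset.mem_compl.2 (Finset.mem_sdiff.1 hx).2, ?_⟩, ?_⟩
        · have := Finset.card_sdiff_add_card_inter a s
          rw [Finset.inter_comm] at h2
          omega
        · rw [Finset.union_comm, Finset.inter_comm, Finset.sdiff_union_inter]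
      · rintro ⟨p, q, ⟨⟨hp, hp'⟩, hq, hq'⟩, rfl⟩
        have hd : Disjoint p q := Finset.disjoint_left.2 fun x h1 h2 =>
          Finset.mem_compl.1 (hq h2) (hp h1)
        refine ⟨by rw [Finset.card_union_of_disjoint hd, hp', hq']; omega, ?_⟩
        rw [Finset.inter_union_distrib_left, Finset.inter_eq_right.2 hp,
          Finset.disjoint_iff_inter_eq_empty.1 (Finset.disjoint_left.2 fun x h1 h2 =>
            Finset.mem_compl.1 (hq h2) h1), Finset.union_empty, hp']
    rw [hS, Set.ncard_image_of_injOn, Set.ncard_coe_finset, Finset.card_product,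
      Finset.card_powersetCard, Finset.card_powersetCard, Finset.card_compl, h24]
    rintro ⟨p, q⟩ h ⟨p', q'⟩ h' e
    simp only [Finset.coe_product, Set.mem_prod, Finset.mem_coe, Finset.mem_powersetCard] at h h'
    have : ∀ {u v : Finset GolayPt}, u ⊆ s → v ⊆ sᶜ → (u ∪ v) ∩ s = u ∧ (u ∪ v) ∩ sᶜ = v := by
      intro u v hu hv
      constructor <;> ext x <;> simp only [Finset.mem_inter, Finset.mem_union, Finset.mem_compl]
      · exact ⟨fun ⟨h, hx⟩ => h.resolve_right fun h => Finset.mem_compl.1 (hv h) hx,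
          fun h => ⟨Or.inl h, hu h⟩⟩
      · exact ⟨fun ⟨h, hx⟩ => h.resolve_left fun h => hx (hu h),
          fun h => ⟨Or.inr h, Finset.mem_compl.1 (hv h)⟩⟩
    simp only at e
    have u1 := this h.1.1 h.2.1
    have u2 := this h'.1.1 h'.2.1
    rw [e] at u1
    exact Prod.ext (u1.1.symm.trans u2.1) (u1.2.symm.trans u2.2)
  · rw [show {a : Finset GolayPt | a.card = k ∧ (s ∩ a).card = i} = ∅ from ?_, Set.ncard_empty]
    ext a
    simp only [Set.mem_ofPred_eq, Set.mem_empty_iff_false, iff_false, not_and]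
    intro h h'
    exact hik (h ▸ h' ▸ Finset.card_le_card Finset.inter_subset_right)

theorem isCoatom_stab_duad {s : Finset GolayPt} (hs : s.card = 2) : IsCoatom (stabilizer ↥M24 s) := by
  refine isCoatom_stabilizer (Ω := {a | a.card = 2}) s hs (fun g a ha => (card_smul_set g a).trans ha)
    (fun a ha => exists_smul_set (hs.trans ha.symm) (by omega)) (fun a => (s ∩ a).card)
    (fun i => [231, 44, 1].getD i 0) (Finset.range 3) ?_ ?_ ?_ ?_ ?_
    (by simp only [Finset.inter_self, hs]; decide +kernel)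
  · intro a ha
    have := Finset.card_le_card (Finset.inter_subset_right : s ∩ a ⊆ a)
    have ha' : a.card = 2 := ha
    exact Finset.mem_range.2 (by omega)
  · intro i hi
    rw [Finset.mem_range] at hi
    show {a : Finset GolayPt | a.card = 2 ∧ (s ∩ a).card = i}.ncard = _
    rw [ncard_meet_sets, hs]
    interval_cases i <;> decide
  · intro a ha b hb e
    have ha' : a.card = 2 := ha
    have := Finset.card_union_add_card_inter s a
    exact exists_smul_two_sets rfl (ha'.trans (hb : b.card = 2).symm) e (by omega)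
  · intro a ha e
    have ha' : a.card = 2 := ha
    simp only [Finset.inter_self] at e
    have h1 := Finset.eq_of_subset_of_card_le (Finset.inter_subset_right : s ∩ a ⊆ a) (by omega)
    have h2 := Finset.eq_of_subset_of_card_le (Finset.inter_subset_left : s ∩ a ⊆ s) (by omega)
    rw [← h1, h2]
  · by_cases h : s = setOfMask 3
    · exact ⟨setOfMask 12, show (setOfMask 12).card = 2 by decide +kernel, by rw [h]; decide +kernel⟩
    · exact ⟨setOfMask 3, show (setOfMask 3).card = 2 by decide +kernel, Ne.symm h⟩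

theorem triad_out_ncard {T : Finset GolayPt} (hT : T.card = 3) :
    {U : Finset GolayPt | U.card = 3 ∧ Disjoint T U ∧ ∃ o ∈ octads, T ∪ U ⊆ o}.ncard = 210 ∧
      {U : Finset GolayPt | U.card = 3 ∧ Disjoint T U ∧ ¬ ∃ o ∈ octads, T ∪ U ⊆ o}.ncard = 1120 := by
  constructor
  · rw [← triadIn_length, ← (class_spec triadGens_in (by decide) triadIn_ok).1, ← triad_census hT true]
    congr 1; ext U; simp
  · rw [← triadOut_length, ← (class_spec triadGens_in (by decide) triadOut_ok).1, ← triad_census hT false]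
    congr 1; ext U; simp

theorem isCoatom_stab_triad {T : Finset GolayPt} (hT : T.card = 3) : IsCoatom (stabilizer ↥M24 T) := by
  classical
  refine isCoatom_stabilizer (Ω := {a | a.card = 3}) T hT (fun g a ha => (card_smul_set g a).trans ha)
    (fun a ha => exists_smul_set (hT.trans ha.symm) (by omega))
    (fun a => if (T ∩ a).card = 0 then (if ∃ o ∈ octads, T ∪ a ⊆ o then 4 else 0) else (T ∩ a).card)
    (fun i => [1120, 630, 63, 1, 210].getD i 0) (Finset.range 5) ?_ ?_ ?_ ?_ ?_ ?_
  · intro a ha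
    have := Finset.card_le_card (Finset.inter_subset_right : T ∩ a ⊆ a)
    have ha' : a.card = 3 := ha
    rw [Finset.mem_range]
    split_ifs <;> omega
  · intro i hi
    rw [Finset.mem_range] at hi
    have hset : ∀ a : Finset GolayPt, (T ∩ a).card = 0 ↔ Disjoint T a := fun a => by
      rw [Finset.card_eq_zero, Finset.disjoint_iff_inter_eq_empty]
    have hle : ∀ a : Finset GolayPt, (T ∩ a).card ≤ 3 := fun a =>
      hT ▸ Finset.card_le_card Finset.inter_subset_left
    have hmid : ∀ n, 1 ≤ n → n ≤ 3 →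
        {a : Finset GolayPt | a.card = 3 ∧ (if (T ∩ a).card = 0 then
          (if ∃ o ∈ octads, T ∪ a ⊆ o then 4 else 0) else (T ∩ a).card) = n}.ncard =
          Nat.choose 3 n * Nat.choose 21 (3 - n) := by
      intro n h1 h3
      refine Eq.trans ?_ ((ncard_meet_sets T 3 n).trans (by rw [if_pos h3, hT]))
      congr 1; ext a
      simp only [Set.mem_ofPred_eq]
      refine and_congr_right fun _ => ?_
      split_ifs with h1 h2 <;> omega
    interval_cases i
    · refine Eq.trans ?_ (triad_out_ncard hT).2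
      congr 1; ext a
      simp only [Set.mem_ofPred_eq]
      refine and_congr_right fun _ => ?_
      rw [← hset]
      by_cases h0 : (T ∩ a).card = 0 <;> by_cases h : ∃ o ∈ octads, T ∪ a ⊆ o <;> simp [h0, h]
    · exact hmid 1 le_rfl (by norm_num)
    · exact hmid 2 (by norm_num) (by norm_num)
    · exact hmid 3 (by norm_num) le_rfl
    · refine Eq.trans ?_ (triad_out_ncard hT).1
      congr 1; ext a
      simp only [Set.mem_ofPred_eq]
      refine and_congr_right fun _ => ?_
      rw [← hset]
      have := hle a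
      by_cases h0 : (T ∩ a).card = 0 <;> by_cases h : ∃ o ∈ octads, T ∪ a ⊆ o <;>
        simp [h0, h] <;> omega
  · intro a ha b hb e
    have ha' : a.card = 3 := ha
    have hb' : b.card = 3 := hb
    have hla := Finset.card_le_card (Finset.inter_subset_right : T ∩ a ⊆ a)
    have hlb := Finset.card_le_card (Finset.inter_subset_right : T ∩ b ⊆ b)
    have hu := Finset.card_union_add_card_inter T a
    by_cases h0 : (T ∩ a).card = 0
    · have h0' : (T ∩ b).card = 0 := by
        simp only [if_pos h0] at e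
        split_ifs at e <;> omega
      simp only [h0, h0', if_true] at e
      exact exists_smul_triad_stab hT ha' hb'
        (Finset.disjoint_iff_inter_eq_empty.2 (Finset.card_eq_zero.1 h0))
        (Finset.disjoint_iff_inter_eq_empty.2 (Finset.card_eq_zero.1 h0'))
        (by
          by_cases hx : ∃ o ∈ octads, T ∪ a ⊆ o <;> by_cases hy : ∃ o ∈ octads, T ∪ b ⊆ o
          · exact iff_of_true hx hy
          · rw [if_pos hx, if_neg hy] at e; omega
          · rw [if_neg hx, if_pos hy] at e; omega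
          · exact iff_of_false hx hy)
    · have e' : (T ∩ a).card = (T ∩ b).card := by
        simp only [if_neg h0] at e
        split_ifs at e <;> omega
      exact exists_smul_two_sets rfl (ha'.trans hb'.symm) e' (by omega)
  · intro a ha e
    have ha' : a.card = 3 := ha
    simp only [Finset.inter_self, hT, show ¬ (3 = 0) by omega, if_false] at e
    have hla := Finset.card_le_card (Finset.inter_subset_right : T ∩ a ⊆ a)
    have e' : (T ∩ a).card = 3 := by split_ifs at e <;> omega
    have h1 := Finset.eq_of_subset_of_card_le (Finset.inter_subset_right : T ∩ a ⊆ a) (by omega)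
    have h2 := Finset.eq_of_subset_of_card_le (Finset.inter_subset_left : T ∩ a ⊆ T) (by omega)
    rw [← h1, h2]
  · by_cases h : T = setOfMask 7
    · exact ⟨setOfMask 56, show (setOfMask 56).card = 3 by decide +kernel, by rw [h]; decide +kernel⟩
    · exact ⟨setOfMask 7, show (setOfMask 7).card = 3 by decide +kernel, Ne.symm h⟩
  · simp only [Finset.inter_self, hT, OfNat.ofNat_ne_zero, if_false]
    decide +kernel

theorem octad_meet_ncard {o : Finset GolayPt} (ho : o ∈ octads) (n : ℕ) :
    {x : Finset GolayPt | x ∈ octads ∧ (o ∩ x).card = n}.ncard =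
      countLt 4096 (fun k => famMask 8 0 0 stdO n (enc k)) := by
  obtain ⟨t, rfl⟩ := exists_smul_stdO ho
  rw [← ncard_fam (A := 0) (B := 0) t (by norm_num) (by norm_num) (by decide)]
  congr 1
  ext x
  simp [inFam_oct, smul_setOfMask_zero]

theorem dodecad_meet_ncard {d : Finset GolayPt} (hd : d ∈ dodecads) (n : ℕ) :
    {x : Finset GolayPt | x ∈ dodecads ∧ (d ∩ x).card = n}.ncard =
      countLt 4096 (fun k => famMask 12 0 0 stdD n (enc k)) := by
  obtain ⟨t, rfl⟩ := exists_smul_stdD hd
  rw [← ncard_fam (A := 0) (B := 0) t (by norm_num) (by norm_num) (by decide)]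
  congr 1
  ext x
  simp only [InFam, smul_setOfMask_zero, Finset.disjoint_empty_right, Finset.empty_subset, true_and]
  rfl

theorem octad_meet_mem {o x : Finset GolayPt} (ho : o ∈ octads) (hx : x ∈ octads) :
    (o ∩ x).card ∈ ({0, 2, 4, 8} : Finset ℕ) := by
  by_cases e : o = x
  · simp [← e, ho.2]
  · rcases Design.inter24 (by decide +kernel) octads_steiner ho hx e with h | h | h <;> simp [h]

theorem isCoatom_stab_octad {o : Finset GolayPt} (ho : o ∈ octads) :
    IsCoatom (stabilizer ↥M24 o) := by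
  refine isCoatom_stabilizer (Ω := octads) o ho (fun g a ha => (smul_mem_octads' g).2 ha) ?_
    (fun a => (o ∩ a).card) (fun i => countLt 4096 (fun k => famMask 8 0 0 stdO i (enc k)))
    {0, 2, 4, 8} (fun a ha => octad_meet_mem ho ha) (fun i _ => octad_meet_ncard ho i) ?_ ?_ ?_ ?_
  · intro a ha
    obtain ⟨g, hg, e⟩ := exists_smul_octad ho ha
    exact ⟨⟨g, hg⟩, e⟩
  · intro a ha b hb e
    exact octad_suborbit ho ha hb e
  · intro a ha e
    simp only [Finset.inter_self, ho.2] at e
    have h1 := Finset.eq_of_subset_of_card_le (Finset.inter_subset_right : o ∩ a ⊆ a) (by rw [ha.2]; omega)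
    have h2 := Finset.eq_of_subset_of_card_le (Finset.inter_subset_left : o ∩ a ⊆ o) (by rw [ho.2]; omega)
    rw [← h1, h2]
  · have hne : {x : Finset GolayPt | x ∈ octads ∧ (o ∩ x).card = 0}.ncard ≠ 0 := by
      rw [octad_meet_ncard ho]; decide +kernel
    obtain ⟨a, ha, h0⟩ := Set.nonempty_of_ncard_ne_zero hne
    refine ⟨a, ha, fun e => ?_⟩
    rw [e, Finset.inter_self, ho.2] at h0
    omega
  · simp only [Finset.inter_self, ho.2]
    decide +kernel

theorem dodecad_meet_mem {d x : Finset GolayPt} (hd : d ∈ dodecads) (hx : x ∈ dodecads) :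
    (d ∩ x).card ∈ ({0, 4, 6, 8, 12} : Finset ℕ) := by
  by_contra h
  have hle : (d ∩ x).card ≤ 12 := hd.2 ▸ Finset.card_le_card Finset.inter_subset_left
  have h0 : {y : Finset GolayPt | y ∈ dodecads ∧ (d ∩ y).card = (d ∩ x).card}.ncard = 0 := by
    rw [dodecad_meet_ncard hd]
    revert h
    generalize (d ∩ x).card = i at hle
    intro h
    simp only [Finset.mem_insert, Finset.mem_singleton, not_or] at h
    obtain ⟨h0, h4, h6, h8, h12⟩ := h
    interval_cases i <;> first
      | omega
      | decide +kernel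
  rw [Set.ncard_eq_zero] at h0
  exact Set.notMem_empty x (h0 ▸ (⟨hx, rfl⟩ : x ∈ {y : Finset GolayPt | y ∈ dodecads ∧ (d ∩ y).card = (d ∩ x).card}))

theorem compl_mem_dodecads {d : Finset GolayPt} (hd : d ∈ dodecads) : dᶜ ∈ dodecads := by
  have h : {x : Finset GolayPt | x ∈ dodecads ∧ (d ∩ x).card = 0}.ncard ≠ 0 := by
    rw [dodecad_meet_ncard hd]; decide +kernel
  obtain ⟨x, hx, h0⟩ := Set.nonempty_of_ncard_ne_zero h
  have : dᶜ = x := by
    refine (Finset.eq_of_subset_of_card_le (fun y hy => Finset.mem_compl.2 fun hy' => ?_) ?_).symm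
    · have : y ∈ d ∩ x := Finset.mem_inter.2 ⟨hy', hy⟩
      rw [Finset.card_eq_zero.1 h0] at this
      exact Finset.notMem_empty y this
    · rw [Finset.card_compl, hd.2, hx.2, show Fintype.card GolayPt = 24 by decide +kernel]
  rwa [this]

theorem smul_compl' (g : ↥M24) (s : Finset GolayPt) : g • sᶜ = (g • s)ᶜ := by
  ext z
  obtain ⟨w, rfl⟩ : ∃ w, z = g • w := ⟨_, (smul_inv_smul g z).symm⟩
  simp [mem_smul_set]

theorem isCoatom_stab_duum {d : Finset GolayPt} (hd : d ∈ dodecads) :
    IsCoatom (stabilizer ↥M24 ({d, dᶜ} : Finset (Finset GolayPt))) := by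
  classical
  have hpair : ∀ (g : ↥M24) (a b : Finset GolayPt),
      g • ({a, b} : Finset (Finset GolayPt)) = {g • a, g • b} := fun g a b => by
    rw [Finset.smul_finset_def, Finset.image_insert, Finset.image_singleton]
  have hdd := compl_mem_dodecads hd
  have hsub : stabilizer ↥M24 d ≤ stabilizer ↥M24 ({d, dᶜ} : Finset (Finset GolayPt)) := by
    intro g hg
    rw [mem_stabilizer_iff] at hg ⊢
    rw [hpair, smul_compl', hg]
  obtain ⟨sw, hsw⟩ := exists_smul_dodecad hd hdd
  have hswm : sw ∈ stabilizer ↥M24 ({d, dᶜ} : Finset (Finset GolayPt)) := by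
    rw [mem_stabilizer_iff, hpair, smul_compl', hsw, compl_compl, Finset.pair_comm]
  constructor
  · intro e
    have h : {x : Finset GolayPt | x ∈ dodecads ∧ (d ∩ x).card = 6}.ncard ≠ 0 := by
      rw [dodecad_meet_ncard hd]; decide +kernel
    obtain ⟨x, hx, h6⟩ := Set.nonempty_of_ncard_ne_zero h
    obtain ⟨g, hg⟩ := exists_smul_dodecad hd hx
    have := mem_stabilizer_iff.1 (e ▸ Subgroup.mem_top g)
    rw [hpair, smul_compl', hg] at this
    have hxm : x ∈ ({d, dᶜ} : Finset (Finset GolayPt)) := this ▸ Finset.mem_insert_self _ _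
    rcases Finset.mem_insert.1 hxm with rfl | h'
    · rw [Finset.inter_self, hd.2] at h6; omega
    · rw [Finset.mem_singleton.1 h', Finset.inter_compl, Finset.card_empty] at h6; omega
  · intro K hK
    obtain ⟨S, hS, hxS, hdvd, htop, hcov, hatt⟩ := exists_classes (G := ↥M24) d (Ω := dodecads) hd
      (fun g a ha => (smul_mem_dodecads' g).2 ha) (fun a ha => exists_smul_dodecad hd ha)
      (fun a => (d ∩ a).card) (fun i => countLt 4096 (fun k => famMask 12 0 0 stdD i (enc k)))
      {0, 4, 6, 8, 12} (fun a ha => dodecad_meet_mem hd ha) (fun i _ => dodecad_meet_ncard hd i)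
      (fun a ha b hb e => dodecad_suborbit hd ha hb e) K (hsub.trans hK.le)
    simp only [Finset.inter_self, hd.2] at hxS
    have hnum : ∀ T ∈ ({0, 4, 6, 8, 12} : Finset ℕ).powerset, 12 ∈ T → 0 ∈ T → (4 ∈ T ↔ 8 ∈ T) →
        (∑ i ∈ T, countLt 4096 (fun k => famMask 12 0 0 stdD i (enc k))) ∣
          (∑ i ∈ ({0, 4, 6, 8, 12} : Finset ℕ), countLt 4096 (fun k => famMask 12 0 0 stdD i (enc k))) →
        T = {0, 12} ∨ T = {0, 4, 6, 8, 12} := by
      have c0 : countLt 4096 (fun k => famMask 12 0 0 stdD 0 (enc k)) = 1 := by decide +kernel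
      have c4 : countLt 4096 (fun k => famMask 12 0 0 stdD 4 (enc k)) = 495 := by decide +kernel
      have c6 : countLt 4096 (fun k => famMask 12 0 0 stdD 6 (enc k)) = 1584 := by decide +kernel
      have c8 : countLt 4096 (fun k => famMask 12 0 0 stdD 8 (enc k)) = 495 := by decide +kernel
      have c12 : countLt 4096 (fun k => famMask 12 0 0 stdD 12 (enc k)) = 1 := by decide +kernel
      intro T hT
      rw [Finset.sum_congr rfl (g := fun i : ℕ => [1, 0, 0, 0, 495, 0, 1584, 0, 495, 0, 0, 0, 1].getD i 0)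
          fun i hi => ?_,
        Finset.sum_congr (s₁ := ({0, 4, 6, 8, 12} : Finset ℕ)) rfl
          (g := fun i : ℕ => [1, 0, 0, 0, 495, 0, 1584, 0, 495, 0, 0, 0, 1].getD i 0) fun i hi => ?_]
      · revert T; decide +kernel
      all_goals
        first
          | (have := Finset.mem_powerset.1 hT hi)
          | (have := hi)
        simp only [Finset.mem_insert, Finset.mem_singleton] at this
        rcases this with rfl | rfl | rfl | rfl | rfl
        exacts [c0, c4, c6, c8, c12]
    have hswK : sw ∈ K := hK.le hswm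
    have hflip : ∀ i ∈ S, 12 - i ∈ S := by
      intro i hi
      obtain ⟨k, hk, rfl⟩ := hatt i hi
      have := hcov (k * sw) (mul_mem hk hswK)
      simp only [mul_smul, hsw, smul_compl', ← Finset.sdiff_eq_inter_compl] at this
      have hs := Finset.card_sdiff_add_card_inter d (k • d)
      rw [hd.2] at hs
      rwa [show 12 - (d ∩ k • d).card = (d \ k • d).card by omega]
    have h48 : 4 ∈ S ↔ 8 ∈ S := ⟨fun h => hflip 4 h, fun h => hflip 8 h⟩
    rcases hnum S hS hxS (hflip 12 hxS) h48 hdvd with e | e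
    · refine absurd ?_ (not_le_of_gt hK)
      intro k hk
      have := hcov k hk
      simp only [e, Finset.mem_insert, Finset.mem_singleton] at this
      have hkd : (k • d).card = 12 := (card_smul_set k d).trans hd.2
      rw [mem_stabilizer_iff, hpair, smul_compl']
      rcases this with h | h
      · have : k • d = dᶜ := by
          refine Finset.eq_of_subset_of_card_le (fun y hy => Finset.mem_compl.2 fun hy' => ?_) ?_
          · have : y ∈ d ∩ k • d := Finset.mem_inter.2 ⟨hy', hy⟩
            rw [Finset.card_eq_zero.1 h] at this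
            exact Finset.notMem_empty y this
          · rw [hkd, hdd.2]
        rw [this, compl_compl, Finset.pair_comm]
      · have : k • d = d := by
          have h2 := Finset.eq_of_subset_of_card_le (Finset.inter_subset_right : d ∩ k • d ⊆ k • d)
            (by omega)
          have h1 := Finset.eq_of_subset_of_card_le (Finset.inter_subset_left : d ∩ k • d ⊆ d)
            (by rw [hd.2]; omega)
          rw [← h2, h1]
        rw [this]
    · exact htop e

end CfsgLib.Sporadic
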