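import Cfsg.Agent.Lib.Sporadic.M12

/-!
# Listed subgroups of M24 and homomorphisms out of them

A walk through the Cayley graph lists a subgroup of known order together with the images of its
elements; closure of that list under the generators proves that the images form a homomorphism.
-/

set_option autoImplicit false

namespace CfsgLib.Sporadic

open Cfsg

theorem packImage_congr {σ : Equiv.Perm GolayPt} (f : ℕ → ℕ) (h : ∀ i < 24, f i = ix (σ (pt i))) :
    (Nat.rec 0 (fun i acc => Nat.lor acc (Nat.shiftLeft (f i) (Nat.mul 5 i))) 24 : ℕ) = packImage σ := by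
  have key : ∀ n, (∀ i < n, f i = ix (σ (pt i))) →
      (Nat.rec 0 (fun i acc => Nat.lor acc (Nat.shiftLeft (f i) (Nat.mul 5 i))) n : ℕ) =
      (Nat.rec 0 (fun i acc => Nat.lor acc (Nat.shiftLeft (ix (σ (pt i))) (Nat.mul 5 i))) n : ℕ) := by
    intro n
    induction n with
    | zero => exact fun _ => rfl
    | succ n ih =>
      intro hn
      show Nat.lor _ _ = Nat.lor _ _
      rw [ih fun i hi => hn i (by omega), hn n (by omega)]
  unfold packImage
  revert h
  generalize (24 : ℕ) = n
  exact key n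

theorem pmul_packImage {σ τ : Equiv.Perm GolayPt} {p q : ℕ} (h : Rep σ p) (h' : Rep τ q) :
    pmul p q = packImage (σ * τ) := by
  unfold pmul
  apply packImage_congr (fun i => pget p (pget q i))
  intro i hi
  show pget p (pget q i) = _
  have e : pget q i = ix (τ (pt i)) := by rw [← h' (pt i), ix_pt hi]
  rw [e, h (τ (pt i))]
  rfl

theorem packImage_one : packImage 1 = pone := by decide +kernel

theorem packImage_injective : Function.Injective packImage := fun σ τ e =>
  (rep_packImage σ).unique (e ▸ rep_packImage τ)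

/-- The packing of an element of M24. -/
noncomputable abbrev packG (g : ↥M24) : ℕ := packImage (g : Equiv.Perm GolayPt)

noncomputable def stepPair {β : Type} (mulC : β → β → β) (gens : List (ℕ × β)) (x : ℕ × β)
    (j : ℕ) : ℕ × β :=
  match gens[j]? with
  | none => x
  | some s => (pmul x.1 s.1, mulC x.2 s.2)

/-- The list of pairs is free of repetition and closed under the generators. -/
noncomputable def enumOK {β : Type} [DecidableEq β] (mulC : β → β → β) (gens : List (ℕ × β))
    (L : List (ℕ × β)) (n : ℕ) : Bool :=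
  Nat.beq L.length n && decide (L.map Prod.fst).Nodup &&
    L.all fun x => gens.all fun s =>
      L.any fun y => Nat.beq y.1 (pmul x.1 s.1) && decide (y.2 = mulC x.2 s.2)

section

variable {H : Subgroup ↥M24} {β : Type}

theorem walk_pair {mulC : β → β → β} {one : β} {gens : List (ℕ × β)}
    (hg : GensIn H (gens.map Prod.fst)) (ops : List ℕ) :
    ∀ x ∈ walk (stepPair mulC gens) ops (pone, one), ∃ g ∈ H, packG g = x.1 := by
  refine walk_mem (P := fun x : ℕ × β => ∃ g ∈ H, packG g = x.1) ?_ ⟨1, one_mem _, packImage_one⟩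
  rintro x j ⟨g, hgH, e⟩
  unfold stepPair
  cases hj : gens[j]? with
  | none => exact ⟨g, hgH, e⟩
  | some s =>
    obtain ⟨h, hh, hr⟩ := hg s.1 (List.mem_map_of_mem (List.mem_of_getElem? hj))
    exact ⟨g * h, mul_mem hgH hh, (pmul_packImage (e ▸ rep_packImage _) hr).symm⟩

variable [DecidableEq β] {mulC : β → β → β} {one : β} {gens : List (ℕ × β)} {ops : List ℕ} {n : ℕ}

theorem exists_entry (hg : GensIn H (gens.map Prod.fst)) (hcard : Nat.card ↥H = n)
    (hok : enumOK mulC gens (walk (stepPair mulC gens) ops (pone, one)) n = true) :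
    ∀ g ∈ H, ∃ x ∈ walk (stepPair mulC gens) ops (pone, one), x.1 = packG g := by
  set L := walk (stepPair mulC gens) ops (pone, one)
  simp only [enumOK, Bool.and_eq_true, Nat.beq_eq, decide_eq_true_eq] at hok
  obtain ⟨⟨hlen, hnd⟩, -⟩ := hok
  have hf : ((L.map Prod.fst).toFinset : Set ℕ) ⊆ packG '' (H : Set ↥M24) := by
    intro v hv
    obtain ⟨x, hx, rfl⟩ := List.mem_map.1 (List.mem_toFinset.1 hv)
    obtain ⟨g, hg', e⟩ := walk_pair hg ops x hx
    exact ⟨g, hg', e⟩
  have hinj : Function.Injective packG := fun a b e => Subtype.ext (packImage_injective e)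
  have heq := Set.eq_of_subset_of_ncard_le hf (by
    rw [Set.ncard_image_of_injective _ hinj, Set.ncard_coe_finset, List.toFinset_card_of_nodup hnd,
      List.length_map, hlen, ← hcard, ← Nat.card_coe_set_eq]
    exact le_rfl)
  intro g hgH
  have : packG g ∈ ((L.map Prod.fst).toFinset : Set ℕ) := heq ▸ ⟨g, hgH, rfl⟩
  obtain ⟨x, hx, e⟩ := List.mem_map.1 (List.mem_toFinset.1 this)
  exact ⟨x, hx, e⟩

/-- The homomorphism given by a closed list of pairs. -/
theorem exists_hom {H' : Type*} [Group H'] (dec : β → H')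
    (hg : GensIn H (gens.map Prod.fst)) (hcard : Nat.card ↥H = n)
    (hok : enumOK mulC gens (walk (stepPair mulC gens) ops (pone, one)) n = true)
    (hone : dec one = 1)
    (hmul : ∀ x ∈ walk (stepPair mulC gens) ops (pone, one), ∀ s ∈ gens,
      dec (mulC x.2 s.2) = dec x.2 * dec s.2) :
    ∃ φ : ↥H →* H', ∀ x ∈ walk (stepPair mulC gens) ops (pone, one),
      ∃ g : ↥H, packG (g : ↥M24) = x.1 ∧ φ g = dec x.2 := by
  set L := walk (stepPair mulC gens) ops (pone, one) with hL
  have hent := exists_entry hg hcard hok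
  simp only [enumOK, Bool.and_eq_true, Nat.beq_eq, decide_eq_true_eq, List.all_eq_true,
    List.any_eq_true] at hok
  obtain ⟨⟨-, hnd⟩, hclosed⟩ := hok
  have huniq : ∀ x ∈ L, ∀ y ∈ L, x.1 = y.1 → x = y :=
    fun x hx y hy e => List.inj_on_of_nodup_map hnd hx hy e
  choose f hfL hf using fun g : ↥H => hent g g.2
  have hval : ∀ (g : ↥H), ∀ x ∈ L, x.1 = packG (g : ↥M24) → f g = x := fun g x hx e =>
    huniq _ (hfL g) x hx ((hf g).trans e.symm)
  have hone' : (pone, one) ∈ L := by
    have key : ∀ (ops : List ℕ) (step : (ℕ × β) → ℕ → (ℕ × β)) (r t : ℕ × β) (stack acc : List (ℕ × β)),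
        r ∈ acc → r ∈ walkAux step ops t stack acc := by
      intro ops step r
      induction ops with
      | nil => exact fun _ _ _ h => h
      | cons op ops ih =>
        intro t stack acc h
        cases op with
        | zero =>
          cases stack with
          | nil => exact ih _ _ _ h
          | cons a b => exact ih _ _ _ h
        | succ j => exact ih _ _ _ (List.mem_cons_of_mem _ h)
    exact key ops _ _ _ [] [(pone, one)] (List.mem_cons_self ..)
  have hf1 : f 1 = (pone, one) := hval 1 _ hone' packImage_one.symm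
  have hgenel : ∀ s ∈ gens, ∃ h : ↥H, Rep ((h : ↥M24) : Equiv.Perm GolayPt) s.1 ∧
      ∀ g : ↥H, dec (f (g * h)).2 = dec (f g).2 * dec s.2 := by
    intro s hs
    obtain ⟨h, hh, hr⟩ := hg s.1 (List.mem_map_of_mem hs)
    refine ⟨⟨h, hh⟩, hr, fun g => ?_⟩
    obtain ⟨y, hy, e1, e2⟩ : ∃ y ∈ L, y.1 = pmul (f g).1 s.1 ∧ y.2 = mulC (f g).2 s.2 := by
      obtain ⟨y, hy, e⟩ := hclosed _ (hfL g) s hs
      exact ⟨y, hy, e.1, e.2⟩
    have hp : pmul (f g).1 s.1 = packG ((g * ⟨h, hh⟩ : ↥H) : ↥M24) := by
      rw [hf g]; exact pmul_packImage (rep_packImage _) hr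
    rw [hval _ y hy (e1.trans hp), e2, hmul _ (hfL g) s hs]
  have main : ∀ x ∈ L, ∃ h : ↥H, packG (h : ↥M24) = x.1 ∧
      ∀ g : ↥H, dec (f (g * h)).2 = dec (f g).2 * dec x.2 := by
    refine walk_mem (P := fun x : ℕ × β => x ∈ L ∧ ∃ h : ↥H, packG (h : ↥M24) = x.1 ∧
      ∀ g : ↥H, dec (f (g * h)).2 = dec (f g).2 * dec x.2) ?_
      ⟨hone', 1, packImage_one, fun g => by rw [mul_one, hone, mul_one]⟩ |> fun h x hx => (h x hx).2
    rintro x j ⟨hxL, h, e, hh⟩
    unfold stepPair
    cases hj : gens[j]? with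
    | none => exact ⟨hxL, h, e, hh⟩
    | some s =>
      have hs : s ∈ gens := List.mem_of_getElem? hj
      obtain ⟨k, hk, hkm⟩ := hgenel _ hs
      obtain ⟨y, hy, e1, e2⟩ := hclosed x hxL _ hs
      have ey : y = (pmul x.1 s.1, mulC x.2 s.2) := Prod.ext e1 e2
      subst ey
      refine ⟨hy, h * k, ?_, fun g => ?_⟩
      · exact (pmul_packImage (e ▸ rep_packImage _) hk).symm
      · rw [← mul_assoc, hkm, hh, mul_assoc]
        show _ * (dec x.2 * _) = _ * dec (mulC x.2 _)
        rw [hmul x hxL _ hs]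
  let φ : ↥H →* H' :=
    { toFun := fun g => dec (f g).2
      map_one' := by show dec (f 1).2 = 1; rw [hf1, hone]
      map_mul' := fun g k => by
        obtain ⟨h, e, hh⟩ := main _ (hfL k)
        rw [hf k] at e
        have : h = k := Subtype.ext (Subtype.ext (packImage_injective e))
        subst this
        exact hh g }
  refine ⟨φ, fun x hx => ?_⟩
  obtain ⟨h, e, hh⟩ := main x hx
  refine ⟨h, e, ?_⟩
  show dec (f h).2 = dec x.2
  rw [hval h x hx e.symm]

end

end CfsgLib.Sporadic
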