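import Cfsg.Agent.Lib.Sporadic.M12Data
import Cfsg.Prelude.Def_Spor_Mathieu

/-!
# Dodecads and their stabilisers (M12, M11)
-/

set_option autoImplicit false

namespace CfsgLib.Sporadic

open Cfsg
open scoped Pointwise

/-- The mask of `Cfsg.Spor.squareDodecad`. -/
def stdD : ℕ := 340831

theorem maskOf_squareDodecad : maskOf Spor.squareDodecad = stdD := by decide +kernel

theorem squareDodecad_eq : Spor.squareDodecad = setOfMask stdD := by
  rw [← maskOf_squareDodecad, setOfMask_maskOf]

theorem stdD_mem : setOfMask stdD ∈ dodecads := by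
  rw [mem_dodecads_iff, maskOf_setOfMask (by decide)]; decide +kernel

theorem m24Gens_in : GensIn ⊤ m24Gens := gensIn_top (by decide +kernel)

set_option maxRecDepth 100000 in
theorem exists_smul_stdD {d : Finset GolayPt} (hd : d ∈ dodecads) :
    ∃ g : ↥M24, g • setOfMask stdD = d := by
  rw [mem_dodecads_iff] at hd
  obtain ⟨g, -, e⟩ := exists_smul_code m24Gens_in (ops := dodecadOps) (root := stdD)
    (by decide +kernel) (f := fun m => Nat.beq (popc m) 12) (by decide +kernel) hd.1
    (by rw [Nat.beq_eq]; exact hd.2)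
  exact ⟨g, e⟩

theorem exists_smul_dodecad {d d' : Finset GolayPt} (hd : d ∈ dodecads) (hd' : d' ∈ dodecads) :
    ∃ g : ↥M24, g • d = d' := by
  obtain ⟨g, e⟩ := exists_smul_stdD hd
  obtain ⟨g', e'⟩ := exists_smul_stdD hd'
  exact ⟨g' * g⁻¹, by rw [mul_smul, ← e, inv_smul_smul, e']⟩

theorem card_stab_dodecad {d : Finset GolayPt} (hd : d ∈ dodecads) :
    Nat.card (MulAction.stabilizer ↥M24 d) = 95040 :=
  card_stabilizer_of_orbit d dodecads (fun g => (smul_mem_dodecads' g).2 hd)
    (fun _ h => exists_smul_dodecad hd h) dodecads_ncard (by norm_num)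

theorem stab_conj (g : ↥M24) {β : Type*} [MulAction ↥M24 β] {h : ↥M24} {a : β} :
    g * h * g⁻¹ ∈ MulAction.stabilizer ↥M24 (g • a) ↔ h ∈ MulAction.stabilizer ↥M24 a := by
  simp [MulAction.mem_stabilizer_iff, mul_smul]

/-- Checks that packed permutations are in M24 and fix a mask and some points. -/
noncomputable def stabGens (gens : List ℕ) (m : ℕ) (pts : List ℕ) : Bool :=
  gens.all fun p => isAut p && Nat.beq (mimg p m) m && pts.all fun c => Nat.beq (pget p c) c

theorem stabGens_in {gens : List ℕ} {m : ℕ} {pts : List ℕ} (h : stabGens gens m pts = true) :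
    ∀ p ∈ gens, ∃ g ∈ MulAction.stabilizer ↥M24 (setOfMask m),
      Rep (g : Equiv.Perm GolayPt) p ∧ ∀ x : GolayPt, ix x ∈ pts → g • x = x := by
  intro p hp
  simp only [stabGens, List.all_eq_true, Bool.and_eq_true, Nat.beq_eq] at h
  obtain ⟨⟨h1, h2⟩, h3⟩ := h p hp
  obtain ⟨g, hg⟩ := exists_M24_elt h1
  exact ⟨g, mem_stab_mask hg h2, hg, fun x hx => mem_stab_point hg (h3 _ hx)⟩

/-- A link of a chain in the stabiliser of a mask. -/
theorem chain_link {m : ℕ} {pre : List GolayPt} {b : GolayPt} {gens ops : List ℕ}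
    (hg : stabGens gens m (pre.map ix) = true)
    (hcov : ∀ x ∈ setOfMask m, x ∉ pre →
      x ∈ setOfMask (bitmap id (walk (stepPoint gens) ops (ix b))))
    (hpre : TupleChain (MulAction.stabilizer ↥M24 (setOfMask m)) (setOfMask m : Set GolayPt) pre) :
    TupleChain (MulAction.stabilizer ↥M24 (setOfMask m)) (setOfMask m : Set GolayPt) (b :: pre) := by
  refine ⟨hpre, fun x hx hxp => ?_⟩
  let K : Subgroup ↥M24 := MulAction.stabilizer ↥M24 (setOfMask m) ⊓
    fixingSubgroup ↥M24 {c | c ∈ pre}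
  have hK : GensIn K gens := fun p hp => by
    obtain ⟨g, h1, h2, h3⟩ := stabGens_in hg p hp
    refine ⟨g, Subgroup.mem_inf.2 ⟨h1, ?_⟩, h2⟩
    rw [mem_fixingSubgroup_iff]
    exact fun c hc => h3 c (List.mem_map_of_mem hc)
  obtain ⟨g, ⟨h1, h2⟩, e⟩ := exists_smul_point hK rfl (hcov x hx hxp)
  exact ⟨g, h1, fun c hc => (mem_fixingSubgroup_iff _).1 h2 c hc, e⟩

def m12Base : List GolayPt := [some 4, some 3, some 2, some 1, some 0]

theorem m12_chain :
    TupleChain (MulAction.stabilizer ↥M24 (setOfMask stdD)) (setOfMask stdD : Set GolayPt)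
      m12Base := by
  refine chain_link (gens := m12Gens4) (ops := m12Ops4) (by decide +kernel) (by decide +kernel) ?_
  refine chain_link (gens := m12Gens3) (ops := m12Ops3) (by decide +kernel) (by decide +kernel) ?_
  refine chain_link (gens := m12Gens2) (ops := m12Ops2) (by decide +kernel) (by decide +kernel) ?_
  refine chain_link (gens := m12Gens1) (ops := m12Ops1) (by decide +kernel) (by decide +kernel) ?_
  exact chain_link (gens := m12Gens0) (ops := m12Ops0) (by decide +kernel) (by decide +kernel) trivial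

theorem smul_mem_of_stab {g : ↥M24} {s : Finset GolayPt} (hg : g • s = s) {x : GolayPt} :
    g • x ∈ s ↔ x ∈ s := by
  conv_lhs => rw [← hg]
  exact mem_smul_set g

theorem exists_map_stdD (ys : List GolayPt) (hl : ys.length = 5) (hn : ys.Nodup)
    (hy : ∀ y ∈ ys, y ∈ setOfMask stdD) :
    ∃ g ∈ MulAction.stabilizer ↥M24 (setOfMask stdD), m12Base.map (g • ·) = ys :=
  m12_chain.exists_map (fun g hg x hx => (smul_mem_of_stab hg).2 hx) ys (by rw [hl]; rfl) hn hy

/-- M12 is transitive on ordered five-element tuples of its dodecad. -/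
theorem exists_map_dodecad {d : Finset GolayPt} (hd : d ∈ dodecads) {k : ℕ} (hk : k ≤ 5)
    (x y : Fin k ↪ GolayPt) (hx : ∀ i, x i ∈ d) (hy : ∀ i, y i ∈ d) :
    ∃ g ∈ MulAction.stabilizer ↥M24 d, ∀ i, g • x i = y i := by
  obtain ⟨t, rfl⟩ := exists_smul_stdD hd
  have pad : ∀ z : Fin k ↪ GolayPt, (∀ i, z i ∈ t • setOfMask stdD) →
      ∃ g ∈ MulAction.stabilizer ↥M24 (setOfMask stdD),
        ∀ i : Fin k, t • g • m12Base.get (i.castLE (by simpa [m12Base] using hk)) = z i := by
    intro z hz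
    let z' : Fin k ↪ GolayPt := z.trans ⟨fun p => t⁻¹ • p, MulAction.injective _⟩
    let A : Finset GolayPt := Finset.univ.map z'
    have hA : A ⊆ setOfMask stdD := by
      intro p hp
      obtain ⟨i, -, rfl⟩ := Finset.mem_map.1 hp
      have := hz i
      rw [← smul_inv_smul t (z i), mem_smul_set] at this
      exact this
    obtain ⟨B, hB, hBc⟩ := Finset.exists_subset_card_eq (s := setOfMask stdD \ A) (n := 5 - k) (by
      rw [Finset.card_sdiff_of_subset hA, Finset.card_map, Finset.card_univ, Fintype.card_fin,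
        show (setOfMask stdD).card = 12 from stdD_mem.2]
      omega)
    let ys := List.ofFn z' ++ B.toList
    have hn : ys.Nodup := by
      rw [List.nodup_append]
      refine ⟨List.nodup_ofFn.2 z'.injective, B.nodup_toList, ?_⟩
      rintro a ha b hb rfl
      obtain ⟨i, rfl⟩ := (List.mem_ofFn' _ _).1 ha
      exact (Finset.mem_sdiff.1 (hB (Finset.mem_toList.1 hb))).2
        (Finset.mem_map_of_mem _ (Finset.mem_univ i))
    have hl : ys.length = 5 := by simp [ys, hBc]; omega
    obtain ⟨g, hg, e⟩ := exists_map_stdD ys hl hn fun p hp => by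
      rcases List.mem_append.1 hp with hp | hp
      · obtain ⟨i, rfl⟩ := (List.mem_ofFn' _ _).1 hp
        exact hA (Finset.mem_map_of_mem _ (Finset.mem_univ i))
      · exact (Finset.mem_sdiff.1 (hB (Finset.mem_toList.1 hp))).1
    refine ⟨g, hg, fun i => ?_⟩
    have h2 := List.getElem_of_eq e (i := i) (by simp [m12Base]; omega)
    simp only [ys, List.getElem_map] at h2
    rw [List.getElem_append_left (by simp), List.getElem_ofFn] at h2
    rw [List.get_eq_getElem]
    simp only [Fin.val_castLE]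
    rw [h2]
    exact smul_inv_smul t (z i)
  obtain ⟨g, hg, eg⟩ := pad x hx
  obtain ⟨h, hh, eh⟩ := pad y hy
  refine ⟨t * (h * g⁻¹) * t⁻¹, (stab_conj t).2 (mul_mem hh (inv_mem hg)), fun i => ?_⟩
  rw [← eg i, ← eh i]
  simp [mul_smul]

/-- `M12` is sharply five-fold transitive. -/
theorem existsUnique_map_dodecad {d : Finset GolayPt} (hd : d ∈ dodecads)
    (x y : Fin 5 ↪ GolayPt) (hx : ∀ i, x i ∈ d) (hy : ∀ i, y i ∈ d) :
    ∃! g : MulAction.stabilizer ↥M24 d, ∀ i, (g : ↥M24) • x i = y i := by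
  let Φ : MulAction.stabilizer ↥M24 d → (Fin 5 ↪ {p // p ∈ d}) := fun g =>
    ⟨fun i => ⟨(g : ↥M24) • x i, (smul_mem_of_stab g.2).2 (hx i)⟩,
      fun i j h => x.injective (MulAction.injective (g : ↥M24) (congrArg Subtype.val h))⟩
  have hsurj : Function.Surjective Φ := fun z => by
    obtain ⟨g, hg, e⟩ := exists_map_dodecad hd le_rfl x (z.trans (Function.Embedding.subtype _))
      hx (fun i => (z i).2)
    exact ⟨⟨g, hg⟩, DFunLike.ext _ _ fun i => Subtype.ext (e i)⟩
  have hbij : Function.Bijective Φ := (Nat.bijective_iff_surjective_and_card Φ).2 ⟨hsurj, by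
    rw [card_stab_dodecad hd, Nat.card_eq_fintype_card, Fintype.card_embedding_eq, Fintype.card_fin,
      Fintype.card_coe, hd.2]
    rfl⟩
  obtain ⟨g, hg, e⟩ := exists_map_dodecad hd le_rfl x y hx hy
  refine ⟨⟨g, hg⟩, e, fun g' e' => hbij.1 ?_⟩
  exact DFunLike.ext _ _ fun i => Subtype.ext ((e' i).trans (e i).symm)

theorem card_stab_dodecad_point {d : Finset GolayPt} (hd : d ∈ dodecads) {p : GolayPt}
    (hp : p ∈ d) :
    Nat.card ↥(MulAction.stabilizer ↥M24 d ⊓ MulAction.stabilizer ↥M24 p) = 7920 := by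
  have := card_eq_orbit_mul (MulAction.stabilizer ↥M24 d) p (d : Set GolayPt)
    (fun g hg => (smul_mem_of_stab hg).2 hp) fun y hy => by
      obtain ⟨g, hg, e⟩ := exists_map_dodecad hd (k := 1) (by norm_num)
        ⟨fun _ => p, fun _ _ _ => Subsingleton.elim _ _⟩
        ⟨fun _ => y, fun _ _ _ => Subsingleton.elim _ _⟩ (fun _ => hp) (fun _ => hy)
      exact ⟨g, hg, e 0⟩
  rw [card_stab_dodecad hd, Set.ncard_coe_finset, hd.2] at this
  omega

end CfsgLib.Sporadic
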