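import Cfsg.Agent.Lib.Sporadic.M11Data

/-!
# Orders and transitivity of the small Mathieu groups; M24 as automorphisms of the octads
-/

set_option autoImplicit false

namespace CfsgLib.Sporadic

open Cfsg
open scoped Pointwise

theorem exists_map_two {p q p' q' : GolayPt} (h : p ≠ q) (h' : p' ≠ q') :
    ∃ g : ↥M24, g • p = p' ∧ g • q = q' := by
  obtain ⟨g, hg⟩ := exists_map_list (xs := [p, q]) (ys := [p', q']) (by simp [h]) (by simp [h'])
    rfl (by simp)
  simp only [List.map_cons, List.map_nil, List.cons.injEq, and_true] at hg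
  exact ⟨g, hg.1, hg.2⟩

theorem exists_map_three {p q r p' q' r' : GolayPt} (h1 : p ≠ q) (h2 : p ≠ r) (h3 : q ≠ r)
    (h1' : p' ≠ q') (h2' : p' ≠ r') (h3' : q' ≠ r') :
    ∃ g : ↥M24, g • p = p' ∧ g • q = q' ∧ g • r = r' := by
  obtain ⟨g, hg⟩ := exists_map_list (xs := [p, q, r]) (ys := [p', q', r'])
    (by simp [h1, h2, h3]) (by simp [h1', h2', h3']) rfl (by simp)
  simp only [List.map_cons, List.map_nil, List.cons.injEq, and_true] at hg
  exact ⟨g, hg.1, hg.2.1, hg.2.2⟩

theorem card_stab_point (p : GolayPt) : Nat.card (MulAction.stabilizer ↥M24 p) = 10200960 :=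
  card_stabilizer_of_orbit p Set.univ (fun _ => Set.mem_univ _) (fun x _ => by
    haveI := isMultiplyPretransitive_le_five (k := 1) (by norm_num)
    obtain ⟨g, hg⟩ := exists_map_list (xs := [p]) (ys := [x]) (by simp) (by simp) rfl (by simp)
    exact ⟨g, by simpa using hg⟩)
    (show Set.univ.ncard = 24 by simp [GolayPt]) (by norm_num)

theorem card_stab_two (p q : GolayPt) (h : p ≠ q) :
    Nat.card ↥(MulAction.stabilizer ↥M24 p ⊓ MulAction.stabilizer ↥M24 q) = 443520 := by
  have := card_eq_orbit_mul (MulAction.stabilizer ↥M24 p) q ({p}ᶜ : Set GolayPt)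
    (fun g hg => by
      intro e
      exact h (MulAction.injective g ((e : g • q = p).trans hg.symm)).symm)
    (fun x hx => by
      obtain ⟨g, e1, e2⟩ := exists_map_two (p' := p) (q' := x) h (fun e => hx e.symm)
      exact ⟨g, e1, e2⟩)
  rw [card_stab_point, Set.ncard_compl, Set.ncard_singleton,
    show Nat.card GolayPt = 24 by simp [GolayPt]] at this
  omega

theorem card_stab_three (p q r : GolayPt) (hpq : p ≠ q) (hpr : p ≠ r) (hqr : q ≠ r) :
    Nat.card ↥(MulAction.stabilizer ↥M24 p ⊓ MulAction.stabilizer ↥M24 q ⊓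
      MulAction.stabilizer ↥M24 r) = 20160 := by
  have := card_eq_orbit_mul (MulAction.stabilizer ↥M24 p ⊓ MulAction.stabilizer ↥M24 q) r
    ({p, q}ᶜ : Set GolayPt)
    (fun g hg => by
      rintro (e | e)
      · exact hpr (MulAction.injective g ((e : g • r = p).trans hg.1.symm)).symm
      · exact hqr (MulAction.injective g ((e : g • r = q).trans hg.2.symm)).symm)
    (fun x hx => by
      obtain ⟨g, e1, e2, e3⟩ := exists_map_three (p' := p) (q' := q) (r' := x) hpq hpr hqr hpq
        (fun e => hx (Or.inl e.symm)) (fun e => hx (Or.inr e.symm))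
      exact ⟨g, ⟨e1, e2⟩, e3⟩)
  rw [card_stab_two p q hpq, Set.ncard_compl, Set.ncard_pair hpq,
    show Nat.card GolayPt = 24 by simp [GolayPt]] at this
  omega

theorem M24_eq_octad_aut : M24 = setSystemAut octads := by
  refine le_antisymm (fun σ hσ => ?_) (fun σ hσ => ?_)
  · show σ • octads = octads
    refine Set.eq_of_subset_of_ncard_le ?_ ?_ (Set.toFinite _)
    · rintro _ ⟨o, ho, rfl⟩; exact (smul_mem_octads hσ).2 ho
    · rw [← Set.image_smul, Set.ncard_image_of_injective _ (MulAction.injective σ)]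
  · refine mem_M24_of_rep (p := packImage σ) (rep_packImage σ) ?_
    rw [forallLt_iff]
    intro i hi
    rw [← maskOf_setOfMask (m := mimg (packImage σ) (basisMask i)) (mimg_lt (rep_packImage σ) _),
      ← smul_setOfMask (rep_packImage σ)]
    have hb : setOfMask (basisMask i) ∈ octads := by
      have : ∀ j < 12, inCode (basisMask j) = true ∧ popc (basisMask j) = 8 := by decide +kernel
      rw [mem_octads_iff, maskOf_setOfMask (inCode_lt (this i hi).1)]
      exact this i hi
    have hσ' : σ • octads = octads := hσ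
    exact (mem_octads_iff.1 (hσ' ▸ Set.smul_mem_smul_set hb)).1

/-- `M11` is transitive on ordered triples outside its dodecad. -/
theorem exists_map_compl {d : Finset GolayPt} (hd : d ∈ dodecads) {p : GolayPt} (hp : p ∈ d)
    (x y : Fin 3 ↪ GolayPt) (hx : ∀ i, x i ∉ d) (hy : ∀ i, y i ∉ d) :
    ∃ g ∈ MulAction.stabilizer ↥M24 d ⊓ MulAction.stabilizer ↥M24 p, ∀ i, g • x i = y i := by
  obtain ⟨t, rfl⟩ := exists_smul_stdD hd
  obtain ⟨u, hu, eu⟩ := exists_map_dodecad stdD_mem (k := 1) (by norm_num)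
    ⟨fun _ => some 0, fun _ _ _ => Subsingleton.elim _ _⟩
    ⟨fun _ => t⁻¹ • p, fun _ _ _ => Subsingleton.elim _ _⟩
    (fun _ => show (some 0 : GolayPt) ∈ setOfMask stdD by decide +kernel)
    (fun _ => by
      have := hp
      rwa [← smul_inv_smul t p, mem_smul_set] at this)
  have hu0 : u • (some 0 : GolayPt) = t⁻¹ • p := eu 0
  have hD : (t * u) • setOfMask stdD = t • setOfMask stdD := by
    rw [mul_smul, MulAction.mem_stabilizer_iff.1 hu]
  have hP : (t * u) • (some 0 : GolayPt) = p := by rw [mul_smul, hu0, smul_inv_smul]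
  let H : Subgroup ↥M24 :=
    MulAction.stabilizer ↥M24 (setOfMask stdD) ⊓ MulAction.stabilizer ↥M24 (some 0 : GolayPt)
  have link : ∀ (pre : List GolayPt) (b : GolayPt) (gens ops : List ℕ),
      stabGens gens stdD ((some 0 :: pre).map ix) = true →
      (∀ z : GolayPt, z ∉ setOfMask stdD → z ∉ pre →
        z ∈ setOfMask (bitmap id (walk (stepPoint gens) ops (ix b)))) →
      TupleChain H ((setOfMask stdD : Set GolayPt)ᶜ) pre →
      TupleChain H ((setOfMask stdD : Set GolayPt)ᶜ) (b :: pre) := by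
    intro pre b gens ops hg hcov hpre
    refine ⟨hpre, fun z hz hzp => ?_⟩
    have hK : GensIn (H ⊓ fixingSubgroup ↥M24 {c | c ∈ pre}) gens := fun q hq => by
      obtain ⟨g, h1, h2, h3⟩ := stabGens_in hg q hq
      refine ⟨g, Subgroup.mem_inf.2 ⟨Subgroup.mem_inf.2 ⟨h1, h3 _ (by simp)⟩, ?_⟩, h2⟩
      rw [mem_fixingSubgroup_iff]
      exact fun c hc => h3 c (by simp [List.mem_map_of_mem hc])
    obtain ⟨g, hgm, e⟩ := exists_smul_point hK rfl (hcov z hz hzp)
    exact ⟨g, (Subgroup.mem_inf.1 hgm).1,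
      fun c hc => (mem_fixingSubgroup_iff _).1 (Subgroup.mem_inf.1 hgm).2 c hc, e⟩
  have chain : TupleChain H ((setOfMask stdD : Set GolayPt)ᶜ) [some 7, some 5, none] :=
    link _ _ m11Gens2 m11Ops2 (by decide +kernel) (by decide +kernel)
      (link _ _ m11Gens1 m11Ops1 (by decide +kernel) (by decide +kernel)
        (link _ _ m11Gens0 m11Ops0 (by decide +kernel) (by decide +kernel) trivial))
  have pick : ∀ z : Fin 3 ↪ GolayPt, (∀ i, z i ∉ t • setOfMask stdD) →
      ∃ g ∈ H, ∀ i : Fin 3, (t * u) • g • [some 7, some 5, none].get i = z i := by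
    intro z hz
    obtain ⟨g, hg, e⟩ := chain.exists_map (ys := List.ofFn fun i => (t * u)⁻¹ • z i)
      (fun g hg w hw h => (Set.mem_compl_iff _ _).1 hw ((smul_mem_of_stab (Subgroup.mem_inf.1 hg).1).1 h))
      (by simp) (List.nodup_ofFn.2 ((MulAction.injective _).comp z.injective))
      (fun w hw => by
        obtain ⟨i, rfl⟩ := (List.mem_ofFn' _ _).1 hw
        intro h
        rw [Finset.mem_coe, ← mem_smul_set (t * u), hD, smul_inv_smul] at h
        exact hz i h)
    refine ⟨g, hg, fun i => ?_⟩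
    have h2 := List.getElem_of_eq e (i := i) (by simp)
    simp only [List.getElem_map, List.getElem_ofFn] at h2
    rw [List.get_eq_getElem, h2, smul_inv_smul]
  obtain ⟨g, hg, eg⟩ := pick x hx
  obtain ⟨h, hh, eh⟩ := pick y hy
  have hm := mul_mem hh (inv_mem hg)
  refine ⟨(t * u) * (h * g⁻¹) * (t * u)⁻¹, Subgroup.mem_inf.2 ⟨?_, ?_⟩, fun i => ?_⟩
  · rw [← hD]; exact (stab_conj (t * u)).2 (Subgroup.mem_inf.1 hm).1
  · have h' := (stab_conj (t * u) (a := (some 0 : GolayPt))).2 (Subgroup.mem_inf.1 hm).2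
    rwa [hP] at h'
  · rw [← eg i, ← eh i, ← mul_smul, ← mul_smul, ← mul_smul]
    congr 1
    group

end CfsgLib.Sporadic
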