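import Cfsg.Agent.Lib.Sporadic.SmallSetData
import Cfsg.Agent.Lib.Sporadic.M12
import Cfsg.Agent.Lib.Sporadic.Mathieu

/-!
# Orbits of stabilisers on duads and triads
-/

set_option autoImplicit false

namespace CfsgLib.Sporadic

open Cfsg MulAction
open scoped Pointwise

/-- `f` holds at `acc ||| m` for every mask `m` of `k` bits below `bound`. -/
noncomputable def combAll (f : ℕ → Bool) (k : ℕ) : ℕ → ℕ → Bool :=
  Nat.rec (motive := fun _ => ℕ → ℕ → Bool) (fun _ acc => f acc)
    (fun _ ih bound acc => forallLt bound (fun i => ih i (Nat.lor acc (Nat.shiftLeft 1 i)))) k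

theorem combAll_spec (f : ℕ → Bool) (k : ℕ) : ∀ bound acc, combAll f k bound acc = true →
    ∀ s : Finset GolayPt, s.card = k → (∀ x ∈ s, ix x < bound) →
      f (acc ||| maskOf s) = true := by
  induction k with
  | zero =>
    intro bound acc h s hs _
    rw [Finset.card_eq_zero.1 hs, maskOf_empty, Nat.or_zero]
    exact h
  | succ k ih =>
    intro bound acc h s hs hb
    obtain ⟨x, hx, hmax⟩ := s.exists_max_image ix (Finset.card_pos.1 (by omega))
    have h' := forallLt_elim (n := bound) (f := fun i => combAll f k i (acc ||| 1 <<< i)) h (hb x hx)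
    have := ih _ _ h' (s.erase x) (by rw [Finset.card_erase_of_mem hx, hs]; rfl) fun y hy =>
      lt_of_le_of_ne (hmax y (Finset.mem_of_mem_erase hy))
        (fun e => Finset.ne_of_mem_erase hy (ix_injective e))
    rwa [Nat.or_assoc, ← maskOf_singleton, ← maskOf_union, ← Finset.insert_eq,
      Finset.insert_erase hx] at this

/-- `f` holds at every mask of `k` bits. -/
theorem combAll_elim {f : ℕ → Bool} {k : ℕ} (h : combAll f k 24 0 = true) {s : Finset GolayPt}
    (hs : s.card = k) : f (maskOf s) = true := by
  have := combAll_spec f k 24 0 h s hs fun x _ => ix_lt x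
  rwa [Nat.zero_or] at this

/-- No entry is repeated. -/
noncomputable def distinctList (l : List ℕ) : Bool :=
  List.rec true (fun a t ih => !(t.any (Nat.beq a)) && ih) l

theorem nodup_of_distinctList : ∀ {l : List ℕ}, distinctList l = true → l.Nodup
  | [], _ => List.nodup_nil
  | a :: t, h => by
    change (!(t.any (Nat.beq a)) && distinctList t) = true at h
    rw [Bool.and_eq_true, Bool.not_eq_true', Bool.eq_false_iff, ne_eq, List.any_eq_true] at h
    exact List.nodup_cons.2 ⟨fun hm => h.1 ⟨a, hm, by rw [Nat.beq_eq]⟩, nodup_of_distinctList h.2⟩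

/-- A set listed without repetition. -/
theorem ncard_of_list {S : Set (Finset GolayPt)} {l : List ℕ} (hd : distinctList l = true)
    (hlt : ∀ v ∈ l, v < 2 ^ 24) (hin : ∀ v ∈ l, setOfMask v ∈ S) (hall : ∀ s ∈ S, maskOf s ∈ l) :
    S.ncard = l.length := by
  have hS : S = ↑(l.toFinset.image setOfMask) := by
    ext s
    simp only [Finset.coe_image, Set.mem_image, Finset.mem_coe, List.mem_toFinset]
    exact ⟨fun h => ⟨_, hall s h, setOfMask_maskOf s⟩, fun ⟨v, hv, e⟩ => e ▸ hin v hv⟩
  rw [hS, Set.ncard_coe_finset, Finset.card_image_of_injOn, List.toFinset_card_of_nodup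
    (nodup_of_distinctList hd)]
  intro a ha b hb e
  rw [Finset.mem_coe, List.mem_toFinset] at ha hb
  exact setOfMask_inj (hlt a ha) (hlt b hb) e

theorem mem_codeList {w m : ℕ} : m ∈ codeList w ↔ inCode m = true ∧ popc m = w := by
  unfold codeList
  have key : ∀ n ≤ 4096,
      (m ∈ (Nat.rec [] (fun k ih => cond (Nat.beq (popc (enc k)) w) (enc k :: ih) ih) n : List ℕ) ↔
      ∃ k < n, enc k = m ∧ popc m = w) := by
    intro n hn
    induction n with
    | zero => simp
    | succ n ih =>
      show m ∈ (cond (Nat.beq (popc (enc n)) w) (enc n :: _) _) ↔ _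
      cases hb : Nat.beq (popc (enc n)) w
      · rw [cond_false, ih (by omega)]
        constructor
        · rintro ⟨k, hk, h⟩; exact ⟨k, by omega, h⟩
        · rintro ⟨k, hk, e, h⟩
          rcases Nat.lt_succ_iff_lt_or_eq.1 hk with hk | rfl
          · exact ⟨k, hk, e, h⟩
          · rw [e, h] at hb; simp at hb
      · rw [cond_true, List.mem_cons, ih (by omega)]
        constructor
        · rintro (rfl | ⟨k, hk, h⟩)
          · exact ⟨n, by omega, rfl, Nat.eq_of_beq_eq_true hb⟩
          · exact ⟨k, by omega, h⟩
        · rintro ⟨k, hk, e, h⟩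
          rcases Nat.lt_succ_iff_lt_or_eq.1 hk with hk | rfl
          · exact Or.inr ⟨k, hk, e, h⟩
          · exact Or.inl e.symm
  rw [key 4096 le_rfl, inCode_iff]
  exact ⟨fun ⟨k, hk, e, h⟩ => ⟨⟨k, hk, e⟩, h⟩, fun ⟨⟨k, hk, e⟩, h⟩ => ⟨k, hk, e, h⟩⟩

/-- The syndromes of the masks of at most two bits. -/
def lightSyns : ℕ :=
  8159288136515418936578042479342432023383398540520441098017873005467995795143007157510888253898682115342305517796092662518145709615670678344256001132886663224803103906535388176259636100367067374904033979417530429465460543703638296906186148923620051981153390461059261774877069555114576970798022413614220256834174401041967854656575865548308632623242526454989287802844888517979158961870273991698699393757669031034739603254363995725267790375426608100559628991509310191476328398015368391791711944062110867643076416191763156160068682353049007403996930912554999564015883186454644370143365916311688766642970635531981237522430504905977477781864737583554728737132829280571664219703477316380344991168049699404765183457204821878410940224039121025829869872527865115723043340793608783844504157080332390432304757493898195694707422106534639227645772936833260199505054250023828062917613828956214047715984381426421365818669135292936025479467266485687648980148575532165573271849880708639119755647892842460605930229699099658045534596172364596216409184879795177318549351987899252021365349212523677333211938062293398335722688166822592898908751301856094144977446994208476256867356123948262492384019524823292421857962173304291618392084508873861933519279999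

set_option maxRecDepth 100000 in
theorem lightSyns_eq : synMapAux 2 24 0 = lightSyns := by decide +kernel

/-- A mask of six bits lies in an octad. -/
noncomputable def inOctad (m : ℕ) : Bool := Nat.beq (bitAt lightSyns (syn m)) 1

theorem inOctad_iff (s : Finset GolayPt) (hs : s.card = 6) :
    inOctad (maskOf s) = true ↔ ∃ o ∈ octads, s ⊆ o := by
  rw [inOctad, Nat.beq_eq, bitAt_eq]
  constructor
  · intro h
    have hbit : lightSyns.testBit (syn (maskOf s)) = true := by simpa using h
    obtain ⟨m, hm, hp, e⟩ := synMapAux_spec 2 24 0 le_rfl (by norm_num) _ (lightSyns_eq.symm ▸ hbit)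
    have hc : inCode (maskOf s ^^^ m) = true := (syn_eq_iff _ _).1 e.symm
    rw [← maskOf_setOfMask hm, ← maskOf_symmDiff] at hc
    have h0 : popc 0 = 0 := by decide +kernel
    have hm2 : (setOfMask m).card ≤ 2 := by rw [card_setOfMask]; omega
    have hcd := card_symmDiff s (setOfMask m)
    have hile := Finset.card_le_card (Finset.inter_subset_right : s ∩ setOfMask m ⊆ setOfMask m)
    have hw := card_code_support (mem_supports_iff.2 hc)
    refine ⟨symmDiff s (setOfMask m), ⟨mem_supports_iff.2 hc, by omega⟩, fun x hx => ?_⟩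
    have hdis : s ∩ setOfMask m = ∅ := Finset.card_eq_zero.1 (by omega)
    rw [Finset.mem_symmDiff]
    refine Or.inl ⟨hx, fun hxm => ?_⟩
    have : x ∈ s ∩ setOfMask m := Finset.mem_inter.2 ⟨hx, hxm⟩
    rw [hdis] at this
    exact Finset.notMem_empty x this
  · rintro ⟨o, ho, hsub⟩
    have hpair : ∀ t : Finset GolayPt, t.card = 2 → lightSyns.testBit (syn (maskOf t)) = true := by
      intro t ht
      exact combAll_elim (f := fun m => lightSyns.testBit (syn m)) (by decide +kernel) ht
    have h2 : (o \ s).card = 2 := by rw [Finset.card_sdiff_of_subset hsub, ho.2, hs]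
    have e : syn (maskOf (o \ s)) = syn (maskOf s) := by
      rw [syn_eq_iff, ← maskOf_symmDiff, ← mem_supports_iff,
        disjoint_sdiff_self_left.symmDiff_eq_sup, Finset.sup_eq_union,
        Finset.sdiff_union_of_subset hsub]
      exact ho.1
    rw [if_pos (e ▸ hpair _ h2)]

/-- A class listed by a walk from `root`. -/
noncomputable def classOK (k : ℕ) (f : ℕ → Bool) (l : List ℕ) : Bool :=
  distinctList l && l.all (fun v => Nat.beq (popc v) k && f v) &&
    combAll (fun m => !(f m) || l.any (Nat.beq m)) k 24 0

theorem class_spec {gens ops : List ℕ} {root k : ℕ} {H : Subgroup ↥M24} (hg : GensIn H gens)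
    (hroot : root < 2 ^ 24) {f : ℕ → Bool}
    (h : classOK k f (walk (stepMask gens) ops root) = true) :
    {s : Finset GolayPt | s.card = k ∧ f (maskOf s) = true}.ncard =
        (walk (stepMask gens) ops root).length ∧
      ∀ s t : Finset GolayPt, s.card = k → t.card = k → f (maskOf s) = true → f (maskOf t) = true →
        ∃ g ∈ H, g • s = t := by
  simp only [classOK, Bool.and_eq_true, List.all_eq_true, Nat.beq_eq] at h
  obtain ⟨⟨hd, hin⟩, hall⟩ := h
  have hlt := walk_lt hg ops hroot
  have mem : ∀ s : Finset GolayPt, s.card = k → f (maskOf s) = true →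
      maskOf s ∈ walk (stepMask gens) ops root := fun s hs hf => by
    have := combAll_elim hall hs
    rw [Bool.or_eq_true, Bool.not_eq_true', List.any_eq_true] at this
    rcases this with e | ⟨v, hv, e⟩
    · rw [hf] at e; simp at e
    · rwa [Nat.eq_of_beq_eq_true e]
  refine ⟨ncard_of_list hd hlt (fun v hv => ?_) (fun s hs => mem s hs.1 hs.2), fun s t hs ht fs ft => ?_⟩
  · refine ⟨?_, ?_⟩
    · rw [card_setOfMask]; exact (hin v hv).1
    · rw [maskOf_setOfMask (hlt v hv)]; exact (hin v hv).2
  · obtain ⟨a, ha, ea⟩ := walk_mask hg ops root _ (mem s hs fs)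
    obtain ⟨b, hb, eb⟩ := walk_mask hg ops root _ (mem t ht ft)
    rw [setOfMask_maskOf] at ea eb
    exact ⟨b * a⁻¹, mul_mem hb (inv_mem ha), by rw [mul_smul, ← ea, inv_smul_smul, eb]⟩

/-! ### a cheaper check of a class -/

/-- Every mask of `k` further bits below `bound`. -/
noncomputable def combList (k : ℕ) : ℕ → ℕ → List ℕ :=
  Nat.rec (motive := fun _ => ℕ → ℕ → List ℕ) (fun _ acc => [acc])
    (fun _ ih bound acc =>
      Nat.rec [] (fun i r => ih i (Nat.lor acc (Nat.shiftLeft 1 i)) ++ r) bound) k

theorem combAll_of_list (f : ℕ → Bool) (k : ℕ) :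
    ∀ bound acc, (∀ m ∈ combList k bound acc, f m = true) → combAll f k bound acc = true := by
  induction k with
  | zero => intro bound acc h; exact h acc (List.mem_singleton_self acc)
  | succ k ih =>
    intro bound
    induction bound with
    | zero => intro acc _; rfl
    | succ b ihb =>
      intro acc h
      show (combAll f k b (Nat.lor acc (Nat.shiftLeft 1 b)) && combAll f (k + 1) b acc) = true
      rw [ih b _ fun m hm => h m (List.mem_append_left _ hm),
        ihb acc fun m hm => h m (List.mem_append_right _ hm)]
      rfl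

/-- A set of three points has a number below 43399, and only one. -/
noncomputable def triKey (m : ℕ) : ℕ := Nat.mod m 43399

/-- No two entries have the same number. -/
noncomputable def keysDistinct : List ℕ → ℕ → Bool
  | [], _ => true
  | v :: t, seen => cond (Nat.beq (bitAt seen (triKey v)) 1) false
      (keysDistinct t (Nat.lor seen (Nat.shiftLeft 1 (triKey v))))

theorem keysDistinct_spec : ∀ (l : List ℕ) (seen : ℕ), keysDistinct l seen = true →
    l.Nodup ∧ ∀ v ∈ l, seen.testBit (triKey v) = false
  | [], _, _ => ⟨List.nodup_nil, fun _ h => absurd h List.not_mem_nil⟩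
  | v :: t, seen, h => by
    rw [keysDistinct] at h
    cases hb : Nat.beq (bitAt seen (triKey v)) 1 <;> rw [hb] at h
    · obtain ⟨h1, h2⟩ := keysDistinct_spec t _ h
      have hlor : ∀ i, (Nat.lor seen (Nat.shiftLeft 1 (triKey v))).testBit i =
          (seen.testBit i || decide (triKey v = i)) := fun i => by
        show (seen ||| 1 <<< triKey v).testBit i = _
        rw [Nat.testBit_or, Nat.one_shiftLeft, Nat.testBit_two_pow]
      refine ⟨List.nodup_cons.2 ⟨fun hm => ?_, h1⟩, fun w hw => ?_⟩
      · have := h2 v hm
        simp [hlor] at this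
      · rcases List.mem_cons.1 hw with rfl | hw
        · cases e : seen.testBit (triKey w)
          · rfl
          · rw [bitAt_eq, e] at hb
            simp at hb
        · have := h2 w hw
          rw [hlor, Bool.or_eq_false_iff] at this
          exact this.1
    · simp at h

theorem distinctList_of_nodup : ∀ {l : List ℕ}, l.Nodup → distinctList l = true
  | [], _ => rfl
  | a :: t, h => by
    rw [List.nodup_cons] at h
    show (!(t.any (Nat.beq a)) && distinctList t) = true
    rw [distinctList_of_nodup h.2, Bool.and_true, Bool.not_eq_true', Bool.eq_false_iff, ne_eq,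
      List.any_eq_true]
    rintro ⟨b, hb, e⟩
    exact h.1 (by rwa [Nat.eq_of_beq_eq_true e])

/-- The class check by counting: distinct members, and no more sets in the class than members. -/
noncomputable def classFast (k : ℕ) (f : ℕ → Bool) (l : List ℕ) : Bool :=
  keysDistinct l 0 && (l.all (fun v => Nat.beq (popc v) k && (Nat.blt v 16777216 && f v)) &&
    Nat.ble ((combList k 24 0).filter f).length l.length)

theorem classOK_of_fast {k : ℕ} {f : ℕ → Bool} {l : List ℕ} (h : classFast k f l = true) :
    classOK k f l = true := by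
  simp only [classFast, Bool.and_eq_true, List.all_eq_true, Nat.beq_eq, Nat.blt_eq, Nat.ble_eq] at h
  obtain ⟨hk, hin, hle⟩ := h
  have hnd := (keysDistinct_spec l 0 hk).1
  have hmem : ∀ v ∈ l, v ∈ (combList k 24 0).filter f := fun v hv => by
    obtain ⟨hp, hlt, hf⟩ := hin v hv
    have hlt' : v < 2 ^ 24 := by omega
    have hc := combAll_elim (f := fun m => decide (m ∈ combList k 24 0))
      (combAll_of_list _ k 24 0 fun m hm => decide_eq_true hm) (s := setOfMask v)
      (by rw [card_setOfMask]; exact hp)
    rw [maskOf_setOfMask hlt'] at hc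
    exact List.mem_filter.2 ⟨of_decide_eq_true hc, hf⟩
  have hperm : ∀ m ∈ (combList k 24 0).filter f, m ∈ l := fun m hm =>
    ((List.subperm_of_subset hnd hmem).perm_of_length_le hle).mem_iff.2 hm
  simp only [classOK, Bool.and_eq_true, List.all_eq_true, Nat.beq_eq]
  refine ⟨⟨distinctList_of_nodup hnd, fun v hv => ⟨(hin v hv).1, (hin v hv).2.2⟩⟩,
    combAll_of_list _ k 24 0 fun m hm => ?_⟩
  cases hf : f m
  · rfl
  · rw [Bool.not_true, Bool.false_or, List.any_eq_true]
    exact ⟨m, hperm m (List.mem_filter.2 ⟨hm, hf⟩), by rw [Nat.beq_eq]⟩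

def stdTriad : ℕ := 8388611
def stdDuad : ℕ := 6
/-- The two fixed points of M22. -/
def m22Fixed : ℕ := 8388609

noncomputable def triadClass (inside : Bool) (m : ℕ) : Bool :=
  Nat.beq (Nat.land m stdTriad) 0 && (inOctad (Nat.lor stdTriad m) == inside)

noncomputable def duadClass (inside : Bool) (m : ℕ) : Bool :=
  Nat.beq (Nat.land m (Nat.lor stdDuad m22Fixed)) 0 &&
    (inOctad (Nat.lor (Nat.lor m22Fixed stdDuad) m) == inside)

set_option maxRecDepth 100000

theorem triadIn_ok : classOK 3 (triadClass true)
    (walk (stepMask triadGens) triadInOps triadInRoot) = true := classOK_of_fast (by decide +kernel)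
theorem triadOut_ok : classOK 3 (triadClass false)
    (walk (stepMask triadGens) triadOutOps triadOutRoot) = true := classOK_of_fast (by decide +kernel)
theorem duadIn_ok : classOK 2 (duadClass true)
    (walk (stepMask duadGens) duadInOps duadInRoot) = true := by decide +kernel
theorem duadOut_ok : classOK 2 (duadClass false)
    (walk (stepMask duadGens) duadOutOps duadOutRoot) = true := by decide +kernel

theorem triadIn_length : (walk (stepMask triadGens) triadInOps triadInRoot).length = 210 := by
  decide +kernel
theorem triadOut_length : (walk (stepMask triadGens) triadOutOps triadOutRoot).length = 1120 := by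
  decide +kernel
theorem duadIn_length : (walk (stepMask duadGens) duadInOps duadInRoot).length = 30 := by
  decide +kernel
theorem duadOut_length : (walk (stepMask duadGens) duadOutOps duadOutRoot).length = 160 := by
  decide +kernel

/-- Sets in small union are conjugate when they meet equally. -/
theorem exists_smul_two_sets {A B C D : Finset GolayPt} (hA : A.card = C.card) (hB : B.card = D.card)
    (hi : (A ∩ B).card = (C ∩ D).card) (h5 : (A ∪ B).card ≤ 5) :
    ∃ g : ↥M24, g • A = C ∧ g • B = D := by
  have e1 := Finset.card_sdiff_add_card_inter A B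
  have e2 := Finset.card_sdiff_add_card_inter C D
  have e3 := Finset.card_sdiff_add_card_inter B A
  have e4 := Finset.card_sdiff_add_card_inter D C
  rw [Finset.inter_comm B A] at e3
  rw [Finset.inter_comm D C] at e4
  have hn : ∀ P Q : Finset GolayPt, ((P \ Q).toList ++ (P ∩ Q).toList ++ (Q \ P).toList).Nodup := by
    intro P Q
    simp only [List.nodup_append, Finset.nodup_toList, List.mem_append, Finset.mem_toList,
      Finset.mem_sdiff, Finset.mem_inter, true_and]
    refine ⟨?_, ?_⟩
    · rintro a ⟨-, h⟩ b ⟨-, h'⟩ rfl; exact h h'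
    · rintro a (⟨h, -⟩ | ⟨h, -⟩) b ⟨-, h'⟩ rfl <;> exact h' h
  obtain ⟨g, hg⟩ := exists_map_list (hn A B) (hn C D) (by simp; omega) (by
    have hcu : (A ∪ B).card = (A \ B).card + B.card := by
      rw [← Finset.card_union_of_disjoint disjoint_sdiff_self_left, Finset.sdiff_union_self_eq_union]
    rw [hcu] at h5
    simp
    omega)
  simp only [List.map_append, List.append_assoc] at hg
  obtain ⟨g1, hg'⟩ := List.append_inj hg (by simp; omega)
  obtain ⟨g2, g3⟩ := List.append_inj hg' (by simp; omega)
  have tr : ∀ P R : Finset GolayPt, P.toList.map (g • ·) = R.toList → g • P = R := by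
    intro P R h
    ext z
    obtain ⟨w, rfl⟩ : ∃ w, z = g • w := ⟨_, (smul_inv_smul g z).symm⟩
    rw [mem_smul_set, ← Finset.mem_toList (s := R), ← h,
      List.mem_map_of_injective (MulAction.injective g), Finset.mem_toList]
  have un : ∀ P Q : Finset GolayPt, g • (P ∪ Q) = g • P ∪ g • Q := fun P Q =>
    Finset.smul_finset_union (a := (g : Equiv.Perm GolayPt))
  refine ⟨g, ?_, ?_⟩
  · rw [← Finset.sdiff_union_inter A B, un, tr _ _ g1, tr _ _ g2, Finset.sdiff_union_inter]
  · rw [← Finset.sdiff_union_inter B A, un, tr _ _ g3, Finset.inter_comm B A, tr _ _ g2,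
      Finset.inter_comm C D, Finset.sdiff_union_inter]

theorem exists_smul_triad_stab {T U U' : Finset GolayPt} (hT : T.card = 3) (hU : U.card = 3)
    (hU' : U'.card = 3) (hd : Disjoint T U) (hd' : Disjoint T U')
    (h : (∃ o ∈ octads, T ∪ U ⊆ o) ↔ ∃ o ∈ octads, T ∪ U' ⊆ o) :
    ∃ g : ↥M24, g • T = T ∧ g • U = U' := by
  obtain ⟨t, rfl⟩ := exists_smul_set (s := setOfMask stdTriad) (t := T)
    (by rw [hT]; decide +kernel) (by decide +kernel)
  obtain ⟨u, rfl⟩ : ∃ u, U = t • u := ⟨_, (smul_inv_smul t U).symm⟩
  obtain ⟨u', rfl⟩ : ∃ u', U' = t • u' := ⟨_, (smul_inv_smul t U').symm⟩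
  rw [card_smul_set] at hU hU'
  rw [disjoint_smul_set] at hd hd'
  have hdu := hd
  have hdu' := hd'
  rw [disjoint_iff_land, maskOf_setOfMask (by decide), Nat.and_comm] at hd hd'
  have hoct : ∀ w : Finset GolayPt, Disjoint (setOfMask stdTriad) w → w.card = 3 → ((∃ o ∈ octads, t • setOfMask stdTriad ∪ t • w ⊆ o) ↔
      inOctad (stdTriad ||| maskOf w) = true) := by
    intro w hdw hw'
    have e : maskOf (setOfMask stdTriad ∪ w) = stdTriad ||| maskOf w := by
      rw [maskOf_union, maskOf_setOfMask (by decide)]
    rw [← e, inOctad_iff _ (by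
      rw [Finset.card_union_of_disjoint hdw, hw', show (setOfMask stdTriad).card = 3 by decide +kernel])]
    have un : t • (setOfMask stdTriad ∪ w) = t • setOfMask stdTriad ∪ t • w :=
      Finset.smul_finset_union (a := (t : Equiv.Perm GolayPt))
    rw [← un]
    constructor
    · rintro ⟨o, ho, hs⟩
      obtain ⟨o', rfl⟩ : ∃ o', o = t • o' := ⟨_, (smul_inv_smul t o).symm⟩
      exact ⟨o', (smul_mem_octads' t).1 ho, (smul_set_subset t).1 hs⟩
    · rintro ⟨o, ho, hs⟩
      exact ⟨t • o, (smul_mem_octads' t).2 ho, (smul_set_subset t).2 hs⟩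
  rw [hoct u hdu hU, hoct u' hdu' hU', ← Bool.eq_iff_iff] at h
  have hg : GensIn (stabilizer ↥M24 (setOfMask stdTriad)) triadGens := fun p hp => by
    obtain ⟨g, h1, h2, -⟩ := stabGens_in (gens := triadGens) (m := stdTriad) (pts := []) (by decide +kernel) p hp
    exact ⟨g, h1, h2⟩
  have mk : ∀ w : Finset GolayPt, maskOf w &&& stdTriad = 0 →
      triadClass (inOctad (stdTriad ||| maskOf w)) (maskOf w) = true := fun w hw => by
    rw [triadClass, Bool.and_eq_true, Nat.beq_eq]
    exact ⟨hw, beq_self_eq_true _⟩
  have hu := mk u hd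
  have hu' := mk u' hd'
  rw [← h] at hu'
  suffices ∃ g ∈ stabilizer ↥M24 (setOfMask stdTriad), g • u = u' by
    obtain ⟨g, hg1, hg2⟩ := this
    exact ⟨t * g * t⁻¹, by rw [mul_smul, mul_smul, inv_smul_smul, hg1],
      by rw [mul_smul, mul_smul, inv_smul_smul, hg2]⟩
  cases hb : inOctad (stdTriad ||| maskOf u) <;> rw [hb] at hu hu'
  · exact (class_spec hg (by decide) triadOut_ok).2 u u' hU hU' hu hu'
  · exact (class_spec hg (by decide) triadIn_ok).2 u u' hU hU' hu hu'

end CfsgLib.Sporadic
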