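import Cfsg.Agent.Lib.Sporadic.QuartetData
import Cfsg.Agent.Lib.Sporadic.SmallSets
import Cfsg.Agent.Lib.Sporadic.PermList

/-!
# Quartets of a dodecad
-/

set_option autoImplicit false

namespace CfsgLib.Sporadic

open Cfsg MulAction
open scoped Pointwise

/-- A six-element subset of a dodecad lying in an octad is a hexad. -/
theorem hexadsOn_iff {d h : Finset GolayPt} (hd : d ∈ dodecads) (h6 : h.card = 6) (hsub : h ⊆ d) :
    h ∈ hexadsOn d ↔ ∃ o ∈ octads, h ⊆ o := by
  constructor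
  · rintro ⟨-, o, ho, e⟩
    exact ⟨o, ho, e ▸ Finset.inter_subset_left⟩
  · rintro ⟨o, ho, hs⟩
    refine ⟨h6, o, ho, (Finset.eq_of_subset_of_card_le (Finset.subset_inter hs hsub) ?_).symm⟩
    have hcode : inCode (maskOf (symmDiff o d)) = true := by
      rw [maskOf_symmDiff]
      exact inCode_xor (mem_supports_iff.1 ho.1) (mem_supports_iff.1 hd.1)
    have hw := card_code_support (mem_supports_iff.2 hcode)
    have hc := card_symmDiff o d
    have hle := Finset.card_le_card (Finset.inter_subset_left : o ∩ d ⊆ o)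
    have := Finset.card_le_card (Finset.subset_inter hs hsub)
    rw [ho.2] at hc hle
    rw [hd.2] at hc
    omega

theorem mem_quartets_smul (g : ↥M24) {d : Finset GolayPt} {Q : Finset (Finset GolayPt)} :
    g • Q ∈ quartets (g • d) ↔ Q ∈ quartets d := by
  have key : ∀ (g : ↥M24) (d : Finset GolayPt) (Q : Finset (Finset GolayPt)),
      Q ∈ quartets d → g • Q ∈ quartets (g • d) := by
    rintro g d Q ⟨h1, h2, h3⟩
    refine ⟨by rw [Finset.card_smul_finset, h1], fun t ht => ?_, fun t ht u hu hne => ?_⟩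
    · obtain ⟨a, ha, rfl⟩ := Finset.mem_smul_finset.1 ht
      exact ⟨(card_smul_set g a).trans (h2 a ha).1, (smul_set_subset g).2 (h2 a ha).2⟩
    · obtain ⟨a, ha, rfl⟩ := Finset.mem_smul_finset.1 ht
      obtain ⟨b, hb, rfl⟩ := Finset.mem_smul_finset.1 hu
      obtain ⟨hc, o, ho, e⟩ := h3 a ha b hb fun e => hne (e ▸ rfl)
      have hun : g • (a ∪ b) = g • a ∪ g • b := Finset.smul_finset_union (a := (g : Equiv.Perm GolayPt))
      refine ⟨?_, g • o, (smul_mem_octads' g).2 ho, ?_⟩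
      · rw [← hun, card_smul_set, hc]
      · rw [← smul_inter', e, hun]
  refine ⟨fun h => ?_, key g d Q⟩
  have := key g⁻¹ _ _ h
  rwa [inv_smul_smul, inv_smul_smul] at this

/-- The masks lie in an octad together and are disjoint. -/
noncomputable def adjM (a b : ℕ) : Bool := Nat.beq (Nat.land a b) 0 && inOctad (Nat.lor a b)

noncomputable def hasM (q : List ℕ) (u : ℕ) : Bool := q.any (Nat.beq u)

theorem hasM_iff {q : List ℕ} {u : ℕ} : hasM q u = true ↔ u ∈ q := by
  rw [hasM, List.any_eq_true]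
  exact ⟨fun ⟨x, hx, e⟩ => Nat.eq_of_beq_eq_true e ▸ hx, fun h => ⟨u, h, Nat.beq_refl u⟩⟩

def toQ (q : List ℕ) : Finset (Finset GolayPt) := q.toFinset.image setOfMask

noncomputable def trisOK : Bool :=
  quartetTris.all (fun v => Nat.beq (popc v) 3 && Nat.beq (Nat.land v stdD) v && Nat.blt v 16777216) &&
    combAll (fun m => !(Nat.beq (Nat.land m stdD) m) || hasM quartetTris m) 3 24 0

noncomputable def beqList (a b : List ℕ) : Bool :=
  List.rec (fun b => b.isEmpty) (fun x _ ih b => match b with | [] => false | y :: t => Nat.beq x y && ih t) a b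

noncomputable def nbrsOK : Bool :=
  decide (quartetNbrs.map Prod.fst = quartetTris) &&
    quartetNbrs.all fun p => decide (quartetTris.filter (adjM p.1) = p.2)

noncomputable def quartOK : Bool :=
  quartetList.all fun q => Nat.beq q.length 4 && decide q.Nodup && q.all (hasM quartetTris) &&
    q.all (fun a => q.all fun b => Nat.beq a b || adjM a b) &&
    quartetList.all fun q' => !(q.all (hasM q')) || decide (q = q')

noncomputable def pairOK : Bool :=
  quartetNbrs.all fun p => let Lt := quartetList.filter (hasM · p.1)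
    p.2.all fun u => let C := Lt.filter (hasM · u)
      Nat.beq C.length 1 && C.all fun q => p.2.all fun v => !(adjM u v) || hasM q v

set_option maxRecDepth 100000 in
theorem tris_ok : trisOK = true := by decide +kernel
set_option maxRecDepth 100000 in
theorem nbrs_ok : nbrsOK = true := by decide +kernel
set_option maxRecDepth 100000 in
theorem quart_ok : quartOK = true := by decide +kernel
set_option maxRecDepth 100000 in
theorem pair_ok : pairOK = true := by decide +kernel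

theorem tris_spec {v : ℕ} (hv : v ∈ quartetTris) :
    popc v = 3 ∧ v &&& stdD = v ∧ v < 2 ^ 24 := by
  have h := tris_ok
  simp only [trisOK, Bool.and_eq_true, List.all_eq_true, Nat.beq_eq, Nat.blt_eq] at h
  exact ⟨(h.1 v hv).1.1, (h.1 v hv).1.2, (h.1 v hv).2⟩

theorem tris_mem {s : Finset GolayPt} (hs : s.card = 3) (hd : s ⊆ setOfMask stdD) :
    maskOf s ∈ quartetTris := by
  have h := tris_ok
  rw [trisOK, Bool.and_eq_true] at h
  have := combAll_elim h.2 hs
  rw [subset_iff_land, maskOf_setOfMask (by decide)] at hd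
  simp only [Bool.or_eq_true, Bool.not_eq_true', Bool.eq_false_iff, ne_eq, Nat.beq_eq] at this
  exact hasM_iff.1 (this.resolve_left fun h => h hd)

theorem tris_sub {v : ℕ} (hv : v ∈ quartetTris) :
    (setOfMask v).card = 3 ∧ setOfMask v ⊆ setOfMask stdD := by
  obtain ⟨h1, h2, h3⟩ := tris_spec hv
  exact ⟨by rw [card_setOfMask, h1], by rw [subset_iff_land, maskOf_setOfMask h3, maskOf_setOfMask (by decide), h2]⟩

theorem adjM_iff {t u : Finset GolayPt} (ht : t.card = 3) (hu : u.card = 3)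
    (htd : t ⊆ setOfMask stdD) (hud : u ⊆ setOfMask stdD) :
    adjM (maskOf t) (maskOf u) = true ↔ t ∪ u ∈ hexadsOn (setOfMask stdD) := by
  rw [adjM, Bool.and_eq_true, Nat.beq_eq]
  show (maskOf t &&& maskOf u = 0 ∧ inOctad (maskOf t ||| maskOf u) = true) ↔ _
  rw [← disjoint_iff_land, ← maskOf_union]
  constructor
  · rintro ⟨hd, ho⟩
    have h6 : (t ∪ u).card = 6 := by rw [Finset.card_union_of_disjoint hd, ht, hu]
    exact (hexadsOn_iff stdD_mem h6 (Finset.union_subset htd hud)).2 ((inOctad_iff _ h6).1 ho)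
  · intro h
    have h6 := h.1
    refine ⟨?_, (inOctad_iff _ h6).2 ((hexadsOn_iff stdD_mem h6 (Finset.union_subset htd hud)).1 h)⟩
    rw [Finset.disjoint_iff_inter_eq_empty, ← Finset.card_eq_zero]
    have := Finset.card_union_add_card_inter t u
    omega

theorem mem_toQ {q : List ℕ} {s : Finset GolayPt} (hq : ∀ v ∈ q, v < 2 ^ 24) :
    s ∈ toQ q ↔ maskOf s ∈ q := by
  simp only [toQ, Finset.mem_image, List.mem_toFinset]
  exact ⟨fun ⟨v, hv, e⟩ => by rw [← e, maskOf_setOfMask (hq v hv)]; exact hv,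
    fun h => ⟨_, h, setOfMask_maskOf s⟩⟩

theorem list_spec {q : List ℕ} (hq : q ∈ quartetList) :
    q.length = 4 ∧ q.Nodup ∧ (∀ a ∈ q, a ∈ quartetTris) ∧
      (∀ a ∈ q, ∀ b ∈ q, a = b ∨ adjM a b = true) ∧
      ∀ q' ∈ quartetList, (∀ a ∈ q, a ∈ q') → q = q' := by
  have h := quart_ok
  simp only [quartOK, List.all_eq_true] at h
  have h' := h q hq
  simp only [Bool.and_eq_true, List.all_eq_true, Nat.beq_eq, decide_eq_true_eq, Bool.or_eq_true,
    hasM_iff] at h'
  obtain ⟨⟨⟨⟨h1, h2⟩, h3⟩, h4⟩, h5⟩ := h'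
  refine ⟨h1, h2, h3, h4, fun q' hq' hall => (h5 q' hq').resolve_left ?_⟩
  simp only [Bool.not_eq_true', Bool.eq_false_iff, ne_eq, not_not, List.all_eq_true, hasM_iff]
  exact hall

theorem list_lt {q : List ℕ} (hq : q ∈ quartetList) : ∀ v ∈ q, v < 2 ^ 24 := fun v hv =>
  (tris_spec ((list_spec hq).2.2.1 v hv)).2.2

theorem card_toQ {q : List ℕ} (hl : q.length = 4) (hn : q.Nodup) (hlt : ∀ v ∈ q, v < 2 ^ 24) :
    (toQ q).card = 4 := by
  rw [toQ, Finset.card_image_of_injOn, List.toFinset_card_of_nodup hn, hl]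
  intro a ha b hb e
  rw [Finset.mem_coe, List.mem_toFinset] at ha hb
  exact setOfMask_inj (hlt a ha) (hlt b hb) e

theorem toQ_mem {q : List ℕ} (hq : q ∈ quartetList) : toQ q ∈ quartets (setOfMask stdD) := by
  obtain ⟨h1, h2, h3, h4, -⟩ := list_spec hq
  refine ⟨card_toQ h1 h2 (list_lt hq), fun t ht => ?_, fun t ht u hu hne => ?_⟩
  · rw [mem_toQ (list_lt hq)] at ht
    rw [← setOfMask_maskOf t]
    exact tris_sub (h3 _ ht)
  · rw [mem_toQ (list_lt hq)] at ht hu
    have a := tris_sub (h3 _ ht)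
    have b := tris_sub (h3 _ hu)
    rw [setOfMask_maskOf] at a b
    rcases h4 _ ht _ hu with e | e
    · exact absurd (maskOf_injective e) hne
    · exact (adjM_iff a.1 b.1 a.2 b.2).1 e

/-- Two triples of a hexad determine a listed quartet. -/
theorem exists_quartet {t u : Finset GolayPt} (ht : t.card = 3) (hu : u.card = 3)
    (htd : t ⊆ setOfMask stdD) (hud : u ⊆ setOfMask stdD) (hh : t ∪ u ∈ hexadsOn (setOfMask stdD)) :
    ∃ q ∈ quartetList, (t ∈ toQ q ∧ u ∈ toQ q) ∧
      ∀ Q ∈ quartets (setOfMask stdD), t ∈ Q → u ∈ Q → Q = toQ q := by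
  have hadj := (adjM_iff ht hu htd hud).2 hh
  have hn := nbrs_ok
  simp only [nbrsOK, Bool.and_eq_true, decide_eq_true_eq, List.all_eq_true] at hn
  obtain ⟨p, hp, e⟩ := List.mem_map.1 (hn.1 ▸ tris_mem ht htd : maskOf t ∈ quartetNbrs.map Prod.fst)
  have hp2 : ∀ w, w ∈ p.2 ↔ w ∈ quartetTris ∧ adjM (maskOf t) w = true := fun w => by
    rw [← hn.2 p hp, List.mem_filter, e]
  have h := pair_ok
  simp only [pairOK, List.all_eq_true] at h
  have h' := h p hp (maskOf u) ((hp2 _).2 ⟨tris_mem hu hud, hadj⟩)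
  simp only [Bool.and_eq_true, Nat.beq_eq, List.all_eq_true, Bool.or_eq_true, Bool.not_eq_true',
    hasM_iff] at h'
  obtain ⟨hl, hall⟩ := h'
  obtain ⟨q, hq⟩ := List.length_eq_one_iff.1 hl
  have hmem : q ∈ quartetList ∧ maskOf t ∈ q ∧ maskOf u ∈ q := by
    have h0 := List.mem_singleton_self q
    rw [← hq, List.mem_filter, List.mem_filter, hasM_iff, hasM_iff, e] at h0
    exact ⟨h0.1.1, h0.1.2, h0.2⟩
  refine ⟨q, hmem.1, ⟨(mem_toQ (list_lt hmem.1)).2 hmem.2.1, (mem_toQ (list_lt hmem.1)).2 hmem.2.2⟩,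
    fun Q hQ htQ huQ => ?_⟩
  refine Finset.eq_of_subset_of_card_le (fun x hx => (mem_toQ (list_lt hmem.1)).2 ?_) ?_
  · by_cases ext : x = t
    · exact ext ▸ hmem.2.1
    by_cases exu : x = u
    · exact exu ▸ hmem.2.2
    obtain ⟨hx3, hxd⟩ := hQ.2.1 x hx
    have a1 : adjM (maskOf t) (maskOf x) = true :=
      (adjM_iff ht hx3 htd hxd).2 (hQ.2.2 t htQ x hx (Ne.symm ext))
    have a2 : adjM (maskOf u) (maskOf x) = true :=
      (adjM_iff hu hx3 hud hxd).2 (hQ.2.2 u huQ x hx (Ne.symm exu))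
    rcases hall q (hq ▸ List.mem_singleton_self q) (maskOf x) ((hp2 _).2 ⟨tris_mem hx3 hxd, a1⟩) with h | h
    · rw [a2] at h; cases h
    · exact h
  · obtain ⟨h1, h2, -⟩ := list_spec hmem.1
    rw [hQ.1, card_toQ h1 h2 (list_lt hmem.1)]

theorem mem_quartets_std {Q : Finset (Finset GolayPt)} :
    Q ∈ quartets (setOfMask stdD) ↔ ∃ q ∈ quartetList, toQ q = Q := by
  refine ⟨fun h => ?_, fun ⟨q, hq, e⟩ => e ▸ toQ_mem hq⟩
  obtain ⟨t, ht, u, hu, hne⟩ := Finset.one_lt_card.1 (by rw [h.1]; norm_num : 1 < Q.card)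
  obtain ⟨q, hq, -, huniq⟩ := exists_quartet (h.2.1 t ht).1 (h.2.1 u hu).1 (h.2.1 t ht).2 (h.2.1 u hu).2
    (h.2.2 t ht u hu hne)
  exact ⟨q, hq, (huniq Q h ht hu).symm⟩

theorem existsUnique_quartet {d t u : Finset GolayPt} (hd : d ∈ dodecads) (ht : t.card = 3)
    (hu : u.card = 3) (hh : t ∪ u ∈ hexadsOn d) :
    ∃! Q : Finset (Finset GolayPt), Q ∈ quartets d ∧ t ∈ Q ∧ u ∈ Q := by
  obtain ⟨g, rfl⟩ := exists_smul_stdD hd
  obtain ⟨a, rfl⟩ : ∃ a, t = g • a := ⟨_, (smul_inv_smul g t).symm⟩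
  obtain ⟨b, rfl⟩ : ∃ b, u = g • b := ⟨_, (smul_inv_smul g u).symm⟩
  rw [card_smul_set] at ht hu
  have hun : g • (a ∪ b) = g • a ∪ g • b := Finset.smul_finset_union (a := (g : Equiv.Perm GolayPt))
  obtain ⟨hc, o, ho, e⟩ := hh
  rw [← hun] at e hc
  rw [card_smul_set] at hc
  obtain ⟨o', rfl⟩ : ∃ o', o = g • o' := ⟨_, (smul_inv_smul g o).symm⟩
  rw [← smul_inter', smul_left_cancel_iff] at e
  have hsub : a ∪ b ⊆ setOfMask stdD := e ▸ Finset.inter_subset_right
  rw [Finset.union_subset_iff] at hsub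
  obtain ⟨q, hq, ⟨h1, h2⟩, huniq⟩ := exists_quartet ht hu hsub.1 hsub.2
    ⟨hc, o', (smul_mem_octads' g).1 ho, e⟩
  refine ⟨g • toQ q, ⟨(mem_quartets_smul g).2 (toQ_mem hq), Finset.smul_mem_smul_finset h1,
    Finset.smul_mem_smul_finset h2⟩, ?_⟩
  rintro Q ⟨hQ, hta, hub⟩
  obtain ⟨Q', rfl⟩ : ∃ Q', Q = g • Q' := ⟨_, (smul_inv_smul g Q).symm⟩
  rw [Finset.smul_mem_smul_finset_iff] at hta hub
  rw [huniq Q' ((mem_quartets_smul g).1 hQ) hta hub]

theorem quartets_ncard {d : Finset GolayPt} (hd : d ∈ dodecads) : (quartets d).ncard = 220 := by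
  obtain ⟨g, rfl⟩ := exists_smul_stdD hd
  have hlen : quartetList.length = 220 ∧ quartetList.Nodup := by decide +kernel
  have e : quartets (setOfMask stdD) = ↑(quartetList.toFinset.image toQ) := by
    ext Q
    simp only [Finset.coe_image, Set.mem_image, Finset.mem_coe, List.mem_toFinset, mem_quartets_std]
  have : quartets (g • setOfMask stdD) = (fun Q => g • Q) '' quartets (setOfMask stdD) := by
    ext Q
    exact ⟨fun h => ⟨g⁻¹ • Q, (mem_quartets_smul g).1 (by rwa [smul_inv_smul]), smul_inv_smul g Q⟩,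
      fun ⟨Q', h, e⟩ => e ▸ (mem_quartets_smul g).2 h⟩
  rw [this, Set.ncard_image_of_injective _ (MulAction.injective g), e, Set.ncard_coe_finset,
    Finset.card_image_of_injOn, List.toFinset_card_of_nodup hlen.2, hlen.1]
  intro a ha b hb eab
  rw [Finset.mem_coe, List.mem_toFinset] at ha hb
  refine (list_spec ha).2.2.2.2 b hb fun x hx => ?_
  have : setOfMask x ∈ toQ b := eab ▸ Finset.mem_image_of_mem _ (List.mem_toFinset.2 hx)
  rw [mem_toQ (list_lt hb), maskOf_setOfMask (list_lt ha x hx)] at this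
  exact this

/-! ### the action of M12 -/

noncomputable def stepQ (gens : List ℕ) (v : List ℕ) (j : ℕ) : List ℕ :=
  v.map (mimg (gens.getD j pone))

theorem walk_quartet {H : Subgroup ↥M24} {gens : List ℕ} (hg : GensIn H gens) (ops root : List ℕ)
    (hroot : ∀ v ∈ root, v < 2 ^ 24) :
    ∀ w ∈ walk (stepQ gens) ops root, (∀ v ∈ w, v < 2 ^ 24) ∧ ∃ g ∈ H, g • toQ root = toQ w := by
  refine walk_mem (P := fun w : List ℕ => (∀ v ∈ w, v < 2 ^ 24) ∧ ∃ g ∈ H, g • toQ root = toQ w) ?_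
    ⟨hroot, 1, one_mem _, one_smul _ _⟩
  rintro w j ⟨-, g, hgH, e⟩
  obtain ⟨h, hh, hr⟩ := hg.getD j
  refine ⟨fun v hv => ?_, h * g, mul_mem hh hgH, ?_⟩
  · obtain ⟨x, -, rfl⟩ := List.mem_map.1 hv
    exact mimg_lt hr x
  · rw [mul_smul, e]
    ext s
    simp only [toQ, stepQ, Finset.mem_smul_finset, Finset.mem_image, List.mem_toFinset, List.mem_map]
    constructor
    · rintro ⟨_, ⟨x, hx, rfl⟩, rfl⟩
      exact ⟨_, ⟨x, hx, rfl⟩, (smul_setOfMask hr x).symm⟩
    · rintro ⟨_, ⟨x, hx, rfl⟩, rfl⟩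
      exact ⟨_, ⟨x, hx, rfl⟩, smul_setOfMask hr x⟩

theorem quartetM12_in : GensIn (stabilizer ↥M24 (setOfMask stdD)) quartetM12Gens := fun p hp => by
  obtain ⟨g, h1, h2, -⟩ := stabGens_in (gens := quartetM12Gens) (m := stdD) (pts := []) (by decide +kernel) p hp
  exact ⟨g, h1, h2⟩

theorem quartet0_mem : quartet0 ∈ quartetList := by decide +kernel

set_option maxRecDepth 100000 in
theorem quartet_orbit_ok : quartetList.all (fun q =>
    (walk (stepQ quartetM12Gens) quartetM12Ops quartet0).any fun w => w.all (hasM q)) = true := by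
  decide +kernel

theorem exists_smul_quartet_std {Q : Finset (Finset GolayPt)} (hQ : Q ∈ quartets (setOfMask stdD)) :
    ∃ g ∈ stabilizer ↥M24 (setOfMask stdD), g • toQ quartet0 = Q := by
  obtain ⟨q, hq, rfl⟩ := mem_quartets_std.1 hQ
  have h := quartet_orbit_ok
  simp only [List.all_eq_true, List.any_eq_true, hasM_iff] at h
  obtain ⟨w, hw, hall⟩ := h q hq
  obtain ⟨hlt, g, hgH, e⟩ := walk_quartet quartetM12_in _ _ (list_lt quartet0_mem) w hw
  refine ⟨g, hgH, e.trans (Finset.eq_of_subset_of_card_le ?_ (le_of_eq ?_))⟩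
  · intro s hs
    rw [mem_toQ hlt] at hs
    exact (mem_toQ (list_lt hq)).2 (hall _ hs)
  · rw [hQ.1, ← e, Finset.card_smul_finset, (toQ_mem quartet0_mem).1]

theorem exists_smul_quartet {d : Finset GolayPt} (hd : d ∈ dodecads) {Q Q' : Finset (Finset GolayPt)}
    (hQ : Q ∈ quartets d) (hQ' : Q' ∈ quartets d) :
    ∃ g : ↥M24, g • d = d ∧ g • Q = Q' := by
  obtain ⟨t, rfl⟩ := exists_smul_stdD hd
  obtain ⟨R, rfl⟩ : ∃ R, Q = t • R := ⟨_, (smul_inv_smul t Q).symm⟩
  obtain ⟨R', rfl⟩ : ∃ R', Q' = t • R' := ⟨_, (smul_inv_smul t Q').symm⟩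
  obtain ⟨a, ha, ea⟩ := exists_smul_quartet_std ((mem_quartets_smul t).1 hQ)
  obtain ⟨b, hb, eb⟩ := exists_smul_quartet_std ((mem_quartets_smul t).1 hQ')
  refine ⟨t * (b * a⁻¹) * t⁻¹, (stab_conj t).2 (mul_mem hb (inv_mem ha)), ?_⟩
  rw [← ea, ← eb]
  simp [mul_smul]

theorem exists_quartet_frame {d : Finset GolayPt} (hd : d ∈ dodecads) {Q : Finset (Finset GolayPt)}
    (hQ : Q ∈ quartets d) : ∃ t : ↥M24, t • setOfMask stdD = d ∧ t • toQ quartet0 = Q := by
  obtain ⟨t, rfl⟩ := exists_smul_stdD hd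
  obtain ⟨g, h1, h2⟩ := exists_smul_quartet (smul_mem_dodecads' t |>.2 stdD_mem)
    ((mem_quartets_smul t).2 (toQ_mem quartet0_mem)) hQ
  exact ⟨g * t, by rw [mul_smul, h1], by rw [mul_smul, h2]⟩

/-- The stabiliser of the standard quartet in the standard M12. -/
abbrev quartetGroup : Subgroup ↥M24 :=
  stabilizer ↥M24 (setOfMask stdD) ⊓ stabilizer ↥M24 (toQ quartet0)

theorem card_stab_quartet {d : Finset GolayPt} (hd : d ∈ dodecads) {Q : Finset (Finset GolayPt)}
    (hQ : Q ∈ quartets d) :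
    Nat.card ↥(stabilizer ↥M24 d ⊓ stabilizer ↥M24 Q) = 432 := by
  have := card_eq_orbit_mul (stabilizer ↥M24 d) Q (quartets d)
    (fun g hg => by
      have := (mem_quartets_smul g).2 hQ
      rwa [mem_stabilizer_iff.1 hg] at this)
    fun R hR => by
      obtain ⟨g, h1, h2⟩ := exists_smul_quartet hd hQ hR
      exact ⟨g, h1, h2⟩
  rw [card_stab_dodecad hd, quartets_ncard hd] at this
  omega

/-! ### the stabiliser modulo its normal nine -/

abbrev Code4 : Type := ℕ × ℕ × ℕ × ℕ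

noncomputable def mulCode (x y : Code4) : Code4 :=
  ((x.1 * y.1 + x.2.1 * y.2.2.1) % 3, (x.1 * y.2.1 + x.2.1 * y.2.2.2) % 3,
    (x.2.2.1 * y.1 + x.2.2.2 * y.2.2.1) % 3, (x.2.2.1 * y.2.1 + x.2.2.2 * y.2.2.2) % 3)

theorem gl_inv : ∀ a b c e : ZMod 3, a * e - b * c ≠ 0 →
    !![a, b; c, e] * ((a * e - b * c) • !![e, -b; -c, a]) = 1 ∧
      ((a * e - b * c) • !![e, -b; -c, a]) * !![a, b; c, e] = 1 := by decide +kernel

def decCode (x : Code4) : GL (Fin 2) (ZMod 3) :=
  if h : ((x.1 : ZMod 3) * x.2.2.2 - x.2.1 * x.2.2.1) ≠ 0 then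
    ⟨_, _, (gl_inv _ _ _ _ h).1, (gl_inv _ _ _ _ h).2⟩
  else 1

noncomputable def quartetWalk : List (ℕ × Code4) :=
  walk (stepPair mulCode quartetStabPairs) quartetStabOps (pone, ((1, 0, 0, 1) : Code4))

theorem quartetStab_in : GensIn quartetGroup (quartetStabPairs.map Prod.fst) := fun p hp => by
  obtain ⟨g, h1, h2, -⟩ :=
    stabGens_in (gens := quartetStabPairs.map Prod.fst) (m := stdD) (pts := []) (by decide +kernel) p hp
  refine ⟨g, Subgroup.mem_inf.2 ⟨h1, ?_⟩, h2⟩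
  have hfix : (quartetStabPairs.map Prod.fst).all (fun p => quartet0.all fun v =>
      hasM quartet0 (mimg p v)) = true := by decide +kernel
  simp only [List.all_eq_true, hasM_iff] at hfix
  rw [mem_stabilizer_iff]
  refine Finset.eq_of_subset_of_card_le ?_ (by rw [Finset.card_smul_finset])
  intro s hs
  obtain ⟨a, ha, rfl⟩ := Finset.mem_smul_finset.1 hs
  rw [mem_toQ (list_lt quartet0_mem)] at ha
  rw [← setOfMask_maskOf a]
  have e : g • setOfMask (maskOf a) = setOfMask (mimg p (maskOf a)) := smul_setOfMask h2 _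
  rw [e]
  exact Finset.mem_image_of_mem _ (List.mem_toFinset.2 (hfix p hp _ ha))

set_option maxRecDepth 100000 in
theorem quartetWalk_ok : enumOK mulCode quartetStabPairs quartetWalk 432 = true := by decide +kernel

set_option maxRecDepth 100000 in
theorem quartetWalk_mul : ∀ x ∈ quartetWalk, ∀ s ∈ quartetStabPairs,
    decCode (mulCode x.2 s.2) = decCode x.2 * decCode s.2 := by decide +kernel

set_option maxRecDepth 100000 in
theorem quartetWalk_onto : ∀ a b c e : ZMod 3, a * e - b * c ≠ 0 →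
    ∃ x ∈ quartetWalk, ((decCode x.2 : GL (Fin 2) (ZMod 3)) : Matrix (Fin 2) (Fin 2) (ZMod 3)) =
      !![a, b; c, e] := by decide +kernel

theorem exists_hom_quartet : ∃ φ : ↥quartetGroup →* GL (Fin 2) (ZMod 3), Function.Surjective φ := by
  obtain ⟨φ, hφ⟩ := exists_hom (β := Code4) decCode quartetStab_in
    (card_stab_quartet stdD_mem (toQ_mem quartet0_mem)) quartetWalk_ok (by decide +kernel) quartetWalk_mul
  refine ⟨φ, fun M => ?_⟩
  have hd : (M : Matrix (Fin 2) (Fin 2) (ZMod 3)).det ≠ 0 :=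
    (((Matrix.isUnit_iff_isUnit_det _).1 M.isUnit)).ne_zero
  rw [Matrix.det_fin_two] at hd
  obtain ⟨x, hx, e⟩ := quartetWalk_onto _ _ _ _ hd
  obtain ⟨g, -, eg⟩ := hφ x hx
  exact ⟨g, Units.ext (by rw [eg, e]; exact (Matrix.eta_fin_two _).symm)⟩

theorem card_GL23 : Nat.card (GL (Fin 2) (ZMod 3)) = 48 := by
  rw [Matrix.card_GL_field]
  simp [Fin.prod_univ_two]

theorem normal_nine_transport {d0 : Finset GolayPt} {Q0 : Finset (Finset GolayPt)} (t : ↥M24)
    {L : Type} [Group L] (φ : ↥(stabilizer ↥M24 d0 ⊓ stabilizer ↥M24 Q0) →* L)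
    (hφ : Function.Surjective φ) (hL : Nat.card L = 48)
    (hc : Nat.card ↥(stabilizer ↥M24 (t • d0) ⊓ stabilizer ↥M24 (t • Q0)) = 432) :
    ∃ (N : Subgroup ↥(stabilizer ↥M24 (t • d0) ⊓ stabilizer ↥M24 (t • Q0))) (_ : N.Normal),
      Nat.card N = 9 ∧ Nonempty (↥(stabilizer ↥M24 (t • d0) ⊓ stabilizer ↥M24 (t • Q0)) ⧸ N ≃* L) := by
  have hmap : stabilizer ↥M24 (t • d0) ⊓ stabilizer ↥M24 (t • Q0) =
      (stabilizer ↥M24 d0 ⊓ stabilizer ↥M24 Q0).map (MulAut.conj t).toMonoidHom := by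
    rw [Subgroup.map_inf _ _ _ (MulAut.conj t).injective,
      stabilizer_smul_eq_stabilizer_map_conj, stabilizer_smul_eq_stabilizer_map_conj]
  let e := ((MulAut.conj t).subgroupMap (stabilizer ↥M24 d0 ⊓ stabilizer ↥M24 Q0)).trans
    (MulEquiv.subgroupCongr hmap.symm)
  let ψ := φ.comp e.symm.toMonoidHom
  have hψ : Function.Surjective ψ := hφ.comp e.symm.surjective
  refine ⟨ψ.ker, inferInstance, ?_, ⟨QuotientGroup.quotientKerEquivOfSurjective ψ hψ⟩⟩
  have h := ψ.ker.card_mul_index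
  rw [Subgroup.index_ker, MonoidHom.range_eq_top.2 hψ, Subgroup.card_top, hL, hc] at h
  omega

theorem exists_normal_nine {d : Finset GolayPt} (hd : d ∈ dodecads) {Q : Finset (Finset GolayPt)}
    (hQ : Q ∈ quartets d) :
    ∃ (N : Subgroup ↥(stabilizer ↥M24 d ⊓ stabilizer ↥M24 Q)) (_ : N.Normal), Nat.card N = 9 ∧
      Nonempty (↥(stabilizer ↥M24 d ⊓ stabilizer ↥M24 Q) ⧸ N ≃* GL (Fin 2) (ZMod 3)) := by
  obtain ⟨φ, hφ⟩ := exists_hom_quartet
  obtain ⟨t, e1, e2⟩ := exists_quartet_frame hd hQ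
  subst e1 e2
  exact normal_nine_transport (d0 := setOfMask stdD) (Q0 := toQ quartet0) t φ hφ card_GL23
    (card_stab_quartet hd hQ)

theorem quartet_points_ok : ∀ y : GolayPt, y ∈ setOfMask stdD →
    y ∈ setOfMask (bitmap id (walk (stepPoint (quartetStabPairs.map Prod.fst)) quartetPointOps (ix (some 0 : GolayPt)))) := by
  decide +kernel

theorem quartet_stab_transitive {d : Finset GolayPt} (hd : d ∈ dodecads) {Q : Finset (Finset GolayPt)}
    (hQ : Q ∈ quartets d) {p q : GolayPt} (hp : p ∈ d) (hq : q ∈ d) :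
    ∃ g ∈ stabilizer ↥M24 d ⊓ stabilizer ↥M24 Q, g • p = q := by
  obtain ⟨t, e1, e2⟩ := exists_quartet_frame hd hQ
  subst e1 e2
  have move : ∀ z ∈ t • setOfMask stdD, ∃ g ∈ quartetGroup, t • g • (some 0 : GolayPt) = z := by
    intro z hz
    rw [← smul_inv_smul t z, mem_smul_set] at hz
    obtain ⟨g, hg, e⟩ := exists_smul_point quartetStab_in rfl (quartet_points_ok _ hz)
    exact ⟨g, hg, by rw [e, smul_inv_smul]⟩
  obtain ⟨a, ha, rfl⟩ := move p hp
  obtain ⟨b, hb, rfl⟩ := move q hq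
  have hm := mul_mem hb (inv_mem ha)
  exact ⟨t * (b * a⁻¹) * t⁻¹, Subgroup.mem_inf.2 ⟨(stab_conj t).2 hm.1, (stab_conj t).2 hm.2⟩,
    by simp [mul_smul]⟩

/-! ### the orbits of the stabiliser -/

/-- The number of disjoint pairs of triples. -/
def zeros (Q Q' : Finset (Finset GolayPt)) : ℕ :=
  ((Q ×ˢ Q').filter fun p => Disjoint p.1 p.2).card

theorem zeros_smul (g : ↥M24) (Q Q' : Finset (Finset GolayPt)) : zeros (g • Q) (g • Q') = zeros Q Q' := by
  unfold zeros
  refine (Finset.card_bij (fun p _ => (g • p.1, g • p.2)) ?_ ?_ ?_).symm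
  · intro p hp
    simp only [Finset.mem_filter, Finset.mem_product] at hp ⊢
    exact ⟨⟨Finset.smul_mem_smul_finset hp.1.1, Finset.smul_mem_smul_finset hp.1.2⟩,
      (disjoint_smul_set g).2 hp.2⟩
  · intro a _ b _ e
    simp only [Prod.mk.injEq] at e
    exact Prod.ext (MulAction.injective g e.1) (MulAction.injective g e.2)
  · intro p hp
    simp only [Finset.mem_filter, Finset.mem_product, Finset.mem_smul_finset] at hp
    obtain ⟨⟨⟨a, ha, ea⟩, b, hb, eb⟩, hd⟩ := hp
    rw [← ea, ← eb, disjoint_smul_set] at hd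
    exact ⟨(a, b), by simp [ha, hb, hd], Prod.ext ea eb⟩

def zerosList (q q' : List ℕ) : ℕ :=
  ((q.toFinset ×ˢ q'.toFinset).filter fun p => Nat.land p.1 p.2 = 0).card

theorem zeros_toQ {q q' : List ℕ} (hq : q ∈ quartetList) (hq' : q' ∈ quartetList) :
    zeros (toQ q) (toQ q') = zerosList q q' := by
  unfold zeros zerosList
  refine (Finset.card_bij (fun p _ => (setOfMask p.1, setOfMask p.2)) ?_ ?_ ?_).symm
  · intro p hp
    simp only [Finset.mem_filter, Finset.mem_product, List.mem_toFinset] at hp ⊢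
    refine ⟨⟨Finset.mem_image_of_mem _ (List.mem_toFinset.2 hp.1.1),
      Finset.mem_image_of_mem _ (List.mem_toFinset.2 hp.1.2)⟩, ?_⟩
    rw [disjoint_iff_land, maskOf_setOfMask (list_lt hq _ hp.1.1), maskOf_setOfMask (list_lt hq' _ hp.1.2)]
    exact hp.2
  · intro a ha b hb e
    simp only [Finset.mem_filter, Finset.mem_product, List.mem_toFinset] at ha hb
    simp only [Prod.mk.injEq] at e
    exact Prod.ext (setOfMask_inj (list_lt hq _ ha.1.1) (list_lt hq _ hb.1.1) e.1)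
      (setOfMask_inj (list_lt hq' _ ha.1.2) (list_lt hq' _ hb.1.2) e.2)
  · intro p hp
    simp only [Finset.mem_filter, Finset.mem_product, toQ, Finset.mem_image, List.mem_toFinset] at hp
    obtain ⟨⟨⟨a, ha, ea⟩, b, hb, eb⟩, hd⟩ := hp
    rw [← ea, ← eb, disjoint_iff_land, maskOf_setOfMask (list_lt hq a ha),
      maskOf_setOfMask (list_lt hq' b hb)] at hd
    exact ⟨(a, b), by simp only [Finset.mem_filter, Finset.mem_product, List.mem_toFinset]; exact ⟨⟨ha, hb⟩, hd⟩,
      Prod.ext ea eb⟩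

noncomputable def orbitClassOK (z : ℕ) (root ops : List ℕ) : Bool :=
  decide (root ∈ quartetList) && decide (zerosList quartet0 root = z) &&
    quartetList.all fun q => !(decide (zerosList quartet0 q = z)) ||
      (walk (stepQ (quartetStabPairs.map Prod.fst)) ops root).any fun w => w.all (hasM q)

set_option maxRecDepth 100000 in
theorem class5_ok : orbitClassOK 5 quartetRoot5 quartetOps5 = true := by decide +kernel
set_option maxRecDepth 100000 in
theorem class6_ok : orbitClassOK 6 quartetRoot6 quartetOps6 = true := by decide +kernel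
set_option maxRecDepth 100000 in
theorem class7_ok : orbitClassOK 7 quartetRoot7 quartetOps7 = true := by decide +kernel
set_option maxRecDepth 100000 in
theorem class8_ok : orbitClassOK 8 quartetRoot8 quartetOps8 = true := by decide +kernel

set_option maxRecDepth 100000 in
theorem zeros_range : ∀ q ∈ quartetList, q = quartet0 ∨ zerosList quartet0 q ∈ [5, 6, 7, 8] := by
  decide +kernel

set_option maxRecDepth 100000 in
theorem zeros_counts : (quartetList.countP (fun q => zerosList quartet0 q == 5)) = 108 ∧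
    (quartetList.countP (fun q => zerosList quartet0 q == 6)) = 12 ∧
    (quartetList.countP (fun q => zerosList quartet0 q == 7)) = 72 ∧
    (quartetList.countP (fun q => zerosList quartet0 q == 8)) = 27 := by decide +kernel

theorem class_orbit {d : Finset GolayPt} (hd : d ∈ dodecads) {Q : Finset (Finset GolayPt)}
    (hQ : Q ∈ quartets d) {z : ℕ} {root ops : List ℕ} (h : orbitClassOK z root ops = true) :
    ∃ X ∈ quartets d,
      orbit ↥(stabilizer ↥M24 d ⊓ stabilizer ↥M24 Q) X = {R | R ∈ quartets d ∧ zeros Q R = z} ∧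
      (orbit ↥(stabilizer ↥M24 d ⊓ stabilizer ↥M24 Q) X).ncard =
        quartetList.countP (fun q => zerosList quartet0 q == z) := by
  simp only [orbitClassOK, Bool.and_eq_true, decide_eq_true_eq, List.all_eq_true, Bool.or_eq_true,
    Bool.not_eq_true', decide_eq_false_iff_not, List.any_eq_true, hasM_iff] at h
  obtain ⟨⟨hr, hz⟩, hall⟩ := h
  obtain ⟨t, e1, e2⟩ := exists_quartet_frame hd hQ
  subst e1 e2
  have hX := (mem_quartets_smul t).2 (toQ_mem hr)
  have horb : orbit ↥(stabilizer ↥M24 (t • setOfMask stdD) ⊓ stabilizer ↥M24 (t • toQ quartet0))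
      (t • toQ root) = {R | R ∈ quartets (t • setOfMask stdD) ∧ zeros (t • toQ quartet0) R = z} := by
    ext R
    constructor
    · rintro ⟨⟨g, hg1, hg2⟩, rfl⟩
      show g • t • toQ root ∈ _ ∧ _
      refine ⟨?_, ?_⟩
      · have := (mem_quartets_smul g).2 hX
        rwa [mem_stabilizer_iff.1 hg1] at this
      · show zeros (t • toQ quartet0) (g • t • toQ root) = z
        refine (congrArg (fun Z => zeros Z (g • t • toQ root))
          (mem_stabilizer_iff.1 hg2 : g • t • toQ quartet0 = t • toQ quartet0)).symm.trans ?_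
        rw [zeros_smul, zeros_smul, zeros_toQ quartet0_mem hr, hz]
    · rintro ⟨hR, hzR⟩
      obtain ⟨S, rfl⟩ : ∃ S, R = t • S := ⟨_, (smul_inv_smul t R).symm⟩
      rw [zeros_smul] at hzR
      obtain ⟨q, hq, rfl⟩ := mem_quartets_std.1 ((mem_quartets_smul t).1 hR)
      rw [zeros_toQ quartet0_mem hq] at hzR
      obtain ⟨w, hw, hsub⟩ := (hall q hq).resolve_left fun h => h hzR
      obtain ⟨hlt, g, hgH, e⟩ := walk_quartet quartetStab_in _ _ (list_lt hr) w hw
      have ew : g • toQ root = toQ q := by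
        refine e.trans (Finset.eq_of_subset_of_card_le ?_ (le_of_eq ?_))
        · intro s hs
          rw [mem_toQ hlt] at hs
          exact (mem_toQ (list_lt hq)).2 (hsub _ hs)
        · rw [(toQ_mem hq).1, ← e, Finset.card_smul_finset, (toQ_mem hr).1]
      refine ⟨⟨t * g * t⁻¹, Subgroup.mem_inf.2 ⟨(stab_conj t).2 hgH.1, (stab_conj t).2 hgH.2⟩⟩, ?_⟩
      show (t * g * t⁻¹) • t • toQ root = t • toQ q
      rw [mul_smul, mul_smul, inv_smul_smul, ew]
  refine ⟨t • toQ root, hX, horb, ?_⟩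
  rw [horb, List.countP_eq_length_filter]
  have hnd : (quartetList.filter fun q => zerosList quartet0 q == z).Nodup :=
    (by decide +kernel : quartetList.Nodup).filter _
  rw [← List.toFinset_card_of_nodup hnd]
  rw [← Finset.card_image_of_injOn (f := fun q => t • toQ q) (s := (quartetList.filter _).toFinset),
    ← Set.ncard_coe_finset]
  · congr 1
    ext R
    simp only [Finset.coe_image, Set.mem_image, Finset.mem_coe, List.mem_toFinset, List.mem_filter,
      beq_iff_eq, Set.mem_ofPred_eq]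
    constructor
    · rintro ⟨hR, hzR⟩
      obtain ⟨S, rfl⟩ : ∃ S, R = t • S := ⟨_, (smul_inv_smul t R).symm⟩
      rw [zeros_smul] at hzR
      obtain ⟨q, hq, rfl⟩ := mem_quartets_std.1 ((mem_quartets_smul t).1 hR)
      rw [zeros_toQ quartet0_mem hq] at hzR
      exact ⟨q, ⟨hq, hzR⟩, rfl⟩
    · rintro ⟨q, ⟨hq, hzq⟩, rfl⟩
      exact ⟨(mem_quartets_smul t).2 (toQ_mem hq), by rw [zeros_smul, zeros_toQ quartet0_mem hq, hzq]⟩
  · intro a ha b hb e
    simp only [List.coe_toFinset, List.mem_filter, Set.mem_ofPred_eq] at ha hb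
    refine (list_spec ha.1).2.2.2.2 b hb.1 fun x hx => ?_
    have : setOfMask x ∈ toQ b :=
      (MulAction.injective t e) ▸ Finset.mem_image_of_mem _ (List.mem_toFinset.2 hx)
    rw [mem_toQ (list_lt hb.1), maskOf_setOfMask (list_lt ha.1 x hx)] at this
    exact this

theorem quartet_orbits {d : Finset GolayPt} (hd : d ∈ dodecads) {Q : Finset (Finset GolayPt)}
    (hQ : Q ∈ quartets d) :
    ∃ X₁ ∈ quartets d, ∃ X₂ ∈ quartets d, ∃ X₃ ∈ quartets d, ∃ X₄ ∈ quartets d,
      (orbit ↥(stabilizer ↥M24 d ⊓ stabilizer ↥M24 Q) X₁).ncard = 12 ∧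
      (orbit ↥(stabilizer ↥M24 d ⊓ stabilizer ↥M24 Q) X₂).ncard = 27 ∧
      (orbit ↥(stabilizer ↥M24 d ⊓ stabilizer ↥M24 Q) X₃).ncard = 72 ∧
      (orbit ↥(stabilizer ↥M24 d ⊓ stabilizer ↥M24 Q) X₄).ncard = 108 ∧
      quartets d = {Q} ∪ orbit ↥(stabilizer ↥M24 d ⊓ stabilizer ↥M24 Q) X₁ ∪
        orbit ↥(stabilizer ↥M24 d ⊓ stabilizer ↥M24 Q) X₂ ∪
        orbit ↥(stabilizer ↥M24 d ⊓ stabilizer ↥M24 Q) X₃ ∪
        orbit ↥(stabilizer ↥M24 d ⊓ stabilizer ↥M24 Q) X₄ := by
  obtain ⟨c5, c6, c7, c8⟩ := zeros_counts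
  obtain ⟨A, hA, oA, nA⟩ := class_orbit hd hQ class6_ok
  obtain ⟨B, hB, oB, nB⟩ := class_orbit hd hQ class8_ok
  obtain ⟨C, hC, oC, nC⟩ := class_orbit hd hQ class7_ok
  obtain ⟨E, hE, oE, nE⟩ := class_orbit hd hQ class5_ok
  refine ⟨A, hA, B, hB, C, hC, E, hE, nA.trans c6, nB.trans c8, nC.trans c7, nE.trans c5, ?_⟩
  rw [oA, oB, oC, oE]
  ext R
  simp only [Set.mem_union, Set.mem_singleton_iff, Set.mem_ofPred_eq]
  refine ⟨fun hR => ?_, fun h => ?_⟩
  · obtain ⟨t, e1, e2⟩ := exists_quartet_frame hd hQ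
    subst e1 e2
    obtain ⟨S, rfl⟩ : ∃ S, R = t • S := ⟨_, (smul_inv_smul t R).symm⟩
    obtain ⟨q, hq, rfl⟩ := mem_quartets_std.1 ((mem_quartets_smul t).1 hR)
    rcases zeros_range q hq with rfl | h
    · simp
    · rw [zeros_smul, zeros_toQ quartet0_mem hq]
      simp only [List.mem_cons, List.not_mem_nil, or_false] at h
      rcases h with h | h | h | h <;> simp [hR, h]
  · rcases h with (((rfl | h) | h) | h) | h
    exacts [hQ, h.1, h.1, h.1, h.1]

end CfsgLib.Sporadic
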