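import Cfsg.Agent.Lib.Sporadic.FamilyData
import Cfsg.Agent.Lib.Sporadic.Quartets
import Cfsg.Agent.Lib.Sporadic.Census2
import Cfsg.Agent.Lib.Sporadic.Maximal

/-!
# Sextets and trios: orbits of their stabilisers
-/

set_option autoImplicit false

namespace CfsgLib.Sporadic

open Cfsg MulAction
open scoped Pointwise

/-- Sum of the squared intersection numbers. -/
def sqInv (Q R : Finset (Finset GolayPt)) : ℕ := ∑ p ∈ Q ×ˢ R, (p.1 ∩ p.2).card ^ 2

noncomputable def sqList (q r : List ℕ) : ℕ :=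
  ∑ p ∈ q.toFinset ×ˢ r.toFinset, popc (Nat.land p.1 p.2) ^ 2

theorem sqInv_smul (g : ↥M24) (Q R : Finset (Finset GolayPt)) : sqInv (g • Q) (g • R) = sqInv Q R := by
  unfold sqInv
  refine (Finset.sum_bij (fun p _ => (g • p.1, g • p.2)) ?_ ?_ ?_ ?_).symm
  · intro p hp
    simp only [Finset.mem_product] at hp ⊢
    exact ⟨Finset.smul_mem_smul_finset hp.1, Finset.smul_mem_smul_finset hp.2⟩
  · intro a _ b _ e
    simp only [Prod.mk.injEq] at e
    exact Prod.ext (MulAction.injective g e.1) (MulAction.injective g e.2)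
  · intro p hp
    simp only [Finset.mem_product, Finset.mem_smul_finset] at hp
    obtain ⟨⟨a, ha, ea⟩, b, hb, eb⟩ := hp
    exact ⟨(a, b), by simp [ha, hb], Prod.ext ea eb⟩
  · intro p _
    rw [← smul_inter', card_smul_set]

theorem sqInv_toQ {q r : List ℕ} (hq : ∀ v ∈ q, v < 2 ^ 24) (hr : ∀ v ∈ r, v < 2 ^ 24) :
    sqInv (toQ q) (toQ r) = sqList q r := by
  unfold sqInv sqList
  refine (Finset.sum_bij (fun p _ => (setOfMask p.1, setOfMask p.2)) ?_ ?_ ?_ ?_).symm
  · intro p hp
    simp only [Finset.mem_product, List.mem_toFinset] at hp ⊢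
    exact ⟨Finset.mem_image_of_mem _ (List.mem_toFinset.2 hp.1),
      Finset.mem_image_of_mem _ (List.mem_toFinset.2 hp.2)⟩
  · intro a ha b hb e
    simp only [Finset.mem_product, List.mem_toFinset] at ha hb
    simp only [Prod.mk.injEq] at e
    exact Prod.ext (setOfMask_inj (hq _ ha.1) (hq _ hb.1) e.1)
      (setOfMask_inj (hr _ ha.2) (hr _ hb.2) e.2)
  · intro p hp
    simp only [Finset.mem_product, toQ, Finset.mem_image, List.mem_toFinset] at hp
    obtain ⟨⟨a, ha, ea⟩, b, hb, eb⟩ := hp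
    exact ⟨(a, b), by simp [ha, hb], Prod.ext ea eb⟩
  · intro p hp
    simp only [Finset.mem_product, List.mem_toFinset] at hp
    show popc (p.1 &&& p.2) ^ 2 = _
    rw [← maskOf_setOfMask (hq _ hp.1), ← maskOf_setOfMask (hr _ hp.2), ← maskOf_inter, popc_maskOf,
      maskOf_setOfMask (hq _ hp.1), maskOf_setOfMask (hr _ hp.2)]

/-- A symmetric code of a list of masks. -/
noncomputable def famCode (q : List ℕ) : ℕ :=
  List.rec 0 (fun v _ ih => Nat.add (Nat.mul v (Nat.mul v v)) ih) q

theorem famCode_eq : ∀ q : List ℕ, famCode q = (q.map fun v => v * (v * v)).sum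
  | [] => rfl
  | v :: t => by
    show v * (v * v) + famCode t = _
    rw [famCode_eq t, List.map_cons, List.sum_cons]

def famCode' (Q : Finset (Finset GolayPt)) : ℕ := ∑ t ∈ Q, maskOf t * (maskOf t * maskOf t)

theorem famCode_spec {q : List ℕ} (hn : q.Nodup) (hq : ∀ v ∈ q, v < 2 ^ 24) :
    famCode' (toQ q) = famCode q := by
  rw [famCode_eq, famCode', toQ, Finset.sum_image (fun a ha b hb e => setOfMask_inj
    (hq a (List.mem_toFinset.1 ha)) (hq b (List.mem_toFinset.1 hb)) e), List.sum_toFinset _ hn]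
  refine congrArg List.sum (List.map_congr_left fun v hv => ?_)
  rw [maskOf_setOfMask (hq v hv)]

/-- Freeness of repetition, checked bucket by bucket. -/
noncomputable def distinctBuckets (l : List ℕ) : Bool :=
  forallLt 32 fun r => distinctList (l.filter fun a => Nat.beq (Nat.mod (Nat.div a 128) 32) r)

theorem nodup_of_buckets {l : List ℕ} (h : distinctBuckets l = true) : l.Nodup := by
  rw [List.nodup_iff_count_le_one]
  intro a
  have hb := nodup_of_distinctList (forallLt_elim h (show a / 128 % 32 < 32 from Nat.mod_lt _ (by norm_num)))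
  rw [List.nodup_iff_count_le_one] at hb
  refine le_trans (le_of_eq ?_) (hb a)
  exact (List.count_filter (by rw [Nat.beq_eq]; rfl)).symm

noncomputable def classCheck (root0 gens root ops : List ℕ) (z n : ℕ) : Bool :=
  root.all (fun v => Nat.blt v 16777216) && decide (sqList root0 root = z) &&
    Nat.beq (walk (stepQ gens) ops root).length n &&
    (walk (stepQ gens) ops root).all (fun w => distinctList w) &&
    distinctBuckets ((walk (stepQ gens) ops root).map famCode)

theorem gensIn_family {gens q : List ℕ} (h : gens.all isAut = true) (hlt : ∀ v ∈ q, v < 2 ^ 24)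
    (hfix : (gens.all fun p => q.all fun v => hasM q (mimg p v)) = true) :
    GensIn (stabilizer ↥M24 (toQ q)) gens := by
  refine gensIn_of h fun p hp g hg => ?_
  simp only [List.all_eq_true, hasM_iff] at hfix
  rw [mem_stabilizer_iff]
  refine Finset.eq_of_subset_of_card_le ?_ (by rw [Finset.card_smul_finset])
  intro s hs
  obtain ⟨a, ha, rfl⟩ := Finset.mem_smul_finset.1 hs
  rw [mem_toQ hlt] at ha
  rw [← setOfMask_maskOf a]
  have e : g • setOfMask (maskOf a) = setOfMask (mimg p (maskOf a)) := smul_setOfMask hg _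
  rw [e]
  exact Finset.mem_image_of_mem _ (List.mem_toFinset.2 (hfix p hp _ ha))

/-- A long orbit inside a level set of the invariant. -/
theorem class_lower {root0 gens root ops : List ℕ} {z n : ℕ}
    (h : classCheck root0 gens root ops z n = true) (h0 : ∀ v ∈ root0, v < 2 ^ 24)
    (hg : GensIn (stabilizer ↥M24 (toQ root0)) gens) (t : ↥M24) :
    sqInv (t • toQ root0) (t • toQ root) = z ∧
      (∀ R ∈ orbit ↥(stabilizer ↥M24 (t • toQ root0)) (t • toQ root), sqInv (t • toQ root0) R = z) ∧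
      n ≤ (orbit ↥(stabilizer ↥M24 (t • toQ root0)) (t • toQ root)).ncard := by
  simp only [classCheck, Bool.and_eq_true, List.all_eq_true, Nat.blt_eq, decide_eq_true_eq,
    Nat.beq_eq] at h
  obtain ⟨⟨⟨⟨hlt, hz⟩, hlen⟩, hnd⟩, hdist⟩ := h
  have hz' : sqInv (t • toQ root0) (t • toQ root) = z := by rw [sqInv_smul, sqInv_toQ h0 hlt, hz]
  refine ⟨hz', ?_, ?_⟩
  · rintro R ⟨⟨g, hgm⟩, rfl⟩
    show sqInv (t • toQ root0) (g • t • toQ root) = z
    refine (congrArg (fun Z => sqInv Z (g • t • toQ root))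
      (mem_stabilizer_iff.1 hgm)).symm.trans ?_
    rw [sqInv_smul, hz']
  · have hw := walk_quartet hg ops root hlt
    have hnodup := nodup_of_buckets hdist
    generalize walk (stepQ gens) ops root = W at hlen hnd hnodup hw
    rw [← hlen, ← List.length_map (f := famCode) (as := W), ← List.toFinset_card_of_nodup hnodup,
      ← Set.ncard_coe_finset]
    have hfin : (orbit ↥(stabilizer ↥M24 (t • toQ root0)) (t • toQ root)).Finite := Set.toFinite _
    refine le_trans (Set.ncard_le_ncard ?_ (hfin.image fun R => famCode' (t⁻¹ • R))) (Set.ncard_image_le hfin)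
    intro c hc
    rw [Finset.mem_coe, List.mem_toFinset, List.mem_map] at hc
    obtain ⟨w, hwW, rfl⟩ := hc
    obtain ⟨hwlt, g, hgm, e⟩ := hw w hwW
    refine ⟨t • toQ w, ⟨⟨t * g * t⁻¹, (stab_conj t).2 hgm⟩, ?_⟩, ?_⟩
    · show (t * g * t⁻¹) • t • toQ root = t • toQ w
      rw [mul_smul, mul_smul, inv_smul_smul, e]
    · show famCode' (t⁻¹ • t • toQ w) = famCode w
      rw [inv_smul_smul, famCode_spec (nodup_of_distinctList (hnd w hwW)) hwlt]

/-- Disjoint level sets filled by orbits exhaust a family of known size. -/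
theorem exhaust {β : Type*} {F : Set β} (hF : F.Finite) {x : β} (hx : x ∈ F) (f : β → ℕ) {k : ℕ}
    (A : Fin k → Set β) (z n : Fin k → ℕ) (hA : ∀ i, A i ⊆ F) (hz : ∀ i, ∀ a ∈ A i, f a = z i)
    (hinj : Function.Injective z) (hne : ∀ i, f x ≠ z i) (hn : ∀ i, n i ≤ (A i).ncard)
    (htot : 1 + ∑ i, n i = F.ncard) :
    F = insert x (⋃ i, A i) ∧ ∀ i, (A i).ncard = n i ∧ {a | a ∈ F ∧ f a = z i} = A i := by
  have hfin : ∀ i, (A i).Finite := fun i => hF.subset (hA i)
  have hdis : Pairwise fun i j => Disjoint (A i) (A j) := fun i j hij =>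
    Set.disjoint_left.2 fun a h1 h2 => hij (hinj ((hz i a h1).symm.trans (hz j a h2)))
  have hxn : x ∉ ⋃ i, A i := by
    rintro ⟨_, ⟨i, rfl⟩, hi⟩; exact hne i (hz i x hi)
  have hUf : (⋃ i, A i).Finite := Set.finite_iUnion hfin
  have hc : (insert x (⋃ i, A i)).ncard = 1 + ∑ i, (A i).ncard := by
    rw [Set.ncard_insert_of_notMem hxn hUf, Set.ncard_iUnion_of_finite hfin hdis, finsum_eq_sum_of_fintype]
    ring
  have hsub : insert x (⋃ i, A i) ⊆ F := Set.insert_subset hx (Set.iUnion_subset hA)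
  have hle := Set.ncard_le_ncard hsub hF
  rw [hc, ← htot] at hle
  have hsum : ∑ i, (A i).ncard = ∑ i, n i :=
    le_antisymm (by omega) (Finset.sum_le_sum fun i _ => hn i)
  have heq : ∀ i, (A i).ncard = n i := fun i =>
    ((Finset.sum_eq_sum_iff_of_le fun j _ => hn j).1 hsum.symm i (Finset.mem_univ i)).symm
  have hF' : F = insert x (⋃ i, A i) :=
    (Set.eq_of_subset_of_ncard_le hsub (by rw [hc, hsum, htot]) hF).symm
  refine ⟨hF', fun i => ⟨heq i, ?_⟩⟩
  ext a
  refine ⟨fun ⟨ha, hfa⟩ => ?_, fun h => ⟨hA i h, hz i a h⟩⟩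
  rw [hF', Set.mem_insert_iff, Set.mem_iUnion] at ha
  rcases ha with rfl | ⟨j, hj⟩
  · exact absurd hfa (hne i)
  · rwa [← hinj ((hz j a hj).symm.trans hfa)]

/-! ### sextets -/

noncomputable def sextetOK (q : List ℕ) : Bool :=
  Nat.beq q.length 6 && distinctList q && q.all (fun v => Nat.blt v 16777216 && Nat.beq (popc v) 4) &&
    q.all fun a => q.all fun b => Nat.beq a b || (inCode (Nat.lor a b) && Nat.beq (popc (Nat.lor a b)) 8)

theorem toQ_sextet {q : List ℕ} (h : sextetOK q = true) :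
    toQ q ∈ sextets ∧ ∀ v ∈ q, v < 2 ^ 24 := by
  simp only [sextetOK, Bool.and_eq_true, Nat.beq_eq, List.all_eq_true, Nat.blt_eq, Bool.or_eq_true] at h
  obtain ⟨⟨⟨h1, h2⟩, h3⟩, h4⟩ := h
  have hlt : ∀ v ∈ q, v < 2 ^ 24 := fun v hv => (h3 v hv).1
  refine ⟨⟨?_, fun t ht => ?_, fun t ht u hu hne => ?_⟩, hlt⟩
  · rw [toQ, Finset.card_image_of_injOn, List.toFinset_card_of_nodup (nodup_of_distinctList h2), h1]
    intro a ha b hb e
    rw [Finset.mem_coe, List.mem_toFinset] at ha hb
    exact setOfMask_inj (hlt a ha) (hlt b hb) e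
  · rw [mem_toQ hlt] at ht
    rw [← popc_maskOf, (h3 _ ht).2]
  · rw [mem_toQ hlt] at ht hu
    rcases h4 _ ht _ hu with e | ⟨e1, e2⟩
    · exact absurd (maskOf_injective e) hne
    · rw [mem_octads_iff, maskOf_union]
      exact ⟨e1, e2⟩

theorem smul_mem_sextets (g : ↥M24) {S : Finset (Finset GolayPt)} (h : S ∈ sextets) : g • S ∈ sextets := by
  obtain ⟨h1, h2, h3⟩ := h
  refine ⟨by rw [Finset.card_smul_finset, h1], fun t ht => ?_, fun t ht u hu hne => ?_⟩
  · obtain ⟨a, ha, rfl⟩ := Finset.mem_smul_finset.1 ht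
    exact (card_smul_set g a).trans (h2 a ha)
  · obtain ⟨a, ha, rfl⟩ := Finset.mem_smul_finset.1 ht
    obtain ⟨b, hb, rfl⟩ := Finset.mem_smul_finset.1 hu
    have hun : g • (a ∪ b) = g • a ∪ g • b := Finset.smul_finset_union (a := (g : Equiv.Perm GolayPt))
    rw [← hun, smul_mem_octads']
    exact h3 a ha b hb fun e => hne (e ▸ rfl)

theorem sextetRoot_ok : sextetOK sextetRoot = true ∧ sextetOK sextetRoot36 = true ∧
    sextetOK sextetRoot32 = true ∧ sextetOK sextetRoot48 = true := by decide +kernel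

theorem exists_smul_sextet {S S' : Finset (Finset GolayPt)} (hS : S ∈ sextets) (hS' : S' ∈ sextets) :
    ∃ g : ↥M24, g • S = S' := by
  obtain ⟨t, ht⟩ := Finset.card_pos.1 (by rw [hS.1]; norm_num : 0 < S.card)
  obtain ⟨u, hu⟩ := Finset.card_pos.1 (by rw [hS'.1]; norm_num : 0 < S'.card)
  obtain ⟨g, rfl⟩ := exists_smul_set (s := t) (t := u) (by rw [hS.2.1 t ht, hS'.2.1 u hu])
    (by rw [hS.2.1 t ht]; norm_num)
  obtain ⟨W, -, huniq⟩ := existsUnique_sextet (t := g • t) (by rw [card_smul_set, hS.2.1 t ht])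
  exact ⟨g, (huniq (g • S) ⟨smul_mem_sextets g hS, Finset.smul_mem_smul_finset ht⟩).trans
    (huniq S' ⟨hS', hu⟩).symm⟩

set_option maxRecDepth 100000 in
theorem sextet36_ok : classCheck sextetRoot sextetGens sextetRoot36 sextetOps36 36 240 = true := by
  decide +kernel
set_option maxRecDepth 100000 in
theorem sextet32_ok : classCheck sextetRoot sextetGens sextetRoot32 sextetOps32 32 1440 = true := by
  decide +kernel
set_option maxRecDepth 100000 in
theorem sextet48_ok : classCheck sextetRoot sextetGens sextetRoot48 sextetOps48 48 90 = true := by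
  decide +kernel

theorem sextetGens_in : GensIn (stabilizer ↥M24 (toQ sextetRoot)) sextetGens :=
  gensIn_family (by decide +kernel) (toQ_sextet sextetRoot_ok.1).2 (by decide +kernel)

theorem sextet_self : sqList sextetRoot sextetRoot = 96 := by decide +kernel

theorem sextet_suborbits {S : Finset (Finset GolayPt)} (hS : S ∈ sextets) :
    ∃ X : Fin 3 → Finset (Finset GolayPt), (∀ i, X i ∈ sextets) ∧ sqInv S S = 96 ∧
      sextets = insert S (⋃ i, orbit ↥(stabilizer ↥M24 S) (X i)) ∧
      ∀ i, (orbit ↥(stabilizer ↥M24 S) (X i)).ncard = ![90, 240, 1440] i ∧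
        {a | a ∈ sextets ∧ sqInv S a = ![48, 36, 32] i} = orbit ↥(stabilizer ↥M24 S) (X i) := by
  obtain ⟨o0, o36, o32, o48⟩ := sextetRoot_ok
  have h0 := toQ_sextet o0
  obtain ⟨t, rfl⟩ := exists_smul_sextet h0.1 hS
  let X : Fin 3 → Finset (Finset GolayPt) :=
    ![t • toQ sextetRoot48, t • toQ sextetRoot36, t • toQ sextetRoot32]
  have hX : ∀ i, X i ∈ sextets := by
    intro i; fin_cases i
    exacts [smul_mem_sextets t (toQ_sextet o48).1, smul_mem_sextets t (toQ_sextet o36).1,
      smul_mem_sextets t (toQ_sextet o32).1]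
  have c48 := class_lower sextet48_ok h0.2 sextetGens_in t
  have c36 := class_lower sextet36_ok h0.2 sextetGens_in t
  have c32 := class_lower sextet32_ok h0.2 sextetGens_in t
  have hzz : sqInv (t • toQ sextetRoot) (t • toQ sextetRoot) = 96 := by
    rw [sqInv_smul, sqInv_toQ h0.2 h0.2, sextet_self]
  obtain ⟨e1, e2⟩ := exhaust (F := sextets) (Set.toFinite _) hS (sqInv (t • toQ sextetRoot))
    (fun i => orbit ↥(stabilizer ↥M24 (t • toQ sextetRoot)) (X i)) ![48, 36, 32] ![90, 240, 1440]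
    (fun i => by rintro _ ⟨g, rfl⟩; exact smul_mem_sextets g.1 (hX i))
    (fun i => by fin_cases i <;> [exact c48.2.1; exact c36.2.1; exact c32.2.1])
    (by decide) (fun i => by rw [hzz]; fin_cases i <;> decide)
    (fun i => by fin_cases i <;> [exact c48.2.2; exact c36.2.2; exact c32.2.2])
    (by rw [sextets_ncard]; rfl)
  exact ⟨X, hX, hzz, e1, e2⟩

theorem sextet_orbits {S : Finset (Finset GolayPt)} (hS : S ∈ sextets) :
    ∃ X₁ ∈ sextets, ∃ X₂ ∈ sextets, ∃ X₃ ∈ sextets,
      (orbit ↥(stabilizer ↥M24 S) X₁).ncard = 90 ∧ (orbit ↥(stabilizer ↥M24 S) X₂).ncard = 240 ∧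
      (orbit ↥(stabilizer ↥M24 S) X₃).ncard = 1440 ∧
      sextets = {S} ∪ orbit ↥(stabilizer ↥M24 S) X₁ ∪ orbit ↥(stabilizer ↥M24 S) X₂ ∪
        orbit ↥(stabilizer ↥M24 S) X₃ ∧ IsCoatom (stabilizer ↥M24 S) := by
  obtain ⟨X, hX, hzz, e1, e2⟩ := sextet_suborbits hS
  refine ⟨X 0, hX 0, X 1, hX 1, X 2, hX 2, (e2 0).1, (e2 1).1, (e2 2).1, ?_, ?_⟩
  · conv_lhs => rw [e1]
    ext R
    simp only [Set.mem_insert_iff, Set.mem_iUnion, Fin.exists_fin_succ, IsEmpty.exists_iff,
      Set.mem_union, Set.mem_singleton_iff, or_false]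
    tauto
  · have hlevel : ∀ a ∈ sextets, a = S ∨ ∃ i, a ∈ orbit ↥(stabilizer ↥M24 S) (X i) := fun a ha => by
      rw [e1, Set.mem_insert_iff, Set.mem_iUnion] at ha; exact ha
    have hval : ∀ i, ∀ a ∈ orbit ↥(stabilizer ↥M24 S) (X i), sqInv S a = ![48, 36, 32] i := fun i a h => by
      rw [← (e2 i).2] at h; exact h.2
    refine isCoatom_stabilizer (Ω := sextets) S hS (fun g a ha => smul_mem_sextets g ha)
      (fun a ha => exists_smul_sextet hS ha) (sqInv S)
      (fun z => if z = 96 then 1 else if z = 48 then 90 else if z = 36 then 240 else 1440)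
      {96, 48, 36, 32} ?_ ?_ ?_ ?_ ?_ (by simp only [hzz]; decide +kernel)
    · intro a ha
      rcases hlevel a ha with rfl | ⟨i, hi⟩
      · simp [hzz]
      · rw [hval i a hi]; fin_cases i <;> decide
    · intro z hz
      simp only [Finset.mem_insert, Finset.mem_singleton] at hz
      rcases hz with rfl | rfl | rfl | rfl
      · rw [show {a | a ∈ sextets ∧ sqInv S a = 96} = {S} from ?_, Set.ncard_singleton]
        · rfl
        · ext a
          refine ⟨fun ⟨ha, hz⟩ => ?_, fun e => by subst e; exact ⟨hS, hzz⟩⟩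
          rcases hlevel a ha with rfl | ⟨i, hi⟩
          · rfl
          · rw [hval i a hi] at hz; fin_cases i <;> simp at hz
      · exact (congrArg Set.ncard (e2 0).2).trans (e2 0).1
      · exact (congrArg Set.ncard (e2 1).2).trans (e2 1).1
      · exact (congrArg Set.ncard (e2 2).2).trans (e2 2).1
    · intro a ha b hb e
      rcases hlevel a ha with rfl | ⟨i, hi⟩ <;> rcases hlevel b hb with rfl | ⟨j, hj⟩
      · exact ⟨1, one_smul _ _, one_smul _ _⟩
      · rw [hzz, hval j b hj] at e; fin_cases j <;> simp at e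
      · rw [hzz, hval i a hi] at e; fin_cases i <;> simp at e
      · have hij : i = j := (by decide : Function.Injective ![48, 36, (32 : ℕ)]) (by rw [← hval i a hi, e, hval j b hj])
        subst hij
        obtain ⟨⟨g, hg⟩, rfl⟩ := hi
        obtain ⟨⟨g', hg'⟩, rfl⟩ := hj
        refine ⟨g' * g⁻¹, mul_mem hg' (inv_mem hg), ?_⟩
        show (g' * g⁻¹) • g • X i = g' • X i
        rw [mul_smul, inv_smul_smul]
    · intro a ha e
      rcases hlevel a ha with rfl | ⟨i, hi⟩
      · rfl
      · rw [hval i a hi, hzz] at e; fin_cases i <;> simp at e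
    · refine ⟨X 0, hX 0, fun e => ?_⟩
      have := hval 0 _ (mem_orbit_self (X 0))
      rw [e, hzz] at this
      simp at this

/-! ### trios -/

noncomputable def trioOK (q : List ℕ) : Bool :=
  Nat.beq q.length 3 && distinctList q && q.all (fun v => inCode v && Nat.beq (popc v) 8) &&
    q.all fun a => q.all fun b => Nat.beq a b || Nat.beq (Nat.land a b) 0

theorem toQ_trio {q : List ℕ} (h : trioOK q = true) : toQ q ∈ trios ∧ ∀ v ∈ q, v < 2 ^ 24 := by
  simp only [trioOK, Bool.and_eq_true, Nat.beq_eq, List.all_eq_true, Bool.or_eq_true] at h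
  obtain ⟨⟨⟨h1, h2⟩, h3⟩, h4⟩ := h
  have hlt : ∀ v ∈ q, v < 2 ^ 24 := fun v hv => inCode_lt (h3 v hv).1
  refine ⟨⟨?_, fun t ht => ?_, fun t ht u hu hne => ?_⟩, hlt⟩
  · rw [toQ, Finset.card_image_of_injOn, List.toFinset_card_of_nodup (nodup_of_distinctList h2), h1]
    intro a ha b hb e
    rw [Finset.mem_coe, List.mem_toFinset] at ha hb
    exact setOfMask_inj (hlt a ha) (hlt b hb) e
  · rw [mem_toQ hlt] at ht
    rw [mem_octads_iff]
    exact h3 _ ht
  · rw [mem_toQ hlt] at ht hu
    rcases h4 _ ht _ hu with e | e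
    · exact absurd (maskOf_injective e) hne
    · rw [disjoint_iff_land]; exact e

theorem smul_mem_trios (g : ↥M24) {T : Finset (Finset GolayPt)} (h : T ∈ trios) : g • T ∈ trios := by
  obtain ⟨h1, h2, h3⟩ := h
  refine ⟨by rw [Finset.card_smul_finset, h1], fun t ht => ?_, fun t ht u hu hne => ?_⟩
  · obtain ⟨a, ha, rfl⟩ := Finset.mem_smul_finset.1 ht
    exact (smul_mem_octads' g).2 (h2 a ha)
  · obtain ⟨a, ha, rfl⟩ := Finset.mem_smul_finset.1 ht
    obtain ⟨b, hb, rfl⟩ := Finset.mem_smul_finset.1 hu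
    exact (disjoint_smul_set g).2 (h3 a ha b hb fun e => hne (e ▸ rfl))

theorem exists_smul_trio {T T' : Finset (Finset GolayPt)} (hT : T ∈ trios) (hT' : T' ∈ trios) :
    ∃ g : ↥M24, g • T = T' := by
  obtain ⟨o, ho, o', ho', hne⟩ := Finset.one_lt_card.1 (by rw [hT.1]; norm_num : 1 < T.card)
  obtain ⟨u, hu, u', hu', hne'⟩ := Finset.one_lt_card.1 (by rw [hT'.1]; norm_num : 1 < T'.card)
  obtain ⟨g, hg, e⟩ := exists_smul_octad (hT.2.1 o ho) (hT'.2.1 u hu)
  subst e
  let G : ↥M24 := ⟨g, hg⟩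
  obtain ⟨k, hk1, hk2⟩ := octad_suborbit (o := G • o) (o' := G • o') (o'' := u')
    ((smul_mem_octads' G).2 (hT.2.1 o ho)) ((smul_mem_octads' G).2 (hT.2.1 o' ho')) (hT'.2.1 u' hu') (by
      rw [card_inter_smul, Finset.disjoint_iff_inter_eq_empty.1 (hT.2.2 o ho o' ho' hne),
        Finset.disjoint_iff_inter_eq_empty.1 (hT'.2.2 (G • o) hu u' hu' hne')])
  refine ⟨k * G, ?_⟩
  have e1 : (k * G) • o = g • o := (mul_smul k G o).trans hk1
  have e2 : (k * G) • o' = u' := (mul_smul k G o').trans hk2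
  have hm : (g • o) ∈ (k * G) • T := e1 ▸ Finset.smul_mem_smul_finset ho
  have hm' : u' ∈ (k * G) • T := e2 ▸ Finset.smul_mem_smul_finset ho'
  rw [trio_eq (smul_mem_trios (k * G) hT) hm hm' hne', trio_eq hT' hu hu' hne']

theorem trioRoot_ok : trioOK trioRoot = true ∧ trioOK trioRoot128 = true ∧ trioOK trioRoot96 = true ∧
    trioOK trioRoot80 = true ∧ trioOK trioRoot72 = true := by decide +kernel

set_option maxRecDepth 100000 in
theorem trio128_ok : classCheck trioRoot trioGens trioRoot128 trioOps128 128 42 = true := by decide +kernel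
set_option maxRecDepth 100000 in
theorem trio96_ok : classCheck trioRoot trioGens trioRoot96 trioOps96 96 56 = true := by decide +kernel
set_option maxRecDepth 100000 in
theorem trio80_ok : classCheck trioRoot trioGens trioRoot80 trioOps80 80 1008 = true := by decide +kernel
set_option maxRecDepth 100000 in
theorem trio72_ok : classCheck trioRoot trioGens trioRoot72 trioOps72 72 2688 = true := by decide +kernel

theorem trioGens_in : GensIn (stabilizer ↥M24 (toQ trioRoot)) trioGens :=
  gensIn_family (by decide +kernel) (toQ_trio trioRoot_ok.1).2 (by decide +kernel)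

theorem trio_self : sqList trioRoot trioRoot = 192 := by decide +kernel

theorem trio_orbits {T : Finset (Finset GolayPt)} (hT : T ∈ trios) :
    ∃ X₁ ∈ trios, ∃ X₂ ∈ trios, ∃ X₃ ∈ trios, ∃ X₄ ∈ trios,
      (orbit ↥(stabilizer ↥M24 T) X₁).ncard = 42 ∧ (orbit ↥(stabilizer ↥M24 T) X₂).ncard = 56 ∧
      (orbit ↥(stabilizer ↥M24 T) X₃).ncard = 1008 ∧ (orbit ↥(stabilizer ↥M24 T) X₄).ncard = 2688 ∧
      trios = {T} ∪ orbit ↥(stabilizer ↥M24 T) X₁ ∪ orbit ↥(stabilizer ↥M24 T) X₂ ∪
        orbit ↥(stabilizer ↥M24 T) X₃ ∪ orbit ↥(stabilizer ↥M24 T) X₄ ∧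
      IsCoatom (stabilizer ↥M24 T) := by
  obtain ⟨o0, o128, o96, o80, o72⟩ := trioRoot_ok
  have h0 := toQ_trio o0
  obtain ⟨t, rfl⟩ := exists_smul_trio h0.1 hT
  let X : Fin 4 → Finset (Finset GolayPt) :=
    ![t • toQ trioRoot128, t • toQ trioRoot96, t • toQ trioRoot80, t • toQ trioRoot72]
  have hX : ∀ i, X i ∈ trios := by
    intro i; fin_cases i
    exacts [smul_mem_trios t (toQ_trio o128).1, smul_mem_trios t (toQ_trio o96).1,
      smul_mem_trios t (toQ_trio o80).1, smul_mem_trios t (toQ_trio o72).1]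
  have c1 := class_lower trio128_ok h0.2 trioGens_in t
  have c2 := class_lower trio96_ok h0.2 trioGens_in t
  have c3 := class_lower trio80_ok h0.2 trioGens_in t
  have c4 := class_lower trio72_ok h0.2 trioGens_in t
  generalize hS0 : t • toQ trioRoot = S at *
  have hzz : sqInv S S = 192 := by rw [← hS0, sqInv_smul, sqInv_toQ h0.2 h0.2, trio_self]
  obtain ⟨e1, e2⟩ := exhaust (F := trios) (Set.toFinite _) hT (sqInv S)
    (fun i => orbit ↥(stabilizer ↥M24 S) (X i)) ![128, 96, 80, 72] ![42, 56, 1008, 2688]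
    (fun i => by rintro _ ⟨g, rfl⟩; exact smul_mem_trios g.1 (hX i))
    (fun i => by fin_cases i <;> [exact c1.2.1; exact c2.2.1; exact c3.2.1; exact c4.2.1])
    (by decide) (fun i => by rw [hzz]; fin_cases i <;> decide)
    (fun i => by fin_cases i <;> [exact c1.2.2; exact c2.2.2; exact c3.2.2; exact c4.2.2])
    (by rw [trios_ncard]; rfl)
  clear c1 c2 c3 c4 hS0
  clear_value X
  refine ⟨X 0, hX 0, X 1, hX 1, X 2, hX 2, X 3, hX 3, (e2 0).1, (e2 1).1, (e2 2).1, (e2 3).1, ?_, ?_⟩
  · conv_lhs => rw [e1]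
    ext R
    simp only [Set.mem_insert_iff, Set.mem_iUnion, Fin.exists_fin_succ, IsEmpty.exists_iff,
      Set.mem_union, Set.mem_singleton_iff, or_false]
    tauto
  · have hlevel : ∀ a ∈ trios, a = S ∨ ∃ i, a ∈ orbit ↥(stabilizer ↥M24 S) (X i) := fun a ha => by
      rw [e1, Set.mem_insert_iff, Set.mem_iUnion] at ha; exact ha
    have hval : ∀ i, ∀ a ∈ orbit ↥(stabilizer ↥M24 S) (X i), sqInv S a = ![128, 96, 80, 72] i := fun i a h => by
      rw [← (e2 i).2] at h; exact h.2
    refine isCoatom_stabilizer (Ω := trios) S hT (fun g a ha => smul_mem_trios g ha)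
      (fun a ha => exists_smul_trio hT ha) (sqInv S)
      (fun z => if z = 192 then 1 else if z = 128 then 42 else if z = 96 then 56 else
        if z = 80 then 1008 else 2688)
      {192, 128, 96, 80, 72} ?_ ?_ ?_ ?_ ?_ (by simp only [hzz]; decide +kernel)
    · intro a ha
      rcases hlevel a ha with rfl | ⟨i, hi⟩
      · simp [hzz]
      · rw [hval i a hi]; fin_cases i <;> decide
    · intro z hz
      simp only [Finset.mem_insert, Finset.mem_singleton] at hz
      rcases hz with rfl | rfl | rfl | rfl | rfl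
      · rw [show {a | a ∈ trios ∧ sqInv S a = 192} = {S} from ?_, Set.ncard_singleton]
        · rfl
        · ext a
          refine ⟨fun ⟨ha, hz⟩ => ?_, fun e => by subst e; exact ⟨hT, hzz⟩⟩
          rcases hlevel a ha with rfl | ⟨i, hi⟩
          · rfl
          · rw [hval i a hi] at hz; fin_cases i <;> simp at hz
      · exact (congrArg Set.ncard (e2 0).2).trans (e2 0).1
      · exact (congrArg Set.ncard (e2 1).2).trans (e2 1).1
      · exact (congrArg Set.ncard (e2 2).2).trans (e2 2).1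
      · exact (congrArg Set.ncard (e2 3).2).trans (e2 3).1
    · intro a ha b hb e
      rcases hlevel a ha with rfl | ⟨i, hi⟩ <;> rcases hlevel b hb with rfl | ⟨j, hj⟩
      · exact ⟨1, one_smul _ _, one_smul _ _⟩
      · rw [hzz, hval j b hj] at e; fin_cases j <;> simp at e
      · rw [hzz, hval i a hi] at e; fin_cases i <;> simp at e
      · have hij : i = j := (by decide : Function.Injective ![128, 96, 80, (72 : ℕ)])
          (by rw [← hval i a hi, e, hval j b hj])
        subst hij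
        obtain ⟨⟨g, hg⟩, rfl⟩ := hi
        obtain ⟨⟨g', hg'⟩, rfl⟩ := hj
        refine ⟨g' * g⁻¹, mul_mem hg' (inv_mem hg), ?_⟩
        show (g' * g⁻¹) • g • X i = g' • X i
        rw [mul_smul, inv_smul_smul]
    · intro a ha e
      rcases hlevel a ha with rfl | ⟨i, hi⟩
      · rfl
      · rw [hval i a hi, hzz] at e; fin_cases i <;> simp at e
    · refine ⟨X 0, hX 0, fun e => ?_⟩
      have := hval 0 _ (mem_orbit_self (X 0))
      rw [e, hzz] at this
      simp at this

end CfsgLib.Sporadic
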