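import Cfsg.Agent.Lib.Sporadic.M24

/-!
# The standard generators of M24
-/

set_option autoImplicit false

namespace CfsgLib.Sporadic

open Cfsg
open scoped Pointwise

/-- The packed form of a function on points. -/
noncomputable def packOf (f : GolayPt → GolayPt) : ℕ :=
  Nat.rec 0 (fun i acc => Nat.lor acc (Nat.shiftLeft (ix (f (pt i))) (Nat.mul 5 i))) 24

theorem rep_packOf (σ : Equiv.Perm GolayPt) : Rep σ (packOf σ) := fun x => by
  rw [packOf, pget_pmul_aux (fun i => ix (σ (pt i))) (fun i => lt_trans (ix_lt _) (by norm_num)),
    if_pos (ix_lt x), pt_ix]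

theorem mem_M24_of_pack {σ : Equiv.Perm GolayPt}
    (h : forallLt 12 (fun i => inCode (mimg (packOf σ) (basisMask i))) = true) : σ ∈ M24 :=
  mem_M24_of_rep (rep_packOf σ) h

theorem shift_mem : Equiv.optionCongr (Equiv.addRight (1 : ZMod 23)) ∈ M24 :=
  mem_M24_of_pack (by decide +kernel)

theorem projInv_mem : projInv ∈ M24 := mem_M24_of_pack (by decide +kernel)

theorem packOf_cubeTwist : packOf cubeTwist = packOf cubeTwistFun := rfl

theorem cubeTwist_mem : cubeTwist ∈ M24 :=
  mem_M24_of_pack (by rw [packOf_cubeTwist]; decide +kernel)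

theorem mulSquare_mem (u : (ZMod 23)ˣ) (hu : IsSquare u) :
    Equiv.optionCongr (Units.mulLeft u) ∈ M24 := by
  obtain ⟨r, rfl⟩ := hu
  haveI : Fact (1 < 23) := ⟨by norm_num⟩
  refine mem_M24_of_pack ?_
  have h : ∀ a : ZMod 23, a ≠ 0 →
      forallLt 12 (fun i => inCode (mimg (packOf (fun p => p.map fun x => a * a * x))
        (basisMask i))) = true := by
    decide +kernel
  have := h (r : ZMod 23) r.ne_zero
  convert this using 6
  ext p : 1
  cases p <;> simp

/-- Run a straight-line program. -/
noncomputable def runProgram (prog : List (ℕ × ℕ)) (init : List ℕ) : List ℕ :=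
  List.rec (motive := fun _ => List ℕ → List ℕ) (fun acc => acc)
    (fun ab _ ih acc =>
      ih (pmul (acc.getD (acc.length - 1 - ab.1) pone) (acc.getD (acc.length - 1 - ab.2) pone) :: acc))
    prog init

theorem runProgram_rep {K : Subgroup (Equiv.Perm GolayPt)} (prog : List (ℕ × ℕ)) :
    ∀ init : List ℕ, (∀ p ∈ init, ∃ σ ∈ K, Rep σ p) →
      ∀ p ∈ runProgram prog init, ∃ σ ∈ K, Rep σ p := by
  induction prog with
  | nil => exact fun _ h => h
  | cons ab prog ih =>
    intro init h
    refine ih _ fun p hp => ?_
    rcases List.mem_cons.1 hp with rfl | hp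
    · have get : ∀ k, ∃ σ ∈ K, Rep σ (init.getD k pone) := by
        intro k
        by_cases hk : k < init.length
        · rw [List.getD_eq_getElem _ _ hk]; exact h _ (List.getElem_mem hk)
        · rw [List.getD_eq_default _ _ (by omega)]; exact ⟨1, one_mem _, Rep.one⟩
      obtain ⟨σ, hσ, hr⟩ := get (init.length - 1 - ab.1)
      obtain ⟨τ, hτ, hs⟩ := get (init.length - 1 - ab.2)
      exact ⟨σ * τ, mul_mem hσ hτ, hr.mul hs⟩
    · exact h p hp

/-- The packed forms of the three generators, the last first. -/
def genList : List ℕ :=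
  [974380510768821363662145534143076928, 1795248432537898728475572672376535,
    956302485175575353788796878166559809]

noncomputable def progResults : List ℕ := runProgram m24Program genList

theorem progResults_trans :
    m24Trans.all (fun t => t.all fun p => progResults.any (Nat.beq p)) = true := by decide +kernel

theorem M24_generated :
    Subgroup.closure {Equiv.optionCongr (Equiv.addRight (1 : ZMod 23)), projInv, cubeTwist} = M24 := by
  have hle : Subgroup.closure
      {Equiv.optionCongr (Equiv.addRight (1 : ZMod 23)), projInv, cubeTwist} ≤ M24 := by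
    rw [Subgroup.closure_le]
    rintro σ (rfl | rfl | rfl)
    exacts [shift_mem, projInv_mem, cubeTwist_mem]
  refine Subgroup.eq_of_le_of_card_ge hle (le_of_eq ?_)
  rw [M24_card, card_of_contains _ hle]
  intro t ht p hp
  have h := progResults_trans
  simp only [List.all_eq_true, List.any_eq_true, Nat.beq_eq] at h
  obtain ⟨q, hq, rfl⟩ := h t ht p hp
  refine runProgram_rep m24Program genList ?_ p hq
  simp only [genList, List.forall_mem_cons, List.not_mem_nil, IsEmpty.forall_iff, implies_true,
    and_true]
  refine ⟨⟨cubeTwist, Subgroup.subset_closure (by simp), ?_⟩,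
    ⟨projInv, Subgroup.subset_closure (by simp), ?_⟩,
    ⟨Equiv.optionCongr (Equiv.addRight (1 : ZMod 23)), Subgroup.subset_closure (by simp), ?_⟩⟩
  · have e : packOf cubeTwist = 974380510768821363662145534143076928 := by
      rw [packOf_cubeTwist]; decide +kernel
    exact e ▸ rep_packOf _
  · have e : packOf projInv = 1795248432537898728475572672376535 := by decide +kernel
    exact e ▸ rep_packOf _
  · have e : packOf (Equiv.optionCongr (Equiv.addRight (1 : ZMod 23))) =
        956302485175575353788796878166559809 := by decide +kernel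
    exact e ▸ rep_packOf _

end CfsgLib.Sporadic
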