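import Cfsg.Agent.Lib.Sporadic.MathieuOrbitTools
import Cfsg.Agent.Lib.Sporadic.M24Gen
import Cfsg.Agent.Lib.Sporadic.Families
import Cfsg.Agent.Lib.Sporadic.ProjectiveTwentyThreeData

/-!
# PSL(2, 23) is maximal in M24 and 23:11 in M23

Sylow counting for 23 and 11 leaves only 23:11 and M23 over 23:11; the projective group is transitive with
point stabiliser over 23:11 and keeps an orbit of 253 sextets, so it is not all of M24.
-/

set_option autoImplicit false
set_option maxRecDepth 100000

namespace CfsgLib.Sporadic.ProjTT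

open Cfsg MulAction CfsgLib.Sporadic CfsgLib.Sporadic.OrbTool CfsgLib.Sporadic.MathieuAut
open scoped Pointwise

/-! ### generalities -/

/-- Normalisers of subgroups of prime order with index prime to that prime have equal order. -/
theorem card_normalizer_eq {G : Type*} [Group G] [Finite G] {q : ℕ} [Fact q.Prime]
    (hq2 : ¬ q ^ 2 ∣ Nat.card G) {x y : G} (hx : orderOf x = q) (hy : orderOf y = q) :
    Nat.card (Subgroup.normalizer (Subgroup.zpowers x : Set G)) =
      Nat.card (Subgroup.normalizer (Subgroup.zpowers y : Set G)) := by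
  have hq := (Fact.out : q.Prime)
  have syl : ∀ z : G, orderOf z = q → ∃ S : Sylow q G, (S : Subgroup G) = Subgroup.zpowers z := by
    intro z hz
    have hP : Nat.card (Subgroup.zpowers z) = q := by rw [Nat.card_zpowers, hz]
    have hfac : (Nat.card G).factorization q = 1 := by
      have h1 : 1 ≤ (Nat.card G).factorization q :=
        hq.factorization_pos_of_dvd Nat.card_pos.ne' (hP ▸ Subgroup.card_subgroup_dvd_card _)
      have h2 : (Nat.card G).factorization q < 2 := by
        by_contra hc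
        exact hq2 ((pow_dvd_pow q (not_lt.1 hc)).trans (Nat.ordProj_dvd _ q))
      omega
    exact ⟨Sylow.ofCard (Subgroup.zpowers z)
      (show Nat.card (Subgroup.zpowers z) = _ by rw [hP, hfac, pow_one]), rfl⟩
  obtain ⟨S, hS⟩ := syl x hx
  obtain ⟨T, hT⟩ := syl y hy
  have hi : (Subgroup.normalizer ((S : Subgroup G) : Set G)).index =
      (Subgroup.normalizer ((T : Subgroup G) : Set G)).index :=
    (Sylow.card_eq_index_normalizer S).symm.trans (Sylow.card_eq_index_normalizer T)
  rw [← hS, ← hT]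
  have e1 := (Subgroup.normalizer ((S : Subgroup G) : Set G)).card_mul_index
  have e2 := (Subgroup.normalizer ((T : Subgroup G) : Set G)).card_mul_index
  rw [← hi, ← e1] at e2
  exact (Nat.eq_of_mul_eq_mul_right (Nat.pos_of_ne_zero Subgroup.index_ne_zero_of_finite) e2).symm

theorem mem_normalizer_of_conj {G : Type*} [Group G] [Finite G] {x g : G} {k : ℕ}
    (h : g * x * g⁻¹ = x ^ k) : g ∈ Subgroup.normalizer (Subgroup.zpowers x : Set G) := by
  have hmap : (Subgroup.zpowers x).map (MulAut.conj g).toMonoidHom = Subgroup.zpowers x := by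
    refine Subgroup.eq_of_le_of_card_ge ?_ (le_of_eq (Nat.card_congr
      (Subgroup.equivMapOfInjective _ _ (MulAut.conj g).injective).toEquiv))
    rw [MonoidHom.map_zpowers, Subgroup.zpowers_le]
    show g * x * g⁻¹ ∈ _
    rw [h]
    exact Subgroup.npow_mem_zpowers _ _
  rw [Subgroup.mem_normalizer_iff]
  intro w
  constructor
  · intro hw
    rw [← hmap]
    exact ⟨w, hw, rfl⟩
  · intro hw
    rw [← hmap] at hw
    obtain ⟨w', hw', e⟩ := hw
    rwa [show w = w' from (mul_left_cancel (mul_right_cancel e)).symm]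

theorem card_normalizer_twentythree {x : ↥M24} (hx : orderOf x = 23) :
    Nat.card (Subgroup.normalizer (Subgroup.zpowers x : Set ↥M24)) ≤ 253 := by
  have := Fact.mk (show Nat.Prime 23 by norm_num)
  obtain ⟨y, hy, -, hle⟩ := exists_x23
  rw [card_normalizer_eq (by rw [M24_card]; norm_num) hx hy]
  exact hle

theorem card_normalizer_M22 {y : ↥Spor.M22} (hy : orderOf y = 11) :
    Nat.card (Subgroup.normalizer (Subgroup.zpowers y : Set ↥Spor.M22)) = 55 := by
  have := Fact.mk (show Nat.Prime 11 by norm_num)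
  obtain ⟨x, hx, -, hle⟩ := exists_y11
  have hq : ¬ 11 ^ 2 ∣ Nat.card ↥Spor.M22 := by rw [card_sporM22]; norm_num
  rw [card_normalizer_eq hq hy hx]
  obtain ⟨c, k, n, hc, hc0, hk, hn, hN, hG⟩ := exists_normalizer_factors hx hq (cmax := 443520)
    ((Nat.card_le_card_of_injective _ Subtype.coe_injective).trans (le_of_eq card_sporM22))
  rw [hN] at hle ⊢
  rw [card_sporM22] at hG
  have hk' : k ≤ 10 := Nat.le_of_dvd (by norm_num) hk
  have hc' : c ≤ 5 := by
    have : c * 11 * 1 ≤ c * 11 * k := Nat.mul_le_mul_left _ (Nat.pos_of_dvd_of_pos hk (by norm_num))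
    omega
  interval_cases c <;> interval_cases k <;> omega

/-- In M23 the normaliser of an element of order 11 in a subgroup has order dividing 55. -/
theorem card_normalizer_eleven (K : Subgroup ↥M24) (hK : K ≤ stabilizer ↥M24 (none : GolayPt))
    (z : ↥K) (hz : orderOf z = 11) :
    Nat.card (Subgroup.normalizer (Subgroup.zpowers z : Set ↥K)) ∣ 55 := by
  classical
  have h11 : Fact (Nat.Prime 11) := ⟨by norm_num⟩
  have hz' : orderOf (z : ↥M24) = 11 := by rw [Subgroup.orderOf_coe, hz]
  have hF : (fixSet (z : ↥M24)).card = 2 := fixed_eleven hz'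
  have hnF : (none : GolayPt) ∈ fixSet (z : ↥M24) := mem_fixSet.2 (hK z.2)
  obtain ⟨c, hc⟩ := Finset.card_eq_one.1
    (show ((fixSet (z : ↥M24)).erase none).card = 1 by rw [Finset.card_erase_of_mem hnF, hF])
  have hcm := hc ▸ Finset.mem_singleton_self c
  have hcF := Finset.mem_of_mem_erase hcm
  have hcn := Finset.ne_of_mem_erase hcm
  obtain ⟨t, h1, h2⟩ := exists_map_two hcn.symm (show (none : GolayPt) ≠ some 0 by decide)
  set N := Subgroup.normalizer (Subgroup.zpowers z : Set ↥K)
  have hfixc : ∀ n ∈ N, ((n : ↥K) : ↥M24) • c = c := by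
    intro n hn
    have hm : n⁻¹ * z * n ∈ Subgroup.zpowers z := by
      have := (Subgroup.mem_normalizer_iff.1 (inv_mem hn) z).1 (Subgroup.mem_zpowers z)
      simpa using this
    obtain ⟨i, hi⟩ := hm
    have hic : ((n⁻¹ * z * n : ↥K) : ↥M24) • c = c := by
      rw [← hi, Subgroup.coe_zpow]
      exact MulAction.mem_stabilizer_iff.1
        (Subgroup.zpow_mem (stabilizer ↥M24 c) (mem_fixSet.1 hcF) i)
    have hzn : (z : ↥M24) • ((n : ↥M24) • c) = (n : ↥M24) • c := by
      have := congrArg (fun p => (n : ↥M24) • p) hic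
      simpa [mul_smul] using this
    by_contra hne
    have hmem : (n : ↥M24) • c ∈ (fixSet (z : ↥M24)).erase none := by
      refine Finset.mem_erase.2 ⟨fun e => hcn ?_, mem_fixSet.2 hzn⟩
      exact smul_left_cancel (n : ↥M24) (e.trans (hK n.2).symm)
    rw [hc, Finset.mem_singleton] at hmem
    exact hne hmem
  let φ : ↥N →* ↥Spor.M22 := (((M24.subtype.comp (MulAut.conj t).toMonoidHom).comp K.subtype).comp
    N.subtype).codRestrict _ fun n => by
    refine ⟨⟨(t * ((n : ↥K) : ↥M24) * t⁻¹ : ↥M24).2, ?_⟩, ?_⟩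
    · show (t * ((n : ↥K) : ↥M24) * t⁻¹) • (none : GolayPt) = none
      rw [← h1, mul_smul, mul_smul, inv_smul_smul, hK (n : ↥K).2]
    · show (t * ((n : ↥K) : ↥M24) * t⁻¹) • (some 0 : GolayPt) = some 0
      rw [← h2, mul_smul, mul_smul, inv_smul_smul, hfixc n n.2]
  have hφ : Function.Injective φ := fun a b e => Subtype.ext (Subtype.ext
    ((MulAut.conj t).injective (Subtype.ext (congrArg (fun w : ↥Spor.M22 => (w : Equiv.Perm GolayPt)) e))))
  let zN : ↥N := ⟨z, Subgroup.le_normalizer (Subgroup.mem_zpowers z)⟩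
  have hy : orderOf (φ zN) = 11 := by
    rw [orderOf_injective φ hφ, ← Subgroup.orderOf_coe]; exact hz
  rw [← card_normalizer_M22 hy, ← Subgroup.card_top (G := ↥N),
    ← Subgroup.card_map_of_injective (K := (⊤ : Subgroup ↥N)) hφ]
  refine Subgroup.card_dvd_of_le ?_
  rintro _ ⟨n, -, rfl⟩
  have hm : (n : ↥K) * z * (n : ↥K)⁻¹ ∈ Subgroup.zpowers z :=
    (Subgroup.mem_normalizer_iff.1 n.2 z).1 (Subgroup.mem_zpowers z)
  obtain ⟨i, hi⟩ := hm
  simp only at hi
  obtain ⟨j, hj⟩ : ∃ j : ℕ, z ^ j = z ^ i := (isOfFinOrder_of_finite z).mem_zpowers_iff_mem_range_orderOf.1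
    (Subgroup.zpow_mem_zpowers z i) |> fun h => by
      obtain ⟨j, -, hj⟩ := Finset.mem_image.1 h
      exact ⟨j, hj⟩
  refine mem_normalizer_of_conj (k := j) ?_
  rw [← map_inv, ← map_mul, ← map_mul, ← map_pow]
  refine congrArg φ (Subtype.ext ?_)
  show (n : ↥K) * z * (n : ↥K)⁻¹ = z ^ j
  rw [hj, hi]

/-! ### the orders over 23:11 -/

theorem order_check : forallLt 40321 (fun n => (! Nat.beq (40320 % n) 0) || (! Nat.beq (n % 23) 1) ||
    Nat.beq n 1 || Nat.beq n 40320 ||
    ([1, 5].all fun e => (! Nat.beq (253 * n % (11 * e)) 0) || ! Nat.beq (253 * n / (11 * e) % 11) 1)) = true := by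
  decide +kernel

theorem card_over {K : Subgroup ↥M24} (hK : K ≤ stabilizer ↥M24 (none : GolayPt))
    (h253 : 253 ∣ Nat.card ↥K) {F : Subgroup ↥M24} (hFK : F ≤ K) (hF : Nat.card ↥F = 253)
    {x : ↥M24} (hxF : x ∈ F) (hx : orderOf x = 23)
    (hFN : F ≤ Subgroup.normalizer (Subgroup.zpowers x : Set ↥M24)) :
    Nat.card ↥K = 253 ∨ Nat.card ↥K = 10200960 := by
  classical
  have h23 : Fact (Nat.Prime 23) := ⟨by norm_num⟩
  have h11 : Fact (Nat.Prime 11) := ⟨by norm_num⟩
  have hdvd : Nat.card ↥K ∣ 10200960 := card_stab_point none ▸ Subgroup.card_dvd_of_le hK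
  obtain ⟨m, hm⟩ := h253
  have hm' : m ∣ 40320 := Nat.dvd_of_mul_dvd_mul_left (by norm_num : 0 < 253) (by rw [← hm]; exact hdvd)
  have hm0 : 0 < m := Nat.pos_of_dvd_of_pos hm' (by norm_num)
  let xK : ↥K := ⟨x, hFK hxF⟩
  have hxK : orderOf xK = 23 := by rw [← Subgroup.orderOf_coe]; exact hx
  have hq23 : ¬ 23 ^ 2 ∣ Nat.card ↥K := fun h => by
    have := h.trans hdvd; norm_num at this
  obtain ⟨c, k, n, -, -, -, hn, hN, hG⟩ := exists_normalizer_factors hxK hq23
    (cmax := Nat.card ↥K) (Nat.card_le_card_of_injective _ Subtype.coe_injective)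
  have hN253 : c * 23 * k = 253 := by
    rw [← hN]
    refine le_antisymm ?_ ?_
    · refine le_trans ?_ (card_normalizer_twentythree hx)
      rw [← Subgroup.card_map_of_injective K.subtype_injective]
      refine Subgroup.card_le_of_le ((Subgroup.le_normalizer_map _).trans (le_of_eq ?_))
      rw [MonoidHom.map_zpowers]
      rfl
    · rw [← hF, ← Nat.card_congr (Subgroup.subgroupOfEquivOfLe hFK).toEquiv]
      refine Subgroup.card_le_of_le fun g hg => ?_
      have := hFN hg
      rw [Subgroup.mem_normalizer_iff] at this ⊢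
      intro w
      have e : ∀ v : ↥K, v ∈ Subgroup.zpowers xK ↔ (v : ↥M24) ∈ Subgroup.zpowers x := fun v => by
        rw [show Subgroup.zpowers x = (Subgroup.zpowers xK).map K.subtype by
          rw [MonoidHom.map_zpowers]; rfl]
        exact (Subgroup.mem_map_iff_mem K.subtype_injective).symm
      rw [e, e]
      exact this w
  rw [hN253, hm] at hG
  have hnm : n = m := (Nat.eq_of_mul_eq_mul_left (by norm_num) hG).symm
  subst hnm
  obtain ⟨z, hz⟩ := exists_prime_orderOf_dvd_card' (G := ↥K) 11 (by rw [hm]; exact Dvd.dvd.mul_right (by norm_num) n)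
  have hd := card_normalizer_eleven K hK z hz
  obtain ⟨c', k', n', -, -, -, hn', hN', hG'⟩ := exists_normalizer_factors hz
    (fun h => by have := h.trans hdvd; norm_num at this)
    (cmax := Nat.card ↥K) (Nat.card_le_card_of_injective _ Subtype.coe_injective)
  rw [hN'] at hd
  have he : c' * k' = 1 ∨ c' * k' = 5 := by
    have h' : 11 * (c' * k') ∣ 11 * 5 := by
      rw [show 11 * (c' * k') = c' * 11 * k' by ring]; exact hd
    have := (Nat.dvd_prime (by norm_num)).1 (Nat.dvd_of_mul_dvd_mul_left (by norm_num) h')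
    exact this
  have hchk := forallLt_elim order_check (show n < 40321 by have := Nat.le_of_dvd (by norm_num) hm'; omega)
  simp only [Bool.or_eq_true, Bool.not_eq_true', Nat.beq_eq, List.all_cons, List.all_nil, Bool.and_true,
    Bool.and_eq_true, Bool.eq_false_iff, ne_eq] at hchk
  rcases hchk with (((h | h) | h) | h) | ⟨h1, h5⟩
  · exact absurd (Nat.mod_eq_zero_of_dvd hm') h
  · exact absurd hn h
  · exact Or.inl (by rw [hm, h])
  · exact Or.inr (by rw [hm, h])
  · exfalso
    rw [hm] at hG'
    rcases he with he | he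
    · have e : 253 * n = 11 * 1 * n' := by rw [hG', ← he]; ring
      rcases h1 with h1 | h1
      · exact h1 (by rw [e]; exact Nat.mul_mod_right _ _)
      · exact h1 (by rw [e, Nat.mul_div_cancel_left _ (by norm_num)]; exact hn')
    · have e : 253 * n = 11 * 5 * n' := by rw [hG', ← he]; ring
      rcases h5 with h5 | h5
      · exact h5 (by rw [e]; exact Nat.mul_mod_right _ _)
      · exact h5 (by rw [e, Nat.mul_div_cancel_left _ (by norm_num)]; exact hn')

/-! ### the two groups -/

local notation "shift" => Equiv.optionCongr (Equiv.addRight (1 : ZMod 23))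

/-- The multiplications by squares. -/
def mults : Set (Equiv.Perm GolayPt) :=
  {g | ∃ u : (ZMod 23)ˣ, IsSquare u ∧ g = Equiv.optionCongr (Units.mulLeft u)}

/-- 23:11. -/
def frobGroup : Subgroup (Equiv.Perm GolayPt) := Subgroup.closure ({shift} ∪ mults)

/-- The projective group. -/
def projGroup : Subgroup (Equiv.Perm GolayPt) := Subgroup.closure ({shift, projInv} ∪ mults)

theorem frob_le_proj : frobGroup ≤ projGroup :=
  Subgroup.closure_mono (Set.union_subset_union_left _ (by simp))

theorem mults_mem {g : Equiv.Perm GolayPt} (h : g ∈ mults) : g ∈ M24 := by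
  obtain ⟨u, hu, rfl⟩ := h; exact mulSquare_mem u hu

theorem proj_le : projGroup ≤ M24 := by
  rw [projGroup, Subgroup.closure_le]
  rintro g ((rfl | rfl) | hg)
  exacts [shift_mem, projInv_mem, mults_mem hg]

theorem frob_le : frobGroup ≤ M24 ⊓ stabilizer (Equiv.Perm GolayPt) (none : GolayPt) := by
  refine le_inf (frob_le_proj.trans proj_le) ?_
  rw [frobGroup, Subgroup.closure_le]
  rintro g (rfl | ⟨u, -, rfl⟩) <;> exact rfl

/-- Multiplication by 2. -/
def twoMul : Equiv.Perm GolayPt := Equiv.optionCongr (Units.mulLeft (ZMod.unitOfCoprime 2 (by norm_num) : (ZMod 23)ˣ))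

theorem twoMul_mem : twoMul ∈ mults :=
  ⟨_, ⟨ZMod.unitOfCoprime 5 (by norm_num), Units.ext (by decide)⟩, rfl⟩

theorem mults_pow {g : Equiv.Perm GolayPt} (h : g ∈ mults) : ∃ k : ℕ, g = twoMul ^ k := by
  obtain ⟨u, ⟨r, rfl⟩, rfl⟩ := h
  haveI : Fact (1 < 23) := ⟨by norm_num⟩
  have key : ∀ a : ZMod 23, a ≠ 0 → ∃ k < 11, ∀ p : GolayPt, (twoMul ^ k) p = p.map fun x => a * a * x := by
    decide +kernel
  obtain ⟨k, -, hk⟩ := key (r : ZMod 23) r.ne_zero
  refine ⟨k, Equiv.ext fun p => ?_⟩
  rw [hk]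
  cases p <;> simp

theorem gen_orders : ((shift : Equiv.Perm GolayPt) ^ 23 = 1 ∧ (shift : Equiv.Perm GolayPt) ≠ 1) ∧
    (twoMul ^ 11 = 1 ∧ twoMul ≠ 1) ∧ twoMul * shift * twoMul⁻¹ = shift ^ 2 := by
  refine ⟨⟨?_, ?_⟩, ⟨?_, ?_⟩, ?_⟩ <;> decide +kernel

/-- The shift in M24. -/
def shift24 : ↥M24 := ⟨shift, shift_mem⟩

theorem orderOf_shift24 : orderOf shift24 = 23 := by
  have := Fact.mk (show Nat.Prime 23 by norm_num)
  exact orderOf_eq_prime (Subtype.ext gen_orders.1.1) fun e => gen_orders.1.2 (congrArg Subtype.val e)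

theorem frob_normalizes :
    frobGroup.subgroupOf M24 ≤ Subgroup.normalizer (Subgroup.zpowers shift24 : Set ↥M24) := by
  set N := Subgroup.normalizer (Subgroup.zpowers shift24 : Set ↥M24)
  have hle : frobGroup ≤ N.map M24.subtype := by
    have h1 : (shift : Equiv.Perm GolayPt) ∈ N.map M24.subtype :=
      ⟨shift24, Subgroup.le_normalizer (Subgroup.mem_zpowers _), rfl⟩
    have h2 : twoMul ∈ N.map M24.subtype :=
      ⟨⟨twoMul, mults_mem twoMul_mem⟩, mem_normalizer_of_conj (k := 2) (Subtype.ext gen_orders.2.2), rfl⟩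
    rw [frobGroup, Subgroup.closure_le]
    rintro g (rfl | hg)
    · exact h1
    · obtain ⟨k, rfl⟩ := mults_pow hg
      exact pow_mem h2 k
  intro g hg
  obtain ⟨w, hw, e⟩ := hle hg
  rwa [← Subtype.ext (a2 := g) e]

theorem card_frob : Nat.card ↥frobGroup = 253 := by
  have h23 := Fact.mk (show Nat.Prime 23 by norm_num)
  have h11 := Fact.mk (show Nat.Prime 11 by norm_num)
  have hle := frob_le.trans inf_le_left
  refine le_antisymm ?_ (Nat.le_of_dvd Nat.card_pos ?_)
  · rw [← Nat.card_congr (Subgroup.subgroupOfEquivOfLe hle).toEquiv]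
    exact (Subgroup.card_le_of_le frob_normalizes).trans (card_normalizer_twentythree orderOf_shift24)
  · have hs : (shift : Equiv.Perm GolayPt) ∈ frobGroup := Subgroup.subset_closure (Or.inl rfl)
    have ht : twoMul ∈ frobGroup := Subgroup.subset_closure (Or.inr twoMul_mem)
    have o1 : orderOf (⟨_, hs⟩ : ↥frobGroup) = 23 :=
      orderOf_eq_prime (Subtype.ext gen_orders.1.1) fun e => gen_orders.1.2 (congrArg Subtype.val e)
    have o2 : orderOf (⟨_, ht⟩ : ↥frobGroup) = 11 :=
      orderOf_eq_prime (Subtype.ext gen_orders.2.1.1) fun e => gen_orders.2.1.2 (congrArg Subtype.val e)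
    exact (show (253 : ℕ) = 23 * 11 by norm_num) ▸
      Nat.Coprime.mul_dvd_of_dvd_of_dvd (by norm_num) (o1 ▸ orderOf_dvd_natCard _) (o2 ▸ orderOf_dvd_natCard _)

/-- Over 23:11 in M23 there is only M23. -/
theorem frob_over {K : Subgroup ↥M24} (hK : K ≤ stabilizer ↥M24 (none : GolayPt))
    (hFK : frobGroup.subgroupOf M24 ≤ K) :
    K = frobGroup.subgroupOf M24 ∨ K = stabilizer ↥M24 (none : GolayPt) := by
  have hF : Nat.card ↥(frobGroup.subgroupOf M24) = 253 := by
    rw [Nat.card_congr (Subgroup.subgroupOfEquivOfLe (frob_le.trans inf_le_left)).toEquiv, card_frob]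
  rcases card_over hK (hF ▸ Subgroup.card_dvd_of_le hFK) hFK hF
    (x := shift24) (Subgroup.mem_subgroupOf.2 (Subgroup.subset_closure (Or.inl rfl)))
    orderOf_shift24 frob_normalizes with h | h
  · exact Or.inl (Subgroup.eq_of_le_of_card_ge hFK (by rw [h, hF])).symm
  · exact Or.inr (Subgroup.eq_of_le_of_card_ge hK (by rw [h, card_stab_point]))

/-- The projective orbit of a sextet. -/
noncomputable def projFam : Finset (Finset (Finset GolayPt)) := (projSextets.map toQ).toFinset

noncomputable def keepsFam (p : ℕ) : Bool :=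
  projSextets.all fun q => projSextets.any fun q' => q.all fun v => hasM q' (mimg p v)

theorem fam_check : keepsFam (packOf shift) = true ∧ keepsFam (packOf projInv) = true ∧
    keepsFam (packOf twoMul) = true ∧ projSextets.all (fun q => q.all (fun v => Nat.blt v 16777216) &&
      distinctList q && Nat.beq q.length 6) = true ∧ hasM (projBad) (projBad.getD 0 0) = true ∧
    projSextets.any (fun q => q.all (hasM projBad) && projBad.all (hasM q)) = true ∧
    projSextets.all (fun q => ! (projBad.all fun v => hasM q (mimg (packOf cubeTwistFun) v))) = true := by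
  decide +kernel

theorem card_toQ' {q : List ℕ} (h : q ∈ projSextets) : (toQ q).card = 6 ∧ ∀ v ∈ q, v < 2 ^ 24 := by
  have := List.all_eq_true.1 fam_check.2.2.2.1 q h
  simp only [Bool.and_eq_true, List.all_eq_true, Nat.blt_eq, Nat.beq_eq] at this
  obtain ⟨⟨h1, h2⟩, h3⟩ := this
  refine ⟨?_, h1⟩
  rw [toQ, Finset.card_image_of_injOn fun a ha b hb e => setOfMask_inj (h1 a (List.mem_toFinset.1 ha))
    (h1 b (List.mem_toFinset.1 hb)) e, List.toFinset_card_of_nodup (nodup_of_distinctList h2), h3]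

theorem keeps_stab {g : ↥M24} {p : ℕ} (hg : Rep (g : Equiv.Perm GolayPt) p) (h : keepsFam p = true) :
    g ∈ stabilizer ↥M24 projFam := by
  classical
  rw [mem_stabilizer_iff]
  refine Finset.eq_of_subset_of_card_le (fun Q hQ => ?_) (by rw [Finset.card_smul_finset])
  obtain ⟨R, hR, rfl⟩ := Finset.mem_smul_finset.1 hQ
  obtain ⟨q, hq, rfl⟩ := List.mem_map.1 (List.mem_toFinset.1 hR)
  obtain ⟨q', hq', hall⟩ := List.any_eq_true.1 (List.all_eq_true.1 h q hq)
  refine List.mem_toFinset.2 (List.mem_map.2 ⟨q', hq', ?_⟩)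
  symm
  refine Finset.eq_of_subset_of_card_le (fun t ht => ?_)
    (by rw [Finset.card_smul_finset, (card_toQ' hq).1, (card_toQ' hq').1])
  obtain ⟨u, hu, rfl⟩ := Finset.mem_smul_finset.1 ht
  obtain ⟨v, hv, rfl⟩ := Finset.mem_image.1 hu
  have hgv : g • setOfMask v = setOfMask (mimg p v) := smul_setOfMask hg v
  rw [hgv]
  exact Finset.mem_image_of_mem _ (List.mem_toFinset.2
    (hasM_iff.1 (List.all_eq_true.1 hall v (List.mem_toFinset.1 hv))))

theorem proj_ne_top : projGroup.subgroupOf M24 ≠ ⊤ := by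
  classical
  obtain ⟨h1, h2, h3, -, -, h6, h7⟩ := fam_check
  have hle : projGroup ≤ (stabilizer ↥M24 projFam).map M24.subtype := by
    have ms : (shift : Equiv.Perm GolayPt) ∈ (stabilizer ↥M24 projFam).map M24.subtype :=
      ⟨⟨_, shift_mem⟩, keeps_stab (rep_packOf _) h1, rfl⟩
    have mi : projInv ∈ (stabilizer ↥M24 projFam).map M24.subtype :=
      ⟨⟨_, projInv_mem⟩, keeps_stab (rep_packOf _) h2, rfl⟩
    have mt : twoMul ∈ (stabilizer ↥M24 projFam).map M24.subtype :=
      ⟨⟨_, mults_mem twoMul_mem⟩, keeps_stab (rep_packOf _) h3, rfl⟩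
    rw [projGroup, Subgroup.closure_le]
    rintro g ((rfl | rfl) | hg)
    · exact ms
    · exact mi
    · obtain ⟨k, rfl⟩ := mults_pow hg
      exact pow_mem mt k
  intro htop
  obtain ⟨w, hw, e⟩ := hle (show cubeTwist ∈ projGroup from
    (Subgroup.mem_subgroupOf (h := (⟨cubeTwist, cubeTwist_mem⟩ : ↥M24))).1 (htop ▸ Subgroup.mem_top _))
  obtain ⟨q, hq, hqb⟩ := List.any_eq_true.1 h6
  simp only [Bool.and_eq_true, List.all_eq_true, hasM_iff] at hqb
  have hmem : w • toQ q ∈ projFam := by
    have hqm : toQ q ∈ projFam := List.mem_toFinset.2 (List.mem_map.2 ⟨q, hq, rfl⟩)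
    have := Finset.smul_mem_smul_finset (a := w) hqm
    rwa [mem_stabilizer_iff.1 hw] at this
  obtain ⟨q', hq', e'⟩ := List.mem_map.1 (List.mem_toFinset.1 hmem)
  have := List.all_eq_true.1 h7 q' hq'
  rw [Bool.not_eq_true', ← Bool.not_eq_true, List.all_eq_true] at this
  refine this fun v hv => hasM_iff.2 ?_
  have hv' : w • setOfMask v ∈ w • toQ q :=
    Finset.smul_mem_smul_finset (Finset.mem_image_of_mem _ (List.mem_toFinset.2 (hqb.2 v hv)))
  rw [← e', mem_toQ (card_toQ' hq').2] at hv'
  have hr : Rep (w : Equiv.Perm GolayPt) (packOf cubeTwistFun) := by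
    rw [show (w : Equiv.Perm GolayPt) = cubeTwist from e, ← packOf_cubeTwist]; exact rep_packOf _
  rwa [show w • setOfMask v = setOfMask (mimg (packOf cubeTwistFun) v) from smul_setOfMask hr v,
    maskOf_setOfMask (mimg_lt hr v)] at hv'

theorem trans_check : ∀ z : GolayPt, ∃ k : Fin 23, z = none ∨ (shift ^ k.val * projInv) none = z := by
  decide +kernel

theorem proj_transitive (z : GolayPt) : ∃ g : ↥M24, g ∈ projGroup.subgroupOf M24 ∧ g • (none : GolayPt) = z := by
  obtain ⟨k, hk⟩ := trans_check z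
  rcases hk with rfl | hk
  · exact ⟨1, one_mem _, one_smul _ _⟩
  · refine ⟨⟨shift ^ k.val * projInv, mul_mem (pow_mem shift_mem _) projInv_mem⟩,
      Subgroup.mem_subgroupOf.2 ?_, hk⟩
    show (shift : Equiv.Perm GolayPt) ^ k.val * projInv ∈ projGroup
    have a : (shift : Equiv.Perm GolayPt) ∈ projGroup := Subgroup.subset_closure (Or.inl (Or.inl rfl))
    have b : projInv ∈ projGroup := Subgroup.subset_closure (Or.inl (Or.inr rfl))
    exact mul_mem (pow_mem a _) b

/-- A subgroup over the projective group has order 6072 or is M24. -/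
theorem proj_over {K : Subgroup ↥M24} (hPK : projGroup.subgroupOf M24 ≤ K) :
    Nat.card ↥K = 6072 ∨ K = ⊤ := by
  classical
  have horb : (orb K none).card = 24 := by
    refine le_antisymm (Finset.card_le_univ _) ?_
    refine le_trans (le_of_eq (Finset.card_univ (α := GolayPt)).symm) (Finset.card_le_card fun z _ => ?_)
    obtain ⟨g, hg, e⟩ := proj_transitive z
    rw [← e]
    exact orb_invariant (hPK hg) none (self_mem_orb K none)
  have hmul := card_orb_mul K none
  rw [horb] at hmul
  have hsub : frobGroup.subgroupOf M24 ≤ K ⊓ stabilizer ↥M24 (none : GolayPt) :=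
    le_inf (fun g hg => hPK (frob_le_proj hg)) fun g hg => (frob_le hg).2
  rcases frob_over inf_le_right hsub with h | h
  · left
    rw [h, Nat.card_congr (Subgroup.subgroupOfEquivOfLe (frob_le.trans inf_le_left)).toEquiv, card_frob] at hmul
    exact hmul.symm
  · right
    refine Subgroup.eq_top_of_card_eq _ ?_
    rw [M24_card, ← hmul, h, card_stab_point]

theorem proj_maximal : projGroup ≤ M24 ∧ Nat.card ↥projGroup = 6072 ∧ IsCoatom (projGroup.subgroupOf M24) := by
  have hc : Nat.card ↥(projGroup.subgroupOf M24) = 6072 := (proj_over le_rfl).resolve_right proj_ne_top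
  refine ⟨proj_le, by rw [← hc, Nat.card_congr (Subgroup.subgroupOfEquivOfLe proj_le).toEquiv],
    proj_ne_top, fun K hK => (proj_over hK.le).resolve_left fun h => ?_⟩
  exact hK.ne (Subgroup.eq_of_le_of_card_ge hK.le (by rw [h, hc]))

theorem frob_maximal : frobGroup ≤ M24 ⊓ stabilizer (Equiv.Perm GolayPt) (none : GolayPt) ∧
    Nat.card ↥frobGroup = 253 ∧
    IsCoatom ((frobGroup.subgroupOf M24).subgroupOf (stabilizer ↥M24 (none : GolayPt))) := by
  have hle : frobGroup.subgroupOf M24 ≤ stabilizer ↥M24 (none : GolayPt) := fun g hg => (frob_le hg).2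
  refine ⟨frob_le, card_frob, ?_, fun K hK => ?_⟩
  · intro h
    rw [Subgroup.subgroupOf_eq_top] at h
    have := Subgroup.card_le_of_le h
    rw [card_stab_point, Nat.card_congr (Subgroup.subgroupOfEquivOfLe (frob_le.trans inf_le_left)).toEquiv,
      card_frob] at this
    omega
  · have hsub : frobGroup.subgroupOf M24 ≤ K.map (stabilizer ↥M24 (none : GolayPt)).subtype := fun g hg =>
      ⟨⟨g, hle hg⟩, hK.le hg, rfl⟩
    rcases frob_over (Subgroup.map_subtype_le K) hsub with h | h
    · exfalso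
      refine hK.ne ?_
      refine Subgroup.map_injective (Subgroup.subtype_injective (stabilizer ↥M24 (none : GolayPt))) ?_
      rw [h, Subgroup.subgroupOf_map_subtype, inf_eq_left.2 hle]
    · refine Subgroup.map_injective (Subgroup.subtype_injective (stabilizer ↥M24 (none : GolayPt))) ?_
      rw [h, ← MonoidHom.range_eq_map, Subgroup.range_subtype]

end CfsgLib.Sporadic.ProjTT
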