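import Cfsg.Agent.Lib.Sporadic.SporMathieu
import Cfsg.Agent.Lib.Sporadic.PermList

/-!
# Elements of large prime order in M22 and M24: conjugate powers and normalizer orders
-/

set_option autoImplicit false

namespace CfsgLib.Sporadic

open Cfsg MulAction
open scoped Pointwise

/-- Packed powers. -/
noncomputable def ppow (p k : ℕ) : ℕ := Nat.rec pone (fun _ ih => pmul p ih) k

theorem rep_pow {σ : Equiv.Perm GolayPt} {p : ℕ} (h : Rep σ p) (k : ℕ) : Rep (σ ^ k) (ppow p k) := by
  induction k with
  | zero => rw [pow_zero]; exact Rep.one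
  | succ k ih => rw [pow_succ']; exact h.mul ih

/-- The `e`-th image of a point number. -/
noncomputable def porbit (p j e : ℕ) : ℕ := Nat.rec j (fun _ ih => pget p ih) e

theorem porbit_spec {σ : Equiv.Perm GolayPt} {p : ℕ} (h : Rep σ p) {j : ℕ} (hj : j < 24) (e : ℕ) :
    porbit p j e = ix ((σ ^ e) (pt j)) := by
  induction e with
  | zero => simp [porbit, ix_pt hj]
  | succ e ih =>
    show pget p (porbit p j e) = _
    rw [ih, h, pow_succ', Equiv.Perm.mul_apply]

/-- The points numbered in `rs` and their images under the powers below `q` cover `F`, which fixes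
everything. -/
noncomputable def coverOK (p q F : ℕ) (os rs : List ℕ) : Bool :=
  rs.all (fun j => Nat.blt j 24) &&
    forallLt 24 (fun i => Nat.beq (bitAt F i) 0 ||
      rs.any fun j => ! forallLt q (fun e => ! Nat.beq (porbit p j e) i)) &&
    fixStep F os (os ++ bitsList F) 16777215

theorem eq_one_of_cover {x u : ↥M24} {p q F : ℕ} {os rs : List ℕ}
    (hx : Rep (x : Equiv.Perm GolayPt) p) (hok : coverOK p q F os rs = true) (hc : u * x = x * u)
    (hfix : ∀ j ∈ rs, u • pt j = pt j) : u = 1 := by
  simp only [coverOK, Bool.and_eq_true, List.all_eq_true, Nat.blt_eq] at hok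
  obtain ⟨⟨hrs, hcov⟩, hstep⟩ := hok
  refine Subtype.ext (Equiv.ext fun y => fixStep_spec hstep u.2 (fun z hz => ?_) y
    (by rw [← maskOf_univ, setOfMask_maskOf]; simp))
  have h := forallLt_elim hcov (ix_lt z)
  simp only [Bool.or_eq_true, Nat.beq_eq, List.any_eq_true, Bool.not_eq_true'] at h
  rcases h with h | ⟨j, hj, h⟩
  · rw [mem_setOfMask] at hz
    simp [bitAt_eq, hz] at h
  rw [Bool.eq_false_iff, ne_eq, forallLt_iff] at h
  push Not at h
  obtain ⟨e, -, he⟩ := h
  simp only [ne_eq, Bool.not_eq_true', Bool.not_eq_false, Nat.beq_eq] at he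
  rw [porbit_spec hx (hrs j hj)] at he
  have hz' : (x ^ e) • pt j = z := ix_injective he
  show u • z = z
  rw [← hz', ← mul_smul, show u * x ^ e = x ^ e * u from
    ((show Commute u x from hc).pow_right e).eq, mul_smul, hfix j hj]

/-- The number of points moved by a packed permutation, apart from those listed. -/
noncomputable def movedCount (p : ℕ) : ℕ := countLt 24 fun i => ! Nat.beq (pget p i) i

theorem card_moved {σ : Equiv.Perm GolayPt} {p : ℕ} (h : Rep σ p) :
    (Finset.univ.filter fun y => σ y ≠ y).card = movedCount p := by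
  rw [movedCount, countLt_eq, ← image_ix_univ, Finset.filter_image,
    Finset.card_image_of_injective _ ix_injective]
  congr 1
  ext y
  simp only [Finset.mem_filter, Finset.mem_univ, true_and, Bool.not_eq_true', ne_eq,
    Bool.eq_false_iff, Nat.beq_eq, h y, ix_inj]

theorem fixes_of_pget {g : ↥M24} {p i : ℕ} (h : Rep (g : Equiv.Perm GolayPt) p) (hi : i < 24)
    (hp : pget p i = i) : g • pt i = pt i := by
  apply ix_injective
  show ix ((g : Equiv.Perm GolayPt) (pt i)) = _
  rw [← h (pt i), ix_pt hi, hp]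

theorem pow_eq_one_of_ppow {g : ↥M24} {p q : ℕ} (h : Rep (g : Equiv.Perm GolayPt) p)
    (hp : Nat.beq (ppow p q) pone = true) : g ^ q = 1 := by
  refine Subtype.ext ?_
  rw [Subgroup.coe_pow, Subgroup.coe_one]
  exact ((Nat.eq_of_beq_eq_true hp) ▸ rep_pow h q).unique Rep.one

theorem conj_of_pmul {g x : ↥M24} {pg px k : ℕ} (hg : Rep (g : Equiv.Perm GolayPt) pg)
    (hx : Rep (x : Equiv.Perm GolayPt) px)
    (h : Nat.beq (pmul pg px) (pmul (ppow px k) pg) = true) : g * x * g⁻¹ = x ^ k := by
  rw [mul_inv_eq_iff_eq_mul]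
  refine Subtype.ext ?_
  rw [Subgroup.coe_mul, Subgroup.coe_mul, Subgroup.coe_pow]
  exact ((Nat.eq_of_beq_eq_true h) ▸ hg.mul hx).unique ((rep_pow hx k).mul hg)

/-! ### normalizers of subgroups of prime order -/

theorem exists_normalizer_factors {H : Type*} [Group H] [Finite H] {q : ℕ} [Fact q.Prime] {x : H}
    (hx : orderOf x = q) (hq2 : ¬ q ^ 2 ∣ Nat.card H) {cmax : ℕ}
    (hC : Nat.card (Subgroup.centralizer ({x} : Set H)) ≤ cmax) :
    ∃ c k n : ℕ, c * q ≤ cmax ∧ 0 < c ∧ k ∣ q - 1 ∧ n % q = 1 ∧
      Nat.card (Subgroup.normalizer (Subgroup.zpowers x : Set H)) = c * q * k ∧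
      Nat.card H = c * q * k * n := by
  classical
  set P := Subgroup.zpowers x with hP
  set N := Subgroup.normalizer (P : Set H) with hN
  set C := Subgroup.centralizer ({x} : Set H) with hCdef
  have hPc : Nat.card P = q := by rw [hP, Nat.card_zpowers, hx]
  have hq := (Fact.out : q.Prime)
  have hdvdG : q ∣ Nat.card H := hPc ▸ Subgroup.card_subgroup_dvd_card P
  have hfac : (Nat.card H).factorization q = 1 := by
    have h1 : 1 ≤ (Nat.card H).factorization q := hq.factorization_pos_of_dvd Nat.card_pos.ne' hdvdG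
    have h2 : (Nat.card H).factorization q < 2 := by
      by_contra hc
      exact hq2 ((pow_dvd_pow q (not_lt.1 hc)).trans (Nat.ordProj_dvd _ q))
    omega
  let S : Sylow q H := Sylow.ofCard P (by rw [hPc, hfac, pow_one])
  have hcen : Subgroup.centralizer (P : Set H) = C := by
    rw [hP, hCdef, Subgroup.zpowers_eq_closure, Subgroup.centralizer_closure]
  have hCN : C ≤ N := hcen ▸ fun g hg => Subgroup.mem_normalizer_iff.2 fun a => by
    constructor
    · intro ha
      rwa [← Subgroup.mem_centralizer_iff.1 hg a ha, mul_inv_cancel_right]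
    · intro ha
      have h := Subgroup.mem_centralizer_iff.1 hg _ ha
      rw [inv_mul_cancel_right, mul_left_cancel_iff] at h
      rwa [← h] at ha
  have hqC : q ∣ Nat.card C := hPc ▸ Subgroup.card_dvd_of_le (by
    rw [hP, Subgroup.zpowers_le]
    exact Subgroup.mem_centralizer_singleton_iff.2 rfl)
  obtain ⟨c, hc⟩ := hqC
  have hk : C.relIndex N ∣ q - 1 := by
    have h1 : C.relIndex N = Nat.card (Subgroup.normalizerMonoidHom P).range := by
      rw [← Subgroup.index_ker, Subgroup.normalizerMonoidHom_ker, hcen]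
      rfl
    have hcyc : IsCyclic P := isCyclic_of_prime_card hPc
    have h2 : Nat.card (MulAut P) = q - 1 := by
      rw [IsCyclic.card_mulAut, hPc, Nat.totient_prime hq]
    rw [h1, ← h2]
    exact Subgroup.card_subgroup_dvd_card _
  have hcard : Nat.card N = c * q * C.relIndex N := by
    rw [← Subgroup.relIndex_bot_left N, ← Subgroup.relIndex_mul_relIndex ⊥ C N bot_le hCN,
      Subgroup.relIndex_bot_left, hc, mul_comm q c]
  have hn : N.index % q = 1 := by
    have h := card_sylow_modEq_one q H
    rw [S.card_eq_index_normalizer] at h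
    change N.index ≡ 1 [MOD q] at h
    rw [Nat.ModEq, Nat.mod_eq_of_lt hq.one_lt] at h
    exact h
  refine ⟨c, C.relIndex N, N.index, by rw [mul_comm, ← hc]; exact hC, ?_, hk, hn, hcard, ?_⟩
  · rcases Nat.eq_zero_or_pos c with rfl | h
    · exact absurd hc (by simp [Nat.card_pos.ne'])
    · exact h
  · rw [← hcard, N.card_mul_index]

end CfsgLib.Sporadic
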