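import Cfsg.Agent.Lib.Sporadic.M21Data
import Cfsg.Agent.Lib.Sporadic.M24Gen

/-!
# The stabiliser of three points is simple (Iwasawa's criterion on the 21 octads through them)
-/

set_option autoImplicit false

namespace CfsgLib.Sporadic

open Cfsg MulAction
open scoped Pointwise commutatorElement

/-- The stabiliser of `none`, `0`, `1`. -/
def M21 : Subgroup ↥M24 :=
  stabilizer ↥M24 (none : GolayPt) ⊓ stabilizer ↥M24 (some 0 : GolayPt) ⊓
    stabilizer ↥M24 (some 1 : GolayPt)

theorem mem_M21 {g : ↥M24} :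
    g ∈ M21 ↔ g • (none : GolayPt) = none ∧ g • (some 0 : GolayPt) = some 0 ∧
      g • (some 1 : GolayPt) = some 1 := by
  simp [M21, and_assoc]

/-- Its 21 lines. -/
def M21Line : Type :=
  {o : Finset GolayPt // o ∈ octads ∧ none ∈ o ∧ some 0 ∈ o ∧ some 1 ∈ o}

theorem smul_line {g : ↥M24} (hg : g ∈ M21) {o : Finset GolayPt}
    (h : o ∈ octads ∧ none ∈ o ∧ some 0 ∈ o ∧ some 1 ∈ o) :
    g • o ∈ octads ∧ none ∈ g • o ∧ some 0 ∈ g • o ∧ some 1 ∈ g • o := by
  obtain ⟨h1, h2, h3⟩ := mem_M21.1 hg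
  refine ⟨(smul_mem_octads' g).2 h.1, ?_, ?_, ?_⟩
  · rw [← h1, mem_smul_set]; exact h.2.1
  · rw [← h2, mem_smul_set]; exact h.2.2.1
  · rw [← h3, mem_smul_set]; exact h.2.2.2

instance instMulActionM21Line : MulAction ↥M21 M21Line where
  smul g o := ⟨(g : ↥M24) • o.1, smul_line g.2 o.2⟩
  one_smul o := Subtype.ext (one_smul ↥M24 o.1)
  mul_smul g h o := Subtype.ext (mul_smul (g : ↥M24) (h : ↥M24) o.1)

theorem coe_smul_line (g : ↥M21) (o : M21Line) : (g • o).1 = (g : ↥M24) • o.1 := rfl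

def stdLine : M21Line := ⟨setOfMask stdO, stdO_mem, by decide +kernel, by decide +kernel, by decide +kernel⟩

theorem line_mask (o : M21Line) :
    (Nat.beq (popc (maskOf o.1)) 8 && Nat.beq (maskOf o.1 &&& 8388611) 8388611) = true := by
  rw [Bool.and_eq_true, Nat.beq_eq, Nat.beq_eq]
  refine ⟨(mem_octads_iff.1 o.2.1).2, ?_⟩
  have h : maskOf {none, some 0, some 1} = 8388611 := by decide +kernel
  rw [← h, ← maskOf_inter]
  congr 1
  refine Finset.inter_eq_right.2 fun x hx => ?_
  simp only [Finset.mem_insert, Finset.mem_singleton] at hx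
  rcases hx with rfl | rfl | rfl
  exacts [o.2.2.1, o.2.2.2.1, o.2.2.2.2]

theorem stabGens_M21 {gens : List ℕ} (h : gens.all (fun p => isAut p &&
    Nat.beq (pget p 23) 23 && Nat.beq (pget p 0) 0 && Nat.beq (pget p 1) 1) = true) :
    GensIn M21 gens := fun p hp => by
  simp only [List.all_eq_true, Bool.and_eq_true, Nat.beq_eq] at h
  obtain ⟨⟨⟨h1, h2⟩, h3⟩, h4⟩ := h p hp
  obtain ⟨g, hg⟩ := exists_M24_elt h1
  exact ⟨g, mem_M21.2 ⟨mem_stab_point hg h2, mem_stab_point hg h3, mem_stab_point hg h4⟩, hg⟩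

theorem exists_smul_line (o : M21Line) : ∃ g : ↥M21, g • stdLine = o := by
  obtain ⟨g, hg, e⟩ := exists_smul_code (H := M21) (gens := m21Gens) (ops := m21LineOps)
    (root := stdO) (stabGens_M21 (by decide +kernel)) (by decide +kernel)
    (f := fun m => Nat.beq (popc m) 8 && Nat.beq (Nat.land m 8388611) 8388611) (by decide +kernel)
    (mem_octads_iff.1 o.2.1).1 (line_mask o)
  exact ⟨⟨g, hg⟩, Subtype.ext e⟩

theorem exists_smul_line_stab (o : M21Line) (ho : o ≠ stdLine) :
    ∃ g : ↥M21, g • stdLine = stdLine ∧ (g : ↥M24) • setOfMask m21Other = o.1 := by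
  have hK : GensIn (M21 ⊓ stabilizer ↥M24 (setOfMask stdO)) m21LineGens := fun p hp => by
    obtain ⟨g, hg, hr⟩ := stabGens_M21 (gens := m21LineGens) (by decide +kernel) p hp
    have h : ∀ q ∈ m21LineGens, mimg q stdO = stdO := by decide +kernel
    exact ⟨g, Subgroup.mem_inf.2 ⟨hg, mem_stab_mask hr (h p hp)⟩, hr⟩
  obtain ⟨g, hg, e⟩ := exists_smul_code hK (ops := m21OtherOps) (root := m21Other) (by decide +kernel)
    (f := fun m => (Nat.beq (popc m) 8 && Nat.beq (Nat.land m 8388611) 8388611) && !(Nat.beq m stdO))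
    (by decide +kernel) (mem_octads_iff.1 o.2.1).1 (by
      rw [Bool.and_eq_true, Bool.not_eq_true', Bool.eq_false_iff, ne_eq, Nat.beq_eq]
      exact ⟨line_mask o, fun h => ho (Subtype.ext (by
        rw [← setOfMask_maskOf o.1, h]; rfl))⟩)
  exact ⟨⟨g, (Subgroup.mem_inf.1 hg).1⟩, Subtype.ext (Subgroup.mem_inf.1 hg).2, e⟩

instance isPretransitive_M21Line : IsPretransitive ↥M21 M21Line := ⟨fun x y => by
  obtain ⟨g, rfl⟩ := exists_smul_line x
  obtain ⟨h, rfl⟩ := exists_smul_line y
  exact ⟨h * g⁻¹, by rw [mul_smul, inv_smul_smul]⟩⟩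

theorem two_transitive_M21Line : IsMultiplyPretransitive ↥M21 M21Line 2 := by
  rw [is_two_pretransitive_iff]
  intro a b c d hab hcd
  obtain ⟨g, hg⟩ := exists_smul_line a
  obtain ⟨h, hh⟩ := exists_smul_line c
  have hb : g⁻¹ • b ≠ stdLine := fun e => hab (by rw [← hg, ← e, smul_inv_smul])
  have hd : h⁻¹ • d ≠ stdLine := fun e => hcd (by rw [← hh, ← e, smul_inv_smul])
  obtain ⟨u, hu, eu⟩ := exists_smul_line_stab _ hb
  obtain ⟨v, hv, ev⟩ := exists_smul_line_stab _ hd
  refine ⟨h * v * u⁻¹ * g⁻¹, ?_, ?_⟩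
  · rw [← hg, mul_smul, inv_smul_smul, mul_smul, inv_smul_eq_iff.2 hu.symm, mul_smul, hv, hh]
  · rw [mul_smul, mul_smul, mul_smul]
    have : u⁻¹ • g⁻¹ • b = v⁻¹ • h⁻¹ • d := Subtype.ext (by
      rw [coe_smul_line u⁻¹, coe_smul_line v⁻¹, ← eu, ← ev]
      simp)
    rw [this, smul_inv_smul, smul_inv_smul]

instance finite_M21Line : Finite M21Line := Subtype.finite

def m21Lines : List ℕ :=
  [9347075, 14716939, 12656663, 8536111, 13893731, 9465987, 11010247, 11731203, 8421811, 8524371,
    8716939, 13124355, 10765331, 8983587, 8398155, 9471495, 9963547, 8505411, 8657159, 10496547,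
    12717187]

/-- The elations with a given axis. -/
def elations (o : M21Line) : Subgroup ↥M21 :=
  (fixingSubgroup ↥M24 (o.1 : Set GolayPt)).subgroupOf M21

theorem mem_elations {o : M21Line} {g : ↥M21} :
    g ∈ elations o ↔ ∀ x ∈ o.1, (g : ↥M24) • x = x := by
  rw [elations, Subgroup.mem_subgroupOf, mem_fixingSubgroup_iff]; rfl

theorem elations_conj (g : ↥M21) (o : M21Line) :
    elations (g • o) = MulAut.conj g • elations o := by
  ext h
  rw [Subgroup.mem_pointwise_smul_iff_inv_smul_mem, mem_elations, mem_elations, MulAut.inv_def,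
    MulAut.smul_def, MulAut.conj_symm_apply, coe_smul_line]
  constructor
  · intro hx x hxo
    rw [Subgroup.coe_mul, Subgroup.coe_mul, mul_smul, mul_smul, hx _ ((mem_smul_set _).2 hxo),
      Subgroup.coe_inv, inv_smul_smul]
  · intro hx x hxo
    obtain ⟨y, rfl⟩ : ∃ y, x = (g : ↥M24) • y := ⟨_, (smul_inv_smul (g : ↥M24) x).symm⟩
    have := hx y ((mem_smul_set _).1 hxo)
    rwa [Subgroup.coe_mul, Subgroup.coe_mul, mul_smul, mul_smul, Subgroup.coe_inv,
      inv_smul_eq_iff] at this

/-- The levels of the base below M21. -/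
theorem m21_levels : levelOK [1, 0, 23] 2 m21Trans0 8388604 = true ∧
    levelOK [2, 1, 0, 23] 3 m21Trans1 8388600 = true ∧
    levelOK [3, 2, 1, 0, 23] 5 m21Trans2 147488 = true ∧
    levelOK [5, 3, 2, 1, 0, 23] 4 m21Trans3 8241104 = true := by
  refine ⟨?_, ?_, ?_, ?_⟩ <;> decide +kernel

noncomputable def elationCheck (e : ℕ × ℕ × ℕ × ℕ) : Bool :=
  [e.1, e.2.2.1, e.2.2.2].all (fun p => isAut p &&
    Nat.beq (pget p 23) 23 && Nat.beq (pget p 0) 0 && Nat.beq (pget p 1) 1) &&
  inCode e.2.1 && Nat.beq (popc e.2.1) 8 && Nat.beq (Nat.land e.2.1 8388611) 8388611 &&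
  forallLt 24 (fun i => Nat.beq (bitAt e.2.1 i) 0 || Nat.beq (pget e.1 i) i) &&
  Nat.beq (pmul e.2.2.1 e.2.2.2) (pmul e.1 (pmul e.2.2.2 e.2.2.1))

theorem elation_spec {e : ℕ × ℕ × ℕ × ℕ} (he : elationCheck e = true) :
    ∃ (o : M21Line) (g : ↥M21), g ∈ elations o ∧ g ∈ commutator ↥M21 ∧
      Rep ((g : ↥M24) : Equiv.Perm GolayPt) e.1 := by
  simp only [elationCheck, Bool.and_eq_true, Nat.beq_eq] at he
  obtain ⟨⟨⟨⟨⟨hp, hc⟩, hw⟩, hm⟩, hfix⟩, hcomm⟩ := he
  have hgens := stabGens_M21 (gens := [e.1, e.2.2.1, e.2.2.2]) hp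
  obtain ⟨g, hg, rg⟩ := hgens e.1 (by simp)
  obtain ⟨a, ha, ra⟩ := hgens e.2.2.1 (by simp)
  obtain ⟨b, hb, rb⟩ := hgens e.2.2.2 (by simp)
  have hlt := inCode_lt hc
  have hin : ∀ x : GolayPt, (8388611 : ℕ).testBit (ix x) = true → x ∈ setOfMask e.2.1 := by
    intro x hx
    rw [mem_setOfMask]
    change e.2.1 &&& 8388611 = 8388611 at hm
    have := congrArg (fun z => Nat.testBit z (ix x)) hm
    simp only [Nat.testBit_and] at this
    rw [hx, Bool.and_true] at this
    exact this
  refine ⟨⟨setOfMask e.2.1, mem_octads_iff.2 (by rw [maskOf_setOfMask hlt]; exact ⟨hc, hw⟩),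
    hin _ (by decide +kernel), hin _ (by decide +kernel), hin _ (by decide +kernel)⟩, ⟨g, hg⟩, ?_, ?_, rg⟩
  · refine mem_elations.2 fun x hx => ?_
    have := forallLt_elim hfix (ix_lt x)
    simp only [Bool.or_eq_true, Nat.beq_eq] at this
    simp only [mem_setOfMask] at hx
    exact ix_injective ((rg x).symm.trans (this.resolve_left (by simp [bitAt_eq, hx])))
  · have hperm : ((a * b : ↥M24) : Equiv.Perm GolayPt) = ((g * (b * a) : ↥M24) : Equiv.Perm GolayPt) :=
      (ra.mul rb).unique (hcomm.symm ▸ rg.mul (rb.mul ra))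
    have hab : a * b = g * (b * a) := Subtype.ext hperm
    have : (⟨g, hg⟩ : ↥M21) = ⁅(⟨a, ha⟩ : ↥M21), (⟨b, hb⟩ : ↥M21)⁆ := Subtype.ext (by
      show g = a * b * a⁻¹ * b⁻¹
      rw [hab]; group)
    rw [this, commutator_def]
    exact Subgroup.commutator_mem_commutator (Subgroup.mem_top _) (Subgroup.mem_top _)

theorem m21_generated (S : Subgroup ↥M21)
    (hS : ∀ e ∈ m21Elations, ∃ g ∈ S, Rep ((g : ↥M24) : Equiv.Perm GolayPt) e.1) : S = ⊤ := by
  let K : Subgroup (Equiv.Perm GolayPt) := (S.map M21.subtype).map M24.subtype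
  have hKle : K ≤ M24 := Subgroup.map_subtype_le _
  have hinit : ∀ p ∈ (m21Elations.map (·.1)).reverse, ∃ σ ∈ K, Rep σ p := fun p hp => by
    obtain ⟨e, he, rfl⟩ := List.mem_map.1 (List.mem_reverse.1 hp)
    obtain ⟨g, hg, hr⟩ := hS e he
    exact ⟨_, Subgroup.mem_map_of_mem _ (Subgroup.mem_map_of_mem _ hg), hr⟩
  have hres : [m21Trans0, m21Trans1, m21Trans2, m21Trans3].all (fun t => t.all fun p =>
      (runProgram m21Program (m21Elations.map (·.1)).reverse).any (Nat.beq p)) = true := by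
    decide +kernel
  simp only [List.all_eq_true, List.any_eq_true, Nat.beq_eq] at hres
  have hT : ∀ t ∈ [m21Trans0, m21Trans1, m21Trans2, m21Trans3], ∀ p ∈ t, ∃ σ ∈ K, Rep σ p := by
    intro t ht p hp
    obtain ⟨q, hq, rfl⟩ := hres t ht p hp
    exact runProgram_rep _ _ hinit p hq
  obtain ⟨l0, l1, l2, l3⟩ := m21_levels
  have hfull : ∀ σ ∈ fixOf M24 [1, 0, 23], σ ∈ K := by
    intro σ hσ
    -- walk down the base, one level at a time
    have step : ∀ {pre : List ℕ} {b : ℕ} {t : List ℕ} {O : ℕ}, levelOK pre b t O = true →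
        (∀ p ∈ t, ∃ τ ∈ K, Rep τ p) →
        (∀ τ ∈ fixOf M24 pre, τ (pt b) ∈ setOfMask O) →
        (∀ τ ∈ fixOf M24 (b :: pre), τ ∈ K) → ∀ τ ∈ fixOf M24 pre, τ ∈ K := by
      intro pre b t O hlev ht hsub hnext τ hτ
      obtain ⟨k, hk, e⟩ := exists_of_level hlev ht (hsub τ hτ)
      obtain ⟨hkK, hkfix⟩ := mem_fixOf.1 hk
      have : k⁻¹ * τ ∈ K := hnext _ (mem_fixOf.2 ⟨mul_mem (inv_mem (hKle hkK)) (mem_fixOf.1 hτ).1,
        List.forall_mem_cons.2 ⟨by rw [Equiv.Perm.mul_apply, ← e]; simp,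
          fun c hc => by
            rw [Equiv.Perm.mul_apply, (mem_fixOf.1 hτ).2 c hc, Equiv.Perm.inv_eq_iff_eq,
              hkfix c hc]⟩⟩)
      have := mul_mem hkK this
      rwa [mul_inv_cancel_left] at this
    have inO : ∀ τ ∈ fixOf M24 [3, 2, 1, 0, 23], τ • setOfMask stdO = setOfMask stdO := by
      intro τ hτ
      refine smul_eq_of_fix_five (mem_fixOf.1 hτ).1 stdO_mem (s := setOfMask 8388623)
        (by decide +kernel) (by decide +kernel) fun x hx => ?_
      have hc : ix x ∈ [3, 2, 1, 0, 23] := by revert hx; revert x; decide +kernel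
      have := (mem_fixOf.1 hτ).2 _ hc
      rwa [pt_ix] at this
    refine step l0 (hT _ (by simp)) (mem_compl_of_fix (pre := [1, 0, 23]) (b := 2) (by decide) (by decide +kernel)) ?_ σ hσ
    refine step l1 (hT _ (by simp)) (mem_compl_of_fix (pre := [2, 1, 0, 23]) (b := 3) (by decide) (by decide +kernel)) ?_
    refine step l2 (hT _ (by simp)) (fun τ hτ => ?_) ?_
    · have hin : τ (pt 5) ∈ setOfMask stdO := by
        rw [← inO τ hτ]
        exact Finset.smul_mem_smul_finset (a := τ) (by decide +kernel)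
      have hout : ∀ c ∈ [3, 2, 1, 0, 23], τ (pt 5) ≠ pt c := fun c hc e => by
        rw [← (mem_fixOf.1 hτ).2 c hc] at e
        have h' := τ.injective e
        clear e
        revert c; decide
      revert hin hout
      generalize τ (pt 5) = y
      revert y; decide +kernel
    refine step l3 (hT _ (by simp)) (fun τ hτ => ?_) (fun τ hτ => ?_)
    · have hout : τ (pt 4) ∉ setOfMask stdO := by
        rw [← inO τ (Subgroup.mem_inf.1 hτ).1]
        show τ • pt 4 ∉ _
        rw [Finset.smul_mem_smul_finset_iff]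
        decide +kernel
      revert hout
      generalize τ (pt 4) = y
      revert y; decide +kernel
    · rw [eq_one_of_fix_base (mem_fixOf.1 hτ).1 fun i hi =>
        (mem_fixOf.1 hτ).2 i (by revert hi; revert i; decide)]
      exact one_mem _
  rw [eq_top_iff]
  intro g _
  obtain ⟨h1, h2, h3⟩ := mem_M21.1 g.2
  have : ((g : ↥M24) : Equiv.Perm GolayPt) ∈ K := hfull _ (mem_fixOf.2 ⟨(g : ↥M24).2, fun b hb => by
    simp only [List.mem_cons, List.not_mem_nil, or_false] at hb
    rcases hb with rfl | rfl | rfl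
    exacts [h3, h2, h1]⟩)
  obtain ⟨u, ⟨v, hv, rfl⟩, hu⟩ := this
  have : v = g := Subtype.ext (Subtype.ext hu)
  exact this ▸ hv

theorem elations_check : m21Elations.all elationCheck = true := by decide +kernel

theorem M21_isSimple : IsSimpleGroup ↥M21 := by
  haveI := two_transitive_M21Line
  haveI : IsPreprimitive ↥M21 M21Line := isPreprimitive_of_is_two_pretransitive inferInstance
  haveI : Nontrivial ↥M21 := by
    obtain ⟨g, hg⟩ := exists_smul_line ⟨setOfMask m21Other,
      mem_octads_iff.2 (by rw [maskOf_setOfMask (by decide)]; decide +kernel),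
      by decide +kernel, by decide +kernel, by decide +kernel⟩
    refine ⟨⟨g, 1, fun e => ?_⟩⟩
    rw [e, one_smul] at hg
    have := congrArg (fun o : M21Line => maskOf o.1) hg
    revert this; decide +kernel
  have hspec := fun e he => elation_spec (List.all_eq_true.1 elations_check e he)
  refine IwasawaStructure.isSimpleGroup (M := ↥M21) (α := M21Line) ?_
    { T := elations
      is_comm := fun o => ⟨⟨fun a b => ?_⟩⟩
      is_conj := elations_conj
      is_generator := m21_generated _ fun e he => by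
        obtain ⟨o, g, hg, -, hr⟩ := hspec e he
        exact ⟨g, le_iSup elations o hg, hr⟩ } ?_
  · exact m21_generated _ fun e he => by
      obtain ⟨o, g, -, hg, hr⟩ := hspec e he
      exact ⟨g, hg, hr⟩
  · have sq : ∀ c : elations o, c * c = 1 := fun c => Subtype.ext (Subtype.ext
      (sq_eq_one_of_fix o.2.1 (mem_elations.1 c.2)))
    have inv : ∀ c : elations o, c⁻¹ = c := fun c => inv_eq_of_mul_eq_one_left (sq c)
    rw [← inv (a * b), mul_inv_rev, inv, inv]
  · refine ⟨fun {g h} hgh => ?_⟩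
    have key : ∀ k : ↥M21, (∀ o : M21Line, k • o = o) → k = 1 := by
      intro k hk
      apply Subtype.ext
      apply Subtype.ext
      obtain ⟨h1, h2, h3⟩ := mem_M21.1 k.2
      refine Equiv.ext fun x => ?_
      by_cases hx : x = none ∨ x = some 0 ∨ x = some 1
      · rcases hx with rfl | rfl | rfl <;> assumption
      · have tbl : ∀ m ∈ m21Lines, inCode m = true ∧ popc m = 8 ∧ m &&& 8388611 = 8388611 := by
          decide +kernel
        have hmem : (k : ↥M24) • x ∈ setOfMask (atomOf m21Lines (ix x)) := by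
          rw [mem_atomOf]
          intro m hm
          obtain ⟨c1, c2, c3⟩ := tbl m hm
          have hlt := inCode_lt c1
          have hin : ∀ y : GolayPt, (8388611 : ℕ).testBit (ix y) = true → y ∈ setOfMask m := by
            intro y hy
            have := congrArg (fun z => Nat.testBit z (ix y)) c3
            simp only [Nat.testBit_and, hy, Bool.and_true] at this
            rwa [mem_setOfMask]
          have e1 : (k : ↥M24) • setOfMask m = setOfMask m := congrArg Subtype.val (hk ⟨setOfMask m,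
            mem_octads_iff.2 (by rw [maskOf_setOfMask hlt]; exact ⟨c1, c2⟩),
            hin _ (by decide +kernel), hin _ (by decide +kernel), hin _ (by decide +kernel)⟩)
          conv_lhs => rw [← e1]
          exact mem_smul_set _
        have single : ∀ y : GolayPt, ¬ (y = none ∨ y = some 0 ∨ y = some 1) →
            atomOf m21Lines (ix y) = 1 <<< ix y := by decide +kernel
        rw [single x hx, ← maskOf_singleton, setOfMask_maskOf, Finset.mem_singleton] at hmem
        exact hmem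
    exact inv_mul_eq_one.1 (key (g⁻¹ * h) fun o => by rw [mul_smul, ← hgh o, inv_smul_smul])

end CfsgLib.Sporadic
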