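import Cfsg.Agent.Lib.Sporadic.M24Data

/-!
# M24: order, generators, five-fold transitivity; octads
-/

set_option autoImplicit false

namespace CfsgLib.Sporadic

open Cfsg
open scoped Pointwise

/-! ### octads -/

theorem eq_of_inter_five {s t : Finset GolayPt} (hs : s ∈ octads) (ht : t ∈ octads)
    (h : 5 ≤ (s ∩ t).card) : s = t := by
  have hd : symmDiff s t ∈ supports (golayCode : Set (GolayPt → ZMod 2)) :=
    symmDiff_mem_supports hs.1 ht.1
  have hc : (symmDiff s t).card + 2 * (s ∩ t).card = s.card + t.card := by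
    rw [Finset.symmDiff_def, Finset.card_union_of_disjoint disjoint_sdiff_sdiff,
      ← Finset.card_sdiff_add_card_inter s t, ← Finset.card_sdiff_add_card_inter t s,
      Finset.inter_comm t s]
    ring
  rw [hs.2, ht.2] at hc
  rcases card_code_support hd with h' | h' | h' | h' | h' <;>
    [skip; omega; omega; omega; omega]
  rwa [Finset.card_eq_zero, Finset.symmDiff_eq_empty] at h'

theorem octads_ncard : octads.ncard = 759 := by
  rw [ncard_eq_countLt (fun m => Nat.beq (popc m) 8) fun s => by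
    rw [mem_octads_iff, Nat.beq_eq]]
  decide +kernel

theorem dodecads_ncard : dodecads.ncard = 2576 := by
  rw [ncard_eq_countLt (fun m => Nat.beq (popc m) 12) fun s => by
    rw [mem_dodecads_iff, Nat.beq_eq]]
  decide +kernel

theorem exists_octad_of_five {s : Finset GolayPt} (hs : s.card = 5) : ∃ o ∈ octads, s ⊆ o := by
  classical
  let O : Finset (Finset GolayPt) := (Set.toFinite octads).toFinset
  have hO : ∀ o, o ∈ O ↔ o ∈ octads := fun o => Set.Finite.mem_toFinset _
  have hOc : O.card = 759 := by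
    rw [← Set.ncard_eq_toFinset_card]; exact octads_ncard
  let T := O.biUnion fun o => o.powersetCard 5
  have hT : T = (Finset.univ : Finset GolayPt).powersetCard 5 := by
    apply Finset.eq_of_subset_of_card_le
    · intro x hx
      simp only [T, Finset.mem_biUnion, Finset.mem_powersetCard] at hx
      obtain ⟨o, -, -, h⟩ := hx
      simp [h]
    · rw [Finset.card_powersetCard, Finset.card_biUnion]
      · rw [Finset.sum_congr rfl (g := fun _ => 56) fun o ho => by
          rw [Finset.card_powersetCard, ((hO o).1 ho).2]; decide]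
        rw [Finset.sum_const, hOc]
        decide
      · intro a ha b hb hab
        simp only [Function.onFun, Finset.disjoint_left, Finset.mem_powersetCard]
        rintro x ⟨h1, h2⟩ ⟨h3, -⟩
        exact hab (eq_of_inter_five ((hO a).1 ha) ((hO b).1 hb)
          (by rw [← h2]; exact Finset.card_le_card (Finset.subset_inter h1 h3)))
  have : s ∈ T := by rw [hT]; simp [hs]
  simp only [T, Finset.mem_biUnion, Finset.mem_powersetCard] at this
  obtain ⟨o, ho, h, -⟩ := this
  exact ⟨o, (hO o).1 ho, h⟩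

theorem octads_steiner : IsSteinerSystem 5 8 octads := by
  refine ⟨fun o ho => ho.2, fun s hs => ?_⟩
  obtain ⟨o, ho, hso⟩ := exists_octad_of_five hs
  refine ⟨o, ⟨ho, hso⟩, fun o' ⟨ho', hso'⟩ => ?_⟩
  exact eq_of_inter_five ho' ho (by rw [← hs]; exact Finset.card_le_card (Finset.subset_inter hso' hso))

theorem smul_mem_octads {σ : Equiv.Perm GolayPt} (hσ : σ ∈ M24) {o : Finset GolayPt} :
    σ • o ∈ octads ↔ o ∈ octads := smul_mem_wordsOfWeight hσ

theorem smul_mem_dodecads {σ : Equiv.Perm GolayPt} (hσ : σ ∈ M24) {o : Finset GolayPt} :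
    σ • o ∈ dodecads ↔ o ∈ dodecads := smul_mem_wordsOfWeight hσ

/-- An octad of which five points are fixed is fixed. -/
theorem smul_eq_of_fix_five {σ : Equiv.Perm GolayPt} (hσ : σ ∈ M24) {o s : Finset GolayPt}
    (ho : o ∈ octads) (hso : s ⊆ o) (hs : 5 ≤ s.card) (hfix : ∀ x ∈ s, σ x = x) : σ • o = o := by
  refine eq_of_inter_five ((smul_mem_octads hσ).2 ho) ho
    (hs.trans (Finset.card_le_card (Finset.subset_inter ?_ hso)))
  intro x hx
  rw [← hfix x hx]
  exact Finset.smul_mem_smul_finset (hso hx)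

/-! ### deducing fixed points -/

/-- The points that lie in the same of the sets `sets` as the point `x`. -/
noncomputable def atomOf (sets : List ℕ) (x : ℕ) : ℕ :=
  List.rec 16777215 (fun m _ ih => Nat.land ih
    (cond (Nat.beq (bitAt m x) 1) m (Nat.xor 16777215 m))) sets

theorem mem_atomOf (sets : List ℕ) (x y : GolayPt) :
    y ∈ setOfMask (atomOf sets (ix x)) ↔ ∀ m ∈ sets, (y ∈ setOfMask m ↔ x ∈ setOfMask m) := by
  induction sets with
  | nil =>
    have : setOfMask 16777215 = Finset.univ := by decide +kernel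
    simp only [List.not_mem_nil, IsEmpty.forall_iff, implies_true, iff_true]
    show y ∈ setOfMask 16777215
    simp [this]
  | cons m l ih =>
    show y ∈ setOfMask (atomOf l (ix x) &&& _) ↔ _
    rw [setOfMask_land, Finset.mem_inter, ih, List.forall_mem_cons, and_comm]
    refine and_congr_left fun _ => ?_
    have h1 : (16777215 : ℕ).testBit (ix y) = true := by
      rw [← maskOf_univ, testBit_maskOf]; simp
    simp only [mem_setOfMask, bitAt_eq]
    cases m.testBit (ix x) <;>
      simp [Nat.testBit_xor, h1, show Nat.beq 0 1 = false from rfl, show Nat.beq 1 1 = true from rfl]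

/-- `F'` is fixed as soon as `F` is, by the octads `os`. -/
noncomputable def fixStep (F : ℕ) (os : List ℕ) (sets : List ℕ) (F' : ℕ) : Bool :=
  os.all (fun o => inCode o && Nat.beq (popc o) 8 && Nat.ble 5 (popc (Nat.land o F))) &&
  sets.all (fun m => os.elem m || (Nat.beq (popc m) 1 && Nat.beq (Nat.land m F) m)) &&
  forallLt 24 (fun x => Nat.beq (bitAt F' x) 0 || Nat.beq (atomOf sets x) (Nat.shiftLeft 1 x))

theorem fixStep_spec {F : ℕ} {os sets : List ℕ} {F' : ℕ} (h : fixStep F os sets F' = true)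
    {σ : Equiv.Perm GolayPt} (hσ : σ ∈ M24) (hF : ∀ x ∈ setOfMask F, σ x = x) :
    ∀ x ∈ setOfMask F', σ x = x := by
  simp only [fixStep, Bool.and_eq_true, List.all_eq_true, Bool.or_eq_true, Nat.beq_eq,
    Nat.ble_eq, List.elem_iff] at h
  obtain ⟨⟨hos, hsets⟩, hx⟩ := h
  have inv : ∀ m ∈ sets, σ • setOfMask m = setOfMask m := by
    intro m hm
    rcases hsets m hm with hm' | ⟨h1, h2⟩
    · obtain ⟨⟨h1, h2⟩, h3⟩ := hos m hm'
      have hlt := inCode_lt h1
      refine smul_eq_of_fix_five hσ (s := setOfMask (m &&& F)) ?_ ?_ ?_ ?_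
      · rw [mem_octads_iff, maskOf_setOfMask hlt]; exact ⟨h1, h2⟩
      · rw [setOfMask_land]; exact Finset.inter_subset_left
      · rw [card_setOfMask]; exact h3
      · rw [setOfMask_land]; exact fun x hx => hF x (Finset.mem_inter.1 hx).2
    · have h2' : setOfMask m = setOfMask m ∩ setOfMask F := by rw [← setOfMask_land]; exact congrArg _ h2.symm
      ext y
      rw [Finset.mem_smul_finset]
      constructor
      · rintro ⟨z, hz, rfl⟩
        rw [Equiv.Perm.smul_def, hF z (by rw [h2'] at hz; exact (Finset.mem_inter.1 hz).2)]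
        exact hz
      · intro hy
        exact ⟨y, hy, by rw [Equiv.Perm.smul_def, hF y (by rw [h2'] at hy; exact (Finset.mem_inter.1 hy).2)]⟩
  intro x hxF
  have := forallLt_elim hx (ix_lt x)
  simp only [Bool.or_eq_true, Nat.beq_eq] at this
  have hbit : bitAt F' (ix x) = 1 := by
    rw [mem_setOfMask] at hxF
    simp [bitAt_eq, hxF]
  rw [hbit] at this
  have ha : atomOf sets (ix x) = 1 <<< ix x := this.resolve_left (by norm_num)
  have hmem : σ x ∈ setOfMask (atomOf sets (ix x)) := by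
    rw [mem_atomOf]
    intro m hm
    conv_lhs => rw [← inv m hm]
    exact Finset.smul_mem_smul_finset_iff σ
  rw [ha, ← maskOf_singleton, setOfMask_maskOf, Finset.mem_singleton] at hmem
  exact hmem

/-- The singletons of a mask, as a list of masks. -/
noncomputable def bitsList (F : ℕ) : List ℕ :=
  Nat.rec [] (fun i ih => cond (Nat.beq (bitAt F i) 1) (Nat.shiftLeft 1 i :: ih) ih) 24

theorem eq_one_of_fix_base {σ : Equiv.Perm GolayPt} (hσ : σ ∈ M24)
    (h : ∀ i ∈ [23, 0, 1, 2, 3, 5, 4], σ (pt i) = pt i) : σ = 1 := by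
  have h0 : ∀ x ∈ setOfMask 8388671, σ x = x := by
    intro x hx
    have : ix x ∈ [23, 0, 1, 2, 3, 5, 4] := by revert hx; revert x; decide +kernel
    have := h _ this
    rwa [pt_ix] at this
  have s1 : fixStep 8388671 m24FixOctads (m24FixOctads ++ bitsList 8388671) m24FixMask = true := by
    decide +kernel
  have h1 := fixStep_spec s1 hσ h0
  have s2 : fixStep m24FixMask m24FixOctads' (m24FixOctads' ++ bitsList m24FixMask) 16777215
      = true := by decide +kernel
  refine Equiv.ext fun x => ?_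
  exact fixStep_spec s2 hσ h1 x (by rw [← maskOf_univ, setOfMask_maskOf]; simp)

/-! ### the chain -/

/-- The pointwise stabiliser in `K` of a list of point numbers. -/
def fixOf (K : Subgroup (Equiv.Perm GolayPt)) : List ℕ → Subgroup (Equiv.Perm GolayPt)
  | [] => K
  | b :: l => fixOf K l ⊓ MulAction.stabilizer (Equiv.Perm GolayPt) (pt b)

theorem mem_fixOf {K : Subgroup (Equiv.Perm GolayPt)} {l : List ℕ} {σ : Equiv.Perm GolayPt} :
    σ ∈ fixOf K l ↔ σ ∈ K ∧ ∀ b ∈ l, σ (pt b) = pt b := by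
  induction l with
  | nil => simp [fixOf]
  | cons b l ih =>
    rw [fixOf, Subgroup.mem_inf, ih, List.forall_mem_cons, MulAction.mem_stabilizer_iff]
    exact ⟨fun ⟨⟨a, b⟩, c⟩ => ⟨a, c, b⟩, fun ⟨a, c, b⟩ => ⟨⟨a, b⟩, c⟩⟩

/-- The packed permutations in `t` fix `pre` and carry `b` onto the rest of the mask `O`. -/
noncomputable def levelOK (pre : List ℕ) (b : ℕ) (t : List ℕ) (O : ℕ) : Bool :=
  Nat.blt b 24 && pre.all (fun c => Nat.blt c 24) &&
  t.all (fun p => pre.all (fun c => Nat.beq (pget p c) c)) &&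
  Nat.beq (bitmap id (b :: t.map (fun p => pget p b))) O

theorem exists_of_level {K : Subgroup (Equiv.Perm GolayPt)} {pre : List ℕ} {b : ℕ} {t : List ℕ}
    {O : ℕ} (hlev : levelOK pre b t O = true) (hK : ∀ p ∈ t, ∃ σ ∈ K, Rep σ p)
    {x : GolayPt} (hx : x ∈ setOfMask O) : ∃ σ ∈ fixOf K pre, σ (pt b) = x := by
  simp only [levelOK, Bool.and_eq_true, List.all_eq_true, Nat.beq_eq, Nat.blt_eq] at hlev
  obtain ⟨⟨⟨hb, hpre⟩, hfix⟩, hO⟩ := hlev
  rw [mem_setOfMask, ← hO, testBit_bitmap] at hx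
  obtain ⟨v, hv, he⟩ := hx
  rcases List.mem_cons.1 hv with rfl | hv
  · exact ⟨1, one_mem _, by rw [Equiv.Perm.one_apply, ← pt_ix x, ← he]; rfl⟩
  · obtain ⟨p, hp, rfl⟩ := List.mem_map.1 hv
    obtain ⟨σ, hσ, hr⟩ := hK p hp
    refine ⟨σ, mem_fixOf.2 ⟨hσ, fun c hc => ?_⟩, ?_⟩
    · apply ix_injective
      rw [← hr, ix_pt (hpre c hc), hfix p hp c hc]
    · apply ix_injective
      rw [← hr, ix_pt hb]; exact he

theorem card_level {K : Subgroup (Equiv.Perm GolayPt)} {pre : List ℕ} {b : ℕ} {t : List ℕ}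
    {O : ℕ} (hlev : levelOK pre b t O = true) (hK : ∀ p ∈ t, ∃ σ ∈ K, Rep σ p)
    (hsub : ∀ σ ∈ fixOf K pre, σ (pt b) ∈ setOfMask O) :
    Nat.card (fixOf K pre) = popc O * Nat.card (fixOf K (b :: pre)) := by
  rw [← card_setOfMask, ← Set.ncard_coe_finset]
  exact card_eq_orbit_mul (fixOf K pre) (pt b) (setOfMask O : Set GolayPt)
    (fun g hg => hsub g hg) (fun x hx => exists_of_level hlev hK hx)

/-- Outside the fixed points. -/
theorem mem_compl_of_fix {K : Subgroup (Equiv.Perm GolayPt)} {pre : List ℕ} {b O : ℕ}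
    (hb : ∀ c ∈ pre, pt c ≠ pt b)
    (hO : ∀ x : GolayPt, x ∈ setOfMask O ∨ ∃ c ∈ pre, pt c = x) :
    ∀ σ ∈ fixOf K pre, σ (pt b) ∈ setOfMask O := fun σ hσ => by
  rcases hO (σ (pt b)) with h | ⟨c, hc, e⟩
  · exact h
  · exact absurd (σ.injective (by rw [(mem_fixOf.1 hσ).2 c hc, e])) (hb c hc)

theorem level0 : levelOK [] 23 m24Trans0 16777215 = true := by decide +kernel
theorem level1 : levelOK [23] 0 m24Trans1 8388607 = true := by decide +kernel
theorem level2 : levelOK [0, 23] 1 m24Trans2 8388606 = true := by decide +kernel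
theorem level3 : levelOK [1, 0, 23] 2 m24Trans3 8388604 = true := by decide +kernel
theorem level4 : levelOK [2, 1, 0, 23] 3 m24Trans4 8388600 = true := by decide +kernel
theorem level5 : levelOK [3, 2, 1, 0, 23] 5 m24Trans5 147488 = true := by decide +kernel
theorem level6 : levelOK [5, 3, 2, 1, 0, 23] 4 m24Trans6 8241104 = true := by decide +kernel

theorem card_of_contains (K : Subgroup (Equiv.Perm GolayPt)) (hle : K ≤ M24)
    (hK : ∀ t ∈ m24Trans, ∀ p ∈ t, ∃ σ ∈ K, Rep σ p) : Nat.card K = 244823040 := by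
  have hk : ∀ t, t ∈ m24Trans → ∀ p ∈ t, ∃ σ ∈ K, Rep σ p := hK
  have hoct : setOfMask 8536111 ∈ octads := by
    rw [mem_octads_iff, maskOf_setOfMask (by norm_num)]; decide +kernel
  have inO : ∀ σ ∈ fixOf K [3, 2, 1, 0, 23], σ • setOfMask 8536111 = setOfMask 8536111 := by
    intro σ hσ
    refine smul_eq_of_fix_five (hle (mem_fixOf.1 hσ).1) hoct (s := setOfMask 8388623)
      (by decide +kernel) (by decide +kernel) fun x hx => ?_
    have hc : ix x ∈ [3, 2, 1, 0, 23] := by revert hx; revert x; decide +kernel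
    have := (mem_fixOf.1 hσ).2 _ hc
    rwa [pt_ix] at this
  have e0 := card_level level0 (hk _ (by simp [m24Trans])) fun σ _ => by
    rw [← maskOf_univ, setOfMask_maskOf]; simp
  have e1 := card_level level1 (hk _ (by simp [m24Trans]))
    (mem_compl_of_fix (K := K) (pre := [23]) (b := 0) (by decide) (by decide +kernel))
  have e2 := card_level level2 (hk _ (by simp [m24Trans]))
    (mem_compl_of_fix (K := K) (pre := [0, 23]) (b := 1) (by decide) (by decide +kernel))
  have e3 := card_level level3 (hk _ (by simp [m24Trans]))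
    (mem_compl_of_fix (K := K) (pre := [1, 0, 23]) (b := 2) (by decide) (by decide +kernel))
  have e4 := card_level level4 (hk _ (by simp [m24Trans]))
    (mem_compl_of_fix (K := K) (pre := [2, 1, 0, 23]) (b := 3) (by decide) (by decide +kernel))
  have e5 := card_level level5 (hk _ (by simp [m24Trans])) fun σ hσ => by
    have hin : σ (pt 5) ∈ setOfMask 8536111 := by
      rw [← inO σ hσ]
      exact Finset.smul_mem_smul_finset (a := σ) (by decide +kernel)
    have hout : ∀ c ∈ [3, 2, 1, 0, 23], σ (pt 5) ≠ pt c := fun c hc e => by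
      rw [← (mem_fixOf.1 hσ).2 c hc] at e
      have h' := σ.injective e
      clear e
      revert c; decide
    revert hin hout
    generalize σ (pt 5) = y
    revert y; decide +kernel
  have e6 := card_level level6 (hk _ (by simp [m24Trans])) fun σ hσ => by
    have hσ' : σ ∈ fixOf K [3, 2, 1, 0, 23] := (Subgroup.mem_inf.1 hσ).1
    have hout : σ (pt 4) ∉ setOfMask 8536111 := by
      rw [← inO σ hσ']
      show σ • pt 4 ∉ _
      rw [Finset.smul_mem_smul_finset_iff]
      decide +kernel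
    revert hout
    generalize σ (pt 4) = y
    revert y; decide +kernel
  have e7 : Nat.card (fixOf K [4, 5, 3, 2, 1, 0, 23]) = 1 := by
    rw [Nat.card_eq_one_iff_unique]
    refine ⟨⟨fun a b => Subtype.ext ?_⟩, ⟨1⟩⟩
    have : ∀ σ ∈ fixOf K [4, 5, 3, 2, 1, 0, 23], σ = 1 := fun σ hσ =>
      eq_one_of_fix_base (hle (mem_fixOf.1 hσ).1) fun i hi =>
        (mem_fixOf.1 hσ).2 i (by simp only [List.mem_cons, List.not_mem_nil] at hi ⊢; tauto)
    rw [this _ a.2, this _ b.2]
  rw [e1, e2, e3, e4, e5, e6, e7] at e0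
  refine e0.trans ?_
  decide +kernel

theorem m24Trans_isAut : m24Trans.all (fun t => t.all isAut) = true := by decide +kernel

theorem m24Trans_mem : ∀ t ∈ m24Trans, ∀ p ∈ t, ∃ σ ∈ M24, Rep σ p := fun t ht p hp => by
  have := m24Trans_isAut
  simp only [List.all_eq_true] at this
  exact exists_mem_M24 (this t ht p hp)

theorem M24_card : Nat.card M24 = 244823040 := card_of_contains M24 le_rfl m24Trans_mem

/-! ### transitivity -/

/-- Extend a partial map of base points. -/
theorem extend_base {K : Subgroup (Equiv.Perm GolayPt)} {pre : List ℕ} {b : ℕ} {t : List ℕ} {O : ℕ}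
    (hlev : levelOK pre b t O = true) (hK : ∀ p ∈ t, ∃ σ ∈ K, Rep σ p) {g : Equiv.Perm GolayPt}
    (hg : g ∈ K) {y : GolayPt} (hy : g⁻¹ y ∈ setOfMask O) :
    ∃ g' ∈ K, (∀ c ∈ pre, g' (pt c) = g (pt c)) ∧ g' (pt b) = y := by
  obtain ⟨σ, hσ, e⟩ := exists_of_level hlev hK hy
  exact ⟨g * σ, mul_mem hg (mem_fixOf.1 hσ).1,
    fun c hc => by rw [Equiv.Perm.mul_apply, (mem_fixOf.1 hσ).2 c hc],
    by rw [Equiv.Perm.mul_apply, e]; simp⟩

theorem exists_map_five (y : Fin 5 ↪ GolayPt) :
    ∃ g ∈ M24, ∀ i : Fin 5, g (pt ([23, 0, 1, 2, 3].getD (i : ℕ) 0)) = y i := by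
  have out : ∀ (g : Equiv.Perm GolayPt) (O : ℕ) (pre : List ℕ) (i : Fin 5),
      (∀ x : GolayPt, x ∈ setOfMask O ∨ ∃ c ∈ pre, pt c = x) →
      (∀ c ∈ pre, ∃ j, j ≠ i ∧ g (pt c) = y j) → g⁻¹ (y i) ∈ setOfMask O := by
    intro g O pre i hO hpre
    rcases hO (g⁻¹ (y i)) with h | ⟨c, hc, e⟩
    · exact h
    · obtain ⟨j, hj, e'⟩ := hpre c hc
      rw [e] at e'
      simp only [Equiv.Perm.coe_inv, Equiv.apply_symm_apply] at e'
      exact absurd (y.injective e'.symm) hj
  obtain ⟨g0, m0, -, a0⟩ := extend_base level0 (m24Trans_mem _ (by simp [m24Trans])) (one_mem M24)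
    (y := y 0) (by rw [← maskOf_univ, setOfMask_maskOf]; simp)
  obtain ⟨g1, m1, p1, a1⟩ := extend_base level1 (m24Trans_mem _ (by simp [m24Trans])) m0 (y := y 1)
    (out g0 _ [23] 1 (by decide +kernel) (List.forall_mem_singleton.2 ⟨0, by decide, a0⟩))
  have q1 : g1 (pt 23) = y 0 := (p1 23 (by simp)).trans a0
  obtain ⟨g2, m2, p2, a2⟩ := extend_base level2 (m24Trans_mem _ (by simp [m24Trans])) m1 (y := y 2)
    (out g1 _ [0, 23] 2 (by decide +kernel) (List.forall_mem_cons.2 ⟨⟨1, by decide, a1⟩,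
      List.forall_mem_singleton.2 ⟨0, by decide, q1⟩⟩))
  have q2 : g2 (pt 23) = y 0 := (p2 23 (by simp)).trans q1
  have r2 : g2 (pt 0) = y 1 := (p2 0 (by simp)).trans a1
  obtain ⟨g3, m3, p3, a3⟩ := extend_base level3 (m24Trans_mem _ (by simp [m24Trans])) m2 (y := y 3)
    (out g2 _ [1, 0, 23] 3 (by decide +kernel) (List.forall_mem_cons.2 ⟨⟨2, by decide, a2⟩,
      List.forall_mem_cons.2 ⟨⟨1, by decide, r2⟩, List.forall_mem_singleton.2 ⟨0, by decide, q2⟩⟩⟩))
  have q3 : g3 (pt 23) = y 0 := (p3 23 (by simp)).trans q2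
  have r3 : g3 (pt 0) = y 1 := (p3 0 (by simp)).trans r2
  have s3 : g3 (pt 1) = y 2 := (p3 1 (by simp)).trans a2
  obtain ⟨g4, m4, p4, a4⟩ := extend_base level4 (m24Trans_mem _ (by simp [m24Trans])) m3 (y := y 4)
    (out g3 _ [2, 1, 0, 23] 4 (by decide +kernel) (List.forall_mem_cons.2 ⟨⟨3, by decide, a3⟩,
      List.forall_mem_cons.2 ⟨⟨2, by decide, s3⟩, List.forall_mem_cons.2 ⟨⟨1, by decide, r3⟩,
      List.forall_mem_singleton.2 ⟨0, by decide, q3⟩⟩⟩⟩))
  refine ⟨g4, m4, fun i => ?_⟩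
  fin_cases i
  · exact (p4 23 (by simp)).trans q3
  · exact (p4 0 (by simp)).trans r3
  · exact (p4 1 (by simp)).trans s3
  · exact (p4 2 (by simp)).trans a3
  · exact a4

theorem exists_map_five_five (x y : Fin 5 ↪ GolayPt) : ∃ g ∈ M24, ∀ i, g (x i) = y i := by
  obtain ⟨g, hg, e⟩ := exists_map_five x
  obtain ⟨h, hh, e'⟩ := exists_map_five y
  refine ⟨h * g⁻¹, mul_mem hh (inv_mem hg), fun i => ?_⟩
  rw [Equiv.Perm.mul_apply, ← e i, ← e' i]; simp

theorem M24_five_transitive : MulAction.IsMultiplyPretransitive M24 GolayPt 5 := by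
  rw [MulAction.isMultiplyPretransitive_iff]
  intro x y
  obtain ⟨g, hg, e⟩ := exists_map_five_five x y
  exact ⟨⟨g, hg⟩, DFunLike.ext _ _ e⟩

theorem exists_smul_octad {o o' : Finset GolayPt} (ho : o ∈ octads) (ho' : o' ∈ octads) :
    ∃ g ∈ M24, g • o = o' := by
  obtain ⟨s, hs, hsc⟩ := Finset.exists_subset_card_eq (s := o) (n := 5) (by rw [ho.2]; norm_num)
  obtain ⟨t, ht, htc⟩ := Finset.exists_subset_card_eq (s := o') (n := 5) (by rw [ho'.2]; norm_num)
  let x : Fin 5 ↪ GolayPt := ((s.equivFinOfCardEq hsc).symm.toEmbedding).trans (Function.Embedding.subtype _)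
  let y : Fin 5 ↪ GolayPt := ((t.equivFinOfCardEq htc).symm.toEmbedding).trans (Function.Embedding.subtype _)
  obtain ⟨g, hg, e⟩ := exists_map_five_five x y
  refine ⟨g, hg, eq_of_inter_five ((smul_mem_octads hg).2 ho) ho' ?_⟩
  rw [← htc]
  refine Finset.card_le_card (Finset.subset_inter (fun z hz => ?_) ht)
  obtain ⟨i, hi⟩ : ∃ i, y i = z := ⟨t.equivFinOfCardEq htc ⟨z, hz⟩, by simp [y]⟩
  rw [← hi, ← e i]
  exact Finset.smul_mem_smul_finset (hs ((s.equivFinOfCardEq hsc).symm i).2)

end CfsgLib.Sporadic
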