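import Mathlib
import Cfsg.Agent.Lib.Sporadic.M21
import Cfsg.Agent.Lib.Sporadic.Mathieu
import Cfsg.Agent.Lib.Sporadic.M24
import Cfsg.Agent.Lib.ThreeTrans.PlaneFour
import Cfsg.Agent.Lib.Classical.SLGroup
import Cfsg.Agent.Lib.Classical.LinearOrder
import Cfsg.Agent.S5626

/-!
# The stabiliser of three points in M24 is `PSL(3, 4)`

Both groups act faithfully on a projective plane of order four, whose automorphism group has order
at most `120960`, so the two simple subgroups of order `20160` coincide.
-/

set_option autoImplicit false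

namespace CfsgLib.Sporadic.ThreePointPSL

open Cfsg MulAction CfsgLib.Sporadic
open scoped Pointwise LinearAlgebra.Projectivization MatrixGroups

section Plane

variable {α : Type*} [Fintype α] [DecidableEq α] {L : Set (Finset α)}

theorem smul_line {f : Equiv.Perm α} (hf : f ∈ setSystemAut L) {a : Finset α} (ha : a ∈ L) :
    f • a ∈ L := by
  have e : f • L = L := hf
  rw [← e]
  exact Set.smul_mem_smul_set ha

theorem card_aut_le (hα : Fintype.card α = 21) (hL : IsSteinerSystem 2 5 L) :
    Nat.card ↥(setSystemAut L) ≤ 120960 := by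
  classical
  obtain ⟨-, h168, -⟩ := ThreeTrans.PlaneFour.hyperovals hα hL
  set P : Set (Finset α) := {H : Finset α | (H.card = 6 ∧ ∀ l ∈ L, (l ∩ H).card ≤ 2)} with hP
  obtain ⟨H, hH⟩ : P.Nonempty := Set.nonempty_of_ncard_ne_zero (by omega)
  have horb : orbit ↥(setSystemAut L) H ⊆ P := by
    rintro _ ⟨g, rfl⟩
    refine ⟨(Finset.card_smul_finset _ _).trans hH.1, fun l hl => ?_⟩
    have h1 := hH.2 _ (smul_line ((setSystemAut L).inv_mem g.2) hl)
    rw [← Finset.card_smul_finset (g : Equiv.Perm α), Finset.smul_finset_inter, smul_inv_smul] at h1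
    exact h1
  let r : ↥(stabilizer ↥(setSystemAut L) H) → Equiv.Perm ↥H := fun g =>
    Equiv.ofBijective (fun x => ⟨(g.1 : Equiv.Perm α) x, by
      have e : (g.1 : Equiv.Perm α) • H = H := g.2
      have := Finset.smul_mem_smul_finset (a := (g.1 : Equiv.Perm α)) x.2
      rw [e] at this
      exact this⟩)
      (Finite.injective_iff_bijective.1 fun x y e =>
        Subtype.ext ((g.1 : Equiv.Perm α).injective (congrArg Subtype.val e)))
  have hr : Function.Injective r := fun g g' e => by
    have h1 : (g'.1 : Equiv.Perm α)⁻¹ * g.1 = 1 :=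
      ThreeTrans.PlaneFour.fix_hyperoval hα hL hH.1 hH.2 (mul_mem (inv_mem g'.1.2) g.1.2) fun x hx => by
        rw [Equiv.Perm.mul_apply, Equiv.Perm.inv_eq_iff_eq]
        exact congrArg (fun σ : Equiv.Perm ↥H => ((σ ⟨x, hx⟩ : ↥H) : α)) e
    exact Subtype.ext (Subtype.ext (inv_mul_eq_one.1 h1).symm)
  have h1 := Nat.card_le_card_of_injective r hr
  rw [Nat.card_perm, Nat.card_eq_fintype_card (α := ↥H), Fintype.card_coe, hH.1] at h1
  have h2 : (orbit ↥(setSystemAut L) H).ncard ≤ 168 := h168 ▸ Set.ncard_le_ncard horb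
  rw [← Nat.card_congr (orbitProdStabilizerEquivGroup ↥(setSystemAut L) H), Nat.card_prod,
    Nat.card_coe_set_eq]
  exact (Nat.mul_le_mul h2 h1).trans (by norm_num [Nat.factorial])

end Plane

theorem eq_of_simple {A : Type*} [Group A] [Finite A] (hA : Nat.card A ≤ 120960) {L M : Subgroup A}
    (hL : Nat.card L = 20160) (hM : Nat.card M = 20160) [IsSimpleGroup ↥M] : M = L := by
  let φ : ↥M →* Equiv.Perm (A ⧸ L) := (toPermHom A (A ⧸ L)).comp M.subtype
  have hidx : L.index ≤ 6 := by
    have h := L.card_mul_index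
    rw [hL] at h
    omega
  rcases IsSimpleGroup.eq_bot_or_eq_top_of_normal φ.ker φ.normal_ker with h | h
  · exfalso
    have h1 := Nat.card_le_card_of_injective φ ((MonoidHom.ker_eq_bot_iff φ).1 h)
    rw [hM, Nat.card_perm] at h1
    have h2 := Nat.factorial_le hidx
    have h6 : Nat.factorial 6 = 720 := rfl
    change 20160 ≤ L.index.factorial at h1
    omega
  · refine Subgroup.eq_of_le_of_card_ge (fun g hg => ?_) (by omega)
    have h1 : (⟨g, hg⟩ : ↥M) ∈ φ.ker := h ▸ Subgroup.mem_top _
    have h2 : g • ((1 : A) : A ⧸ L) = ((1 : A) : A ⧸ L) :=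
      congrArg (fun σ : Equiv.Perm (A ⧸ L) => σ ((1 : A) : A ⧸ L)) (MonoidHom.mem_ker.1 h1)
    rw [MulAction.Quotient.smul_coe, smul_eq_mul, mul_one, QuotientGroup.eq, mul_one] at h2
    exact L.inv_mem_iff.1 h2

section Model

variable (F : Type) [Field F] [Fintype F]

/-- The lines of the projective plane. -/
noncomputable def projLines [Fintype (ℙ F (Fin 3 → F))] : Set (Finset (ℙ F (Fin 3 → F))) :=
  {s | ∃ W : Submodule F (Fin 3 → F), Module.finrank F W = 2 ∧
    ∀ x, x ∈ s ↔ x.submodule ≤ W}

variable {F}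

theorem smul_submodule (g : SL(3, F)) (x : ℙ F (Fin 3 → F)) :
    (g • x).submodule = x.submodule.map g.toLin'.toLinearMap := by
  induction x using Projectivization.ind with
  | h v hv =>
    rw [Projectivization.smul_mk, Projectivization.submodule_mk, Projectivization.submodule_mk,
      Submodule.map_span, Set.image_singleton]
    rfl

variable [Fintype (ℙ F (Fin 3 → F))]

theorem projLines_steiner (hF : Fintype.card F = 4) : IsSteinerSystem 2 5 (projLines F) := by
  classical
  refine ⟨?_, fun s hs => ?_⟩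
  · rintro b ⟨W, hW, hb⟩
    obtain rfl : b = Finset.univ.filter fun x => x.submodule ≤ W := by ext x; simp [hb]
    have h5 : Nat.card (ℙ F W) = 5 := by
      rw [Projectivization.card_of_finrank_two F W hW, Nat.card_eq_fintype_card, hF]
    rw [← h5, ← Fintype.card_coe, ← Nat.card_eq_fintype_card]
    refine (Nat.card_congr (Equiv.ofBijective (fun x : ℙ F W =>
      (⟨x.map W.subtype W.subtype_injective, ?_⟩ :
        ↥(Finset.univ.filter fun x : ℙ F (Fin 3 → F) => x.submodule ≤ W))) ⟨?_, ?_⟩)).symm
    · rw [Finset.mem_filter]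
      refine ⟨Finset.mem_univ _, ?_⟩
      induction x using Projectivization.ind with
      | h v hv =>
        rw [Projectivization.map_mk, Projectivization.submodule_mk, Submodule.span_singleton_le_iff_mem]
        exact v.2
    · intro x y e
      exact Projectivization.map_injective _ W.subtype_injective (congrArg Subtype.val e)
    · rintro ⟨y, hy⟩
      have hy' := (Finset.mem_filter.1 hy).2
      have hmem : y.rep ∈ W := hy' (by
        rw [Projectivization.submodule_eq]; exact Submodule.mem_span_singleton_self _)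
      exact ⟨Projectivization.mk F (⟨y.rep, hmem⟩ : W) fun e => y.rep_nonzero (congrArg Subtype.val e),
        Subtype.ext y.mk_rep⟩
  · obtain ⟨x, y, hxy, rfl⟩ := Finset.card_eq_two.1 hs
    have hW : Module.finrank F ↥(x.submodule ⊔ y.submodule) = 2 := by
      have h := Submodule.finrank_sup_add_finrank_inf_eq x.submodule y.submodule
      rw [Projectivization.finrank_submodule, Projectivization.finrank_submodule] at h
      have hle := Submodule.finrank_mono (inf_le_left : x.submodule ⊓ y.submodule ≤ _)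
      rw [Projectivization.finrank_submodule] at hle
      by_contra hne
      have h0 : Module.finrank F ↥(x.submodule ⊓ y.submodule) = 1 := by omega
      have e1 := Submodule.eq_of_le_of_finrank_eq (inf_le_left : x.submodule ⊓ y.submodule ≤ _)
        (h0.trans x.finrank_submodule.symm)
      have e2 := Submodule.eq_of_le_of_finrank_eq (inf_le_right : x.submodule ⊓ y.submodule ≤ _)
        (h0.trans y.finrank_submodule.symm)
      exact hxy (Projectivization.submodule_injective (e1.symm.trans e2))
    refine ⟨Finset.univ.filter fun z => z.submodule ≤ x.submodule ⊔ y.submodule,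
      ⟨⟨_, hW, fun z => by simp⟩, ?_⟩, ?_⟩
    · simp [Finset.insert_subset_iff]
    · rintro b ⟨⟨W, hW', hb⟩, hsub⟩
      obtain rfl : b = Finset.univ.filter fun x => x.submodule ≤ W := by ext x; simp [hb]
      simp only [Finset.insert_subset_iff, Finset.singleton_subset_iff, Finset.mem_filter,
        Finset.mem_univ, true_and] at hsub
      have e := Submodule.eq_of_le_of_finrank_eq (sup_le hsub.1 hsub.2) (hW.trans hW'.symm)
      rw [← e]

theorem range_le [DecidableEq (ℙ F (Fin 3 → F))] :
    (Projectivization.PSLAction.toPermHom (ι := Fin 3) (K := F)).range ≤ setSystemAut (projLines F) := by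
  classical
  rintro _ ⟨g, rfl⟩
  induction g using QuotientGroup.induction_on with
  | H g =>
    show _ • projLines F = projLines F
    refine Set.eq_of_subset_of_ncard_le ?_ ?_ (Set.toFinite _)
    · rintro _ ⟨b, ⟨W, hW, hb⟩, rfl⟩
      refine ⟨W.map g.toLin'.toLinearMap, by rw [LinearEquiv.finrank_map_eq]; exact hW, fun x => ?_⟩
      rw [← Finset.inv_smul_mem_iff, hb]
      obtain ⟨y, rfl⟩ : ∃ y, g • y = x := ⟨_, smul_inv_smul g x⟩
      rw [smul_submodule, Submodule.map_le_map_iff_of_injective g.toLin'.injective]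
      have : (Projectivization.PSLAction.toPermHom (QuotientGroup.mk g))⁻¹ • (g • y) = y := by
        rw [inv_smul_eq_iff]; rfl
      rw [this]
    · rw [← Set.image_smul, Set.ncard_image_of_injective _ (MulAction.injective _)]

end Model

/-! ### the three point stabiliser -/

theorem nonempty_equiv (p q r : GolayPt) (hpq : p ≠ q) (hpr : p ≠ r) (hqr : q ≠ r)
    (F : Type) [Field F] [Fintype F] (hF : Fintype.card F = 4) :
    Nonempty (↥(stabilizer ↥M24 p ⊓ stabilizer ↥M24 q ⊓ stabilizer ↥M24 r) ≃*
      Matrix.ProjectiveSpecialLinearGroup (Fin 3) F) := by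
  classical
  set K := stabilizer ↥M24 p ⊓ stabilizer ↥M24 q ⊓ stabilizer ↥M24 r with hK
  haveI : IsSimpleGroup ↥K := by
    obtain ⟨g, e1, e2, e3⟩ := exists_map_three (p' := p) (q' := q) (r' := r)
      (p := none) (q := some 0) (r := some 1) (by decide) (by decide) (by decide) hpq hpr hqr
    have e : M21.map (MulAut.conj g).toMonoidHom = K := by
      simp only [M21, hK, ← e1, ← e2, ← e3, stabilizer_smul_eq_stabilizer_map_conj]
      rw [Subgroup.map_inf _ _ _ (MulAut.conj g).injective, Subgroup.map_inf _ _ _ (MulAut.conj g).injective]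
    haveI := M21_isSimple
    exact MulEquiv.isSimpleGroup ((Subgroup.equivMapOfInjective M21 _ (MulAut.conj g).injective).trans
      (MulEquiv.subgroupCongr e)).symm
  let α := {x : GolayPt // x ≠ p ∧ x ≠ q ∧ x ≠ r}
  have hα : Fintype.card α = 21 := by
    rw [Fintype.card_subtype]
    have : (Finset.univ.filter fun x : GolayPt => x ≠ p ∧ x ≠ q ∧ x ≠ r) = ({p, q, r} : Finset GolayPt)ᶜ := by
      ext x; simp
    rw [this, Finset.card_compl, Finset.card_insert_of_notMem (by simp [hpq, hpr]), Finset.card_pair hqr]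
    rfl
  let : MulAction ↥K α :=
    { smul := fun g x => ⟨(g : ↥M24) • x.1,
        fun e => x.2.1 (smul_left_cancel (g : ↥M24) (e.trans g.2.1.1.symm)),
        fun e => x.2.2.1 (smul_left_cancel (g : ↥M24) (e.trans g.2.1.2.symm)),
        fun e => x.2.2.2 (smul_left_cancel (g : ↥M24) (e.trans g.2.2.symm))⟩
      one_smul := fun x => Subtype.ext (one_smul _ _)
      mul_smul := fun g h x => Subtype.ext (mul_smul _ _ _) }
  let ψ : ↥K →* Equiv.Perm α := toPermHom ↥K α
  have hψ : Function.Injective ψ := by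
    intro g h e
    refine Subtype.ext (Subtype.ext (Equiv.ext fun x => ?_))
    by_cases hx : x ≠ p ∧ x ≠ q ∧ x ≠ r
    · exact congrArg (fun σ : Equiv.Perm α => ((σ ⟨x, hx⟩ : α) : GolayPt)) e
    · rw [not_and_or, not_and_or, not_not, not_not, not_not] at hx
      rcases hx with rfl | rfl | rfl
      · exact g.2.1.1.trans h.2.1.1.symm
      · exact g.2.1.2.trans h.2.1.2.symm
      · exact g.2.2.trans h.2.2.symm
  let L : Set (Finset α) := {s | ∃ o ∈ octads, p ∈ o ∧ q ∈ o ∧ r ∈ o ∧
    s = Finset.subtype (fun x => x ≠ p ∧ x ≠ q ∧ x ≠ r) o}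
  have hL : IsSteinerSystem 2 5 L := by
    refine ⟨?_, fun s hs => ?_⟩
    · rintro _ ⟨o, ho, hp, hq, hr, rfl⟩
      rw [Finset.card_subtype]
      have : (o.filter fun x => x ≠ p ∧ x ≠ q ∧ x ≠ r) = o \ {p, q, r} := by
        ext x; simp
      rw [this, Finset.card_sdiff_of_subset (by simp [Finset.insert_subset_iff, hp, hq, hr]),
        Finset.card_insert_of_notMem (by simp [hpq, hpr]), Finset.card_pair hqr,
        show o.card = 8 from ho.2]
    · have hd : Disjoint ({p, q, r} : Finset GolayPt) (s.map (Function.Embedding.subtype _)) := by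
        rw [Finset.disjoint_left]
        intro x hx hx'
        obtain ⟨y, -, rfl⟩ := Finset.mem_map.1 hx'
        simp only [Finset.mem_insert, Finset.mem_singleton, Function.Embedding.subtype_apply] at hx
        rcases hx with e | e | e
        exacts [y.2.1 e, y.2.2.1 e, y.2.2.2 e]
      obtain ⟨o, ⟨ho, hso⟩, hu⟩ := octads_steiner.2 ({p, q, r} ∪ s.map (Function.Embedding.subtype _)) (by
        rw [Finset.card_union_of_disjoint hd, Finset.card_map, hs,
          Finset.card_insert_of_notMem (by simp [hpq, hpr]), Finset.card_pair hqr])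
      simp only [Finset.union_subset_iff, Finset.insert_subset_iff, Finset.singleton_subset_iff] at hso
      refine ⟨_, ⟨⟨o, ho, hso.1.1, hso.1.2.1, hso.1.2.2, rfl⟩, fun y hy => Finset.mem_subtype.2
        (hso.2 (Finset.mem_map.2 ⟨y, hy, rfl⟩))⟩, ?_⟩
      rintro _ ⟨⟨o', ho', hp, hq, hr, rfl⟩, hsub⟩
      rw [hu o' ⟨ho', ?_⟩]
      simp only [Finset.union_subset_iff, Finset.insert_subset_iff, Finset.singleton_subset_iff]
      refine ⟨⟨hp, hq, hr⟩, fun x hx => ?_⟩
      obtain ⟨y, hy, rfl⟩ := Finset.mem_map.1 hx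
      exact Finset.mem_subtype.1 (hsub hy)
  have hψA : ψ.range ≤ setSystemAut L := by
    rintro _ ⟨g, rfl⟩
    show _ • L = L
    refine Set.eq_of_subset_of_ncard_le ?_ ?_ (Set.toFinite _)
    · rintro _ ⟨_, ⟨o, ho, hp, hq, hr, rfl⟩, rfl⟩
      refine ⟨(g : ↥M24) • o, (smul_mem_octads' _).2 ho, ?_, ?_, ?_, ?_⟩
      · rw [← Finset.inv_smul_mem_iff, inv_smul_eq_iff.2 g.2.1.1.symm]; exact hp
      · rw [← Finset.inv_smul_mem_iff, inv_smul_eq_iff.2 g.2.1.2.symm]; exact hq
      · rw [← Finset.inv_smul_mem_iff, inv_smul_eq_iff.2 g.2.2.symm]; exact hr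
      · ext x
        rw [← Finset.inv_smul_mem_iff, Finset.mem_subtype, Finset.mem_subtype, ← Finset.inv_smul_mem_iff]
        rfl
    · rw [← Set.image_smul, Set.ncard_image_of_injective _ (MulAction.injective _)]
  -- the model
  let _ : Fintype (ℙ F (Fin 3 → F)) := Fintype.ofFinite _
  have hπc : Fintype.card (ℙ F (Fin 3 → F)) = 21 := by
    rw [← Nat.card_eq_fintype_card, Projectivization.card_of_finrank F (Fin 3 → F) (Module.finrank_fin_fun F),
      Nat.card_eq_fintype_card, hF]
    rfl
  obtain ⟨e, he⟩ := Cfsg.Agent.S5626.result hπc hα (projLines_steiner hF) hL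
  let ρ : Matrix.ProjectiveSpecialLinearGroup (Fin 3) F →* Equiv.Perm α :=
    e.permCongrHom.toMonoidHom.comp (Projectivization.PSLAction.toPermHom (ι := Fin 3) (K := F))
  have hρ : Function.Injective ρ := e.permCongrHom.injective.comp
    Matrix.ProjectiveSpecialLinearGroup.toPermHom_injective
  have hρA : ρ.range ≤ setSystemAut L := by
    rintro _ ⟨g, rfl⟩
    have hg := range_le (F := F) ⟨g, rfl⟩
    set σ := Projectivization.PSLAction.toPermHom (ι := Fin 3) (K := F) g with hσ
    show e.permCongr σ • L = L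
    refine Set.eq_of_subset_of_ncard_le ?_ ?_ (Set.toFinite _)
    · rintro _ ⟨b, hb, rfl⟩
      rw [← he] at hb ⊢
      obtain ⟨a, ha, rfl⟩ := hb
      refine ⟨σ • a, smul_line hg ha, ?_⟩
      ext x
      simp [Finset.smul_finset_def, Finset.image_image, Function.comp_def, Equiv.permCongr_apply]
    · rw [← Set.image_smul, Set.ncard_image_of_injective _ (MulAction.injective _)]
  have hcardP : Nat.card (Matrix.ProjectiveSpecialLinearGroup (Fin 3) F) = 20160 := by
    have h1 := CfsgLib.Classical.card_SL (F := F) 3 (by norm_num)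
    have h3 := CfsgLib.Classical.card_SL_eq_gcd_mul_card_PSL (F := F) (ι := Fin 3)
    rw [hF, Fintype.card_fin, show Nat.gcd 3 (4 - 1) = 3 from rfl] at h3
    rw [hF, Fin.prod_univ_three, h3] at h1
    norm_num [-Nat.card_eq_fintype_card] at h1
    omega
  have hcardK : Nat.card ↥K = 20160 := card_stab_three p q r hpq hpr hqr
  let ψ' := ψ.codRestrict (setSystemAut L) fun g => hψA ⟨g, rfl⟩
  let ρ' := ρ.codRestrict (setSystemAut L) fun g => hρA ⟨g, rfl⟩
  have hψ' : Function.Injective ψ' := fun a b h => hψ (congrArg Subtype.val h)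
  have hρ' : Function.Injective ρ' := fun a b h => hρ (congrArg Subtype.val h)
  haveI : IsSimpleGroup ↥ψ'.range := MulEquiv.isSimpleGroup (MonoidHom.ofInjective hψ').symm
  have hrr : ψ'.range = ρ'.range := eq_of_simple (card_aut_le hα hL)
    ((Nat.card_congr (MonoidHom.ofInjective hρ').toEquiv).symm.trans hcardP)
    ((Nat.card_congr (MonoidHom.ofInjective hψ').toEquiv).symm.trans hcardK)
  exact ⟨((MonoidHom.ofInjective hψ').trans (MulEquiv.subgroupCongr hrr)).trans
    (MonoidHom.ofInjective hρ').symm⟩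

end CfsgLib.Sporadic.ThreePointPSL
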