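import Cfsg.Agent.Lib.Sporadic.Simple

/-!
# The groups `Cfsg.Spor.M23`, `M22`, `M12`, `M11`: orders and simplicity
-/

set_option autoImplicit false

namespace CfsgLib.Sporadic

open Cfsg MulAction
open scoped Pointwise

/-- A subgroup of M24, seen inside the symmetric group, is isomorphic to itself. -/
def toAmbient (H : Subgroup ↥M24) (K : Subgroup (Equiv.Perm GolayPt))
    (h : ∀ g : Equiv.Perm GolayPt, g ∈ K ↔ ∃ hg : g ∈ M24, (⟨g, hg⟩ : ↥M24) ∈ H) : ↥H ≃* ↥K where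
  toFun g := ⟨g.1.1, (h _).2 ⟨g.1.2, g.2⟩⟩
  invFun g := ⟨⟨g.1, ((h _).1 g.2).1⟩, ((h _).1 g.2).2⟩
  left_inv _ := rfl
  right_inv _ := rfl
  map_mul' _ _ := rfl

theorem squareDodecad_mem : Spor.squareDodecad ∈ dodecads := squareDodecad_eq ▸ stdD_mem

theorem zero_mem_squareDodecad : (some 0 : GolayPt) ∈ Spor.squareDodecad := by decide +kernel

def sporM23Equiv : ↥(stabilizer ↥M24 (none : GolayPt)) ≃* ↥Spor.M23 :=
  toAmbient _ _ fun _ => ⟨fun h => ⟨h.1, h.2⟩, fun ⟨h1, h2⟩ => ⟨h1, h2⟩⟩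

def sporM22Equiv :
    ↥(stabilizer ↥M24 (none : GolayPt) ⊓ stabilizer ↥M24 (some 0 : GolayPt)) ≃* ↥Spor.M22 :=
  toAmbient _ _ fun _ =>
    ⟨fun h => ⟨h.1.1, h.1.2, h.2⟩, fun ⟨h1, h2, h3⟩ => ⟨⟨h1, h2⟩, h3⟩⟩

def sporM12Equiv : ↥(stabilizer ↥M24 Spor.squareDodecad) ≃* ↥Spor.M12 :=
  toAmbient _ _ fun _ => ⟨fun h => ⟨h.1, h.2⟩, fun ⟨h1, h2⟩ => ⟨h1, h2⟩⟩

def sporM11Equiv :
    ↥(stabilizer ↥M24 Spor.squareDodecad ⊓ stabilizer ↥M24 (some 0 : GolayPt)) ≃* ↥Spor.M11 :=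
  toAmbient _ _ fun _ =>
    ⟨fun h => ⟨h.1.1, h.1.2, h.2⟩, fun ⟨h1, h2, h3⟩ => ⟨⟨h1, h2⟩, h3⟩⟩

theorem card_sporM23 : Nat.card ↥Spor.M23 = 10200960 :=
  (Nat.card_congr sporM23Equiv.toEquiv).symm.trans (card_stab_point none)

theorem card_sporM22 : Nat.card ↥Spor.M22 = 443520 :=
  (Nat.card_congr sporM22Equiv.toEquiv).symm.trans (card_stab_two _ _ (by simp))

theorem card_sporM12 : Nat.card ↥Spor.M12 = 95040 :=
  (Nat.card_congr sporM12Equiv.toEquiv).symm.trans (card_stab_dodecad squareDodecad_mem)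

theorem card_sporM11 : Nat.card ↥Spor.M11 = 7920 :=
  (Nat.card_congr sporM11Equiv.toEquiv).symm.trans
    (card_stab_dodecad_point squareDodecad_mem zero_mem_squareDodecad)

theorem sporM23_isSimple : IsSimpleGroup ↥Spor.M23 := isSimple_congr sporM23Equiv (M23_isSimple none)

theorem sporM22_isSimple : IsSimpleGroup ↥Spor.M22 :=
  isSimple_congr sporM22Equiv (M22_isSimple (by simp))

theorem sporM12_isSimple : IsSimpleGroup ↥Spor.M12 :=
  isSimple_congr sporM12Equiv (M12_isSimple squareDodecad_mem)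

theorem sporM11_isSimple : IsSimpleGroup ↥Spor.M11 :=
  isSimple_congr sporM11Equiv (M11_isSimple squareDodecad_mem zero_mem_squareDodecad)

end CfsgLib.Sporadic
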