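import Cfsg.Agent.Lib.Sporadic.MathieuTwelveAut
import Cfsg.Agent.Lib.Sporadic.SporMathieu

/-!
# M11 has only inner automorphisms

A subgroup of order 720 fixes a second point of the dodecad, so an automorphism is induced by a
permutation of the twelve points fixing the first; it maps hexads to hexads, so it lies in M11.
-/

set_option autoImplicit false

namespace CfsgLib.Sporadic.MElevenAut

open Cfsg MulAction CfsgLib.Sporadic CfsgLib.Sporadic.MathieuAut
open scoped Pointwise

variable {d : Finset GolayPt} {p : GolayPt}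

theorem fix_of_card (hd : d ∈ dodecads) (hp : p ∈ d) (H : Subgroup ↥M24)
    (hH : H ≤ stabilizer ↥M24 d ⊓ stabilizer ↥M24 p) (h : Nat.card H = 720) :
    ∃ a ∈ d, a ≠ p ∧ H ≤ stabilizer ↥M24 a := by
  classical
  have := Fact.mk (show Nat.Prime 5 by norm_num)
  obtain ⟨y, hy⟩ := exists_prime_orderOf_dvd_card' (G := ↥H) 5 (by rw [h]; norm_num)
  have hy' : orderOf (y : ↥M24) = 5 := by rw [Subgroup.orderOf_coe, hy]
  have hmem : ∀ g ∈ H, ∀ x, g • x ∈ d.erase p ↔ x ∈ d.erase p := fun g hg x => by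
    rw [Finset.mem_erase, Finset.mem_erase, smul_mem_of_stab (hH hg).1]
    refine and_congr_left' (not_congr ?_)
    exact smul_eq_iff_eq_inv_smul g |>.trans
      (by rw [inv_smul_eq_iff.2 (show g • p = p from (hH hg).2).symm])
  have h11 : (d.erase p).card = 11 := by rw [Finset.card_erase_of_mem hp, hd.2]
  have huniq : ∀ g ∈ stabilizer ↥M24 d, ∀ x : Fin 5 ↪ GolayPt, (∀ i, x i ∈ d) →
      (∀ i, g • x i = x i) → g = 1 := fun g hg x hxd hgx => by
    obtain ⟨g0, -, hu⟩ := existsUnique_map_dodecad hd x x hxd hxd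
    exact congrArg Subtype.val ((hu ⟨g, hg⟩ hgx).trans (hu 1 fun i => one_smul _ _).symm)
  have hfew : ((d.erase p).filter fun z => (y : ↥M24) • z = z).card < 5 := by
    by_contra hge
    obtain ⟨R, hR, hR5⟩ := Finset.exists_subset_card_eq (not_lt.1 hge)
    have h1 := huniq _ (hH y.2).1 ((R.equivFinOfCardEq hR5).symm.toEmbedding.trans (Function.Embedding.subtype _))
      (fun i => Finset.mem_of_mem_erase (Finset.mem_filter.1 (hR ((R.equivFinOfCardEq hR5).symm i).2)).1)
      (fun i => (Finset.mem_filter.1 (hR ((R.equivFinOfCardEq hR5).symm i).2)).2)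
    rw [h1, orderOf_one] at hy'
    omega
  obtain ⟨a, hfil⟩ : ∃ a, ((d.erase p).filter fun z => (y : ↥M24) • z = z) = {a} := by
    have hm := fixed_modEq hy' (d.erase p) fun z hz => (hmem _ y.2 z).2 hz
    rw [h11, Nat.ModEq] at hm
    exact Finset.card_eq_one.1 (by omega)
  obtain ⟨haD, hay⟩ := Finset.mem_filter.1 (hfil.symm.subset (Finset.mem_singleton_self a))
  refine ⟨a, Finset.mem_of_mem_erase haD, Finset.ne_of_mem_erase haD, ?_⟩
  set O := (orbit ↥H a).toFinset with hO
  have hsub : O ⊆ d.erase p := fun z hz => by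
    rw [hO, Set.mem_toFinset] at hz
    obtain ⟨g, rfl⟩ := hz
    exact (hmem _ g.2 a).2 haD
  have hOinv : ∀ g ∈ H, ∀ x, g • x ∈ O ↔ x ∈ O := fun g hg x => by
    rw [hO, Set.mem_toFinset, Set.mem_toFinset]
    show (⟨g, hg⟩ : ↥H) • x ∈ orbit ↥H a ↔ _
    rw [← orbit_eq_iff, orbit_smul, orbit_eq_iff]
  have hmul := orbit_card H a
  rw [Set.ncard_eq_toFinset_card', ← hO, h] at hmul
  have hmO := fixed_modEq hy' O fun z hz => (hOinv _ y.2 z).2 hz
  have hfO : (O.filter fun z => (y : ↥M24) • z = z) = {a} := by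
    refine Finset.eq_singleton_iff_unique_mem.2 ⟨Finset.mem_filter.2 ⟨?_, hay⟩, fun z hz => ?_⟩
    · rw [hO, Set.mem_toFinset]; exact mem_orbit_self a
    · have : z ∈ (d.erase p).filter fun z => (y : ↥M24) • z = z :=
        Finset.filter_subset_filter _ hsub hz
      rwa [hfil, Finset.mem_singleton] at this
  rw [hfO, Finset.card_singleton, Nat.ModEq] at hmO
  have hle : O.card ≤ 11 := h11 ▸ Finset.card_le_card hsub
  have hO16 : O.card = 1 ∨ O.card = 6 := by
    have : O.card = 1 ∨ O.card = 6 ∨ O.card = 11 := by omega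
    rcases this with e | e | e
    · exact Or.inl e
    · exact Or.inr e
    · rw [e] at hmul; omega
  rcases hO16 with e | e
  · rw [e, one_mul] at hmul
    exact inf_eq_left.1 (Subgroup.eq_of_le_of_card_ge inf_le_left (by omega))
  -- `H` acts faithfully on five further points
  exfalso
  set R := d.erase p \ O with hR
  have hR5 : R.card = 5 := by rw [hR, Finset.card_sdiff_of_subset hsub, h11, e]
  have hRinv : ∀ g ∈ H, ∀ x ∈ R, g • x ∈ R := fun g hg x hx => by
    rw [hR, Finset.mem_sdiff] at hx ⊢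
    exact ⟨(hmem _ hg x).2 hx.1, fun e => hx.2 ((hOinv _ hg x).1 e)⟩
  let x : Fin 5 ↪ GolayPt := (R.equivFinOfCardEq hR5).symm.toEmbedding.trans (Function.Embedding.subtype _)
  have hxR : ∀ i, x i ∈ R := fun i => ((R.equivFinOfCardEq hR5).symm i).2
  let f : ↥H → (Fin 5 ↪ ↥R) := fun g =>
    ⟨fun i => ⟨(g : ↥M24) • x i, hRinv _ g.2 _ (hxR i)⟩, fun i j hij =>
      x.injective (smul_left_cancel _ (congrArg Subtype.val hij))⟩
  have hf : Function.Injective f := fun g g' hgg => by
    have h1 := huniq ((g' : ↥M24)⁻¹ * g) (mul_mem (inv_mem (hH g'.2).1) (hH g.2).1) x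
      (fun i => Finset.mem_of_mem_erase (Finset.mem_sdiff.1 (hxR i)).1) (fun i => by
        have := congrArg (fun F : Fin 5 ↪ ↥R => ((F i : ↥R) : GolayPt)) hgg
        rw [mul_smul, inv_smul_eq_iff]
        exact this)
    exact Subtype.ext (inv_mul_eq_one.1 h1).symm
  have hb := Nat.card_le_card_of_injective f hf
  rw [h, Nat.card_eq_fintype_card, Fintype.card_embedding_eq, Fintype.card_fin, Fintype.card_coe, hR5] at hb
  norm_num [Nat.descFactorial] at hb

/-- The stabiliser of a further point. -/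
theorem card_two (hd : d ∈ dodecads) (hp : p ∈ d) {a : GolayPt} (ha : a ∈ d) (hap : a ≠ p) :
    Nat.card ↥(stabilizer ↥M24 d ⊓ stabilizer ↥M24 p ⊓ stabilizer ↥M24 a) = 720 := by
  classical
  have hmul := orbit_card (stabilizer ↥M24 d ⊓ stabilizer ↥M24 p) a
  have horb : (orbit ↥(stabilizer ↥M24 d ⊓ stabilizer ↥M24 p) a) = ↑(d.erase p) := by
    ext z
    constructor
    · rintro ⟨g, rfl⟩
      refine Finset.mem_erase.2 ⟨fun e => hap ?_, (smul_mem_of_stab g.2.1).2 ha⟩
      exact smul_left_cancel (g : ↥M24) (e.trans g.2.2.symm)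
    · intro hz
      rw [Finset.mem_coe, Finset.mem_erase] at hz
      obtain ⟨g, hg, hgi⟩ := exists_map_dodecad hd (k := 2) (by norm_num)
        ⟨![p, a], fun i j h => by fin_cases i <;> fin_cases j <;> simp [hap, hap.symm] at h ⊢⟩
        ⟨![p, z], fun i j h => by fin_cases i <;> fin_cases j <;> simp [hz.1, Ne.symm hz.1] at h ⊢⟩
        (fun i => by fin_cases i <;> first | exact hp | exact ha)
        (fun i => by fin_cases i <;> first | exact hp | exact hz.2)
      exact ⟨⟨g, hg, hgi 0⟩, hgi 1⟩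
  rw [horb, Set.ncard_coe_finset, Finset.card_erase_of_mem hp, hd.2, card_stab_dodecad_point hd hp] at hmul
  omega

theorem compl_hexad (hd : d ∈ dodecads) {o : Finset GolayPt} (ho : o ∈ octads) (h6 : (o ∩ d).card = 6) :
    symmDiff o d ∈ octads ∧ symmDiff o d ∩ d = d \ o := by
  refine ⟨⟨symmDiff_mem_supports ho.1 hd.1, ?_⟩, ?_⟩
  · have hc : (symmDiff o d).card + 2 * (o ∩ d).card = o.card + d.card := by
      rw [Finset.symmDiff_def, Finset.card_union_of_disjoint disjoint_sdiff_sdiff,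
        ← Finset.card_sdiff_add_card_inter o d, ← Finset.card_sdiff_add_card_inter d o,
        Finset.inter_comm d o]
      ring
    rw [h6, ho.2, hd.2] at hc
    show (symmDiff o d).card = 8
    omega
  · ext z
    simp only [Finset.mem_symmDiff, Finset.mem_inter, Finset.mem_sdiff]
    tauto

/-- Every automorphism of the stabiliser of a dodecad and of one of its points is inner. -/
theorem aut_inner (hd : d ∈ dodecads) (hp : p ∈ d)
    (φ : MulAut ↥(stabilizer ↥M24 d ⊓ stabilizer ↥M24 p)) :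
    φ ∈ Cfsg.Inn ↥(stabilizer ↥M24 d ⊓ stabilizer ↥M24 p) := by
  classical
  revert φ
  set K := stabilizer ↥M24 d ⊓ stabilizer ↥M24 p with hK
  intro φ
  let β := {z : GolayPt // z ∈ d ∧ z ≠ p}
  let : MulAction ↥K β :=
    { smul := fun g z => ⟨(g : ↥M24) • z.1, (smul_mem_of_stab g.2.1).2 z.2.1, fun e => z.2.2
        (smul_left_cancel (g : ↥M24) (e.trans g.2.2.symm))⟩
      one_smul := fun z => Subtype.ext (one_smul _ _)
      mul_smul := fun g h z => Subtype.ext (mul_smul _ _ _) }
  have hst : ∀ a : β, (stabilizer ↥K a).map K.subtype = K ⊓ stabilizer ↥M24 a.1 := by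
    intro a
    ext g
    constructor
    · rintro ⟨g, hg, rfl⟩
      exact ⟨g.2, congrArg Subtype.val hg⟩
    · rintro ⟨hg, hga⟩
      exact ⟨⟨g, hg⟩, Subtype.ext hga, rfl⟩
  have hcard : ∀ a : β, Nat.card ↥(stabilizer ↥K a) = 720 := fun a => by
    rw [← Subgroup.card_map_of_injective K.subtype_injective, hst, hK]
    exact card_two hd hp a.2.1 a.2.2
  have hsep : ∀ a b : β, stabilizer ↥K a = stabilizer ↥K b → a = b := by
    intro a b e
    by_contra hne
    have hne' : a.1 ≠ b.1 := fun e => hne (Subtype.ext e)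
    obtain ⟨c, hc⟩ : (d \ {p, a.1, b.1}).Nonempty := by
      rw [← Finset.card_pos]
      have := Finset.le_card_sdiff {p, a.1, b.1} d
      have h3 : ({p, a.1, b.1} : Finset GolayPt).card ≤ 3 := Finset.card_le_three
      rw [hd.2] at this
      omega
    simp only [Finset.mem_sdiff, Finset.mem_insert, Finset.mem_singleton, not_or] at hc
    obtain ⟨g, hg, hgi⟩ := exists_map_dodecad hd (k := 3) (by norm_num)
      ⟨![p, a.1, b.1], fun i j h => by
        fin_cases i <;> fin_cases j <;> simp [a.2.2, a.2.2.symm, b.2.2, b.2.2.symm, hne', hne'.symm] at h ⊢⟩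
      ⟨![p, a.1, c], fun i j h => by
        fin_cases i <;> fin_cases j <;>
          simp [a.2.2, a.2.2.symm, hc.2.1, Ne.symm hc.2.1, hc.2.2.1, Ne.symm hc.2.2.1] at h ⊢⟩
      (fun i => by fin_cases i <;> first | exact hp | exact a.2.1 | exact b.2.1)
      (fun i => by fin_cases i <;> first | exact hp | exact a.2.1 | exact hc.1)
    have hga : (⟨g, hg, hgi 0⟩ : ↥K) ∈ stabilizer ↥K a := Subtype.ext (hgi 1)
    rw [e] at hga
    exact hc.2.2.2 ((hgi 2).symm.trans (congrArg Subtype.val hga))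
  obtain ⟨π₀, hπ₀⟩ := exists_perm φ hsep (fun a => by
    obtain ⟨b, hb, hbp, hfix⟩ := fix_of_card hd hp (((stabilizer ↥K a).map φ.toMonoidHom).map K.subtype)
      (Subgroup.map_subtype_le _) (by
        rw [Subgroup.card_map_of_injective K.subtype_injective,
          Subgroup.card_map_of_injective φ.injective, hcard])
    refine ⟨⟨b, hb, hbp⟩, Subgroup.eq_of_le_of_card_ge ?_ ?_⟩
    · intro g hg
      exact Subtype.ext (hfix ⟨g, hg, rfl⟩)
    · rw [Subgroup.card_map_of_injective φ.injective, hcard, hcard])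
  let α := {z : GolayPt // z ∈ d}
  let : MulAction ↥(stabilizer ↥M24 d) α :=
    { smul := fun g z => ⟨(g : ↥M24) • z.1, (smul_mem_of_stab g.2).2 z.2⟩
      one_smul := fun z => Subtype.ext (one_smul _ _)
      mul_smul := fun g h z => Subtype.ext (mul_smul _ _ _) }
  let up : ↥K →* ↥(stabilizer ↥M24 d) := Subgroup.inclusion inf_le_left
  let pf : α → α := fun z =>
    if hz : z.1 = p then z else ⟨(π₀ ⟨z.1, z.2, hz⟩).1, (π₀ ⟨z.1, z.2, hz⟩).2.1⟩
  have hpf : Function.Injective pf := by
    intro z w hzw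
    simp only [pf] at hzw
    split_ifs at hzw with h1 h2
    · exact hzw
    · exact absurd ((congrArg Subtype.val hzw).symm.trans h1) (π₀ ⟨w.1, w.2, h2⟩).2.2
    · exact absurd ((congrArg Subtype.val hzw).trans ‹_›) (π₀ ⟨z.1, z.2, h1⟩).2.2
    · have := π₀.injective (Subtype.ext (congrArg (fun u : α => u.1) hzw) : π₀ ⟨z.1, z.2, h1⟩ = π₀ ⟨w.1, w.2, ‹¬w.1 = p›⟩)
      exact Subtype.ext (congrArg (fun u : β => u.1) this)
  let π : Equiv.Perm α := Equiv.ofBijective pf (Finite.injective_iff_bijective.1 hpf)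
  have hπp : π ⟨p, hp⟩ = ⟨p, hp⟩ := dif_pos rfl
  have hπ : ∀ (g : ↥K) (z : α), π (up g • z) = up (φ g) • π z := by
    intro g z
    by_cases hz : z.1 = p
    · obtain rfl : z = ⟨p, hp⟩ := Subtype.ext hz
      rw [show up g • (⟨p, hp⟩ : α) = ⟨p, hp⟩ from Subtype.ext g.2.2, hπp,
        show up (φ g) • (⟨p, hp⟩ : α) = ⟨p, hp⟩ from Subtype.ext (φ g).2.2]
    · have hz' : (up g • z).1 ≠ p := fun e => hz (smul_left_cancel (g : ↥M24) (e.trans g.2.2.symm))
      show pf _ = up (φ g) • pf z
      simp only [pf, dif_neg hz, dif_neg hz']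
      exact Subtype.ext (congrArg (fun u : β => u.1) (hπ₀ g ⟨z.1, z.2, hz⟩))
  have h5 : ∀ x y : Fin 5 ↪ α, ∃ g : ↥(stabilizer ↥M24 d), (∀ i, g • x i = y i) ∧
      ∀ g' : ↥(stabilizer ↥M24 d), (∀ i, g' • x i = y i) → g' = g := by
    intro x y
    obtain ⟨g, hg, huniq⟩ := existsUnique_map_dodecad hd (x.trans (Function.Embedding.subtype _))
      (y.trans (Function.Embedding.subtype _)) (fun i => (x i).2) (fun i => (y i).2)
    exact ⟨g, fun i => Subtype.ext (hg i), fun g' h => huniq g' fun i => congrArg Subtype.val (h i)⟩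
  have hαc : Fintype.card α = 12 := by rw [Fintype.card_coe, hd.2]
  set B : Set (Finset α) := {h : Finset α | ∃ o ∈ octads, (o ∩ d).card = 6 ∧
    h = Finset.subtype (fun q => q ∈ d) o} with hB
  have hS : IsSteinerSystem 5 6 B := Cfsg.Agent.S0385.result d hd
  have hBc : ∀ b ∈ B, bᶜ ∈ B := by
    rintro _ ⟨o, ho, h6, rfl⟩
    obtain ⟨ho', he⟩ := compl_hexad hd ho h6
    refine ⟨_, ho', by rw [he, Finset.card_sdiff, h6, hd.2], ?_⟩
    ext z
    have := Finset.ext_iff.1 he z.1
    simp only [Finset.mem_inter, Finset.mem_sdiff] at this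
    rw [Finset.mem_compl, Finset.mem_subtype, Finset.mem_subtype]
    exact ⟨fun h => (this.2 ⟨z.2, h⟩).1, fun h => (this.1 ⟨h, z.2⟩).2⟩
  have hgB : ∀ g : ↥(stabilizer ↥M24 d), ∀ b ∈ B, g • b ∈ B := by
    rintro g _ ⟨o, ho, h6, rfl⟩
    refine ⟨(g : ↥M24) • o, (smul_mem_octads' _).2 ho, ?_, ?_⟩
    · have e : ((g : ↥M24) • o) ∩ d = (g : ↥M24) • (o ∩ d) := by
        rw [Finset.smul_finset_inter, show (g : ↥M24) • d = d from g.2]
      rw [e, Finset.card_smul_finset, h6]
    · ext z
      rw [← Finset.inv_smul_mem_iff, Finset.mem_subtype, Finset.mem_subtype, ← Finset.inv_smul_mem_iff]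
      rfl
  let P0 : α := ⟨p, hp⟩
  have hπB' : ∀ b ∈ B, P0 ∈ b → π • b ∈ B := by
    intro b hb hPb
    obtain ⟨T, hPT, hT, hTc⟩ := Finset.exists_subsuperset_card_eq (s := {P0}) (t := b) (n := 5)
      (Finset.singleton_subset_iff.2 hPb) (by simp) (by rw [hS.1 b hb]; norm_num)
    rw [Finset.singleton_subset_iff] at hPT
    obtain ⟨b', ⟨hb', hT'⟩, -⟩ := hS.2 (π • T) (by rw [Finset.card_smul_finset, hTc])
    suffices π • b ⊆ b' by
      rwa [Finset.eq_of_subset_of_card_le this (by rw [Finset.card_smul_finset, hS.1 b hb, hS.1 b' hb'])]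
    intro z hz
    rw [← Finset.inv_smul_mem_iff] at hz
    set x := π⁻¹ • z with hx
    by_cases hxT : x ∈ T
    · have := hT' (Finset.smul_mem_smul_finset (a := π) hxT)
      rwa [hx, smul_inv_smul] at this
    by_contra hzb'
    have hzx : z = π x := by rw [hx]; exact (smul_inv_smul π z).symm
    -- an element of the stabiliser of the point moving `z`
    have hPT' : P0 ∈ π • T := by
      have := Finset.smul_mem_smul_finset (a := π) hPT
      rwa [show π • P0 = P0 from hπp] at this
    have hT'c : (π • T).card = 5 := by rw [Finset.card_smul_finset, hTc]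
    obtain ⟨g, hgT, hgP, hgz⟩ : ∃ g : ↥(stabilizer ↥M24 d), g • (π • T) = π • T ∧ g • P0 = P0 ∧
        g • z ≠ z := by
      obtain ⟨w, hw⟩ : (b' \ π • T).Nonempty := by
        rw [← Finset.card_pos, Finset.card_sdiff_of_subset hT', hS.1 b' hb', hT'c]; norm_num
      obtain ⟨hwb, hwT⟩ := Finset.mem_sdiff.1 hw
      let e0 : Fin 5 ≃ ↥(π • T) := ((π • T).equivFinOfCardEq hT'c).symm
      let e1 : Fin 5 ≃ ↥(π • T) := (Equiv.swap 2 (e0.symm ⟨P0, hPT'⟩)).trans e0
      let e : Fin 5 ↪ α := e1.toEmbedding.trans (Function.Embedding.subtype _)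
      have he2 : e 2 = P0 := by simp [e, e1]
      have heT : ∀ i, e i ∈ π • T := fun i => (e1 i).2
      obtain ⟨g, hg, -⟩ := h5 e ((Equiv.swap 0 1).toEmbedding.trans e)
      have hgT : g • (π • T) = π • T := by
        refine Finset.eq_of_subset_of_card_le (fun t ht => ?_) (Finset.card_smul_finset g _).ge
        rw [← Finset.inv_smul_mem_iff] at ht
        obtain ⟨i, hi⟩ : ∃ i, e i = g⁻¹ • t := ⟨e1.symm ⟨_, ht⟩, by simp [e]⟩
        have := hg i
        rw [hi, smul_inv_smul] at this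
        rw [this]
        exact heT _
      have hgb : g • b' = b' := (hS.2 _ hT'c).unique
        ⟨hgB g b' hb', hgT.symm.subset.trans (Finset.smul_finset_subset_smul_finset hT')⟩ ⟨hb', hT'⟩
      have hgw : g • w = w := by
        have h1 : g • w ∈ b' := hgb ▸ Finset.smul_mem_smul_finset hwb
        have h2 : g • w ∉ π • T := fun h => hwT ((Finset.smul_mem_smul_finset_iff g).1 (hgT.symm ▸ h))
        have hc : (b' \ π • T).card = 1 := by
          rw [Finset.card_sdiff_of_subset hT', hS.1 b' hb', hT'c]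
        exact Finset.card_le_one.1 hc.le _ (Finset.mem_sdiff.2 ⟨h1, h2⟩) _ hw
      have hg234 : ∀ i, i ≠ 0 → i ≠ 1 → g • e i = e i := fun i h0 h1 =>
        (hg i).trans (congrArg e (Equiv.swap_apply_of_ne_of_ne h0 h1))
      refine ⟨g, hgT, ?_, fun hgy => ?_⟩
      · rw [← he2]; exact hg234 2 (by decide) (by decide)
      have nx : ∀ i, e i ≠ w := fun i h => hwT (h ▸ heT i)
      have ny : ∀ i, e i ≠ z := fun i h => hzb' (h ▸ hT' (heT i))
      have nxy : w ≠ z := fun h => hzb' (h ▸ hwb)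
      let u : Fin 5 ↪ α := ⟨![e 2, e 3, e 4, w, z], by
        intro i j h
        fin_cases i <;> fin_cases j <;> simp [nx, ny, nxy, nxy.symm, (nx _).symm, (ny _).symm,
          e.injective.eq_iff] at h ⊢⟩
      obtain ⟨g0, -, huniq⟩ := h5 u u
      have hgu : ∀ i, g • u i = u i := by
        intro i
        fin_cases i
        · exact hg234 2 (by decide) (by decide)
        · exact hg234 3 (by decide) (by decide)
        · exact hg234 4 (by decide) (by decide)
        · exact hgw
        · exact hgy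
      have hg1 : g = 1 := (huniq g hgu).trans (huniq 1 fun i => one_smul _ _).symm
      have := hg 0
      rw [hg1, one_smul] at this
      exact absurd (e.injective (this.trans (congrArg e (Equiv.swap_apply_left 0 1)))) (by decide)
    apply hgz
    set k : ↥K := ⟨g.1, g.2, congrArg Subtype.val hgP⟩ with hk
    have hup : up k = g := rfl
    have hg' : up (φ.symm k) • T = T := by
      refine Finset.eq_of_subset_of_card_le (fun t ht => ?_) (Finset.card_smul_finset _ T).ge
      obtain ⟨t0, ht0, rfl⟩ := Finset.mem_smul_finset.1 ht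
      have h1 : π (up (φ.symm k) • t0) ∈ π • T := by
        rw [hπ, φ.apply_symm_apply, hup, ← hgT]
        exact Finset.smul_mem_smul_finset (a := g) (Finset.smul_mem_smul_finset (a := π) ht0)
      exact (Finset.smul_mem_smul_finset_iff π).1 h1
    have hfx : up (φ.symm k) • x = x := by
      have hgb : up (φ.symm k) • b = b := (hS.2 T hTc).unique
        ⟨hgB _ b hb, hg'.symm.subset.trans (Finset.smul_finset_subset_smul_finset hT)⟩ ⟨hb, hT⟩
      have h1 : up (φ.symm k) • x ∈ b := hgb ▸ Finset.smul_mem_smul_finset hz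
      have h2 : up (φ.symm k) • x ∉ T := fun h => hxT ((Finset.smul_mem_smul_finset_iff _).1 (hg'.symm ▸ h))
      have hc : (b \ T).card = 1 := by rw [Finset.card_sdiff_of_subset hT, hS.1 b hb, hTc]
      exact Finset.card_le_one.1 hc.le _ (Finset.mem_sdiff.2 ⟨h1, h2⟩) _ (Finset.mem_sdiff.2 ⟨hz, hxT⟩)
    have := hπ (φ.symm k) x
    rw [hfx, φ.apply_symm_apply, hup] at this
    rw [hzx]; exact this.symm
  have hπB : ∀ b ∈ B, π • b ∈ B := by
    intro b hb
    by_cases hPb : P0 ∈ b
    · exact hπB' b hb hPb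
    · have h1 := hBc _ (hπB' _ (hBc b hb) (Finset.mem_compl.2 hPb))
      have e : (π • bᶜ)ᶜ = π • b := by
        ext z
        simp [← Finset.inv_smul_mem_iff]
      rwa [e] at h1
  obtain ⟨s, hPs, -, hsc⟩ := Finset.exists_subsuperset_card_eq (s := {P0}) (t := (Finset.univ : Finset α))
    (n := 5) (Finset.subset_univ _) (by simp) (by rw [Finset.card_univ, hαc]; norm_num)
  rw [Finset.singleton_subset_iff] at hPs
  let e : Fin 5 ↪ α := ((s.equivFinOfCardEq hsc).symm.toEmbedding).trans (Function.Embedding.subtype _)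
  obtain ⟨i0, hi0⟩ : ∃ i, e i = P0 := ⟨s.equivFinOfCardEq hsc ⟨P0, hPs⟩, by simp [e]⟩
  obtain ⟨g, hg, -⟩ := h5 e (e.trans π.toEmbedding)
  let P : Equiv.Perm α := MulAction.toPerm g
  have haut : ∀ σ : Equiv.Perm α, (∀ b ∈ B, σ • b ∈ B) → σ ∈ setSystemAut B := by
    intro σ h
    show σ • B = B
    refine Set.eq_of_subset_of_ncard_le ?_ ?_ (Set.toFinite _)
    · rintro _ ⟨o, ho, rfl⟩; exact h o ho
    · rw [← Set.image_smul, Set.ncard_image_of_injective _ (MulAction.injective σ)]
  have hPB : ∀ b ∈ B, P • b ∈ B := fun b hb => hgB g b hb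
  have hmem : (⟨P⁻¹ * π, mul_mem (inv_mem (haut P hPB)) (haut π hπB)⟩ : ↥(setSystemAut B)) ∈
      MulAction.stabilizer ↥(setSystemAut B) e := by
    refine DFunLike.ext _ _ fun i => ?_
    show P⁻¹ (π (e i)) = e i
    rw [Equiv.Perm.inv_eq_iff_eq]
    exact (hg i).symm
  rw [(CfsgLib.Sporadic.Hex.aut12 hαc hS).2.2 e, Subgroup.mem_bot] at hmem
  have hπg : ∀ z, π z = g • z := by
    intro z
    have := congrArg (fun σ : ↥(setSystemAut B) => (σ : Equiv.Perm α) z) hmem
    simp only [Subgroup.coe_one, Equiv.Perm.mul_apply, Equiv.Perm.one_apply] at this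
    exact (Equiv.Perm.inv_eq_iff_eq.1 this)
  have hgP : g • P0 = P0 := (hπg P0).symm.trans hπp
  refine ⟨⟨g.1, g.2, congrArg Subtype.val hgP⟩, MulEquiv.ext fun k => ?_⟩
  have hinj : ∀ a b : ↥K, (∀ z : α, up a • z = up b • z) → a = b := by
    intro a b hab
    obtain ⟨g0, -, huniq⟩ := h5 e ⟨fun i => up b • e i, fun i j hij => e.injective (smul_left_cancel _ hij)⟩
    exact Subgroup.inclusion_injective _ ((huniq _ fun i => hab (e i)).trans (huniq _ fun i => rfl).symm)
  refine hinj _ _ fun z => ?_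
  have hz : z = π (g⁻¹ • z) := by rw [hπg, smul_inv_smul]
  show (g * up k * g⁻¹) • z = up (φ k) • z
  conv_rhs => rw [hz, ← hπ, hπg]
  rw [mul_smul, mul_smul]

theorem card_out : Nat.card (Cfsg.Out ↥Spor.M11) = 1 := by
  refine card_out_eq_one fun φ => ?_
  obtain ⟨g, hg⟩ := aut_inner squareDodecad_mem zero_mem_squareDodecad
    ((MulAut.congr sporM11Equiv.symm) φ)
  refine ⟨sporM11Equiv g, MulEquiv.ext fun x => ?_⟩
  have := congrArg sporM11Equiv (DFunLike.congr_fun hg (sporM11Equiv.symm x))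
  simpa [MulAut.congr] using this

end CfsgLib.Sporadic.MElevenAut
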