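import Mathlib
import Cfsg.Prelude.Def_KGroupFacts
import Cfsg.Agent.Lib.Known.SL2Multiplier
import Cfsg.Agent.Lib.Sporadic.PermList
import Cfsg.Agent.Lib.Sporadic.SporMathieu

/-!
# The Schur multiplier of M11 is trivial

Sylow subgroups for 5 and 11 are cyclic; lifts of the Sylow 3-subgroup commute because a
normalising element reflects it; the Sylow 2-subgroup is semidihedral.
-/

set_option autoImplicit false
set_option maxRecDepth 20000

namespace CfsgLib.Sporadic.MElevenMultiplier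

open Cfsg
open scoped commutatorElement Pointwise

section Generic

variable {G : Type*} [Group G]

theorem card_closure_pair [Finite G] {a b : G} {n m r : ℕ} (hn : a ^ n = 1) (hm : b ^ m = 1)
    (hn0 : 0 < n) (hm0 : 0 < m) (hba : b * a = a ^ r * b)
    (hinj : Function.Injective fun x : Fin n × Fin m => a ^ x.1.val * b ^ x.2.val) :
    Nat.card ↥(Subgroup.closure ({a, b} : Set G)) = n * m := by
  have hpow : ∀ k, b * a ^ k = a ^ (r * k) * b := by
    intro k
    induction k with
    | zero => simp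
    | succ k ih => rw [pow_succ, ← mul_assoc, ih, mul_assoc, hba, ← mul_assoc, ← pow_add, mul_add_one]
  have hbpow : ∀ j k, b ^ j * a ^ k = a ^ (r ^ j * k) * b ^ j := by
    intro j
    induction j with
    | zero => intro k; simp
    | succ j ih =>
      intro k
      rw [pow_succ, mul_assoc, hpow, ← mul_assoc, ih, mul_assoc, ← pow_succ]
      ring_nf
  let S : Set G := Set.range fun x : Fin n × Fin m => a ^ x.1.val * b ^ x.2.val
  have hmem : ∀ i j, a ^ i * b ^ j ∈ S := fun i j => ⟨(⟨i % n, Nat.mod_lt _ hn0⟩,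
    ⟨j % m, Nat.mod_lt _ hm0⟩), by
      show a ^ (i % n) * b ^ (j % m) = _
      rw [← pow_eq_pow_mod i hn, ← pow_eq_pow_mod j hm]⟩
  have hle : ∀ g ∈ Subgroup.closure ({a, b} : Set G), g ∈ S := by
    intro g hg
    rw [← Subgroup.mem_toSubmonoid, Subgroup.closure_toSubmonoid_of_finite] at hg
    induction hg using Submonoid.closure_induction with
    | mem x hx =>
      rcases hx with rfl | hx
      · simpa using hmem 1 0
      · rw [Set.mem_singleton_iff] at hx; subst hx; simpa using hmem 0 1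
    | one => simpa using hmem 0 0
    | mul x y _ _ hx hy =>
      obtain ⟨⟨i, j⟩, rfl⟩ := hx
      obtain ⟨⟨k, l⟩, rfl⟩ := hy
      have e : a ^ i.val * b ^ j.val * (a ^ k.val * b ^ l.val)
          = a ^ (i.val + r ^ j.val * k.val) * b ^ (j.val + l.val) := by
        rw [mul_assoc, ← mul_assoc (b ^ j.val), hbpow, pow_add, pow_add]
        group
      rw [e]
      exact hmem _ _
  have heq : ((Subgroup.closure ({a, b} : Set G) : Subgroup G) : Set G) = S := by
    refine Set.Subset.antisymm hle ?_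
    rintro _ ⟨⟨i, j⟩, rfl⟩
    exact mul_mem (pow_mem (Subgroup.subset_closure (by simp)) _)
      (pow_mem (Subgroup.subset_closure (by simp)) _)
  rw [← SetLike.coe_sort_coe, heq, Nat.card_range_of_injective hinj, Nat.card_prod]
  simp

theorem not_dvd_index [Finite G] (U : Subgroup G) {c i r : ℕ} (hU : Nat.card U = c)
    (hG : Nat.card G = c * i) (hc : 0 < c) (hi : ¬ r ∣ i) : ¬ r ∣ U.index := by
  have h := U.card_mul_index
  rw [hU, hG] at h
  rw [Nat.eq_of_mul_eq_mul_left hc h]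
  exact hi

variable {Γ : Type*} [Group Γ]

/-- The derived group of the inverse image of a two-generated subgroup. -/
theorem commutator_comap_le (σ : Γ →* G) (hs : Function.Surjective σ)
    (hc : σ.ker ≤ Subgroup.center Γ) {a b : G} (A B : Γ) (hA : σ A = a) (hB : σ B = b)
    (K : Subgroup Γ) (hAK : A ∈ Subgroup.normalizer (K : Set Γ))
    (hBK : B ∈ Subgroup.normalizer (K : Set Γ)) (hAB : ⁅A, B⁆ ∈ K)
    {z : Γ} (h : z ∈ (Subgroup.closure ({a, b} : Set G)).comap σ)
    (hz : (⟨z, h⟩ : (Subgroup.closure ({a, b} : Set G)).comap σ) ∈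
      commutator ((Subgroup.closure ({a, b} : Set G)).comap σ)) : z ∈ K := by
  let H := Subgroup.closure ({A, B} ∪ (σ.ker : Set Γ))
  have hle : (Subgroup.closure ({a, b} : Set G)).comap σ ≤ H := by
    intro x hx
    have hmap : Subgroup.closure ({a, b} : Set G) ≤ H.map σ := by
      rw [Subgroup.closure_le]
      rintro y (rfl | rfl)
      · exact ⟨A, Subgroup.subset_closure (by simp), hA⟩
      · exact ⟨B, Subgroup.subset_closure (by simp), hB⟩
    obtain ⟨y, hy, e⟩ := hmap (show σ x ∈ _ from hx)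
    have hk : y⁻¹ * x ∈ σ.ker := by rw [MonoidHom.mem_ker, map_mul, map_inv, e, inv_mul_cancel]
    have hk' : y⁻¹ * x ∈ H := Subgroup.subset_closure (Or.inr hk)
    simpa using mul_mem hy hk'
  have hN : H ≤ Subgroup.normalizer (K : Set Γ) := by
    rw [Subgroup.closure_le]
    rintro y ((rfl | rfl) | hy)
    · exact hAK
    · exact hBK
    · exact Subgroup.center_le_normalizer _ (hc hy)
  have hconj : ∀ {x k : Γ}, x ∈ H → k ∈ K → x * k * x⁻¹ ∈ K := fun hx hk =>
    (Subgroup.mem_normalizer_iff.1 (hN hx) _).1 hk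
  have hgen : ∀ x ∈ ({A, B} ∪ (σ.ker : Set Γ)), ∀ y ∈ ({A, B} ∪ (σ.ker : Set Γ)), ⁅x, y⁆ ∈ K := by
    intro x hx y hy
    rcases hx with (rfl | rfl) | hx
    · rcases hy with (rfl | rfl) | hy
      · simp [one_mem]
      · exact hAB
      · rw [commutatorElement_eq_one_iff_commute.2 (Subgroup.mem_center_iff.1 (hc hy) x)]
        exact one_mem _
    · rcases hy with (rfl | rfl) | hy
      · rw [← commutatorElement_inv]; exact inv_mem hAB
      · simp [one_mem]
      · rw [commutatorElement_eq_one_iff_commute.2 (Subgroup.mem_center_iff.1 (hc hy) x)]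
        exact one_mem _
    · rw [commutatorElement_eq_one_iff_commute.2 (Subgroup.mem_center_iff.1 (hc hx) y).symm]
      exact one_mem _
  have step : ∀ y ∈ H, (∀ x ∈ ({A, B} ∪ (σ.ker : Set Γ)), ⁅x, y⁆ ∈ K) → ∀ x ∈ H, ⁅x, y⁆ ∈ K := by
    intro y hy hy' x hx
    induction hx using Subgroup.closure_induction with
    | mem x hx => exact hy' x hx
    | one => simp [one_mem]
    | mul u v hu hv h1 h2 =>
      have e : ⁅u * v, y⁆ = u * ⁅v, y⁆ * u⁻¹ * ⁅u, y⁆ := by simp only [commutatorElement_def]; group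
      rw [e]
      exact mul_mem (hconj hu h2) h1
    | inv u hu h1 =>
      have e : ⁅u⁻¹, y⁆ = u⁻¹ * ⁅u, y⁆⁻¹ * u⁻¹⁻¹ := by simp only [commutatorElement_def]; group
      rw [e]
      exact hconj (inv_mem hu) (inv_mem h1)
  have all : ∀ x ∈ H, ∀ y ∈ H, ⁅x, y⁆ ∈ K := by
    intro x hx y hy
    refine step y hy (fun x' hx' => ?_) x hx
    rw [← commutatorElement_inv]
    exact inv_mem (step x' (Subgroup.subset_closure hx') (fun y' hy' => hgen y' hy' x' hx') y hy)
  have hle2 : commutator ((Subgroup.closure ({a, b} : Set G)).comap σ) ≤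
      K.comap ((Subgroup.closure ({a, b} : Set G)).comap σ).subtype := by
    rw [commutator_def, Subgroup.commutator_le]
    intro x _ y _
    exact all x (hle x.2) y (hle y.2)
  exact hle2 hz

theorem central_of_eq (σ : Γ →* G) (hc : σ.ker ≤ Subgroup.center Γ) {x y : Γ} (h : σ x = σ y) :
    ∃ c ∈ σ.ker, (∀ t, Commute t c) ∧ x = y * c := by
  have hk : y⁻¹ * x ∈ σ.ker := by rw [MonoidHom.mem_ker, map_mul, map_inv, h, inv_mul_cancel]
  exact ⟨_, hk, fun t => Subgroup.mem_center_iff.1 (hc hk) t, by group⟩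

/-- The condition for a semidihedral subgroup of order 16. -/
theorem semidihedral_trivial (σ : Γ →* G) (hs : Function.Surjective σ)
    (hc : σ.ker ≤ Subgroup.center Γ) {a b : G} (ha : ∀ k : ℕ, a ^ k = 1 ↔ 8 ∣ k) (hb : b ^ 2 = 1)
    (hba : b * a = a ^ 3 * b) (z : Γ) (h : z ∈ (Subgroup.closure ({a, b} : Set G)).comap σ)
    (hk : z ∈ σ.ker)
    (hz : (⟨z, h⟩ : (Subgroup.closure ({a, b} : Set G)).comap σ) ∈
      commutator ((Subgroup.closure ({a, b} : Set G)).comap σ)) : z = 1 := by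
  obtain ⟨A, hA⟩ := hs a
  obtain ⟨B, hB⟩ := hs b
  obtain ⟨c, -, hcc, hBA⟩ := central_of_eq σ hc (x := B * A * B⁻¹) (y := A ^ 3)
    (by rw [map_mul, map_mul, map_inv, map_pow, hA, hB, hba, mul_inv_cancel_right])
  have hAc : Commute A c := hcc A
  set w := A ^ 2 * c with hw
  have hAw : Commute A w := ((Commute.refl A).pow_right 2).mul_right hAc
  have hBc : B * c * B⁻¹ = c := by rw [(hcc B).eq]; group
  have hwk : ∀ k : ℕ, w ^ k = A ^ (2 * k) * c ^ k := fun k => by
    rw [hw, (hAc.pow_left 2).mul_pow, ← pow_mul]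
  have hBw : B * w * B⁻¹ = w ^ 3 := by
    rw [hwk, hw, show B * (A ^ 2 * c) * B⁻¹ = (B * A * B⁻¹) ^ 2 * (B * c * B⁻¹) by
      rw [sq, sq]; group, hBA, hBc, (hAc.pow_left 3).mul_pow, ← pow_mul]
    group
  have hB2 : B ^ 2 ∈ Subgroup.center Γ :=
    hc (by rw [MonoidHom.mem_ker, map_pow, hB, hb])
  -- the eighth power of `A`, corrected, is trivial
  have key : w ^ 4 = 1 := by
    have h1 : B * (B * A * B⁻¹) * B⁻¹ = A := by
      have := (Subgroup.mem_center_iff.1 hB2 A).symm
      calc B * (B * A * B⁻¹) * B⁻¹ = B ^ 2 * A * (B ^ 2)⁻¹ := by rw [sq]; group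
        _ = A := by rw [this]; group
    rw [hBA, show B * (A ^ 3 * c) * B⁻¹ = (B * A * B⁻¹) ^ 3 * (B * c * B⁻¹) by
      rw [show (B * A * B⁻¹) ^ 3 = B * A ^ 3 * B⁻¹ from conj_pow]; group, hBA, hBc,
      (hAc.pow_left 3).mul_pow, ← pow_mul, mul_assoc, ← pow_succ] at h1
    rw [hwk]
    calc A ^ (2 * 4) * c ^ 4 = A⁻¹ * (A ^ (3 * 3) * c ^ (3 + 1)) := by group
      _ = 1 := by rw [h1, inv_mul_cancel]
  have hK : z ∈ Subgroup.zpowers w := by
    refine commutator_comap_le σ hs hc A B hA hB (Subgroup.zpowers w) ?_ ?_ ?_ h hz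
    · rw [Subgroup.zpowers_eq_closure, Subgroup.mem_normalizer_iff]
      intro k
      constructor
      · intro hk'
        rw [← Subgroup.zpowers_eq_closure] at hk' ⊢
        obtain ⟨i, rfl⟩ := hk'
        rw [(hAw.zpow_right i).eq, mul_inv_cancel_right]
        exact ⟨i, rfl⟩
      · intro hk'
        rw [← Subgroup.zpowers_eq_closure] at hk' ⊢
        obtain ⟨i, hi⟩ := hk'
        have : k = A⁻¹ * w ^ i * A := by
          have hi' : w ^ i = A * k * A⁻¹ := hi
          rw [hi']; group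
        rw [this, mul_assoc, ← (hAw.zpow_right i).eq, inv_mul_cancel_left]
        exact ⟨i, rfl⟩
    · rw [Subgroup.mem_normalizer_iff]
      intro k
      constructor
      · rintro ⟨i, rfl⟩
        refine ⟨3 * i, ?_⟩
        show w ^ (3 * i) = B * w ^ i * B⁻¹
        rw [← conj_zpow, hBw, ← zpow_natCast w 3, ← zpow_mul]
        rfl
      · rintro ⟨i, hi⟩
        refine ⟨3 * i, ?_⟩
        show w ^ (3 * i) = k
        have hi' : w ^ i = B * k * B⁻¹ := hi
        have e2 : B * w ^ (3 * i) * B⁻¹ = B * k * B⁻¹ := by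
          rw [← hi', ← conj_zpow, hBw, ← zpow_natCast w 3, ← zpow_mul,
            show (((3 : ℕ) : ℤ) * (3 * i)) = i + 4 * (2 * i) by push_cast; ring, zpow_add,
            zpow_mul w 4, show w ^ (4 : ℤ) = 1 by exact_mod_cast key, one_zpow, mul_one]
        exact mul_left_cancel (mul_right_cancel e2)
    · refine ⟨-1, ?_⟩
      show w ^ (-1 : ℤ) = _
      rw [zpow_neg, zpow_one, ← commutatorElement_inv B A, inv_inj, commutatorElement_def, hBA]
      rw [hw, mul_assoc (A ^ 3), ← (hAc.inv_left).eq]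
      group
  obtain ⟨i, rfl⟩ := hK
  obtain ⟨k, hk1⟩ : ∃ k : ℕ, w ^ i = w ^ k := ⟨(i % 4).toNat, by
    rw [← zpow_natCast, Int.toNat_of_nonneg (by omega)]
    conv_lhs => rw [← Int.emod_add_mul_ediv i 4, zpow_add, zpow_mul,
      show w ^ (4 : ℤ) = 1 by exact_mod_cast key, one_zpow, mul_one]⟩
  show w ^ i = 1
  rw [hk1]
  have hk2 : σ (w ^ k) = 1 := by rw [← hk1]; exact hk
  have hc1 : σ c = 1 := by
    have h' := congrArg σ hBA
    rw [map_mul, map_mul, map_inv, map_mul, map_pow, hA, hB, hba, mul_inv_cancel_right] at h'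
    exact mul_left_cancel (h'.symm.trans (mul_one _).symm)
  rw [map_pow, hw, map_mul, map_pow, hA, hc1, mul_one, ← pow_mul, ha] at hk2
  obtain ⟨q, rfl⟩ : 4 ∣ k := by omega
  rw [pow_mul, key, one_pow]

/-- The condition for an elementary abelian subgroup of order 9 with a reflection. -/
theorem nine_trivial (σ : Γ →* G) (hs : Function.Surjective σ)
    (hc : σ.ker ≤ Subgroup.center Γ) {a b g : G} (hb : b ^ 3 = 1) (hab : b * a = a * b)
    (hga : g * a = a * g) (hgb : g * b = b ^ 2 * g) (z : Γ)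
    (h : z ∈ (Subgroup.closure ({a, b} : Set G)).comap σ)
    (hz : (⟨z, h⟩ : (Subgroup.closure ({a, b} : Set G)).comap σ) ∈
      commutator ((Subgroup.closure ({a, b} : Set G)).comap σ)) : z = 1 := by
  obtain ⟨A, hA⟩ := hs a
  obtain ⟨B, hB⟩ := hs b
  obtain ⟨T, hT⟩ := hs g
  have hz0 : ⁅A, B⁆ ∈ σ.ker := by
    rw [MonoidHom.mem_ker, map_commutatorElement, hA, hB, commutatorElement_eq_one_iff_commute]
    exact hab.symm
  set u := ⁅A, B⁆ with hu
  have huc : ∀ t, Commute t u := fun t => Subgroup.mem_center_iff.1 (hc hz0) t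
  have hAB : A * B = u * (B * A) := by rw [hu, commutatorElement_def]; group
  -- commutator with powers
  have hpow : ∀ k : ℕ, A * B ^ k = u ^ k * (B ^ k * A) := by
    intro k
    induction k with
    | zero => simp
    | succ k ih =>
      calc A * B ^ (k + 1) = A * B ^ k * B := by rw [pow_succ, mul_assoc]
        _ = u ^ k * B ^ k * (A * B) := by rw [ih]; group
        _ = u ^ k * (B ^ k * u) * (B * A) := by rw [hAB]; group
        _ = u ^ (k + 1) * (B ^ (k + 1) * A) := by rw [(huc (B ^ k)).eq, pow_succ u, pow_succ B]; group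
  obtain ⟨c, -, hcc, hTA⟩ := central_of_eq σ hc (x := T * A * T⁻¹) (y := A)
    (by rw [map_mul, map_mul, map_inv, hA, hT, hga, mul_inv_cancel_right])
  obtain ⟨d, -, hdc, hTB⟩ := central_of_eq σ hc (x := T * B * T⁻¹) (y := B ^ 2)
    (by rw [map_mul, map_mul, map_inv, map_pow, hB, hT, hgb, mul_inv_cancel_right])
  have h2 : u ^ 2 = u := by
    have e1 : T * u * T⁻¹ = u := by rw [(huc T).eq]; group
    have e2 : T * u * T⁻¹ = ⁅A * c, B ^ 2 * d⁆ := by
      rw [← hTA, ← hTB, hu, commutatorElement_def, commutatorElement_def]; group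
    have e3 : ⁅A * c, B ^ 2 * d⁆ = ⁅A, B ^ 2⁆ := by
      simp only [commutatorElement_def, mul_inv_rev]
      calc A * c * (B ^ 2 * d) * (c⁻¹ * A⁻¹) * (d⁻¹ * (B ^ 2)⁻¹)
          = A * (c * (B ^ 2 * d)) * c⁻¹ * A⁻¹ * (d⁻¹ * (B ^ 2)⁻¹) := by group
        _ = A * ((B ^ 2 * d) * c) * c⁻¹ * A⁻¹ * (d⁻¹ * (B ^ 2)⁻¹) := by rw [(hcc _).eq]
        _ = A * B ^ 2 * (d * A⁻¹) * d⁻¹ * (B ^ 2)⁻¹ := by group
        _ = A * B ^ 2 * (A⁻¹ * d) * d⁻¹ * (B ^ 2)⁻¹ := by rw [(hdc _).eq]
        _ = _ := by group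
    rw [e1, e3] at e2
    conv_rhs => rw [e2, commutatorElement_def, hpow]
    group
  have hu1 : u = 1 := by rw [sq] at h2; exact mul_left_cancel (h2.trans (mul_one u).symm)
  have hK : z ∈ (⊥ : Subgroup Γ) := by
    refine commutator_comap_le σ hs hc A B hA hB ⊥ ?_ ?_ (by rw [← hu, hu1]; exact one_mem _) h hz
    · rw [Subgroup.mem_normalizer_iff]; intro k; simp
    · rw [Subgroup.mem_normalizer_iff]; intro k; simp
  exact Subgroup.mem_bot.1 hK

end Generic

abbrev M11s : Subgroup ↥M24 :=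
  MulAction.stabilizer ↥M24 Spor.squareDodecad ⊓ MulAction.stabilizer ↥M24 (some 0 : GolayPt)

def pA : ℕ := 233950865888990746377447415904013344
def pB : ℕ := 735500604421669808992593446508235808
def pX : ℕ := 487607080158395075740321133224921120
def pY : ℕ := 487655643029606470073469406179395616
def pG : ℕ := 233233386906768391987032901617288256

noncomputable def ppow (p : ℕ) : ℕ → ℕ
  | 0 => pone
  | k + 1 => pmul (ppow p k) p

noncomputable def pk (g : ↥M11s) : ℕ := packG (g : ↥M24)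

theorem pk_injective : Function.Injective pk := fun _ _ e =>
  Subtype.ext (Subtype.ext (packImage_injective e))

theorem pk_mul (g h : ↥M11s) : pk (g * h) = pmul (pk g) (pk h) :=
  (pmul_packImage (rep_packImage _) (rep_packImage _)).symm

theorem pk_pow (g : ↥M11s) : ∀ k, pk (g ^ k) = ppow (pk g) k
  | 0 => packImage_one
  | k + 1 => by rw [pow_succ, pk_mul, pk_pow g k, ppow]

theorem exists_elt {p : ℕ} (h : stabGens [p] stdD [0] = true) (hp : pmul p pone = p) :
    ∃ g : ↥M11s, pk g = p := by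
  obtain ⟨g, hg, hr, hfix⟩ := stabGens_in h p (by simp)
  refine ⟨⟨g, ?_, hfix _ (by decide)⟩, ?_⟩
  · rw [squareDodecad_eq]; exact hg
  · rw [← hp, pmul_packImage hr Rep.one, mul_one]; rfl

theorem data : (stabGens [pA] stdD [0] && stabGens [pB] stdD [0] && stabGens [pX] stdD [0] &&
      stabGens [pY] stdD [0] && stabGens [pG] stdD [0]) = true ∧
    (ppow pA 8 = pone ∧ ∀ k : Fin 8, k ≠ 0 → ppow pA k ≠ pone) ∧ ppow pB 2 = pone ∧
    pmul pB pA = pmul (ppow pA 3) pB ∧ ppow pX 3 = pone ∧ ppow pY 3 = pone ∧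
    pmul pY pX = pmul pX pY ∧ pmul pG pX = pmul pX pG ∧ pmul pG pY = pmul (ppow pY 2) pG ∧
    (∀ x y : Fin 8 × Fin 2, pmul (ppow pA x.1) (ppow pB x.2) = pmul (ppow pA y.1) (ppow pB y.2) →
      x = y) ∧
    ∀ x y : Fin 3 × Fin 3, pmul (ppow pX x.1) (ppow pY x.2) = pmul (ppow pX y.1) (ppow pY y.2) →
      x = y := by
  decide +kernel

theorem card_eq : Nat.card ↥M11s = 7920 :=
  card_stab_dodecad_point squareDodecad_mem zero_mem_squareDodecad

theorem prime_cases {r : ℕ} (hr : r.Prime) (h : r ∣ 7920) : r = 2 ∨ r = 3 ∨ r = 5 ∨ r = 11 := by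
  have h5 : r ∣ 2 ^ 4 * (3 ^ 2 * (5 * 11)) := by norm_num; exact h
  rcases (Nat.Prime.dvd_mul hr).1 h5 with h | h
  · exact .inl ((Nat.prime_dvd_prime_iff_eq hr Nat.prime_two).1 (hr.dvd_of_dvd_pow h))
  rcases (Nat.Prime.dvd_mul hr).1 h with h | h
  · exact .inr (.inl ((Nat.prime_dvd_prime_iff_eq hr Nat.prime_three).1 (hr.dvd_of_dvd_pow h)))
  rcases (Nat.Prime.dvd_mul hr).1 h with h | h
  · exact .inr (.inr (.inl ((Nat.prime_dvd_prime_iff_eq hr (by norm_num)).1 h)))
  · exact .inr (.inr (.inr ((Nat.prime_dvd_prime_iff_eq hr (by norm_num)).1 h)))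

theorem std_trivial : Cfsg.HasCyclicSchurMultiplier ↥M11s 1 := by
  haveI : Finite ↥M11s := inferInstance
  refine CfsgLib.Schur.hasCyclicSchurMultiplier_one_of_forall fun Γ _ _ σ hσ =>
    (Subgroup.eq_bot_iff_forall _).2 fun z hz => ?_
  rw [← orderOf_eq_one_iff]
  by_contra hne
  obtain ⟨r, hr, hrz⟩ := Nat.exists_prime_and_dvd hne
  have := Fact.mk hr
  obtain ⟨hins, ⟨hA8, hAne⟩, hB2, hBA, hX3, hY3, hYX, hGX, hGY, hinj2, hinj3⟩ := data
  simp only [Bool.and_eq_true] at hins
  have key : ∃ U : Subgroup ↥M11s, ¬ r ∣ U.index ∧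
      ∀ (z : Γ) (h : z ∈ U.comap σ), z ∈ σ.ker → (⟨z, h⟩ : U.comap σ) ∈ commutator (U.comap σ) →
        z = 1 := by
    by_cases hd : r ∣ 7920
    · rcases prime_cases hr hd with rfl | rfl | h5
      · obtain ⟨a, ha⟩ := exists_elt hins.1.1.1.1 (by decide +kernel)
        obtain ⟨b, hb⟩ := exists_elt hins.1.1.1.2 (by decide +kernel)
        have ha8 : a ^ 8 = 1 := pk_injective (by rw [pk_pow, ha, hA8]; exact packImage_one.symm)
        have hb2 : b ^ 2 = 1 := pk_injective (by rw [pk_pow, hb, hB2]; exact packImage_one.symm)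
        have hba : b * a = a ^ 3 * b :=
          pk_injective (by rw [pk_mul, pk_mul, pk_pow, ha, hb, hBA])
        refine ⟨Subgroup.closure {a, b}, not_dvd_index _ (card_closure_pair ha8 hb2 (by norm_num)
          (by norm_num) hba (fun x y e => hinj2 x y ?_)) (i := 495) (by rw [card_eq]) (by norm_num)
          (by norm_num), fun z h hk hcom => semidihedral_trivial σ hσ.1 hσ.2.1 ?_ hb2 hba z h hk hcom⟩
        · have e' := congrArg pk e
          simpa only [pk_mul, pk_pow, ha, hb] using e'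
        · intro k
          rw [pow_eq_pow_mod k ha8]
          constructor
          · intro h1
            by_contra hk8
            refine hAne ⟨k % 8, Nat.mod_lt _ (by norm_num)⟩ (fun e => hk8 ?_) ?_
            · exact Nat.dvd_of_mod_eq_zero (congrArg Fin.val e)
            · have := congrArg pk h1
              rw [pk_pow, ha] at this
              exact this.trans packImage_one
          · intro h1
            rw [Nat.mod_eq_zero_of_dvd h1, pow_zero]
      · obtain ⟨x, hx⟩ := exists_elt hins.1.1.2 (by decide +kernel)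
        obtain ⟨y, hy⟩ := exists_elt hins.1.2 (by decide +kernel)
        obtain ⟨g, hg⟩ := exists_elt hins.2 (by decide +kernel)
        have hx3 : x ^ 3 = 1 := pk_injective (by rw [pk_pow, hx, hX3]; exact packImage_one.symm)
        have hy3 : y ^ 3 = 1 := pk_injective (by rw [pk_pow, hy, hY3]; exact packImage_one.symm)
        have hyx : y * x = x * y := pk_injective (by rw [pk_mul, pk_mul, hx, hy, hYX])
        have hgx : g * x = x * g := pk_injective (by rw [pk_mul, pk_mul, hx, hg, hGX])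
        have hgy : g * y = y ^ 2 * g := pk_injective (by rw [pk_mul, pk_mul, pk_pow, hy, hg, hGY])
        refine ⟨Subgroup.closure {x, y}, not_dvd_index _ (card_closure_pair hx3 hy3 (by norm_num)
          (by norm_num) (r := 1) (by rw [pow_one]; exact hyx) (fun u v e => hinj3 u v ?_))
          (i := 880) (by rw [card_eq]) (by norm_num)
          (by norm_num), fun z h hk hcom => nine_trivial σ hσ.1 hσ.2.1 hy3 hyx hgx hgy z h hcom⟩
        have e' := congrArg pk e
        simpa only [pk_mul, pk_pow, hx, hy] using e'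
      · obtain ⟨x, hx⟩ := exists_prime_orderOf_dvd_card' (G := ↥M11s) r (card_eq ▸ hd)
        refine ⟨Subgroup.zpowers x, not_dvd_index _ (i := 7920 / r) (c := r) ?_ ?_ hr.pos ?_,
          fun z h hk hcom => CfsgLib.Known.SL2Mult.trivial_of_mult σ hσ _
            (CfsgLib.Schur.hasCyclicSchurMultiplier_one_of_isCyclic _) z h hk hcom⟩
        · rw [Nat.card_zpowers, hx]
        · rw [card_eq, Nat.mul_div_cancel' hd]
        · rcases h5 with rfl | rfl <;> norm_num
    · exact ⟨⊥, by rwa [Subgroup.index_bot, card_eq], fun z h hk hcom =>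
        CfsgLib.Known.SL2Mult.trivial_of_mult σ hσ _
          (CfsgLib.Schur.hasCyclicSchurMultiplier_one_of_isCyclic _) z h hk hcom⟩
  obtain ⟨U, hU1, hU2⟩ := key
  exact hU1 (hrz.trans (orderOf_dvd_of_pow_eq_one
    (CfsgLib.Known.SL2Mult.pow_index_eq_one σ hσ U hU2 hz)))

theorem multiplier_trivial : Cfsg.HasCyclicSchurMultiplier ↥Spor.M11 1 := by
  haveI : Finite ↥Spor.M11 := inferInstance
  refine CfsgLib.Schur.hasCyclicSchurMultiplier_one_of_forall fun Γ _ _ σ hσ => ?_
  have hk : (sporM11Equiv.symm.toMonoidHom.comp σ).ker = σ.ker :=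
    Subgroup.ext fun x => by simp [MonoidHom.mem_ker]
  have hst : Cfsg.IsStemExtension (sporM11Equiv.symm.toMonoidHom.comp σ) :=
    ⟨sporM11Equiv.symm.surjective.comp hσ.1, hk ▸ hσ.2.1, hk ▸ hσ.2.2⟩
  obtain ⟨π, hπ⟩ := std_trivial.2 Γ _ hst
  rw [← hk, Subgroup.eq_bot_iff_forall]
  intro x hx
  obtain ⟨u, hu⟩ := hπ ⟨x, hx⟩
  have h1 : u = 1 := Subsingleton.elim _ _
  rw [h1, map_one] at hu
  exact (congrArg Subtype.val hu).symm

end CfsgLib.Sporadic.MElevenMultiplier
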