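import Mathlib

/-!
# Simplicity criteria for permutation groups

* prime degree, the normaliser of a Sylow subgroup of order `p * q` with `q` prime;
* two-fold transitive, simple point stabiliser, degree divisible by two distinct primes.
-/

set_option autoImplicit false

namespace CfsgLib.Sporadic.Simplicity

open MulAction Subgroup

open scoped Pointwise

variable {G α : Type*} [Group G] [MulAction G α]

theorem pretransitive_of_normal [FaithfulSMul G α] [IsQuasiPreprimitive G α] {N : Subgroup G}
    [N.Normal] (hN : N ≠ ⊥) : IsPretransitive N α := by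
  refine IsQuasiPreprimitive.isPretransitive_of_normal fun h => hN ?_
  rw [eq_bot_iff]
  intro n hn
  rw [mem_bot]
  apply eq_of_smul_eq_smul (α := α)
  intro x
  rw [one_smul]
  exact Set.eq_univ_iff_forall.1 h x ⟨n, hn⟩

theorem card_dvd_of_pretransitive [Finite α] [Nonempty α] {H : Subgroup G} (h : IsPretransitive H α) :
    Nat.card α ∣ Nat.card H := by
  have := h
  obtain ⟨a⟩ := ‹Nonempty α›
  rw [← index_stabilizer_of_transitive H a]
  exact index_dvd_card _

/-- A two-fold transitive group with a simple point stabiliser, of degree divisible by two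
distinct primes, is simple. -/
theorem isSimpleGroup_of_stabilizer [Finite G] [Finite α] [FaithfulSMul G α]
    (h2 : IsMultiplyPretransitive G α 2) (a : α) (hS : IsSimpleGroup (stabilizer G a))
    {p q : ℕ} (hp : p.Prime) (hq : q.Prime) (hpq : p ≠ q) (hpn : p ∣ Nat.card α)
    (hqn : q ∣ Nat.card α) : IsSimpleGroup G := by
  have : IsPreprimitive G α := isPreprimitive_of_is_two_pretransitive h2
  have : Nonempty α := ⟨a⟩
  have hne : Nontrivial G := by
    obtain ⟨x, y, hxy⟩ := hS.exists_pair_ne
    exact ⟨⟨x, y, fun e => hxy (Subtype.ext e)⟩⟩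
  refine IsSimpleGroup.mk fun N hN => ?_
  by_contra h
  push Not at h
  obtain ⟨hbot, htop⟩ := h
  have htr := pretransitive_of_normal (α := α) hbot
  have hcase := hS.eq_bot_or_eq_top_of_normal (N.subgroupOf (stabilizer G a)) (hN.subgroupOf _)
  rcases hcase with h0 | h1
  · -- `N` is regular
    have hfree : ∀ n ∈ N, n • a = a → n = 1 := by
      intro n hn hna
      have : (⟨n, hna⟩ : stabilizer G a) ∈ N.subgroupOf (stabilizer G a) := hn
      rw [h0, mem_bot] at this
      exact congrArg Subtype.val this
    have hcard : Nat.card N = Nat.card α := by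
      refine Nat.card_eq_of_bijective (fun n : N => n • a) ⟨fun m n e => ?_, fun x => ?_⟩
      · have e' : (m : G) • a = (n : G) • a := e
        have := hfree ((n : G)⁻¹ * m) (mul_mem (inv_mem n.2) m.2) (by rw [mul_smul, e', inv_smul_smul])
        exact Subtype.ext (inv_mul_eq_one.1 this).symm
      · exact exists_smul_eq N a x
    haveI := Fact.mk hp
    haveI := Fact.mk hq
    obtain ⟨x, hx⟩ := exists_prime_orderOf_dvd_card' (G := N) p (hcard ▸ hpn)
    obtain ⟨y, hy⟩ := exists_prime_orderOf_dvd_card' (G := N) q (hcard ▸ hqn)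
    rw [← orderOf_coe] at hx hy
    have hxa : (x : G) • a ≠ a := fun e => by
      rw [hfree _ x.2 e, orderOf_one] at hx
      exact hp.one_lt.ne hx
    have hya : (y : G) • a ≠ a := fun e => by
      rw [hfree _ y.2 e, orderOf_one] at hy
      exact hq.one_lt.ne hy
    obtain ⟨g, hga, hg⟩ := (MulAction.is_two_pretransitive_iff (G := G) (α := α)).1 h2
      hxa.symm hya.symm
    have he : g * x * g⁻¹ = (y : G) := by
      have hin : g * x * g⁻¹ ∈ N := hN.conj_mem _ x.2 g
      have hga' : g⁻¹ • a = a := by rw [inv_smul_eq_iff, hga]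
      have h1 : (g * x * g⁻¹) • a = (y : G) • a := by rw [mul_smul, mul_smul, hga', hg]
      have := hfree ((y : G)⁻¹ * (g * x * g⁻¹)) (mul_mem (inv_mem y.2) hin)
        (by rw [mul_smul, h1, inv_smul_smul])
      exact (inv_mul_eq_one.1 this).symm
    apply hpq
    rw [← hx, ← hy, ← he, ← MulAut.conj_apply]
    exact (orderOf_injective (MulAut.conj g).toMonoidHom (MulAut.conj g).injective (x : G)).symm
  · rw [subgroupOf_eq_top] at h1
    refine htop (eq_top_iff.2 fun g _ => ?_)
    obtain ⟨n, hn⟩ := exists_smul_eq N a (g • a)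
    have hst : (n : G)⁻¹ * g ∈ stabilizer G a := by
      rw [mem_stabilizer_iff, mul_smul, inv_smul_eq_iff]
      exact hn.symm
    have := mul_mem n.2 (h1 hst)
    rwa [mul_inv_cancel_left] at this

/-- The centraliser of a transitive cyclic subgroup of prime order has that order. -/
theorem card_centralizer_le [Finite α] [Nonempty α] [FaithfulSMul G α] {P : Subgroup G}
    (hP : IsPretransitive P α) : Nat.card (centralizer (P : Set G)) ≤ Nat.card α := by
  obtain ⟨a⟩ := ‹Nonempty α›
  refine Nat.card_le_card_of_injective (fun g : centralizer (P : Set G) => (g : G) • a) fun g h e => ?_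
  have e' : (g : G) • a = (h : G) • a := e
  apply Subtype.ext
  apply eq_of_smul_eq_smul (α := α)
  intro x
  obtain ⟨c, rfl⟩ := exists_smul_eq P a x
  rw [Subgroup.smul_def, ← mul_smul, ← mul_smul, ← mem_centralizer_iff.1 g.2 _ c.2,
    ← mem_centralizer_iff.1 h.2 _ c.2, mul_smul, mul_smul, e']

/-- A transitive faithful group of prime degree `p` is simple if the normaliser of a Sylow
`p`-subgroup has order `p * q` with `q` prime, and the group is bigger than that. -/
theorem isSimpleGroup_of_prime_degree [Finite G] [Finite α] [FaithfulSMul G α]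
    [IsPretransitive G α] {p q : ℕ} [Fact p.Prime] (hq : q.Prime) (hα : Nat.card α = p)
    (P : Sylow p G) (hPc : Nat.card (P : Subgroup G) = p)
    (hN : Nat.card (normalizer ((P : Subgroup G) : Set G)) = p * q)
    (hG : p * q < Nat.card G) : IsSimpleGroup G := by
  have hp := (Fact.out : p.Prime)
  have : Nonempty α := (Nat.card_pos_iff.1 (hα ▸ hp.pos)).1
  have : IsPreprimitive G α := IsPreprimitive.of_prime_card (hα ▸ hp)
  have : Nontrivial G := Finite.one_lt_card_iff_nontrivial.1 (by have := hp.two_le; have := hq.two_le; nlinarith)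
  refine IsSimpleGroup.mk fun N hNn => ?_
  by_contra h
  push Not at h
  obtain ⟨hbot, htop⟩ := h
  have hdvd : ∀ M : Subgroup G, M.Normal → M ≠ ⊥ → p ∣ Nat.card M := fun M hM hM' => by
    haveI := hM
    exact hα ▸ card_dvd_of_pretransitive (pretransitive_of_normal (α := α) hM')
  -- a Sylow subgroup of `N` is one of `G`
  have hpN := hdvd N hNn hbot
  obtain ⟨x, hx⟩ := exists_prime_orderOf_dvd_card' (G := N) p hpN
  have hxG : orderOf (x : G) = p := by rw [orderOf_coe, hx]
  have hzp : Nat.card (zpowers (x : G)) = p := by rw [Nat.card_zpowers, hxG]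
  obtain ⟨Q, hQ⟩ := (IsPGroup.of_card (n := 1) (hzp.trans (pow_one p).symm)).exists_le_sylow
  have hQc : Nat.card (Q : Subgroup G) = p :=
    Q.card_eq_multiplicity.trans (P.card_eq_multiplicity.symm.trans hPc)
  have hQe : zpowers (x : G) = (Q : Subgroup G) :=
    eq_of_le_of_card_ge hQ (by rw [hzp, hQc])
  have hQN : (Q : Subgroup G) ≤ N := hQe ▸ zpowers_le.2 x.2
  have hPN : (P : Subgroup G) ≤ N := by
    obtain ⟨g, hg⟩ := MulAction.exists_smul_eq G Q P
    rw [← hg]
    intro z hz
    rw [Sylow.coe_subgroup_smul, Subgroup.mem_pointwise_smul_iff_inv_smul_mem] at hz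
    have hz' := hQN hz
    rw [MulAut.inv_def, MulAut.smul_def, MulAut.conj_symm_apply] at hz'
    have h := hNn.conj_mem _ hz' g
    rwa [show g * (g⁻¹ * z * g) * g⁻¹ = z by group] at h
  have hfr : normalizer ((P : Subgroup G) : Set G) ⊔ N = ⊤ := Sylow.normalizer_sup_eq_top' P hPN
  by_cases hle : normalizer ((P : Subgroup G) : Set G) ≤ N
  · exact htop (by rw [← hfr, sup_eq_right.2 hle])
  -- so `N ∩ N(P) = P`
  have hPle : (P : Subgroup G) ≤ normalizer ((P : Subgroup G) : Set G) := le_normalizer
  have hinf : normalizer ((P : Subgroup G) : Set G) ⊓ N = P := by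
    refine (eq_of_le_of_card_ge (le_inf hPle hPN) ?_).symm
    obtain ⟨c, hc⟩ := card_dvd_of_le (le_inf hPle hPN : (P : Subgroup G) ≤ _ ⊓ N)
    rw [hPc] at hc
    have hdiv : p * c ∣ p * q := by
      rw [← hc, ← hN]; exact card_dvd_of_le inf_le_left
    rcases (Nat.dvd_prime hq).1 (Nat.dvd_of_mul_dvd_mul_left hp.pos hdiv) with rfl | rfl
    · rw [hc, hPc, mul_one]
    · exact absurd (inf_eq_left.1 (eq_of_le_of_card_ge inf_le_left (by rw [hc, hN]))) hle
  -- Burnside's transfer argument in `N`
  let PN : Sylow p N := P.subtype hPN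
  have hnc : normalizer ((PN : Subgroup N) : Set N) ≤ centralizer ((PN : Subgroup N) : Set N) := by
    intro n hn
    have hnP : (n : G) ∈ (P : Subgroup G) := by
      rw [← hinf]
      refine ⟨mem_normalizer_iff.2 fun y => ?_, n.2⟩
      constructor
      · intro hy
        exact (mem_normalizer_iff.1 hn ⟨y, hPN hy⟩).1 hy
      · intro hy
        have hyN : y ∈ N := by
          have := hNn.conj_mem _ (hPN hy) (n : G)⁻¹
          rw [show (n : G)⁻¹ * ((n : G) * y * (n : G)⁻¹) * (n : G)⁻¹⁻¹ = y by group] at this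
          exact this
        exact (mem_normalizer_iff.1 hn ⟨y, hyN⟩).2 hy
    rw [mem_centralizer_iff]
    intro z hz
    haveI := isCyclic_of_prime_card hPc
    have := (IsCyclic.isMulCommutative (α := (P : Subgroup G))).is_comm.comm ⟨z, hz⟩ ⟨n, hnP⟩
    have h' : (z : G) * n = n * z := congrArg Subtype.val this
    exact Subtype.ext h'
  have hK := MonoidHom.ker_transferSylow_isComplement' PN hnc
  let K : Subgroup G := (MonoidHom.transferSylow PN hnc).ker.map N.subtype
  have hKN : K ≤ N := map_subtype_le _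
  have hKc : Nat.card K * p = Nat.card N := by
    rw [show Nat.card K = Nat.card (MonoidHom.transferSylow PN hnc).ker from
      (Nat.card_congr (Subgroup.equivMapOfInjective _ _ N.subtype_injective).toEquiv).symm, ← hK.card_mul]
    congr 1
    exact hPc.symm.trans (Nat.card_congr (Subgroup.subgroupOfEquivOfLe hPN).toEquiv).symm
  have hpK : ¬ p ∣ Nat.card K := by
    intro hd
    have h1 : Nat.card K ∣ Nat.card N := card_dvd_of_le hKN
    have h2 : p * p ∣ Nat.card N := hKc ▸ Nat.mul_dvd_mul_right hd p
    have h3 : p ^ 2 ∣ Nat.card G := sq p ▸ h2.trans (card_subgroup_dvd_card N)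
    obtain ⟨R, hR⟩ := Sylow.exists_subgroup_card_pow_prime p h3
    obtain ⟨S, hS⟩ := (IsPGroup.of_card hR).exists_le_sylow
    have h4 := card_dvd_of_le hS
    rw [hR, S.card_eq_multiplicity, ← P.card_eq_multiplicity, hPc] at h4
    have := Nat.le_of_dvd hp.pos h4
    nlinarith [hp.two_le]
  have hKn : K.Normal := by
    refine ⟨fun k hk g => ?_⟩
    obtain ⟨k', hk', rfl⟩ := hk
    have hin : g * N.subtype k' * g⁻¹ ∈ N := hNn.conj_mem _ k'.2 g
    let φ := MonoidHom.transferSylow PN hnc
    have hφ : φ ⟨_, hin⟩ = 1 := by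
      have hord : orderOf (⟨_, hin⟩ : N) = orderOf k' :=
        (orderOf_coe (⟨_, hin⟩ : N)).symm.trans
          ((orderOf_injective (MulAut.conj g).toMonoidHom (MulAut.conj g).injective
            (N.subtype k')).trans (orderOf_coe k'))
      have h1 : orderOf (φ ⟨_, hin⟩) ∣ Nat.card K := by
        refine (orderOf_map_dvd φ _).trans ?_
        rw [hord, ← orderOf_coe k']
        have h := _root_.orderOf_dvd_natCard (⟨N.subtype k', mem_map_of_mem _ hk'⟩ : K)
        rwa [← orderOf_coe] at h
      have h2 : orderOf (φ ⟨_, hin⟩) ∣ p := by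
        have := orderOf_dvd_natCard (φ ⟨_, hin⟩)
        rwa [show Nat.card (PN : Subgroup N) = p from
          (Nat.card_congr (Subgroup.subgroupOfEquivOfLe hPN).toEquiv).trans hPc] at this
      rcases (Nat.dvd_prime hp).1 h2 with h | h
      · exact orderOf_eq_one_iff.1 h
      · exact absurd (h ▸ h1) hpK
    exact ⟨⟨_, hin⟩, hφ, rfl⟩
  have hK0 : K = ⊥ := by
    by_contra hne
    exact hpK (hdvd K hKn hne)
  have hNP : N = (P : Subgroup G) := by
    refine (eq_of_le_of_card_ge hPN ?_).symm
    rw [hPc, ← hKc, hK0, card_bot, one_mul]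
  have : normalizer ((P : Subgroup G) : Set G) = ⊤ := normalizer_eq_top_iff.2 (hNP ▸ hNn)
  rw [this, card_top] at hN
  omega

theorem pretransitive_of_card_prime [Finite α] [FaithfulSMul G α] {p : ℕ} (hp : p.Prime)
    (hα : Nat.card α = p) {P : Subgroup G} (hP : Nat.card P = p) : IsPretransitive P α := by
  obtain ⟨g, hg⟩ : ∃ g : P, g ≠ 1 := by
    have : Finite P := Nat.finite_of_card_ne_zero (hP ▸ hp.ne_zero)
    have : Nontrivial P := Finite.one_lt_card_iff_nontrivial.1 (hP ▸ hp.one_lt)
    exact exists_ne 1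
  obtain ⟨a, ha⟩ : ∃ a : α, g • a ≠ a := by
    by_contra h
    push Not at h
    exact hg (Subtype.ext (eq_of_smul_eq_smul (α := α) fun x => (h x).trans (one_smul G x).symm))
  have hd : Nat.card (orbit P a) ∣ p := by
    rw [Nat.card_coe_set_eq, ← index_stabilizer]
    exact hP.symm ▸ index_dvd_card (stabilizer P a)
  rcases (Nat.dvd_prime hp).1 hd with h | h
  · exfalso
    rw [Nat.card_eq_one_iff_unique] at h
    exact ha (congrArg Subtype.val (h.1.elim ⟨g • a, mem_orbit _ _⟩ ⟨a, mem_orbit_self a⟩))
  · have huniv : orbit P a = Set.univ := by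
      refine Set.eq_of_subset_of_ncard_le (Set.subset_univ _) ?_
      rw [Set.ncard_univ, hα, ← Nat.card_coe_set_eq, h]
    refine ⟨fun x y => ?_⟩
    obtain ⟨u, rfl⟩ : x ∈ orbit P a := huniv ▸ Set.mem_univ x
    obtain ⟨v, rfl⟩ : y ∈ orbit P a := huniv ▸ Set.mem_univ y
    exact ⟨v * u⁻¹, by simp [mul_smul]⟩

/-- The possible orders of the normaliser of a Sylow subgroup in prime degree. -/
theorem exists_card_normalizer [Finite G] [Finite α] [FaithfulSMul G α]
    {p : ℕ} [Fact p.Prime] (hα : Nat.card α = p) (P : Sylow p G)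
    (hPc : Nat.card (P : Subgroup G) = p) :
    ∃ d m, d ∣ p - 1 ∧ Nat.card (normalizer ((P : Subgroup G) : Set G)) = p * d ∧
      Nat.card G = p * d * m ∧ m % p = 1 := by
  have hp := (Fact.out : p.Prime)
  have : Nonempty α := (Nat.card_pos_iff.1 (hα.symm ▸ hp.pos)).1
  have hPt := pretransitive_of_card_prime hp hα hPc
  have : IsCyclic (P : Subgroup G) := isCyclic_of_prime_card hPc
  have hPC : (P : Subgroup G) ≤ centralizer ((P : Subgroup G) : Set G) :=
    le_centralizer_iff_isMulCommutative.2 inferInstance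
  have hC : centralizer ((P : Subgroup G) : Set G) = (P : Subgroup G) :=
    (eq_of_le_of_card_ge hPC (by
      have := card_centralizer_le (α := α) hPt
      omega)).symm
  let φ := (P : Subgroup G).normalizerMonoidHom
  have hker : φ.ker = (centralizer ((P : Subgroup G) : Set G)).subgroupOf
      (normalizer ((P : Subgroup G) : Set G)) := normalizerMonoidHom_ker _
  refine ⟨φ.ker.index, (normalizer ((P : Subgroup G) : Set G)).index, ?_, ?_, ?_, ?_⟩
  · rw [index_ker]
    have h := card_subgroup_dvd_card φ.range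
    rw [IsCyclic.card_mulAut, hPc, Nat.totient_prime hp] at h
    exact h
  · rw [← card_mul_index φ.ker, hker, hC]
    congr 1
    exact (Nat.card_congr (subgroupOfEquivOfLe le_normalizer).toEquiv).trans hPc
  · have h1 : p * φ.ker.index = Nat.card (normalizer ((P : Subgroup G) : Set G)) := by
      rw [← card_mul_index φ.ker, hker, hC]
      congr 1
      exact ((Nat.card_congr (subgroupOfEquivOfLe le_normalizer).toEquiv).trans hPc).symm
    rw [h1, card_mul_index]
  · erw [← P.card_eq_index_normalizer]
    have := card_sylow_modEq_one p G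
    rwa [Nat.ModEq, Nat.one_mod_eq_one.2 hp.one_lt.ne'] at this

end CfsgLib.Sporadic.Simplicity
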