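import Cfsg.Agent.Lib.Sporadic.M21
import Cfsg.Agent.Lib.Sporadic.Mathieu
import Cfsg.Agent.Lib.Sporadic.Simplicity

/-!
# Simplicity of M24, M23, M22, M12, M11
-/

set_option autoImplicit false

namespace CfsgLib.Sporadic

open Cfsg MulAction
open scoped Pointwise

variable {β : Type*} [MulAction ↥M24 β]

/-- The stabiliser of a point inside a stabiliser, as the intersection. -/
def stabInStab (H : Subgroup ↥M24) (a : β) :
    ↥(stabilizer ↥H a) ≃* ↥(H ⊓ stabilizer ↥M24 a) where
  toFun g := ⟨g.1.1, g.1.2, g.2⟩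
  invFun g := ⟨⟨g.1, g.2.1⟩, g.2.2⟩
  left_inv _ := rfl
  right_inv _ := rfl
  map_mul' _ _ := rfl

/-- An isomorphism onto an equal or conjugate intersection of stabilisers. -/
def conjEquiv (t : ↥M24) (H K : Subgroup ↥M24) (h : ∀ g, g ∈ H ↔ t * g * t⁻¹ ∈ K) : ↥H ≃* ↥K where
  toFun g := ⟨t * g.1 * t⁻¹, (h _).1 g.2⟩
  invFun g := ⟨t⁻¹ * g.1 * t, (h _).2 (by simp [mul_assoc])⟩
  left_inv g := Subtype.ext (by simp [mul_assoc])
  right_inv g := Subtype.ext (by simp [mul_assoc])
  map_mul' a b := Subtype.ext (by simp [mul_assoc])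

theorem isSimple_congr {G H : Type*} [Group G] [Group H] (e : G ≃* H) (h : IsSimpleGroup G) :
    IsSimpleGroup H := by
  haveI := h
  haveI : Nontrivial H := e.toEquiv.symm.nontrivial
  exact IsSimpleGroup.isSimpleGroup_of_surjective e.toMonoidHom e.surjective

theorem stab_point_faithful (H : Subgroup ↥M24) {g h : ↥H}
    (e : ∀ x : GolayPt, (g : ↥M24) • x = (h : ↥M24) • x) : g = h :=
  Subtype.ext (Subtype.ext (Equiv.ext e))

/-! ### prime degree -/

/-- A transitive group of prime degree inside M24, given by the set it moves. -/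
theorem isSimple_prime_degree_aux (H : Subgroup ↥M24) (D : Finset GolayPt)
    (hD : ∀ g ∈ H, ∀ x, g • x ∈ D ↔ x ∈ D)
    (htr : ∀ x ∈ D, ∀ y ∈ D, ∃ g ∈ H, g • x = y)
    (hfaith : ∀ g ∈ H, (∀ x ∈ D, g • x = x) → g = 1)
    {p q n : ℕ} [Fact p.Prime] (hq : q.Prime) (hDp : D.card = p) (hn : Nat.card ↥H = p * n)
    (hpn : ¬ p ∣ n) (hqn : p * q < p * n)
    (hd : ∀ d ∈ (p - 1).divisors, d ∣ n → n / d % p = 1 → d = q) : IsSimpleGroup ↥H := by
  let act : MulAction ↥H {x // x ∈ D} :=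
    { smul := fun g x => ⟨(g : ↥M24) • x.1, (hD g g.2 x.1).2 x.2⟩
      one_smul := fun x => Subtype.ext (one_smul ↥M24 x.1)
      mul_smul := fun g h x => Subtype.ext (mul_smul (g : ↥M24) (h : ↥M24) x.1) }
  letI := act
  haveI : FaithfulSMul ↥H {x // x ∈ D} := ⟨fun {g h} e => by
    have h1 : h⁻¹ * g = 1 := Subtype.ext (hfaith _ (h⁻¹ * g).2 fun x hx => by
      have : (g : ↥M24) • x = (h : ↥M24) • x := congrArg Subtype.val (e ⟨x, hx⟩)
      rw [Subgroup.coe_mul, mul_smul, this, Subgroup.coe_inv, inv_smul_smul])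
    exact (inv_mul_eq_one.1 h1).symm⟩
  haveI : IsPretransitive ↥H {x // x ∈ D} := ⟨fun x y => by
    obtain ⟨g, hg, e⟩ := htr x.1 x.2 y.1 y.2
    exact ⟨⟨g, hg⟩, Subtype.ext e⟩⟩
  have hcard : Nat.card {x // x ∈ D} = p := by rw [Nat.card_eq_fintype_card, Fintype.card_coe, hDp]
  obtain ⟨P⟩ : Nonempty (Sylow p ↥H) := inferInstance
  have hp := (Fact.out : p.Prime)
  have hPc : Nat.card (P : Subgroup ↥H) = p := by
    rw [P.card_eq_multiplicity, hn, Nat.factorization_mul hp.ne_zero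
      (fun h => hpn (by rw [h]; exact dvd_zero p)), Finsupp.add_apply, hp.factorization_self,
      Nat.factorization_eq_zero_of_not_dvd hpn, pow_one]
  obtain ⟨d, m, hd1, hN, hG, hm⟩ := Simplicity.exists_card_normalizer hcard P hPc
  rw [hn, mul_assoc] at hG
  have hnd := Nat.eq_of_mul_eq_mul_left hp.pos hG
  have hd0 : 0 < d := Nat.pos_of_dvd_of_pos hd1 (by have := hp.two_le; omega)
  have hdq : d = q := hd d (Nat.mem_divisors.2 ⟨hd1, by have := hp.two_le; omega⟩)
    (hnd ▸ dvd_mul_right d m) (by rw [hnd, Nat.mul_div_cancel_left _ hd0]; exact hm)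
  subst hdq
  exact Simplicity.isSimpleGroup_of_prime_degree hq hcard P hPc hN (hn ▸ hqn)

theorem M23_isSimple (a : GolayPt) : IsSimpleGroup ↥(stabilizer ↥M24 a) := by
  haveI : Fact (Nat.Prime 23) := ⟨by norm_num⟩
  refine isSimple_prime_degree_aux _ (Finset.univ.erase a) (fun g hg x => ?_) (fun x hx y hy => ?_)
    (fun g hg h => ?_) (p := 23) (q := 11) (n := 443520) (by norm_num) ?_ ?_ (by norm_num) (by norm_num)
    (by decide +kernel)
  · simp only [Finset.mem_erase, Finset.mem_univ, and_true]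
    refine not_congr ⟨fun e => MulAction.injective g (e.trans hg.symm), fun e => e ▸ hg⟩
  · simp only [Finset.mem_erase, Finset.mem_univ, and_true] at hx hy
    obtain ⟨g, e1, e2⟩ := exists_map_two (p' := a) (q' := y) hx.symm hy.symm
    exact ⟨g, e1, e2⟩
  · refine Subtype.ext (Equiv.ext fun x => ?_)
    by_cases e : x = a
    · subst e; exact hg
    · exact h x (by simp [e])
  · rw [Finset.card_erase_of_mem (Finset.mem_univ a), Finset.card_univ]; rfl
  · rw [card_stab_point a]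

theorem stab_dodecad_faithful {d : Finset GolayPt} (hd : d ∈ dodecads) {g : ↥M24}
    (hg : g ∈ stabilizer ↥M24 d) (h : ∀ x ∈ d, g • x = x) : g = 1 := by
  obtain ⟨s, hs, hsc⟩ := Finset.exists_subset_card_eq (s := d) (n := 5) (by rw [hd.2]; norm_num)
  let x : Fin 5 ↪ GolayPt :=
    (s.equivFinOfCardEq hsc).symm.toEmbedding.trans (Function.Embedding.subtype _)
  have hx : ∀ i, x i ∈ d := fun i => hs ((s.equivFinOfCardEq hsc).symm i).2
  obtain ⟨u, -, hu⟩ := existsUnique_map_dodecad hd x x hx hx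
  have h1 := hu ⟨g, hg⟩ fun i => h _ (hx i)
  have h2 := hu 1 fun i => one_smul _ _
  exact congrArg Subtype.val (h1.trans h2.symm)

theorem M11_isSimple {d : Finset GolayPt} (hd : d ∈ dodecads) {a : GolayPt} (ha : a ∈ d) :
    IsSimpleGroup ↥(stabilizer ↥M24 d ⊓ stabilizer ↥M24 a) := by
  haveI : Fact (Nat.Prime 11) := ⟨by norm_num⟩
  refine isSimple_prime_degree_aux _ (d.erase a) (fun g hg x => ?_) (fun x hx y hy => ?_)
    (fun g hg h => ?_) (p := 11) (q := 5) (n := 720) (by norm_num) ?_ ?_ (by norm_num) (by norm_num)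
    (by decide +kernel)
  · simp only [Finset.mem_erase]
    exact and_congr (not_congr ⟨fun e => MulAction.injective g (e.trans hg.2.symm), fun e => e ▸ hg.2⟩)
      (smul_mem_of_stab hg.1)
  · simp only [Finset.mem_erase] at hx hy
    obtain ⟨g, hg, e⟩ := exists_map_dodecad hd (k := 2) (by norm_num)
      ⟨![a, x], by intro i j; fin_cases i <;> fin_cases j <;> simp [hx.1, hx.1.symm]⟩
      ⟨![a, y], by intro i j; fin_cases i <;> fin_cases j <;> simp [hy.1, hy.1.symm]⟩
      (fun i => by fin_cases i <;> [exact ha; exact hx.2]) (fun i => by fin_cases i <;> [exact ha; exact hy.2])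
    exact ⟨g, ⟨hg, e 0⟩, e 1⟩
  · refine stab_dodecad_faithful hd hg.1 fun x hx => ?_
    by_cases e : x = a
    · subst e; exact hg.2
    · exact h x (by simp [e, hx])
  · rw [Finset.card_erase_of_mem ha, hd.2]
  · rw [card_stab_dodecad_point hd ha]

theorem M24_isSimple : IsSimpleGroup ↥M24 := by
  haveI : FaithfulSMul ↥M24 GolayPt := ⟨fun {g h} e => Subtype.ext (Equiv.ext e)⟩
  exact Simplicity.isSimpleGroup_of_stabilizer (isMultiplyPretransitive_le_five (by norm_num))
    (none : GolayPt) (M23_isSimple none) Nat.prime_two Nat.prime_three (by norm_num)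
    (by simp [GolayPt]) (by simp [GolayPt])

theorem M12_isSimple {d : Finset GolayPt} (hd : d ∈ dodecads) :
    IsSimpleGroup ↥(stabilizer ↥M24 d) := by
  let act : MulAction ↥(stabilizer ↥M24 d) {x // x ∈ d} :=
    { smul := fun g x => ⟨(g : ↥M24) • x.1, (smul_mem_of_stab g.2).2 x.2⟩
      one_smul := fun x => Subtype.ext (one_smul ↥M24 x.1)
      mul_smul := fun g h x => Subtype.ext (mul_smul (g : ↥M24) (h : ↥M24) x.1) }
  letI := act
  haveI : FaithfulSMul ↥(stabilizer ↥M24 d) {x // x ∈ d} := ⟨fun {g h} e => by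
    have h1 : h⁻¹ * g = 1 := Subtype.ext (stab_dodecad_faithful hd (h⁻¹ * g).2 fun x hx => by
      have : (g : ↥M24) • x = (h : ↥M24) • x := congrArg Subtype.val (e ⟨x, hx⟩)
      rw [Subgroup.coe_mul, mul_smul, this, Subgroup.coe_inv, inv_smul_smul])
    exact (inv_mul_eq_one.1 h1).symm⟩
  have h2 : IsMultiplyPretransitive ↥(stabilizer ↥M24 d) {x // x ∈ d} 2 := by
    rw [is_two_pretransitive_iff]
    intro a b c e hab hce
    obtain ⟨g, hg, eg⟩ := exists_map_dodecad hd (k := 2) (by norm_num)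
      ⟨![a.1, b.1], by
        intro i j; fin_cases i <;> fin_cases j <;> simp [Subtype.coe_ne_coe.2 hab, (Subtype.coe_ne_coe.2 hab).symm]⟩
      ⟨![c.1, e.1], by
        intro i j; fin_cases i <;> fin_cases j <;> simp [Subtype.coe_ne_coe.2 hce, (Subtype.coe_ne_coe.2 hce).symm]⟩
      (fun i => by fin_cases i <;> [exact a.2; exact b.2])
      (fun i => by fin_cases i <;> [exact c.2; exact e.2])
    exact ⟨⟨g, hg⟩, Subtype.ext (eg 0), Subtype.ext (eg 1)⟩
  obtain ⟨a, ha⟩ : d.Nonempty := Finset.card_pos.1 (by rw [hd.2]; norm_num)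
  refine Simplicity.isSimpleGroup_of_stabilizer h2 ⟨a, ha⟩ ?_ Nat.prime_two Nat.prime_three
    (by norm_num) ?_ ?_
  · refine isSimple_congr (MulEquiv.symm ?_) (M11_isSimple hd ha)
    exact { toFun := fun g => ⟨g.1.1, g.1.2, congrArg Subtype.val g.2⟩
            invFun := fun g => ⟨⟨g.1, g.2.1⟩, Subtype.ext g.2.2⟩
            left_inv := fun _ => rfl
            right_inv := fun _ => rfl
            map_mul' := fun _ _ => rfl }
  all_goals rw [Nat.card_eq_fintype_card, Fintype.card_coe, hd.2]; norm_num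

theorem isSimple_three {p q r : GolayPt} (hpq : p ≠ q) (hpr : p ≠ r) (hqr : q ≠ r) :
    IsSimpleGroup ↥(stabilizer ↥M24 p ⊓ stabilizer ↥M24 q ⊓ stabilizer ↥M24 r) := by
  obtain ⟨t, e1, e2, e3⟩ := exists_map_three (p := none) (q := some 0) (r := some 1) (p' := p)
    (q' := q) (r' := r) (by simp) (by simp) (by decide) hpq hpr hqr
  refine isSimple_congr (conjEquiv t M21 _ fun g => ?_) M21_isSimple
  rw [M21, ← e1, ← e2, ← e3]
  simp only [Subgroup.mem_inf, stab_conj]

theorem two_others : ∀ p q : GolayPt, ∃ a : GolayPt, a ≠ p ∧ a ≠ q := by decide +kernel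

theorem card_others : ∀ p q : GolayPt, p ≠ q →
    (Finset.univ.filter fun x : GolayPt => x ≠ p ∧ x ≠ q).card = 22 := by decide +kernel

theorem M22_isSimple {p q : GolayPt} (hpq : p ≠ q) :
    IsSimpleGroup ↥(stabilizer ↥M24 p ⊓ stabilizer ↥M24 q) := by
  let H := stabilizer ↥M24 p ⊓ stabilizer ↥M24 q
  let act : MulAction ↥H {x // x ≠ p ∧ x ≠ q} :=
    { smul := fun g x => ⟨(g : ↥M24) • x.1,
        fun e => x.2.1 (MulAction.injective (g : ↥M24) (e.trans g.2.1.symm)),
        fun e => x.2.2 (MulAction.injective (g : ↥M24) (e.trans g.2.2.symm))⟩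
      one_smul := fun x => Subtype.ext (one_smul ↥M24 x.1)
      mul_smul := fun g h x => Subtype.ext (mul_smul (g : ↥M24) (h : ↥M24) x.1) }
  letI := act
  haveI : FaithfulSMul ↥H {x // x ≠ p ∧ x ≠ q} := ⟨fun {g h} e => stab_point_faithful H fun x => by
    by_cases hx : x ≠ p ∧ x ≠ q
    · exact congrArg Subtype.val (e ⟨x, hx⟩)
    · rw [not_and_or, not_ne_iff, not_ne_iff] at hx
      rcases hx with rfl | rfl
      · exact g.2.1.trans h.2.1.symm
      · exact g.2.2.trans h.2.2.symm⟩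
  have h2 : IsMultiplyPretransitive ↥H {x // x ≠ p ∧ x ≠ q} 2 := by
    rw [is_two_pretransitive_iff]
    intro a b c e hab hce
    obtain ⟨g, hg⟩ := exists_map_list (xs := [p, q, a.1, b.1]) (ys := [p, q, c.1, e.1])
      (by simp [hpq, a.2.1.symm, b.2.1.symm, a.2.2.symm, b.2.2.symm, Subtype.coe_ne_coe.2 hab])
      (by simp [hpq, c.2.1.symm, e.2.1.symm, c.2.2.symm, e.2.2.symm, Subtype.coe_ne_coe.2 hce]) rfl (by simp)
    simp only [List.map_cons, List.map_nil, List.cons.injEq, and_true] at hg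
    exact ⟨⟨g, hg.1, hg.2.1⟩, Subtype.ext hg.2.2.1, Subtype.ext hg.2.2.2⟩
  obtain ⟨a, ha⟩ : ∃ a : GolayPt, a ≠ p ∧ a ≠ q := two_others p q
  refine Simplicity.isSimpleGroup_of_stabilizer h2 ⟨a, ha⟩ ?_ Nat.prime_two
    (by norm_num : Nat.Prime 11) (by norm_num) ?_ ?_
  · refine isSimple_congr (MulEquiv.symm ?_) (isSimple_three hpq ha.1.symm ha.2.symm)
    exact { toFun := fun g => ⟨g.1.1, g.1.2, congrArg Subtype.val g.2⟩
            invFun := fun g => ⟨⟨g.1, g.2.1⟩, Subtype.ext g.2.2⟩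
            left_inv := fun _ => rfl
            right_inv := fun _ => rfl
            map_mul' := fun _ _ => rfl }
  all_goals
    rw [Nat.card_eq_fintype_card, Fintype.card_subtype,
      show (Finset.univ.filter fun x : GolayPt => x ≠ p ∧ x ≠ q).card = 22 from
        card_others p q hpq]
    norm_num

end CfsgLib.Sporadic
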