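import Cfsg.Agent.Lib.Sporadic.OrbitCoThreeEightData

/-!
# Certificate of one orbit, generated by a search
-/

set_option autoImplicit false
set_option maxRecDepth 100000
set_option Elab.async false

namespace CfsgLib.Sporadic.Conway

theorem coThreeEightPart11_desc : OTree.descends coThreeEightGens 27729856879992518157740382617 coThreeEightTree coThreeEightPart11 = true := by
  decide +kernel

theorem coThreeEightPart12_desc : OTree.descends coThreeEightGens 27729856879992518157740382617 coThreeEightTree coThreeEightPart12 = true := by
  decide +kernel

theorem coThreeEightPart13_desc : OTree.descends coThreeEightGens 27729856879992518157740382617 coThreeEightTree coThreeEightPart13 = true := by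
  decide +kernel

theorem coThreeEightPart14_desc : OTree.descends coThreeEightGens 27729856879992518157740382617 coThreeEightTree coThreeEightPart14 = true := by
  decide +kernel

theorem coThreeEightPart15_desc : OTree.descends coThreeEightGens 27729856879992518157740382617 coThreeEightTree coThreeEightPart15 = true := by
  decide +kernel

theorem coThreeEightPart16_desc : OTree.descends coThreeEightGens 27729856879992518157740382617 coThreeEightTree coThreeEightPart16 = true := by
  decide +kernel

theorem coThreeEightPart17_desc : OTree.descends coThreeEightGens 27729856879992518157740382617 coThreeEightTree coThreeEightPart17 = true := by
  decide +kernel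

theorem coThreeEightPart18_desc : OTree.descends coThreeEightGens 27729856879992518157740382617 coThreeEightTree coThreeEightPart18 = true := by
  decide +kernel

theorem coThreeEightPart19_desc : OTree.descends coThreeEightGens 27729856879992518157740382617 coThreeEightTree coThreeEightPart19 = true := by
  decide +kernel

theorem coThreeEightPart20_desc : OTree.descends coThreeEightGens 27729856879992518157740382617 coThreeEightTree coThreeEightPart20 = true := by
  decide +kernel

theorem coThreeEightPart21_desc : OTree.descends coThreeEightGens 27729856879992518157740382617 coThreeEightTree coThreeEightPart21 = true := by
  decide +kernel

end CfsgLib.Sporadic.Conway
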