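import Cfsg.Agent.Lib.Sporadic.OrbitCoThreeEightData

/-!
# Certificate of one orbit, generated by a search
-/

set_option autoImplicit false
set_option maxRecDepth 100000
set_option Elab.async false

namespace CfsgLib.Sporadic.Conway

theorem coThreeEightPart110_desc : OTree.descends coThreeEightGens 27729856879992518157740382617 coThreeEightTree coThreeEightPart110 = true := by
  decide +kernel

theorem coThreeEightPart111_desc : OTree.descends coThreeEightGens 27729856879992518157740382617 coThreeEightTree coThreeEightPart111 = true := by
  decide +kernel

theorem coThreeEightPart112_desc : OTree.descends coThreeEightGens 27729856879992518157740382617 coThreeEightTree coThreeEightPart112 = true := by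
  decide +kernel

theorem coThreeEightPart113_desc : OTree.descends coThreeEightGens 27729856879992518157740382617 coThreeEightTree coThreeEightPart113 = true := by
  decide +kernel

theorem coThreeEightPart114_desc : OTree.descends coThreeEightGens 27729856879992518157740382617 coThreeEightTree coThreeEightPart114 = true := by
  decide +kernel

theorem coThreeEightPart115_desc : OTree.descends coThreeEightGens 27729856879992518157740382617 coThreeEightTree coThreeEightPart115 = true := by
  decide +kernel

theorem coThreeEightPart116_desc : OTree.descends coThreeEightGens 27729856879992518157740382617 coThreeEightTree coThreeEightPart116 = true := by
  decide +kernel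

theorem coThreeEightPart117_desc : OTree.descends coThreeEightGens 27729856879992518157740382617 coThreeEightTree coThreeEightPart117 = true := by
  decide +kernel

theorem coThreeEightPart118_desc : OTree.descends coThreeEightGens 27729856879992518157740382617 coThreeEightTree coThreeEightPart118 = true := by
  decide +kernel

theorem coThreeEightPart119_desc : OTree.descends coThreeEightGens 27729856879992518157740382617 coThreeEightTree coThreeEightPart119 = true := by
  decide +kernel

theorem coThreeEightPart120_desc : OTree.descends coThreeEightGens 27729856879992518157740382617 coThreeEightTree coThreeEightPart120 = true := by
  decide +kernel

end CfsgLib.Sporadic.Conway
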