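import Cfsg.Agent.Lib.Sporadic.OrbitCoThreeEightData

/-!
# Certificate of one orbit, generated by a search
-/

set_option autoImplicit false
set_option maxRecDepth 100000
set_option Elab.async false

namespace CfsgLib.Sporadic.Conway

theorem coThreeEightPart22_desc : OTree.descends coThreeEightGens 27729856879992518157740382617 coThreeEightTree coThreeEightPart22 = true := by
  decide +kernel

theorem coThreeEightPart23_desc : OTree.descends coThreeEightGens 27729856879992518157740382617 coThreeEightTree coThreeEightPart23 = true := by
  decide +kernel

theorem coThreeEightPart24_desc : OTree.descends coThreeEightGens 27729856879992518157740382617 coThreeEightTree coThreeEightPart24 = true := by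
  decide +kernel

theorem coThreeEightPart25_desc : OTree.descends coThreeEightGens 27729856879992518157740382617 coThreeEightTree coThreeEightPart25 = true := by
  decide +kernel

theorem coThreeEightPart26_desc : OTree.descends coThreeEightGens 27729856879992518157740382617 coThreeEightTree coThreeEightPart26 = true := by
  decide +kernel

theorem coThreeEightPart27_desc : OTree.descends coThreeEightGens 27729856879992518157740382617 coThreeEightTree coThreeEightPart27 = true := by
  decide +kernel

theorem coThreeEightPart28_desc : OTree.descends coThreeEightGens 27729856879992518157740382617 coThreeEightTree coThreeEightPart28 = true := by
  decide +kernel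

theorem coThreeEightPart29_desc : OTree.descends coThreeEightGens 27729856879992518157740382617 coThreeEightTree coThreeEightPart29 = true := by
  decide +kernel

theorem coThreeEightPart30_desc : OTree.descends coThreeEightGens 27729856879992518157740382617 coThreeEightTree coThreeEightPart30 = true := by
  decide +kernel

theorem coThreeEightPart31_desc : OTree.descends coThreeEightGens 27729856879992518157740382617 coThreeEightTree coThreeEightPart31 = true := by
  decide +kernel

theorem coThreeEightPart32_desc : OTree.descends coThreeEightGens 27729856879992518157740382617 coThreeEightTree coThreeEightPart32 = true := by
  decide +kernel

end CfsgLib.Sporadic.Conway
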