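import Cfsg.Agent.Lib.Sporadic.OrbitCoThreeEightData

/-!
# Certificate of one orbit, generated by a search
-/

set_option autoImplicit false
set_option maxRecDepth 100000
set_option Elab.async false

namespace CfsgLib.Sporadic.Conway

theorem coThreeEightPart33_desc : OTree.descends coThreeEightGens 27729856879992518157740382617 coThreeEightTree coThreeEightPart33 = true := by
  decide +kernel

theorem coThreeEightPart34_desc : OTree.descends coThreeEightGens 27729856879992518157740382617 coThreeEightTree coThreeEightPart34 = true := by
  decide +kernel

theorem coThreeEightPart35_desc : OTree.descends coThreeEightGens 27729856879992518157740382617 coThreeEightTree coThreeEightPart35 = true := by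
  decide +kernel

theorem coThreeEightPart36_desc : OTree.descends coThreeEightGens 27729856879992518157740382617 coThreeEightTree coThreeEightPart36 = true := by
  decide +kernel

theorem coThreeEightPart37_desc : OTree.descends coThreeEightGens 27729856879992518157740382617 coThreeEightTree coThreeEightPart37 = true := by
  decide +kernel

theorem coThreeEightPart38_desc : OTree.descends coThreeEightGens 27729856879992518157740382617 coThreeEightTree coThreeEightPart38 = true := by
  decide +kernel

theorem coThreeEightPart39_desc : OTree.descends coThreeEightGens 27729856879992518157740382617 coThreeEightTree coThreeEightPart39 = true := by
  decide +kernel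

theorem coThreeEightPart40_desc : OTree.descends coThreeEightGens 27729856879992518157740382617 coThreeEightTree coThreeEightPart40 = true := by
  decide +kernel

theorem coThreeEightPart41_desc : OTree.descends coThreeEightGens 27729856879992518157740382617 coThreeEightTree coThreeEightPart41 = true := by
  decide +kernel

theorem coThreeEightPart42_desc : OTree.descends coThreeEightGens 27729856879992518157740382617 coThreeEightTree coThreeEightPart42 = true := by
  decide +kernel

theorem coThreeEightPart43_desc : OTree.descends coThreeEightGens 27729856879992518157740382617 coThreeEightTree coThreeEightPart43 = true := by
  decide +kernel

end CfsgLib.Sporadic.Conway
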