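import Cfsg.Agent.Lib.Sporadic.OrbitCoThreeEightData

/-!
# Certificate of one orbit, generated by a search
-/

set_option autoImplicit false
set_option maxRecDepth 100000
set_option Elab.async false

namespace CfsgLib.Sporadic.Conway

theorem coThreeEightPart44_desc : OTree.descends coThreeEightGens 27729856879992518157740382617 coThreeEightTree coThreeEightPart44 = true := by
  decide +kernel

theorem coThreeEightPart45_desc : OTree.descends coThreeEightGens 27729856879992518157740382617 coThreeEightTree coThreeEightPart45 = true := by
  decide +kernel

theorem coThreeEightPart46_desc : OTree.descends coThreeEightGens 27729856879992518157740382617 coThreeEightTree coThreeEightPart46 = true := by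
  decide +kernel

theorem coThreeEightPart47_desc : OTree.descends coThreeEightGens 27729856879992518157740382617 coThreeEightTree coThreeEightPart47 = true := by
  decide +kernel

theorem coThreeEightPart48_desc : OTree.descends coThreeEightGens 27729856879992518157740382617 coThreeEightTree coThreeEightPart48 = true := by
  decide +kernel

theorem coThreeEightPart49_desc : OTree.descends coThreeEightGens 27729856879992518157740382617 coThreeEightTree coThreeEightPart49 = true := by
  decide +kernel

theorem coThreeEightPart50_desc : OTree.descends coThreeEightGens 27729856879992518157740382617 coThreeEightTree coThreeEightPart50 = true := by
  decide +kernel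

theorem coThreeEightPart51_desc : OTree.descends coThreeEightGens 27729856879992518157740382617 coThreeEightTree coThreeEightPart51 = true := by
  decide +kernel

theorem coThreeEightPart52_desc : OTree.descends coThreeEightGens 27729856879992518157740382617 coThreeEightTree coThreeEightPart52 = true := by
  decide +kernel

theorem coThreeEightPart53_desc : OTree.descends coThreeEightGens 27729856879992518157740382617 coThreeEightTree coThreeEightPart53 = true := by
  decide +kernel

theorem coThreeEightPart54_desc : OTree.descends coThreeEightGens 27729856879992518157740382617 coThreeEightTree coThreeEightPart54 = true := by
  decide +kernel

end CfsgLib.Sporadic.Conway
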