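import Cfsg.Agent.Lib.Sporadic.OrbitCoThreeEightData

/-!
# Certificate of one orbit, generated by a search
-/

set_option autoImplicit false
set_option maxRecDepth 100000
set_option Elab.async false

namespace CfsgLib.Sporadic.Conway

theorem coThreeEightPart55_desc : OTree.descends coThreeEightGens 27729856879992518157740382617 coThreeEightTree coThreeEightPart55 = true := by
  decide +kernel

theorem coThreeEightPart56_desc : OTree.descends coThreeEightGens 27729856879992518157740382617 coThreeEightTree coThreeEightPart56 = true := by
  decide +kernel

theorem coThreeEightPart57_desc : OTree.descends coThreeEightGens 27729856879992518157740382617 coThreeEightTree coThreeEightPart57 = true := by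
  decide +kernel

theorem coThreeEightPart58_desc : OTree.descends coThreeEightGens 27729856879992518157740382617 coThreeEightTree coThreeEightPart58 = true := by
  decide +kernel

theorem coThreeEightPart59_desc : OTree.descends coThreeEightGens 27729856879992518157740382617 coThreeEightTree coThreeEightPart59 = true := by
  decide +kernel

theorem coThreeEightPart60_desc : OTree.descends coThreeEightGens 27729856879992518157740382617 coThreeEightTree coThreeEightPart60 = true := by
  decide +kernel

theorem coThreeEightPart61_desc : OTree.descends coThreeEightGens 27729856879992518157740382617 coThreeEightTree coThreeEightPart61 = true := by
  decide +kernel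

theorem coThreeEightPart62_desc : OTree.descends coThreeEightGens 27729856879992518157740382617 coThreeEightTree coThreeEightPart62 = true := by
  decide +kernel

theorem coThreeEightPart63_desc : OTree.descends coThreeEightGens 27729856879992518157740382617 coThreeEightTree coThreeEightPart63 = true := by
  decide +kernel

theorem coThreeEightPart64_desc : OTree.descends coThreeEightGens 27729856879992518157740382617 coThreeEightTree coThreeEightPart64 = true := by
  decide +kernel

theorem coThreeEightPart65_desc : OTree.descends coThreeEightGens 27729856879992518157740382617 coThreeEightTree coThreeEightPart65 = true := by
  decide +kernel

end CfsgLib.Sporadic.Conway
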