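import Cfsg.Agent.Lib.Sporadic.OrbitCoThreeEightData

/-!
# Certificate of one orbit, generated by a search
-/

set_option autoImplicit false
set_option maxRecDepth 100000
set_option Elab.async false

namespace CfsgLib.Sporadic.Conway

theorem coThreeEightPart66_desc : OTree.descends coThreeEightGens 27729856879992518157740382617 coThreeEightTree coThreeEightPart66 = true := by
  decide +kernel

theorem coThreeEightPart67_desc : OTree.descends coThreeEightGens 27729856879992518157740382617 coThreeEightTree coThreeEightPart67 = true := by
  decide +kernel

theorem coThreeEightPart68_desc : OTree.descends coThreeEightGens 27729856879992518157740382617 coThreeEightTree coThreeEightPart68 = true := by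
  decide +kernel

theorem coThreeEightPart69_desc : OTree.descends coThreeEightGens 27729856879992518157740382617 coThreeEightTree coThreeEightPart69 = true := by
  decide +kernel

theorem coThreeEightPart70_desc : OTree.descends coThreeEightGens 27729856879992518157740382617 coThreeEightTree coThreeEightPart70 = true := by
  decide +kernel

theorem coThreeEightPart71_desc : OTree.descends coThreeEightGens 27729856879992518157740382617 coThreeEightTree coThreeEightPart71 = true := by
  decide +kernel

theorem coThreeEightPart72_desc : OTree.descends coThreeEightGens 27729856879992518157740382617 coThreeEightTree coThreeEightPart72 = true := by
  decide +kernel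

theorem coThreeEightPart73_desc : OTree.descends coThreeEightGens 27729856879992518157740382617 coThreeEightTree coThreeEightPart73 = true := by
  decide +kernel

theorem coThreeEightPart74_desc : OTree.descends coThreeEightGens 27729856879992518157740382617 coThreeEightTree coThreeEightPart74 = true := by
  decide +kernel

theorem coThreeEightPart75_desc : OTree.descends coThreeEightGens 27729856879992518157740382617 coThreeEightTree coThreeEightPart75 = true := by
  decide +kernel

theorem coThreeEightPart76_desc : OTree.descends coThreeEightGens 27729856879992518157740382617 coThreeEightTree coThreeEightPart76 = true := by
  decide +kernel

end CfsgLib.Sporadic.Conway
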