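import Cfsg.Agent.Lib.Sporadic.OrbitCoThreeEightData

/-!
# Certificate of one orbit, generated by a search
-/

set_option autoImplicit false
set_option maxRecDepth 100000
set_option Elab.async false

namespace CfsgLib.Sporadic.Conway

theorem coThreeEightPart77_desc : OTree.descends coThreeEightGens 27729856879992518157740382617 coThreeEightTree coThreeEightPart77 = true := by
  decide +kernel

theorem coThreeEightPart78_desc : OTree.descends coThreeEightGens 27729856879992518157740382617 coThreeEightTree coThreeEightPart78 = true := by
  decide +kernel

theorem coThreeEightPart79_desc : OTree.descends coThreeEightGens 27729856879992518157740382617 coThreeEightTree coThreeEightPart79 = true := by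
  decide +kernel

theorem coThreeEightPart80_desc : OTree.descends coThreeEightGens 27729856879992518157740382617 coThreeEightTree coThreeEightPart80 = true := by
  decide +kernel

theorem coThreeEightPart81_desc : OTree.descends coThreeEightGens 27729856879992518157740382617 coThreeEightTree coThreeEightPart81 = true := by
  decide +kernel

theorem coThreeEightPart82_desc : OTree.descends coThreeEightGens 27729856879992518157740382617 coThreeEightTree coThreeEightPart82 = true := by
  decide +kernel

theorem coThreeEightPart83_desc : OTree.descends coThreeEightGens 27729856879992518157740382617 coThreeEightTree coThreeEightPart83 = true := by
  decide +kernel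

theorem coThreeEightPart84_desc : OTree.descends coThreeEightGens 27729856879992518157740382617 coThreeEightTree coThreeEightPart84 = true := by
  decide +kernel

theorem coThreeEightPart85_desc : OTree.descends coThreeEightGens 27729856879992518157740382617 coThreeEightTree coThreeEightPart85 = true := by
  decide +kernel

theorem coThreeEightPart86_desc : OTree.descends coThreeEightGens 27729856879992518157740382617 coThreeEightTree coThreeEightPart86 = true := by
  decide +kernel

theorem coThreeEightPart87_desc : OTree.descends coThreeEightGens 27729856879992518157740382617 coThreeEightTree coThreeEightPart87 = true := by
  decide +kernel

end CfsgLib.Sporadic.Conway
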