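import Cfsg.Agent.Lib.Sporadic.OrbitCoThreeEightData

/-!
# Certificate of one orbit, generated by a search
-/

set_option autoImplicit false
set_option maxRecDepth 100000
set_option Elab.async false

namespace CfsgLib.Sporadic.Conway

theorem coThreeEightPart88_desc : OTree.descends coThreeEightGens 27729856879992518157740382617 coThreeEightTree coThreeEightPart88 = true := by
  decide +kernel

theorem coThreeEightPart89_desc : OTree.descends coThreeEightGens 27729856879992518157740382617 coThreeEightTree coThreeEightPart89 = true := by
  decide +kernel

theorem coThreeEightPart90_desc : OTree.descends coThreeEightGens 27729856879992518157740382617 coThreeEightTree coThreeEightPart90 = true := by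
  decide +kernel

theorem coThreeEightPart91_desc : OTree.descends coThreeEightGens 27729856879992518157740382617 coThreeEightTree coThreeEightPart91 = true := by
  decide +kernel

theorem coThreeEightPart92_desc : OTree.descends coThreeEightGens 27729856879992518157740382617 coThreeEightTree coThreeEightPart92 = true := by
  decide +kernel

theorem coThreeEightPart93_desc : OTree.descends coThreeEightGens 27729856879992518157740382617 coThreeEightTree coThreeEightPart93 = true := by
  decide +kernel

theorem coThreeEightPart94_desc : OTree.descends coThreeEightGens 27729856879992518157740382617 coThreeEightTree coThreeEightPart94 = true := by
  decide +kernel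

theorem coThreeEightPart95_desc : OTree.descends coThreeEightGens 27729856879992518157740382617 coThreeEightTree coThreeEightPart95 = true := by
  decide +kernel

theorem coThreeEightPart96_desc : OTree.descends coThreeEightGens 27729856879992518157740382617 coThreeEightTree coThreeEightPart96 = true := by
  decide +kernel

theorem coThreeEightPart97_desc : OTree.descends coThreeEightGens 27729856879992518157740382617 coThreeEightTree coThreeEightPart97 = true := by
  decide +kernel

theorem coThreeEightPart98_desc : OTree.descends coThreeEightGens 27729856879992518157740382617 coThreeEightTree coThreeEightPart98 = true := by
  decide +kernel

end CfsgLib.Sporadic.Conway
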