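import Cfsg.Agent.Lib.Sporadic.OrbitCoThreeEightData

/-!
# Certificate of one orbit, generated by a search
-/

set_option autoImplicit false
set_option maxRecDepth 100000
set_option Elab.async false

namespace CfsgLib.Sporadic.Conway

theorem coThreeEightPart99_desc : OTree.descends coThreeEightGens 27729856879992518157740382617 coThreeEightTree coThreeEightPart99 = true := by
  decide +kernel

theorem coThreeEightPart100_desc : OTree.descends coThreeEightGens 27729856879992518157740382617 coThreeEightTree coThreeEightPart100 = true := by
  decide +kernel

theorem coThreeEightPart101_desc : OTree.descends coThreeEightGens 27729856879992518157740382617 coThreeEightTree coThreeEightPart101 = true := by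
  decide +kernel

theorem coThreeEightPart102_desc : OTree.descends coThreeEightGens 27729856879992518157740382617 coThreeEightTree coThreeEightPart102 = true := by
  decide +kernel

theorem coThreeEightPart103_desc : OTree.descends coThreeEightGens 27729856879992518157740382617 coThreeEightTree coThreeEightPart103 = true := by
  decide +kernel

theorem coThreeEightPart104_desc : OTree.descends coThreeEightGens 27729856879992518157740382617 coThreeEightTree coThreeEightPart104 = true := by
  decide +kernel

theorem coThreeEightPart105_desc : OTree.descends coThreeEightGens 27729856879992518157740382617 coThreeEightTree coThreeEightPart105 = true := by
  decide +kernel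

theorem coThreeEightPart106_desc : OTree.descends coThreeEightGens 27729856879992518157740382617 coThreeEightTree coThreeEightPart106 = true := by
  decide +kernel

theorem coThreeEightPart107_desc : OTree.descends coThreeEightGens 27729856879992518157740382617 coThreeEightTree coThreeEightPart107 = true := by
  decide +kernel

theorem coThreeEightPart108_desc : OTree.descends coThreeEightGens 27729856879992518157740382617 coThreeEightTree coThreeEightPart108 = true := by
  decide +kernel

theorem coThreeEightPart109_desc : OTree.descends coThreeEightGens 27729856879992518157740382617 coThreeEightTree coThreeEightPart109 = true := by
  decide +kernel

end CfsgLib.Sporadic.Conway
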