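import Cfsg.Agent.Lib.Sporadic.OrbitCoThreeEightCheck0
import Cfsg.Agent.Lib.Sporadic.OrbitCoThreeEightCheck1
import Cfsg.Agent.Lib.Sporadic.OrbitCoThreeEightCheck2
import Cfsg.Agent.Lib.Sporadic.OrbitCoThreeEightCheck3
import Cfsg.Agent.Lib.Sporadic.OrbitCoThreeEightCheck4
import Cfsg.Agent.Lib.Sporadic.OrbitCoThreeEightCheck5
import Cfsg.Agent.Lib.Sporadic.OrbitCoThreeEightCheck6
import Cfsg.Agent.Lib.Sporadic.OrbitCoThreeEightCheck7
import Cfsg.Agent.Lib.Sporadic.OrbitCoThreeEightCheck8
import Cfsg.Agent.Lib.Sporadic.OrbitCoThreeEightCheck9
import Cfsg.Agent.Lib.Sporadic.OrbitCoThreeEightCheck10
import Cfsg.Agent.Lib.Sporadic.OrbitCoThreeEightCheck11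

/-!
# Certificate of one orbit, generated by a search
-/

set_option autoImplicit false
set_option maxRecDepth 100000
set_option Elab.async false

namespace CfsgLib.Sporadic.Conway

theorem coThreeEight_ok : orbitOK coThreeEightGens [67343938137124686954512357785] 27729856879992518157740382617 coThreeEightTree 48600 = true :=
  orbitOK_of (by decide +kernel) (by decide +kernel) (by decide +kernel)
    (descends_node (by decide +kernel) (descends_node (by decide +kernel) (descends_node (by decide +kernel) (descends_node (by decide +kernel) (descends_node (by decide +kernel) (descends_node (by decide +kernel) (descends_node (by decide +kernel) coThreeEightPart0_desc coThreeEightPart1_desc) (descends_node (by decide +kernel) coThreeEightPart2_desc coThreeEightPart3_desc)) (descends_node (by decide +kernel) (descends_node (by decide +kernel) coThreeEightPart4_desc coThreeEightPart5_desc) (descends_node (by decide +kernel) coThreeEightPart6_desc coThreeEightPart7_desc))) (descends_node (by decide +kernel) (descends_node (by decide +kernel) (descends_node (by decide +kernel) coThreeEightPart8_desc coThreeEightPart9_desc) (descends_node (by decide +kernel) coThreeEightPart10_desc coThreeEightPart11_desc)) (descends_node (by decide +kernel) (descends_node (by decide +kernel) coThreeEightPart12_desc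 coThreeEightPart13_desc) (descends_node (by decide +kernel) coThreeEightPart14_desc coThreeEightPart15_desc)))) (descends_node (by decide +kernel) (descends_node (by decide +kernel) (descends_node (by decide +kernel) (descends_node (by decide +kernel) coThreeEightPart16_desc coThreeEightPart17_desc) (descends_node (by decide +kernel) coThreeEightPart18_desc coThreeEightPart19_desc)) (descends_node (by decide +kernel) (descends_node (by decide +kernel) coThreeEightPart20_desc coThreeEightPart21_desc) (descends_node (by decide +kernel) coThreeEightPart22_desc coThreeEightPart23_desc))) (descends_node (by decide +kernel) (descends_node (by decide +kernel) (descends_node (by decide +kernel) coThreeEightPart24_desc coThreeEightPart25_desc) (descends_node (by decide +kernel) coThreeEightPart26_desc coThreeEightPart27_desc)) (descends_node (by decide +kernel) (descends_node (by decide +kernel) coThreeEightPart28_desc coThreeEightPart29_desc) (descends_node (by decide +kernel) coThreeEightPart30_desc coThreeEightPart31_desc))))) (descends_node (by decide +kernel) (descends_node (by decide +kernel) (descends_node (by decide +kernel) (descends_node (by decide +kernel) (descends_node (by decide +kernel) coThreeEightPart32_desc coThreeEightPart33_desc) (descends_node (by decide +kernel)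 coThreeEightPart34_desc coThreeEightPart35_desc)) (descends_node (by decide +kernel) (descends_node (by decide +kernel) coThreeEightPart36_desc coThreeEightPart37_desc) (descends_node (by decide +kernel) coThreeEightPart38_desc coThreeEightPart39_desc))) (descends_node (by decide +kernel) (descends_node (by decide +kernel) (descends_node (by decide +kernel) coThreeEightPart40_desc coThreeEightPart41_desc) (descends_node (by decide +kernel) coThreeEightPart42_desc coThreeEightPart43_desc)) (descends_node (by decide +kernel) (descends_node (by decide +kernel) coThreeEightPart44_desc coThreeEightPart45_desc) (descends_node (by decide +kernel) coThreeEightPart46_desc coThreeEightPart47_desc)))) (descends_node (by decide +kernel) (descends_node (by decide +kernel) (descends_node (by decide +kernel) (descends_node (by decide +kernel) coThreeEightPart48_desc coThreeEightPart49_desc) (descends_node (by decide +kernel) coThreeEightPart50_desc coThreeEightPart51_desc)) (descends_node (by decide +kernel) (descends_node (by decide +kernel) coThreeEightPart52_desc coThreeEightPart53_desc) (descends_node (by decide +kernel) coThreeEightPart54_desc coThreeEightPart55_desc))) (descends_node (by decide +kernel) (descends_node (by decide +kernel) (descends_node (by decide +kernel) coThreeEightPart56_desc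 coThreeEightPart57_desc) (descends_node (by decide +kernel) coThreeEightPart58_desc coThreeEightPart59_desc)) (descends_node (by decide +kernel) (descends_node (by decide +kernel) coThreeEightPart60_desc coThreeEightPart61_desc) (descends_node (by decide +kernel) coThreeEightPart62_desc coThreeEightPart63_desc)))))) (descends_node (by decide +kernel) (descends_node (by decide +kernel) (descends_node (by decide +kernel) (descends_node (by decide +kernel) (descends_node (by decide +kernel) (descends_node (by decide +kernel) coThreeEightPart64_desc coThreeEightPart65_desc) (descends_node (by decide +kernel) coThreeEightPart66_desc coThreeEightPart67_desc)) (descends_node (by decide +kernel) (descends_node (by decide +kernel) coThreeEightPart68_desc coThreeEightPart69_desc) (descends_node (by decide +kernel) coThreeEightPart70_desc coThreeEightPart71_desc))) (descends_node (by decide +kernel) (descends_node (by decide +kernel) (descends_node (by decide +kernel) coThreeEightPart72_desc coThreeEightPart73_desc) (descends_node (by decide +kernel) coThreeEightPart74_desc coThreeEightPart75_desc)) (descends_node (by decide +kernel) (descends_node (by decide +kernel) coThreeEightPart76_desc coThreeEightPart77_desc) (descends_node (by decide +kernel) coThreeEightPart78_desc coThreeEightPart79_desc))))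 (descends_node (by decide +kernel) (descends_node (by decide +kernel) (descends_node (by decide +kernel) (descends_node (by decide +kernel) coThreeEightPart80_desc coThreeEightPart81_desc) (descends_node (by decide +kernel) coThreeEightPart82_desc coThreeEightPart83_desc)) (descends_node (by decide +kernel) (descends_node (by decide +kernel) coThreeEightPart84_desc coThreeEightPart85_desc) (descends_node (by decide +kernel) coThreeEightPart86_desc coThreeEightPart87_desc))) (descends_node (by decide +kernel) (descends_node (by decide +kernel) (descends_node (by decide +kernel) coThreeEightPart88_desc coThreeEightPart89_desc) (descends_node (by decide +kernel) coThreeEightPart90_desc coThreeEightPart91_desc)) (descends_node (by decide +kernel) (descends_node (by decide +kernel) coThreeEightPart92_desc coThreeEightPart93_desc) (descends_node (by decide +kernel) coThreeEightPart94_desc coThreeEightPart95_desc))))) (descends_node (by decide +kernel) (descends_node (by decide +kernel) (descends_node (by decide +kernel) (descends_node (by decide +kernel) (descends_node (by decide +kernel) coThreeEightPart96_desc coThreeEightPart97_desc) (descends_node (by decide +kernel) coThreeEightPart98_desc coThreeEightPart99_desc)) (descends_node (by decide +kernel) (descends_node (by decide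 +kernel) coThreeEightPart100_desc coThreeEightPart101_desc) (descends_node (by decide +kernel) coThreeEightPart102_desc coThreeEightPart103_desc))) (descends_node (by decide +kernel) (descends_node (by decide +kernel) (descends_node (by decide +kernel) coThreeEightPart104_desc coThreeEightPart105_desc) (descends_node (by decide +kernel) coThreeEightPart106_desc coThreeEightPart107_desc)) (descends_node (by decide +kernel) (descends_node (by decide +kernel) coThreeEightPart108_desc coThreeEightPart109_desc) (descends_node (by decide +kernel) coThreeEightPart110_desc coThreeEightPart111_desc)))) (descends_node (by decide +kernel) (descends_node (by decide +kernel) (descends_node (by decide +kernel) (descends_node (by decide +kernel) coThreeEightPart112_desc coThreeEightPart113_desc) (descends_node (by decide +kernel) coThreeEightPart114_desc coThreeEightPart115_desc)) (descends_node (by decide +kernel) (descends_node (by decide +kernel) coThreeEightPart116_desc coThreeEightPart117_desc) (descends_node (by decide +kernel) coThreeEightPart118_desc coThreeEightPart119_desc))) (descends_node (by decide +kernel) (descends_node (by decide +kernel) (descends_node (by decide +kernel) coThreeEightPart120_desc coThreeEightPart121_desc) (descends_node (by decide +kernel) coThreeEightPart122_desc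 coThreeEightPart123_desc)) (descends_node (by decide +kernel) (descends_node (by decide +kernel) coThreeEightPart124_desc coThreeEightPart125_desc) (descends_node (by decide +kernel) coThreeEightPart126_desc coThreeEightPart127_desc)))))))

end CfsgLib.Sporadic.Conway
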