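import Cfsg.Agent.Lib.Sporadic.ConwaySmallStab
import Cfsg.Agent.Lib.Sporadic.OrbitHsHundred
import Cfsg.Agent.Lib.Sporadic.OrbitCoThreeEight
import Cfsg.Agent.Lib.Sporadic.OrbitCoThreeSubP16
import Cfsg.Agent.Lib.Sporadic.OrbitCoThreeSubP8

/-!
# The stabilisers of small configurations are simple

Each point stabiliser is a simple Mathieu group, so a normal subgroup either contains it, and then is
everything, or acts semiregularly; block sizes built from the suborbits exclude the second case.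
-/

set_option autoImplicit false

namespace CfsgLib.Sporadic.Conway

open Cfsg Finset CfsgLib.ThreeTrans.Leech CfsgLib.Sporadic.Lattice MulAction

attribute [local irreducible] OTree.entries hsHundredTree mclTwentyTree mclPointsTree coThreeSplitsTree
  coThreeEightTree

set_option maxHeartbeats 1000000

variable {N : Subgroup ↥Co0} {f : List ↥leechLattice} {r : ↥leechLattice}

theorem trans_mem {f' : List ↥leechLattice} {S : Set ↥leechLattice} (h : Trans f S)
    (hsub : ∀ v ∈ f', v ∈ f) : Trans f' S := fun x hx y hy => by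
  obtain ⟨g, hg, hgf⟩ := h x hx y hy
  exact ⟨g, hg, fun v hv => hgf v (hsub v hv)⟩

theorem inter_cases (h : NormIn N f) (hs : IsSimpleGroup ↥(fixGroup (r :: f))) :
    Nat.card ↥N = (MulAction.orbit ↥N r).ncard ∧ N ⊓ MulAction.stabilizer ↥Co0 r = ⊥ ∨
      fixGroup (r :: f) ≤ N := by
  have hn : (N.subgroupOf (fixGroup (r :: f))).Normal := ⟨fun n hn g => by
    rw [Subgroup.mem_subgroupOf] at hn ⊢
    exact h.conj g.1 (mem_fixGroup.2 fun v hv => mem_fixGroup.1 g.2 v (List.mem_cons_of_mem _ hv)) _ hn⟩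
  haveI := hs
  rcases hn.eq_bot_or_eq_top with e | e
  · left
    have e' : N ⊓ MulAction.stabilizer ↥Co0 r = ⊥ := by
      refine (Subgroup.eq_bot_iff_forall _).2 fun g ⟨hg, hgr⟩ => ?_
      have hgK : g ∈ fixGroup (r :: f) := by
        rw [fixGroup_cons]; exact ⟨h.le hg, hgr⟩
      have h' : (⟨g, hgK⟩ : ↥(fixGroup (r :: f))) ∈ N.subgroupOf (fixGroup (r :: f)) := hg
      rw [e, Subgroup.mem_bot] at h'
      exact congrArg Subtype.val h'
    refine ⟨?_, e'⟩
    rw [card_eq_orbit N r, e', Subgroup.card_bot, mul_one]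
  · exact Or.inr (Subgroup.subgroupOf_eq_top.1 e)

theorem orbit_le_card (N : Subgroup ↥Co0) (x : ↥leechLattice) :
    (MulAction.orbit ↥N x).ncard ∣ Nat.card ↥N := ⟨_, card_eq_orbit N x⟩

theorem fix_of_orbit_one (h : NormIn N f) {ks : List (↥leechLattice × ℤ)}
    (hr : r ∈ DS ks) (ht : Trans f (DS ks)) (h1 : (MulAction.orbit ↥N r).ncard = 1) {x : ↥leechLattice}
    (hx : x ∈ DS ks) {g : ↥Co0} (hg : g ∈ N) : g • x = x := by
  have hsz := orbit_size h ht hr hx
  rw [h1, Set.ncard_eq_one] at hsz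
  obtain ⟨a, ha⟩ := hsz
  have h1 : g • x ∈ MulAction.orbit ↥N x := ⟨⟨g, hg⟩, rfl⟩
  have h2 : x ∈ MulAction.orbit ↥N x := MulAction.mem_orbit_self x
  rw [ha] at h1 h2
  exact h1.trans h2.symm

theorem keys_of {ks : List (↥leechLattice × ℤ)} {T : OTree}
    (hkeys : ∀ x ∈ DS ks, ∃ e ∈ T.entries, (x : Vec) = pv e.1) (hks : ∀ p ∈ ks, p.1 ∈ f) (hr : r ∈ DS ks) :
    ∀ g ∈ fixGroup f, ∃ e ∈ T.entries, ((g • r : ↥leechLattice) : Vec) = pv e.1 :=
  fun g hg => hkeys _ (smul_mem_DS (fun p hp => mem_fixGroup.1 hg p.1 (hks p hp)) hr)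

theorem exists_some_eq {x y : Option ℕ} (h : x = y ∧ x.isSome = true) : ∃ p, x = some p ∧ y = some p := by
  obtain ⟨p, hp⟩ := Option.isSome_iff_exists.1 h.2
  exact ⟨p, hp, h.1 ▸ hp⟩

/-! ### the stabiliser of the pair of vectors of squared length 48 -/

theorem hsPt_mem : hsPt ∈ DS [(fiveElt, (24 : ℤ)), (hsElt, -24)] :=
  ⟨by decide +kernel, by simp only [List.forall_mem_cons]; exact ⟨by decide +kernel, by decide +kernel, by simp⟩⟩

theorem hs_orbit (h : NormIn N [fiveElt, hsElt]) :
    (MulAction.orbit ↥N hsPt).ncard = 1 ∨ (MulAction.orbit ↥N hsPt).ncard = 100 := by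
  have hfin := DS_finite (ks := [(fiveElt, (24 : ℤ)), (hsElt, -24)]) List.mem_cons_self
  obtain ⟨K, hK, e⟩ := orbit_sum h (by simp) hfin hsPt_mem {8, 16} (by decide)
    (fun k => if k = 8 then 22 else 77)
    (fun x hx => by
      rcases ds_values hundred_set.2.2 (r := hsPt) (root := 62062060636173731114942761100) rfl [8, 16]
        (by decide +kernel) hx with h' | h'
      · exact Or.inl h'
      · right; simpa using h')
    (fun k hk => by
      simp only [Finset.mem_insert, Finset.mem_singleton] at hk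
      rcases hk with rfl | rfl
      · exact ⟨hs_sub8.1, trans_mem hs_sub8.2.1 (by simp)⟩
      · exact ⟨hs_sub16.1, trans_mem hs_sub16.2.1 (by simp)⟩)
  have hdvd := orbit_dvd h (by simp) hfin hundred_set.2.1 hsPt_mem
  rw [hundred_set.1, e] at hdvd
  rw [e]
  have key : ∀ K ∈ ({8, 16} : Finset ℤ).powerset, 1 + ∑ k ∈ K, (if k = 8 then 22 else 77) ∣ 100 →
      1 + ∑ k ∈ K, (if k = 8 then 22 else 77) = 1 ∨ 1 + ∑ k ∈ K, (if k = 8 then 22 else 77) = 100 := by
    decide
  exact key K hK hdvd

theorem hs_normIn (h : NormIn N [fiveElt, hsElt]) : N = ⊥ ∨ N = fixGroup [fiveElt, hsElt] := by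
  rcases inter_cases h (r := hsPt) simple_hsPt with ⟨hc, hbot⟩ | hle
  swap
  · right
    obtain ⟨p, e1, e2⟩ := exists_some_eq (x := evalSeq hsHundredGens [2, 2] 62062060636173731114942761100)
      (y := evalSeq hsHundredGens [2, 1, 0] 62062060636173731114942761100) (by decide +kernel)
    exact top_of_cert hsHundred_ok h rfl (r := hsPt) rfl (keys_of hundred_set.2.2 (by simp) hsPt_mem) hle 2 rfl
      (by decide +kernel) [2, 2] [2, 1, 0] 1 (by decide) (by decide) (by decide) e1 e2
  left
  rcases hs_orbit h with h1 | h100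
  · exact Subgroup.eq_bot_of_card_eq _ (hc.trans h1)
  exfalso
  rw [h100] at hc
  haveI : Finite ↥N := Nat.finite_of_card_ne_zero (by omega)
  haveI : Fact (Nat.Prime 5) := ⟨by norm_num⟩
  let S : Sylow 5 ↥N := default
  obtain ⟨k, hk⟩ := IsPGroup.iff_card.1 S.2
  have hidx := Subgroup.card_mul_index (S : Subgroup ↥N)
  rw [hc, hk] at hidx
  have hnd := S.not_dvd_index
  have hk2 : k = 2 := by
    have hle : k ≤ 2 := by
      by_contra hlt
      have : 125 ∣ 100 := dvd_trans (pow_dvd_pow 5 (by omega : 3 ≤ k)) ⟨_, hidx.symm⟩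
      omega
    interval_cases k <;> simp at hidx <;> omega
  subst hk2
  have hone : Nat.card (Sylow 5 ↥N) = 1 := by
    have h4 : Nat.card (Sylow 5 ↥N) ∣ 4 := by
      have := S.card_dvd_index
      rwa [show (S : Subgroup ↥N).index = 4 by omega] at this
    have h5 := card_sylow_modEq_one 5 ↥N
    have := Nat.le_of_dvd (by norm_num) h4
    rw [Nat.ModEq] at h5
    omega
  obtain ⟨hsub, -⟩ := Nat.card_eq_one_iff_unique.1 hone
  let X : Set ↥Co0 := {x | x ∈ N ∧ x ^ 25 = 1}
  have hP : NormIn (Subgroup.closure X) [fiveElt, hsElt] := by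
    refine ⟨(Subgroup.closure_le _).2 fun x hx => h.le hx.1, fun g hg x hx => ?_⟩
    have : Subgroup.closure X ≤ (Subgroup.closure X).comap (MulAut.conj g).toMonoidHom :=
      (Subgroup.closure_le _).2 fun y hy => Subgroup.subset_closure ⟨h.conj g hg y hy.1, by
        show (g * y * g⁻¹) ^ 25 = 1
        rw [conj_pow, hy.2, mul_one, mul_inv_cancel]⟩
    exact this hx
  have hPle : Subgroup.closure X ≤ (S : Subgroup ↥N).map N.subtype := by
    refine (Subgroup.closure_le _).2 fun x hx => ⟨⟨x, hx.1⟩, ?_, rfl⟩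
    have hx' : (⟨x, hx.1⟩ : ↥N) ^ 25 = 1 := Subtype.ext hx.2
    obtain ⟨j, -, hj⟩ := (Nat.dvd_prime_pow (by norm_num : Nat.Prime 5)).1
      (show orderOf (⟨x, hx.1⟩ : ↥N) ∣ 5 ^ 2 from orderOf_dvd_of_pow_eq_one hx')
    obtain ⟨Q, hQ⟩ := (IsPGroup.of_card (p := 5) (n := j)
      (show Nat.card ↥(Subgroup.zpowers (⟨x, hx.1⟩ : ↥N)) = 5 ^ j by rw [Nat.card_zpowers, hj])).exists_le_sylow
    rw [Subsingleton.elim S Q]
    exact hQ (Subgroup.mem_zpowers _)
  have hd25 : Nat.card ↥(Subgroup.closure X) ∣ 25 := by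
    refine (Subgroup.card_dvd_of_le hPle).trans ?_
    rw [Subgroup.card_map_of_injective N.subtype_injective, hk]
    norm_num
  have hPN : Subgroup.closure X ≤ N := (Subgroup.closure_le _).2 fun x hx => hx.1
  have hPc : Nat.card ↥(Subgroup.closure X) = (MulAction.orbit ↥(Subgroup.closure X) hsPt).ncard := by
    have : Subgroup.closure X ⊓ MulAction.stabilizer ↥Co0 hsPt = ⊥ :=
      le_bot_iff.1 (hbot ▸ inf_le_inf_right _ hPN)
    conv_lhs => rw [card_eq_orbit (Subgroup.closure X) hsPt, this, Subgroup.card_bot, mul_one]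
  have hne : Nat.card ↥(Subgroup.closure X) ≠ 1 := by
    obtain ⟨y, hy⟩ := exists_prime_orderOf_dvd_card' (G := ↥N) 5 (by rw [hc]; norm_num)
    intro h1
    have hy5 : (y : ↥Co0) ^ 25 = 1 := by
      have : y ^ 5 = 1 := hy ▸ pow_orderOf_eq_one y
      rw [← SubmonoidClass.coe_pow, show y ^ 25 = (y ^ 5) ^ 5 by rw [← pow_mul], this, one_pow]
      rfl
    have hmem : (y : ↥Co0) ∈ Subgroup.closure X := Subgroup.subset_closure ⟨y.2, hy5⟩
    rw [Subgroup.eq_bot_of_card_eq _ h1, Subgroup.mem_bot] at hmem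
    rw [show y = 1 from Subtype.ext hmem, orderOf_one] at hy
    omega
  rcases hs_orbit hP with h1 | h1
  · exact hne (hPc.trans h1)
  · rw [hPc, h1] at hd25
    omega

theorem simple_hs : IsSimpleGroup ↥(fixGroup [fiveElt, hsElt]) :=
  simple_of_normIn (by rw [card_fix_hs]; norm_num) fun M hM => hs_normIn hM

/-! ### the stabiliser of a pair of minimal vectors -/

/-- Twenty-two points whose sum pins down a further vector. -/
def twentyTwo : List ℕ :=
  [62062060636173731114942761160, 62062060636173731114942762120, 62062060636173731114942777480,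
    62062060636173731114943023240, 62062060636173731114946955400, 62062060636173731115009869960,
    62062060636173731116016502920, 62062060636173731132122630280, 62062060636173731389820668040,
    62062060636173735512989272200, 62062060636173801483686938760, 62062060636174857014849603720,
    62062060636191745513452243080, 62062060636461961491094472840, 62062060640785417133370149000,
    62062060709960707409780967560, 62062061816765351832354064520, 62062079525639662593523615880,
    62062362867628634772236437640, 62066896339452189631641585800, 62139431888629067382123956360,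
    63300000675459111389841885320]

theorem twentyTwo_spec : (∀ V ∈ twentyTwo, LTest (pv V) ∧ sqNorm (pv V) = 32 ∧ dotInt (pv kFive) (pv V) = 24 ∧
      dotInt (pv kPair) (pv V) = 16) ∧
    (9 : ℕ) • pv 62062060636173731114942761092 + (4 : ℕ) • pv kFive + (8 : ℕ) • pv kPair =
      (twentyTwo.map pv).sum := by
  decide +kernel

theorem mclPt_mem : mclPt ∈ DS [(fiveElt, (24 : ℤ)), (pairElt, 16)] :=
  ⟨by decide +kernel, by simp only [List.forall_mem_cons]; exact ⟨by decide +kernel, by decide +kernel, by simp⟩⟩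

theorem twentyPt_mem : twentyPt ∈ DS [(fiveElt, (16 : ℤ)), (pairElt, 0)] :=
  ⟨by decide +kernel, by simp only [List.forall_mem_cons]; exact ⟨by decide +kernel, by decide +kernel, by simp⟩⟩

theorem nsmul_lattice_inj {n : ℕ} (hn : n ≠ 0) {x y : ↥leechLattice} (h : n • x = n • y) : x = y := by
  refine Subtype.ext (funext fun i => ?_)
  have := congrArg (fun v : ↥leechLattice => (v : Vec) i) h
  simpa [hn] using this

theorem mcl_normIn (h : NormIn N [fiveElt, pairElt]) : N = ⊥ ∨ N = fixGroup [fiveElt, pairElt] := by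
  rcases inter_cases h (r := twentyPt) simple_twentyPt with ⟨hc, hbot⟩ | hle
  swap
  · right
    obtain ⟨p, e1, e2⟩ := exists_some_eq (x := evalSeq mclTwentyGens [2, 2] 62062060636173731114942761092)
      (y := evalSeq mclTwentyGens [2, 1, 1, 1, 0, 0, 1, 1, 1, 1] 62062060636173731114942761092) (by decide +kernel)
    exact top_of_cert mclTwenty_ok h rfl (r := twentyPt) rfl (keys_of twenty_set.2.2 (by simp) twentyPt_mem) hle 2 rfl
      (by decide +kernel) [2, 2] [2, 1, 1, 1, 0, 0, 1, 1, 1, 1] 1 (by decide) (by decide) (by decide) e1 e2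
  left
  have hfin := DS_finite (ks := [(fiveElt, (24 : ℤ)), (pairElt, 16)]) List.mem_cons_self
  obtain ⟨K, hK, e⟩ := orbit_sum h (by simp) hfin mclPt_mem {8, 16} (by decide)
    (fun k => if k = 8 then 112 else 162)
    (fun x hx => by
      rcases ds_values mcl_set.2.2 (r := mclPt) (root := 62062060636173731114942761160) rfl [8, 16]
        (by decide +kernel) hx with h' | h'
      · exact Or.inl h'
      · right; simpa using h')
    (fun k hk => by
      simp only [Finset.mem_insert, Finset.mem_singleton] at hk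
      rcases hk with rfl | rfl
      · exact ⟨mcl_sub8.1, trans_mem mcl_sub8.2.1 (by simp)⟩
      · exact ⟨mcl_sub16.1, trans_mem mcl_sub16.2.1 (by simp)⟩)
  have hdvd := orbit_dvd h (by simp) hfin mcl_set.2.1 mclPt_mem
  rw [mcl_set.1, e] at hdvd
  have key : ∀ K ∈ ({8, 16} : Finset ℤ).powerset, 1 + ∑ k ∈ K, (if k = 8 then 112 else 162) ∣ 275 →
      1 + ∑ k ∈ K, (if k = 8 then 112 else 162) = 1 ∨ 1 + ∑ k ∈ K, (if k = 8 then 112 else 162) = 275 := by
    decide
  rcases key K hK hdvd with h1 | h275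
  swap
  · exfalso
    have d1 := orbit_le_card N mclPt
    have d2 := orbit_dvd h (ks := [(fiveElt, (16 : ℤ)), (pairElt, 0)]) (by simp) (DS_finite List.mem_cons_self)
      twenty_set.2.1 twentyPt_mem
    rw [twenty_set.1, ← hc] at d2
    rw [e, h275] at d1
    exact absurd (d1.trans d2) (by norm_num)
  refine (Subgroup.eq_bot_iff_forall _).2 fun g hg => ?_
  rw [← e] at h1
  let F : AddSubgroup Vec := ((linOf g).eqLocus (AddMonoidHom.id _)).map leechLattice.subtype
  have hF : (twentyTwo.map pv).sum ∈ F := by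
    refine list_sum_mem fun x hx => ?_
    obtain ⟨V, hV, rfl⟩ := List.mem_map.1 hx
    obtain ⟨hL, hn, hd1, hd2⟩ := twentyTwo_spec.1 V hV
    have hm : (⟨pv V, pv_mem hL⟩ : ↥leechLattice) ∈ DS [(fiveElt, (24 : ℤ)), (pairElt, 16)] :=
      ⟨hn, by simp only [List.forall_mem_cons]; exact ⟨hd1, hd2, by simp⟩⟩
    exact ⟨_, fix_of_orbit_one h mclPt_mem mcl_set.2.1 h1 hm hg, rfl⟩
  obtain ⟨s, hs, hs'⟩ := hF
  have hs'' : g • s = s := hs
  have hz : s = (9 : ℕ) • twentyPt + (4 : ℕ) • fiveElt + (8 : ℕ) • pairElt := Subtype.ext (by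
    rw [show (s : Vec) = (twentyTwo.map pv).sum from hs', ← twentyTwo_spec.2]; rfl)
  have hgf := mem_fixGroup.1 (h.le hg)
  have he : g • ((9 : ℕ) • twentyPt + (4 : ℕ) • fiveElt + (8 : ℕ) • pairElt) =
      (9 : ℕ) • (g • twentyPt) + (4 : ℕ) • fiveElt + (8 : ℕ) • pairElt := by
    show linOf g _ = _
    rw [map_add, map_add, map_nsmul, map_nsmul, map_nsmul]
    show _ + (4 : ℕ) • (g • fiveElt) + (8 : ℕ) • (g • pairElt) = _
    rw [hgf fiveElt (by simp), hgf pairElt (by simp)]
    rfl
  rw [← hz, hs'', hz, add_left_inj, add_left_inj] at he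
  have hmem : g ∈ N ⊓ MulAction.stabilizer ↥Co0 twentyPt := ⟨hg, (nsmul_lattice_inj (by norm_num) he).symm⟩
  rwa [hbot, Subgroup.mem_bot] at hmem

theorem simple_mcl : IsSimpleGroup ↥(fixGroup [fiveElt, pairElt]) :=
  simple_of_normIn (by rw [card_fix_mcl]; norm_num) fun M hM => mcl_normIn hM

/-! ### the stabiliser of a vector of squared length 48 -/

theorem omega_mem : omegaElt ∈ DS [(fiveElt, (8 : ℤ))] :=
  ⟨by decide +kernel, by simp only [List.forall_mem_cons]; exact ⟨by decide +kernel, by simp⟩⟩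

theorem eight_set : (DS [(fiveElt, (8 : ℤ))]).ncard = 48600 ∧ Trans [fiveElt] (DS [(fiveElt, (8 : ℤ))]) ∧
    ∀ x ∈ DS [(fiveElt, (8 : ℤ))], ∃ e ∈ coThreeEightTree.entries, (x : Vec) = pv e.1 :=
  ds_cert coThreeEight_ok [fiveElt] rfl _ (by simp) omegaElt rfl omega_mem (DS_finite List.mem_cons_self)
    (by rw [DS_one, (census48_dots (mem_shell.2 ⟨fiveElt.2, fiveElt_norm⟩)).2])

theorem splitPt_mem : splitPt ∈ DS [(fiveElt, (24 : ℤ))] :=
  ⟨by decide +kernel, by simp only [List.forall_mem_cons]; exact ⟨by decide +kernel, by simp⟩⟩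

/-- A suborbit among the 552. -/
theorem split_sub {gens : List (List (ℕ × ℕ))} {root : ℕ} {T : OTree} {n : ℕ}
    (h : orbitOK gens [kFive, kPair] root T n = true) (k : ℤ)
    (hcount : (coThreeSplitsTree.entries.filter fun e =>
      [(kPair, k)].all fun q => decide (dotInt (pv q.1) (pv e.1) = q.2)).length = n)
    (hL : LTest (pv root)) (hroot : sqNorm (pv root) = 32 ∧ dotInt (pv kFive) (pv root) = 24 ∧
      dotInt (pv kPair) (pv root) = k) :
    (DS [(fiveElt, 24), (splitPt, k)]).ncard = n ∧ Trans [fiveElt, splitPt] (DS [(fiveElt, 24), (splitPt, k)]) := by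
  obtain ⟨h1, h2⟩ := ds_bound (ls := [(fiveElt, 24), (splitPt, k)]) split_set.2.2 (by simp) [(kPair, k)]
    (by simp [splitPt, elt, kPair]) hcount
  have hmem : (⟨pv root, pv_mem hL⟩ : ↥leechLattice) ∈ DS [(fiveElt, 24), (splitPt, k)] :=
    ⟨hroot.1, by simp only [List.forall_mem_cons]; exact ⟨hroot.2.1, hroot.2.2, by simp⟩⟩
  obtain ⟨e1, e2, -⟩ := ds_cert h [fiveElt, splitPt] rfl _ (by simp) ⟨pv root, pv_mem hL⟩ rfl hmem h1 h2
  exact ⟨e1, e2⟩

theorem split_partner :
    (DS [(fiveElt, 24), (splitPt, -8)]).ncard = 1 ∧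
      Trans [splitPt, fiveElt] (DS [(fiveElt, 24), (splitPt, -8)]) := by
  obtain ⟨h1, h2⟩ := ds_bound (ls := [(fiveElt, 24), (splitPt, -8)]) split_set.2.2 (by simp) [(kPair, (-8 : ℤ))]
    (by simp [splitPt, elt, kPair]) (n := 1) (by decide +kernel)
  have hmem : fiveElt - splitPt ∈ DS [(fiveElt, 24), (splitPt, -8)] :=
    ⟨show sqNorm (pv kFive - pv kPair) = 32 by decide +kernel, by
      simp only [List.forall_mem_cons]
      exact ⟨show dotInt (pv kFive) (pv kFive - pv kPair) = 24 by decide +kernel,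
        show dotInt (pv kPair) (pv kFive - pv kPair) = -8 by decide +kernel, by simp⟩⟩
  have hone : (DS [(fiveElt, 24), (splitPt, -8)]).ncard = 1 :=
    le_antisymm h2 ((Set.ncard_pos h1).2 ⟨_, hmem⟩)
  refine ⟨hone, fun x hx y hy => ⟨1, ?_, fun v _ => one_smul _ v⟩⟩
  obtain ⟨a, ha⟩ := Set.ncard_eq_one.1 hone
  rw [ha, Set.mem_singleton_iff] at hx hy
  rw [one_smul, hx, hy]

theorem omega_unique {x : ↥leechLattice} (hx : x ∈ DS [(fiveElt, (8 : ℤ))])
    (h : ∀ g ∈ fixGroup [omegaElt, fiveElt], g • x = x) : x = omegaElt := by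
  have hconst : ∀ i : GolayPt, i ≠ none → (x : Vec) i = (x : Vec) (some 0) := by
    intro i hi
    obtain ⟨π, hπ⟩ := exists_map_list (xs := [none, some 0]) (ys := [none, i]) (by simp) (by simp [Ne.symm hi]) rfl
      (by simp)
    simp only [List.map_cons, List.map_nil, List.cons.injEq, and_true] at hπ
    have hmem : permHom π ∈ fixGroup [omegaElt, fiveElt] := by
      rw [fix_omega_five]; exact Subgroup.mem_map_of_mem _ hπ.1
    have e := congrArg (fun v : ↥leechLattice => (v : Vec) i) (h _ hmem)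
    change (x : Vec) (π.1.symm i) = (x : Vec) i at e
    rw [show π.1.symm i = some 0 from π.1.symm_apply_eq.2 hπ.2.symm] at e
    exact e.symm
  set a := (x : Vec) none
  set b := (x : Vec) (some 0)
  have hsplit : ∀ F : GolayPt → ℤ → ℤ, ∑ i, F i ((x : Vec) i) = F none a + ∑ j : ZMod 23, F (some j) b := by
    intro F
    rw [Fintype.sum_option]
    exact congrArg (F none a + ·) (Finset.sum_congr rfl fun j _ => by rw [hconst (some j) (by simp)])
  have hn : a ^ 2 + 23 * b ^ 2 = 32 := by
    rw [← hx.1, sqNorm, hsplit fun _ t => t ^ 2]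
    simp
  have hd : 5 * a + 23 * b = 8 := by
    have h8 : dotInt (fiveElt : Vec) (x : Vec) = 8 := hx.2 _ List.mem_cons_self
    rw [dotInt, hsplit fun i t => (fiveElt : Vec) i * t,
      show (fiveElt : Vec) = pv kFive from rfl] at h8
    simpa [five_shape] using h8
  have hb1 : -1 ≤ b ∧ b ≤ 1 := ⟨by nlinarith [sq_nonneg a], by nlinarith [sq_nonneg a]⟩
  have hab : a = -3 ∧ b = 1 := by
    obtain ⟨hb2, hb3⟩ := hb1
    interval_cases b <;> first | omega | (exfalso; omega) | exact ⟨by omega, rfl⟩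
  refine Subtype.ext (funext fun i => ?_)
  show (x : Vec) i = pv 27729856879992518157740382617 i
  rw [omega_shape]
  by_cases hi : i = none
  · rw [hi, if_pos rfl]; exact hab.1
  · rw [if_neg hi, hconst i hi]; exact hab.2

theorem coThree_normIn (h : NormIn N [fiveElt]) : N = ⊥ ∨ N = fixGroup [fiveElt] := by
  rcases inter_cases h (r := omegaElt) simple_omega with ⟨hc, hbot⟩ | hle
  swap
  · right
    obtain ⟨p, e1, e2⟩ := exists_some_eq (x := evalSeq coThreeEightGens [2, 2, 1, 2] 27729856879992518157740382617)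
      (y := evalSeq coThreeEightGens [2, 2, 1, 0, 1, 1, 1, 1, 0, 1, 1, 0, 1, 0] 27729856879992518157740382617)
      (by decide +kernel)
    exact top_of_cert coThreeEight_ok h rfl (r := omegaElt) rfl (keys_of eight_set.2.2 (by simp) omega_mem) hle 2 rfl
      (by decide +kernel) [2, 2, 1, 2] [2, 2, 1, 0, 1, 1, 1, 1, 0, 1, 1, 0, 1, 0] 2 (by decide) (by decide) (by decide)
      e1 e2
  left
  have hfin := DS_finite (ks := [(fiveElt, (24 : ℤ))]) List.mem_cons_self
  obtain ⟨K, hK, e⟩ := orbit_sum h (by simp) hfin splitPt_mem {8, 16, -8} (by decide)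
    (fun k => if k = -8 then 1 else 275)
    (fun x hx => by
      rcases ds_values split_set.2.2 (r := splitPt) (root := 62062060636173731114942761100) rfl [8, 16, -8]
        (by decide +kernel) hx with h' | h'
      · exact Or.inl h'
      · right; simpa using h')
    (fun k hk => by
      simp only [Finset.mem_insert, Finset.mem_singleton] at hk
      rcases hk with rfl | rfl | rfl
      · obtain ⟨a, b⟩ := split_sub coThreeSubP8_ok 8 (by decide +kernel) (by decide +kernel) (by decide +kernel)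
        exact ⟨a, trans_mem b (by simp)⟩
      · obtain ⟨a, b⟩ := split_sub coThreeSubP16_ok 16 (by decide +kernel) (by decide +kernel) (by decide +kernel)
        exact ⟨a, trans_mem b (by simp)⟩
      · exact split_partner)
  have hdvd := orbit_dvd h (by simp) hfin split_set.2.1 splitPt_mem
  rw [split_set.1, e] at hdvd
  have d1 := orbit_le_card N splitPt
  have d2 := orbit_dvd h (ks := [(fiveElt, (8 : ℤ))]) (by simp) (DS_finite List.mem_cons_self) eight_set.2.1 omega_mem
  rw [eight_set.1, ← hc] at d2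
  rw [e] at d1
  have key : ∀ K ∈ ({8, 16, -8} : Finset ℤ).powerset, 1 + ∑ k ∈ K, (if k = -8 then 1 else 275) ∣ 552 →
      1 + ∑ k ∈ K, (if k = -8 then 1 else 275) ∣ 48600 →
        1 + ∑ k ∈ K, (if k = -8 then 1 else 275) = 1 ∨ 1 + ∑ k ∈ K, (if k = -8 then 1 else 275) = 2 := by
    decide
  have hm := key K hK hdvd (d1.trans d2)
  rw [← e] at hm
  have hfl : fixGroup [splitPt, fiveElt] = fixGroup [fiveElt, pairElt] :=
    (congrArg (fun v => fixGroup [v, fiveElt]) splitPt_eq).trans (fix_congr (by simp [or_comm]))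
  rcases inter_cases h (r := splitPt) (by rw [hfl]; exact simple_mcl) with ⟨hc', -⟩ | hle'
  swap
  · exfalso
    have := (Subgroup.card_dvd_of_le hle').trans d2
    rw [hfl, card_fix_mcl] at this
    norm_num at this
  rcases hm with h1 | h2
  · exact Subgroup.eq_bot_of_card_eq _ (hc'.trans h1)
  exfalso
  haveI : Finite ↥N := Nat.finite_of_card_ne_zero (by omega)
  have hN2 : Nat.card ↥N = 2 := hc'.trans h2
  obtain ⟨n, hn, hn1⟩ : ∃ n ∈ N, n ≠ 1 := by
    by_contra hcon
    push Not at hcon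
    rw [(Subgroup.eq_bot_iff_forall _).2 hcon, Subgroup.card_bot] at hN2
    omega
  have huniq : ∀ m ∈ N, m ≠ 1 → m = n := by
    intro m hm hm1
    have hu : ∃! y : ↥N, y ≠ 1 := (Nat.card_eq_two_iff' (1 : ↥N)).1 hN2
    exact congrArg Subtype.val (hu.unique (y₁ := ⟨m, hm⟩) (y₂ := ⟨n, hn⟩)
      (fun e => hm1 (congrArg Subtype.val e)) (fun e => hn1 (congrArg Subtype.val e)))
  have hω : n • omegaElt = omegaElt := by
    refine omega_unique (smul_mem_DS (fun p hp => mem_fixGroup.1 (h.le hn) p.1 (by simp at hp ⊢; simp [hp])) omega_mem)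
      fun g hg => ?_
    have hgf := mem_fixGroup.1 hg
    have hg5 : g ∈ fixGroup [fiveElt] := mem_fixGroup.2 fun v hv => hgf v (List.mem_cons_of_mem _ hv)
    have hconj : g * n * g⁻¹ = n := huniq _ (h.conj g hg5 n hn) (by simpa using hn1)
    calc g • n • omegaElt = (g * n * g⁻¹) • g • omegaElt := by rw [smul_smul, smul_smul, inv_mul_cancel_right]
      _ = n • omegaElt := by rw [hconj, hgf omegaElt List.mem_cons_self]
  have hmem : n ∈ N ⊓ MulAction.stabilizer ↥Co0 omegaElt := ⟨hn, hω⟩
  rw [hbot, Subgroup.mem_bot] at hmem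
  exact hn1 hmem

theorem simple_coThree : IsSimpleGroup ↥(fixGroup [fiveElt]) :=
  simple_of_normIn (by rw [card_fix_five]; norm_num) fun M hM => coThree_normIn hM

end CfsgLib.Sporadic.Conway
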