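import Cfsg.Agent.Lib.Sporadic.ConwayDotFast
import Cfsg.Agent.Lib.Sporadic.MclOutData

/-!
# Checked facts about the 275 vectors
-/

set_option autoImplicit false

namespace CfsgLib.Sporadic.MclOut

open Cfsg CfsgLib.Sporadic CfsgLib.Sporadic.Conway CfsgLib.ThreeTrans.Leech

attribute [local irreducible] OTree.entries mclPointsTree

set_option maxHeartbeats 1000000

/-- The 275 vectors as a list. -/
noncomputable def keys : List Vec := mclPointsTree.entries.map fun e => pv e.1

theorem keys_nodup : keys.Nodup ∧ keys.length = 275 := by
  have h := mclPoints_ok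
  simp only [orbitOK, Bool.and_eq_true, Nat.beq_eq] at h
  obtain ⟨-, hsize, hsort, -⟩ := h
  obtain ⟨hpair, hbound⟩ := OTree.sorted_spec hsort
  refine ⟨?_, by rw [keys, List.length_map, ← OTree.size_eq, hsize]⟩
  rw [keys, show (mclPointsTree.entries.map fun e => pv e.1) = (mclPointsTree.entries.map Prod.fst).map pv
    from by rw [List.map_map]; rfl]
  refine List.Nodup.map_on (fun a ha b hb e => pv_inj ?_ ?_ e) (hpair.imp fun hab => Nat.ne_of_lt hab)
  · obtain ⟨c, hc, rfl⟩ := List.mem_map.1 ha
    exact (hbound c hc).2
  · obtain ⟨c, hc, rfl⟩ := List.mem_map.1 hb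
    exact (hbound c hc).2

/-- A count over the list is a count over the tree. -/
theorem keys_filter_length (p : Vec → Bool) :
    (keys.filter p).length = DotFast.countKeys (fun e => p (pv e)) mclPointsTree := by
  rw [DotFast.countKeys_eq, keys, List.filter_map, List.length_map]
  rfl

theorem valency_check :
    (keys.filter fun z => decide (dotInt (pv 62062060636173731114942761160) z = 16)).length = 162 := by
  rw [keys_filter_length]
  simp only [← DotFast.dotIs_eq]
  decide +kernel

theorem common_fast : DotFast.allKeys (fun a => !DotFast.dotIs 62062060636173731114942761160 a 16 ||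
    Nat.beq (DotFast.countKeys (fun z => DotFast.dotIs 62062060636173731114942761160 z 16 && DotFast.dotIs a z 16)
      mclPointsTree) 105) mclPointsTree = true := by
  decide +kernel

theorem common_check : ∀ A ∈ keys.filter fun z => decide (dotInt (pv 62062060636173731114942761160) z = 16),
    ((keys.filter fun z => decide (dotInt (pv 62062060636173731114942761160) z = 16)).filter
      fun z => decide (dotInt A z = 16)).length = 105 := by
  intro A hA
  rw [List.mem_filter, keys, List.mem_map, decide_eq_true_eq] at hA
  obtain ⟨⟨e, he, rfl⟩, hd⟩ := hA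
  have h := DotFast.allKeys_spec common_fast e he
  rw [DotFast.dotIs_eq, decide_eq_true hd, Bool.not_true, Bool.false_or, Nat.beq_eq] at h
  refine Eq.trans ?_ h
  rw [List.filter_filter, keys_filter_length]
  congr 1
  funext z
  rw [DotFast.dotIs_eq, DotFast.dotIs_eq, Bool.and_comm]

theorem combVecs_spec : ∀ V ∈ combVecs, LTest (pv V) ∧ sqNorm (pv V) = 32 ∧ dotInt (pv kFive) (pv V) = 24 ∧
    dotInt (pv kPair) (pv V) = 16 := by
  decide +kernel

/-- The multiple of the coordinate vector of `some 0` subtracted from that of `i`. -/
def tCoef (i : GolayPt) : ℤ := if i = none then 16 else if i = some 0 then -16 else 8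

theorem combos_spec : (∀ c ∈ combos, ∀ q ∈ c, q.2 ∈ combVecs ∨ q.2 = kFive) ∧
    ∀ i : GolayPt, ((combos.getD (ix i) []).map fun q => q.1 • pv q.2).sum =
      eightVec i - fun j => if j = some 0 then tCoef i else 0 := by
  decide +kernel

end CfsgLib.Sporadic.MclOut
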