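import Cfsg.Agent.Lib.Sporadic.MclOutCount
import Cfsg.Agent.Lib.Sporadic.MclOutChecks
import Cfsg.Agent.Lib.Sporadic.ConwaySmallSimple

/-!
# Every copy of M22 in McL fixes one of the two kinds of vectors

The orbit of length 22 among the 275 vectors sums to a fixed vector; the inner products with all
275 vectors determine it modulo 9.
-/

set_option autoImplicit false

namespace CfsgLib.Sporadic.MclOut

open Cfsg MulAction CfsgLib.Sporadic CfsgLib.Sporadic.Conway CfsgLib.ThreeTrans.Leech
open CfsgLib.Sporadic.IndexTwoTwo (M22pt card_M22pt)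
open scoped Pointwise

attribute [local irreducible] OTree.entries mclPointsTree

set_option maxHeartbeats 1000000

/-- The 275 vectors. -/
def P275 : Type := {x : ↥leechLattice // x ∈ DS [(fiveElt, (24 : ℤ)), (pairElt, 16)]}

theorem card_P275 : Nat.card P275 = 275 := by
  rw [show Nat.card P275 = Nat.card ↥(DS [(fiveElt, (24 : ℤ)), (pairElt, 16)]) from rfl, Nat.card_coe_set_eq,
    mcl_set.1]

theorem finite_P275 : Finite P275 := Nat.finite_of_card_ne_zero (by rw [card_P275]; norm_num)

/-- The group McL as a stabiliser. -/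
noncomputable abbrev G : Subgroup ↥Co0 := fixGroup [fiveElt, pairElt]

noncomputable local instance actP : MulAction ↥G P275 where
  smul g x := ⟨g.1 • x.1, smul_mem_DS (fun p hp => mem_fixGroup.1 g.2 p.1 (by
    simp at hp ⊢; rcases hp with rfl | rfl <;> simp)) x.2⟩
  one_smul x := Subtype.ext (one_smul _ x.1)
  mul_smul a b x := Subtype.ext (mul_smul a.1 b.1 x.1)

theorem p_val (g : ↥G) (x : P275) : (g • x).1 = g.1 • x.1 := rfl

/-- The inner product. -/
def dP (x y : P275) : ℤ := dotInt (x.1 : Vec) (y.1 : Vec)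

theorem dP_smul (g : ↥G) (x y : P275) : dP (g • x) (g • y) = dP x y := dot_smul' g.1 x.1 y.1

theorem dP_self (x : P275) : dP x x = 32 := by
  have h : dotInt (x.1 : Vec) (x.1 : Vec) = sqNorm (x.1 : Vec) := Finset.sum_congr rfl fun i _ => (sq _).symm
  exact h.trans x.2.1

/-- The base point. -/
noncomputable def root : P275 := ⟨mclPt, mclPt_mem⟩

theorem move (x : P275) : ∃ g : ↥G, g • x = root := by
  obtain ⟨g, hg, hgf⟩ := mcl_set.2.1 x.1 x.2 mclPt mclPt_mem
  exact ⟨⟨g, mem_fixGroup.2 hgf⟩, Subtype.ext hg⟩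

theorem dP_cases {x y : P275} (h : x ≠ y) : dP x y = 8 ∨ dP x y = 16 := by
  obtain ⟨g, hg⟩ := move x
  rw [← dP_smul g, hg]
  have hne : (g • y).1 ≠ mclPt := fun e => h (smul_left_cancel g (hg.trans (Subtype.ext e).symm))
  rcases ds_values mcl_set.2.2 (r := mclPt) (root := 62062060636173731114942761160) rfl [8, 16]
    (by decide +kernel) (g • y).2 with e | e
  · exact absurd e hne
  · show dotInt (mclPt : Vec) ((g • y).1 : Vec) = 8 ∨ dotInt (mclPt : Vec) ((g • y).1 : Vec) = 16
    simpa using e

theorem count_eq [Fintype P275] (q : P275 → Prop) [DecidablePred q] (p : Vec → Bool)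
    (hq : ∀ x, q x ↔ p (x.1 : Vec) = true) : (Finset.univ.filter q).card = (keys.filter p).length := by
  classical
  rw [show Finset.univ.filter q = Finset.univ.filter fun x : P275 => p (x.1 : Vec) = true from
    Finset.filter_congr fun x _ => hq x]
  let val : P275 ↪ Vec := ⟨fun x => (x.1 : Vec), fun x y h => Subtype.ext (Subtype.ext h)⟩
  have hmap : (Finset.univ : Finset P275).map val = keys.toFinset := by
    refine Finset.eq_of_subset_of_card_le (fun v hv => ?_) ?_
    · obtain ⟨x, -, rfl⟩ := Finset.mem_map.1 hv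
      obtain ⟨e, he, ev⟩ := mcl_set.2.2 x.1 x.2
      exact List.mem_toFinset.2 (List.mem_map.2 ⟨e, he, ev.symm⟩)
    · rw [Finset.card_map, Finset.card_univ, Fintype.card_eq_nat_card, card_P275,
        List.toFinset_card_of_nodup keys_nodup.1, keys_nodup.2]
  rw [← List.toFinset_card_of_nodup (keys_nodup.1.filter p), List.toFinset_filter, ← hmap, Finset.filter_map,
    Finset.card_map]
  rfl

theorem common [Fintype P275] (x y : P275) (h : dP x y = 16) :
    (Finset.univ.filter fun z => dP x z = 16 ∧ dP y z = 16).card = 105 := by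
  classical
  obtain ⟨g, hg⟩ := move x
  rw [Finset.card_equiv (MulAction.toPerm g) (t := Finset.univ.filter fun z => dP root z = 16 ∧ dP (g • y) z = 16)
    fun z => by simp [← hg, dP_smul]]
  have hy : dP root (g • y) = 16 := by rw [← hg, dP_smul]; exact h
  rw [count_eq _ (fun v => decide (dotInt ((g • y).1 : Vec) v = 16) &&
      decide (dotInt (pv 62062060636173731114942761160) v = 16)) fun z => by
      simp only [Bool.and_eq_true, decide_eq_true_eq]
      exact and_comm, ← List.filter_filter]
  obtain ⟨e, he, ev⟩ := mcl_set.2.2 (g • y).1 (g • y).2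
  refine common_check _ (List.mem_filter.2 ⟨List.mem_map.2 ⟨e, he, ev.symm⟩, ?_⟩)
  exact decide_eq_true hy

theorem valency [Fintype P275] (x : P275) : (Finset.univ.filter fun z => dP x z = 16).card = 162 := by
  classical
  obtain ⟨g, hg⟩ := move x
  rw [Finset.card_equiv (MulAction.toPerm g) (t := Finset.univ.filter fun z => dP root z = 16)
    fun z => by simp [← hg, dP_smul]]
  rw [count_eq _ (fun v => decide (dotInt (pv 62062060636173731114942761160) v = 16)) fun z => by
      simp only [decide_eq_true_eq]; rfl]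
  exact valency_check

/-! ### integer combinations -/

theorem dot_comb (W : Vec) (c : List (ℤ × ℕ)) :
    dotInt W ((c.map fun q => q.1 • pv q.2).sum) = (c.map fun q => q.1 * dotInt W (pv q.2)).sum := by
  induction c with
  | nil => simp [dotInt]
  | cons q c ih =>
    simp only [List.map_cons, List.sum_cons, ← ih]
    simp only [dotInt, Pi.add_apply, Pi.smul_apply, smul_eq_mul, Finset.mul_sum, ← Finset.sum_add_distrib]
    exact Finset.sum_congr rfl fun i _ => by ring

/-- Inner products divisible by 72 pin the coordinates modulo 9. -/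
theorem coords_mod (W : Vec) (h5 : (72 : ℤ) ∣ dotInt W (pv kFive))
    (h : ∀ V ∈ combVecs, (72 : ℤ) ∣ dotInt W (pv V)) :
    (3 : ℤ) ∣ W (some 0) ∧ ∀ i, (9 : ℤ) ∣ W i - W (some 0) * pv kFive i := by
  have hdiv : ∀ i : GolayPt, (72 : ℤ) ∣ 8 * W i - W (some 0) * tCoef i := by
    intro i
    have e : dotInt W (eightVec i - fun j => if j = some 0 then tCoef i else 0) =
        8 * W i - W (some 0) * tCoef i := by
      simp [dotInt, eightVec, mul_sub, Finset.sum_sub_distrib, mul_ite, mul_comm]
    rw [← e, ← combos_spec.2 i, dot_comb]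
    refine List.dvd_sum fun a ha => ?_
    obtain ⟨q, hq, rfl⟩ := List.mem_map.1 ha
    have hc : combos.getD (ix i) [] ∈ combos := by
      have : ix i < combos.length := lt_of_lt_of_eq (ix_lt i) (by decide +kernel)
      rw [List.getD_eq_getElem _ _ this]
      exact List.getElem_mem this
    rcases combos_spec.1 _ hc q hq with hm | hm
    · exact (h _ hm).mul_left _
    · rw [hm]; exact h5.mul_left _
  have h0 : (3 : ℤ) ∣ W (some 0) := by
    have h' := hdiv (some 0)
    rw [show tCoef (some 0) = -16 from rfl] at h'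
    omega
  refine ⟨h0, fun i => ?_⟩
  have h' := hdiv i
  rw [five_shape]
  simp only [tCoef] at h'
  split_ifs at h' ⊢ <;> first | omega | (subst_vars; simp)

theorem norm_comb (a b c : ℤ) (x y z : Vec) :
    sqNorm (a • x + b • y + c • z) = a ^ 2 * sqNorm x + b ^ 2 * sqNorm y + c ^ 2 * sqNorm z +
      2 * a * b * dotInt x y + 2 * a * c * dotInt x z + 2 * b * c * dotInt y z := by
  simp only [sqNorm, dotInt, Finset.mul_sum, ← Finset.sum_add_distrib, Pi.add_apply, Pi.smul_apply, smul_eq_mul]
  exact Finset.sum_congr rfl fun i _ => by ring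

theorem dot_comb_left (a b c : ℤ) (x y z v : Vec) :
    dotInt (a • x + b • y + c • z) v = a * dotInt x v + b * dotInt y v + c * dotInt z v := by
  simp only [dotInt, Finset.mul_sum, ← Finset.sum_add_distrib, Pi.add_apply, Pi.smul_apply, smul_eq_mul]
  exact Finset.sum_congr rfl fun i _ => by ring

theorem five_values : sqNorm (fiveElt : Vec) = 48 ∧ sqNorm (pairElt : Vec) = 32 ∧
    dotInt (fiveElt : Vec) (pairElt : Vec) = 24 ∧ dotInt (pairElt : Vec) (fiveElt : Vec) = 24 ∧
    dotInt (fiveElt : Vec) (fiveElt : Vec) = 48 ∧ dotInt (pairElt : Vec) (pairElt : Vec) = 32 := by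
  refine ⟨?_, ?_, ?_, ?_, ?_, ?_⟩
  · show sqNorm (pv kFive) = 48; decide +kernel
  · show sqNorm (pv kPair) = 32; decide +kernel
  · show dotInt (pv kFive) (pv kPair) = 24; decide +kernel
  · show dotInt (pv kPair) (pv kFive) = 24; decide +kernel
  · show dotInt (pv kFive) (pv kFive) = 48; decide +kernel
  · show dotInt (pv kPair) (pv kPair) = 32; decide +kernel

theorem dot_symm (x y : Vec) : dotInt x y = dotInt y x := Finset.sum_congr rfl fun i _ => mul_comm _ _

theorem mem_of_nine {v : Vec} (h : (9 : ℤ) • v ∈ leechLattice) : v ∈ leechLattice := by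
  have h8 : (8 : ℤ) • v ∈ leechLattice := by
    have e : (8 : ℤ) • v = ∑ i, v i • eightVec i := by
      funext k
      simp [eightVec, Finset.sum_apply, mul_comm]
    rw [e]
    exact sum_mem fun i _ => zsmul_mem (eightVec_mem i) _
  have h' := sub_mem h h8
  rwa [← sub_smul, show (9 : ℤ) - 8 = 1 from rfl, one_smul] at h'

/-- A copy of M22 has no fixed point among the 275, so its orbit lengths are listed. -/
theorem orbit_lengths (ψ : ↥M22pt →* ↥G) (hψ : Function.Injective ψ) (x : P275) :
    (Set.range fun u => ψ u • x).ncard ∈ lengths := by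
  classical
  haveI := finite_P275
  letI : MulAction ↥M22pt P275 := MulAction.compHom P275 ψ
  haveI : Finite ↥G := Nat.finite_of_card_ne_zero (by rw [card_fix_mcl]; norm_num)
  show (MulAction.orbit ↥M22pt x).ncard ∈ lengths
  have h275 : (MulAction.orbit ↥M22pt x).ncard ≤ 275 :=
    (Set.ncard_le_ncard (Set.subset_univ _)).trans (by rw [Set.ncard_univ, card_P275])
  rw [← index_stabilizer] at h275 ⊢
  refine (index_le _ h275).resolve_left fun h1 => ?_
  have hle : ψ.range ≤ stabilizer ↥G x := by
    rintro _ ⟨u, rfl⟩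
    have : u ∈ stabilizer ↥M22pt x := (Subgroup.index_eq_one.1 h1) ▸ Subgroup.mem_top u
    exact this
  have hpre : IsPretransitive ↥G P275 := ⟨fun a b => by
    obtain ⟨g, hg⟩ := move a
    obtain ⟨g', hg'⟩ := move b
    exact ⟨g'⁻¹ * g, by rw [mul_smul, hg, ← hg', inv_smul_smul]⟩⟩
  have hs := (stabilizer ↥G x).card_mul_index
  rw [index_stabilizer_of_transitive, card_P275, card_fix_mcl] at hs
  have hdvd := Subgroup.card_dvd_of_le hle
  rw [← Nat.card_congr (MonoidHom.ofInjective hψ).toEquiv, card_M22pt,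
    show Nat.card ↥(stabilizer ↥G x) = 3265920 by omega] at hdvd
  norm_num at hdvd

/-- The orbit of length 22 of a copy of M22 in McL determines a fixed vector of one of the two kinds. -/
theorem fixed_of_orbit (ψ : ↥M22pt →* ↥G) (hψ : Function.Injective ψ) (a : P275)
    (ha : (Set.range fun u => ψ u • a).ncard = 22) :
    ∃ z : ↥leechLattice, (∀ u, (ψ u).1 • z = z) ∧
      ∀ F : Finset ↥leechLattice, (F : Set ↥leechLattice) = Set.range (fun u => (ψ u • a).1) →
        (z ∈ DS [(fiveElt, (16 : ℤ)), (pairElt, 0)] ∧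
          (9 : ℤ) • z = (∑ x ∈ F, x) + (-4 : ℤ) • fiveElt + (-8 : ℤ) • pairElt) ∨
        (z ∈ DS [(fiveElt, (16 : ℤ)), (pairElt, 16)] ∧
          (9 : ℤ) • z = -(∑ x ∈ F, x) + (10 : ℤ) • fiveElt + (8 : ℤ) • pairElt) := by
  classical
  haveI := finite_P275
  letI : Fintype P275 := Fintype.ofFinite _
  letI : MulAction ↥M22pt P275 := MulAction.compHom P275 ψ
  have hsmul : ∀ (u : ↥M22pt) (x : P275), u • x = ψ u • x := fun _ _ => rfl
  have hd : ∀ (u : ↥M22pt) (x y : P275), dP (u • x) (u • y) = dP x y := fun u x y => dP_smul (ψ u) x y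
  haveI : Finite ↥G := Nat.finite_of_card_ne_zero (by rw [card_fix_mcl]; norm_num)
  have hlen : ∀ x : P275, (MulAction.orbit ↥M22pt x).ncard ∈ lengths := orbit_lengths ψ hψ
  replace ha : (MulAction.orbit ↥M22pt a).ncard = 22 := ha
  obtain ⟨o, hoi, hosurj, homem, ho⟩ := exists_natural ha
  haveI : Finite Pt22 := Nat.finite_of_card_ne_zero (by rw [card_pt22]; norm_num)
  letI : Fintype Pt22 := Fintype.ofFinite _
  have hcard22 : Fintype.card Pt22 = 22 := by rw [Fintype.card_eq_nat_card, card_pt22]
  have hmoveo : ∀ (u : ↥M22pt) (b : Pt22), ∃ b', u • o b = o b' ∧ u.1.1 b.1 = b'.1 := by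
    intro u b
    refine ⟨⟨u.1.1 b.1, fun e => b.2.1 (u.1.1.injective (e.trans (show u.1.1 none = none from u.2.1).symm)),
      fun e => b.2.2 (u.1.1.injective (e.trans (show u.1.1 (some 0) = some 0 from u.2.2).symm))⟩, ?_, rfl⟩
    exact ho u b _ rfl
  choose ou hou houv using hmoveo
  have houinj : ∀ u, Function.Injective (ou u) := fun u b b' h => Subtype.ext (u.1.1.injective (by
    rw [houv u b, houv u b', h]))
  have houbij : ∀ u, Function.Bijective (ou u) := fun u => Finite.injective_iff_bijective.1 (houinj u)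
  -- the common inner product
  obtain ⟨b₀, b₁, hb01⟩ : ∃ b b' : Pt22, b ≠ b' := Fintype.one_lt_card_iff.1 (by rw [hcard22]; norm_num)
  set k := dP (o b₀) (o b₁) with hk
  have hkall : ∀ b c, b ≠ c → dP (o b) (o c) = k := by
    intro b c hbc
    obtain ⟨u, e1, e2⟩ := exists_map_pair hb01 hbc
    rw [hk, ← ho u b₀ b e1, ← ho u b₁ c e2, hd]
  -- the sum
  let s : ↥leechLattice := ∑ b, (o b).1
  have hsdot : ∀ v : Vec, dotInt (s : Vec) v = ∑ b, dotInt ((o b).1 : Vec) v := fun v => by
    simp only [s, AddSubgroup.val_finsetSum, dotInt, Finset.sum_apply, Finset.sum_mul]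
    rw [Finset.sum_comm]
  have hsfix : ∀ u, (ψ u).1 • s = s := by
    intro u
    show linOf (ψ u).1 s = s
    simp only [s, map_sum]
    refine Fintype.sum_bijective (ou u) (houbij u) _ _ fun b => ?_
    show (ψ u).1 • (o b).1 = _
    rw [← p_val, ← hsmul, hou]
  have hof : ∀ x : P275, dotInt (x.1 : Vec) (fiveElt : Vec) = 24 ∧ dotInt (x.1 : Vec) (pairElt : Vec) = 16 :=
    fun x => ⟨(dot_symm _ _).trans (x.2.2 _ List.mem_cons_self),
      (dot_symm _ _).trans (x.2.2 (pairElt, 16) (by simp))⟩
  have hsf : dotInt (s : Vec) (fiveElt : Vec) = 528 := by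
    rw [hsdot, Finset.sum_congr rfl fun b _ => (hof (o b)).1, Finset.sum_const, Finset.card_univ, hcard22]; rfl
  have hsp : dotInt (s : Vec) (pairElt : Vec) = 352 := by
    rw [hsdot, Finset.sum_congr rfl fun b _ => (hof (o b)).2, Finset.sum_const, Finset.card_univ, hcard22]; rfl
  have hso : ∀ c, dotInt (s : Vec) ((o c).1 : Vec) = 32 + 21 * k := by
    intro c
    rw [hsdot, ← Finset.add_sum_erase _ _ (Finset.mem_univ c),
      Finset.sum_congr rfl fun b hb => show dotInt ((o b).1 : Vec) ((o c).1 : Vec) = k from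
        hkall b c (Finset.ne_of_mem_erase hb),
      show dotInt ((o c).1 : Vec) ((o c).1 : Vec) = 32 from dP_self (o c), Finset.sum_const,
      Finset.card_erase_of_mem (Finset.mem_univ c), Finset.card_univ, hcard22]
    simp
  have hss : sqNorm (s : Vec) = 22 * (32 + 21 * k) := by
    rw [show sqNorm (s : Vec) = dotInt (s : Vec) (s : Vec) from Finset.sum_congr rfl fun i _ => sq _, hsdot,
      Finset.sum_congr rfl fun b _ => (dot_symm _ _).trans (hso b), Finset.sum_const, Finset.card_univ, hcard22]
    simp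
  obtain ⟨f1, f2, f3, f4, f5, f6⟩ := five_values
  set W : Vec := (1 : ℤ) • (s : Vec) + (-4 : ℤ) • (fiveElt : Vec) + (-8 : ℤ) • (pairElt : Vec) with hW
  have hk16 : k = 16 := by
    refine (dP_cases (fun e => hb01 (hoi e))).resolve_left fun h8 => ?_
    have h0 : 0 ≤ sqNorm W := Finset.sum_nonneg fun i _ => sq_nonneg _
    rw [hW, norm_comb, hss, hsf, hsp, f1, f2, f3] at h0
    rw [show k = 8 from h8] at h0
    norm_num at h0
  have hWW : sqNorm W = 2592 := by
    rw [hW, norm_comb, hss, hsf, hsp, f1, f2, f3, hk16]; norm_num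
  have hWf : dotInt W (fiveElt : Vec) = 144 := by
    rw [hW, dot_comb_left, hsf, f5, f4]; norm_num
  have hWp : dotInt W (pairElt : Vec) = 0 := by
    rw [hW, dot_comb_left, hsp, f3, f6]; norm_num
  -- the weights
  let w : P275 → ℕ := fun x => (Finset.univ.filter fun b => dP (o b) x = 16).card
  have hw : ∀ (u : ↥M22pt) x, w (u • x) = w x := by
    intro u x
    refine (Finset.card_equiv (Equiv.ofBijective (ou u) (houbij u)) fun b => ?_).symm
    simp only [Finset.mem_filter, Finset.mem_univ, true_and, Equiv.ofBijective_apply]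
    rw [← hou, hd]
  have hwo : ∀ c, w (o c) = 21 := by
    intro c
    have : (Finset.univ.filter fun b => dP (o b) (o c) = 16) = Finset.univ.erase c := by
      ext b
      simp only [Finset.mem_filter, Finset.mem_univ, true_and, Finset.mem_erase, and_true]
      constructor
      · intro h e
        subst e
        rw [dP_self] at h
        norm_num at h
      · intro h
        rw [hkall b c h, hk16]
    show Finset.card _ = 21
    rw [this, Finset.card_erase_of_mem (Finset.mem_univ c), Finset.card_univ, hcard22]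
  let O : Finset P275 := Finset.univ.image o
  have hOc : O.card = 22 := by rw [Finset.card_image_of_injective _ hoi, Finset.card_univ, hcard22]
  let S : Finset P275 := Finset.univ \ O
  have hSinv : ∀ (u : ↥M22pt), ∀ x ∈ S, u • x ∈ S := by
    intro u x hx
    simp only [S, O, Finset.mem_sdiff, Finset.mem_univ, true_and, Finset.mem_image, not_exists] at hx ⊢
    intro b hb
    obtain ⟨c, rfl⟩ := (houbij u).2 b
    rw [← hou] at hb
    exact hx c (smul_left_cancel u hb)
  have hA : ∑ x, w x = 3564 := by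
    show ∑ x, (Finset.univ.filter fun b => dP (o b) x = 16).card = 3564
    simp only [Finset.card_filter]
    rw [Finset.sum_comm, Finset.sum_congr rfl fun b _ => by rw [← Finset.card_filter, valency],
      Finset.sum_const, Finset.card_univ, hcard22]
    rfl
  have hB : ∑ x, w x * w x = 52074 := by
    have e : ∀ x, w x * w x = ∑ b, ∑ c, if dP (o b) x = 16 ∧ dP (o c) x = 16 then 1 else 0 := fun x => by
      show (Finset.univ.filter fun b => dP (o b) x = 16).card *
        (Finset.univ.filter fun b => dP (o b) x = 16).card = _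
      rw [Finset.card_filter, Finset.sum_mul_sum]
      refine Finset.sum_congr rfl fun b _ => Finset.sum_congr rfl fun c _ => ?_
      by_cases h : dP (o b) x = 16 <;> simp [h]
    rw [Finset.sum_congr rfl fun x _ => e x, Finset.sum_comm, Finset.sum_congr rfl (g := fun _ => 2367) fun b _ => ?_,
      Finset.sum_const, Finset.card_univ, hcard22]
    · rfl
    rw [Finset.sum_comm]
    trans ∑ c, (Finset.univ.filter fun x => dP (o b) x = 16 ∧ dP (o c) x = 16).card
    · simp only [Finset.card_filter]
    rw [← Finset.add_sum_erase _ _ (Finset.mem_univ b),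
      Finset.sum_congr rfl fun c hc => common (o b) (o c)
        ((hkall b c (Finset.ne_of_mem_erase hc).symm).trans hk16),
      Finset.sum_const, Finset.card_erase_of_mem (Finset.mem_univ b), Finset.card_univ, hcard22]
    simp only [and_self]
    rw [valency]
    rfl
  have hSc : S.card = 253 := by
    rw [Finset.card_sdiff_of_subset (Finset.subset_univ _), hOc, Finset.card_univ, Fintype.card_eq_nat_card,
      card_P275]
  have hsplit : ∀ f : ℕ → ℕ, ∑ x ∈ S, f (w x) + 22 * f 21 = ∑ x, f (w x) := by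
    intro f
    rw [← Finset.sum_sdiff (f := fun x => f (w x)) (Finset.subset_univ O),
      Finset.sum_image fun b _ c _ h => hoi h, Finset.sum_congr rfl fun b _ => congrArg f (hwo b),
      Finset.sum_const, Finset.card_univ, hcard22]
    rfl
  have hSA : ∑ x ∈ S, w x = 3102 := by
    have := hsplit id; simp only [id] at this; omega
  have hSB : ∑ x ∈ S, w x * w x = 42372 := by
    have := hsplit fun i => i * i; omega
  have hmem : ∀ x ∈ S, ((MulAction.orbit ↥M22pt x).ncard, w x) ∈ items := by
    intro x hx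
    have hw22 : w x ≤ 22 := (Finset.card_filter_le _ _).trans (by rw [Finset.card_univ, hcard22])
    refine List.mem_flatMap.2 ⟨_, hlen x, List.mem_map.2 ⟨w x,
      List.mem_filter.2 ⟨List.mem_range.2 (by omega), ?_⟩, rfl⟩⟩
    simp only [Bool.and_eq_true, Bool.or_eq_true, Bool.not_eq_true', Bool.eq_false_iff, ne_eq, Nat.beq_eq,
      Nat.ble_eq]
    constructor
    · -- double counting
      set Q := (Set.toFinite (MulAction.orbit ↥M22pt x)).toFinset with hQ
      have hQc : Q.card = (MulAction.orbit ↥M22pt x).ncard := (Set.ncard_eq_toFinset_card _ _).symm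
      have h1 : ∑ y ∈ Q, w y = Q.card * w x := by
        rw [Finset.sum_congr rfl (g := fun _ => w x) fun y hy => by
          obtain ⟨u, rfl⟩ := (Set.Finite.mem_toFinset _).1 hy
          exact hw u x, Finset.sum_const, smul_eq_mul]
      have h2 : ∀ b c, (Q.filter fun y => dP (o b) y = 16).card = (Q.filter fun y => dP (o c) y = 16).card := by
        intro b c
        obtain ⟨d, hd'⟩ : ∃ d : Pt22, d ≠ b := Fintype.exists_ne_of_one_lt_card (by rw [hcard22]; norm_num) b
        obtain ⟨e, he'⟩ : ∃ e : Pt22, e ≠ c := Fintype.exists_ne_of_one_lt_card (by rw [hcard22]; norm_num) c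
        obtain ⟨u, e1, -⟩ := exists_map_pair hd'.symm he'.symm
        refine Finset.card_equiv (MulAction.toPerm u) fun y => ?_
        simp only [Finset.mem_filter, MulAction.toPerm_apply, hQ, Set.Finite.mem_toFinset]
        rw [← ho u b c e1, hd, ← orbit_eq_iff, ← orbit_eq_iff, orbit_smul]
      have h3 : ∑ y ∈ Q, w y = 22 * (Q.filter fun y => dP (o b₀) y = 16).card := by
        show ∑ y ∈ Q, (Finset.univ.filter fun b => dP (o b) y = 16).card = _
        simp only [Finset.card_filter]
        rw [Finset.sum_comm, Finset.sum_congr rfl fun b _ => by rw [← Finset.card_filter, h2 b b₀, Finset.card_filter],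
          Finset.sum_const, Finset.card_univ, hcard22]
        rfl
      rw [← hQc, ← h1, h3]
      exact Nat.mul_mod_right 22 _
    · by_cases h22 : (MulAction.orbit ↥M22pt x).ncard = 22
      swap
      · exact Or.inl h22
      right
      obtain ⟨o2, ho2i, ho2surj, ho2mem, ho2⟩ := exists_natural h22
      obtain ⟨c₀, rfl⟩ := ho2surj x (mem_orbit_self x)
      have hne : ∀ b c, o b ≠ o2 c := by
        intro b c e
        have hc : o2 c ∈ S := by
          obtain ⟨u, hu⟩ := ho2mem c
          rw [← hu]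
          exact hSinv u _ hx
        simp only [S, O, Finset.mem_sdiff, Finset.mem_image, not_exists, not_and] at hc
        exact hc.2 b (Finset.mem_univ b) e
      have hoff : ∀ b c b' c', b ≠ c → b' ≠ c' → dP (o b) (o2 c) = dP (o b') (o2 c') := by
        intro b c b' c' h h'
        obtain ⟨u, e1, e2⟩ := exists_map_pair h h'
        rw [← hd u, ho u b b' e1, ho2 u c c' e2]
      have hdiag : ∀ b b', dP (o b) (o2 b) = dP (o b') (o2 b') := by
        intro b b'
        obtain ⟨d, hd'⟩ : ∃ d : Pt22, d ≠ b := Fintype.exists_ne_of_one_lt_card (by rw [hcard22]; norm_num) b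
        obtain ⟨e, he'⟩ : ∃ e : Pt22, e ≠ b' := Fintype.exists_ne_of_one_lt_card (by rw [hcard22]; norm_num) b'
        obtain ⟨u, e1, -⟩ := exists_map_pair hd'.symm he'.symm
        rw [← hd u, ho u b b' e1, ho2 u b b' e1]
      obtain ⟨d₀, hd₀⟩ : ∃ d : Pt22, d ≠ c₀ := Fintype.exists_ne_of_one_lt_card (by rw [hcard22]; norm_num) c₀
      let s2 : ↥leechLattice := ∑ b, (o2 b).1
      set K1 := dP (o c₀) (o2 c₀) with hK1
      set K2 := dP (o d₀) (o2 c₀) with hK2
      have hs2dot : ∀ v : Vec, dotInt v (s2 : Vec) = ∑ b, dotInt v ((o2 b).1 : Vec) := fun v => by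
        simp only [s2, AddSubgroup.val_finsetSum, dotInt, Finset.sum_apply, Finset.mul_sum]
        rw [Finset.sum_comm]
      have hk2all : ∀ b c, b ≠ c → dP (o2 b) (o2 c) = 8 ∨ dP (o2 b) (o2 c) = 16 := fun b c h =>
        dP_cases fun e => h (ho2i e)
      have hX : dotInt (s : Vec) (s2 : Vec) = 22 * (K1 + 21 * K2) := by
        rw [hsdot, Finset.sum_congr rfl (g := fun _ => K1 + 21 * K2) fun b _ => ?_, Finset.sum_const,
          Finset.card_univ, hcard22]
        · simp
        rw [hs2dot, ← Finset.add_sum_erase _ _ (Finset.mem_univ b)]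
        show dP (o b) (o2 b) + ∑ c ∈ _, dP (o b) (o2 c) = _
        rw [hdiag b c₀, Finset.sum_congr rfl fun c hc =>
            hoff b c d₀ c₀ (Finset.ne_of_mem_erase hc).symm hd₀,
          Finset.sum_const, Finset.card_erase_of_mem (Finset.mem_univ b), Finset.card_univ, hcard22]
        simp [hK1, hK2]
      have hs2f : dotInt (s2 : Vec) (fiveElt : Vec) = 528 := by
        rw [dot_symm, hs2dot, Finset.sum_congr rfl fun b _ => (dot_symm _ _).trans (hof (o2 b)).1, Finset.sum_const,
          Finset.card_univ, hcard22]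
        rfl
      have hs2p : dotInt (s2 : Vec) (pairElt : Vec) = 352 := by
        rw [dot_symm, hs2dot, Finset.sum_congr rfl fun b _ => (dot_symm _ _).trans (hof (o2 b)).2, Finset.sum_const,
          Finset.card_univ, hcard22]
        rfl
      have hs22 : sqNorm (s2 : Vec) ≤ 8096 := by
        rw [show sqNorm (s2 : Vec) = dotInt (s2 : Vec) (s2 : Vec) from Finset.sum_congr rfl fun i _ => sq _,
          hs2dot]
        refine (Finset.sum_le_sum (g := fun _ => (368 : ℤ)) fun b _ => ?_).trans (le_of_eq (by simp [hcard22]))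
        have hb : dotInt ((o2 b).1 : Vec) ((o2 b).1 : Vec) = 32 := dP_self (o2 b)
        have hall : dotInt ((o2 b).1 : Vec) ((o2 b).1 : Vec) +
            ∑ c ∈ Finset.univ.erase b, dotInt ((o2 b).1 : Vec) ((o2 c).1 : Vec) =
            ∑ c, dotInt ((o2 b).1 : Vec) ((o2 c).1 : Vec) :=
          Finset.add_sum_erase Finset.univ (fun c => dotInt ((o2 b).1 : Vec) ((o2 c).1 : Vec)) (Finset.mem_univ b)
        rw [dot_symm, hs2dot]
        have hsum : ∑ c ∈ Finset.univ.erase b, dotInt ((o2 b).1 : Vec) ((o2 c).1 : Vec) ≤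
            ∑ _c ∈ Finset.univ.erase b, (16 : ℤ) := Finset.sum_le_sum fun c hc => by
          have hv := hk2all b c (Finset.ne_of_mem_erase hc).symm
          show dP (o2 b) (o2 c) ≤ 16
          omega
        rw [Finset.sum_const, Finset.card_erase_of_mem (Finset.mem_univ b), Finset.card_univ, hcard22] at hsum
        simp at hsum
        omega
      have h0 : 0 ≤ sqNorm ((1 : ℤ) • ((5 : ℤ) • (s : Vec) + (5 : ℤ) • (s2 : Vec) + (-88 : ℤ) • (fiveElt : Vec)) +
          (-44 : ℤ) • (pairElt : Vec) + (0 : ℤ) • (pairElt : Vec)) := Finset.sum_nonneg fun i _ => sq_nonneg _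
      rw [norm_comb, norm_comb, dot_comb_left, hss, hk16, hsf, hsp, hs2f, hs2p, hX, f1, f2, f3,
        f6] at h0
      have hK1v : K1 = 8 ∨ K1 = 16 := dP_cases (hne c₀ c₀)
      have hK2v : K2 = 8 ∨ K2 = 16 := dP_cases (hne d₀ c₀)
      have hK2' : K2 = 16 := by omega
      have hsub : Finset.univ.erase c₀ ⊆ Finset.univ.filter fun b => dP (o b) (o2 c₀) = 16 := fun b hb => by
        rw [Finset.mem_filter]
        exact ⟨Finset.mem_univ _, (hoff b c₀ d₀ c₀ (Finset.ne_of_mem_erase hb) hd₀).trans hK2'⟩
      have hle := Finset.card_le_card hsub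
      rw [Finset.card_erase_of_mem (Finset.mem_univ c₀), Finset.card_univ, hcard22] at hle
      show 21 ≤ (Finset.univ.filter fun b => dP (o b) (o2 c₀) = 16).card
      omega
  -- divisibility
  have hdiv : ∀ x : P275, (72 : ℤ) ∣ dotInt W (x.1 : Vec) := by
    intro x
    have hxf : dotInt (fiveElt : Vec) (x.1 : Vec) = 24 := x.2.2 _ List.mem_cons_self
    have hxp : dotInt (pairElt : Vec) (x.1 : Vec) = 16 := x.2.2 (pairElt, 16) (by simp)
    rw [hW, dot_comb_left, hxf, hxp]
    by_cases hx : x ∈ S
    · have h9 := weight_mod w hw S hSinv hmem hSc hSA hSB hx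
      have hval : ∀ b, dotInt ((o b).1 : Vec) (x.1 : Vec) = if dP (o b) x = 16 then 16 else 8 := by
        intro b
        have hne : o b ≠ x := fun e => by
          simp only [S, O, Finset.mem_sdiff, Finset.mem_image, not_exists, not_and] at hx
          exact hx.2 b (Finset.mem_univ b) e
        show dP (o b) x = _
        rcases dP_cases hne with h | h <;> simp [h]
      rw [hsdot, Finset.sum_congr rfl fun b _ => hval b,
        show (∑ b, if dP (o b) x = 16 then (16 : ℤ) else 8) = 8 * (w x : ℤ) + 8 * 22 by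
          rw [Finset.sum_congr rfl fun b _ => show (if dP (o b) x = 16 then (16 : ℤ) else 8) =
              8 * (if dP (o b) x = 16 then (1 : ℤ) else 0) + 8 by split_ifs <;> norm_num,
            Finset.sum_add_distrib, ← Finset.mul_sum, Finset.sum_boole, Finset.sum_const, Finset.card_univ, hcard22]
          rfl]
      omega
    · obtain ⟨c, rfl⟩ : ∃ c, o c = x := by simpa [S, O] using hx
      rw [hso, hk16]
      norm_num
  obtain ⟨h3, h9⟩ := coords_mod W (by
      show (72 : ℤ) ∣ dotInt W (fiveElt : Vec)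
      rw [hWf]; norm_num) fun V hV => by
    obtain ⟨hL, hn, hd1, hd2⟩ := combVecs_spec V hV
    exact hdiv ⟨⟨pv V, pv_mem hL⟩, hn, by simp only [List.forall_mem_cons]; exact ⟨hd1, hd2, by simp⟩⟩
  obtain ⟨c, hc⟩ := h3
  -- the reduced multiple of `fiveElt`
  set r : ℤ := c % 3 with hr
  have h9' : ∀ i, (9 : ℤ) ∣ W i - 3 * r * pv kFive i := fun i => by
    have e : W i - 3 * r * pv kFive i = (W i - W (some 0) * pv kFive i) + 9 * (c / 3 * pv kFive i) := by
      have := Int.emod_add_mul_ediv c 3
      rw [hc, hr]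
      linear_combination (-3 * pv kFive i) * this
    rw [e]
    exact dvd_add (h9 i) (dvd_mul_right _ _)
  let y : Vec := fun i => (W i - 3 * r * pv kFive i) / 9
  have hy : (9 : ℤ) • y = (1 : ℤ) • W + (-3 * r) • (fiveElt : Vec) + (0 : ℤ) • (pairElt : Vec) := by
    funext i
    show 9 * ((W i - 3 * r * pv kFive i) / 9) = 1 * W i + (-3 * r) * pv kFive i + 0 * _
    rw [Int.mul_ediv_cancel' (h9' i)]
    ring
  have hWmem : W ∈ leechLattice :=
    add_mem (add_mem (zsmul_mem s.2 _) (zsmul_mem fiveElt.2 _)) (zsmul_mem pairElt.2 _)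
  have hymem : y ∈ leechLattice := mem_of_nine (by
    rw [hy]
    exact add_mem (add_mem (zsmul_mem hWmem _) (zsmul_mem fiveElt.2 _)) (zsmul_mem pairElt.2 _))
  have hfix : ∀ u, (ψ u).1 • (⟨y, hymem⟩ : ↥leechLattice) = ⟨y, hymem⟩ := by
    intro u
    have hg := mem_fixGroup.1 (ψ u).2
    have e : (9 : ℕ) • (⟨y, hymem⟩ : ↥leechLattice) =
        (1 : ℤ) • ((1 : ℤ) • s + (-4 : ℤ) • fiveElt + (-8 : ℤ) • pairElt) + (-3 * r) • fiveElt + (0 : ℤ) • pairElt := by
      refine Subtype.ext ?_
      have : ((9 : ℕ) • y : Vec) = (9 : ℤ) • y := (natCast_zsmul y 9).symm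
      simp only [AddSubgroup.coe_add, AddSubgroup.coe_nsmul, AddSubgroup.coe_zsmul]
      rw [this, hy, hW]
    have hf : (ψ u).1 • fiveElt = fiveElt := hg _ (by simp)
    have hp : (ψ u).1 • pairElt = pairElt := hg _ (by simp)
    refine nsmul_lattice_inj (n := 9) (by norm_num) ?_
    rw [← smul_nsmul', e]
    show linOf (ψ u).1 _ = _
    simp only [map_add, map_zsmul]
    show (1 : ℤ) • ((1 : ℤ) • ((ψ u).1 • s) + (-4 : ℤ) • ((ψ u).1 • fiveElt) + (-8 : ℤ) • ((ψ u).1 • pairElt)) +
      (-3 * r) • ((ψ u).1 • fiveElt) + (0 : ℤ) • ((ψ u).1 • pairElt) = _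
    rw [hsfix, hf, hp]
  have hnorm : 81 * sqNorm y = 2592 - 864 * r + 432 * r ^ 2 := by
    have h := congrArg sqNorm hy
    rw [norm_comb, hWW, hWf, f1] at h
    rw [show sqNorm ((9 : ℤ) • y) = 81 * sqNorm y by
      simp only [sqNorm, Pi.smul_apply, smul_eq_mul, Finset.mul_sum]
      exact Finset.sum_congr rfl fun i _ => by ring] at h
    linarith
  have hdots : ∀ v : Vec, 9 * dotInt y v = dotInt W v - 3 * r * dotInt (fiveElt : Vec) v := by
    intro v
    have h := congrArg (fun z => dotInt z v) hy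
    simp only [dot_comb_left] at h
    rw [show dotInt ((9 : ℤ) • y) v = 9 * dotInt y v by
      simp only [dotInt, Finset.mul_sum, Pi.smul_apply, smul_eq_mul]
      exact Finset.sum_congr rfl fun i _ => by ring] at h
    linarith
  have hyf := hdots (fiveElt : Vec)
  rw [hWf, f5, dot_symm] at hyf
  have hyp := hdots (pairElt : Vec)
  rw [hWp, f3, dot_symm] at hyp
  have hrv : r = 0 ∨ r = 1 ∨ r = 2 := by omega
  have hFs : ∀ F : Finset ↥leechLattice, (F : Set ↥leechLattice) = Set.range (fun u => (ψ u • a).1) →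
      ∑ x ∈ F, x = s := fun F hF => by
    rw [show F = Finset.univ.image fun b => (o b).1 from Finset.coe_injective (by
      rw [hF, Finset.coe_image, Finset.coe_univ, Set.image_univ]
      ext v
      constructor
      · rintro ⟨u, rfl⟩
        obtain ⟨b, hb⟩ := hosurj (u • a) ⟨u, rfl⟩
        exact ⟨b, congrArg Subtype.val hb⟩
      · rintro ⟨b, rfl⟩
        obtain ⟨u, hu⟩ := homem b
        exact ⟨u, congrArg Subtype.val hu⟩),
      Finset.sum_image fun b _ c _ h => hoi (Subtype.ext h)]
  rcases hrv with h | h | h <;> rw [h] at hnorm hyf hyp hy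
  · refine ⟨⟨y, hymem⟩, hfix, fun F hF => Or.inl ⟨⟨show sqNorm y = 32 by omega, ?_⟩, ?_⟩⟩
    · simp only [List.forall_mem_cons]
      exact ⟨show dotInt (fiveElt : Vec) y = 16 by omega, show dotInt (pairElt : Vec) y = 0 by omega, by simp⟩
    · rw [hFs F hF]
      refine Subtype.ext ?_
      show (9 : ℤ) • y = (s : Vec) + (-4 : ℤ) • (fiveElt : Vec) + (-8 : ℤ) • (pairElt : Vec)
      rw [hy, hW]
      funext i
      simp only [Pi.add_apply, Pi.smul_apply, smul_eq_mul]
      ring
  · omega
  · refine ⟨-⟨y, hymem⟩, fun u => by rw [smul_neg', hfix], fun F hF => Or.inr ⟨⟨?_, ?_⟩, ?_⟩⟩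
    · show sqNorm (-y) = 32
      rw [show sqNorm (-y) = sqNorm y from Finset.sum_congr rfl fun i _ => neg_sq _]
      omega
    · have hneg : ∀ v : Vec, dotInt v (-y) = -dotInt v y := fun v => by simp [dotInt]
      simp only [List.forall_mem_cons]
      refine ⟨?_, ?_, by simp⟩
      · show dotInt (fiveElt : Vec) (-y) = 16; rw [hneg]; omega
      · show dotInt (pairElt : Vec) (-y) = 16; rw [hneg]; omega
    · rw [hFs F hF]
      refine Subtype.ext ?_
      show (9 : ℤ) • (-y) = -(s : Vec) + (10 : ℤ) • (fiveElt : Vec) + (8 : ℤ) • (pairElt : Vec)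
      rw [smul_neg, hy, hW]
      funext i
      simp only [Pi.add_apply, Pi.neg_apply, Pi.smul_apply, smul_eq_mul]
      ring

/-- A copy of M22 in McL fixes a vector of one of the two kinds. -/
theorem exists_fixed_vector (ψ : ↥M22pt →* ↥G) (hψ : Function.Injective ψ) :
    ∃ z : ↥leechLattice, (z ∈ DS [(fiveElt, (16 : ℤ)), (pairElt, 0)] ∨
      z ∈ DS [(fiveElt, (16 : ℤ)), (pairElt, 16)]) ∧ ∀ u, (ψ u).1 • z = z := by
  classical
  haveI := finite_P275
  letI : Fintype P275 := Fintype.ofFinite _
  letI : MulAction ↥M22pt P275 := MulAction.compHom P275 ψ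
  have hsmul : ∀ (u : ↥M22pt) (x : P275), u • x = ψ u • x := fun _ _ => rfl
  have hd : ∀ (u : ↥M22pt) (x y : P275), dP (u • x) (u • y) = dP x y := fun u x y => dP_smul (ψ u) x y
  haveI : Finite ↥G := Nat.finite_of_card_ne_zero (by rw [card_fix_mcl]; norm_num)
  have hlen : ∀ x : P275, (MulAction.orbit ↥M22pt x).ncard ∈ lengths := orbit_lengths ψ hψ
  obtain ⟨a, ha⟩ := exists_orbit_twenty_two card_P275 hlen
  obtain ⟨z, hz, hF⟩ := fixed_of_orbit ψ hψ a ha
  refine ⟨z, ?_, hz⟩
  have hfin : (Set.range fun u => (ψ u • a).1).Finite := Set.toFinite _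
  rcases hF hfin.toFinset hfin.coe_toFinset with h | h
  · exact Or.inl h.1
  · exact Or.inr h.1

end CfsgLib.Sporadic.MclOut
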