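import Cfsg.Agent.Lib.Sporadic.CoThreeOutPointStab
import Cfsg.Agent.Lib.Sporadic.MclOutFixed

/-!
# Every copy of M23 in Co3 fixes a vector of squared length 32 with inner product 8

Its orbit of length 23 among the 552 vectors, cut at one point, is an orbit of length 22 of a copy of
M22 in McL.
-/

set_option autoImplicit false

namespace CfsgLib.Sporadic.CoThreeOut

open Cfsg MulAction CfsgLib.Sporadic CfsgLib.Sporadic.Conway CfsgLib.ThreeTrans.Leech
open CfsgLib.Sporadic.IndexTwoTwo (M22pt card_M22pt)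
open CfsgLib.Sporadic.MclOut (norm_comb dot_symm five_values P275 fixed_of_orbit)
open scoped Pointwise

attribute [local irreducible] OTree.entries coThreeSplitsTree
attribute [local instance] MclOut.actP

set_option maxHeartbeats 1000000

/-- The 552 vectors. -/
def P552 : Type := {x : ↥leechLattice // x ∈ DS [(fiveElt, (24 : ℤ))]}

theorem card_P552 : Nat.card P552 = 552 := by
  rw [show Nat.card P552 = Nat.card ↥(DS [(fiveElt, (24 : ℤ))]) from rfl, Nat.card_coe_set_eq, split_set.1]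

/-- The group Co3 as a stabiliser. -/
noncomputable abbrev G3 : Subgroup ↥Co0 := fixGroup [fiveElt]

noncomputable local instance actS : MulAction ↥G3 P552 where
  smul g x := ⟨g.1 • x.1, smul_mem_DS (fun p hp => mem_fixGroup.1 g.2 p.1 (by
    simp at hp ⊢; rw [hp])) x.2⟩
  one_smul x := Subtype.ext (one_smul _ x.1)
  mul_smul a b x := Subtype.ext (mul_smul a.1 b.1 x.1)

theorem s_val (g : ↥G3) (x : P552) : (g • x).1 = g.1 • x.1 := rfl

theorem finite_G3 : Finite ↥G3 := Nat.finite_of_card_ne_zero (by rw [card_fix_five]; norm_num)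

theorem move (x : P552) : ∃ g : ↥G3, g.1 • x.1 = pairElt := by
  obtain ⟨g, hg, hgf⟩ := split_set.2.1 x.1 x.2 splitPt splitPt_mem
  exact ⟨⟨g, mem_fixGroup.2 hgf⟩, hg.trans splitPt_eq⟩

theorem trans_S : IsPretransitive ↥G3 P552 := ⟨fun x y => by
  obtain ⟨g, hg, hgf⟩ := split_set.2.1 x.1 x.2 y.1 y.2
  exact ⟨⟨g, mem_fixGroup.2 hgf⟩, Subtype.ext hg⟩⟩

theorem dot_cases {x y : P552} (h : x ≠ y) :
    dotInt (x.1 : Vec) (y.1 : Vec) = 8 ∨ dotInt (x.1 : Vec) (y.1 : Vec) = 16 ∨
      dotInt (x.1 : Vec) (y.1 : Vec) = -8 := by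
  obtain ⟨g, hg⟩ := move x
  rw [← dot_smul' g.1 x.1 y.1, hg]
  have hne : g.1 • y.1 ≠ splitPt := fun e => h (Subtype.ext (smul_left_cancel g.1
    (hg.trans (splitPt_eq ▸ e.symm))))
  rcases ds_values split_set.2.2 (r := splitPt) (root := 62062060636173731114942761100) rfl [8, 16, -8]
    (by decide +kernel) (g • y).2 with e | e
  · exact absurd e hne
  · rw [← splitPt_eq]
    simp only [List.mem_cons, List.not_mem_nil, or_false] at e
    exact e

/-- A copy of M23 in Co3 fixes a vector of the set of 48600. -/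
theorem exists_fixed_vector (ψ : ↥M23pt →* ↥G3) (hψ : Function.Injective ψ) :
    ∃ z : ↥leechLattice, z ∈ DS [(fiveElt, (8 : ℤ))] ∧ ∀ u, (ψ u).1 • z = z := by
  classical
  haveI : Finite P552 := Nat.finite_of_card_ne_zero (by rw [card_P552]; norm_num)
  haveI := finite_G3
  haveI := trans_S
  letI : MulAction ↥M23pt P552 := MulAction.compHom P552 ψ
  have hsmul : ∀ (u : ↥M23pt) (x : P552), u • x = ψ u • x := fun _ _ => rfl
  have hfix : ∀ x : P552, (MulAction.orbit ↥M23pt x).ncard ≠ 1 := by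
    intro x h1
    rw [← index_stabilizer] at h1
    have hle : ψ.range ≤ stabilizer ↥G3 x := by
      rintro _ ⟨u, rfl⟩
      exact (Subgroup.index_eq_one.1 h1 ▸ Subgroup.mem_top u : u ∈ stabilizer ↥M23pt x)
    have hs := (stabilizer ↥G3 x).card_mul_index
    rw [index_stabilizer_of_transitive, card_P552, card_fix_five] at hs
    have hdvd := Subgroup.card_dvd_of_le hle
    rw [← Nat.card_congr (MonoidHom.ofInjective hψ).toEquiv, card_M23pt,
      show Nat.card ↥(stabilizer ↥G3 x) = 898128000 by omega] at hdvd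
    norm_num at hdvd
  obtain ⟨a, ha⟩ := exists_orbit card_P552 hfix
  obtain ⟨o, hoi, ho⟩ := exists_natural ha
  haveI : Finite Pt23 := Nat.finite_of_card_ne_zero (by rw [card_pt23]; norm_num)
  letI : Fintype Pt23 := Fintype.ofFinite _
  have hcard23 : Fintype.card Pt23 = 23 := by rw [Fintype.card_eq_nat_card, card_pt23]
  obtain ⟨b₀, b₁, hb01⟩ : ∃ b b' : Pt23, b ≠ b' := Fintype.one_lt_card_iff.1 (by rw [hcard23]; norm_num)
  set k := dotInt ((o b₀).1 : Vec) ((o b₁).1 : Vec) with hk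
  have hkall : ∀ b c, b ≠ c → dotInt ((o b).1 : Vec) ((o c).1 : Vec) = k := by
    intro b c hbc
    obtain ⟨g, hg⟩ := exists_map_list (xs := [none, b₀.1, b₁.1]) (ys := [none, b.1, c.1])
      (by simp [b₀.2.symm, b₁.2.symm]; exact fun e => hb01 (Subtype.ext e))
      (by simp [b.2.symm, c.2.symm]; exact fun e => hbc (Subtype.ext e)) rfl (by simp)
    simp only [List.map_cons, List.map_nil, List.cons.injEq, and_true] at hg
    rw [hk, ← ho ⟨g, hg.1⟩ b₀ b hg.2.1, ← ho ⟨g, hg.1⟩ b₁ c hg.2.2, hsmul, hsmul, s_val, s_val, dot_smul']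
  let s : ↥leechLattice := ∑ b, (o b).1
  have hsdot : ∀ v : Vec, dotInt (s : Vec) v = ∑ b, dotInt ((o b).1 : Vec) v := fun v => by
    simp only [s, AddSubgroup.val_finsetSum, dotInt, Finset.sum_apply, Finset.sum_mul]
    rw [Finset.sum_comm]
  have hsf : dotInt (s : Vec) (fiveElt : Vec) = 552 := by
    rw [hsdot, Finset.sum_congr rfl fun b _ => (dot_symm _ _).trans ((o b).2.2 _ List.mem_cons_self),
      Finset.sum_const, Finset.card_univ, hcard23]
    rfl
  have hss : sqNorm (s : Vec) = 23 * (32 + 22 * k) := by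
    rw [show sqNorm (s : Vec) = dotInt (s : Vec) (s : Vec) from Finset.sum_congr rfl fun i _ => sq _, hsdot,
      Finset.sum_congr rfl (g := fun _ => 32 + 22 * k) fun b _ => ?_, Finset.sum_const, Finset.card_univ, hcard23]
    · simp
    rw [dot_symm, hsdot, ← Finset.add_sum_erase _ _ (Finset.mem_univ b),
      Finset.sum_congr rfl fun c hc => hkall c b (Finset.ne_of_mem_erase hc),
      show dotInt ((o b).1 : Vec) ((o b).1 : Vec) = sqNorm ((o b).1 : Vec) from
        Finset.sum_congr rfl fun i _ => (sq _).symm,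
      (o b).2.1, Finset.sum_const, Finset.card_erase_of_mem (Finset.mem_univ b), Finset.card_univ, hcard23]
    simp
  obtain ⟨f1, f2, f3, f4, f5, f6⟩ := five_values
  have hk16 : k = 16 := by
    have h0 : 0 ≤ sqNorm ((2 : ℤ) • (s : Vec) + (-23 : ℤ) • (fiveElt : Vec) + (0 : ℤ) • (pairElt : Vec)) :=
      Finset.sum_nonneg fun i _ => sq_nonneg _
    rw [norm_comb, hss, hsf, f1] at h0
    rcases dot_cases (fun e => hb01 (hoi e)) with h | h | h <;> rw [← hk] at h <;> rw [h] at h0 <;>
      first | exact h | norm_num at h0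
  -- cut at one point
  obtain ⟨g, hg⟩ := move (o b₀)
  obtain ⟨t, ht⟩ := exists_map_list (xs := [none, some 0]) (ys := [none, b₀.1]) (by simp) (by simp [b₀.2.symm])
    rfl (by simp)
  simp only [List.map_cons, List.map_nil, List.cons.injEq, and_true] at ht
  let t' : ↥M23pt := ⟨t, ht.1⟩
  let inc : ↥M22pt →* ↥M23pt :=
    (MulAut.conj t').toMonoidHom.comp (Subgroup.inclusion (inf_le_left : M22pt ≤ M23pt))
  let ψ₁ : ↥M22pt →* ↥G3 := (MulAut.conj g).toMonoidHom.comp (ψ.comp inc)
  have hfixb : ∀ u : ↥M22pt, ψ₁ u • (g • o b₀) = g • o b₀ := by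
    intro u
    show (g * ψ (inc u) * g⁻¹) • g • o b₀ = g • o b₀
    rw [mul_smul, mul_smul, inv_smul_smul, ← hsmul, ho (inc u) b₀ b₀]
    show (t * u.1 * t⁻¹) • b₀.1 = b₀.1
    have e0 : u.1 • (some 0 : GolayPt) = some 0 := u.2.2
    rw [mul_smul, mul_smul, show t⁻¹ • b₀.1 = some 0 from inv_smul_eq_iff.2 ht.2.symm, e0]
    exact ht.2
  have hmem : ∀ u, (ψ₁ u).1 ∈ MclOut.G := fun u => mem_fixGroup.2 fun v hv => by
    simp only [List.mem_cons, List.not_mem_nil, or_false] at hv
    rcases hv with rfl | rfl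
    · exact mem_fixGroup.1 (ψ₁ u).2 _ List.mem_cons_self
    · have h := congrArg Subtype.val (hfixb u)
      rwa [s_val, s_val, hg] at h
  let ψ₂ : ↥M22pt →* ↥MclOut.G :=
    { toFun := fun u => ⟨(ψ₁ u).1, hmem u⟩
      map_one' := Subtype.ext (by simp)
      map_mul' := fun a b => Subtype.ext (by simp) }
  have hψ₂ : Function.Injective ψ₂ := fun u v h => by
    have h1 : ψ₁ u = ψ₁ v := Subtype.ext (congrArg (fun w : ↥MclOut.G => w.1) h)
    exact Subgroup.inclusion_injective _ ((MulAut.conj t').injective (hψ ((MulAut.conj g).injective h1)))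
  have hmem275 : g.1 • (o b₁).1 ∈ DS [(fiveElt, (24 : ℤ)), (pairElt, 16)] := ⟨(g • o b₁).2.1, by
    simp only [List.forall_mem_cons]
    refine ⟨(g • o b₁).2.2 _ List.mem_cons_self, ?_, by simp⟩
    rw [← hg, dot_smul', ← hk, hk16]⟩
  let a₂ : P275 := ⟨g.1 • (o b₁).1, hmem275⟩
  let f : Pt23 → ↥leechLattice := fun b => g.1 • (o b).1
  have hfi : Function.Injective f := fun b c h => hoi (Subtype.ext (smul_left_cancel g.1 h))
  have hrange : Set.range (fun u => (ψ₂ u • a₂).1) = f '' {b | b ≠ b₀} := by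
    ext v
    constructor
    · rintro ⟨u, rfl⟩
      refine ⟨⟨(inc u).1.1 b₁.1, fun e => b₁.2 ((inc u).1.1.injective (e.trans (inc u).2.symm))⟩, fun e => ?_, ?_⟩
      · have e' : (inc u).1.1 b₁.1 = b₀.1 := congrArg Subtype.val e
        have e0 : (inc u).1.1 b₀.1 = b₀.1 := by
          have := congrArg Subtype.val (hfixb u)
          show (t * u.1 * t⁻¹) • b₀.1 = b₀.1
          have e0 : u.1 • (some 0 : GolayPt) = some 0 := u.2.2
          rw [mul_smul, mul_smul, show t⁻¹ • b₀.1 = some 0 from inv_smul_eq_iff.2 ht.2.symm, e0]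
          exact ht.2
        exact hb01 (Subtype.ext ((inc u).1.1.injective (e0.trans e'.symm)))
      · show g.1 • (o ⟨(inc u).1.1 b₁.1, _⟩).1 = (ψ₁ u).1 • g.1 • (o b₁).1
        rw [← s_val, ← ho (inc u) b₁ ⟨(inc u).1.1 b₁.1,
          fun e => b₁.2 ((inc u).1.1.injective (e.trans (inc u).2.symm))⟩ rfl, hsmul, ← s_val, ← s_val,
          show ψ₁ u = g * ψ (inc u) * g⁻¹ from rfl, mul_smul, mul_smul, inv_smul_smul]
    · rintro ⟨b, hb, rfl⟩
      obtain ⟨v, hv⟩ := exists_map_list (xs := [none, some 0, t⁻¹ • b₁.1]) (ys := [none, some 0, t⁻¹ • b.1])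
        (by
          have h1 : t⁻¹ • b₁.1 ≠ none := fun e => b₁.2 (by rw [inv_smul_eq_iff] at e; exact e.trans ht.1)
          have h2 : t⁻¹ • b₁.1 ≠ some 0 := fun e => hb01 (Subtype.ext (by
            rw [inv_smul_eq_iff] at e; exact (e.trans ht.2).symm))
          simp [h1.symm, h2.symm])
        (by
          have h1 : t⁻¹ • b.1 ≠ none := fun e => b.2 (by rw [inv_smul_eq_iff] at e; exact e.trans ht.1)
          have h2 : t⁻¹ • b.1 ≠ some 0 := fun e => hb (Subtype.ext (by
            rw [inv_smul_eq_iff] at e; exact e.trans ht.2))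
          simp [h1.symm, h2.symm])
        rfl (by simp)
      simp only [List.map_cons, List.map_nil, List.cons.injEq, and_true] at hv
      let u : ↥M22pt := ⟨v, hv.1, hv.2.1⟩
      refine ⟨u, ?_⟩
      show (ψ₁ u).1 • g.1 • (o b₁).1 = g.1 • (o b).1
      rw [← s_val, ← s_val, ← s_val, show ψ₁ u = g * ψ (inc u) * g⁻¹ from rfl, mul_smul, mul_smul,
        inv_smul_smul, ← hsmul, ho (inc u) b₁ b]
      show (t * v * t⁻¹) • b₁.1 = b.1
      rw [mul_smul, mul_smul, show v • t⁻¹ • b₁.1 = t⁻¹ • b.1 from hv.2.2, smul_inv_smul]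
  let F : Finset ↥leechLattice := (Finset.univ.erase b₀).image f
  have hF : (F : Set ↥leechLattice) = Set.range (fun u => (ψ₂ u • a₂).1) := by
    rw [hrange, Finset.coe_image]
    congr 1
    ext b
    simp
  have hcard : (Set.range fun u => ψ₂ u • a₂).ncard = 22 := by
    rw [← Set.ncard_image_of_injective (f := fun x : P275 => x.1) _ (fun x y h => Subtype.ext h),
      ← Set.range_comp]
    show (Set.range fun u => (ψ₂ u • a₂).1).ncard = 22
    rw [← hF, Set.ncard_coe_finset, Finset.card_image_of_injective _ hfi,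
      Finset.card_erase_of_mem (Finset.mem_univ b₀), Finset.card_univ, hcard23]
  obtain ⟨z, -, hz⟩ := fixed_of_orbit ψ₂ hψ₂ a₂ hcard
  have hgs : g.1 • s = pairElt + ∑ x ∈ F, x := by
    show linOf g.1 s = _
    simp only [s, map_sum]
    rw [Finset.sum_image fun b _ c _ h => hfi h, ← Finset.add_sum_erase _ _ (Finset.mem_univ b₀)]
    exact congrArg (· + _) hg
  have hg5 : g.1 • fiveElt = fiveElt := mem_fixGroup.1 g.2 _ List.mem_cons_self
  have hg5' : g.1⁻¹ • fiveElt = fiveElt := inv_smul_eq_iff.2 hg5.symm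
  have hsfix : ∀ u, (ψ u).1 • s = s := by
    intro u
    let p : Pt23 → Pt23 := fun b => ⟨u.1.1 b.1, fun e => b.2 (u.1.1.injective (e.trans u.2.symm))⟩
    have hp : Function.Bijective p := Finite.injective_iff_bijective.1 fun b c h =>
      Subtype.ext (u.1.1.injective (congrArg Subtype.val h))
    show linOf (ψ u).1 s = s
    simp only [s, map_sum]
    refine Fintype.sum_bijective p hp _ _ fun b => ?_
    show (ψ u).1 • (o b).1 = _
    rw [← s_val, ← hsmul, ho u b (p b) rfl]
  -- the vector, up to the moving element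
  obtain ⟨w, hw, c1, c2, hwe⟩ : ∃ w : ↥leechLattice, w ∈ DS [(fiveElt, (8 : ℤ))] ∧ ∃ c1 c2 : ℤ,
      (9 : ℤ) • w = c1 • (g.1 • s) + c2 • fiveElt := by
    rcases hz F hF with ⟨hzm, he⟩ | ⟨hzm, he⟩
    · have e5 : dotInt (fiveElt : Vec) (z : Vec) = 16 := hzm.2 _ List.mem_cons_self
      have ep : dotInt (pairElt : Vec) (z : Vec) = 0 := hzm.2 (pairElt, 0) (by simp)
      refine ⟨fiveElt - pairElt - z, ⟨?_, ?_⟩, -1, 13, ?_⟩
      · rw [show ((fiveElt - pairElt - z : ↥leechLattice) : Vec) =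
            (1 : ℤ) • (fiveElt : Vec) + (-1 : ℤ) • (pairElt : Vec) + (-1 : ℤ) • (z : Vec) by
            simp only [AddSubgroup.coe_sub, one_smul, neg_smul]; abel,
          norm_comb, f1, f2, hzm.1, f3, e5, ep]
        norm_num
      · simp only [List.forall_mem_cons]
        refine ⟨?_, by simp⟩
        show dotInt (fiveElt : Vec) ((fiveElt : Vec) - (pairElt : Vec) - (z : Vec)) = 8
        rw [show dotInt (fiveElt : Vec) ((fiveElt : Vec) - (pairElt : Vec) - (z : Vec)) =
            dotInt (fiveElt : Vec) (fiveElt : Vec) - dotInt (fiveElt : Vec) (pairElt : Vec) -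
              dotInt (fiveElt : Vec) (z : Vec) by
            simp only [dotInt, Pi.sub_apply, mul_sub, Finset.sum_sub_distrib],
          f5, f3, e5]
        norm_num
      · rw [smul_sub, he, hgs]
        module
    · have e5 : dotInt (fiveElt : Vec) (z : Vec) = 16 := hzm.2 _ List.mem_cons_self
      have ep : dotInt (pairElt : Vec) (z : Vec) = 16 := hzm.2 (pairElt, 16) (by simp)
      refine ⟨pairElt - z, ⟨?_, ?_⟩, 1, -10, ?_⟩
      · rw [show ((pairElt - z : ↥leechLattice) : Vec) =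
            (1 : ℤ) • (pairElt : Vec) + (-1 : ℤ) • (z : Vec) + (0 : ℤ) • (z : Vec) by
            simp only [AddSubgroup.coe_sub, one_smul, neg_smul, zero_smul, add_zero]; abel,
          norm_comb, f2, hzm.1, ep]
        norm_num
      · simp only [List.forall_mem_cons]
        refine ⟨?_, by simp⟩
        show dotInt (fiveElt : Vec) ((pairElt : Vec) - (z : Vec)) = 8
        rw [show dotInt (fiveElt : Vec) ((pairElt : Vec) - (z : Vec)) =
            dotInt (fiveElt : Vec) (pairElt : Vec) - dotInt (fiveElt : Vec) (z : Vec) by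
            simp only [dotInt, Pi.sub_apply, mul_sub, Finset.sum_sub_distrib],
          f3, e5]
        norm_num
      · rw [smul_sub, he, hgs]
        module
  refine ⟨g.1⁻¹ • w, smul_mem_DS (fun p hp => ?_) hw, fun u => ?_⟩
  · simp only [List.mem_cons, List.not_mem_nil, or_false] at hp
    rw [hp]
    exact hg5'
  have e : (9 : ℕ) • (g.1⁻¹ • w) = c1 • s + c2 • fiveElt := by
    rw [← smul_nsmul', ← natCast_zsmul w 9, show ((9 : ℕ) : ℤ) = 9 from rfl, hwe]
    show linOf g.1⁻¹ _ = _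
    rw [map_add, map_zsmul, map_zsmul]
    show c1 • (g.1⁻¹ • g.1 • s) + c2 • (g.1⁻¹ • fiveElt) = _
    rw [inv_smul_smul, hg5']
  refine nsmul_lattice_inj (n := 9) (by norm_num) ?_
  rw [← smul_nsmul', e]
  show linOf (ψ u).1 _ = _
  rw [map_add, map_zsmul, map_zsmul]
  show c1 • ((ψ u).1 • s) + c2 • ((ψ u).1 • fiveElt) = _
  rw [hsfix, mem_fixGroup.1 (ψ u).2 _ List.mem_cons_self]

end CfsgLib.Sporadic.CoThreeOut
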