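import Cfsg.Agent.Lib.Sporadic.OrbitCoTwoMidData

/-!
# Certificate of one orbit, generated by a search
-/

set_option autoImplicit false
set_option maxRecDepth 100000
set_option Elab.async false

namespace CfsgLib.Sporadic.Conway

theorem coTwoMidPart11_desc : OTree.descends coTwoMidGens 47536897508558602556126370197 coTwoMidTree coTwoMidPart11 = true := by
  decide +kernel

theorem coTwoMidPart12_desc : OTree.descends coTwoMidGens 47536897508558602556126370197 coTwoMidTree coTwoMidPart12 = true := by
  decide +kernel

theorem coTwoMidPart13_desc : OTree.descends coTwoMidGens 47536897508558602556126370197 coTwoMidTree coTwoMidPart13 = true := by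
  decide +kernel

theorem coTwoMidPart14_desc : OTree.descends coTwoMidGens 47536897508558602556126370197 coTwoMidTree coTwoMidPart14 = true := by
  decide +kernel

theorem coTwoMidPart15_desc : OTree.descends coTwoMidGens 47536897508558602556126370197 coTwoMidTree coTwoMidPart15 = true := by
  decide +kernel

theorem coTwoMidPart16_desc : OTree.descends coTwoMidGens 47536897508558602556126370197 coTwoMidTree coTwoMidPart16 = true := by
  decide +kernel

theorem coTwoMidPart17_desc : OTree.descends coTwoMidGens 47536897508558602556126370197 coTwoMidTree coTwoMidPart17 = true := by
  decide +kernel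

theorem coTwoMidPart18_desc : OTree.descends coTwoMidGens 47536897508558602556126370197 coTwoMidTree coTwoMidPart18 = true := by
  decide +kernel

theorem coTwoMidPart19_desc : OTree.descends coTwoMidGens 47536897508558602556126370197 coTwoMidTree coTwoMidPart19 = true := by
  decide +kernel

theorem coTwoMidPart20_desc : OTree.descends coTwoMidGens 47536897508558602556126370197 coTwoMidTree coTwoMidPart20 = true := by
  decide +kernel

theorem coTwoMidPart21_desc : OTree.descends coTwoMidGens 47536897508558602556126370197 coTwoMidTree coTwoMidPart21 = true := by
  decide +kernel

end CfsgLib.Sporadic.Conway
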