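import Cfsg.Agent.Lib.Sporadic.OrbitCoTwoMidData

/-!
# Certificate of one orbit, generated by a search
-/

set_option autoImplicit false
set_option maxRecDepth 100000
set_option Elab.async false

namespace CfsgLib.Sporadic.Conway

theorem coTwoMidPart22_desc : OTree.descends coTwoMidGens 47536897508558602556126370197 coTwoMidTree coTwoMidPart22 = true := by
  decide +kernel

theorem coTwoMidPart23_desc : OTree.descends coTwoMidGens 47536897508558602556126370197 coTwoMidTree coTwoMidPart23 = true := by
  decide +kernel

theorem coTwoMidPart24_desc : OTree.descends coTwoMidGens 47536897508558602556126370197 coTwoMidTree coTwoMidPart24 = true := by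
  decide +kernel

theorem coTwoMidPart25_desc : OTree.descends coTwoMidGens 47536897508558602556126370197 coTwoMidTree coTwoMidPart25 = true := by
  decide +kernel

theorem coTwoMidPart26_desc : OTree.descends coTwoMidGens 47536897508558602556126370197 coTwoMidTree coTwoMidPart26 = true := by
  decide +kernel

theorem coTwoMidPart27_desc : OTree.descends coTwoMidGens 47536897508558602556126370197 coTwoMidTree coTwoMidPart27 = true := by
  decide +kernel

theorem coTwoMidPart28_desc : OTree.descends coTwoMidGens 47536897508558602556126370197 coTwoMidTree coTwoMidPart28 = true := by
  decide +kernel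

theorem coTwoMidPart29_desc : OTree.descends coTwoMidGens 47536897508558602556126370197 coTwoMidTree coTwoMidPart29 = true := by
  decide +kernel

theorem coTwoMidPart30_desc : OTree.descends coTwoMidGens 47536897508558602556126370197 coTwoMidTree coTwoMidPart30 = true := by
  decide +kernel

theorem coTwoMidPart31_desc : OTree.descends coTwoMidGens 47536897508558602556126370197 coTwoMidTree coTwoMidPart31 = true := by
  decide +kernel

theorem coTwoMidPart32_desc : OTree.descends coTwoMidGens 47536897508558602556126370197 coTwoMidTree coTwoMidPart32 = true := by
  decide +kernel

end CfsgLib.Sporadic.Conway
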