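import Cfsg.Agent.Lib.Sporadic.OrbitCoTwoMidData

/-!
# Certificate of one orbit, generated by a search
-/

set_option autoImplicit false
set_option maxRecDepth 100000
set_option Elab.async false

namespace CfsgLib.Sporadic.Conway

theorem coTwoMidPart33_desc : OTree.descends coTwoMidGens 47536897508558602556126370197 coTwoMidTree coTwoMidPart33 = true := by
  decide +kernel

theorem coTwoMidPart34_desc : OTree.descends coTwoMidGens 47536897508558602556126370197 coTwoMidTree coTwoMidPart34 = true := by
  decide +kernel

theorem coTwoMidPart35_desc : OTree.descends coTwoMidGens 47536897508558602556126370197 coTwoMidTree coTwoMidPart35 = true := by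
  decide +kernel

theorem coTwoMidPart36_desc : OTree.descends coTwoMidGens 47536897508558602556126370197 coTwoMidTree coTwoMidPart36 = true := by
  decide +kernel

theorem coTwoMidPart37_desc : OTree.descends coTwoMidGens 47536897508558602556126370197 coTwoMidTree coTwoMidPart37 = true := by
  decide +kernel

theorem coTwoMidPart38_desc : OTree.descends coTwoMidGens 47536897508558602556126370197 coTwoMidTree coTwoMidPart38 = true := by
  decide +kernel

theorem coTwoMidPart39_desc : OTree.descends coTwoMidGens 47536897508558602556126370197 coTwoMidTree coTwoMidPart39 = true := by
  decide +kernel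

theorem coTwoMidPart40_desc : OTree.descends coTwoMidGens 47536897508558602556126370197 coTwoMidTree coTwoMidPart40 = true := by
  decide +kernel

theorem coTwoMidPart41_desc : OTree.descends coTwoMidGens 47536897508558602556126370197 coTwoMidTree coTwoMidPart41 = true := by
  decide +kernel

theorem coTwoMidPart42_desc : OTree.descends coTwoMidGens 47536897508558602556126370197 coTwoMidTree coTwoMidPart42 = true := by
  decide +kernel

theorem coTwoMidPart43_desc : OTree.descends coTwoMidGens 47536897508558602556126370197 coTwoMidTree coTwoMidPart43 = true := by
  decide +kernel

end CfsgLib.Sporadic.Conway
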