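import Cfsg.Agent.Lib.Sporadic.OrbitCoTwoMidData

/-!
# Certificate of one orbit, generated by a search
-/

set_option autoImplicit false
set_option maxRecDepth 100000
set_option Elab.async false

namespace CfsgLib.Sporadic.Conway

theorem coTwoMidPart44_desc : OTree.descends coTwoMidGens 47536897508558602556126370197 coTwoMidTree coTwoMidPart44 = true := by
  decide +kernel

theorem coTwoMidPart45_desc : OTree.descends coTwoMidGens 47536897508558602556126370197 coTwoMidTree coTwoMidPart45 = true := by
  decide +kernel

theorem coTwoMidPart46_desc : OTree.descends coTwoMidGens 47536897508558602556126370197 coTwoMidTree coTwoMidPart46 = true := by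
  decide +kernel

theorem coTwoMidPart47_desc : OTree.descends coTwoMidGens 47536897508558602556126370197 coTwoMidTree coTwoMidPart47 = true := by
  decide +kernel

theorem coTwoMidPart48_desc : OTree.descends coTwoMidGens 47536897508558602556126370197 coTwoMidTree coTwoMidPart48 = true := by
  decide +kernel

theorem coTwoMidPart49_desc : OTree.descends coTwoMidGens 47536897508558602556126370197 coTwoMidTree coTwoMidPart49 = true := by
  decide +kernel

theorem coTwoMidPart50_desc : OTree.descends coTwoMidGens 47536897508558602556126370197 coTwoMidTree coTwoMidPart50 = true := by
  decide +kernel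

theorem coTwoMidPart51_desc : OTree.descends coTwoMidGens 47536897508558602556126370197 coTwoMidTree coTwoMidPart51 = true := by
  decide +kernel

theorem coTwoMidPart52_desc : OTree.descends coTwoMidGens 47536897508558602556126370197 coTwoMidTree coTwoMidPart52 = true := by
  decide +kernel

theorem coTwoMidPart53_desc : OTree.descends coTwoMidGens 47536897508558602556126370197 coTwoMidTree coTwoMidPart53 = true := by
  decide +kernel

theorem coTwoMidPart54_desc : OTree.descends coTwoMidGens 47536897508558602556126370197 coTwoMidTree coTwoMidPart54 = true := by
  decide +kernel

end CfsgLib.Sporadic.Conway
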