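import Cfsg.Agent.Lib.Sporadic.OrbitCoTwoMidData

/-!
# Certificate of one orbit, generated by a search
-/

set_option autoImplicit false
set_option maxRecDepth 100000
set_option Elab.async false

namespace CfsgLib.Sporadic.Conway

theorem coTwoMidPart55_desc : OTree.descends coTwoMidGens 47536897508558602556126370197 coTwoMidTree coTwoMidPart55 = true := by
  decide +kernel

theorem coTwoMidPart56_desc : OTree.descends coTwoMidGens 47536897508558602556126370197 coTwoMidTree coTwoMidPart56 = true := by
  decide +kernel

theorem coTwoMidPart57_desc : OTree.descends coTwoMidGens 47536897508558602556126370197 coTwoMidTree coTwoMidPart57 = true := by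
  decide +kernel

theorem coTwoMidPart58_desc : OTree.descends coTwoMidGens 47536897508558602556126370197 coTwoMidTree coTwoMidPart58 = true := by
  decide +kernel

theorem coTwoMidPart59_desc : OTree.descends coTwoMidGens 47536897508558602556126370197 coTwoMidTree coTwoMidPart59 = true := by
  decide +kernel

theorem coTwoMidPart60_desc : OTree.descends coTwoMidGens 47536897508558602556126370197 coTwoMidTree coTwoMidPart60 = true := by
  decide +kernel

theorem coTwoMidPart61_desc : OTree.descends coTwoMidGens 47536897508558602556126370197 coTwoMidTree coTwoMidPart61 = true := by
  decide +kernel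

theorem coTwoMidPart62_desc : OTree.descends coTwoMidGens 47536897508558602556126370197 coTwoMidTree coTwoMidPart62 = true := by
  decide +kernel

theorem coTwoMidPart63_desc : OTree.descends coTwoMidGens 47536897508558602556126370197 coTwoMidTree coTwoMidPart63 = true := by
  decide +kernel

end CfsgLib.Sporadic.Conway
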