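import Cfsg.Agent.Lib.Sporadic.OrbitCoTwoMidCheck0
import Cfsg.Agent.Lib.Sporadic.OrbitCoTwoMidCheck1
import Cfsg.Agent.Lib.Sporadic.OrbitCoTwoMidCheck2
import Cfsg.Agent.Lib.Sporadic.OrbitCoTwoMidCheck3
import Cfsg.Agent.Lib.Sporadic.OrbitCoTwoMidCheck4
import Cfsg.Agent.Lib.Sporadic.OrbitCoTwoMidCheck5

/-!
# Certificate of one orbit, generated by a search
-/

set_option autoImplicit false
set_option maxRecDepth 100000
set_option Elab.async false

namespace CfsgLib.Sporadic.Conway

theorem coTwoMid_ok : orbitOK coTwoMidGens [62062060636173731114942761100] 47536897508558602556126370197 coTwoMidTree 47104 = true :=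
  orbitOK_of (by decide +kernel) (by decide +kernel) (by decide +kernel)
    (descends_node (by decide +kernel) (descends_node (by decide +kernel) (descends_node (by decide +kernel) (descends_node (by decide +kernel) (descends_node (by decide +kernel) (descends_node (by decide +kernel) coTwoMidPart0_desc coTwoMidPart1_desc) (descends_node (by decide +kernel) coTwoMidPart2_desc coTwoMidPart3_desc)) (descends_node (by decide +kernel) (descends_node (by decide +kernel) coTwoMidPart4_desc coTwoMidPart5_desc) (descends_node (by decide +kernel) coTwoMidPart6_desc coTwoMidPart7_desc))) (descends_node (by decide +kernel) (descends_node (by decide +kernel) (descends_node (by decide +kernel) coTwoMidPart8_desc coTwoMidPart9_desc) (descends_node (by decide +kernel) coTwoMidPart10_desc coTwoMidPart11_desc)) (descends_node (by decide +kernel) (descends_node (by decide +kernel) coTwoMidPart12_desc coTwoMidPart13_desc) (descends_node (by decide +kernel) coTwoMidPart14_desc coTwoMidPart15_desc)))) (descends_node (by decide +kernel) (descends_node (by decide +kernel) (descends_node (by decide +kernel) (descends_node (by decide +kernel) coTwoMidPart16_desc coTwoMidPart17_desc) (descends_node (by decide +kernel)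 coTwoMidPart18_desc coTwoMidPart19_desc)) (descends_node (by decide +kernel) (descends_node (by decide +kernel) coTwoMidPart20_desc coTwoMidPart21_desc) (descends_node (by decide +kernel) coTwoMidPart22_desc coTwoMidPart23_desc))) (descends_node (by decide +kernel) (descends_node (by decide +kernel) (descends_node (by decide +kernel) coTwoMidPart24_desc coTwoMidPart25_desc) (descends_node (by decide +kernel) coTwoMidPart26_desc coTwoMidPart27_desc)) (descends_node (by decide +kernel) (descends_node (by decide +kernel) coTwoMidPart28_desc coTwoMidPart29_desc) (descends_node (by decide +kernel) coTwoMidPart30_desc coTwoMidPart31_desc))))) (descends_node (by decide +kernel) (descends_node (by decide +kernel) (descends_node (by decide +kernel) (descends_node (by decide +kernel) (descends_node (by decide +kernel) coTwoMidPart32_desc coTwoMidPart33_desc) (descends_node (by decide +kernel) coTwoMidPart34_desc coTwoMidPart35_desc)) (descends_node (by decide +kernel) (descends_node (by decide +kernel) coTwoMidPart36_desc coTwoMidPart37_desc) (descends_node (by decide +kernel) coTwoMidPart38_desc coTwoMidPart39_desc))) (descends_node (by decide +kernel) (descends_node (by decide +kernel) (descends_node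 (by decide +kernel) coTwoMidPart40_desc coTwoMidPart41_desc) (descends_node (by decide +kernel) coTwoMidPart42_desc coTwoMidPart43_desc)) (descends_node (by decide +kernel) (descends_node (by decide +kernel) coTwoMidPart44_desc coTwoMidPart45_desc) (descends_node (by decide +kernel) coTwoMidPart46_desc coTwoMidPart47_desc)))) (descends_node (by decide +kernel) (descends_node (by decide +kernel) (descends_node (by decide +kernel) (descends_node (by decide +kernel) coTwoMidPart48_desc coTwoMidPart49_desc) (descends_node (by decide +kernel) coTwoMidPart50_desc coTwoMidPart51_desc)) (descends_node (by decide +kernel) (descends_node (by decide +kernel) coTwoMidPart52_desc coTwoMidPart53_desc) (descends_node (by decide +kernel) coTwoMidPart54_desc coTwoMidPart55_desc))) (descends_node (by decide +kernel) (descends_node (by decide +kernel) (descends_node (by decide +kernel) coTwoMidPart56_desc coTwoMidPart57_desc) (descends_node (by decide +kernel) coTwoMidPart58_desc coTwoMidPart59_desc)) (descends_node (by decide +kernel) (descends_node (by decide +kernel) coTwoMidPart60_desc coTwoMidPart61_desc) (descends_node (by decide +kernel) coTwoMidPart62_desc coTwoMidPart63_desc))))))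

end CfsgLib.Sporadic.Conway
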