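import Cfsg.Agent.Lib.Sporadic.OrbitCoTwoOrthData

/-!
# Certificate of one orbit, generated by a search
-/

set_option autoImplicit false
set_option maxRecDepth 100000
set_option Elab.async false

namespace CfsgLib.Sporadic.Conway

theorem coTwoOrthPart11_desc : OTree.descends coTwoOrthGens 62062060636173731114942761092 coTwoOrthTree coTwoOrthPart11 = true := by
  decide +kernel

theorem coTwoOrthPart12_desc : OTree.descends coTwoOrthGens 62062060636173731114942761092 coTwoOrthTree coTwoOrthPart12 = true := by
  decide +kernel

theorem coTwoOrthPart13_desc : OTree.descends coTwoOrthGens 62062060636173731114942761092 coTwoOrthTree coTwoOrthPart13 = true := by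
  decide +kernel

theorem coTwoOrthPart14_desc : OTree.descends coTwoOrthGens 62062060636173731114942761092 coTwoOrthTree coTwoOrthPart14 = true := by
  decide +kernel

theorem coTwoOrthPart15_desc : OTree.descends coTwoOrthGens 62062060636173731114942761092 coTwoOrthTree coTwoOrthPart15 = true := by
  decide +kernel

theorem coTwoOrthPart16_desc : OTree.descends coTwoOrthGens 62062060636173731114942761092 coTwoOrthTree coTwoOrthPart16 = true := by
  decide +kernel

theorem coTwoOrthPart17_desc : OTree.descends coTwoOrthGens 62062060636173731114942761092 coTwoOrthTree coTwoOrthPart17 = true := by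
  decide +kernel

theorem coTwoOrthPart18_desc : OTree.descends coTwoOrthGens 62062060636173731114942761092 coTwoOrthTree coTwoOrthPart18 = true := by
  decide +kernel

theorem coTwoOrthPart19_desc : OTree.descends coTwoOrthGens 62062060636173731114942761092 coTwoOrthTree coTwoOrthPart19 = true := by
  decide +kernel

theorem coTwoOrthPart20_desc : OTree.descends coTwoOrthGens 62062060636173731114942761092 coTwoOrthTree coTwoOrthPart20 = true := by
  decide +kernel

theorem coTwoOrthPart21_desc : OTree.descends coTwoOrthGens 62062060636173731114942761092 coTwoOrthTree coTwoOrthPart21 = true := by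
  decide +kernel

end CfsgLib.Sporadic.Conway
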