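import Cfsg.Agent.Lib.Sporadic.OrbitCoTwoOrthData

/-!
# Certificate of one orbit, generated by a search
-/

set_option autoImplicit false
set_option maxRecDepth 100000
set_option Elab.async false

namespace CfsgLib.Sporadic.Conway

theorem coTwoOrthPart110_desc : OTree.descends coTwoOrthGens 62062060636173731114942761092 coTwoOrthTree coTwoOrthPart110 = true := by
  decide +kernel

theorem coTwoOrthPart111_desc : OTree.descends coTwoOrthGens 62062060636173731114942761092 coTwoOrthTree coTwoOrthPart111 = true := by
  decide +kernel

theorem coTwoOrthPart112_desc : OTree.descends coTwoOrthGens 62062060636173731114942761092 coTwoOrthTree coTwoOrthPart112 = true := by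
  decide +kernel

theorem coTwoOrthPart113_desc : OTree.descends coTwoOrthGens 62062060636173731114942761092 coTwoOrthTree coTwoOrthPart113 = true := by
  decide +kernel

theorem coTwoOrthPart114_desc : OTree.descends coTwoOrthGens 62062060636173731114942761092 coTwoOrthTree coTwoOrthPart114 = true := by
  decide +kernel

theorem coTwoOrthPart115_desc : OTree.descends coTwoOrthGens 62062060636173731114942761092 coTwoOrthTree coTwoOrthPart115 = true := by
  decide +kernel

theorem coTwoOrthPart116_desc : OTree.descends coTwoOrthGens 62062060636173731114942761092 coTwoOrthTree coTwoOrthPart116 = true := by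
  decide +kernel

theorem coTwoOrthPart117_desc : OTree.descends coTwoOrthGens 62062060636173731114942761092 coTwoOrthTree coTwoOrthPart117 = true := by
  decide +kernel

theorem coTwoOrthPart118_desc : OTree.descends coTwoOrthGens 62062060636173731114942761092 coTwoOrthTree coTwoOrthPart118 = true := by
  decide +kernel

theorem coTwoOrthPart119_desc : OTree.descends coTwoOrthGens 62062060636173731114942761092 coTwoOrthTree coTwoOrthPart119 = true := by
  decide +kernel

theorem coTwoOrthPart120_desc : OTree.descends coTwoOrthGens 62062060636173731114942761092 coTwoOrthTree coTwoOrthPart120 = true := by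
  decide +kernel

end CfsgLib.Sporadic.Conway
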