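import Cfsg.Agent.Lib.Sporadic.OrbitCoTwoOrthData

/-!
# Certificate of one orbit, generated by a search
-/

set_option autoImplicit false
set_option maxRecDepth 100000
set_option Elab.async false

namespace CfsgLib.Sporadic.Conway

theorem coTwoOrthPart132_desc : OTree.descends coTwoOrthGens 62062060636173731114942761092 coTwoOrthTree coTwoOrthPart132 = true := by
  decide +kernel

theorem coTwoOrthPart133_desc : OTree.descends coTwoOrthGens 62062060636173731114942761092 coTwoOrthTree coTwoOrthPart133 = true := by
  decide +kernel

theorem coTwoOrthPart134_desc : OTree.descends coTwoOrthGens 62062060636173731114942761092 coTwoOrthTree coTwoOrthPart134 = true := by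
  decide +kernel

theorem coTwoOrthPart135_desc : OTree.descends coTwoOrthGens 62062060636173731114942761092 coTwoOrthTree coTwoOrthPart135 = true := by
  decide +kernel

theorem coTwoOrthPart136_desc : OTree.descends coTwoOrthGens 62062060636173731114942761092 coTwoOrthTree coTwoOrthPart136 = true := by
  decide +kernel

theorem coTwoOrthPart137_desc : OTree.descends coTwoOrthGens 62062060636173731114942761092 coTwoOrthTree coTwoOrthPart137 = true := by
  decide +kernel

theorem coTwoOrthPart138_desc : OTree.descends coTwoOrthGens 62062060636173731114942761092 coTwoOrthTree coTwoOrthPart138 = true := by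
  decide +kernel

theorem coTwoOrthPart139_desc : OTree.descends coTwoOrthGens 62062060636173731114942761092 coTwoOrthTree coTwoOrthPart139 = true := by
  decide +kernel

theorem coTwoOrthPart140_desc : OTree.descends coTwoOrthGens 62062060636173731114942761092 coTwoOrthTree coTwoOrthPart140 = true := by
  decide +kernel

theorem coTwoOrthPart141_desc : OTree.descends coTwoOrthGens 62062060636173731114942761092 coTwoOrthTree coTwoOrthPart141 = true := by
  decide +kernel

theorem coTwoOrthPart142_desc : OTree.descends coTwoOrthGens 62062060636173731114942761092 coTwoOrthTree coTwoOrthPart142 = true := by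
  decide +kernel

end CfsgLib.Sporadic.Conway
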