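import Cfsg.Agent.Lib.Sporadic.OrbitCoTwoOrthData

/-!
# Certificate of one orbit, generated by a search
-/

set_option autoImplicit false
set_option maxRecDepth 100000
set_option Elab.async false

namespace CfsgLib.Sporadic.Conway

theorem coTwoOrthPart143_desc : OTree.descends coTwoOrthGens 62062060636173731114942761092 coTwoOrthTree coTwoOrthPart143 = true := by
  decide +kernel

theorem coTwoOrthPart144_desc : OTree.descends coTwoOrthGens 62062060636173731114942761092 coTwoOrthTree coTwoOrthPart144 = true := by
  decide +kernel

theorem coTwoOrthPart145_desc : OTree.descends coTwoOrthGens 62062060636173731114942761092 coTwoOrthTree coTwoOrthPart145 = true := by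
  decide +kernel

theorem coTwoOrthPart146_desc : OTree.descends coTwoOrthGens 62062060636173731114942761092 coTwoOrthTree coTwoOrthPart146 = true := by
  decide +kernel

theorem coTwoOrthPart147_desc : OTree.descends coTwoOrthGens 62062060636173731114942761092 coTwoOrthTree coTwoOrthPart147 = true := by
  decide +kernel

theorem coTwoOrthPart148_desc : OTree.descends coTwoOrthGens 62062060636173731114942761092 coTwoOrthTree coTwoOrthPart148 = true := by
  decide +kernel

theorem coTwoOrthPart149_desc : OTree.descends coTwoOrthGens 62062060636173731114942761092 coTwoOrthTree coTwoOrthPart149 = true := by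
  decide +kernel

theorem coTwoOrthPart150_desc : OTree.descends coTwoOrthGens 62062060636173731114942761092 coTwoOrthTree coTwoOrthPart150 = true := by
  decide +kernel

theorem coTwoOrthPart151_desc : OTree.descends coTwoOrthGens 62062060636173731114942761092 coTwoOrthTree coTwoOrthPart151 = true := by
  decide +kernel

theorem coTwoOrthPart152_desc : OTree.descends coTwoOrthGens 62062060636173731114942761092 coTwoOrthTree coTwoOrthPart152 = true := by
  decide +kernel

theorem coTwoOrthPart153_desc : OTree.descends coTwoOrthGens 62062060636173731114942761092 coTwoOrthTree coTwoOrthPart153 = true := by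
  decide +kernel

end CfsgLib.Sporadic.Conway
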