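import Cfsg.Agent.Lib.Sporadic.OrbitCoTwoOrthData

/-!
# Certificate of one orbit, generated by a search
-/

set_option autoImplicit false
set_option maxRecDepth 100000
set_option Elab.async false

namespace CfsgLib.Sporadic.Conway

theorem coTwoOrthPart154_desc : OTree.descends coTwoOrthGens 62062060636173731114942761092 coTwoOrthTree coTwoOrthPart154 = true := by
  decide +kernel

theorem coTwoOrthPart155_desc : OTree.descends coTwoOrthGens 62062060636173731114942761092 coTwoOrthTree coTwoOrthPart155 = true := by
  decide +kernel

theorem coTwoOrthPart156_desc : OTree.descends coTwoOrthGens 62062060636173731114942761092 coTwoOrthTree coTwoOrthPart156 = true := by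
  decide +kernel

theorem coTwoOrthPart157_desc : OTree.descends coTwoOrthGens 62062060636173731114942761092 coTwoOrthTree coTwoOrthPart157 = true := by
  decide +kernel

theorem coTwoOrthPart158_desc : OTree.descends coTwoOrthGens 62062060636173731114942761092 coTwoOrthTree coTwoOrthPart158 = true := by
  decide +kernel

theorem coTwoOrthPart159_desc : OTree.descends coTwoOrthGens 62062060636173731114942761092 coTwoOrthTree coTwoOrthPart159 = true := by
  decide +kernel

theorem coTwoOrthPart160_desc : OTree.descends coTwoOrthGens 62062060636173731114942761092 coTwoOrthTree coTwoOrthPart160 = true := by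
  decide +kernel

theorem coTwoOrthPart161_desc : OTree.descends coTwoOrthGens 62062060636173731114942761092 coTwoOrthTree coTwoOrthPart161 = true := by
  decide +kernel

theorem coTwoOrthPart162_desc : OTree.descends coTwoOrthGens 62062060636173731114942761092 coTwoOrthTree coTwoOrthPart162 = true := by
  decide +kernel

theorem coTwoOrthPart163_desc : OTree.descends coTwoOrthGens 62062060636173731114942761092 coTwoOrthTree coTwoOrthPart163 = true := by
  decide +kernel

theorem coTwoOrthPart164_desc : OTree.descends coTwoOrthGens 62062060636173731114942761092 coTwoOrthTree coTwoOrthPart164 = true := by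
  decide +kernel

end CfsgLib.Sporadic.Conway
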