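import Cfsg.Agent.Lib.Sporadic.OrbitCoTwoOrthData

/-!
# Certificate of one orbit, generated by a search
-/

set_option autoImplicit false
set_option maxRecDepth 100000
set_option Elab.async false

namespace CfsgLib.Sporadic.Conway

theorem coTwoOrthPart165_desc : OTree.descends coTwoOrthGens 62062060636173731114942761092 coTwoOrthTree coTwoOrthPart165 = true := by
  decide +kernel

theorem coTwoOrthPart166_desc : OTree.descends coTwoOrthGens 62062060636173731114942761092 coTwoOrthTree coTwoOrthPart166 = true := by
  decide +kernel

theorem coTwoOrthPart167_desc : OTree.descends coTwoOrthGens 62062060636173731114942761092 coTwoOrthTree coTwoOrthPart167 = true := by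
  decide +kernel

theorem coTwoOrthPart168_desc : OTree.descends coTwoOrthGens 62062060636173731114942761092 coTwoOrthTree coTwoOrthPart168 = true := by
  decide +kernel

theorem coTwoOrthPart169_desc : OTree.descends coTwoOrthGens 62062060636173731114942761092 coTwoOrthTree coTwoOrthPart169 = true := by
  decide +kernel

theorem coTwoOrthPart170_desc : OTree.descends coTwoOrthGens 62062060636173731114942761092 coTwoOrthTree coTwoOrthPart170 = true := by
  decide +kernel

theorem coTwoOrthPart171_desc : OTree.descends coTwoOrthGens 62062060636173731114942761092 coTwoOrthTree coTwoOrthPart171 = true := by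
  decide +kernel

theorem coTwoOrthPart172_desc : OTree.descends coTwoOrthGens 62062060636173731114942761092 coTwoOrthTree coTwoOrthPart172 = true := by
  decide +kernel

theorem coTwoOrthPart173_desc : OTree.descends coTwoOrthGens 62062060636173731114942761092 coTwoOrthTree coTwoOrthPart173 = true := by
  decide +kernel

theorem coTwoOrthPart174_desc : OTree.descends coTwoOrthGens 62062060636173731114942761092 coTwoOrthTree coTwoOrthPart174 = true := by
  decide +kernel

theorem coTwoOrthPart175_desc : OTree.descends coTwoOrthGens 62062060636173731114942761092 coTwoOrthTree coTwoOrthPart175 = true := by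
  decide +kernel

end CfsgLib.Sporadic.Conway
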