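import Cfsg.Agent.Lib.Sporadic.OrbitCoTwoOrthData

/-!
# Certificate of one orbit, generated by a search
-/

set_option autoImplicit false
set_option maxRecDepth 100000
set_option Elab.async false

namespace CfsgLib.Sporadic.Conway

theorem coTwoOrthPart176_desc : OTree.descends coTwoOrthGens 62062060636173731114942761092 coTwoOrthTree coTwoOrthPart176 = true := by
  decide +kernel

theorem coTwoOrthPart177_desc : OTree.descends coTwoOrthGens 62062060636173731114942761092 coTwoOrthTree coTwoOrthPart177 = true := by
  decide +kernel

theorem coTwoOrthPart178_desc : OTree.descends coTwoOrthGens 62062060636173731114942761092 coTwoOrthTree coTwoOrthPart178 = true := by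
  decide +kernel

theorem coTwoOrthPart179_desc : OTree.descends coTwoOrthGens 62062060636173731114942761092 coTwoOrthTree coTwoOrthPart179 = true := by
  decide +kernel

theorem coTwoOrthPart180_desc : OTree.descends coTwoOrthGens 62062060636173731114942761092 coTwoOrthTree coTwoOrthPart180 = true := by
  decide +kernel

theorem coTwoOrthPart181_desc : OTree.descends coTwoOrthGens 62062060636173731114942761092 coTwoOrthTree coTwoOrthPart181 = true := by
  decide +kernel

theorem coTwoOrthPart182_desc : OTree.descends coTwoOrthGens 62062060636173731114942761092 coTwoOrthTree coTwoOrthPart182 = true := by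
  decide +kernel

theorem coTwoOrthPart183_desc : OTree.descends coTwoOrthGens 62062060636173731114942761092 coTwoOrthTree coTwoOrthPart183 = true := by
  decide +kernel

theorem coTwoOrthPart184_desc : OTree.descends coTwoOrthGens 62062060636173731114942761092 coTwoOrthTree coTwoOrthPart184 = true := by
  decide +kernel

theorem coTwoOrthPart185_desc : OTree.descends coTwoOrthGens 62062060636173731114942761092 coTwoOrthTree coTwoOrthPart185 = true := by
  decide +kernel

theorem coTwoOrthPart186_desc : OTree.descends coTwoOrthGens 62062060636173731114942761092 coTwoOrthTree coTwoOrthPart186 = true := by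
  decide +kernel

end CfsgLib.Sporadic.Conway
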