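import Cfsg.Agent.Lib.Sporadic.OrbitCoTwoOrthData

/-!
# Certificate of one orbit, generated by a search
-/

set_option autoImplicit false
set_option maxRecDepth 100000
set_option Elab.async false

namespace CfsgLib.Sporadic.Conway

theorem coTwoOrthPart187_desc : OTree.descends coTwoOrthGens 62062060636173731114942761092 coTwoOrthTree coTwoOrthPart187 = true := by
  decide +kernel

theorem coTwoOrthPart188_desc : OTree.descends coTwoOrthGens 62062060636173731114942761092 coTwoOrthTree coTwoOrthPart188 = true := by
  decide +kernel

theorem coTwoOrthPart189_desc : OTree.descends coTwoOrthGens 62062060636173731114942761092 coTwoOrthTree coTwoOrthPart189 = true := by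
  decide +kernel

theorem coTwoOrthPart190_desc : OTree.descends coTwoOrthGens 62062060636173731114942761092 coTwoOrthTree coTwoOrthPart190 = true := by
  decide +kernel

theorem coTwoOrthPart191_desc : OTree.descends coTwoOrthGens 62062060636173731114942761092 coTwoOrthTree coTwoOrthPart191 = true := by
  decide +kernel

theorem coTwoOrthPart192_desc : OTree.descends coTwoOrthGens 62062060636173731114942761092 coTwoOrthTree coTwoOrthPart192 = true := by
  decide +kernel

theorem coTwoOrthPart193_desc : OTree.descends coTwoOrthGens 62062060636173731114942761092 coTwoOrthTree coTwoOrthPart193 = true := by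
  decide +kernel

theorem coTwoOrthPart194_desc : OTree.descends coTwoOrthGens 62062060636173731114942761092 coTwoOrthTree coTwoOrthPart194 = true := by
  decide +kernel

theorem coTwoOrthPart195_desc : OTree.descends coTwoOrthGens 62062060636173731114942761092 coTwoOrthTree coTwoOrthPart195 = true := by
  decide +kernel

theorem coTwoOrthPart196_desc : OTree.descends coTwoOrthGens 62062060636173731114942761092 coTwoOrthTree coTwoOrthPart196 = true := by
  decide +kernel

theorem coTwoOrthPart197_desc : OTree.descends coTwoOrthGens 62062060636173731114942761092 coTwoOrthTree coTwoOrthPart197 = true := by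
  decide +kernel

end CfsgLib.Sporadic.Conway
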