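import Cfsg.Agent.Lib.Sporadic.OrbitCoTwoOrthData

/-!
# Certificate of one orbit, generated by a search
-/

set_option autoImplicit false
set_option maxRecDepth 100000
set_option Elab.async false

namespace CfsgLib.Sporadic.Conway

theorem coTwoOrthPart198_desc : OTree.descends coTwoOrthGens 62062060636173731114942761092 coTwoOrthTree coTwoOrthPart198 = true := by
  decide +kernel

theorem coTwoOrthPart199_desc : OTree.descends coTwoOrthGens 62062060636173731114942761092 coTwoOrthTree coTwoOrthPart199 = true := by
  decide +kernel

theorem coTwoOrthPart200_desc : OTree.descends coTwoOrthGens 62062060636173731114942761092 coTwoOrthTree coTwoOrthPart200 = true := by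
  decide +kernel

theorem coTwoOrthPart201_desc : OTree.descends coTwoOrthGens 62062060636173731114942761092 coTwoOrthTree coTwoOrthPart201 = true := by
  decide +kernel

theorem coTwoOrthPart202_desc : OTree.descends coTwoOrthGens 62062060636173731114942761092 coTwoOrthTree coTwoOrthPart202 = true := by
  decide +kernel

theorem coTwoOrthPart203_desc : OTree.descends coTwoOrthGens 62062060636173731114942761092 coTwoOrthTree coTwoOrthPart203 = true := by
  decide +kernel

theorem coTwoOrthPart204_desc : OTree.descends coTwoOrthGens 62062060636173731114942761092 coTwoOrthTree coTwoOrthPart204 = true := by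
  decide +kernel

theorem coTwoOrthPart205_desc : OTree.descends coTwoOrthGens 62062060636173731114942761092 coTwoOrthTree coTwoOrthPart205 = true := by
  decide +kernel

theorem coTwoOrthPart206_desc : OTree.descends coTwoOrthGens 62062060636173731114942761092 coTwoOrthTree coTwoOrthPart206 = true := by
  decide +kernel

theorem coTwoOrthPart207_desc : OTree.descends coTwoOrthGens 62062060636173731114942761092 coTwoOrthTree coTwoOrthPart207 = true := by
  decide +kernel

theorem coTwoOrthPart208_desc : OTree.descends coTwoOrthGens 62062060636173731114942761092 coTwoOrthTree coTwoOrthPart208 = true := by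
  decide +kernel

end CfsgLib.Sporadic.Conway
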