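import Cfsg.Agent.Lib.Sporadic.OrbitCoTwoOrthData

/-!
# Certificate of one orbit, generated by a search
-/

set_option autoImplicit false
set_option maxRecDepth 100000
set_option Elab.async false

namespace CfsgLib.Sporadic.Conway

theorem coTwoOrthPart209_desc : OTree.descends coTwoOrthGens 62062060636173731114942761092 coTwoOrthTree coTwoOrthPart209 = true := by
  decide +kernel

theorem coTwoOrthPart210_desc : OTree.descends coTwoOrthGens 62062060636173731114942761092 coTwoOrthTree coTwoOrthPart210 = true := by
  decide +kernel

theorem coTwoOrthPart211_desc : OTree.descends coTwoOrthGens 62062060636173731114942761092 coTwoOrthTree coTwoOrthPart211 = true := by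
  decide +kernel

theorem coTwoOrthPart212_desc : OTree.descends coTwoOrthGens 62062060636173731114942761092 coTwoOrthTree coTwoOrthPart212 = true := by
  decide +kernel

theorem coTwoOrthPart213_desc : OTree.descends coTwoOrthGens 62062060636173731114942761092 coTwoOrthTree coTwoOrthPart213 = true := by
  decide +kernel

theorem coTwoOrthPart214_desc : OTree.descends coTwoOrthGens 62062060636173731114942761092 coTwoOrthTree coTwoOrthPart214 = true := by
  decide +kernel

theorem coTwoOrthPart215_desc : OTree.descends coTwoOrthGens 62062060636173731114942761092 coTwoOrthTree coTwoOrthPart215 = true := by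
  decide +kernel

theorem coTwoOrthPart216_desc : OTree.descends coTwoOrthGens 62062060636173731114942761092 coTwoOrthTree coTwoOrthPart216 = true := by
  decide +kernel

theorem coTwoOrthPart217_desc : OTree.descends coTwoOrthGens 62062060636173731114942761092 coTwoOrthTree coTwoOrthPart217 = true := by
  decide +kernel

theorem coTwoOrthPart218_desc : OTree.descends coTwoOrthGens 62062060636173731114942761092 coTwoOrthTree coTwoOrthPart218 = true := by
  decide +kernel

theorem coTwoOrthPart219_desc : OTree.descends coTwoOrthGens 62062060636173731114942761092 coTwoOrthTree coTwoOrthPart219 = true := by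
  decide +kernel

end CfsgLib.Sporadic.Conway
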