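import Cfsg.Agent.Lib.Sporadic.OrbitCoTwoOrthData

/-!
# Certificate of one orbit, generated by a search
-/

set_option autoImplicit false
set_option maxRecDepth 100000
set_option Elab.async false

namespace CfsgLib.Sporadic.Conway

theorem coTwoOrthPart22_desc : OTree.descends coTwoOrthGens 62062060636173731114942761092 coTwoOrthTree coTwoOrthPart22 = true := by
  decide +kernel

theorem coTwoOrthPart23_desc : OTree.descends coTwoOrthGens 62062060636173731114942761092 coTwoOrthTree coTwoOrthPart23 = true := by
  decide +kernel

theorem coTwoOrthPart24_desc : OTree.descends coTwoOrthGens 62062060636173731114942761092 coTwoOrthTree coTwoOrthPart24 = true := by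
  decide +kernel

theorem coTwoOrthPart25_desc : OTree.descends coTwoOrthGens 62062060636173731114942761092 coTwoOrthTree coTwoOrthPart25 = true := by
  decide +kernel

theorem coTwoOrthPart26_desc : OTree.descends coTwoOrthGens 62062060636173731114942761092 coTwoOrthTree coTwoOrthPart26 = true := by
  decide +kernel

theorem coTwoOrthPart27_desc : OTree.descends coTwoOrthGens 62062060636173731114942761092 coTwoOrthTree coTwoOrthPart27 = true := by
  decide +kernel

theorem coTwoOrthPart28_desc : OTree.descends coTwoOrthGens 62062060636173731114942761092 coTwoOrthTree coTwoOrthPart28 = true := by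
  decide +kernel

theorem coTwoOrthPart29_desc : OTree.descends coTwoOrthGens 62062060636173731114942761092 coTwoOrthTree coTwoOrthPart29 = true := by
  decide +kernel

theorem coTwoOrthPart30_desc : OTree.descends coTwoOrthGens 62062060636173731114942761092 coTwoOrthTree coTwoOrthPart30 = true := by
  decide +kernel

theorem coTwoOrthPart31_desc : OTree.descends coTwoOrthGens 62062060636173731114942761092 coTwoOrthTree coTwoOrthPart31 = true := by
  decide +kernel

theorem coTwoOrthPart32_desc : OTree.descends coTwoOrthGens 62062060636173731114942761092 coTwoOrthTree coTwoOrthPart32 = true := by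
  decide +kernel

end CfsgLib.Sporadic.Conway
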