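import Cfsg.Agent.Lib.Sporadic.OrbitCoTwoOrthData

/-!
# Certificate of one orbit, generated by a search
-/

set_option autoImplicit false
set_option maxRecDepth 100000
set_option Elab.async false

namespace CfsgLib.Sporadic.Conway

theorem coTwoOrthPart220_desc : OTree.descends coTwoOrthGens 62062060636173731114942761092 coTwoOrthTree coTwoOrthPart220 = true := by
  decide +kernel

theorem coTwoOrthPart221_desc : OTree.descends coTwoOrthGens 62062060636173731114942761092 coTwoOrthTree coTwoOrthPart221 = true := by
  decide +kernel

theorem coTwoOrthPart222_desc : OTree.descends coTwoOrthGens 62062060636173731114942761092 coTwoOrthTree coTwoOrthPart222 = true := by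
  decide +kernel

theorem coTwoOrthPart223_desc : OTree.descends coTwoOrthGens 62062060636173731114942761092 coTwoOrthTree coTwoOrthPart223 = true := by
  decide +kernel

theorem coTwoOrthPart224_desc : OTree.descends coTwoOrthGens 62062060636173731114942761092 coTwoOrthTree coTwoOrthPart224 = true := by
  decide +kernel

theorem coTwoOrthPart225_desc : OTree.descends coTwoOrthGens 62062060636173731114942761092 coTwoOrthTree coTwoOrthPart225 = true := by
  decide +kernel

theorem coTwoOrthPart226_desc : OTree.descends coTwoOrthGens 62062060636173731114942761092 coTwoOrthTree coTwoOrthPart226 = true := by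
  decide +kernel

theorem coTwoOrthPart227_desc : OTree.descends coTwoOrthGens 62062060636173731114942761092 coTwoOrthTree coTwoOrthPart227 = true := by
  decide +kernel

theorem coTwoOrthPart228_desc : OTree.descends coTwoOrthGens 62062060636173731114942761092 coTwoOrthTree coTwoOrthPart228 = true := by
  decide +kernel

theorem coTwoOrthPart229_desc : OTree.descends coTwoOrthGens 62062060636173731114942761092 coTwoOrthTree coTwoOrthPart229 = true := by
  decide +kernel

theorem coTwoOrthPart230_desc : OTree.descends coTwoOrthGens 62062060636173731114942761092 coTwoOrthTree coTwoOrthPart230 = true := by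
  decide +kernel

end CfsgLib.Sporadic.Conway
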