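import Cfsg.Agent.Lib.Sporadic.OrbitCoTwoOrthData

/-!
# Certificate of one orbit, generated by a search
-/

set_option autoImplicit false
set_option maxRecDepth 100000
set_option Elab.async false

namespace CfsgLib.Sporadic.Conway

theorem coTwoOrthPart231_desc : OTree.descends coTwoOrthGens 62062060636173731114942761092 coTwoOrthTree coTwoOrthPart231 = true := by
  decide +kernel

theorem coTwoOrthPart232_desc : OTree.descends coTwoOrthGens 62062060636173731114942761092 coTwoOrthTree coTwoOrthPart232 = true := by
  decide +kernel

theorem coTwoOrthPart233_desc : OTree.descends coTwoOrthGens 62062060636173731114942761092 coTwoOrthTree coTwoOrthPart233 = true := by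
  decide +kernel

theorem coTwoOrthPart234_desc : OTree.descends coTwoOrthGens 62062060636173731114942761092 coTwoOrthTree coTwoOrthPart234 = true := by
  decide +kernel

theorem coTwoOrthPart235_desc : OTree.descends coTwoOrthGens 62062060636173731114942761092 coTwoOrthTree coTwoOrthPart235 = true := by
  decide +kernel

theorem coTwoOrthPart236_desc : OTree.descends coTwoOrthGens 62062060636173731114942761092 coTwoOrthTree coTwoOrthPart236 = true := by
  decide +kernel

theorem coTwoOrthPart237_desc : OTree.descends coTwoOrthGens 62062060636173731114942761092 coTwoOrthTree coTwoOrthPart237 = true := by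
  decide +kernel

theorem coTwoOrthPart238_desc : OTree.descends coTwoOrthGens 62062060636173731114942761092 coTwoOrthTree coTwoOrthPart238 = true := by
  decide +kernel

theorem coTwoOrthPart239_desc : OTree.descends coTwoOrthGens 62062060636173731114942761092 coTwoOrthTree coTwoOrthPart239 = true := by
  decide +kernel

theorem coTwoOrthPart240_desc : OTree.descends coTwoOrthGens 62062060636173731114942761092 coTwoOrthTree coTwoOrthPart240 = true := by
  decide +kernel

theorem coTwoOrthPart241_desc : OTree.descends coTwoOrthGens 62062060636173731114942761092 coTwoOrthTree coTwoOrthPart241 = true := by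
  decide +kernel

end CfsgLib.Sporadic.Conway
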