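import Cfsg.Agent.Lib.Sporadic.OrbitCoTwoOrthData

/-!
# Certificate of one orbit, generated by a search
-/

set_option autoImplicit false
set_option maxRecDepth 100000
set_option Elab.async false

namespace CfsgLib.Sporadic.Conway

theorem coTwoOrthPart242_desc : OTree.descends coTwoOrthGens 62062060636173731114942761092 coTwoOrthTree coTwoOrthPart242 = true := by
  decide +kernel

theorem coTwoOrthPart243_desc : OTree.descends coTwoOrthGens 62062060636173731114942761092 coTwoOrthTree coTwoOrthPart243 = true := by
  decide +kernel

theorem coTwoOrthPart244_desc : OTree.descends coTwoOrthGens 62062060636173731114942761092 coTwoOrthTree coTwoOrthPart244 = true := by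
  decide +kernel

theorem coTwoOrthPart245_desc : OTree.descends coTwoOrthGens 62062060636173731114942761092 coTwoOrthTree coTwoOrthPart245 = true := by
  decide +kernel

theorem coTwoOrthPart246_desc : OTree.descends coTwoOrthGens 62062060636173731114942761092 coTwoOrthTree coTwoOrthPart246 = true := by
  decide +kernel

theorem coTwoOrthPart247_desc : OTree.descends coTwoOrthGens 62062060636173731114942761092 coTwoOrthTree coTwoOrthPart247 = true := by
  decide +kernel

theorem coTwoOrthPart248_desc : OTree.descends coTwoOrthGens 62062060636173731114942761092 coTwoOrthTree coTwoOrthPart248 = true := by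
  decide +kernel

theorem coTwoOrthPart249_desc : OTree.descends coTwoOrthGens 62062060636173731114942761092 coTwoOrthTree coTwoOrthPart249 = true := by
  decide +kernel

theorem coTwoOrthPart250_desc : OTree.descends coTwoOrthGens 62062060636173731114942761092 coTwoOrthTree coTwoOrthPart250 = true := by
  decide +kernel

theorem coTwoOrthPart251_desc : OTree.descends coTwoOrthGens 62062060636173731114942761092 coTwoOrthTree coTwoOrthPart251 = true := by
  decide +kernel

theorem coTwoOrthPart252_desc : OTree.descends coTwoOrthGens 62062060636173731114942761092 coTwoOrthTree coTwoOrthPart252 = true := by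
  decide +kernel

end CfsgLib.Sporadic.Conway
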