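import Cfsg.Agent.Lib.Sporadic.OrbitCoTwoOrthData

/-!
# Certificate of one orbit, generated by a search
-/

set_option autoImplicit false
set_option maxRecDepth 100000
set_option Elab.async false

namespace CfsgLib.Sporadic.Conway

theorem coTwoOrthPart33_desc : OTree.descends coTwoOrthGens 62062060636173731114942761092 coTwoOrthTree coTwoOrthPart33 = true := by
  decide +kernel

theorem coTwoOrthPart34_desc : OTree.descends coTwoOrthGens 62062060636173731114942761092 coTwoOrthTree coTwoOrthPart34 = true := by
  decide +kernel

theorem coTwoOrthPart35_desc : OTree.descends coTwoOrthGens 62062060636173731114942761092 coTwoOrthTree coTwoOrthPart35 = true := by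
  decide +kernel

theorem coTwoOrthPart36_desc : OTree.descends coTwoOrthGens 62062060636173731114942761092 coTwoOrthTree coTwoOrthPart36 = true := by
  decide +kernel

theorem coTwoOrthPart37_desc : OTree.descends coTwoOrthGens 62062060636173731114942761092 coTwoOrthTree coTwoOrthPart37 = true := by
  decide +kernel

theorem coTwoOrthPart38_desc : OTree.descends coTwoOrthGens 62062060636173731114942761092 coTwoOrthTree coTwoOrthPart38 = true := by
  decide +kernel

theorem coTwoOrthPart39_desc : OTree.descends coTwoOrthGens 62062060636173731114942761092 coTwoOrthTree coTwoOrthPart39 = true := by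
  decide +kernel

theorem coTwoOrthPart40_desc : OTree.descends coTwoOrthGens 62062060636173731114942761092 coTwoOrthTree coTwoOrthPart40 = true := by
  decide +kernel

theorem coTwoOrthPart41_desc : OTree.descends coTwoOrthGens 62062060636173731114942761092 coTwoOrthTree coTwoOrthPart41 = true := by
  decide +kernel

theorem coTwoOrthPart42_desc : OTree.descends coTwoOrthGens 62062060636173731114942761092 coTwoOrthTree coTwoOrthPart42 = true := by
  decide +kernel

theorem coTwoOrthPart43_desc : OTree.descends coTwoOrthGens 62062060636173731114942761092 coTwoOrthTree coTwoOrthPart43 = true := by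
  decide +kernel

end CfsgLib.Sporadic.Conway
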