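import Cfsg.Agent.Lib.Sporadic.OrbitCoTwoOrthData

/-!
# Certificate of one orbit, generated by a search
-/

set_option autoImplicit false
set_option maxRecDepth 100000
set_option Elab.async false

namespace CfsgLib.Sporadic.Conway

theorem coTwoOrthPart44_desc : OTree.descends coTwoOrthGens 62062060636173731114942761092 coTwoOrthTree coTwoOrthPart44 = true := by
  decide +kernel

theorem coTwoOrthPart45_desc : OTree.descends coTwoOrthGens 62062060636173731114942761092 coTwoOrthTree coTwoOrthPart45 = true := by
  decide +kernel

theorem coTwoOrthPart46_desc : OTree.descends coTwoOrthGens 62062060636173731114942761092 coTwoOrthTree coTwoOrthPart46 = true := by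
  decide +kernel

theorem coTwoOrthPart47_desc : OTree.descends coTwoOrthGens 62062060636173731114942761092 coTwoOrthTree coTwoOrthPart47 = true := by
  decide +kernel

theorem coTwoOrthPart48_desc : OTree.descends coTwoOrthGens 62062060636173731114942761092 coTwoOrthTree coTwoOrthPart48 = true := by
  decide +kernel

theorem coTwoOrthPart49_desc : OTree.descends coTwoOrthGens 62062060636173731114942761092 coTwoOrthTree coTwoOrthPart49 = true := by
  decide +kernel

theorem coTwoOrthPart50_desc : OTree.descends coTwoOrthGens 62062060636173731114942761092 coTwoOrthTree coTwoOrthPart50 = true := by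
  decide +kernel

theorem coTwoOrthPart51_desc : OTree.descends coTwoOrthGens 62062060636173731114942761092 coTwoOrthTree coTwoOrthPart51 = true := by
  decide +kernel

theorem coTwoOrthPart52_desc : OTree.descends coTwoOrthGens 62062060636173731114942761092 coTwoOrthTree coTwoOrthPart52 = true := by
  decide +kernel

theorem coTwoOrthPart53_desc : OTree.descends coTwoOrthGens 62062060636173731114942761092 coTwoOrthTree coTwoOrthPart53 = true := by
  decide +kernel

theorem coTwoOrthPart54_desc : OTree.descends coTwoOrthGens 62062060636173731114942761092 coTwoOrthTree coTwoOrthPart54 = true := by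
  decide +kernel

end CfsgLib.Sporadic.Conway
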