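import Cfsg.Agent.Lib.Sporadic.OrbitCoTwoOrthData

/-!
# Certificate of one orbit, generated by a search
-/

set_option autoImplicit false
set_option maxRecDepth 100000
set_option Elab.async false

namespace CfsgLib.Sporadic.Conway

theorem coTwoOrthPart55_desc : OTree.descends coTwoOrthGens 62062060636173731114942761092 coTwoOrthTree coTwoOrthPart55 = true := by
  decide +kernel

theorem coTwoOrthPart56_desc : OTree.descends coTwoOrthGens 62062060636173731114942761092 coTwoOrthTree coTwoOrthPart56 = true := by
  decide +kernel

theorem coTwoOrthPart57_desc : OTree.descends coTwoOrthGens 62062060636173731114942761092 coTwoOrthTree coTwoOrthPart57 = true := by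
  decide +kernel

theorem coTwoOrthPart58_desc : OTree.descends coTwoOrthGens 62062060636173731114942761092 coTwoOrthTree coTwoOrthPart58 = true := by
  decide +kernel

theorem coTwoOrthPart59_desc : OTree.descends coTwoOrthGens 62062060636173731114942761092 coTwoOrthTree coTwoOrthPart59 = true := by
  decide +kernel

theorem coTwoOrthPart60_desc : OTree.descends coTwoOrthGens 62062060636173731114942761092 coTwoOrthTree coTwoOrthPart60 = true := by
  decide +kernel

theorem coTwoOrthPart61_desc : OTree.descends coTwoOrthGens 62062060636173731114942761092 coTwoOrthTree coTwoOrthPart61 = true := by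
  decide +kernel

theorem coTwoOrthPart62_desc : OTree.descends coTwoOrthGens 62062060636173731114942761092 coTwoOrthTree coTwoOrthPart62 = true := by
  decide +kernel

theorem coTwoOrthPart63_desc : OTree.descends coTwoOrthGens 62062060636173731114942761092 coTwoOrthTree coTwoOrthPart63 = true := by
  decide +kernel

theorem coTwoOrthPart64_desc : OTree.descends coTwoOrthGens 62062060636173731114942761092 coTwoOrthTree coTwoOrthPart64 = true := by
  decide +kernel

theorem coTwoOrthPart65_desc : OTree.descends coTwoOrthGens 62062060636173731114942761092 coTwoOrthTree coTwoOrthPart65 = true := by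
  decide +kernel

end CfsgLib.Sporadic.Conway
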