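import Cfsg.Agent.Lib.Sporadic.OrbitCoTwoOrthData

/-!
# Certificate of one orbit, generated by a search
-/

set_option autoImplicit false
set_option maxRecDepth 100000
set_option Elab.async false

namespace CfsgLib.Sporadic.Conway

theorem coTwoOrthPart66_desc : OTree.descends coTwoOrthGens 62062060636173731114942761092 coTwoOrthTree coTwoOrthPart66 = true := by
  decide +kernel

theorem coTwoOrthPart67_desc : OTree.descends coTwoOrthGens 62062060636173731114942761092 coTwoOrthTree coTwoOrthPart67 = true := by
  decide +kernel

theorem coTwoOrthPart68_desc : OTree.descends coTwoOrthGens 62062060636173731114942761092 coTwoOrthTree coTwoOrthPart68 = true := by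
  decide +kernel

theorem coTwoOrthPart69_desc : OTree.descends coTwoOrthGens 62062060636173731114942761092 coTwoOrthTree coTwoOrthPart69 = true := by
  decide +kernel

theorem coTwoOrthPart70_desc : OTree.descends coTwoOrthGens 62062060636173731114942761092 coTwoOrthTree coTwoOrthPart70 = true := by
  decide +kernel

theorem coTwoOrthPart71_desc : OTree.descends coTwoOrthGens 62062060636173731114942761092 coTwoOrthTree coTwoOrthPart71 = true := by
  decide +kernel

theorem coTwoOrthPart72_desc : OTree.descends coTwoOrthGens 62062060636173731114942761092 coTwoOrthTree coTwoOrthPart72 = true := by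
  decide +kernel

theorem coTwoOrthPart73_desc : OTree.descends coTwoOrthGens 62062060636173731114942761092 coTwoOrthTree coTwoOrthPart73 = true := by
  decide +kernel

theorem coTwoOrthPart74_desc : OTree.descends coTwoOrthGens 62062060636173731114942761092 coTwoOrthTree coTwoOrthPart74 = true := by
  decide +kernel

theorem coTwoOrthPart75_desc : OTree.descends coTwoOrthGens 62062060636173731114942761092 coTwoOrthTree coTwoOrthPart75 = true := by
  decide +kernel

theorem coTwoOrthPart76_desc : OTree.descends coTwoOrthGens 62062060636173731114942761092 coTwoOrthTree coTwoOrthPart76 = true := by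
  decide +kernel

end CfsgLib.Sporadic.Conway
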