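import Cfsg.Agent.Lib.Sporadic.OrbitCoTwoOrthData

/-!
# Certificate of one orbit, generated by a search
-/

set_option autoImplicit false
set_option maxRecDepth 100000
set_option Elab.async false

namespace CfsgLib.Sporadic.Conway

theorem coTwoOrthPart77_desc : OTree.descends coTwoOrthGens 62062060636173731114942761092 coTwoOrthTree coTwoOrthPart77 = true := by
  decide +kernel

theorem coTwoOrthPart78_desc : OTree.descends coTwoOrthGens 62062060636173731114942761092 coTwoOrthTree coTwoOrthPart78 = true := by
  decide +kernel

theorem coTwoOrthPart79_desc : OTree.descends coTwoOrthGens 62062060636173731114942761092 coTwoOrthTree coTwoOrthPart79 = true := by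
  decide +kernel

theorem coTwoOrthPart80_desc : OTree.descends coTwoOrthGens 62062060636173731114942761092 coTwoOrthTree coTwoOrthPart80 = true := by
  decide +kernel

theorem coTwoOrthPart81_desc : OTree.descends coTwoOrthGens 62062060636173731114942761092 coTwoOrthTree coTwoOrthPart81 = true := by
  decide +kernel

theorem coTwoOrthPart82_desc : OTree.descends coTwoOrthGens 62062060636173731114942761092 coTwoOrthTree coTwoOrthPart82 = true := by
  decide +kernel

theorem coTwoOrthPart83_desc : OTree.descends coTwoOrthGens 62062060636173731114942761092 coTwoOrthTree coTwoOrthPart83 = true := by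
  decide +kernel

theorem coTwoOrthPart84_desc : OTree.descends coTwoOrthGens 62062060636173731114942761092 coTwoOrthTree coTwoOrthPart84 = true := by
  decide +kernel

theorem coTwoOrthPart85_desc : OTree.descends coTwoOrthGens 62062060636173731114942761092 coTwoOrthTree coTwoOrthPart85 = true := by
  decide +kernel

theorem coTwoOrthPart86_desc : OTree.descends coTwoOrthGens 62062060636173731114942761092 coTwoOrthTree coTwoOrthPart86 = true := by
  decide +kernel

theorem coTwoOrthPart87_desc : OTree.descends coTwoOrthGens 62062060636173731114942761092 coTwoOrthTree coTwoOrthPart87 = true := by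
  decide +kernel

end CfsgLib.Sporadic.Conway
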