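import Cfsg.Agent.Lib.Sporadic.OrbitCoTwoOrthData

/-!
# Certificate of one orbit, generated by a search
-/

set_option autoImplicit false
set_option maxRecDepth 100000
set_option Elab.async false

namespace CfsgLib.Sporadic.Conway

theorem coTwoOrthPart88_desc : OTree.descends coTwoOrthGens 62062060636173731114942761092 coTwoOrthTree coTwoOrthPart88 = true := by
  decide +kernel

theorem coTwoOrthPart89_desc : OTree.descends coTwoOrthGens 62062060636173731114942761092 coTwoOrthTree coTwoOrthPart89 = true := by
  decide +kernel

theorem coTwoOrthPart90_desc : OTree.descends coTwoOrthGens 62062060636173731114942761092 coTwoOrthTree coTwoOrthPart90 = true := by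
  decide +kernel

theorem coTwoOrthPart91_desc : OTree.descends coTwoOrthGens 62062060636173731114942761092 coTwoOrthTree coTwoOrthPart91 = true := by
  decide +kernel

theorem coTwoOrthPart92_desc : OTree.descends coTwoOrthGens 62062060636173731114942761092 coTwoOrthTree coTwoOrthPart92 = true := by
  decide +kernel

theorem coTwoOrthPart93_desc : OTree.descends coTwoOrthGens 62062060636173731114942761092 coTwoOrthTree coTwoOrthPart93 = true := by
  decide +kernel

theorem coTwoOrthPart94_desc : OTree.descends coTwoOrthGens 62062060636173731114942761092 coTwoOrthTree coTwoOrthPart94 = true := by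
  decide +kernel

theorem coTwoOrthPart95_desc : OTree.descends coTwoOrthGens 62062060636173731114942761092 coTwoOrthTree coTwoOrthPart95 = true := by
  decide +kernel

theorem coTwoOrthPart96_desc : OTree.descends coTwoOrthGens 62062060636173731114942761092 coTwoOrthTree coTwoOrthPart96 = true := by
  decide +kernel

theorem coTwoOrthPart97_desc : OTree.descends coTwoOrthGens 62062060636173731114942761092 coTwoOrthTree coTwoOrthPart97 = true := by
  decide +kernel

theorem coTwoOrthPart98_desc : OTree.descends coTwoOrthGens 62062060636173731114942761092 coTwoOrthTree coTwoOrthPart98 = true := by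
  decide +kernel

end CfsgLib.Sporadic.Conway
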