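import Cfsg.Agent.Lib.Sporadic.OrbitCoTwoOrthData

/-!
# Certificate of one orbit, generated by a search
-/

set_option autoImplicit false
set_option maxRecDepth 100000
set_option Elab.async false

namespace CfsgLib.Sporadic.Conway

theorem coTwoOrthPart99_desc : OTree.descends coTwoOrthGens 62062060636173731114942761092 coTwoOrthTree coTwoOrthPart99 = true := by
  decide +kernel

theorem coTwoOrthPart100_desc : OTree.descends coTwoOrthGens 62062060636173731114942761092 coTwoOrthTree coTwoOrthPart100 = true := by
  decide +kernel

theorem coTwoOrthPart101_desc : OTree.descends coTwoOrthGens 62062060636173731114942761092 coTwoOrthTree coTwoOrthPart101 = true := by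
  decide +kernel

theorem coTwoOrthPart102_desc : OTree.descends coTwoOrthGens 62062060636173731114942761092 coTwoOrthTree coTwoOrthPart102 = true := by
  decide +kernel

theorem coTwoOrthPart103_desc : OTree.descends coTwoOrthGens 62062060636173731114942761092 coTwoOrthTree coTwoOrthPart103 = true := by
  decide +kernel

theorem coTwoOrthPart104_desc : OTree.descends coTwoOrthGens 62062060636173731114942761092 coTwoOrthTree coTwoOrthPart104 = true := by
  decide +kernel

theorem coTwoOrthPart105_desc : OTree.descends coTwoOrthGens 62062060636173731114942761092 coTwoOrthTree coTwoOrthPart105 = true := by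
  decide +kernel

theorem coTwoOrthPart106_desc : OTree.descends coTwoOrthGens 62062060636173731114942761092 coTwoOrthTree coTwoOrthPart106 = true := by
  decide +kernel

theorem coTwoOrthPart107_desc : OTree.descends coTwoOrthGens 62062060636173731114942761092 coTwoOrthTree coTwoOrthPart107 = true := by
  decide +kernel

theorem coTwoOrthPart108_desc : OTree.descends coTwoOrthGens 62062060636173731114942761092 coTwoOrthTree coTwoOrthPart108 = true := by
  decide +kernel

theorem coTwoOrthPart109_desc : OTree.descends coTwoOrthGens 62062060636173731114942761092 coTwoOrthTree coTwoOrthPart109 = true := by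
  decide +kernel

end CfsgLib.Sporadic.Conway
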