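import Cfsg.Agent.Lib.Sporadic.OrbitCoTwoOrthCheck0
import Cfsg.Agent.Lib.Sporadic.OrbitCoTwoOrthCheck1
import Cfsg.Agent.Lib.Sporadic.OrbitCoTwoOrthCheck2
import Cfsg.Agent.Lib.Sporadic.OrbitCoTwoOrthCheck3
import Cfsg.Agent.Lib.Sporadic.OrbitCoTwoOrthCheck4
import Cfsg.Agent.Lib.Sporadic.OrbitCoTwoOrthCheck5
import Cfsg.Agent.Lib.Sporadic.OrbitCoTwoOrthCheck6
import Cfsg.Agent.Lib.Sporadic.OrbitCoTwoOrthCheck7
import Cfsg.Agent.Lib.Sporadic.OrbitCoTwoOrthCheck8
import Cfsg.Agent.Lib.Sporadic.OrbitCoTwoOrthCheck9
import Cfsg.Agent.Lib.Sporadic.OrbitCoTwoOrthCheck10
import Cfsg.Agent.Lib.Sporadic.OrbitCoTwoOrthCheck11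
import Cfsg.Agent.Lib.Sporadic.OrbitCoTwoOrthCheck12
import Cfsg.Agent.Lib.Sporadic.OrbitCoTwoOrthCheck13
import Cfsg.Agent.Lib.Sporadic.OrbitCoTwoOrthCheck14
import Cfsg.Agent.Lib.Sporadic.OrbitCoTwoOrthCheck15
import Cfsg.Agent.Lib.Sporadic.OrbitCoTwoOrthCheck16
import Cfsg.Agent.Lib.Sporadic.OrbitCoTwoOrthCheck17
import Cfsg.Agent.Lib.Sporadic.OrbitCoTwoOrthCheck18
import Cfsg.Agent.Lib.Sporadic.OrbitCoTwoOrthCheck19
import Cfsg.Agent.Lib.Sporadic.OrbitCoTwoOrthCheck20
import Cfsg.Agent.Lib.Sporadic.OrbitCoTwoOrthCheck21
import Cfsg.Agent.Lib.Sporadic.OrbitCoTwoOrthCheck22
import Cfsg.Agent.Lib.Sporadic.OrbitCoTwoOrthCheck23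

/-!
# Certificate of one orbit, generated by a search
-/

set_option autoImplicit false
set_option maxRecDepth 100000
set_option Elab.async false

namespace CfsgLib.Sporadic.Conway

theorem coTwoOrth_ok : orbitOK coTwoOrthGens [62062060636173731114942761100] 62062060636173731114942761092 coTwoOrthTree 93150 = true :=
  orbitOK_of (by decide +kernel) (by decide +kernel) (by decide +kernel)
    (descends_node (by decide +kernel) (descends_node (by decide +kernel) (descends_node (by decide +kernel) (descends_node (by decide +kernel) (descends_node (by decide +kernel) (descends_node (by decide +kernel) (descends_node (by decide +kernel) (descends_node (by decide +kernel) coTwoOrthPart0_desc coTwoOrthPart1_desc) (descends_node (by decide +kernel) coTwoOrthPart2_desc coTwoOrthPart3_desc)) (descends_node (by decide +kernel) (descends_node (by decide +kernel) coTwoOrthPart4_desc coTwoOrthPart5_desc) (descends_node (by decide +kernel) coTwoOrthPart6_desc coTwoOrthPart7_desc))) (descends_node (by decide +kernel) (descends_node (by decide +kernel) (descends_node (by decide +kernel) coTwoOrthPart8_desc coTwoOrthPart9_desc) (descends_node (by decide +kernel) coTwoOrthPart10_desc coTwoOrthPart11_desc))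 (descends_node (by decide +kernel) (descends_node (by decide +kernel) coTwoOrthPart12_desc coTwoOrthPart13_desc) (descends_node (by decide +kernel) coTwoOrthPart14_desc coTwoOrthPart15_desc)))) (descends_node (by decide +kernel) (descends_node (by decide +kernel) (descends_node (by decide +kernel) (descends_node (by decide +kernel) coTwoOrthPart16_desc coTwoOrthPart17_desc) (descends_node (by decide +kernel) coTwoOrthPart18_desc coTwoOrthPart19_desc)) (descends_node (by decide +kernel) (descends_node (by decide +kernel) coTwoOrthPart20_desc coTwoOrthPart21_desc) (descends_node (by decide +kernel) coTwoOrthPart22_desc coTwoOrthPart23_desc))) (descends_node (by decide +kernel) (descends_node (by decide +kernel) (descends_node (by decide +kernel) coTwoOrthPart24_desc coTwoOrthPart25_desc) (descends_node (by decide +kernel) coTwoOrthPart26_desc coTwoOrthPart27_desc)) (descends_node (by decide +kernel) (descends_node (by decide +kernel) coTwoOrthPart28_desc coTwoOrthPart29_desc) (descends_node (by decide +kernel) coTwoOrthPart30_desc coTwoOrthPart31_desc))))) (descends_node (by decide +kernel) (descends_node (by decide +kernel) (descends_node (by decide +kernel) (descends_node (by decide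 +kernel) (descends_node (by decide +kernel) coTwoOrthPart32_desc coTwoOrthPart33_desc) (descends_node (by decide +kernel) coTwoOrthPart34_desc coTwoOrthPart35_desc)) (descends_node (by decide +kernel) (descends_node (by decide +kernel) coTwoOrthPart36_desc coTwoOrthPart37_desc) (descends_node (by decide +kernel) coTwoOrthPart38_desc coTwoOrthPart39_desc))) (descends_node (by decide +kernel) (descends_node (by decide +kernel) (descends_node (by decide +kernel) coTwoOrthPart40_desc coTwoOrthPart41_desc) (descends_node (by decide +kernel) coTwoOrthPart42_desc coTwoOrthPart43_desc)) (descends_node (by decide +kernel) (descends_node (by decide +kernel) coTwoOrthPart44_desc coTwoOrthPart45_desc) (descends_node (by decide +kernel) coTwoOrthPart46_desc coTwoOrthPart47_desc)))) (descends_node (by decide +kernel) (descends_node (by decide +kernel) (descends_node (by decide +kernel) (descends_node (by decide +kernel) coTwoOrthPart48_desc coTwoOrthPart49_desc) (descends_node (by decide +kernel) coTwoOrthPart50_desc coTwoOrthPart51_desc)) (descends_node (by decide +kernel) (descends_node (by decide +kernel) coTwoOrthPart52_desc coTwoOrthPart53_desc) (descends_node (by decide +kernel) coTwoOrthPart54_desc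 coTwoOrthPart55_desc))) (descends_node (by decide +kernel) (descends_node (by decide +kernel) (descends_node (by decide +kernel) coTwoOrthPart56_desc coTwoOrthPart57_desc) (descends_node (by decide +kernel) coTwoOrthPart58_desc coTwoOrthPart59_desc)) (descends_node (by decide +kernel) (descends_node (by decide +kernel) coTwoOrthPart60_desc coTwoOrthPart61_desc) (descends_node (by decide +kernel) coTwoOrthPart62_desc coTwoOrthPart63_desc)))))) (descends_node (by decide +kernel) (descends_node (by decide +kernel) (descends_node (by decide +kernel) (descends_node (by decide +kernel) (descends_node (by decide +kernel) (descends_node (by decide +kernel) coTwoOrthPart64_desc coTwoOrthPart65_desc) (descends_node (by decide +kernel) coTwoOrthPart66_desc coTwoOrthPart67_desc)) (descends_node (by decide +kernel) (descends_node (by decide +kernel) coTwoOrthPart68_desc coTwoOrthPart69_desc) (descends_node (by decide +kernel) coTwoOrthPart70_desc coTwoOrthPart71_desc))) (descends_node (by decide +kernel) (descends_node (by decide +kernel) (descends_node (by decide +kernel) coTwoOrthPart72_desc coTwoOrthPart73_desc) (descends_node (by decide +kernel) coTwoOrthPart74_desc coTwoOrthPart75_desc))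 (descends_node (by decide +kernel) (descends_node (by decide +kernel) coTwoOrthPart76_desc coTwoOrthPart77_desc) (descends_node (by decide +kernel) coTwoOrthPart78_desc coTwoOrthPart79_desc)))) (descends_node (by decide +kernel) (descends_node (by decide +kernel) (descends_node (by decide +kernel) (descends_node (by decide +kernel) coTwoOrthPart80_desc coTwoOrthPart81_desc) (descends_node (by decide +kernel) coTwoOrthPart82_desc coTwoOrthPart83_desc)) (descends_node (by decide +kernel) (descends_node (by decide +kernel) coTwoOrthPart84_desc coTwoOrthPart85_desc) (descends_node (by decide +kernel) coTwoOrthPart86_desc coTwoOrthPart87_desc))) (descends_node (by decide +kernel) (descends_node (by decide +kernel) (descends_node (by decide +kernel) coTwoOrthPart88_desc coTwoOrthPart89_desc) (descends_node (by decide +kernel) coTwoOrthPart90_desc coTwoOrthPart91_desc)) (descends_node (by decide +kernel) (descends_node (by decide +kernel) coTwoOrthPart92_desc coTwoOrthPart93_desc) (descends_node (by decide +kernel) coTwoOrthPart94_desc coTwoOrthPart95_desc))))) (descends_node (by decide +kernel) (descends_node (by decide +kernel) (descends_node (by decide +kernel) (descends_node (by decide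 +kernel) (descends_node (by decide +kernel) coTwoOrthPart96_desc coTwoOrthPart97_desc) (descends_node (by decide +kernel) coTwoOrthPart98_desc coTwoOrthPart99_desc)) (descends_node (by decide +kernel) (descends_node (by decide +kernel) coTwoOrthPart100_desc coTwoOrthPart101_desc) (descends_node (by decide +kernel) coTwoOrthPart102_desc coTwoOrthPart103_desc))) (descends_node (by decide +kernel) (descends_node (by decide +kernel) (descends_node (by decide +kernel) coTwoOrthPart104_desc coTwoOrthPart105_desc) (descends_node (by decide +kernel) coTwoOrthPart106_desc coTwoOrthPart107_desc)) (descends_node (by decide +kernel) (descends_node (by decide +kernel) coTwoOrthPart108_desc coTwoOrthPart109_desc) (descends_node (by decide +kernel) coTwoOrthPart110_desc coTwoOrthPart111_desc)))) (descends_node (by decide +kernel) (descends_node (by decide +kernel) (descends_node (by decide +kernel) (descends_node (by decide +kernel) coTwoOrthPart112_desc coTwoOrthPart113_desc) (descends_node (by decide +kernel) coTwoOrthPart114_desc coTwoOrthPart115_desc)) (descends_node (by decide +kernel) (descends_node (by decide +kernel) coTwoOrthPart116_desc coTwoOrthPart117_desc) (descends_node (by decide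 +kernel) coTwoOrthPart118_desc coTwoOrthPart119_desc))) (descends_node (by decide +kernel) (descends_node (by decide +kernel) (descends_node (by decide +kernel) coTwoOrthPart120_desc coTwoOrthPart121_desc) (descends_node (by decide +kernel) coTwoOrthPart122_desc coTwoOrthPart123_desc)) (descends_node (by decide +kernel) (descends_node (by decide +kernel) coTwoOrthPart124_desc coTwoOrthPart125_desc) (descends_node (by decide +kernel) coTwoOrthPart126_desc coTwoOrthPart127_desc))))))) (descends_node (by decide +kernel) (descends_node (by decide +kernel) (descends_node (by decide +kernel) (descends_node (by decide +kernel) (descends_node (by decide +kernel) (descends_node (by decide +kernel) (descends_node (by decide +kernel) coTwoOrthPart128_desc coTwoOrthPart129_desc) (descends_node (by decide +kernel) coTwoOrthPart130_desc coTwoOrthPart131_desc)) (descends_node (by decide +kernel) (descends_node (by decide +kernel) coTwoOrthPart132_desc coTwoOrthPart133_desc) (descends_node (by decide +kernel) coTwoOrthPart134_desc coTwoOrthPart135_desc))) (descends_node (by decide +kernel) (descends_node (by decide +kernel) (descends_node (by decide +kernel) coTwoOrthPart136_desc coTwoOrthPart137_desc)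 (descends_node (by decide +kernel) coTwoOrthPart138_desc coTwoOrthPart139_desc)) (descends_node (by decide +kernel) (descends_node (by decide +kernel) coTwoOrthPart140_desc coTwoOrthPart141_desc) (descends_node (by decide +kernel) coTwoOrthPart142_desc coTwoOrthPart143_desc)))) (descends_node (by decide +kernel) (descends_node (by decide +kernel) (descends_node (by decide +kernel) (descends_node (by decide +kernel) coTwoOrthPart144_desc coTwoOrthPart145_desc) (descends_node (by decide +kernel) coTwoOrthPart146_desc coTwoOrthPart147_desc)) (descends_node (by decide +kernel) (descends_node (by decide +kernel) coTwoOrthPart148_desc coTwoOrthPart149_desc) (descends_node (by decide +kernel) coTwoOrthPart150_desc coTwoOrthPart151_desc))) (descends_node (by decide +kernel) (descends_node (by decide +kernel) (descends_node (by decide +kernel) coTwoOrthPart152_desc coTwoOrthPart153_desc) (descends_node (by decide +kernel) coTwoOrthPart154_desc coTwoOrthPart155_desc)) (descends_node (by decide +kernel) (descends_node (by decide +kernel) coTwoOrthPart156_desc coTwoOrthPart157_desc) (descends_node (by decide +kernel) coTwoOrthPart158_desc coTwoOrthPart159_desc))))) (descends_node (by decide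 +kernel) (descends_node (by decide +kernel) (descends_node (by decide +kernel) (descends_node (by decide +kernel) (descends_node (by decide +kernel) coTwoOrthPart160_desc coTwoOrthPart161_desc) (descends_node (by decide +kernel) coTwoOrthPart162_desc coTwoOrthPart163_desc)) (descends_node (by decide +kernel) (descends_node (by decide +kernel) coTwoOrthPart164_desc coTwoOrthPart165_desc) (descends_node (by decide +kernel) coTwoOrthPart166_desc coTwoOrthPart167_desc))) (descends_node (by decide +kernel) (descends_node (by decide +kernel) (descends_node (by decide +kernel) coTwoOrthPart168_desc coTwoOrthPart169_desc) (descends_node (by decide +kernel) coTwoOrthPart170_desc coTwoOrthPart171_desc)) (descends_node (by decide +kernel) (descends_node (by decide +kernel) coTwoOrthPart172_desc coTwoOrthPart173_desc) (descends_node (by decide +kernel) coTwoOrthPart174_desc coTwoOrthPart175_desc)))) (descends_node (by decide +kernel) (descends_node (by decide +kernel) (descends_node (by decide +kernel) (descends_node (by decide +kernel) coTwoOrthPart176_desc coTwoOrthPart177_desc) (descends_node (by decide +kernel) coTwoOrthPart178_desc coTwoOrthPart179_desc)) (descends_node (by decide +kernel)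 (descends_node (by decide +kernel) coTwoOrthPart180_desc coTwoOrthPart181_desc) (descends_node (by decide +kernel) coTwoOrthPart182_desc coTwoOrthPart183_desc))) (descends_node (by decide +kernel) (descends_node (by decide +kernel) (descends_node (by decide +kernel) coTwoOrthPart184_desc coTwoOrthPart185_desc) (descends_node (by decide +kernel) coTwoOrthPart186_desc coTwoOrthPart187_desc)) (descends_node (by decide +kernel) (descends_node (by decide +kernel) coTwoOrthPart188_desc coTwoOrthPart189_desc) (descends_node (by decide +kernel) coTwoOrthPart190_desc coTwoOrthPart191_desc)))))) (descends_node (by decide +kernel) (descends_node (by decide +kernel) (descends_node (by decide +kernel) (descends_node (by decide +kernel) (descends_node (by decide +kernel) (descends_node (by decide +kernel) coTwoOrthPart192_desc coTwoOrthPart193_desc) (descends_node (by decide +kernel) coTwoOrthPart194_desc coTwoOrthPart195_desc)) (descends_node (by decide +kernel) (descends_node (by decide +kernel) coTwoOrthPart196_desc coTwoOrthPart197_desc) (descends_node (by decide +kernel) coTwoOrthPart198_desc coTwoOrthPart199_desc))) (descends_node (by decide +kernel) (descends_node (by decide +kernel)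 (descends_node (by decide +kernel) coTwoOrthPart200_desc coTwoOrthPart201_desc) (descends_node (by decide +kernel) coTwoOrthPart202_desc coTwoOrthPart203_desc)) (descends_node (by decide +kernel) (descends_node (by decide +kernel) coTwoOrthPart204_desc coTwoOrthPart205_desc) (descends_node (by decide +kernel) coTwoOrthPart206_desc coTwoOrthPart207_desc)))) (descends_node (by decide +kernel) (descends_node (by decide +kernel) (descends_node (by decide +kernel) (descends_node (by decide +kernel) coTwoOrthPart208_desc coTwoOrthPart209_desc) (descends_node (by decide +kernel) coTwoOrthPart210_desc coTwoOrthPart211_desc)) (descends_node (by decide +kernel) (descends_node (by decide +kernel) coTwoOrthPart212_desc coTwoOrthPart213_desc) (descends_node (by decide +kernel) coTwoOrthPart214_desc coTwoOrthPart215_desc))) (descends_node (by decide +kernel) (descends_node (by decide +kernel) (descends_node (by decide +kernel) coTwoOrthPart216_desc coTwoOrthPart217_desc) (descends_node (by decide +kernel) coTwoOrthPart218_desc coTwoOrthPart219_desc)) (descends_node (by decide +kernel) (descends_node (by decide +kernel) coTwoOrthPart220_desc coTwoOrthPart221_desc) (descends_node (by decide +kernel)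 coTwoOrthPart222_desc coTwoOrthPart223_desc))))) (descends_node (by decide +kernel) (descends_node (by decide +kernel) (descends_node (by decide +kernel) (descends_node (by decide +kernel) (descends_node (by decide +kernel) coTwoOrthPart224_desc coTwoOrthPart225_desc) (descends_node (by decide +kernel) coTwoOrthPart226_desc coTwoOrthPart227_desc)) (descends_node (by decide +kernel) (descends_node (by decide +kernel) coTwoOrthPart228_desc coTwoOrthPart229_desc) (descends_node (by decide +kernel) coTwoOrthPart230_desc coTwoOrthPart231_desc))) (descends_node (by decide +kernel) (descends_node (by decide +kernel) (descends_node (by decide +kernel) coTwoOrthPart232_desc coTwoOrthPart233_desc) (descends_node (by decide +kernel) coTwoOrthPart234_desc coTwoOrthPart235_desc)) (descends_node (by decide +kernel) (descends_node (by decide +kernel) coTwoOrthPart236_desc coTwoOrthPart237_desc) (descends_node (by decide +kernel) coTwoOrthPart238_desc coTwoOrthPart239_desc)))) (descends_node (by decide +kernel) (descends_node (by decide +kernel) (descends_node (by decide +kernel) (descends_node (by decide +kernel) coTwoOrthPart240_desc coTwoOrthPart241_desc) (descends_node (by decide +kernel)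 coTwoOrthPart242_desc coTwoOrthPart243_desc)) (descends_node (by decide +kernel) (descends_node (by decide +kernel) coTwoOrthPart244_desc coTwoOrthPart245_desc) (descends_node (by decide +kernel) coTwoOrthPart246_desc coTwoOrthPart247_desc))) (descends_node (by decide +kernel) (descends_node (by decide +kernel) (descends_node (by decide +kernel) coTwoOrthPart248_desc coTwoOrthPart249_desc) (descends_node (by decide +kernel) coTwoOrthPart250_desc coTwoOrthPart251_desc)) (descends_node (by decide +kernel) (descends_node (by decide +kernel) coTwoOrthPart252_desc coTwoOrthPart253_desc) (descends_node (by decide +kernel) coTwoOrthPart254_desc coTwoOrthPart255_desc))))))))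

end CfsgLib.Sporadic.Conway
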