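import Cfsg.Agent.Lib.Sporadic.ConwayOrbitSets
import Cfsg.Agent.Lib.Sporadic.OrbitCoTwoMid
import Cfsg.Agent.Lib.Sporadic.OrbitCoTwoOrth

/-!
# The two large orbits of the stabiliser of a minimal vector
-/

set_option autoImplicit false

namespace CfsgLib.Sporadic.Conway

open Cfsg Finset CfsgLib.ThreeTrans.Leech CfsgLib.Sporadic.Lattice

attribute [local irreducible] OTree.entries coTwoMidTree coTwoOrthTree

theorem mid_std {x x' : ↥leechLattice} (h1 : sqNorm (x : Vec) = 32) (h2 : dotInt (pairElt : Vec) (x : Vec) = -8)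
    (h3 : sqNorm (x' : Vec) = 32) (h4 : dotInt (pairElt : Vec) (x' : Vec) = -8) :
    ∃ g : ↥Co0, g • x = x' ∧ g • pairElt = pairElt :=
  one_orbit coTwoMid_ok pairElt rfl (by decide +kernel) (by decide +kernel) (-8) (by decide +kernel)
    (census (mem_shell.2 ⟨pairElt.2, pairElt_norm⟩)).2.1 x x' h1 h2 h3 h4

theorem orth_std {x x' : ↥leechLattice} (h1 : sqNorm (x : Vec) = 32) (h2 : dotInt (pairElt : Vec) (x : Vec) = 0)
    (h3 : sqNorm (x' : Vec) = 32) (h4 : dotInt (pairElt : Vec) (x' : Vec) = 0) :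
    ∃ g : ↥Co0, g • x = x' ∧ g • pairElt = pairElt :=
  one_orbit coTwoOrth_ok pairElt rfl (by decide +kernel) (by decide +kernel) 0 (by decide +kernel)
    (census (mem_shell.2 ⟨pairElt.2, pairElt_norm⟩)).2.2 x x' h1 h2 h3 h4

theorem mid_trans (v w w' : ↥leechLattice) (hv : sqNorm (v : Vec) = 32) (hw : sqNorm (w : Vec) = 32)
    (hw' : sqNorm (w' : Vec) = 32) (hd : dotInt (v : Vec) (w : Vec) = -8)
    (hd' : dotInt (v : Vec) (w' : Vec) = -8) : ∃ g : ↥Co0, g • v = v ∧ g • w = w' := by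
  obtain ⟨g, hg⟩ := to_pair hv
  exact transport hg (fun a b c d => mid_std a b c d) hw hd hw' hd'

theorem orth_trans (v w w' : ↥leechLattice) (hv : sqNorm (v : Vec) = 32) (hw : sqNorm (w : Vec) = 32)
    (hw' : sqNorm (w' : Vec) = 32) (hd : dotInt (v : Vec) (w : Vec) = 0)
    (hd' : dotInt (v : Vec) (w' : Vec) = 0) : ∃ g : ↥Co0, g • v = v ∧ (g • w = w' ∨ g • w = -w') := by
  obtain ⟨g, hg⟩ := to_pair hv
  obtain ⟨a, h1, h2⟩ := transport hg (fun a b c d => orth_std a b c d) hw hd hw' hd'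
  exact ⟨a, h1, Or.inl h2⟩

end CfsgLib.Sporadic.Conway
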