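import Cfsg.Agent.Lib.Sporadic.SubOrbits

/-!
# The actions on octads, hexads, heptads and dodecads: suborbits
-/

set_option autoImplicit false

namespace CfsgLib.Sporadic

open Cfsg MulAction
open scoped Pointwise

theorem smul_empty' (t : ↥M24) : t • (∅ : Finset GolayPt) = ∅ := by
  rw [← Finset.card_eq_zero, card_smul_set, Finset.card_empty]

theorem smul_setOfMask_zero (t : ↥M24) : t • setOfMask 0 = ∅ := by
  rw [setOfMask_zero, smul_empty']

theorem smul_single (t : ↥M24) (x : GolayPt) : t • ({x} : Finset GolayPt) = {t • x} :=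
  Finset.smul_finset_singleton (a := (t : Equiv.Perm GolayPt)) x

theorem smul_pair (t : ↥M24) (x y : GolayPt) : t • ({x, y} : Finset GolayPt) = {t • x, t • y} := by
  ext z
  obtain ⟨w, rfl⟩ : ∃ w, z = t • w := ⟨_, (smul_inv_smul t z).symm⟩
  simp [mem_smul_set]

theorem mask_none : setOfMask 8388608 = ({none} : Finset GolayPt) := by decide +kernel
theorem mask_pt4 : setOfMask 16 = ({some 4} : Finset GolayPt) := by decide +kernel
theorem mask_none0 : setOfMask 8388609 = ({none, some 0} : Finset GolayPt) := by decide +kernel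
theorem mask_pt0 : setOfMask 1 = ({some 0} : Finset GolayPt) := by decide +kernel

theorem inFam_oct {A B b s : Finset GolayPt} {i : ℕ} :
    InFam 8 A B b i s ↔ s ∈ octads ∧ A ⊆ s ∧ Disjoint s B ∧ (b ∩ s).card = i := Iff.rfl

theorem octad_suborbit {o o' o'' : Finset GolayPt} (ho : o ∈ octads) (ho' : o' ∈ octads)
    (ho'' : o'' ∈ octads) (h : (o ∩ o').card = (o ∩ o'').card) :
    ∃ g : ↥M24, g • o = o ∧ g • o' = o'' := by
  obtain ⟨t, rfl⟩ := exists_smul_stdO ho
  obtain ⟨g, h1, -, h3⟩ := exists_smul_fam_moved octSt_ok (by decide) (by decide) (by decide) t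
    (i := (t • setOfMask stdO ∩ o').card) (u := o') (v := o'')
    ⟨ho', by simp [smul_setOfMask_zero], by simp [smul_setOfMask_zero], rfl⟩
    ⟨ho'', by simp [smul_setOfMask_zero], by simp [smul_setOfMask_zero], h.symm⟩
  exact ⟨g, h1, h3⟩

theorem dodecad_suborbit {d d' d'' : Finset GolayPt} (hd : d ∈ dodecads) (hd' : d' ∈ dodecads)
    (hd'' : d'' ∈ dodecads) (h : (d ∩ d').card = (d ∩ d'').card) :
    ∃ g : ↥M24, g • d = d ∧ g • d' = d'' := by
  obtain ⟨t, rfl⟩ := exists_smul_stdD hd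
  obtain ⟨g, h1, -, h3⟩ := exists_smul_fam_moved dodSt_ok (by decide) (by decide) (by decide) t
    (i := (t • setOfMask stdD ∩ d').card) (u := d') (v := d'')
    ⟨hd', by simp [smul_setOfMask_zero], by simp [smul_setOfMask_zero], rfl⟩
    ⟨hd'', by simp [smul_setOfMask_zero], by simp [smul_setOfMask_zero], h.symm⟩
  exact ⟨g, h1, h3⟩

theorem hexad_frame {o : Finset GolayPt} (ho : o ∈ octads) {p q : GolayPt} (hpq : p ≠ q)
    (hp : p ∈ o) (hq : q ∈ o) :
    ∃ t : ↥M24, t • setOfMask stdO = o ∧ t • (none : GolayPt) = p ∧ t • (some 0 : GolayPt) = q := by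
  obtain ⟨t, e1, e2⟩ := exists_frame ho [p, q] (by simp [hpq]) (by simp [hp, hq]) (by simp)
  simp only [List.length_cons, List.length_nil, List.take_succ_cons, List.take_zero, List.map_cons,
    List.map_nil, List.cons.injEq, and_true] at e2
  exact ⟨t, e1, e2.1, e2.2⟩

theorem heptad_frame {o : Finset GolayPt} (ho : o ∈ octads) {p : GolayPt} (hp : p ∈ o) :
    ∃ t : ↥M24, t • setOfMask stdO = o ∧ t • (none : GolayPt) = p := by
  obtain ⟨t, e1, e2⟩ := exists_frame ho [p] (by simp) (by simp [hp]) (by simp)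
  simp only [List.length_cons, List.length_nil, List.take_succ_cons, List.take_zero, List.map_cons,
    List.map_nil, List.cons.injEq, and_true] at e2
  exact ⟨t, e1, e2⟩

theorem inout_frame {o : Finset GolayPt} (ho : o ∈ octads) {p q : GolayPt} (hp : p ∈ o) (hq : q ∉ o) :
    ∃ t : ↥M24, t • setOfMask stdO = o ∧ t • (none : GolayPt) = p ∧ t • (some 4 : GolayPt) = q := by
  obtain ⟨t, e1, e2, e3⟩ := exists_frame_out ho [p] (by simp) (by simp [hp]) (by simp) hq
  simp only [List.length_cons, List.length_nil, List.take_succ_cons, List.take_zero, List.map_cons,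
    List.map_nil, List.cons.injEq, and_true] at e2
  exact ⟨t, e1, e2, e3⟩

theorem out_frame {o : Finset GolayPt} (ho : o ∈ octads) {q : GolayPt} (hq : q ∉ o) :
    ∃ t : ↥M24, t • setOfMask stdO = o ∧ t • (some 4 : GolayPt) = q := by
  obtain ⟨t, e1, -, e3⟩ := exists_frame_out ho [] (by simp) (by simp) (by simp) hq
  exact ⟨t, e1, e3⟩

theorem dodecad_frame {d : Finset GolayPt} (hd : d ∈ dodecads) {x : GolayPt} (hx : x ∈ d) :
    ∃ t : ↥M24, t • setOfMask stdD = d ∧ t • (some 0 : GolayPt) = x := by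
  obtain ⟨t, rfl⟩ := exists_smul_stdD hd
  have hx' : t⁻¹ • x ∈ setOfMask stdD := by
    rw [← mem_smul_set t, smul_inv_smul]; exact hx
  obtain ⟨g, hg, e⟩ := exists_map_dodecad stdD_mem (k := 1) (by norm_num)
    ⟨fun _ => some 0, fun _ _ _ => Subsingleton.elim _ _⟩
    ⟨fun _ => t⁻¹ • x, fun _ _ _ => Subsingleton.elim _ _⟩
    (fun _ => show (some 0 : GolayPt) ∈ setOfMask stdD by decide +kernel) (fun _ => hx')
  have e0 : g • (some 0 : GolayPt) = t⁻¹ • x := e 0
  exact ⟨t * g, by rw [mul_smul, hg], by rw [mul_smul, e0, smul_inv_smul]⟩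

theorem pair_pts {x : GolayPt} (h : x = none ∨ x = some 0) : ix x ∈ [23, 0] := by
  rcases h with rfl | rfl <;> decide +kernel

/-- M22 on its hexads. -/
theorem hexad_suborbits {o : Finset GolayPt} (ho : o ∈ octads) {p q : GolayPt} (hpq : p ≠ q)
    (hp : p ∈ o) (hq : q ∈ o) :
    (∀ n : ℕ, {x : Finset GolayPt | x ∈ octads ∧ p ∈ x ∧ q ∈ x ∧ (o ∩ x).card = n}.ncard =
      countLt 4096 (fun k => famMask 8 8388609 0 stdO n (enc k))) ∧
    ∀ o' o'' : Finset GolayPt, o' ∈ octads → o'' ∈ octads → p ∈ o' → q ∈ o' → p ∈ o'' → q ∈ o'' →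
      (o ∩ o').card = (o ∩ o'').card →
      ∃ g : ↥M24, g • p = p ∧ g • q = q ∧ g • o = o ∧ g • o' = o'' := by
  obtain ⟨t, rfl, rfl, rfl⟩ := hexad_frame ho hpq hp hq
  have hA : t • setOfMask 8388609 = {t • none, t • some 0} := by rw [mask_none0, smul_pair]
  refine ⟨fun n => ?_, fun o' o'' h' h'' a b c d he => ?_⟩
  · rw [← ncard_fam (A := 8388609) (B := 0) t (by norm_num) (by norm_num) (by decide)]
    congr 1
    ext x
    simp [inFam_oct, hA, smul_setOfMask_zero, Finset.insert_subset_iff, and_assoc]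
  · obtain ⟨g, h1, h2, h3⟩ := exists_smul_fam_moved octPQ_ok (by norm_num) (by norm_num) (by decide) t
      (i := (t • setOfMask stdO ∩ o').card) (u := o') (v := o'')
      ⟨h', by simp [hA, Finset.insert_subset_iff, a, b], by simp [smul_setOfMask_zero], rfl⟩
      ⟨h'', by simp [hA, Finset.insert_subset_iff, c, d], by simp [smul_setOfMask_zero], he.symm⟩
    exact ⟨g, h2 none (pair_pts (Or.inl rfl)), h2 (some 0) (pair_pts (Or.inr rfl)), h1, h3⟩

theorem count_heptads_both {p q : GolayPt} (hpq : p ≠ q) :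
    {x : Finset GolayPt | x ∈ octads ∧ p ∈ x ∧ q ∉ x}.ncard = 176 := by
  obtain ⟨t, e1, e2⟩ := exists_map_two (p := none) (q := (some 4 : GolayPt)) (p' := p) (q' := q)
    (by simp) hpq
  subst e1 e2
  rw [← ncard_smul_congr t
    (P := fun x : Finset GolayPt => x ∈ octads ∧ (none : GolayPt) ∈ x ∧ (some 4 : GolayPt) ∉ x)
    (Q := fun x : Finset GolayPt => x ∈ octads ∧ t • (none : GolayPt) ∈ x ∧ t • (some 4 : GolayPt) ∉ x)
    fun x => by rw [smul_mem_octads', mem_smul_set, mem_smul_set]]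
  rw [ncard_eq_countList 8 (fun m => Nat.beq (bitAt m 23) 1 && !(Nat.beq (bitAt m 4) 1)) fun s => by
    show (s ∈ octads ∧ _) ↔ _
    refine and_congr_right fun _ => ?_
    rw [mem_iff_bitAt, mem_iff_bitAt]
    simp only [Bool.and_eq_true, Bool.not_eq_true', Bool.eq_false_iff, ne_eq, Nat.beq_eq]
    rfl]
  decide +kernel

/-- M22 on its heptads. -/
theorem heptad22_suborbits {o : Finset GolayPt} (ho : o ∈ octads) {p q : GolayPt}
    (hp : p ∈ o) (hq : q ∉ o) :
    (∀ n : ℕ, {x : Finset GolayPt | (x ∈ octads ∧ p ∈ x ∧ q ∉ x) ∧ (o ∩ x).card = n}.ncard =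
      countLt 4096 (fun k => famMask 8 8388608 16 stdO n (enc k))) ∧
    ∀ o' o'' : Finset GolayPt, (o' ∈ octads ∧ p ∈ o' ∧ q ∉ o') → (o'' ∈ octads ∧ p ∈ o'' ∧ q ∉ o'') →
      (o ∩ o').card = (o ∩ o'').card →
      ∃ g : ↥M24, g • p = p ∧ g • q = q ∧ g • o = o ∧ g • o' = o'' := by
  obtain ⟨t, rfl, rfl, rfl⟩ := inout_frame ho hp hq
  have hA : t • setOfMask 8388608 = {t • none} := by rw [mask_none, smul_single]
  have hB : t • setOfMask 16 = {t • some 4} := by rw [mask_pt4, smul_single]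
  refine ⟨fun n => ?_, fun o' o'' h' h'' he => ?_⟩
  · rw [← ncard_fam (A := 8388608) (B := 16) t (by norm_num) (by norm_num) (by decide)]
    congr 1
    ext x
    simp [inFam_oct, hA, hB, and_assoc]
  · obtain ⟨g, h1, h2, h3⟩ := exists_smul_fam_moved octPout_ok (by norm_num) (by norm_num) (by decide) t
      (i := (t • setOfMask stdO ∩ o').card) (u := o') (v := o'')
      ⟨h'.1, by simp [hA, h'.2.1], by simp [hB, h'.2.2], rfl⟩
      ⟨h''.1, by simp [hA, h''.2.1], by simp [hB, h''.2.2], he.symm⟩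
    exact ⟨g, h2 none (by decide +kernel), h2 (some 4) (by decide +kernel), h1, h3⟩

theorem exists_smul_heptad {o o' : Finset GolayPt} {p q : GolayPt} (ho : o ∈ octads) (hp : p ∈ o)
    (hq : q ∉ o) (ho' : o' ∈ octads) (hp' : p ∈ o') (hq' : q ∉ o') :
    ∃ g : ↥M24, g • p = p ∧ g • q = q ∧ g • o = o' := by
  obtain ⟨t, e1, e2, e3⟩ := inout_frame ho hp hq
  obtain ⟨u, f1, f2, f3⟩ := inout_frame ho' hp' hq'
  refine ⟨u * t⁻¹, ?_, ?_, ?_⟩
  · rw [mul_smul, inv_smul_eq_iff.2 e2.symm, f2]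
  · rw [mul_smul, inv_smul_eq_iff.2 e3.symm, f3]
  · rw [mul_smul, inv_smul_eq_iff.2 e1.symm, f1]

/-- M23 on its heptads. -/
theorem heptad23_suborbits {o : Finset GolayPt} (ho : o ∈ octads) {p : GolayPt} (hp : p ∈ o) :
    (∀ n : ℕ, {x : Finset GolayPt | x ∈ octads ∧ p ∈ x ∧ (o ∩ x).card = n}.ncard =
      countLt 4096 (fun k => famMask 8 8388608 0 stdO n (enc k))) ∧
    ∀ o' o'' : Finset GolayPt, o' ∈ octads → o'' ∈ octads → p ∈ o' → p ∈ o'' →
      (o ∩ o').card = (o ∩ o'').card → ∃ g : ↥M24, g • p = p ∧ g • o = o ∧ g • o' = o'' := by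
  obtain ⟨t, rfl, rfl⟩ := heptad_frame ho hp
  have hA : t • setOfMask 8388608 = {t • none} := by rw [mask_none, smul_single]
  refine ⟨fun n => ?_, fun o' o'' h' h'' a c he => ?_⟩
  · rw [← ncard_fam (A := 8388608) (B := 0) t (by norm_num) (by norm_num) (by decide)]
    congr 1
    ext x
    simp [inFam_oct, hA, smul_setOfMask_zero]
  · obtain ⟨g, h1, h2, h3⟩ := exists_smul_fam_moved octP_ok (by norm_num) (by norm_num) (by decide) t
      (i := (t • setOfMask stdO ∩ o').card) (u := o') (v := o'')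
      ⟨h', by simp [hA, a], by simp [smul_setOfMask_zero], rfl⟩
      ⟨h'', by simp [hA, c], by simp [smul_setOfMask_zero], he.symm⟩
    exact ⟨g, h2 none (by decide +kernel), h1, h3⟩

/-- M23 on the octads that avoid its point. -/
theorem octad23_suborbits {o : Finset GolayPt} (ho : o ∈ octads) {q : GolayPt} (hq : q ∉ o) :
    (∀ n : ℕ, {x : Finset GolayPt | x ∈ octads ∧ q ∉ x ∧ (o ∩ x).card = n}.ncard =
      countLt 4096 (fun k => famMask 8 0 16 stdO n (enc k))) ∧
    ∀ o' o'' : Finset GolayPt, o' ∈ octads → o'' ∈ octads → q ∉ o' → q ∉ o'' →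
      (o ∩ o').card = (o ∩ o'').card → ∃ g : ↥M24, g • q = q ∧ g • o = o ∧ g • o' = o'' := by
  obtain ⟨t, rfl, rfl⟩ := out_frame ho hq
  have hB : t • setOfMask 16 = {t • some 4} := by rw [mask_pt4, smul_single]
  refine ⟨fun n => ?_, fun o' o'' h' h'' a c he => ?_⟩
  · rw [← ncard_fam (A := 0) (B := 16) t (by norm_num) (by norm_num) (by decide)]
    congr 1
    ext x
    simp [inFam_oct, hB, smul_setOfMask_zero]
  · obtain ⟨g, h1, h2, h3⟩ := exists_smul_fam_moved octX_ok (by norm_num) (by norm_num) (by decide) t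
      (i := (t • setOfMask stdO ∩ o').card) (u := o') (v := o'')
      ⟨h', by simp [smul_setOfMask_zero], by simp [hB, a], rfl⟩
      ⟨h'', by simp [smul_setOfMask_zero], by simp [hB, c], he.symm⟩
    exact ⟨g, h2 (some 4) (by decide +kernel), h1, h3⟩

/-- M23 on the dodecads through its point. -/
theorem dodecad23_suborbits {d : Finset GolayPt} (hd : d ∈ dodecads) {x : GolayPt} (hx : x ∈ d) :
    (∀ n : ℕ, {y : Finset GolayPt | y ∈ dodecads ∧ x ∈ y ∧ (d ∩ y).card = n}.ncard =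
      countLt 4096 (fun k => famMask 12 1 0 stdD n (enc k))) ∧
    ∀ d' d'' : Finset GolayPt, d' ∈ dodecads → d'' ∈ dodecads → x ∈ d' → x ∈ d'' →
      (d ∩ d').card = (d ∩ d'').card → ∃ g : ↥M24, g • x = x ∧ g • d = d ∧ g • d' = d'' := by
  obtain ⟨t, rfl, rfl⟩ := dodecad_frame hd hx
  have hA : t • setOfMask 1 = {t • some 0} := by rw [mask_pt0, smul_single]
  refine ⟨fun n => ?_, fun d' d'' h' h'' a c he => ?_⟩
  · rw [← ncard_fam (A := 1) (B := 0) t (by norm_num) (by norm_num) (by decide)]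
    congr 1
    ext y
    simp only [InFam, hA, smul_setOfMask_zero, Finset.disjoint_empty_right,
      Finset.singleton_subset_iff, true_and, Set.mem_ofPred_eq]
    rfl
  · obtain ⟨g, h1, h2, h3⟩ := exists_smul_fam_moved dodX_ok (by norm_num) (by norm_num) (by decide) t
      (i := (t • setOfMask stdD ∩ d').card) (u := d') (v := d'')
      ⟨h', by simp [hA, a], by simp [smul_setOfMask_zero], rfl⟩
      ⟨h'', by simp [hA, c], by simp [smul_setOfMask_zero], he.symm⟩
    exact ⟨g, h2 (some 0) (by decide +kernel), h1, h3⟩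

end CfsgLib.Sporadic
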