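import Cfsg.Agent.Lib.Sporadic.Census

/-!
# The pointwise stabiliser of an octad
-/

set_option autoImplicit false

namespace CfsgLib.Sporadic

open Cfsg
open scoped Pointwise

/-- The standard octad, through the first five base points. -/
def stdO : ℕ := 8536111

theorem stdO_mem : setOfMask stdO ∈ octads := by
  rw [mem_octads_iff, maskOf_setOfMask (by decide)]; decide +kernel

theorem exists_smul_stdO {o : Finset GolayPt} (ho : o ∈ octads) :
    ∃ g : ↥M24, g • setOfMask stdO = o := by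
  obtain ⟨g, hg, e⟩ := exists_smul_octad stdO_mem ho
  exact ⟨⟨g, hg⟩, e⟩

/-- The packed elements of the pointwise stabiliser of the standard octad. -/
def octFixList : List ℕ := pone :: m24Trans6

theorem octFixList_ok : octFixList.all (fun p => isAut p && Nat.beq (pmul p p) pone &&
    forallLt 24 (fun i => Nat.beq (bitAt stdO i) 0 || Nat.beq (pget p i) i)) = true ∧
    bitmap id (octFixList.map fun p => pget p 4) = Nat.xor 16777215 stdO := by
  constructor <;> decide +kernel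

theorem octFixList_spec {p : ℕ} (hp : p ∈ octFixList) :
    ∃ σ ∈ M24, Rep σ p ∧ σ * σ = 1 ∧ ∀ x ∈ setOfMask stdO, σ x = x := by
  have h := octFixList_ok.1
  simp only [List.all_eq_true, Bool.and_eq_true, Nat.beq_eq] at h
  obtain ⟨⟨h1, h2⟩, h3⟩ := h p hp
  obtain ⟨σ, hσ, hr⟩ := exists_mem_M24 h1
  refine ⟨σ, hσ, hr, (hr.mul hr).unique (h2.symm ▸ Rep.one), fun x hx => ?_⟩
  have := forallLt_elim h3 (ix_lt x)
  simp only [Bool.or_eq_true, Nat.beq_eq] at this
  rw [mem_setOfMask] at hx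
  refine ix_injective ((hr x).symm.trans (this.resolve_left ?_))
  simp [bitAt_eq, hx]

theorem octFix_ext {σ τ : Equiv.Perm GolayPt} (hσ : σ ∈ M24) (hτ : τ ∈ M24)
    (h1 : ∀ x ∈ setOfMask stdO, σ x = x) (h2 : ∀ x ∈ setOfMask stdO, τ x = x)
    (h : σ (pt 4) = τ (pt 4)) : σ = τ := by
  have : τ⁻¹ * σ = 1 := eq_one_of_fix_base (mul_mem (inv_mem hτ) hσ) fun i hi => by
    rw [Equiv.Perm.mul_apply, Equiv.Perm.inv_eq_iff_eq]
    by_cases hi4 : i = 4
    · subst hi4; exact h
    · have hm : pt i ∈ setOfMask stdO := by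
        revert hi4; revert hi; revert i; decide +kernel
      rw [h1 _ hm, h2 _ hm]
  exact (inv_mul_eq_one.1 this).symm

theorem octFix_mem_list {σ : Equiv.Perm GolayPt} (hσ : σ ∈ M24)
    (h : ∀ x ∈ setOfMask stdO, σ x = x) : ∃ p ∈ octFixList, Rep σ p := by
  have hout : ix (σ (pt 4)) < 24 ∧ (16777215 ^^^ stdO).testBit (ix (σ (pt 4))) = true := by
    refine ⟨ix_lt _, ?_⟩
    have hn : σ (pt 4) ∉ setOfMask stdO := fun hx => by
      have := σ.injective (h _ hx)
      rw [this] at hx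
      revert hx; decide +kernel
    rw [mem_setOfMask] at hn
    rw [Nat.testBit_xor]
    have h1 : (16777215 : ℕ).testBit (ix (σ (pt 4))) = true := by
      rw [← maskOf_univ, testBit_maskOf]; simp
    simp [h1, hn]
  have hb := octFixList_ok.2
  change bitmap id (octFixList.map fun p => pget p 4) = 16777215 ^^^ stdO at hb
  rw [← hb, testBit_bitmap] at hout
  obtain ⟨v, hv, e⟩ := hout.2
  obtain ⟨p, hp, rfl⟩ := List.mem_map.1 hv
  obtain ⟨τ, hτ, hr, -, hfix⟩ := octFixList_spec hp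
  refine ⟨p, hp, ?_⟩
  have : σ = τ := octFix_ext hσ hτ h hfix (ix_injective (by
    rw [← hr (pt 4)]
    exact e.symm))
  exact this ▸ hr

/-- Elements of M24 fixing an octad pointwise square to the identity. -/
theorem sq_eq_one_of_fix {o : Finset GolayPt} (ho : o ∈ octads) {g : ↥M24}
    (h : ∀ x ∈ o, g • x = x) : g * g = 1 := by
  obtain ⟨t, rfl⟩ := exists_smul_stdO ho
  have hfix : ∀ x ∈ setOfMask stdO, (t⁻¹ * g * t) • x = x := fun x hx => by
    rw [mul_smul, mul_smul, h _ ((mem_smul_set t).2 hx), inv_smul_smul]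
  obtain ⟨p, hp, hr⟩ := octFix_mem_list (t⁻¹ * g * t).2 hfix
  obtain ⟨σ, -, hr', h2, -⟩ := octFixList_spec hp
  have e : (t⁻¹ * g * t) * (t⁻¹ * g * t) = 1 := Subtype.ext (by
    rw [Subgroup.coe_mul, hr.unique hr', h2, Subgroup.coe_one])
  have : g * g = t * ((t⁻¹ * g * t) * (t⁻¹ * g * t)) * t⁻¹ := by group
  rw [this, e, mul_one, mul_inv_cancel]

theorem card_fix_stdO :
    Nat.card {g : ↥M24 // ∀ x ∈ setOfMask stdO, g • x = x} = 16 := by
  let S : Finset GolayPt := Finset.univ.filter (fun x => x ∉ setOfMask stdO)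
  have hS : S.card = 16 := by decide +kernel
  rw [← hS, ← Fintype.card_coe, Fintype.card_eq_nat_card]
  refine Nat.card_eq_of_bijective (fun g => ⟨g.1 • pt 4, ?_⟩) ⟨fun g g' e => ?_, fun y => ?_⟩
  · simp only [S, Finset.mem_filter, Finset.mem_univ, true_and]
    intro hx
    have e : g.1 • pt 4 = pt 4 := MulAction.injective g.1 (g.2 _ hx)
    rw [e] at hx
    revert hx; decide +kernel
  · exact Subtype.ext (Subtype.ext (octFix_ext g.1.2 g'.1.2 g.2 g'.2 (congrArg Subtype.val e)))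
  · obtain ⟨y, hy⟩ := y
    simp only [S, Finset.mem_filter, Finset.mem_univ, true_and, mem_setOfMask] at hy
    have h1 : (16777215 : ℕ).testBit (ix y) = true := by
      rw [← maskOf_univ, testBit_maskOf]; simp
    have hb : (16777215 ^^^ stdO).testBit (ix y) = true := by simp [Nat.testBit_xor, h1, hy]
    have hlist := octFixList_ok.2
    change bitmap id (octFixList.map fun p => pget p 4) = 16777215 ^^^ stdO at hlist
    rw [← hlist, testBit_bitmap] at hb
    obtain ⟨v, hv, e⟩ := hb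
    obtain ⟨p, hp, rfl⟩ := List.mem_map.1 hv
    obtain ⟨σ, hσ, hr, -, hfix⟩ := octFixList_spec hp
    exact ⟨⟨⟨σ, hσ⟩, hfix⟩, Subtype.ext (ix_injective ((hr (pt 4)).symm.trans e))⟩

theorem card_fix_octad {o : Finset GolayPt} (ho : o ∈ octads) :
    Nat.card {g : ↥M24 // ∀ x ∈ o, g • x = x} = 16 := by
  obtain ⟨t, rfl⟩ := exists_smul_stdO ho
  rw [← card_fix_stdO]
  refine (Nat.card_congr ((MulAut.conj t).toEquiv.subtypeEquiv fun g => ?_)).symm
  show (∀ x ∈ setOfMask stdO, g • x = x) ↔ ∀ x ∈ t • setOfMask stdO, (t * g * t⁻¹) • x = x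
  constructor
  · intro h x hx
    obtain ⟨y, rfl⟩ : ∃ y, x = t • y := ⟨_, (smul_inv_smul t x).symm⟩
    rw [mem_smul_set] at hx
    rw [mul_smul, mul_smul, inv_smul_smul, h y hx]
  · intro h x hx
    have := h (t • x) ((mem_smul_set t).2 hx)
    rwa [mul_smul, mul_smul, inv_smul_smul, smul_left_cancel_iff] at this

theorem octad_fix_perm {o : Finset GolayPt} (ho : o ∈ octads) :
    Nat.card ↥(M24 ⊓ fixingSubgroup (Equiv.Perm GolayPt) (o : Set GolayPt)) = 16 ∧
      ∀ g ∈ M24 ⊓ fixingSubgroup (Equiv.Perm GolayPt) (o : Set GolayPt), g * g = 1 := by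
  constructor
  · rw [← card_fix_octad ho]
    refine Nat.card_eq_of_bijective (fun g =>
      (⟨⟨g.1, (Subgroup.mem_inf.1 g.2).1⟩, fun x hx =>
        (mem_fixingSubgroup_iff _).1 (Subgroup.mem_inf.1 g.2).2 x hx⟩ :
        {g : ↥M24 // ∀ x ∈ o, g • x = x})) ⟨fun a b e => ?_, fun g => ?_⟩
    · exact Subtype.ext (congrArg (fun z => (z.1 : Equiv.Perm GolayPt)) e)
    · exact ⟨⟨g.1.1, Subgroup.mem_inf.2 ⟨g.1.2, (mem_fixingSubgroup_iff _).2 g.2⟩⟩, rfl⟩
  · intro g hg
    have h := sq_eq_one_of_fix ho (g := ⟨g, (Subgroup.mem_inf.1 hg).1⟩) fun x hx =>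
      (mem_fixingSubgroup_iff _).1 (Subgroup.mem_inf.1 hg).2 x hx
    exact congrArg Subtype.val h

end CfsgLib.Sporadic
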