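import Cfsg.Agent.Lib.Sporadic.SubOrbitData
import Cfsg.Agent.Lib.Sporadic.M12
import Cfsg.Agent.Lib.Sporadic.Octad
import Cfsg.Agent.Lib.Sporadic.Mathieu

/-!
# Orbits of the stabilisers of octads and dodecads on octads and on dodecads
-/

set_option autoImplicit false

namespace CfsgLib.Sporadic

open Cfsg MulAction
open scoped Pointwise

/-- Code words of weight `w` containing `A`, avoiding `B`, meeting `b` in `i` points. -/
noncomputable def famMask (w A B b i m : ℕ) : Bool :=
  Nat.beq (popc m) w && Nat.beq (Nat.land m A) A && Nat.beq (Nat.land m B) 0 &&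
    Nat.beq (popc (Nat.land b m)) i

/-- The same family, as sets. -/
def InFam (w : ℕ) (A B : Finset GolayPt) (b : Finset GolayPt) (i : ℕ) (s : Finset GolayPt) : Prop :=
  s ∈ wordsOfWeight (golayCode : Set (GolayPt → ZMod 2)) w ∧ A ⊆ s ∧ Disjoint s B ∧ (b ∩ s).card = i

theorem inFam_iff {w i : ℕ} {A B b : ℕ} (hA : A < 2 ^ 24) (hB : B < 2 ^ 24) (hb : b < 2 ^ 24)
    {s : Finset GolayPt} :
    InFam w (setOfMask A) (setOfMask B) (setOfMask b) i s ↔
      inCode (maskOf s) = true ∧ famMask w A B b i (maskOf s) = true := by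
  simp only [InFam, mem_wordsOfWeight_iff, famMask, Bool.and_eq_true, Nat.beq_eq]
  rw [subset_iff_land, disjoint_iff_land, card_inter_maskOf, maskOf_setOfMask hA, maskOf_setOfMask hB,
    maskOf_setOfMask hb, Nat.and_comm A (maskOf s)]
  show (_ ∧ _ ∧ _ ∧ popc (b &&& maskOf s) = i) ↔ _
  constructor
  · rintro ⟨⟨h1, h2⟩, h3, h4, h5⟩; exact ⟨h1, ⟨⟨h2, h3⟩, h4⟩, h5⟩
  · rintro ⟨h1, ⟨⟨h2, h3⟩, h4⟩, h5⟩; exact ⟨⟨h1, h2⟩, h3, h4, h5⟩

/-- A complete certificate of the orbits on a family. -/
noncomputable def orbitsOK (gens : List ℕ) (b w A B : ℕ) (pts : List ℕ)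
    (orbits : List (ℕ × ℕ × List ℕ)) : Bool :=
  stabGens gens b pts &&
  orbits.all (fun e => inCode e.2.1 &&
    Nat.beq (bitmap (fun m => Nat.land m 4095) (walk (stepMask gens) e.2.2 e.2.1))
      (maskLt 4096 (fun k => famMask w A B b e.1 (enc k)))) &&
  forallLt 25 (fun i => orbits.any (fun e => Nat.beq e.1 i) ||
    Nat.beq (countList (codeList w) (fun m => Nat.beq (Nat.land m A) A && Nat.beq (Nat.land m B) 0 &&
      Nat.beq (popc (Nat.land b m)) i)) 0)

/-- Two members of the family in the same class are conjugate under the stabiliser. -/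
theorem exists_smul_fam {gens : List ℕ} {b w A B : ℕ} {pts : List ℕ}
    {orbits : List (ℕ × ℕ × List ℕ)} (h : orbitsOK gens b w A B pts orbits = true)
    (hA : A < 2 ^ 24) (hB : B < 2 ^ 24) (hb : b < 2 ^ 24) {i : ℕ} {s t : Finset GolayPt}
    (hs : InFam w (setOfMask A) (setOfMask B) (setOfMask b) i s)
    (ht : InFam w (setOfMask A) (setOfMask B) (setOfMask b) i t) :
    ∃ g : ↥M24, g • setOfMask b = setOfMask b ∧ (∀ x : GolayPt, ix x ∈ pts → g • x = x) ∧
      g • s = t := by
  simp only [orbitsOK, Bool.and_eq_true, List.all_eq_true, Nat.beq_eq] at h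
  obtain ⟨⟨hg, horb⟩, hall⟩ := h
  rw [inFam_iff hA hB hb] at hs ht
  have hi : i < 25 := by
    have := hs.2
    simp only [famMask, Bool.and_eq_true, Nat.beq_eq] at this
    rw [← this.2, ← card_setOfMask]
    exact Nat.lt_succ_of_le ((Finset.card_le_univ _).trans (le_of_eq (by decide)))
  have := forallLt_elim hall hi
  rw [Bool.or_eq_true, List.any_eq_true, Nat.beq_eq] at this
  obtain ⟨e, he, hei⟩ : ∃ e ∈ orbits, e.1 = i := by
    rcases this with ⟨e, he, hei⟩ | hzero
    · exact ⟨e, he, Nat.eq_of_beq_eq_true hei⟩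
    · exfalso
      have hnc := ncard_eq_countList (S := {u | u ∈ wordsOfWeight (golayCode : Set (GolayPt → ZMod 2)) w ∧
        (Nat.beq (Nat.land (maskOf u) A) A && Nat.beq (Nat.land (maskOf u) B) 0 &&
          Nat.beq (popc (Nat.land b (maskOf u))) i) = true}) w
        (fun x => Nat.beq (Nat.land x A) A && Nat.beq (Nat.land x B) 0 &&
          Nat.beq (popc (Nat.land b x)) i) (fun _ => Iff.rfl)
      rw [hzero, Set.ncard_eq_zero] at hnc
      have h1 := hs.2
      simp only [famMask, Bool.and_eq_true, Nat.beq_eq] at h1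
      refine Set.eq_empty_iff_forall_notMem.1 hnc s ⟨mem_wordsOfWeight_iff.2 ⟨hs.1, h1.1.1.1⟩, ?_⟩
      simp only [Bool.and_eq_true, Nat.beq_eq]
      exact ⟨⟨h1.1.1.2, h1.1.2⟩, h1.2⟩
  subst hei
  let H : Subgroup ↥M24 :=
    stabilizer ↥M24 (setOfMask b) ⊓ fixingSubgroup ↥M24 {x : GolayPt | ix x ∈ pts}
  have hH : GensIn H gens := fun p hp => by
    obtain ⟨g, h1, h2, h3⟩ := stabGens_in hg p hp
    exact ⟨g, Subgroup.mem_inf.2 ⟨h1, (mem_fixingSubgroup_iff _).2 h3⟩, h2⟩
  obtain ⟨hroot, hmap⟩ := horb e he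
  obtain ⟨g1, m1, e1⟩ := exists_smul_code hH hroot hmap hs.1 hs.2
  obtain ⟨g2, m2, e2⟩ := exists_smul_code hH hroot hmap ht.1 ht.2
  have hm := Subgroup.mem_inf.1 (mul_mem m2 (inv_mem m1))
  exact ⟨g2 * g1⁻¹, hm.1, fun x hx => (mem_fixingSubgroup_iff _).1 hm.2 x hx,
    by rw [mul_smul, ← e1, inv_smul_smul, e2]⟩

set_option maxRecDepth 100000

theorem octSt_ok : orbitsOK octStGens stdO 8 0 0 [] octStOrbits = true := by decide +kernel
theorem octPQ_ok : orbitsOK octPQGens stdO 8 8388609 0 [23, 0] octPQOrbits = true := by decide +kernel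
theorem octPout_ok : orbitsOK octPoutGens stdO 8 8388608 16 [23, 4] octPoutOrbits = true := by
  decide +kernel
theorem octP_ok : orbitsOK octPGens stdO 8 8388608 0 [23] octPOrbits = true := by decide +kernel
theorem octX_ok : orbitsOK octXGens stdO 8 0 16 [4] octXOrbits = true := by decide +kernel
theorem dodSt_ok : orbitsOK dodStGens stdD 12 0 0 [] dodStOrbits = true := by decide +kernel
theorem dodX_ok : orbitsOK dodXGens stdD 12 1 0 [0] dodXOrbits = true := by decide +kernel

theorem setOfMask_zero : setOfMask 0 = ∅ := by ext x; simp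

/-! ### frames -/

theorem smul_eq_stdO_of_five {o : Finset GolayPt} (ho : o ∈ octads) (g : ↥M24)
    {ys : List GolayPt} (hys : ys.length = 5) (hn : ys.Nodup) (hin : ∀ y ∈ ys, y ∈ setOfMask stdO)
    (him : ∀ y ∈ ys, g • y ∈ o) : g • setOfMask stdO = o := by
  refine eq_of_inter_five ((smul_mem_octads' g).2 stdO_mem) ho ?_
  rw [← hys, ← List.toFinset_card_of_nodup hn, ← card_smul_set g]
  refine Finset.card_le_card fun z hz => ?_
  obtain ⟨y, rfl⟩ : ∃ y, z = g • y := ⟨_, (smul_inv_smul g z).symm⟩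
  rw [mem_smul_set, List.mem_toFinset] at hz
  exact Finset.mem_inter.2 ⟨(mem_smul_set g).2 (hin y hz), him y hz⟩

/-- Move the standard octad with up to two of its points onto any octad with points on it. -/
theorem exists_frame {o : Finset GolayPt} (ho : o ∈ octads) (l : List GolayPt) (hl : l.Nodup)
    (hlo : ∀ x ∈ l, x ∈ o) (hl5 : l.length ≤ 5) :
    ∃ g : ↥M24, g • setOfMask stdO = o ∧
      ([none, some 0, some 1, some 2, some 3].take l.length).map (g • ·) = l := by
  obtain ⟨r, hr, hrc⟩ := Finset.exists_subset_card_eq (s := o \ l.toFinset) (n := 5 - l.length) (by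
    rw [Finset.card_sdiff_of_subset (fun x hx => hlo x (List.mem_toFinset.1 hx)),
      List.toFinset_card_of_nodup hl, ho.2]
    omega)
  have hn : (l ++ r.toList).Nodup := by
    rw [List.nodup_append]
    refine ⟨hl, r.nodup_toList, ?_⟩
    rintro a ha b hb rfl
    exact (Finset.mem_sdiff.1 (hr (Finset.mem_toList.1 hb))).2 (List.mem_toFinset.2 ha)
  obtain ⟨g, hg⟩ := exists_map_list (xs := [none, some 0, some 1, some 2, some 3])
    (ys := l ++ r.toList) (by decide +kernel) hn (by simp [hrc]; omega) (by simp)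
  refine ⟨g, smul_eq_stdO_of_five ho g (ys := [none, some 0, some 1, some 2, some 3]) rfl
    (by decide +kernel) (by decide +kernel) ?_, ?_⟩
  · intro y hy
    have : g • y ∈ l ++ r.toList := hg ▸ List.mem_map_of_mem hy
    rcases List.mem_append.1 this with h | h
    · exact hlo _ h
    · exact (Finset.mem_sdiff.1 (hr (Finset.mem_toList.1 h))).1
  · rw [List.map_take, hg, List.take_left]

/-- The same, with a point outside as well. -/
theorem exists_frame_out {o : Finset GolayPt} (ho : o ∈ octads) (l : List GolayPt) (hl : l.Nodup)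
    (hlo : ∀ x ∈ l, x ∈ o) (hl5 : l.length ≤ 5) {z : GolayPt} (hz : z ∉ o) :
    ∃ g : ↥M24, g • setOfMask stdO = o ∧
      ([none, some 0, some 1, some 2, some 3].take l.length).map (g • ·) = l ∧
      g • (some 4 : GolayPt) = z := by
  obtain ⟨g, hg, hgl⟩ := exists_frame ho l hl hlo hl5
  have hz' : g⁻¹ • z ∉ setOfMask stdO := fun h => hz (by
    rw [← hg, ← smul_inv_smul g z, mem_smul_set]; exact h)
  have hb : (16777215 ^^^ stdO).testBit (ix (g⁻¹ • z)) = true := by
    have h1 : (16777215 : ℕ).testBit (ix (g⁻¹ • z)) = true := by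
      rw [← maskOf_univ, testBit_maskOf]; simp
    rw [mem_setOfMask] at hz'
    simp [Nat.testBit_xor, h1, hz']
  have hlist := octFixList_ok.2
  change bitmap id (octFixList.map fun p => pget p 4) = 16777215 ^^^ stdO at hlist
  rw [← hlist, testBit_bitmap] at hb
  obtain ⟨v, hv, e⟩ := hb
  obtain ⟨p, hp, rfl⟩ := List.mem_map.1 hv
  obtain ⟨σ, hσ, hr, -, hfix⟩ := octFixList_spec hp
  let u : ↥M24 := ⟨σ, hσ⟩
  have hu : u • (some 4 : GolayPt) = g⁻¹ • z := ix_injective ((hr (some 4)).symm.trans e)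
  refine ⟨g * u, ?_, ?_, by rw [mul_smul, hu, smul_inv_smul]⟩
  · rw [mul_smul]
    have : u • setOfMask stdO = setOfMask stdO := by
      refine Finset.eq_of_subset_of_card_le (fun x hx => ?_) (le_of_eq (card_smul_set u _).symm)
      obtain ⟨y, rfl⟩ : ∃ y, x = u • y := ⟨_, (smul_inv_smul u x).symm⟩
      rw [mem_smul_set] at hx
      rwa [show u • y = y from hfix y hx]
    rw [this, hg]
  · refine Eq.trans (List.map_congr_left fun y hy => ?_) hgl
    have hy' : y ∈ [none, some 0, some 1, some 2, some 3] := List.mem_of_mem_take hy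
    have : y ∈ setOfMask stdO := by revert hy'; clear hy; revert y; decide +kernel
    rw [mul_smul, show u • y = y from hfix y this]

/-- Counting a family after moving it. -/
theorem ncard_fam {w i : ℕ} (t : ↥M24) {A B b : ℕ} (hA : A < 2 ^ 24) (hB : B < 2 ^ 24)
    (hb : b < 2 ^ 24) :
    {s | InFam w (t • setOfMask A) (t • setOfMask B) (t • setOfMask b) i s}.ncard =
      countLt 4096 (fun k => famMask w A B b i (enc k)) := by
  rw [← ncard_smul_congr t (P := fun s => InFam w (setOfMask A) (setOfMask B) (setOfMask b) i s)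
    (Q := fun s => InFam w (t • setOfMask A) (t • setOfMask B) (t • setOfMask b) i s) fun s => by
      simp only [InFam, smul_set_subset, disjoint_smul_set, card_inter_smul]
      rw [show t • s ∈ wordsOfWeight (golayCode : Set (GolayPt → ZMod 2)) w ↔ _ from
        smul_mem_wordsOfWeight t.2]]
  exact ncard_eq_countLt (fun m => famMask w A B b i m) fun s => inFam_iff hA hB hb

theorem inFam_smul_iff {w i : ℕ} (t : ↥M24) {A B b s : Finset GolayPt} :
    InFam w (t • A) (t • B) (t • b) i s ↔ InFam w A B b i (t⁻¹ • s) := by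
  obtain ⟨s', rfl⟩ : ∃ s', s = t • s' := ⟨_, (smul_inv_smul t s).symm⟩
  simp only [InFam, inv_smul_smul, smul_set_subset, disjoint_smul_set, card_inter_smul]
  rw [show t • s' ∈ wordsOfWeight (golayCode : Set (GolayPt → ZMod 2)) w ↔ _ from
    smul_mem_wordsOfWeight t.2]

/-- Transitivity on a class, after moving it. -/
theorem exists_smul_fam_moved {gens : List ℕ} {b w A B : ℕ} {pts : List ℕ}
    {orbits : List (ℕ × ℕ × List ℕ)} (h : orbitsOK gens b w A B pts orbits = true)
    (hA : A < 2 ^ 24) (hB : B < 2 ^ 24) (hb : b < 2 ^ 24) {i : ℕ} (t : ↥M24) {u v : Finset GolayPt}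
    (hu : InFam w (t • setOfMask A) (t • setOfMask B) (t • setOfMask b) i u)
    (hv : InFam w (t • setOfMask A) (t • setOfMask B) (t • setOfMask b) i v) :
    ∃ g : ↥M24, g • t • setOfMask b = t • setOfMask b ∧
      (∀ x : GolayPt, ix x ∈ pts → g • t • x = t • x) ∧ g • u = v := by
  rw [inFam_smul_iff] at hu hv
  obtain ⟨g, h1, h2, h3⟩ := exists_smul_fam h hA hB hb hu hv
  refine ⟨t * g * t⁻¹, ?_, fun x hx => ?_, ?_⟩
  · rw [mul_smul, mul_smul, inv_smul_smul, h1]
  · rw [mul_smul, mul_smul, inv_smul_smul, h2 x hx]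
  · rw [mul_smul, mul_smul, h3, smul_inv_smul]

end CfsgLib.Sporadic
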