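import Cfsg.Agent.Lib.Sporadic.ConwayChain
import Cfsg.Agent.Lib.Sporadic.SubOrbits
import Cfsg.Agent.Lib.Sporadic.Rank
import Cfsg.Agent.Lib.Sporadic.Maximal

/-!
# Transitivity on vectors of squared length 32, 48 and 64

A vector is moved by a coordinate permutation to the absolute values of a representative, then by a
sign change to the representative; the checked paths join the representatives.
-/

set_option autoImplicit false

namespace CfsgLib.Sporadic.Conway

open Cfsg Finset CfsgLib.ThreeTrans.Leech CfsgLib.Sporadic.Lattice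
open scoped Pointwise

theorem golay_good : Uniq.Good golayCode := by
  rw [← Uniq.span_heptads]
  exact Uniq.good23 (ZMod.card 23) Uniq.heptads_steiner

theorem reps_mem : ∀ c ∈ chains32 ++ chains48 ++ chains64, LTest (vecOf c.1) := by decide +kernel

theorem targets_mem : LTest (vecOf rv_pair) ∧ LTest (vecOf rv_five) ∧ LTest (vecOf rv_eight) := by
  decide +kernel

theorem rel_to32 {r : List ℤ} (hr : r ∈ chains32.map Prod.fst) : Rel (vecOf r) (vecOf rv_pair) := by
  obtain ⟨c, hc, rfl⟩ := List.mem_map.1 hr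
  exact pathOK_spec _ _ (List.all_eq_true.1 paths32 c hc)
    (mem_iff.2 (isL_of_test (reps_mem c (by simp [hc]))))

theorem rel_to48 {r : List ℤ} (hr : r ∈ chains48.map Prod.fst) : Rel (vecOf r) (vecOf rv_five) := by
  obtain ⟨c, hc, rfl⟩ := List.mem_map.1 hr
  exact pathOK_spec _ _ (List.all_eq_true.1 paths48 c hc)
    (mem_iff.2 (isL_of_test (reps_mem c (by simp [hc]))))

theorem rel_to64 {r : List ℤ} (hr : r ∈ chains64.map Prod.fst) : Rel (vecOf r) (vecOf rv_eight) := by
  obtain ⟨c, hc, rfl⟩ := List.mem_map.1 hr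
  exact pathOK_spec _ _ (List.all_eq_true.1 paths64 c hc)
    (mem_iff.2 (isL_of_test (reps_mem c (by simp [hc]))))

/-! ### signs -/

/-- The negative coordinates. -/
def negSet (x : Vec) : Finset GolayPt := Finset.univ.filter fun i => x i < 0

/-- The coordinates that are twice an odd number. -/
def twoOdd (x : Vec) : Finset GolayPt := Finset.univ.filter fun i => x i % 4 = 2

/-- Exclusive-or closure of a list of masks. -/
noncomputable def closureList (gens : List ℕ) : List ℕ :=
  List.rec [0] (fun g _ ih => ih ++ ih.map (Nat.xor g)) gens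

/-- Every code word inside `D` is a combination of the generators. -/
noncomputable def insideOK (D : ℕ) (gens : List ℕ) : Bool :=
  forallLt 4096 fun k => !(Nat.beq (Nat.land (enc k) D) (enc k)) || (closureList gens).any (Nat.beq (enc k))

/-- The support of a listed vector, as a mask. -/
noncomputable def suppMask (r : List ℤ) : ℕ := maskOf (Finset.univ.filter fun i => vecOf r i ≠ 0)

theorem closure_even {gens : List ℕ} {M : Finset GolayPt}
    (h : ∀ g ∈ gens, Even (M ∩ setOfMask g).card) :
    ∀ m ∈ closureList gens, Even (M ∩ setOfMask m).card := by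
  induction gens with
  | nil =>
    intro m hm
    change m ∈ [0] at hm
    rw [List.mem_singleton] at hm
    subst hm
    simp [setOfMask_zero]
  | cons g gens ih =>
    intro m hm
    change m ∈ closureList gens ++ (closureList gens).map (Nat.xor g) at hm
    have ih' := ih fun g' hg' => h g' (List.mem_cons_of_mem _ hg')
    rcases List.mem_append.1 hm with hm | hm
    · exact ih' m hm
    · obtain ⟨m', hm', rfl⟩ := List.mem_map.1 hm
      show Even (M ∩ setOfMask (g ^^^ m')).card
      rw [setOfMask_xor]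
      have e : M ∩ symmDiff (setOfMask g) (setOfMask m') =
          symmDiff (M ∩ setOfMask g) (M ∩ setOfMask m') := by
        ext x; simp [Finset.mem_symmDiff]; tauto
      rw [e]
      have hc := Uniq.card_symmDiff' (M ∩ setOfMask g) (M ∩ setOfMask m')
      obtain ⟨a, ha⟩ := h g List.mem_cons_self
      obtain ⟨b, hb⟩ := ih' m' hm'
      rw [Nat.even_iff]
      omega

/-- Equal absolute values and equal parities on the inside words give a sign change. -/
theorem sign_fix {x : Vec} {r : List ℤ} {gens : List ℕ} (hx : x ∈ leechLattice)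
    (habs : ∀ i, |x i| = |vecOf r i|) (hin : insideOK (suppMask r) gens = true)
    (hpar : ∀ g ∈ gens, (negSet x ∩ setOfMask g).card % 2 = (negSet (vecOf r) ∩ setOfMask g).card % 2) :
    RelN x (vecOf r) := by
  set M := symmDiff (negSet x) (negSet (vecOf r)) with hM
  set D : Finset GolayPt := Finset.univ.filter fun i => vecOf r i ≠ 0 with hD
  have hsub : M ⊆ D := fun i hi => by
    have h := habs i
    simp only [hM, Finset.mem_symmDiff, negSet, Finset.mem_filter, Finset.mem_univ, true_and] at hi
    simp only [hD, Finset.mem_filter, Finset.mem_univ, true_and]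
    intro h0
    rw [h0, abs_zero, abs_eq_zero] at h
    omega
  obtain ⟨c, hc, hcD⟩ := Uniq.exists_on golay_good D M hsub fun s hs hsD => by
    obtain ⟨k, hk, e⟩ := inCode_iff.1 (mem_supports_iff.1
      (show s ∈ supports (golayCode : Set (GolayPt → ZMod 2)) from ⟨Uniq.ind s, hs, Uniq.support₂_ind s⟩))
    have h := forallLt_elim hin hk
    rw [Bool.or_eq_true, Bool.not_eq_true'] at h
    rcases h with h | h
    · exfalso
      rw [← Bool.not_eq_true, Nat.beq_eq] at h
      refine h ?_
      rw [e]
      exact (subset_iff_land s D).1 hsD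
    · obtain ⟨m, hm, em⟩ := List.any_eq_true.1 h
      have hsm : s = setOfMask m := by rw [← setOfMask_maskOf s, ← e, Nat.eq_of_beq_eq_true em]
      rw [hsm]
      refine closure_even (fun g hg => ?_) m hm
      have e' : M ∩ setOfMask g = symmDiff (negSet x ∩ setOfMask g) (negSet (vecOf r) ∩ setOfMask g) := by
        rw [hM]; ext y; simp only [Finset.mem_inter, Finset.mem_symmDiff]; tauto
      rw [e', Nat.even_iff]
      have := Uniq.card_symmDiff' (negSet x ∩ setOfMask g) (negSet (vecOf r) ∩ setOfMask g)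
      have := hpar g hg
      omega
  have hflip : flipVec c x = vecOf r := funext fun i => by
    have hi := Finset.ext_iff.1 hcD i
    have h := habs i
    simp only [hM, hD, Finset.mem_inter, Finset.mem_symmDiff, negSet, Finset.mem_filter,
      Finset.mem_univ, true_and] at hi
    simp only [flipVec]
    by_cases h0 : vecOf r i = 0
    · rw [h0, abs_zero, abs_eq_zero] at h
      rw [h, h0]; simp
    · simp only [ne_eq, h0, not_false_eq_true, and_true] at hi
      rcases abs_eq_abs.1 h with e | e <;> split <;> rename_i hc' <;> rw [hi] at hc' <;> omega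
  exact hflip ▸ relN_flip ⟨Uniq.ind c, hc, Uniq.support₂_ind c⟩ hx

/-- With equal absolute values, the parity of the signs on the odd part is forced. -/
theorem parity_twoOdd {x r : Vec} (hx : x ∈ leechLattice) (hr : r ∈ leechLattice)
    (hev : ∀ i, r i % 2 = 0) (habs : ∀ i, |x i| = |r i|) :
    (negSet x ∩ twoOdd r).card % 2 = (negSet r ∩ twoOdd r).card % 2 := by
  have hsum : ∀ z : Vec, z ∈ leechLattice → (∀ i, z i % 2 = 0) → (∑ i, z i) % 8 = 0 := by
    intro z hz hz2
    obtain ⟨m, d, h1, -, h3⟩ := mem_iff.1 hz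
    have := h1 none
    have := hz2 none
    simp only [Int.ModEq] at h3
    omega
  have hx2 : ∀ i, x i % 2 = 0 := fun i => by
    have := hev i; rcases abs_eq_abs.1 (habs i) with e | e <;> omega
  have key : ∀ i, (8 : ℤ) ∣ (x i - r i) - (4 * (if i ∈ negSet x ∩ twoOdd r then 1 else 0) +
      4 * (if i ∈ negSet r ∩ twoOdd r then 1 else 0)) := fun i => by
    have := hev i
    simp only [negSet, twoOdd, Finset.mem_inter, Finset.mem_filter, Finset.mem_univ, true_and]
    rcases abs_eq_abs.1 (habs i) with e | e <;> split_ifs <;> omega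
  have h8 := dvd_sum_of_forall_mod key
  rw [Finset.sum_sub_distrib, Finset.sum_add_distrib, ← Finset.mul_sum, ← Finset.mul_sum,
    Finset.sum_boole, Finset.sum_boole] at h8
  simp only [Finset.filter_univ_mem] at h8
  have := hsum x hx hx2
  have := hsum r hr hev
  omega

/-- One generator, the odd part. -/
theorem sign_fix_one {x : Vec} {r : List ℤ} {g : ℕ} (hx : x ∈ leechLattice)
    (habs : ∀ i, |x i| = |vecOf r i|) (hL : LTest (vecOf r)) (hev : ∀ i, vecOf r i % 2 = 0)
    (hin : insideOK (suppMask r) [g] = true) (hg : setOfMask g = twoOdd (vecOf r)) : RelN x (vecOf r) := by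
  refine sign_fix hx habs hin fun g' hg' => ?_
  rw [List.mem_singleton] at hg'
  rw [hg', hg]
  exact parity_twoOdd hx (mem_iff.2 (isL_of_test hL)) hev habs

/-! ### moving -/

theorem relN_move (g : ↥M24) {x : Vec} (hx : x ∈ leechLattice) : RelN x (permVec g.1 x) :=
  relN_perm g.2 hx

theorem permVec_smul (g : ↥M24) (x : Vec) (j : GolayPt) : permVec g.1 x (g • j) = x j :=
  congrArg x (g.1.symm_apply_apply j)

/-- Absolute values matched through a permutation. -/
theorem abs_moved (g : ↥M24) {x : Vec} {r : Vec} (h : ∀ j, |x j| = |r (g • j)|) (i : GolayPt) :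
    |permVec g.1 x i| = |r i| := by
  rw [← smul_inv_smul g i, permVec_smul]
  exact h _

theorem exists_move2 (A B : Finset GolayPt) (hd : Disjoint A B) (a b : List GolayPt)
    (hn : (a ++ b).Nodup) (ha : A.card = a.length) (hb : B.card = b.length)
    (h5 : (a ++ b).length ≤ 5) :
    ∃ g : ↥M24, (∀ j, j ∈ A ↔ g • j ∈ a) ∧ ∀ j, j ∈ B ↔ g • j ∈ b := by
  have hn' : (A.toList ++ B.toList).Nodup := by
    rw [List.nodup_append]
    refine ⟨A.nodup_toList, B.nodup_toList, ?_⟩
    rintro x hx y hy rfl
    exact Finset.disjoint_left.1 hd (Finset.mem_toList.1 hx) (Finset.mem_toList.1 hy)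
  obtain ⟨g, hg⟩ := exists_map_list hn' hn (by simp [ha, hb]) (by
    simp only [List.length_append, Finset.length_toList] at h5 ⊢; omega)
  rw [List.map_append] at hg
  obtain ⟨e1, e2⟩ := List.append_inj hg (by simp [ha])
  refine ⟨g, fun j => ?_, fun j => ?_⟩
  · rw [← e1, List.mem_map_of_injective (MulAction.injective g), Finset.mem_toList]
  · rw [← e2, List.mem_map_of_injective (MulAction.injective g), Finset.mem_toList]

theorem two_abs (a : ℤ) : |2 * a| = 2 * |a| := by norm_num [abs_mul]

/-! ### odd vectors -/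

theorem odd_case {y : Vec} (hy : y ∈ leechLattice) (hv : ∀ i, y i = 1 ∨ y i = -3 ∨ y i = 5)
    (r : List ℤ) (a b : List GolayPt) (hn : (a ++ b).Nodup) (h5 : (a ++ b).length ≤ 5)
    (hr : ∀ i, vecOf r i = if i ∈ a then 5 else if i ∈ b then -3 else 1)
    (ha : (Finset.univ.filter fun i => y i = 5).card = a.length)
    (hb : (Finset.univ.filter fun i => y i = -3).card = b.length) : RelN y (vecOf r) := by
  obtain ⟨g, h1, h2⟩ := exists_move2 (Finset.univ.filter fun i => y i = 5)
    (Finset.univ.filter fun i => y i = -3)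
    (Finset.disjoint_left.2 fun i hi hi' => by
      have := (Finset.mem_filter.1 hi).2
      have := (Finset.mem_filter.1 hi').2
      omega) a b hn ha hb h5
  have e : permVec g.1 y = vecOf r := funext fun i => by
    rw [← smul_inv_smul g i, permVec_smul, hr]
    simp only [← h1, ← h2, Finset.mem_filter, Finset.mem_univ, true_and]
    rcases hv (g⁻¹ • i) with h | h | h <;> simp [h]
  exact e ▸ relN_move g hy

theorem odd_reduce {x : Vec} {N : ℕ} (hx : x ∈ oddFam [1, -3, 5, -7] N) (hN : N ≤ 64) :
    ∃ y : Vec, RelN x y ∧ (∀ i, y i = 1 ∨ y i = -3 ∨ y i = 5) ∧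
      24 + 24 * (Finset.univ.filter fun i => y i = 5).card +
        8 * (Finset.univ.filter fun i => y i = -3).card = N := by
  have hxL : x ∈ leechLattice := mem_iff.2 hx.1
  rw [oddFam_eq _ _ (by decide)] at hx
  simp only [Finset.coe_biUnion, Set.mem_iUnion, Finset.mem_coe, Finset.coe_image, Set.mem_image,
    mem_ptTuples, mem_codeFin, Finset.mem_univ, if_true, exists_prop] at hx
  obtain ⟨c, hc, y, ⟨hy, hs, -⟩, rfl⟩ := hx
  have hrel : RelN (Lattice.flip c y) y := by
    have := relN_flip (s := support₂ c) ⟨c, hc, rfl⟩ hxL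
    rwa [show flipVec (support₂ c) (Lattice.flip c y) = y from Lattice.flip_flip c y] at this
  have hv : ∀ i, y i = 1 ∨ y i = -3 ∨ y i = 5 := by
    have h7 : ∀ i, y i ≠ -7 := by
      intro i h
      have h23 : (23 : ℤ) ≤ ∑ j ∈ Finset.univ.erase i, y j ^ 2 := by
        refine le_trans (le_of_eq ?_) (Finset.card_nsmul_le_sum _ _ 1 fun j _ => ?_)
        · simp [Finset.card_erase_of_mem, card_pts]
        · refine le_sq_of_odd ?_
          have := hy j
          simp only [List.mem_cons, List.not_mem_nil, or_false] at this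
          omega
      rw [← Finset.add_sum_erase _ _ (Finset.mem_univ i), h] at hs
      omega
    intro i
    have := hy i
    simp only [List.mem_cons, List.not_mem_nil, or_false] at this
    rcases this with h | h | h | h
    exacts [Or.inl h, Or.inr (Or.inl h), Or.inr (Or.inr h), absurd h (h7 i)]
  refine ⟨y, hrel, hv, ?_⟩
  have e : ∀ i, y i ^ 2 = 1 + (24 * (if y i = 5 then 1 else 0) + 8 * (if y i = -3 then 1 else 0)) := fun i => by
    rcases hv i with h | h | h <;> rw [h] <;> norm_num
  rw [Finset.sum_congr rfl fun i _ => e i, Finset.sum_add_distrib, Finset.sum_add_distrib,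
    ← Finset.mul_sum, ← Finset.mul_sum, Finset.sum_boole, Finset.sum_boole, Finset.sum_const, card_pts,
    nsmul_eq_mul] at hs
  push_cast at hs
  omega

/-! ### even vectors -/

/-- The coordinates of a given absolute value. -/
def lev (e : Vec) (k : ℤ) : Finset GolayPt := Finset.univ.filter fun i => |e i| = k

theorem mem_lev {e : Vec} {k : ℤ} {i : GolayPt} : i ∈ lev e k ↔ |e i| = k := by simp [lev]

theorem even_reduce {x : Vec} {N : ℕ} (hx : x ∈ evenFam evOdd evEven N) :
    ∃ e : Vec, x = (fun i => 2 * e i) ∧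
      (∀ i, |e i| = 0 ∨ |e i| = 1 ∨ |e i| = 2 ∨ |e i| = 3 ∨ |e i| = 4) ∧
      (lev e 1).card + 4 * (lev e 2).card + 9 * (lev e 3).card + 16 * (lev e 4).card = N ∧
      (lev e 1 ∪ lev e 3) ∈ supports (golayCode : Set (GolayPt → ZMod 2)) ∧
      ((lev e 1).card = 0 → (lev e 3).card = 0 → Even (lev e 2).card) := by
  rw [evenFam_eq _ _ _ (by decide) (by decide)] at hx
  simp only [Set.mem_image, Finset.coe_biUnion, Set.mem_iUnion, Finset.mem_coe, mem_ptTuples,
    mem_codeFin, exists_prop] at hx
  obtain ⟨e, ⟨c, hc, hv, hs, hm⟩, rfl⟩ := hx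
  have hv' : ∀ i, (i ∈ support₂ c ∧ (|e i| = 1 ∨ |e i| = 3)) ∨
      (i ∉ support₂ c ∧ (|e i| = 0 ∨ |e i| = 2 ∨ |e i| = 4)) := fun i => by
    have h := hv i
    by_cases hi : i ∈ support₂ c
    · rw [if_pos hi] at h
      simp only [evOdd, List.mem_cons, List.not_mem_nil, or_false] at h
      rcases h with h | h | h | h <;> simp [h, hi]
    · rw [if_neg hi] at h
      simp only [evEven, List.mem_cons, List.not_mem_nil, or_false] at h
      rcases h with h | h | h | h | h <;> simp [h, hi]
  refine ⟨e, rfl, fun i => by rcases hv' i with ⟨-, h⟩ | ⟨-, h⟩ <;> omega, ?_, ⟨c, hc, ?_⟩, ?_⟩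
  · have e2 : ∀ i, e i ^ 2 = (1 * (if i ∈ lev e 1 then 1 else 0) + 4 * (if i ∈ lev e 2 then 1 else 0) +
        9 * (if i ∈ lev e 3 then 1 else 0) + 16 * (if i ∈ lev e 4 then 1 else 0) : ℤ) := fun i => by
      simp only [mem_lev, ← sq_abs (e i)]
      rcases hv' i with ⟨-, h | h⟩ | ⟨-, h | h | h⟩ <;> rw [h] <;> norm_num
    rw [Finset.sum_congr rfl fun i _ => e2 i] at hs
    simp only [Finset.sum_add_distrib, ← Finset.mul_sum, Finset.sum_boole, Finset.filter_univ_mem] at hs
    push_cast at hs
    omega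
  · ext i
    rw [Finset.mem_union, mem_lev, mem_lev]
    rcases hv' i with ⟨h1, h2⟩ | ⟨h1, h2⟩
    · exact iff_of_true h1 h2
    · exact iff_of_false h1 (by omega)
  · intro z1 z3
    rw [Finset.card_eq_zero] at z1 z3
    have hd : (4 : ℤ) ∣ (∑ i, e i) - ∑ i, 2 * (if i ∈ lev e 2 then 1 else 0) :=
      dvd_sum_of_forall_mod fun i => by
        simp only [mem_lev]
        have n1 : |e i| ≠ 1 := fun h => by
          have := mem_lev.2 h; rw [z1] at this; exact Finset.notMem_empty i this
        have n3 : |e i| ≠ 3 := fun h => by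
          have := mem_lev.2 h; rw [z3] at this; exact Finset.notMem_empty i this
        rcases abs_choice (e i) with ha | ha <;> rcases hv' i with ⟨-, h⟩ | ⟨-, h⟩ <;>
          split_ifs <;> omega
    rw [← Finset.mul_sum, Finset.sum_boole, Finset.filter_univ_mem] at hd
    rw [Nat.even_iff]
    push_cast at hm hd
    omega

theorem octad_of {s : Finset GolayPt} (hs : s ∈ supports (golayCode : Set (GolayPt → ZMod 2)))
    (hc : s.card = 8) : s ∈ octads := ⟨hs, hc⟩

theorem rep_even : ∀ r ∈ [rv_pair, rv_oct, rv_dod, rv_foct, rv_eight, rv_fours, rv_six, rv_ltwelve] ++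
    kReps ++ sixteenReps, LTest (vecOf r) ∧ ∀ i, vecOf r i % 2 = 0 := by decide +kernel

/-- Finish one shape. -/
theorem finish {e : Vec} (hx : (fun i => 2 * e i) ∈ leechLattice) (g : ↥M24) (r : List ℤ) (m : ℕ)
    (hr : r ∈ [rv_pair, rv_oct, rv_dod, rv_foct, rv_eight, rv_fours, rv_six, rv_ltwelve] ++ kReps)
    (hin : insideOK (suppMask r) [m] = true) (hm : setOfMask m = twoOdd (vecOf r))
    (h : ∀ j, 2 * |e j| = |vecOf r (g • j)|) : RelN (fun i => 2 * e i) (vecOf r) := by
  obtain ⟨hL, hev⟩ := rep_even r (List.mem_append.2 (Or.inl hr))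
  have h1 := relN_move g hx
  refine h1.trans (sign_fix_one h1.mem (abs_moved g fun j => ?_) hL hev hin hm)
  show |2 * e j| = _
  rw [two_abs]; exact h j

theorem lev_smul {A : Finset GolayPt} (g : ↥M24) {T : Finset GolayPt} (h : g • A = T) (j : GolayPt) :
    g • j ∈ T ↔ j ∈ A := by rw [← h, mem_smul_set]

theorem case_pair {e : Vec} (hx : (fun i => 2 * e i) ∈ leechLattice)
    (hv : ∀ i, |e i| = 0 ∨ |e i| = 2) (hb : (lev e 2).card = 2) :
    RelN (fun i => 2 * e i) (vecOf rv_pair) := by
  obtain ⟨g, h1, -⟩ := exists_move2 (lev e 2) ∅ (Finset.disjoint_empty_right _) [none, some 0] []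
    (by decide) (by simpa using hb) rfl (by norm_num)
  refine finish hx g rv_pair 0 (by simp) (by decide +kernel) (by decide +kernel) fun j => ?_
  rw [(by decide +kernel : ∀ i, |vecOf rv_pair i| = if i ∈ [none, some 0] then 4 else 0) (g • j)]
  have := h1 j
  rw [mem_lev] at this
  simp only [← this]
  rcases hv j with h | h <;> simp [h]

theorem case_fours {e : Vec} (hx : (fun i => 2 * e i) ∈ leechLattice)
    (hv : ∀ i, |e i| = 0 ∨ |e i| = 2) (hb : (lev e 2).card = 4) :
    RelN (fun i => 2 * e i) (vecOf rv_fours) := by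
  obtain ⟨g, h1, -⟩ := exists_move2 (lev e 2) ∅ (Finset.disjoint_empty_right _) [none, some 0, some 1, some 2] []
    (by decide) (by simpa using hb) rfl (by norm_num)
  refine finish hx g rv_fours 0 (by simp) (by decide +kernel) (by decide +kernel) fun j => ?_
  rw [(by decide +kernel : ∀ i, |vecOf rv_fours i| =
    if i ∈ [none, some 0, some 1, some 2] then 4 else 0) (g • j)]
  have := h1 j
  rw [mem_lev] at this
  simp only [← this]
  rcases hv j with h | h <;> simp [h]

theorem case_eight {e : Vec} (hx : (fun i => 2 * e i) ∈ leechLattice)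
    (hv : ∀ i, |e i| = 0 ∨ |e i| = 4) (hd : (lev e 4).card = 1) :
    RelN (fun i => 2 * e i) (vecOf rv_eight) := by
  obtain ⟨g, h1, -⟩ := exists_move2 (lev e 4) ∅ (Finset.disjoint_empty_right _) [none] []
    (by decide) (by simpa using hd) rfl (by norm_num)
  refine finish hx g rv_eight 0 (by simp) (by decide +kernel) (by decide +kernel) fun j => ?_
  rw [(by decide +kernel : ∀ i, |vecOf rv_eight i| = if i ∈ [none] then 8 else 0) (g • j)]
  have := h1 j
  rw [mem_lev] at this
  simp only [← this]
  rcases hv j with h | h <;> simp [h]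

theorem case_oct {e : Vec} (hx : (fun i => 2 * e i) ∈ leechLattice)
    (hv : ∀ i, |e i| = 0 ∨ |e i| = 1) (ho : lev e 1 ∈ octads) :
    RelN (fun i => 2 * e i) (vecOf rv_oct) := by
  obtain ⟨t, ht⟩ := exists_smul_stdO ho
  refine finish hx t⁻¹ rv_oct stdO (by simp) (by decide +kernel) (by decide +kernel) fun j => ?_
  rw [(by decide +kernel : ∀ i, |vecOf rv_oct i| = if i ∈ setOfMask stdO then 2 else 0) (t⁻¹ • j)]
  simp only [lev_smul t⁻¹ (inv_smul_eq_iff.2 ht.symm) j, mem_lev]
  rcases hv j with h | h <;> simp [h]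

theorem case_six {e : Vec} (hx : (fun i => 2 * e i) ∈ leechLattice)
    (hv : ∀ i, |e i| = 0 ∨ |e i| = 1 ∨ |e i| = 3) (ho : lev e 1 ∪ lev e 3 ∈ octads)
    (hc : (lev e 3).card = 1) : RelN (fun i => 2 * e i) (vecOf rv_six) := by
  obtain ⟨p, hp⟩ := Finset.card_eq_one.1 hc
  obtain ⟨t, ht, htl⟩ := exists_frame ho [p] (by simp)
    (fun x hx => by rw [List.mem_singleton] at hx; subst hx; simp [hp]) (by simp)
  simp only [List.length_singleton, List.take_succ_cons, List.take_zero, List.map_cons, List.map_nil,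
    List.cons.injEq, and_true] at htl
  refine finish hx t⁻¹ rv_six stdO (by simp) (by decide +kernel) (by decide +kernel) fun j => ?_
  rw [(by decide +kernel : ∀ i, |vecOf rv_six i| =
    if i = none then 6 else if i ∈ setOfMask stdO then 2 else 0) (t⁻¹ • j)]
  have h3 : (t⁻¹ • j = none) ↔ |e j| = 3 := by
    rw [inv_smul_eq_iff, htl, ← mem_lev, hp, Finset.mem_singleton]
  simp only [h3, lev_smul t⁻¹ (inv_smul_eq_iff.2 ht.symm) j, Finset.mem_union, mem_lev]
  rcases hv j with h | h | h <;> simp [h]

theorem case_foct {e : Vec} (hx : (fun i => 2 * e i) ∈ leechLattice)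
    (hv : ∀ i, |e i| = 0 ∨ |e i| = 1 ∨ |e i| = 2) (ho : lev e 1 ∈ octads) (hb : (lev e 2).card = 1) :
    RelN (fun i => 2 * e i) (vecOf rv_foct) := by
  obtain ⟨p, hp⟩ := Finset.card_eq_one.1 hb
  have hpo : p ∉ lev e 1 := fun h => by
    have h2 : p ∈ lev e 2 := by rw [hp]; exact Finset.mem_singleton_self p
    rw [mem_lev] at h h2; omega
  obtain ⟨t, ht, htp⟩ := out_frame ho hpo
  refine finish hx t⁻¹ rv_foct stdO (by simp) (by decide +kernel) (by decide +kernel) fun j => ?_
  rw [(by decide +kernel : ∀ i, |vecOf rv_foct i| =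
    if i = some 4 then 4 else if i ∈ setOfMask stdO then 2 else 0) (t⁻¹ • j)]
  have h2 : (t⁻¹ • j = some 4) ↔ |e j| = 2 := by
    rw [inv_smul_eq_iff, htp, ← mem_lev, hp, Finset.mem_singleton]
  simp only [h2, lev_smul t⁻¹ (inv_smul_eq_iff.2 ht.symm) j, mem_lev]
  rcases hv j with h | h | h <;> simp [h]

theorem kReps_spec : ∀ q : GolayPt, q ∉ setOfMask stdO → q ≠ some 4 →
    ∃ r ∈ kReps, insideOK (suppMask r) [stdO] = true ∧ setOfMask stdO = twoOdd (vecOf r) ∧
      ∀ i, |vecOf r i| = if i = some 4 ∨ i = q then 4 else if i ∈ setOfMask stdO then 2 else 0 := by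
  decide +kernel

theorem case_k {e : Vec} (hx : (fun i => 2 * e i) ∈ leechLattice)
    (hv : ∀ i, |e i| = 0 ∨ |e i| = 1 ∨ |e i| = 2) (ho : lev e 1 ∈ octads) (hb : (lev e 2).card = 2) :
    ∃ r ∈ kReps, RelN (fun i => 2 * e i) (vecOf r) := by
  obtain ⟨p, q, hpq, hp⟩ := Finset.card_eq_two.1 hb
  have hout : ∀ z ∈ ({p, q} : Finset GolayPt), z ∉ lev e 1 := fun z hz h => by
    rw [← hp] at hz
    rw [mem_lev] at h hz; omega
  obtain ⟨t, ht, htp⟩ := out_frame ho (hout p (by simp))
  obtain ⟨r, hr, h1, h2, h3⟩ := kReps_spec (t⁻¹ • q)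
    (by rw [lev_smul t⁻¹ (inv_smul_eq_iff.2 ht.symm) q]; exact hout q (by simp))
    (by rw [Ne, inv_smul_eq_iff, htp]; exact hpq.symm)
  refine ⟨r, hr, finish hx t⁻¹ r stdO (List.mem_append.2 (Or.inr hr)) h1 h2 fun j => ?_⟩
  rw [h3]
  have h4 : (t⁻¹ • j = some 4 ∨ t⁻¹ • j = t⁻¹ • q) ↔ |e j| = 2 := by
    rw [inv_smul_eq_iff, htp, smul_left_cancel_iff, ← mem_lev, hp, Finset.mem_insert, Finset.mem_singleton]
  simp only [h4, lev_smul t⁻¹ (inv_smul_eq_iff.2 ht.symm) j, mem_lev]
  rcases hv j with h | h | h <;> simp [h]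

theorem case_dod {e : Vec} (hx : (fun i => 2 * e i) ∈ leechLattice)
    (hv : ∀ i, |e i| = 0 ∨ |e i| = 1) (hd : lev e 1 ∈ dodecads) :
    RelN (fun i => 2 * e i) (vecOf rv_dod) := by
  obtain ⟨t, ht⟩ := exists_smul_stdD hd
  refine finish hx t⁻¹ rv_dod stdD (by simp) (by decide +kernel) (by decide +kernel) fun j => ?_
  rw [(by decide +kernel : ∀ i, |vecOf rv_dod i| = if i ∈ setOfMask stdD then 2 else 0) (t⁻¹ • j)]
  simp only [lev_smul t⁻¹ (inv_smul_eq_iff.2 ht.symm) j, mem_lev]
  rcases hv j with h | h <;> simp [h]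

theorem case_ltwelve {e : Vec} (hx : (fun i => 2 * e i) ∈ leechLattice)
    (hv : ∀ i, |e i| = 0 ∨ |e i| = 1 ∨ |e i| = 2) (hd : lev e 1 ∈ dodecads) (hb : (lev e 2).card = 1) :
    RelN (fun i => 2 * e i) (vecOf rv_ltwelve) := by
  obtain ⟨p, hp⟩ := Finset.card_eq_one.1 hb
  have hpd : p ∈ (lev e 1)ᶜ := Finset.mem_compl.2 fun h => by
    have h2 : p ∈ lev e 2 := by rw [hp]; exact Finset.mem_singleton_self p
    rw [mem_lev] at h h2; omega
  obtain ⟨t, ht, htp⟩ := dodecad_frame (compl_mem_dodecads hd) hpd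
  refine finish hx t⁻¹ rv_ltwelve (16777215 ^^^ stdD) (by simp) (by decide +kernel) (by decide +kernel)
    fun j => ?_
  rw [(by decide +kernel : ∀ i, |vecOf rv_ltwelve i| =
    if i = some 0 then 4 else if i ∈ setOfMask stdD then 0 else 2) (t⁻¹ • j)]
  have h2 : (t⁻¹ • j = some 0) ↔ |e j| = 2 := by
    rw [inv_smul_eq_iff, htp, ← mem_lev, hp, Finset.mem_singleton]
  simp only [h2, lev_smul t⁻¹ (inv_smul_eq_iff.2 ht.symm) j, Finset.mem_compl, mem_lev]
  rcases hv j with h | h | h <;> simp [h]

theorem sixteen_inside : ∀ r ∈ sixteenReps, insideOK (suppMask r) outGens = true ∧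
    setOfMask (outGens.getD 0 0) = twoOdd (vecOf r) ∧
    ∀ i, |vecOf r i| = if i ∈ setOfMask stdO then 0 else 2 := by
  decide +kernel

theorem sixteen_syn : ∀ b : Fin 4 → Bool, ∃ r ∈ sixteenReps, ∀ k : Fin 4,
    (negSet (vecOf r) ∩ setOfMask (outGens.getD (k.val + 1) 0)).card % 2 = cond (b k) 1 0 := by
  decide +kernel

theorem case_sixteen {e : Vec} (hx : (fun i => 2 * e i) ∈ leechLattice)
    (hv : ∀ i, |e i| = 0 ∨ |e i| = 1) (hs : lev e 1 ∈ supports (golayCode : Set (GolayPt → ZMod 2)))
    (ha : (lev e 1).card = 16) : ∃ r ∈ sixteenReps, RelN (fun i => 2 * e i) (vecOf r) := by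
  have ho : (lev e 1)ᶜ ∈ octads := by
    refine ⟨?_, by rw [Finset.card_compl, ha]; rfl⟩
    obtain ⟨w, hw, e'⟩ := hs
    refine ⟨w + 1, add_mem hw one_mem_code, ?_⟩
    rw [← e']
    ext i
    have h01 : w i = 0 ∨ w i = 1 := by generalize w i = v; revert v; decide
    rcases h01 with h | h <;> simp [support₂, h] <;> decide
  obtain ⟨t, ht⟩ := exists_smul_stdO ho
  have h1 := relN_move t⁻¹ hx
  set z := permVec (t⁻¹ : ↥M24).1 (fun i => 2 * e i) with hz
  obtain ⟨r, hr, hsyn⟩ := sixteen_syn fun k =>
    decide ((negSet z ∩ setOfMask (outGens.getD (k.val + 1) 0)).card % 2 = 1)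
  obtain ⟨hin, hodd, habs⟩ := sixteen_inside r hr
  obtain ⟨hL, hev⟩ := rep_even r (List.mem_append.2 (Or.inr hr))
  have habs' : ∀ i, |z i| = |vecOf r i| := abs_moved t⁻¹ fun j => by
    rw [two_abs, habs]
    simp only [lev_smul t⁻¹ (inv_smul_eq_iff.2 ht.symm) j, Finset.mem_compl, mem_lev]
    rcases hv j with h | h <;> simp [h]
  refine ⟨r, hr, h1.trans (sign_fix h1.mem habs' hin fun g hg => ?_)⟩
  obtain ⟨k, hk, rfl⟩ := List.getElem_of_mem hg
  have hlen : outGens.length = 5 := rfl
  rw [show outGens[k] = outGens.getD k 0 from (List.getD_eq_getElem _ _ hk).symm]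
  rcases k with - | k
  · rw [hodd]; exact parity_twoOdd h1.mem (mem_iff.2 (isL_of_test hL)) hev habs'
  · have h' := hsyn ⟨k, by omega⟩
    dsimp only at h'
    rw [h']
    by_cases hb : (negSet z ∩ setOfMask (outGens.getD (k + 1) 0)).card % 2 = 1
    · rw [decide_eq_true hb, cond_true, hb]
    · rw [decide_eq_false hb, cond_false]; omega

theorem even_orbit {x : Vec} {N : ℕ} (hx : x ∈ evenFam evOdd evEven N) :
    (N = 8 → Rel x (vecOf rv_pair)) ∧ (N = 12 → Rel x (vecOf rv_five)) ∧
      (N = 16 → ∃ r ∈ rv_eight :: chains64.map Prod.fst, RelN x (vecOf r)) := by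
  obtain ⟨e, rfl, hv, hN, hsup, hpar⟩ := even_reduce hx
  have hxL : (fun i => 2 * e i) ∈ leechLattice := mem_iff.2 hx.1
  have hw := card_code_support hsup
  have hd : Disjoint (lev e 1) (lev e 3) :=
    Finset.disjoint_left.2 fun i h h' => by rw [mem_lev] at h h'; omega
  rw [Finset.card_union_of_disjoint hd] at hw
  have none_at : ∀ k, (lev e k).card = 0 → ∀ i, |e i| ≠ k := fun k hk i h => by
    have := mem_lev.2 h
    rw [Finset.card_eq_zero.1 hk] at this
    exact Finset.notMem_empty i this
  have hsupp : (lev e 3).card = 0 → lev e 1 ∈ supports (golayCode : Set (GolayPt → ZMod 2)) := fun h => by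
    rwa [Finset.card_eq_zero.1 h, Finset.union_empty] at hsup
  have vals : ∀ p q : ℤ, ((1 : ℤ) ≠ p → (1 : ℤ) ≠ q → (lev e 1).card = 0) →
      ((2 : ℤ) ≠ p → (2 : ℤ) ≠ q → (lev e 2).card = 0) → ((3 : ℤ) ≠ p → (3 : ℤ) ≠ q → (lev e 3).card = 0) →
      ((4 : ℤ) ≠ p → (4 : ℤ) ≠ q → (lev e 4).card = 0) → ∀ i, |e i| = 0 ∨ |e i| = p ∨ |e i| = q := by
    intro p q g1 g2 g3 g4 i
    by_contra hne
    push Not at hne
    rcases hv i with h' | h' | h' | h' | h'
    · exact hne.1 h'
    all_goals rw [h'] at hne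
    · exact none_at _ (g1 hne.2.1 hne.2.2) i h'
    · exact none_at _ (g2 hne.2.1 hne.2.2) i h'
    · exact none_at _ (g3 hne.2.1 hne.2.2) i h'
    · exact none_at _ (g4 hne.2.1 hne.2.2) i h'
  refine ⟨fun hn => ?_, fun hn => ?_, fun hn => ?_⟩
  · have z4 : (lev e 4).card = 0 := by omega
    have z3 : (lev e 3).card = 0 := by omega
    by_cases h8 : (lev e 1).card = 8
    · exact (case_oct hxL (fun i => by have := vals 1 1 (fun _ _ => by omega) (fun _ _ => by omega) (fun _ _ => by omega) (fun _ _ => by omega) i; omega)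
        (octad_of (hsupp z3) h8)).rel.trans (rel_to32 (by decide +kernel))
    · have hb : (lev e 2).card = 2 := by omega
      exact RelN.rel <| case_pair hxL (fun i => by have := vals 2 2 (fun _ _ => by omega) (fun _ _ => by omega) (fun _ _ => by omega) (fun _ _ => by omega) i; omega) hb
  · have z4 : (lev e 4).card = 0 := by omega
    have z3 : (lev e 3).card = 0 := by omega
    by_cases h0 : (lev e 1).card = 0
    · obtain ⟨u, hu⟩ := hpar h0 z3; omega
    by_cases h8 : (lev e 1).card = 8
    · exact (case_foct hxL (fun i => by have := vals 1 2 (fun _ _ => by omega) (fun _ _ => by omega) (fun _ _ => by omega) (fun _ _ => by omega) i; omega)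
        (octad_of (hsupp z3) h8) (by omega)).rel.trans (rel_to48 (by decide +kernel))
    · exact (case_dod hxL (fun i => by have := vals 1 1 (fun _ _ => by omega) (fun _ _ => by omega) (fun _ _ => by omega) (fun _ _ => by omega) i; omega)
        ⟨hsupp z3, show (lev e 1).card = 12 by omega⟩).rel.trans (rel_to48 (by decide +kernel))
  · by_cases h4 : (lev e 4).card = 1
    · exact ⟨rv_eight, List.mem_cons_self, case_eight hxL (fun i => by have := vals 4 4 (fun _ _ => by omega) (fun _ _ => by omega) (fun _ _ => by omega) (fun _ _ => by omega) i; omega) h4⟩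
    by_cases h3 : (lev e 3).card = 1
    · exact ⟨rv_six, by decide +kernel, case_six hxL (fun i => by have := vals 1 3 (fun _ _ => by omega) (fun _ _ => by omega) (fun _ _ => by omega) (fun _ _ => by omega) i; omega)
        (octad_of hsup (by rw [Finset.card_union_of_disjoint hd]; omega)) h3⟩
    have z3 : (lev e 3).card = 0 := by omega
    by_cases h0 : (lev e 1).card = 0
    · exact ⟨rv_fours, by decide +kernel, case_fours hxL (fun i => by have := vals 2 2 (fun _ _ => by omega) (fun _ _ => by omega) (fun _ _ => by omega) (fun _ _ => by omega) i; omega) (by omega)⟩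
    by_cases h8 : (lev e 1).card = 8
    · obtain ⟨r, hr, h⟩ := case_k hxL (fun i => by have := vals 1 2 (fun _ _ => by omega) (fun _ _ => by omega) (fun _ _ => by omega) (fun _ _ => by omega) i; omega)
        (octad_of (hsupp z3) h8) (by omega)
      exact ⟨r, List.mem_cons_of_mem _ ((by decide +kernel : ∀ r ∈ kReps, r ∈ chains64.map Prod.fst) r hr), h⟩
    by_cases h12 : (lev e 1).card = 12
    · exact ⟨rv_ltwelve, by decide +kernel, case_ltwelve hxL (fun i => by have := vals 1 2 (fun _ _ => by omega) (fun _ _ => by omega) (fun _ _ => by omega) (fun _ _ => by omega) i; omega)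
        ⟨hsupp z3, h12⟩ (by omega)⟩
    · obtain ⟨r, hr, h⟩ := case_sixteen hxL (fun i => by have := vals 1 1 (fun _ _ => by omega) (fun _ _ => by omega) (fun _ _ => by omega) (fun _ _ => by omega) i; omega)
        (hsupp z3) (by omega)
      exact ⟨r, List.mem_cons_of_mem _ ((by decide +kernel : ∀ r ∈ sixteenReps, r ∈ chains64.map Prod.fst) r hr), h⟩

theorem orbit32 {x : Vec} (hx : x ∈ leechLattice) (hn : sqNorm x = 32) : Rel x (vecOf rv_pair) := by
  rcases split_family (mem_iff.1 hx) (N := 8) (by norm_num) (by rw [hn]; norm_num) with h | h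
  · exact (even_orbit h).1 rfl
  · obtain ⟨y, hxy, hv, hc⟩ := odd_reduce h (by norm_num)
    have h2 := odd_case hxy.mem hv rv_omega [] [none] (by decide) (by norm_num) (by decide +kernel)
      (by simp only [List.length_nil]; omega) (by simp only [List.length_singleton]; omega)
    exact (hxy.trans h2).rel.trans (rel_to32 (by decide +kernel))

theorem orbit48 {x : Vec} (hx : x ∈ leechLattice) (hn : sqNorm x = 48) : Rel x (vecOf rv_five) := by
  rcases split_family (mem_iff.1 hx) (N := 12) (by norm_num) (by rw [hn]; norm_num) with h | h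
  · exact (even_orbit h).2.1 rfl
  · obtain ⟨y, hxy, hv, hc⟩ := odd_reduce h (by norm_num)
    by_cases h5 : (Finset.univ.filter fun i => y i = 5).card = 1
    · exact RelN.rel <| hxy.trans (odd_case hxy.mem hv rv_five [none] [] (by decide) (by norm_num) (by decide +kernel)
        (by simpa using h5) (by simp only [List.length_nil]; omega))
    · exact (hxy.trans (odd_case hxy.mem hv rv_three [] [none, some 0, some 1] (by decide) (by norm_num)
        (by decide +kernel) (by simp only [List.length_nil]; omega)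
        (by simp only [List.length_cons, List.length_nil]; omega))).rel.trans (rel_to48 (by decide +kernel))

theorem orbit64N {x : Vec} (hx : x ∈ leechLattice) (hn : sqNorm x = 64) :
    ∃ r ∈ rv_eight :: chains64.map Prod.fst, RelN x (vecOf r) := by
  rcases split_family (mem_iff.1 hx) (N := 16) (by norm_num) (by rw [hn]; norm_num) with h | h
  · exact (even_orbit h).2.2 rfl
  · obtain ⟨y, hxy, hv, hc⟩ := odd_reduce h (by norm_num)
    by_cases h5 : (Finset.univ.filter fun i => y i = 5).card = 1
    · exact ⟨rv_five33, by decide +kernel, hxy.trans (odd_case hxy.mem hv rv_five33 [none] [some 0, some 1]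
        (by decide) (by norm_num) (by decide +kernel) (by simpa using h5)
        (by simp only [List.length_cons, List.length_nil]; omega))⟩
    · exact ⟨rv_threes5, by decide +kernel, hxy.trans (odd_case hxy.mem hv rv_threes5 []
        [none, some 0, some 1, some 2, some 3]
        (by decide) (by norm_num) (by decide +kernel) (by simp only [List.length_nil]; omega)
        (by simp only [List.length_cons, List.length_nil]; omega))⟩

theorem orbit64 {x : Vec} (hx : x ∈ leechLattice) (hn : sqNorm x = 64) : Rel x (vecOf rv_eight) := by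
  obtain ⟨r, hr, h⟩ := orbit64N hx hn
  rcases List.mem_cons.1 hr with rfl | hr
  · exact h.rel
  · exact h.rel.trans (rel_to64 hr)

/-- Transitivity on a shell, as a statement about lattice elements. -/
theorem exists_smul_of_rel {v w : ↥leechLattice} {t : Vec} (hv : Rel (v : Vec) t) (hw : Rel (w : Vec) t) :
    ∃ g : ↥Co0, g • v = w := by
  obtain ⟨_hx, g, hg⟩ := hv.trans hw.symm
  exact ⟨g, Subtype.ext hg⟩

end CfsgLib.Sporadic.Conway
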