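import Cfsg.Agent.Lib.Sporadic.ConwayDotFast
import Cfsg.Agent.Lib.Sporadic.ConwaySmallSimple
import Cfsg.Agent.Lib.Sporadic.OrbitCoTwoNear
import Cfsg.Agent.Lib.Sporadic.OrbitCoTwoOrth
import Cfsg.Agent.Lib.Sporadic.OrbitCoTwoSubP0
import Cfsg.Agent.Lib.Sporadic.OrbitCoTwoSubP16
import Cfsg.Agent.Lib.Sporadic.OrbitCoTwoSubP8
import Cfsg.Agent.Lib.ThreeTrans.LeechUPerp

/-!
# The stabiliser of a minimal vector is simple

A normal subgroup meeting the stabiliser of an orthogonal vector in more than sign changes contains all of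
it; otherwise its blocks among the 4600 are points, opposite pairs, or everything, and each is impossible.
-/

set_option autoImplicit false

namespace CfsgLib.Sporadic.Conway

open Cfsg Finset CfsgLib.ThreeTrans.Leech CfsgLib.Sporadic.Lattice MulAction
open CfsgLib.ThreeTrans.Golay (act mk Word)

attribute [local irreducible] OTree.entries coTwoNearTree coTwoOrthTree

set_option maxHeartbeats 1000000

variable {N : Subgroup ↥Co0}

theorem wordOf_none (m : ℕ) : wordOf m none = 0 → bitAt m 23 = 0 := by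
  intro h
  rw [bitAt_eq, if_neg]
  intro hb
  simp [wordOf, ix, hb] at h

theorem wordOf_zeroPt (m : ℕ) : wordOf m (some 0) = 0 → bitAt m 0 = 0 := by
  intro h
  rw [bitAt_eq, if_neg]
  intro hb
  simp [wordOf, ix, hb] at h

/-- The monomial shape of the stabiliser of two orthogonal minimal vectors. -/
theorem orth_shape {g : ↥Co0} (hg : g ∈ fixGroup [twentyPt, pairElt]) :
    ∃ (π : ↥M24) (w : Word) (hw : w ∈ golayCode), π ∈ twoPt ∧ w none = 0 ∧ w (some 0) = 0 ∧
      g = fl w hw * permHom π ∧ PermOf g π.1 := by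
  have h := mem_fixGroup.1 hg
  obtain ⟨he, he'⟩ := eight_of_pair (h pairElt (by simp)) (h twentyPt (by simp))
  obtain ⟨σ, hσ, w, hw, rfl⟩ := mono_of_eight he
  obtain ⟨a1, a2⟩ := mono_fix hσ hw he
  obtain ⟨b1, b2⟩ := mono_fix hσ hw he'
  refine ⟨⟨σ, hσ⟩, w, hw, ⟨a1, b1⟩, a2, b2, rfl, ?_⟩
  have := (permOf_fl hw).mul (permOf_perm hσ)
  rwa [one_mul] at this

theorem fl_mem_orth {w : Word} (hw : w ∈ golayCode) (h1 : w none = 0) (h2 : w (some 0) = 0) :
    fl w hw ∈ fixGroup [twentyPt, pairElt] := by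
  refine mem_fixGroup.2 fun v hv => Subtype.ext (funext fun i => ?_)
  rw [fl_apply]
  simp only
  by_cases hne : w i ≠ 0
  · have hi : i ≠ none := fun e => hne (e ▸ h1)
    have hi' : i ≠ some 0 := fun e => hne (e ▸ h2)
    rw [if_pos hne]
    simp only [List.mem_cons, List.not_mem_nil, or_false] at hv
    rcases hv with rfl | rfl
    · show -(pv _ i) = pv _ i
      rw [z_shape, if_neg hi, if_neg hi', neg_zero]
    · show -(pv _ i) = pv _ i
      rw [pair_shape, if_neg hi, if_neg hi', neg_zero]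
  · rw [if_neg hne]

theorem perm_mem_orth {π : ↥M24} (hπ : π ∈ twoPt) : permHom π ∈ fixGroup [twentyPt, pairElt] :=
  mem_fixGroup.2 fun v hv => by
    simp only [List.mem_cons, List.not_mem_nil, or_false] at hv
    rcases hv with rfl | rfl
    · exact perm_fix_z hπ
    · exact perm_fix_pair hπ

theorem orth_le_pair {g : ↥Co0} (hg : g ∈ fixGroup [twentyPt, pairElt]) : g ∈ fixGroup [pairElt] :=
  mem_fixGroup.2 fun v hv => mem_fixGroup.1 hg v (List.mem_cons_of_mem _ hv)

/-- The octads and permutations giving the sign changes. -/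
def flipRows : List (ℕ × ℕ) :=
  [(10558, 970211657697594801360620650876846784), (10558, 976700846262498706714873672290932992),
    (21116, 970211657697594801360620650876846784), (21116, 976700846262498706714873672290932992),
    (36294, 970211657697594801360620650876846784), (72588, 970211657697594801360620650876846784),
    (72588, 976700846262498706714873672290932992), (138790, 970211657697594801360620650876846784),
    (138790, 976700846262498706714873672290932992), (267634, 970211657697594801360620650876846784)]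

/-- The sign change of a row. -/
noncomputable def flipRow (i : ℕ) : ℕ :=
  Nat.xor (flipRows.getD i (0, 0)).1 (mimg (flipRows.getD i (0, 0)).2 (flipRows.getD i (0, 0)).1)

/-- Coordinates in the rows of the basis words. -/
noncomputable def linCoord (i : ℕ) : ℕ :=
  [1024, 742, 2048, 605, 2227, 2260, 2473, 375, 350, 831, 2649, 2283].getD i 0

theorem flipRows_span : forallLt 4096 (fun k => Nat.beq (bitAt (enc k) 23) 1 || Nat.beq (bitAt (enc k) 0) 1 ||
    Nat.beq (xorComb flipRow (xorComb linCoord k 12) 10) (enc k)) = true := by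
  decide +kernel

theorem flipRows_ok : ∀ i < 10, isAut (flipRows.getD i (0, 0)).2 = true ∧
    inCode (flipRows.getD i (0, 0)).1 = true ∧ bitAt (flipRows.getD i (0, 0)).1 23 = 0 ∧
    bitAt (flipRows.getD i (0, 0)).1 0 = 0 ∧ pget (flipRows.getD i (0, 0)).2 23 = 23 ∧
    pget (flipRows.getD i (0, 0)).2 0 = 0 := by
  decide +kernel

theorem orth_le_of_perm (h : NormIn N [pairElt]) {n : ↥Co0} (hn : n ∈ N)
    (hnK : n ∈ fixGroup [twentyPt, pairElt]) {σ : Equiv.Perm GolayPt} (hσ : PermOf n σ) (hne : σ ≠ 1) :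
    fixGroup [twentyPt, pairElt] ≤ N := by
  have hconj : ∀ g ∈ fixGroup [twentyPt, pairElt], ∀ m ∈ N, g * m * g⁻¹ ∈ N := fun g hg m hm =>
    h.conj g (orth_le_pair hg) m hm
  let P : Subgroup ↥twoPt :=
    { carrier := {π | ∃ g ∈ N, g ∈ fixGroup [twentyPt, pairElt] ∧ PermOf g π.1.1}
      one_mem' := ⟨1, one_mem N, one_mem _, permOf_one⟩
      mul_mem' := fun {a b} ⟨g, hg, hg', h1⟩ ⟨g₂, hg₂, hg₂', h2⟩ =>
        ⟨g * g₂, mul_mem hg hg₂, mul_mem hg' hg₂', h1.mul h2⟩
      inv_mem' := fun {a} ⟨g, hg, hg', h1⟩ => ⟨g⁻¹, inv_mem hg, inv_mem hg', h1.inv⟩ }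
  have hPn : P.Normal := ⟨fun π ⟨g, hg, hg', h1⟩ ρ =>
    ⟨permHom ρ.1 * g * (permHom ρ.1)⁻¹, hconj _ (perm_mem_orth ρ.2) g hg,
      mul_mem (mul_mem (perm_mem_orth ρ.2) hg') (inv_mem (perm_mem_orth ρ.2)),
      ((permOf_perm ρ.1.2).mul h1).mul (permOf_perm ρ.1.2).inv⟩⟩
  haveI : IsSimpleGroup ↥twoPt := M22_isSimple (by simp)
  have hPtop : P = ⊤ := by
    refine (hPn.eq_bot_or_eq_top).resolve_left fun hbot => hne ?_
    obtain ⟨π, w, hw, hπ, -, -, -, hp⟩ := orth_shape hnK
    obtain rfl := hσ.eq hp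
    have : (⟨π, hπ⟩ : ↥twoPt) ∈ P := ⟨n, hn, hnK, hp⟩
    rw [hbot, Subgroup.mem_bot] at this
    exact congrArg (fun x : ↥twoPt => x.1.1) this
  have hall : ∀ π ∈ twoPt, ∃ (w : Word) (hw : w ∈ golayCode), w none = 0 ∧ w (some 0) = 0 ∧
      fl w hw * permHom π ∈ N := by
    intro π hπ
    obtain ⟨g, hg, hg', hp⟩ := (hPtop ▸ Subgroup.mem_top (⟨π, hπ⟩ : ↥twoPt) : (⟨π, hπ⟩ : ↥twoPt) ∈ P)
    obtain ⟨π', w, hw, hπ', a, b, rfl, hp'⟩ := orth_shape hg'
    obtain rfl : π' = π := Subtype.ext (hp'.eq hp)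
    exact ⟨w, hw, a, b, hg⟩
  let InN : Word → Prop := fun w => ∃ hw : w ∈ golayCode, fl w hw ∈ N
  have inN0 : InN 0 := ⟨zero_mem _, fl_zero ▸ one_mem N⟩
  have inN_add : ∀ a b, InN a → InN b → InN (a + b) := fun a b ⟨ha, h1⟩ ⟨hb, h2⟩ =>
    ⟨add_mem ha hb, fl_add ha hb ▸ mul_mem h1 h2⟩
  have hrow : ∀ i < 10, InN (wordOf (flipRow i)) := by
    intro i hi
    obtain ⟨hp, hd, hd23, hd0, hp23, hp0⟩ := flipRows_ok i hi
    rw [flipRow, show Nat.xor _ _ = (flipRows.getD i (0, 0)).1 ^^^ _ from rfl, wordOf_xor]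
    set d := (flipRows.getD i (0, 0)).1
    obtain ⟨π, hπ⟩ := exists_M24_elt hp
    have hπ2 : π ∈ twoPt := mem_twoPt.2 ⟨ix_injective ((hπ none).symm.trans hp23), ix_injective ((hπ (some 0)).symm.trans hp0)⟩
    have hdc : wordOf d ∈ golayCode := mem_golayCode.2 (by rw [support₂_wordOf, maskOf_setOfMask (inCode_lt hd)]; exact hd)
    have hdK : fl _ hdc ∈ fixGroup [twentyPt, pairElt] := by
      refine fl_mem_orth hdc ?_ ?_
      · rw [bitAt_eq] at hd23; simp only [wordOf, ix]; split_ifs at hd23 with hb; simp [hb]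
      · rw [bitAt_eq] at hd0; simp only [wordOf, ix]; split_ifs at hd0 with hb
        simp only [ZMod.val_zero] at hb ⊢; simp [hb]
    obtain ⟨u, hu, -, -, hn'⟩ := hall π hπ2
    have hact : act π.1 (wordOf d) = wordOf (mimg (flipRows.getD i (0, 0)).2 d) := by
      rw [← ThreeTrans.Golay.wordOf_mk (act π.1 (wordOf d)), ThreeTrans.Golay.mk_act hπ,
        ThreeTrans.Golay.mk_wordOf (inCode_lt hd)]
    rw [← hact]
    refine ⟨add_mem hdc (ThreeTrans.Golay.act_code π.2 hdc), ?_⟩
    rw [fl_add hdc (ThreeTrans.Golay.act_code π.2 hdc)]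
    have h2 := mul_mem (hconj _ hdK _ hn') (inv_mem hn')
    have inv : (fl _ hdc)⁻¹ = fl _ hdc := inv_eq_of_mul_eq_one_left (by
      rw [← fl_add hdc hdc]; simp only [ThreeTrans.Golay.add_self]; exact fl_zero)
    have comm : fl u hu * fl _ (ThreeTrans.Golay.act_code π.2 hdc) =
        fl _ (ThreeTrans.Golay.act_code π.2 hdc) * fl u hu := by
      rw [← fl_add, ← fl_add]; simp only [add_comm u]
    have e2 : fl _ hdc * (fl u hu * permHom π) * (fl _ hdc)⁻¹ * (fl u hu * permHom π)⁻¹ =
        fl _ hdc * fl _ (ThreeTrans.Golay.act_code π.2 hdc) := by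
      rw [inv, mul_inv_rev, permHom_apply]
      calc _ = fl _ hdc * (fl u hu * (permElt π.2 * fl _ hdc * (permElt π.2)⁻¹) * (fl u hu)⁻¹) := by group
        _ = _ := by rw [fl_conj, comm, mul_inv_cancel_right]
    exact e2 ▸ h2
  have hcomb : ∀ (c m : ℕ), m ≤ 10 → InN (wordOf (xorComb flipRow c m)) := by
    intro c m hm
    induction m with
    | zero => rw [show xorComb flipRow c 0 = 0 from rfl, wordOf_zero]; exact inN0
    | succ m ih =>
      rw [xorComb_succ, wordOf_xor]
      refine inN_add _ _ (ih (by omega)) ?_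
      rw [bitAt_eq]
      split
      · rw [one_mul]; exact hrow m (by omega)
      · rw [zero_mul, wordOf_zero]; exact inN0
  have hflip : ∀ w : Word, w ∈ golayCode → w none = 0 → w (some 0) = 0 → InN w := by
    intro w hw h1 h2
    obtain ⟨k, hk, rfl⟩ := mem_golayCode_iff.1 hw
    have hc := forallLt_elim flipRows_span hk
    rw [wordOf_none _ h1, wordOf_zeroPt _ h2] at hc
    simp only [Bool.or_eq_true, Nat.beq_eq] at hc
    rcases hc with (hc | hc) | hc
    · omega
    · omega
    · rw [← hc]; exact hcomb _ 10 le_rfl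
  intro g hg
  obtain ⟨π, u, hu, hπ, hu1, hu2, rfl, -⟩ := orth_shape hg
  obtain ⟨u', hu', a, b, hn'⟩ := hall π hπ
  obtain ⟨_, hN1⟩ := hflip u hu hu1 hu2
  obtain ⟨_, hN2⟩ := hflip u' hu' a b
  have hp : permHom π ∈ N := by
    have := mul_mem (inv_mem hN2) hn'; rwa [inv_mul_cancel_left] at this
  exact mul_mem hN1 hp

/-! ### the point sets -/

theorem z_mem : twentyPt ∈ DS [(pairElt, (0 : ℤ))] :=
  ⟨by decide +kernel, by simp only [List.forall_mem_cons]; exact ⟨by decide +kernel, by simp⟩⟩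

theorem orth_set : (DS [(pairElt, (0 : ℤ))]).ncard = 93150 ∧ Trans [pairElt] (DS [(pairElt, (0 : ℤ))]) ∧
    ∀ x ∈ DS [(pairElt, (0 : ℤ))], ∃ e ∈ coTwoOrthTree.entries, (x : Vec) = pv e.1 :=
  ds_cert coTwoOrth_ok [pairElt] rfl _ (by simp) twentyPt rfl z_mem (DS_finite List.mem_cons_self)
    (by rw [DS_one, (census (mem_shell.2 ⟨pairElt.2, pairElt_norm⟩)).2.2])

/-- A point among the 4600. -/
noncomputable def nearPt : ↥leechLattice := elt 42255020007607646716556773572 (by decide +kernel)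

theorem nearPt_mem : nearPt ∈ DS [(pairElt, (-16 : ℤ))] :=
  ⟨by decide +kernel, by simp only [List.forall_mem_cons]; exact ⟨by decide +kernel, by simp⟩⟩

theorem near_set : (DS [(pairElt, (-16 : ℤ))]).ncard = 4600 ∧ Trans [pairElt] (DS [(pairElt, (-16 : ℤ))]) ∧
    ∀ x ∈ DS [(pairElt, (-16 : ℤ))], ∃ e ∈ coTwoNearTree.entries, (x : Vec) = pv e.1 :=
  ds_cert coTwoNear_ok [pairElt] rfl _ (by simp) nearPt rfl nearPt_mem (DS_finite List.mem_cons_self)
    (by rw [DS_one, (census (mem_shell.2 ⟨pairElt.2, pairElt_norm⟩)).1])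

theorem dot_add_left' (x y w : Vec) : dotInt (x + y) w = dotInt x w + dotInt y w := by
  simp only [dotInt, Pi.add_apply, add_mul, Finset.sum_add_distrib]

theorem dot_sub_right' (x y w : Vec) : dotInt x (y - w) = dotInt x y - dotInt x w := by
  simp only [dotInt, Pi.sub_apply, mul_sub, Finset.sum_sub_distrib]

theorem dot_comm'' (x y : Vec) : dotInt x y = dotInt y x := Finset.sum_congr rfl fun i _ => mul_comm _ _

theorem partner_mem {x : ↥leechLattice} (hx : x ∈ DS [(pairElt, (-16 : ℤ))]) :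
    -pairElt - x ∈ DS [(pairElt, (-16 : ℤ))] := by
  have hd : dotInt (pairElt : Vec) (x : Vec) = -16 := hx.2 _ List.mem_cons_self
  have hpp : dotInt (pairElt : Vec) (pairElt : Vec) = 32 := by
    rw [← pairElt_norm]; exact Finset.sum_congr rfl fun i _ => (sq _).symm
  have hd' : dotInt (pairElt : Vec) ((-pairElt - x : ↥leechLattice) : Vec) = -16 := by
    rw [AddSubgroup.coe_sub, AddSubgroup.coe_neg, dot_sub_right', dot_neg_right, hpp, hd]; norm_num
  refine ⟨?_, by simp only [List.forall_mem_cons]; exact ⟨hd', by simp⟩⟩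
  rw [AddSubgroup.coe_sub, AddSubgroup.coe_neg, sq_sub_dot, hx.1, dot_comm'', dot_neg_right,
    dot_comm'' (x : Vec) (pairElt : Vec), hd, show sqNorm (-(pairElt : Vec)) = sqNorm (pairElt : Vec) by simp [sqNorm],
    pairElt_norm]
  norm_num

/-- A suborbit among the 4600. -/
theorem near_sub {gens : List (List (ℕ × ℕ))} {root : ℕ} {T : OTree} {n : ℕ}
    (h : orbitOK gens [kPair, 42255020007607646716556773572] root T n = true) (k : ℤ)
    (hcount : (coTwoNearTree.entries.filter fun e =>
      [(42255020007607646716556773572, k)].all fun q => decide (dotInt (pv q.1) (pv e.1) = q.2)).length = n)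
    (hL : LTest (pv root)) (hroot : sqNorm (pv root) = 32 ∧ dotInt (pv kPair) (pv root) = -16 ∧
      dotInt (pv 42255020007607646716556773572) (pv root) = k) :
    (DS [(pairElt, -16), (nearPt, k)]).ncard = n ∧ Trans [nearPt, pairElt] (DS [(pairElt, -16), (nearPt, k)]) := by
  obtain ⟨h1, h2⟩ := ds_bound (ls := [(pairElt, -16), (nearPt, k)]) near_set.2.2 (by simp)
    [(42255020007607646716556773572, k)] (by simp [nearPt, elt]) hcount
  have hmem : (⟨pv root, pv_mem hL⟩ : ↥leechLattice) ∈ DS [(pairElt, -16), (nearPt, k)] :=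
    ⟨hroot.1, by simp only [List.forall_mem_cons]; exact ⟨hroot.2.1, hroot.2.2, by simp⟩⟩
  obtain ⟨e1, e2, -⟩ := ds_cert h [pairElt, nearPt] rfl _ (by simp) ⟨pv root, pv_mem hL⟩ rfl hmem h1 h2
  exact ⟨e1, trans_mem e2 (by simp)⟩

theorem near_partner :
    (DS [(pairElt, -16), (nearPt, -16)]).ncard = 1 ∧ DS [(pairElt, -16), (nearPt, -16)] = {-pairElt - nearPt} := by
  obtain ⟨h1, h2⟩ := ds_bound (ls := [(pairElt, -16), (nearPt, -16)]) near_set.2.2 (by simp)
    [(42255020007607646716556773572, (-16 : ℤ))] (by simp [nearPt, elt]) (n := 1) (DotFast.filter_dot_length (by decide +kernel))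
  have hmem : -pairElt - nearPt ∈ DS [(pairElt, -16), (nearPt, -16)] :=
    ⟨(partner_mem nearPt_mem).1, by
      simp only [List.forall_mem_cons]
      exact ⟨(partner_mem nearPt_mem).2 _ List.mem_cons_self,
        show dotInt (pv 42255020007607646716556773572) (-pv kPair - pv 42255020007607646716556773572) = -16 by
          decide +kernel, by simp⟩⟩
  have hone : (DS [(pairElt, -16), (nearPt, -16)]).ncard = 1 := le_antisymm h2 ((Set.ncard_pos h1).2 ⟨_, hmem⟩)
  refine ⟨hone, ?_⟩
  obtain ⟨a, ha⟩ := Set.ncard_eq_one.1 hone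
  rw [ha] at hmem ⊢
  rw [Set.mem_singleton_iff.1 hmem]

theorem near_subs : ∀ k ∈ ({-16, 0, 16, 8} : Finset ℤ),
    (DS [(pairElt, -16), (nearPt, k)]).ncard = (if k = -16 then 1 else if k = 8 then 2816 else 891) ∧
      Trans [nearPt, pairElt] (DS [(pairElt, -16), (nearPt, k)]) := by
  intro k hk
  simp only [Finset.mem_insert, Finset.mem_singleton] at hk
  rcases hk with rfl | rfl | rfl | rfl
  · refine ⟨near_partner.1, fun x hx y hy => ⟨1, ?_, fun v _ => one_smul _ v⟩⟩
    rw [near_partner.2, Set.mem_singleton_iff] at hx hy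
    rw [one_smul, hx, hy]
  · exact near_sub coTwoSubP0_ok 0 (DotFast.filter_dot_length (by decide +kernel)) (by decide +kernel) (by decide +kernel)
  · exact near_sub coTwoSubP16_ok 16 (DotFast.filter_dot_length (by decide +kernel)) (by decide +kernel) (by decide +kernel)
  · exact near_sub coTwoSubP8_ok 8 (DotFast.filter_dot_length (by decide +kernel)) (by decide +kernel) (by decide +kernel)

theorem near_values {x : ↥leechLattice} (hx : x ∈ DS [(pairElt, (-16 : ℤ))]) :
    x = nearPt ∨ dotInt (nearPt : Vec) (x : Vec) ∈ ({-16, 0, 16, 8} : Finset ℤ) := by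
  rcases ds_values near_set.2.2 (r := nearPt) (root := 42255020007607646716556773572) rfl [-16, 0, 16, 8]
    (DotFast.all_dot_values (by decide +kernel)) hx with h | h
  · exact Or.inl h
  · right; simpa using h

/-! ### a conjugate of the one-point stabiliser -/

theorem no_full_block (h : NormIn N [pairElt])
    (hB : ∀ n ∈ N, n ∈ fixGroup [twentyPt, pairElt] → PermOf n 1) : ¬ 4600 ∣ Nat.card ↥N := by
  intro hdiv
  obtain ⟨a, ha⟩ := packElt [(1, 126213879621837531433782851115832785), (2, 1707735), (0, 0),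
    (1, 235652889680836660009526017891807856), (2, 6134150), (0, 0), (1, 935081485716938785976877535293636774)]
    (by decide +kernel)
  have haω : a • omegaElt = pairElt := Subtype.ext (ha _ kPair (by decide +kernel) omegaElt rfl)
  obtain ⟨k, hk⟩ := packElt [(1, 958364560348591686358866586827345024)] (by decide +kernel)
  have hkK : k ∈ fixGroup [omegaElt, fiveElt] := mem_fixGroup.2 fun v hv => by
    simp only [List.mem_cons, List.not_mem_nil, or_false] at hv
    rcases hv with rfl | rfl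
    · exact Subtype.ext (hk _ 27729856879992518157740382617 (by decide +kernel) omegaElt rfl)
    · exact Subtype.ext (hk _ kFive (by decide +kernel) fiveElt rfl)
  have hmem : ∀ g ∈ fixGroup [omegaElt, fiveElt], a * g * a⁻¹ ∈ fixGroup [pairElt] := fun g hg =>
    mem_fixGroup.2 fun v hv => by
      rw [List.mem_singleton] at hv
      subst hv
      rw [← haω, mul_smul, mul_smul, inv_smul_smul, mem_fixGroup.1 hg omegaElt List.mem_cons_self]
  let φ : ↥(fixGroup [omegaElt, fiveElt]) →* ↥(fixGroup [pairElt]) :=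
    { toFun := fun g => ⟨a * g.1 * a⁻¹, hmem g.1 g.2⟩
      map_one' := Subtype.ext (by simp)
      map_mul' := fun x y => Subtype.ext (by simp [mul_assoc]) }
  have hn : (N.subgroupOf (fixGroup [pairElt])).Normal := ⟨fun n hn g => by
    rw [Subgroup.mem_subgroupOf] at hn ⊢
    exact h.conj g.1 g.2 _ hn⟩
  haveI := hn
  let ψ := (QuotientGroup.mk' (N.subgroupOf (fixGroup [pairElt]))).comp φ
  haveI := simple_omega
  rcases (inferInstance : ψ.ker.Normal).eq_bot_or_eq_top with e | e
  · have hinj : Function.Injective ψ := (MonoidHom.ker_eq_bot_iff ψ).1 e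
    have h1 := Subgroup.card_dvd_of_injective ψ hinj
    have h2 := Subgroup.card_eq_card_quotient_mul_card_subgroup (N.subgroupOf (fixGroup [pairElt]))
    rw [card_fix_pair, Nat.card_congr (Subgroup.subgroupOfEquivOfLe h.le).toEquiv] at h2
    have h3 : Nat.card ↥(fixGroup [omegaElt, fiveElt]) = 10200960 := by
      rw [fix_omega_five, Subgroup.card_map_of_injective permHom_injective, card_stab_point]
    rw [h3] at h1
    have h5 : 10200960 * 4600 ∣ 42305421312000 := h2 ▸ Nat.mul_dvd_mul h1 hdiv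
    norm_num at h5
  · have hkk : (⟨k, hkK⟩ : ↥(fixGroup [omegaElt, fiveElt])) ∈ ψ.ker := e ▸ Subgroup.mem_top _
    rw [MonoidHom.mem_ker] at hkk
    have hn' : a * k * a⁻¹ ∈ N :=
      (QuotientGroup.eq_one_iff (N := N.subgroupOf (fixGroup [pairElt])) (φ ⟨k, hkK⟩)).1 hkk
    obtain ⟨q, hq⟩ : ∃ q : ↥leechLattice, (q : Vec) = pv 57440417820535801736976636279 :=
      ⟨⟨_, pv_mem (by decide +kernel)⟩, rfl⟩
    obtain ⟨t, ht⟩ : ∃ t : ↥leechLattice, (t : Vec) = pv 42216173784026072730137290376 :=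
      ⟨⟨_, pv_mem (by decide +kernel)⟩, rfl⟩
    have hqz : a • q = twentyPt := Subtype.ext (ha _ 62062060636173731114942761092 (by decide +kernel) q hq)
    have hkq : k • q = q := Subtype.ext ((hk _ 57440417820535801736976636279 (by decide +kernel) q hq).trans hq.symm)
    have hfix : a * k * a⁻¹ ∈ fixGroup [twentyPt, pairElt] := mem_fixGroup.2 fun v hv => by
      simp only [List.mem_cons, List.not_mem_nil, or_false] at hv
      rcases hv with rfl | rfl
      · rw [mul_smul, mul_smul, ← hqz, inv_smul_smul, hkq]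
      · exact mem_fixGroup.1 (hmem k hkK) _ (List.mem_singleton_self _)
    obtain ⟨π, w, hw, -, -, -, hshape, hp⟩ := orth_shape hfix
    have hπ : π.1 = 1 := hp.eq (hB _ hn' hfix)
    have hkt : ((k • t : ↥leechLattice) : Vec) = pv 41635898872084380026634004616 :=
      hk _ _ (by decide +kernel) t ht
    have hat : ((a • t : ↥leechLattice) : Vec) = pv 22447979379041562318170785992 := ha _ _ (by decide +kernel) t ht
    have himg : (((a * k * a⁻¹) • (a • t) : ↥leechLattice) : Vec) = pv 22447979452828538613008992392 := by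
      rw [mul_smul, mul_smul, inv_smul_smul]
      exact ha _ _ (by decide +kernel) _ hkt
    rw [hshape] at himg
    have e16 := congrFun himg (pt 16)
    rw [permHom_apply, mono_apply, hπ, hat] at e16
    have v1 : pv 22447979379041562318170785992 (pt 16) = 0 ∧ pv 22447979452828538613008992392 (pt 16) = 4 := by
      decide +kernel
    rw [show (1 : Equiv.Perm GolayPt).symm (pt 16) = pt 16 from rfl, v1.1, v1.2] at e16
    simp at e16

/-! ### the blocks -/

/-- `-4` at `0` and `s` at a further point. -/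
def nearVec (s : ℤ) (j : GolayPt) : Vec := fun k => if k = some 0 then -4 else if k = j then s else 0

theorem nearVec_spec : ∀ j : GolayPt, j ≠ none → j ≠ some 0 → ∀ s ∈ [(4 : ℤ), -4],
    LTest (nearVec s j) ∧ sqNorm (nearVec s j) = 32 ∧ dotInt (pv kPair) (nearVec s j) = -16 := by
  decide +kernel

theorem nearVec_mem {j : GolayPt} (h1 : j ≠ none) (h2 : j ≠ some 0) {s : ℤ} (hs : s ∈ [(4 : ℤ), -4]) :
    ∃ x ∈ DS [(pairElt, (-16 : ℤ))], (x : Vec) = nearVec s j := by
  obtain ⟨a, b, c⟩ := nearVec_spec j h1 h2 s hs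
  exact ⟨⟨_, mem_iff.2 (isL_of_test a)⟩, ⟨b, by simp only [List.forall_mem_cons]; exact ⟨c, by simp⟩⟩, rfl⟩

/-- Two of the 4600 differing by the orthogonal vector. -/
theorem z_diff : ∃ x ∈ DS [(pairElt, (-16 : ℤ))], ∃ y ∈ DS [(pairElt, (-16 : ℤ))], twentyPt = x - y := by
  obtain ⟨x, hx, hxv⟩ := nearVec_mem (j := some 1) (s := -4) (by simp) (by decide) (by simp)
  have h : LTest (fun k : GolayPt => if k = none then (-4 : ℤ) else if k = some 1 then -4 else 0) ∧
      sqNorm (fun k : GolayPt => if k = none then (-4 : ℤ) else if k = some 1 then -4 else 0) = 32 ∧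
      dotInt (pv kPair) (fun k : GolayPt => if k = none then (-4 : ℤ) else if k = some 1 then -4 else 0) = -16 ∧
      pv 62062060636173731114942761092 =
        nearVec (-4) (some 1) - fun k : GolayPt => if k = none then (-4 : ℤ) else if k = some 1 then -4 else 0 := by
    decide +kernel
  refine ⟨x, hx, ⟨_, mem_iff.2 (isL_of_test h.1)⟩,
    ⟨h.2.1, by simp only [List.forall_mem_cons]; exact ⟨h.2.2.1, by simp⟩⟩, Subtype.ext ?_⟩
  rw [AddSubgroup.coe_sub, hxv]
  exact h.2.2.2

theorem fix_all_trivial (h : NormIn N [pairElt])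
    (hB : ∀ n ∈ N, n ∈ fixGroup [twentyPt, pairElt] → PermOf n 1) {g : ↥Co0} (hg : g ∈ N)
    (hfix : ∀ x ∈ DS [(pairElt, (-16 : ℤ))], g • x = x) : g = 1 := by
  obtain ⟨x, hx, y, hy, hz⟩ := z_diff
  have hgz : g • twentyPt = twentyPt := by rw [hz, smul_sub', hfix x hx, hfix y hy]
  have hgK : g ∈ fixGroup [twentyPt, pairElt] := mem_fixGroup.2 fun v hv => by
    simp only [List.mem_cons, List.not_mem_nil, or_false] at hv
    rcases hv with rfl | rfl
    · exact hgz
    · exact mem_fixGroup.1 (h.le hg) _ (List.mem_singleton_self _)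
  obtain ⟨π, w, hw, -, w1, w2, rfl, hp⟩ := orth_shape hgK
  obtain rfl : π = 1 := Subtype.ext (hp.eq (hB _ hg hgK))
  have hw0 : w = 0 := by
    funext j
    by_contra hne
    have hj1 : j ≠ none := fun e => hne (e ▸ w1)
    have hj2 : j ≠ some 0 := fun e => hne (e ▸ w2)
    obtain ⟨x, hx, hxv⟩ := nearVec_mem (s := 4) hj1 hj2 (by simp)
    have e := congrArg (fun v : ↥leechLattice => (v : Vec) j) (hfix x hx)
    simp only [permHom_apply, mono_apply, hxv] at e
    rw [if_pos (show w j ≠ 0 from hne), show ((1 : ↥M24) : Equiv.Perm GolayPt).symm j = j from rfl] at e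
    simp [nearVec, hj2] at e
  subst hw0
  rw [fl_zero, one_mul, map_one]

theorem block_pairs (h : NormIn N [pairElt]) (h2 : (MulAction.orbit ↥N nearPt).ncard = 2) {g : ↥Co0}
    (hg : g ∈ N) {x : ↥leechLattice} (hx : x ∈ DS [(pairElt, (-16 : ℤ))]) :
    g • x = x ∨ g • x = -pairElt - x := by
  have hr : ∀ y ∈ MulAction.orbit ↥N nearPt, y = nearPt ∨ y = -pairElt - nearPt := by
    intro y hy
    by_cases hyr : y = nearPt
    · exact Or.inl hyr
    right
    have hyS := orbit_subset_DS h (ks := [(pairElt, (-16 : ℤ))]) (by simp) nearPt_mem hy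
    have hk := (near_values hyS).resolve_left hyr
    obtain ⟨hn, ht⟩ := near_subs _ hk
    set k := dotInt (nearPt : Vec) (y : Vec)
    have hy' : y ∈ DS [(pairElt, -16), (nearPt, k)] :=
      ⟨hyS.1, by simp only [List.forall_mem_cons]; exact ⟨hyS.2 _ List.mem_cons_self, rfl, by simp⟩⟩
    have hsub : DS [(pairElt, -16), (nearPt, k)] ⊆ MulAction.orbit ↥N nearPt \ {nearPt} := by
      intro u hu
      obtain ⟨c, rfl, hcf⟩ := ht y hy' u hu
      refine ⟨?_, fun e => hyr ?_⟩
      · rw [← hcf nearPt (by simp), orbit_conj h (mem_fixGroup.2 fun v hv => hcf v (by simp at hv ⊢; simp [hv]))]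
        exact ⟨y, hy, rfl⟩
      · have e' : c • y = c • nearPt := (hcf nearPt (by simp)).symm ▸ (Set.mem_singleton_iff.1 e)
        exact MulAction.injective c e'
    have hfin : (MulAction.orbit ↥N nearPt).Finite := Set.finite_of_ncard_ne_zero (by omega)
    have hle := Set.ncard_le_ncard hsub hfin.sdiff
    rw [Set.ncard_sdiff_singleton_of_mem (MulAction.mem_orbit_self nearPt), h2, hn] at hle
    have hk16 : k = -16 := by
      by_contra hne
      rw [if_neg hne] at hle
      split_ifs at hle <;> omega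
    rw [hk16, near_partner.2] at hy'
    exact Set.mem_singleton_iff.1 hy'
  obtain ⟨c, hc, hcf⟩ := near_set.2.1 nearPt nearPt_mem x hx
  have hcp : c • pairElt = pairElt := hcf _ (List.mem_singleton_self _)
  have hm : g • x ∈ MulAction.orbit ↥N x := ⟨⟨g, hg⟩, rfl⟩
  rw [← hc, orbit_conj h (mem_fixGroup.2 hcf)] at hm
  obtain ⟨y, hy, e⟩ := hm
  rw [hc] at e
  rw [← e, ← hc]
  rcases hr y hy with rfl | rfl
  · exact Or.inl rfl
  · exact Or.inr (by show c • (-pairElt - nearPt) = _; rw [smul_sub', smul_neg', hcp])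

/-- Points meeting every member of the 4600 in an inner product other than 8. -/
def hubs : List ℕ :=
  [31732378557810347492040542374, 27729695726786331887240051063, 37630958715302882219474385301,
    32351500283620977963495229542, 27069622194823609220169561975, 32312823511974019510162589862,
    27691161216420658568674900343, 32312662951369484555629659814]

theorem hubs_spec : ∀ H ∈ hubs, LTest (pv H) ∧ sqNorm (pv H) = 32 ∧ dotInt (pv kPair) (pv H) = -16 ∧
    dotInt (pv 42255020007607646716556773572) (pv H) ≠ 8 := by decide +kernel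

theorem hubs_cover : (coTwoNearTree.entries.all fun e =>
    hubs.any fun H => decide (dotInt (pv H) (pv e.1) ≠ 8)) = true :=
  DotFast.all_dot_ne (by decide +kernel)

theorem no_pairs (h : NormIn N [pairElt]) : (MulAction.orbit ↥N nearPt).ncard ≠ 2 := by
  intro h2
  obtain ⟨g, hg, hgr⟩ : ∃ g ∈ N, g • nearPt ≠ nearPt := by
    by_contra hcon
    push Not at hcon
    have : MulAction.orbit ↥N nearPt = {nearPt} := Set.eq_singleton_iff_unique_mem.2
      ⟨MulAction.mem_orbit_self _, by rintro _ ⟨n, rfl⟩; exact hcon n.1 n.2⟩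
    rw [this, Set.ncard_singleton] at h2
    omega
  have hgp : g • pairElt = pairElt := mem_fixGroup.1 (h.le hg) _ (List.mem_singleton_self _)
  have step : ∀ x ∈ DS [(pairElt, (-16 : ℤ))], ∀ y ∈ DS [(pairElt, (-16 : ℤ))], dotInt (x : Vec) (y : Vec) ≠ 8 →
      g • y = y → g • x = x := by
    intro x hx y hy hd hgy
    refine (block_pairs h h2 hg hx).resolve_right fun e => hd ?_
    have := dot_smul' g x y
    rw [hgy, e, AddSubgroup.coe_sub, AddSubgroup.coe_neg, sub_eq_add_neg, dot_add_left', dot_comm'' (-(pairElt : Vec)),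
      dot_comm'' (-(x : Vec)), dot_neg_right, dot_neg_right, dot_comm'' (y : Vec) (pairElt : Vec),
      hy.2 _ List.mem_cons_self, dot_comm'' (y : Vec) (x : Vec)] at this
    omega
  have hswap : ∀ x ∈ DS [(pairElt, (-16 : ℤ))], g • x = -pairElt - x := by
    intro x hx
    refine (block_pairs h h2 hg hx).resolve_left fun hgx => hgr ?_
    obtain ⟨e, he, ev⟩ := near_set.2.2 x hx
    obtain ⟨H, hH, hd⟩ := List.any_eq_true.1 (List.all_eq_true.1 hubs_cover e he)
    obtain ⟨a, b, c, d⟩ := hubs_spec H hH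
    have hm : (⟨pv H, pv_mem a⟩ : ↥leechLattice) ∈ DS [(pairElt, (-16 : ℤ))] :=
      ⟨b, by simp only [List.forall_mem_cons]; exact ⟨c, by simp⟩⟩
    have h1 : g • (⟨pv H, pv_mem a⟩ : ↥leechLattice) = ⟨pv H, pv_mem a⟩ :=
      step _ hm x hx (by rw [ev]; exact of_decide_eq_true hd) hgx
    exact step nearPt nearPt_mem _ hm d h1
  have hgz : g • twentyPt = -twentyPt := by
    obtain ⟨x, hx, y, hy, hz⟩ := z_diff
    rw [hz, smul_sub', hswap x hx, hswap y hy]
    abel
  let J : Finset GolayPt := Finset.univ.filter fun j => j ≠ none ∧ j ≠ some 0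
  have hgJ : g • (∑ j ∈ J, eightAt j) = -∑ j ∈ J, eightAt j := by
    show linOf g _ = _
    rw [map_sum, ← Finset.sum_neg_distrib]
    refine Finset.sum_congr rfl fun j hj => ?_
    simp only [J, Finset.mem_filter, Finset.mem_univ, true_and] at hj
    obtain ⟨x, hx, hxv⟩ := nearVec_mem hj.1 hj.2 (s := 4) (by simp)
    obtain ⟨y, hy, hyv⟩ := nearVec_mem hj.1 hj.2 (s := -4) (by simp)
    have he : eightAt j = x - y := Subtype.ext (by
      rw [AddSubgroup.coe_sub, hxv, hyv]
      funext k
      simp only [eightAt, eightVec, nearVec, Pi.sub_apply]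
      rcases eq_or_ne k j with rfl | hk
      · simp [hj.2]
      · simp [hk])
    show g • eightAt j = _
    rw [he, smul_sub', hswap x hx, hswap y hy]
    abel
  have hid : (8 : ℕ) • omegaElt + (2 : ℕ) • pairElt + (4 : ℕ) • twentyPt = ∑ j ∈ J, eightAt j := Subtype.ext (by
    rw [AddSubgroup.val_finsetSum]
    show (8 : ℕ) • pv 27729856879992518157740382617 + (2 : ℕ) • pv kPair +
      (4 : ℕ) • pv 62062060636173731114942761092 = _
    decide +kernel)
  have he : g • ((8 : ℕ) • omegaElt + (2 : ℕ) • pairElt + (4 : ℕ) • twentyPt) =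
      (8 : ℕ) • (g • omegaElt) + (2 : ℕ) • pairElt + (4 : ℕ) • (-twentyPt) := by
    show linOf g _ = _
    rw [map_add, map_add, map_nsmul, map_nsmul, map_nsmul]
    show _ + (2 : ℕ) • (g • pairElt) + (4 : ℕ) • (g • twentyPt) = _
    rw [hgp, hgz]
    rfl
  rw [hid, hgJ, ← hid] at he
  set u : ↥leechLattice := g • omegaElt + omegaElt with hu
  have hcoord : ∀ i, 2 * (u : Vec) i = -(pv kPair i) := by
    intro i
    have e := congrArg (fun v : ↥leechLattice => (v : Vec) i) he
    simp only [AddSubgroup.coe_neg, AddSubgroup.coe_add, AddSubmonoidClass.coe_nsmul, Pi.add_apply, Pi.neg_apply,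
      Pi.smul_apply, nsmul_eq_mul] at e
    change -(8 * (omegaElt : Vec) i + 2 * pv kPair i + 4 * (twentyPt : Vec) i) =
      8 * ((g • omegaElt : ↥leechLattice) : Vec) i + 2 * pv kPair i + 4 * -(twentyPt : Vec) i at e
    show 2 * (((g • omegaElt : ↥leechLattice) : Vec) i + (omegaElt : Vec) i) = _
    linarith
  have hd2 : 2 * dotInt (omegaElt : Vec) (u : Vec) = 8 := by
    rw [dotInt, Finset.mul_sum, Finset.sum_congr rfl fun i _ =>
      show 2 * ((omegaElt : Vec) i * (u : Vec) i) = (omegaElt : Vec) i * -(pv kPair i) by rw [← hcoord i]; ring]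
    show ∑ i, pv 27729856879992518157740382617 i * -(pv kPair i) = 8
    decide +kernel
  have h8 := ThreeTrans.Leech.UPerp.eight_dvd_dot (mem_iff.1 omegaElt.2) (mem_iff.1 u.2)
  omega

theorem coTwo_normIn (h : NormIn N [pairElt]) : N = ⊥ ∨ N = fixGroup [pairElt] := by
  by_cases hB : ∀ n ∈ N, n ∈ fixGroup [twentyPt, pairElt] → PermOf n 1
  swap
  · right
    push Not at hB
    obtain ⟨n, hn, hnK, hn1⟩ := hB
    obtain ⟨π, w, hw, hπ, -, -, -, hp⟩ := orth_shape hnK
    have hle := orth_le_of_perm h hn hnK hp (fun e => hn1 (e ▸ hp))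
    obtain ⟨p, e1, e2⟩ := exists_some_eq (x := evalSeq coTwoOrthGens [3, 1, 0, 3] 62062060636173731114942761092)
      (y := evalSeq coTwoOrthGens [3, 0, 0, 1, 1, 0] 62062060636173731114942761092) (by decide +kernel)
    exact top_of_cert coTwoOrth_ok h rfl (r := twentyPt) rfl (keys_of orth_set.2.2 (by simp) z_mem) hle 3 rfl
      (by decide +kernel) [3, 1, 0, 3] [3, 0, 0, 1, 1, 0] 1 (by decide) (by decide) (by decide) e1 e2
  left
  have hfin := DS_finite (ks := [(pairElt, (-16 : ℤ))]) List.mem_cons_self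
  obtain ⟨K, hK, e⟩ := orbit_sum h (by simp) hfin nearPt_mem {-16, 0, 16, 8} (by decide)
    (fun k => if k = -16 then 1 else if k = 8 then 2816 else 891) (fun x hx => near_values hx) near_subs
  have hdvd := orbit_dvd h (by simp) hfin near_set.2.1 nearPt_mem
  rw [near_set.1, e] at hdvd
  have key : ∀ K ∈ ({-16, 0, 16, 8} : Finset ℤ).powerset,
      1 + ∑ k ∈ K, (if k = -16 then 1 else if k = 8 then 2816 else 891) ∣ 4600 →
      1 + ∑ k ∈ K, (if k = -16 then 1 else if k = 8 then 2816 else 891) = 1 ∨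
      1 + ∑ k ∈ K, (if k = -16 then 1 else if k = 8 then 2816 else 891) = 2 ∨
      1 + ∑ k ∈ K, (if k = -16 then 1 else if k = 8 then 2816 else 891) = 4600 := by decide +kernel
  have hm := key K hK hdvd
  rw [← e] at hm
  rcases hm with h1 | h2 | hall
  · exact (Subgroup.eq_bot_iff_forall _).2 fun g hg =>
      fix_all_trivial h hB hg fun x hx => fix_of_orbit_one h nearPt_mem near_set.2.1 h1 hx hg
  · exact absurd h2 (no_pairs h)
  · exact absurd (hall ▸ orbit_le_card N nearPt) (no_full_block h hB)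

theorem simple_coTwo : IsSimpleGroup ↥(fixGroup [pairElt]) :=
  simple_of_normIn (by rw [card_fix_pair]; norm_num) fun M hM => coTwo_normIn hM

end CfsgLib.Sporadic.Conway
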