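import Cfsg.Agent.Lib.Sporadic.LeechCount
import Cfsg.Prelude.Def_SporadicCombinatorics

/-!
# The classes of the lattice modulo twice the lattice

The vectors of squared length at most 64 meet the `2 ^ 24` classes at least as often as there
are classes, so each class is met, and each class of the longest kind holds a whole frame.
-/

set_option autoImplicit false

namespace CfsgLib.Sporadic.Lattice

open Cfsg Finset CfsgLib.ThreeTrans.Leech

theorem finite_norm {n : ℤ} : {x : GolayPt → ℤ | x ∈ leechLattice ∧ sqNorm x = n}.Finite := by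
  refine ((Fintype.piFinset fun _ : GolayPt => Finset.Icc (-|n|) |n|).finite_toSet).subset ?_
  rintro x ⟨-, hx⟩
  rw [Finset.mem_coe, Fintype.mem_piFinset]
  intro i
  have hi : x i ^ 2 ≤ |n| := le_trans
    (Finset.single_le_sum (f := fun j => x j ^ 2) (fun j _ => sq_nonneg _) (Finset.mem_univ i))
    (le_trans hx.le (le_abs_self n))
  rw [Finset.mem_Icc]
  constructor <;> nlinarith [sq_nonneg (x i - 1), sq_nonneg (x i + 1)]

/-- The vectors of the lattice of a given squared length. -/
noncomputable def shell (n : ℤ) : Finset (GolayPt → ℤ) := (finite_norm (n := n)).toFinset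

theorem mem_shell {n : ℤ} {x : GolayPt → ℤ} : x ∈ shell n ↔ x ∈ leechLattice ∧ sqNorm x = n :=
  Set.Finite.mem_toFinset _

theorem card_shell (n : ℤ) : (shell n).card = {x : GolayPt → ℤ | x ∈ leechLattice ∧ sqNorm x = n}.ncard :=
  (Set.ncard_eq_toFinset_card _ _).symm

theorem neg_mem_shell {n : ℤ} {x : GolayPt → ℤ} (hx : x ∈ shell n) : -x ∈ shell n := by
  rw [mem_shell] at hx ⊢
  exact ⟨neg_mem hx.1, by rw [← hx.2]; simp [sqNorm]⟩

/-- Doubling. -/
def doubleHom : (GolayPt → ℤ) →+ (GolayPt → ℤ) := nsmulAddMonoidHom 2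

/-- Reduction modulo two. -/
def redHom : (GolayPt → ℤ) →+ (GolayPt → ZMod 2) where
  toFun := red
  map_zero' := red_zero
  map_add' := red_add

theorem index_double : doubleHom.range.index = 2 ^ 24 := by
  have h : doubleHom.range = redHom.ker := by
    ext x
    constructor
    · rintro ⟨y, rfl⟩
      rw [AddMonoidHom.mem_ker]
      funext i
      show (((2 : ℕ) • y) i : ZMod 2) = 0
      rw [Pi.smul_apply, nsmul_eq_mul, Int.cast_mul]
      exact mul_eq_zero_of_left (by decide) _
    · intro hx
      refine ⟨fun i => x i / 2, funext fun i => ?_⟩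
      have := congrFun (AddMonoidHom.mem_ker.1 hx) i
      simp only [redHom, AddMonoidHom.coe_mk, ZeroHom.coe_mk, red, Pi.zero_apply,
        ZMod.intCast_zmod_eq_zero_iff_dvd] at this
      show (2 : ℕ) • (x i / 2) = x i
      rw [nsmul_eq_mul]; push_cast
      exact Int.mul_ediv_cancel' this
  have hsurj : Function.Surjective redHom := fun f =>
    ⟨fun i => ((f i).val : ℤ), funext fun i => by
      show (((f i).val : ℤ) : ZMod 2) = f i
      rw [Int.cast_natCast, ZMod.natCast_zmod_val]⟩
  rw [h, AddSubgroup.index_ker, AddMonoidHom.range_eq_top.2 hsurj, AddSubgroup.card_top]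
  simp [GolayPt]

/-- The classes modulo twice the lattice. -/
abbrev Classes : Type := ↥leechLattice ⧸ (leechLattice.map doubleHom).addSubgroupOf leechLattice

noncomputable instance instDecEqClasses : DecidableEq Classes := Classical.decEq _

theorem card_classes : Nat.card Classes = 2 ^ 24 := by
  have hle : leechLattice.map doubleHom ≤ leechLattice := by
    rintro _ ⟨x, hx, rfl⟩; exact nsmul_mem hx 2
  have hker : doubleHom.ker = ⊥ := by
    rw [AddMonoidHom.ker_eq_bot_iff]
    exact fun x y h => funext fun i => by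
      have := congrFun h i
      simp [doubleHom] at this
      omega
  have h := AddSubgroup.relIndex_mul_index hle
  rw [AddSubgroup.index_map, hker, sup_bot_eq, index_double, index_lattice] at h
  show ((leechLattice.map doubleHom).addSubgroupOf leechLattice).index = _
  rw [← AddSubgroup.relIndex]
  exact Nat.eq_of_mul_eq_mul_right (show 0 < 2 ^ 36 by norm_num) (h.trans (by norm_num))

open Classical in
/-- The class of a vector (zero off the lattice). -/
noncomputable def classOf (x : GolayPt → ℤ) : Classes :=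
  if h : x ∈ leechLattice then QuotientAddGroup.mk (⟨x, h⟩ : leechLattice) else 0

theorem classOf_eq_iff {x y : GolayPt → ℤ} (hx : x ∈ leechLattice) (hy : y ∈ leechLattice) :
    classOf x = classOf y ↔ ∃ z ∈ leechLattice, x - y = 2 • z := by
  rw [classOf, classOf, dif_pos hx, dif_pos hy, QuotientAddGroup.eq_iff_sub_mem,
    AddSubgroup.mem_addSubgroupOf, AddSubgroup.coe_sub, AddSubgroup.mem_map]
  exact ⟨fun ⟨z, hz, e⟩ => ⟨z, hz, e.symm⟩, fun ⟨z, hz, e⟩ => ⟨z, hz, e.symm⟩⟩

theorem classOf_ne_zero {x : GolayPt → ℤ} (hx : x ∈ leechLattice) (h0 : x ≠ 0) (hn : sqNorm x ≤ 64) :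
    classOf x ≠ classOf 0 := by
  rw [Ne, classOf_eq_iff hx (zero_mem _)]
  rintro ⟨z, hz, e⟩
  rw [sub_zero] at e
  subst e
  have hz0 : z ≠ 0 := fun h => h0 (by rw [h, smul_zero])
  have h1 := norm_ge (mem_iff.1 hz) hz0
  rw [norm_smul_two] at hn
  omega

theorem dotInt_comm (x y : GolayPt → ℤ) : dotInt x y = dotInt y x :=
  Finset.sum_congr rfl fun i _ => mul_comm _ _

/-- Two vectors of squared length 64 in one class are equal, opposite or orthogonal. -/
theorem frame_orth {x y z : GolayPt → ℤ} (hy : y ∈ leechLattice) (hz : z ∈ leechLattice)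
    (hxn : sqNorm x = 64) (hyn : sqNorm y = 64) (e : x - y = 2 • z) :
    y = x ∨ y = -x ∨ dotInt x y = 0 := by
  by_cases h1 : z = 0
  · left; rw [h1, smul_zero, sub_eq_zero] at e; exact e.symm
  by_cases h2 : z + y = 0
  · right; left
    rw [eq_neg_of_add_eq_zero_left h2, two_nsmul] at e
    have : x = -y := by rw [← sub_add_cancel x y, e]; abel
    rw [this, neg_neg]
  right; right
  have hd : ∀ u v : GolayPt → ℤ, sqNorm (u - v) = sqNorm u + sqNorm v - 2 * dotInt u v := fun u v => by
    simp only [sqNorm, dotInt, Finset.mul_sum, ← Finset.sum_add_distrib, ← Finset.sum_sub_distrib]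
    exact Finset.sum_congr rfl fun i _ => by rw [Pi.sub_apply]; ring
  have hadd : x + y = 2 • (z + y) := by rw [nsmul_add, ← e, two_nsmul]; abel
  have q1 := hd x y
  rw [e, norm_smul_two, hxn, hyn] at q1
  have q2 := hd x (-y)
  rw [sub_neg_eq_add, hadd, norm_smul_two, hxn, (by simp [sqNorm] : sqNorm (-y) = sqNorm y), hyn,
    (by simp [dotInt, Finset.sum_neg_distrib] : dotInt x (-y) = -dotInt x y)] at q2
  have := norm_ge (mem_iff.1 hz) h1
  have := norm_ge (isL_add (mem_iff.1 hz) (mem_iff.1 hy)) h2
  omega

/-- At most 48 vectors form an orthogonal frame with their negatives. -/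
theorem card_orth_le (F : Finset (GolayPt → ℤ)) (hn : ∀ x ∈ F, sqNorm x = 64)
    (ho : ∀ x ∈ F, ∀ y ∈ F, y = x ∨ y = -x ∨ dotInt x y = 0) : F.card ≤ 48 := by
  classical
  let g : (GolayPt → ℤ) → Finset (GolayPt → ℤ) := fun v => {v, -v}
  have h2 := Finset.card_le_mul_card_image (f := g) F 2 fun S hS => by
    refine (Finset.card_le_card (t := S) fun v hv => ?_).trans ?_
    · rw [← (Finset.mem_filter.1 hv).2]; exact Finset.mem_insert_self _ _
    · obtain ⟨v, -, rfl⟩ := Finset.mem_image.1 hS
      exact Finset.card_insert_le _ _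
  suffices (F.image g).card ≤ 24 by omega
  have hex : ∀ S : ↥(F.image g), ∃ v ∈ F, g v = S.1 := fun S => Finset.mem_image.1 S.2
  choose v hv hgv using hex
  let w : ↥(F.image g) → GolayPt → ℚ := fun S i => (v S i : ℚ)
  have hli : LinearIndependent ℚ w := by
    rw [Fintype.linearIndependent_iff]
    intro c hc S
    have hdot : ∀ S', (∑ i, w S' i * w S i) = if S' = S then 64 else 0 := by
      intro S'
      have hcast : (∑ i, w S' i * w S i) = ((dotInt (v S') (v S) : ℤ) : ℚ) := by
        simp [w, dotInt]
      rw [hcast]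
      split
      · rename_i h
        subst h
        have : dotInt (v S') (v S') = 64 := by
          rw [← hn _ (hv S')]
          exact Finset.sum_congr rfl fun i _ => by ring
        rw [this]; norm_num
      · rename_i h
        rcases ho _ (hv S') _ (hv S) with e | e | e
        · exact absurd (Subtype.ext (by rw [← hgv S', ← hgv S, e])) h
        · exact absurd (Subtype.ext (by rw [← hgv S', ← hgv S, e]; simp [g, Finset.pair_comm])) h
        · rw [e]; norm_num
    have hsum : ∑ S', c S' * (∑ i, w S' i * w S i) = 0 := by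
      simp only [Finset.mul_sum]
      rw [Finset.sum_comm]
      refine Finset.sum_eq_zero fun i _ => ?_
      have := congrFun hc i
      simp only [Finset.sum_apply, Pi.smul_apply, smul_eq_mul, Pi.zero_apply] at this
      simp only [← mul_assoc, ← Finset.sum_mul, this, zero_mul]
    rw [Finset.sum_congr rfl fun S' _ => by rw [hdot S']] at hsum
    simp at hsum
    exact hsum
  have := hli.fintype_card_le_finrank
  rw [Fintype.card_coe, Module.finrank_fintype_fun_eq_card] at this
  exact this

theorem fibre_short {n : ℤ} (hn : n = 32 ∨ n = 48) (q : Classes) :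
    ((shell n).filter fun x => classOf x = q).card ≤ 2 := by
  by_contra h
  obtain ⟨x, hx⟩ := Finset.card_pos.1 (by omega : 0 < ((shell n).filter fun x => classOf x = q).card)
  obtain ⟨hxs, hxq⟩ := Finset.mem_filter.1 hx
  refine h (le_trans (Finset.card_le_card (t := {x, -x}) fun y hy => ?_) (Finset.card_insert_le _ _))
  obtain ⟨hys, hyq⟩ := Finset.mem_filter.1 hy
  rw [mem_shell] at hxs hys
  obtain ⟨z, hz, e⟩ := (classOf_eq_iff hxs.1 hys.1).1 (hxq.trans hyq.symm)
  rcases (short_congr (mem_iff.1 hys.1) (mem_iff.1 hz) (by omega) (by omega) e).2 (by omega) with rfl | rfl <;>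
    simp

theorem fibre_long (q : Classes) : ((shell 64).filter fun x => classOf x = q).card ≤ 48 := by
  refine card_orth_le _ (fun x hx => (mem_shell.1 (Finset.mem_filter.1 hx).1).2) fun x hx y hy => ?_
  obtain ⟨hxs, hxq⟩ := Finset.mem_filter.1 hx
  obtain ⟨hys, hyq⟩ := Finset.mem_filter.1 hy
  rw [mem_shell] at hxs hys
  obtain ⟨z, hz, e⟩ := (classOf_eq_iff hxs.1 hys.1).1 (hxq.trans hyq.symm)
  exact frame_orth hys.1 hz hxs.2 hys.2 e

/-- The counting: every class is met, and the frames are full. -/
theorem classes_exact :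
    (∀ q : Classes, ∃ x ∈ leechLattice, sqNorm x ≤ 64 ∧ classOf x = q) ∧
      ∀ x ∈ shell 64, ((shell 64).filter fun y => classOf y = classOf x).card = 48 := by
  classical
  haveI : Finite Classes := Nat.finite_of_card_ne_zero (by rw [card_classes]; norm_num)
  haveI := Fintype.ofFinite Classes
  have h32 := Finset.card_le_mul_card_image (f := classOf) (shell 32) 2 fun q _ => fibre_short (Or.inl rfl) q
  have h48 := Finset.card_le_mul_card_image (f := classOf) (shell 48) 2 fun q _ => fibre_short (Or.inr rfl) q
  have h64 := Finset.card_le_mul_card_image (f := classOf) (shell 64) 48 fun q _ => fibre_long q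
  rw [card_shell, count32] at h32
  rw [card_shell, count48] at h48
  rw [card_shell, count64] at h64
  have hsame : ∀ a b : ℤ, a ≤ 64 → b ≤ 64 → ∀ x ∈ shell a, ∀ y ∈ shell b, classOf x = classOf y → a = b := by
    intro a b ha hb x hx y hy e
    rw [mem_shell] at hx hy
    obtain ⟨z, hz, e'⟩ := (classOf_eq_iff hx.1 hy.1).1 e
    rw [← hx.2, ← hy.2]
    exact (short_congr (mem_iff.1 hy.1) (mem_iff.1 hz) (by omega) (by omega) e').1
  have hdis : ∀ a b : ℤ, a ≤ 64 → b ≤ 64 → a ≠ b →
      Disjoint ((shell a).image classOf) ((shell b).image classOf) := by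
    intro a b ha hb hab
    rw [Finset.disjoint_left]
    intro q hq hq'
    obtain ⟨x, hx, rfl⟩ := Finset.mem_image.1 hq
    obtain ⟨y, hy, e⟩ := Finset.mem_image.1 hq'
    exact hab (hsame a b ha hb x hx y hy e.symm)
  have hzero : ∀ a : ℤ, a ≤ 64 → a ≠ 0 → classOf 0 ∉ (shell a).image classOf := by
    intro a ha ha0 hq
    obtain ⟨x, hx, e⟩ := Finset.mem_image.1 hq
    rw [mem_shell] at hx
    refine classOf_ne_zero hx.1 (fun h => ha0 ?_) (by omega) e
    rw [← hx.2, h]; simp [sqNorm]
  let U : Finset Classes := insert (classOf 0)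
    ((shell 32).image classOf ∪ (shell 48).image classOf ∪ (shell 64).image classOf)
  have hU : U.card = 1 + ((shell 32).image classOf).card + ((shell 48).image classOf).card +
      ((shell 64).image classOf).card := by
    rw [Finset.card_insert_of_notMem, Finset.card_union_of_disjoint, Finset.card_union_of_disjoint]
    · ring
    · exact hdis 32 48 (by norm_num) (by norm_num) (by norm_num)
    · exact Finset.disjoint_union_left.2
        ⟨hdis 32 64 (by norm_num) (by norm_num) (by norm_num), hdis 48 64 (by norm_num) (by norm_num) (by norm_num)⟩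
    · simp only [Finset.mem_union, not_or]
      exact ⟨⟨hzero 32 (by norm_num) (by norm_num), hzero 48 (by norm_num) (by norm_num)⟩,
        hzero 64 (by norm_num) (by norm_num)⟩
  have hle := U.card_le_univ
  rw [← Nat.card_eq_fintype_card, card_classes] at hle
  have hall : U = Finset.univ := Finset.eq_univ_of_card _ (by
    rw [← Nat.card_eq_fintype_card, card_classes]; omega)
  refine ⟨fun q => ?_, fun x hx => ?_⟩
  · have hq : q ∈ U := hall ▸ Finset.mem_univ q
    simp only [U, Finset.mem_insert, Finset.mem_union, Finset.mem_image, mem_shell] at hq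
    rcases hq with rfl | (⟨x, hx, e⟩ | ⟨x, hx, e⟩) | ⟨x, hx, e⟩
    · exact ⟨0, zero_mem _, by simp [sqNorm], rfl⟩
    all_goals exact ⟨x, hx.1, by omega, e⟩
  · by_contra hne
    have hlt := lt_of_le_of_ne (fibre_long (classOf x)) hne
    have hsum : (shell 64).card = ∑ q ∈ (shell 64).image classOf, ((shell 64).filter fun y => classOf y = q).card :=
      Finset.card_eq_sum_card_image classOf _
    have hstrict : (shell 64).card < ((shell 64).image classOf).card * 48 := by
      rw [hsum, ← smul_eq_mul, ← Finset.sum_const]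
      exact Finset.sum_lt_sum (fun q _ => fibre_long q) ⟨classOf x, Finset.mem_image_of_mem _ hx, hlt⟩
    rw [card_shell, count64] at hstrict
    omega

theorem cross_card {x : GolayPt → ℤ} (hx : x ∈ leechLattice) (hxn : sqNorm x = 64) :
    (cross x).ncard = 48 := by
  classical
  have hxs : x ∈ shell 64 := mem_shell.2 ⟨hx, hxn⟩
  rw [← classes_exact.2 x hxs, ← Set.ncard_coe_finset]
  congr 1
  ext y
  simp only [cross, Set.mem_ofPred_eq, Finset.coe_filter, mem_shell]
  constructor
  · rintro ⟨hy, hyn, h⟩
    exact ⟨⟨hy, hyn.trans hxn⟩, ((classOf_eq_iff hx hy).2 h).symm⟩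
  · rintro ⟨⟨hy, hyn⟩, e⟩
    exact ⟨hy, hyn.trans hxn.symm, (classOf_eq_iff hx hy).1 e.symm⟩

theorem exists_short_rep {x : GolayPt → ℤ} (hx : x ∈ leechLattice) :
    ∃ y ∈ leechLattice, sqNorm y ≤ 64 ∧ ∃ z ∈ leechLattice, x - y = 2 • z := by
  obtain ⟨y, hy, hyn, e⟩ := classes_exact.1 (classOf x)
  exact ⟨y, hy, hyn, (classOf_eq_iff hx hy).1 e.symm⟩

end CfsgLib.Sporadic.Lattice
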