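import Cfsg.Agent.Lib.Sporadic.CoThreeOutPointStab
import Cfsg.Agent.Lib.Sporadic.ConwayTwoSimple
import Cfsg.Agent.Lib.Sporadic.ConwayMidOrth
import Cfsg.Agent.Lib.Sporadic.LeechClasses

/-!
# A copy of M23 fixing a minimal vector fixes a second vector

An element of order 11 fixes one of the 4600 vectors with inner product -16, and the orbit of that vector has a
sum with nonzero projection modulo 11.  Reducing fixed vectors modulo 2 gives a fixed vector of squared length
48 and inner product 8.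
-/

set_option autoImplicit false

namespace CfsgLib.Sporadic.CoTwoOut

open Cfsg MulAction CfsgLib.Sporadic CfsgLib.Sporadic.Conway CfsgLib.ThreeTrans.Leech CfsgLib.Sporadic.Lattice
open CfsgLib.Sporadic.CoThreeOut (M23pt card_M23pt index_ok others)
open scoped Pointwise

attribute [local irreducible] OTree.entries coTwoNearTree coTwoOrthTree

set_option maxHeartbeats 1000000

theorem dot_self (x : Vec) : dotInt x x = sqNorm x := Finset.sum_congr rfl fun i _ => (sq _).symm

theorem dot_symm (x y : Vec) : dotInt x y = dotInt y x := Finset.sum_congr rfl fun i _ => mul_comm _ _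

theorem eight_dvd (x y : ↥leechLattice) : (8 : ℤ) ∣ dotInt (x : Vec) (y : Vec) :=
  ThreeTrans.Leech.UPerp.eight_dvd_dot (mem_iff.1 x.2) (mem_iff.1 y.2)

theorem norm_cases (x : ↥leechLattice) (h : x ≠ 0) : (16 : ℤ) ∣ sqNorm (x : Vec) ∧ 32 ≤ sqNorm (x : Vec) :=
  ⟨norm_dvd (mem_iff.1 x.2), norm_ge (mem_iff.1 x.2) fun e => h (Subtype.ext e)⟩

theorem norm_nonneg (x : Vec) : 0 ≤ sqNorm x := Finset.sum_nonneg fun _ _ => sq_nonneg _

/-- Either zero or of squared length at least 32. -/
theorem norm_gap (x : ↥leechLattice) : x = 0 ∨ 32 ≤ sqNorm (x : Vec) :=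
  (em (x = 0)).imp id fun h => (norm_cases x h).2

theorem sq_add_dot (x y : Vec) : sqNorm (x + y) = sqNorm x + sqNorm y + 2 * dotInt x y := by
  simp only [sqNorm, dotInt, Finset.mul_sum, ← Finset.sum_add_distrib, Pi.add_apply]
  exact Finset.sum_congr rfl fun i _ => by ring

theorem smul_add' (g : ↥Co0) (v w : ↥leechLattice) : g • (v + w) = g • v + g • w := map_add (linOf g) v w

variable (ψ : ↥M23pt →* ↥Co0)

/-- Fixed by the whole copy. -/
def Fixed (x : ↥leechLattice) : Prop := ∀ u, ψ u • x = x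

variable {ψ}

theorem Fixed.add {x y : ↥leechLattice} (hx : Fixed ψ x) (hy : Fixed ψ y) : Fixed ψ (x + y) :=
  fun u => by rw [smul_add', hx u, hy u]

theorem Fixed.sub {x y : ↥leechLattice} (hx : Fixed ψ x) (hy : Fixed ψ y) : Fixed ψ (x - y) :=
  fun u => by rw [smul_sub', hx u, hy u]

theorem Fixed.neg {x : ↥leechLattice} (hx : Fixed ψ x) : Fixed ψ (-x) :=
  fun u => by rw [smul_neg', hx u]

theorem fixed_half {x : ↥leechLattice} {z : ↥leechLattice} (hx : Fixed ψ x) (e : x = (2 : ℕ) • z) :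
    Fixed ψ z := fun u => nsmul_lattice_inj two_ne_zero (by rw [← smul_nsmul', ← e, hx u])

/-- M23 has no proper subgroup of index below 23. -/
theorem index_small (H : Subgroup ↥M23pt) (h : H.index < 23) : H.index = 1 := by
  haveI := M23_isSimple (none : GolayPt)
  haveI : Finite ↥M23pt := Nat.finite_of_card_ne_zero (by rw [card_M23pt]; norm_num)
  rw [Subgroup.index_eq_one]
  by_contra hne
  have hbot : H.normalCore = ⊥ :=
    (Subgroup.normalCore_normal H).eq_bot_or_eq_top.resolve_right fun e =>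
      hne (top_le_iff.1 (e ▸ Subgroup.normalCore_le H))
  rw [Subgroup.normalCore_eq_ker, MonoidHom.ker_eq_bot_iff] at hbot
  haveI : Fintype (↥M23pt ⧸ H) := Fintype.ofFinite _
  have hd := Subgroup.card_dvd_of_injective _ hbot
  rw [card_M23pt, Nat.card_perm, ← Subgroup.index] at hd
  have h23 : 23 ∣ H.index.factorial := dvd_trans (by norm_num) hd
  rw [Nat.Prime.dvd_factorial (by norm_num)] at h23
  omega

/-- Short orbits have length 1 or 23. -/
theorem small_orbit {α : Type*} [MulAction ↥M23pt α] (a : α) (h : (orbit ↥M23pt a).Finite)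
    (hc : (orbit ↥M23pt a).ncard ≤ 48) :
    (∀ u : ↥M23pt, u • a = a) ∨ (orbit ↥M23pt a).ncard = 23 := by
  have hi := index_ok (stabilizer ↥M23pt a) (by rw [index_stabilizer]; omega)
  rcases hi with h1 | h23 | hot
  · exact Or.inl fun u => (Subgroup.index_eq_one.1 h1 ▸ Subgroup.mem_top u : u ∈ stabilizer ↥M23pt a)
  · exact Or.inr (by rw [← index_stabilizer, h23])
  · exfalso
    have : others.all (fun d => Nat.blt 48 d || Nat.beq d 11) = true := by decide +kernel
    have := List.all_eq_true.1 this _ hot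
    rw [Bool.or_eq_true, Nat.blt_eq, Nat.beq_eq] at this
    rcases this with h' | h'
    · rw [index_stabilizer] at h'; omega
    · have := index_small _ (by omega : (stabilizer ↥M23pt a).index < 23)
      omega

/-! ### excluded configurations -/

theorem not_dvd_stab {f : List ↥leechLattice} (hψ : Function.Injective ψ) (hf : ∀ v ∈ f, Fixed ψ v) :
    23 ∣ Nat.card ↥(fixGroup f) := by
  let ψ' : ↥M23pt →* ↥(fixGroup f) := ψ.codRestrict _ fun u => mem_fixGroup.2 fun v hv => hf v hv u
  have h : Function.Injective ψ' := fun a b e => hψ (congrArg Subtype.val e)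
  exact dvd_trans (by rw [card_M23pt]; norm_num) (Subgroup.card_dvd_of_injective ψ' h)

theorem no_pair_config {k : ℤ} {n : ℕ} (hT : Trans [pairElt] (DS [(pairElt, k)]))
    (hn : (DS [(pairElt, k)]).ncard = n) (hn23 : 23 ∣ n) {v x : ↥leechLattice}
    (hψ : Function.Injective ψ) (hv : sqNorm (v : Vec) = 32) (hxn : sqNorm (x : Vec) = 32)
    (hd : dotInt (v : Vec) (x : Vec) = k) (hfv : Fixed ψ v) (hfx : Fixed ψ x) : False := by
  obtain ⟨a, ha⟩ := to_pair hv
  have hax : a • x ∈ DS [(pairElt, k)] := ⟨(norm_smul' a x).trans hxn, by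
    simp only [List.forall_mem_cons]
    exact ⟨by rw [← ha, dot_smul']; exact hd, by simp⟩⟩
  have hc := card_fix (f := [pairElt]) (by simp) hax hT
  rw [card_fix_pair, hn] at hc
  have h23 : 23 ∣ Nat.card ↥(fixGroup [x, v]) := not_dvd_stab hψ (by simp [hfv, hfx])
  rw [← card_fix_map [x, v] a, List.map_cons, List.map_cons, List.map_nil, ha] at h23
  obtain ⟨j, rfl⟩ := hn23
  obtain ⟨m, hm⟩ := h23
  rw [hm] at hc
  have : 23 * 23 ∣ 42305421312000 := ⟨j * m, by rw [hc]; ring⟩
  norm_num at this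

theorem no_thirty_two (hψ : Function.Injective ψ) {v x : ↥leechLattice} (hv : sqNorm (v : Vec) = 32)
    (hxn : sqNorm (x : Vec) = 32) (h1 : x ≠ v) (h2 : x ≠ -v) (hfv : Fixed ψ v) (hfx : Fixed ψ x) : False := by
  obtain ⟨k, hk⟩ := eight_dvd v x
  have hle : ∀ y : ↥leechLattice, sqNorm (y : Vec) = 32 → y ≠ v → dotInt (v : Vec) (y : Vec) ≤ 16 := by
    intro y hy hne
    have := (norm_gap (v - y)).resolve_left fun e => hne (sub_eq_zero.1 e).symm
    rw [AddSubgroup.coe_sub, sq_sub_dot, hv, hy] at this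
    omega
  have hn' : sqNorm ((-x : ↥leechLattice) : Vec) = 32 := by
    rw [AddSubgroup.coe_neg, ← hxn]; simp [sqNorm]
  have hup := hle x hxn h1
  have hlo := hle (-x) hn' fun e => h2 (by rw [← e, neg_neg])
  rw [AddSubgroup.coe_neg, dot_neg_right] at hlo
  have hneg : ∀ y : ↥leechLattice, sqNorm (y : Vec) = 32 → Fixed ψ y → dotInt (v : Vec) (y : Vec) ≤ 0 →
      -16 ≤ dotInt (v : Vec) (y : Vec) → (8 : ℤ) ∣ dotInt (v : Vec) (y : Vec) → False := by
    intro y hy hfy h0 h16 h8
    obtain ⟨j, hj⟩ := h8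
    obtain rfl | rfl | rfl : j = -2 ∨ j = -1 ∨ j = 0 := by omega
    · exact no_pair_config near_set.2.1 near_set.1 (by norm_num) hψ hv hy hj hfv hfy
    · refine no_pair_config (k := -8) (fun a ha b hb => ?_) ?_ (by norm_num : 23 ∣ 47104) hψ hv hy (by omega) hfv hfy
      · obtain ⟨g, e1, e2⟩ := mid_std ha.1 (ha.2 _ List.mem_cons_self) hb.1 (hb.2 _ List.mem_cons_self)
        exact ⟨g, e1, by simp [e2]⟩
      · rw [DS_one, (census (mem_shell.2 ⟨pairElt.2, pairElt_norm⟩)).2.1]
    · exact no_pair_config orth_set.2.1 orth_set.1 (by norm_num) hψ hv hy hj hfv hfy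
  by_cases h0 : dotInt (v : Vec) (x : Vec) ≤ 0
  · exact hneg x hxn hfx h0 (by omega) ⟨k, hk⟩
  · refine hneg (-x) hn' hfx.neg ?_ ?_ ⟨-k, ?_⟩ <;> rw [AddSubgroup.coe_neg, dot_neg_right] <;> omega

theorem no_far (hψ : Function.Injective ψ) {v y : ↥leechLattice} (hv : sqNorm (v : Vec) = 32)
    (hy : sqNorm (y : Vec) = 48) (hd : dotInt (y : Vec) (v : Vec) = -16) (hfv : Fixed ψ v) (hfy : Fixed ψ y) :
    False := by
  obtain ⟨a, ha⟩ := to_five hy
  have hav : a • v ∈ DS [(fiveElt, (-16 : ℤ))] := ⟨(norm_smul' a v).trans hv, by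
    simp only [List.forall_mem_cons]
    exact ⟨by rw [← ha, dot_smul']; exact hd, by simp⟩⟩
  have hc := card_fix (f := [fiveElt]) (by simp) hav far_set.2.1
  rw [card_fix_five, far_set.1] at hc
  have h23 : 23 ∣ Nat.card ↥(fixGroup [v, y]) := not_dvd_stab hψ (by simp [hfv, hfy])
  rw [← card_fix_map [v, y] a, List.map_cons, List.map_cons, List.map_nil, ha] at h23
  omega

/-! ### a fixed vector orthogonal to the given one -/

theorem normalizer_card {g : ↥M23pt} (hg : orderOf g = 11) :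
    Nat.card ↥(Subgroup.normalizer (Subgroup.zpowers g : Set ↥M23pt)) = 55 := by
  have : Fact (Nat.Prime 11) := ⟨by norm_num⟩
  set N := Subgroup.normalizer (Subgroup.zpowers g : Set ↥M23pt) with hN
  have hfac : ∀ n q : ℕ, n = 11 * q → ¬ 11 ∣ q → Nat.factorization n 11 = 1 := by
    intro n q e hq
    rw [e, Nat.factorization_mul (by norm_num) (by rintro rfl; simp at hq), Finsupp.add_apply,
      Nat.Prime.factorization_self (by norm_num), Nat.factorization_eq_zero_of_not_dvd hq]
  have hS : Nat.card ↥(Subgroup.zpowers g) = 11 ^ (Nat.card ↥M23pt).factorization 11 := by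
    rw [Nat.card_zpowers, hg, card_M23pt, hfac 10200960 927360 (by norm_num) (by norm_num), pow_one]
  have hg' : orderOf (g : ↥M24) = 11 := by rw [Subgroup.orderOf_coe]; exact hg
  have hS' : Nat.card ↥(Subgroup.zpowers (g : ↥M24)) = 11 ^ (Nat.card ↥M24).factorization 11 := by
    rw [Nat.card_zpowers, hg', M24_card, hfac 244823040 22256640 (by norm_num) (by norm_num), pow_one]
  have hcount : Nat.card (Sylow 11 ↥M23pt) = N.index := (Sylow.ofCard _ hS).card_eq_index_normalizer
  have hcount' : Nat.card (Sylow 11 ↥M24) =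
      (Subgroup.normalizer (Subgroup.zpowers (g : ↥M24) : Set ↥M24)).index :=
    (Sylow.ofCard _ hS').card_eq_index_normalizer
  have hN110 : Nat.card ↥(Subgroup.normalizer (Subgroup.zpowers (g : ↥M24) : Set ↥M24)) = 110 := by
    have h := (Subgroup.normalizer (Subgroup.zpowers (g : ↥M24) : Set ↥M24)).card_mul_index
    rw [← hcount', CoThreeOut.sylow_count_eleven, M24_card] at h
    omega
  have hle : N.map M23pt.subtype ≤ Subgroup.normalizer (Subgroup.zpowers (g : ↥M24) : Set ↥M24) := by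
    refine le_trans (Subgroup.le_normalizer_map M23pt.subtype) (le_of_eq ?_)
    rw [MonoidHom.map_zpowers]
    rfl
  have hdvd : Nat.card ↥N ∣ 110 := by
    rw [← hN110, ← Subgroup.card_map_of_injective M23pt.subtype_injective]
    exact Subgroup.card_dvd_of_le hle
  have h11 : 11 ∣ Nat.card ↥N := by
    rw [← hg, ← Nat.card_zpowers]
    exact Subgroup.card_dvd_of_le Subgroup.le_normalizer
  have hmul := N.card_mul_index
  have hmod := card_sylow_modEq_one 11 ↥M23pt
  rw [Nat.ModEq, hcount] at hmod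
  rw [card_M23pt] at hmul
  have hpos : Nat.card ↥N ≤ 110 := Nat.le_of_dvd (by norm_num) hdvd
  obtain h | h | h | h : Nat.card ↥N = 11 ∨ Nat.card ↥N = 22 ∨ Nat.card ↥N = 55 ∨ Nat.card ↥N = 110 := by
    have := CoThreeOut.dvd_hundred_ten _ (by omega) hdvd h11
    simpa using this
  all_goals rw [h] at hmul ⊢
  all_goals omega

/-- Congruence of an invariant sum with the sum over the fixed points. -/
theorem sum_modEq_fixed {G α : Type*} [Group G] [Fintype α] [MulAction G α] {p : ℕ} [Fact p.Prime]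
    (hG : Nat.card G = p) (f : α → ℤ) (hf : ∀ (g : G) a, f (g • a) = f a) [DecidablePred (· ∈ fixedPoints G α)] :
    (p : ℤ) ∣ (∑ a, f a) - ∑ a ∈ Finset.univ.filter (· ∈ fixedPoints G α), f a := by
  classical
  haveI : Finite G := Nat.finite_of_card_ne_zero (by rw [hG]; exact (Fact.out : p.Prime).ne_zero)
  rw [← Finset.sum_filter_add_sum_filter_not Finset.univ (· ∈ fixedPoints G α), add_sub_cancel_left,
    ← Finset.sum_fiberwise _ (fun a => (Quotient.mk (orbitRel G α) a)) f]
  refine Finset.dvd_sum fun q _ => ?_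
  induction q using Quotient.inductionOn with | _ a => ?_
  by_cases ha : a ∈ fixedPoints G α
  · refine ⟨0, ?_⟩
    rw [mul_zero]
    refine Finset.sum_eq_zero fun b hb => ?_
    simp only [Finset.mem_filter, Finset.mem_univ, true_and] at hb
    obtain ⟨g, hg⟩ := Quotient.exact hb.2
    have hg' : g • a = b := hg
    exact absurd (by rw [← hg', ha g]; exact ha) hb.1
  have hset : ((Finset.univ.filter fun b => b ∉ fixedPoints G α).filter fun b =>
      Quotient.mk (orbitRel G α) b = Quotient.mk (orbitRel G α) a) = (orbit G a).toFinset := by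
    ext b
    simp only [Finset.mem_filter, Finset.mem_univ, true_and, Set.mem_toFinset]
    refine ⟨fun h => Quotient.exact h.2, fun h => ⟨?_, Quotient.sound h⟩⟩
    intro hb
    obtain ⟨g, rfl⟩ := h
    refine ha fun k => smul_left_cancel g ?_
    have e : (g * k * g⁻¹) • g • a = g • a := hb (g * k * g⁻¹)
    rwa [← mul_smul, inv_mul_cancel_right, mul_smul] at e
  rw [hset, Finset.sum_congr rfl (g := fun _ => f a) fun b hb => by
      obtain ⟨g, rfl⟩ := Set.mem_toFinset.1 hb
      exact hf g a,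
    Finset.sum_const, ← Set.ncard_eq_toFinset_card', ← index_stabilizer, nsmul_eq_mul]
  have hi : (stabilizer G a).index ∣ p := hG ▸ Subgroup.index_dvd_card _
  rcases (Nat.dvd_prime Fact.out).1 hi with h | h
  · exact absurd (fun g => (Subgroup.index_eq_one.1 h ▸ Subgroup.mem_top g : g ∈ stabilizer G a)) ha
  · rw [h]; exact ⟨f a, rfl⟩

/-- The five-point count. -/
theorem five_count : ∀ a b : ℤ, -2 ≤ a → a ≤ 2 → -2 ≤ b → b ≤ 2 →
    ¬ (11 : ℤ) ∣ 96 + 2 * (32 * a - 32) + 2 * (32 * b - 32) := by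
  intro a b h1 h2 h3 h4 h
  interval_cases a <;> interval_cases b <;> norm_num at h

theorem exists_orth_fixed (hψ : Function.Injective ψ) {v : ↥leechLattice} (hv : sqNorm (v : Vec) = 32)
    (hfv : Fixed ψ v) :
    ∃ s : ↥leechLattice, s ≠ 0 ∧ dotInt (v : Vec) (s : Vec) = 0 ∧ Fixed ψ s := by
  classical
  have : Fact (Nat.Prime 11) := ⟨by norm_num⟩
  let S : Type := {x : ↥leechLattice // x ∈ DS [(v, (-16 : ℤ))]}
  letI : MulAction ↥M23pt S :=
    { smul := fun u x => ⟨ψ u • x.1, smul_mem_DS (fun p hp => by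
        simp only [List.mem_cons, List.not_mem_nil, or_false] at hp
        rw [hp]; exact hfv u) x.2⟩
      one_smul := fun x => Subtype.ext (show ψ 1 • x.1 = x.1 by rw [map_one, one_smul])
      mul_smul := fun a b x => Subtype.ext (show ψ (a * b) • x.1 = ψ a • ψ b • x.1 by rw [map_mul, mul_smul]) }
  have hSc : Nat.card S = 4600 := by
    rw [show Nat.card S = Nat.card ↥(DS [(v, (-16 : ℤ))]) from rfl, Nat.card_coe_set_eq, DS_one,
      (census (mem_shell.2 ⟨v.2, hv⟩)).1]
  haveI : Finite S := Nat.finite_of_card_ne_zero (by rw [hSc]; norm_num)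
  haveI : Finite ↥M23pt := Nat.finite_of_card_ne_zero (by rw [card_M23pt]; norm_num)
  obtain ⟨g, hg⟩ := exists_prime_orderOf_dvd_card' (G := ↥M23pt) 11 (by rw [card_M23pt]; norm_num)
  let P := Subgroup.zpowers g
  have hPc : Nat.card ↥P = 11 := by rw [Nat.card_zpowers, hg]
  obtain ⟨x, hx⟩ : ∃ x : S, x ∈ fixedPoints ↥P S := by
    have h := (IsPGroup.of_card (n := 1) (by rw [hPc, pow_one]) : IsPGroup 11 ↥P).card_modEq_card_fixedPoints S
    by_contra hcon
    push Not at hcon
    haveI : IsEmpty (fixedPoints ↥P S) := ⟨fun a => hcon a.1 a.2⟩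
    rw [hSc, Nat.card_of_isEmpty] at h
    norm_num [Nat.ModEq] at h
  have hgx : g • x = x := hx ⟨g, Subgroup.mem_zpowers g⟩
  -- the fixed points in the orbit
  set N := Subgroup.normalizer (P : Set ↥M23pt) with hN
  have hNc : Nat.card ↥N = 55 := normalizer_card hg
  have : Fact (Nat.Prime 5) := ⟨by norm_num⟩
  obtain ⟨t', ht'⟩ := exists_prime_orderOf_dvd_card' (G := ↥N) 5 (by rw [hNc]; norm_num)
  set t : ↥M23pt := t'.1 with ht
  have ht5 : t ^ 5 = 1 := by
    rw [ht, ← SubgroupClass.coe_pow, ← ht', pow_orderOf_eq_one, Subgroup.coe_one]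
  have htN : ∀ n ∈ N, ∃ k : ℕ, k < 5 ∧ n • x = t ^ k • x := by
    have hn : (P.subgroupOf N).Normal := Subgroup.normal_in_normalizer
    have hPN : Nat.card ↥(P.subgroupOf N) = 11 := by
      rw [Nat.card_congr (Subgroup.subgroupOfEquivOfLe Subgroup.le_normalizer).toEquiv, hPc]
    have hq : Nat.card (↥N ⧸ P.subgroupOf N) = 5 := by
      have := (P.subgroupOf N).card_eq_card_quotient_mul_card_subgroup
      rw [hNc, hPN] at this
      omega
    have hne : (t' : ↥N ⧸ P.subgroupOf N) ≠ 1 := by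
      rw [Ne, QuotientGroup.eq_one_iff]
      intro hmem
      have h1 := (P.subgroupOf N).orderOf_mk t' hmem ▸ orderOf_dvd_natCard (⟨t', hmem⟩ : ↥(P.subgroupOf N))
      rw [ht', hPN] at h1
      norm_num at h1
    intro n hn'
    have hmem := mem_powers_of_prime_card (p := 5) hq hne (g' := ((⟨n, hn'⟩ : ↥N) : ↥N ⧸ P.subgroupOf N))
    obtain ⟨k, hk⟩ := Submonoid.mem_powers_iff _ _ |>.1 hmem
    refine ⟨k % 5, Nat.mod_lt _ (by norm_num), ?_⟩
    rw [← QuotientGroup.mk_pow, QuotientGroup.eq, Subgroup.mem_subgroupOf] at hk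
    have hfix : ((t' ^ k)⁻¹ * (⟨n, hn'⟩ : ↥N) : ↥N).1 • x = x := hx ⟨_, hk⟩
    rw [Subgroup.coe_mul, Subgroup.coe_inv, mul_smul, inv_smul_eq_iff, SubgroupClass.coe_pow] at hfix
    rw [show n • x = t ^ k • x from hfix, ← Nat.mod_add_div k 5, pow_add, pow_mul, ht5, one_pow, mul_one,
      Nat.mod_add_div]
  haveI : Fintype ↥(orbit ↥M23pt x) := Fintype.ofFinite _
  let f : ↥(orbit ↥M23pt x) → ℤ := fun y => 4 * dotInt (x.1 : Vec) (y.1.1 : Vec) - 32
  have hPf : ∀ (p : ↥P) (y : ↥(orbit ↥M23pt x)), f (p • y) = f y := fun p y => by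
    show 4 * dotInt (x.1 : Vec) ((ψ p.1 • y.1.1 : ↥leechLattice) : Vec) - 32 = _
    rw [← congrArg Subtype.val (hx p)]
    show 4 * dotInt ((ψ p.1 • x.1 : ↥leechLattice) : Vec) _ - 32 = _
    rw [dot_smul']
  have hdiv := sum_modEq_fixed hPc f hPf
  have hfixed : ∀ y : ↥(orbit ↥M23pt x), y ∈ fixedPoints ↥P ↥(orbit ↥M23pt x) ↔
      ∃ k : ℕ, k < 5 ∧ y.1 = t ^ k • x := by
    intro y
    constructor
    · intro hy
      obtain ⟨u, hu⟩ := y.2
      set H := stabilizer ↥M23pt x
      have hgH : g ∈ H := hgx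
      have huH : u⁻¹ * g * u ∈ H := by
        show (u⁻¹ * g * u) • x = x
        rw [mul_smul, mul_smul, show u • x = y.1 from hu,
          show g • y.1 = y.1 from congrArg Subtype.val (hy ⟨g, Subgroup.mem_zpowers g⟩), inv_smul_eq_iff]
        exact hu.symm
      have ho : orderOf (⟨g, hgH⟩ : ↥H) = 11 := by rw [Subgroup.orderOf_mk, hg]
      have ho' : orderOf (⟨u⁻¹ * g * u, huH⟩ : ↥H) = 11 := by
        rw [Subgroup.orderOf_mk, show u⁻¹ * g * u = MulAut.conj u⁻¹ g by simp,
          MulEquiv.orderOf_eq, hg]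
      have hfac : (Nat.card ↥H).factorization 11 = 1 := by
        obtain ⟨q, hq⟩ := ho ▸ orderOf_dvd_natCard (⟨g, hgH⟩ : ↥H)
        have hd : Nat.card ↥H ∣ 10200960 := card_M23pt ▸ Subgroup.card_subgroup_dvd_card H
        have hq11 : ¬ 11 ∣ q := fun ⟨r, hr⟩ => by
          have : 11 * 11 ∣ 10200960 := dvd_trans ⟨r, by rw [hq, hr]; ring⟩ hd
          norm_num at this
        rw [hq, Nat.factorization_mul (by norm_num) (by rintro rfl; simp at hq11), Finsupp.add_apply,
          Nat.Prime.factorization_self (by norm_num), Nat.factorization_eq_zero_of_not_dvd hq11]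
      let Q1 : Sylow 11 ↥H := Sylow.ofCard (Subgroup.zpowers ⟨g, hgH⟩) (by rw [Nat.card_zpowers, ho, hfac, pow_one])
      let Q2 : Sylow 11 ↥H := Sylow.ofCard (Subgroup.zpowers ⟨_, huH⟩) (by rw [Nat.card_zpowers, ho', hfac, pow_one])
      obtain ⟨h, hh⟩ := MulAction.exists_smul_eq ↥H Q1 Q2
      have hh' : (Subgroup.zpowers (⟨g, hgH⟩ : ↥H)).map (MulAut.conj h).toMonoidHom =
          Subgroup.zpowers ⟨u⁻¹ * g * u, huH⟩ := congrArg (fun Q : Sylow 11 ↥H => (Q : Subgroup ↥H)) hh
      have hn : u * h.1 ∈ N := by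
        refine Subgroup.mem_normalizer_iff_map_conj_eq.2 (Subgroup.eq_of_le_of_card_ge ?_
          (le_of_eq (Subgroup.card_map_of_injective (MulAut.conj _).injective).symm))
        rintro _ ⟨p, hp, rfl⟩
        have hpz : (⟨p, Subgroup.zpowers_le.2 hgH hp⟩ : ↥H) ∈ Subgroup.zpowers (⟨g, hgH⟩ : ↥H) := by
          obtain ⟨i, rfl⟩ := Subgroup.mem_zpowers_iff.1 hp
          exact ⟨i, Subtype.ext (by simp)⟩
        have hm := hh' ▸ Subgroup.mem_map_of_mem (MulAut.conj h).toMonoidHom hpz
        obtain ⟨i, hi⟩ := Subgroup.mem_zpowers_iff.1 hm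
        refine Subgroup.mem_zpowers_iff.2 ⟨i, ?_⟩
        have hi' := congrArg Subtype.val hi
        simp only [MulEquiv.coe_toMonoidHom, MulAut.conj_apply, Subgroup.coe_mul, Subgroup.coe_inv,
          SubgroupClass.coe_zpow] at hi'
        rw [show (u⁻¹ * g * u) ^ i = u⁻¹ * g ^ i * u by
          rw [show u⁻¹ * g * u = MulAut.conj u⁻¹ g by simp, ← map_zpow]; simp] at hi'
        calc g ^ i = u * (u⁻¹ * g ^ i * u) * u⁻¹ := by group
          _ = u * h.1 * p * (u * h.1)⁻¹ := by rw [hi']; group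
      obtain ⟨k, hk5, hk⟩ := htN _ hn
      refine ⟨k, hk5, ?_⟩
      rw [← hk, mul_smul, show h.1 • x = x from h.2]
      exact hu.symm
    · rintro ⟨k, -, hy⟩ p
      refine Subtype.ext ?_
      show p.1 • y.1 = y.1
      rw [hy, ← mul_smul, show p.1 * t ^ k = t ^ k * ((t ^ k)⁻¹ * p.1 * t ^ k) by group, mul_smul]
      have hmem : (t ^ k)⁻¹ * p.1 * t ^ k ∈ P := by
        have := (Subgroup.mem_normalizer_iff.1 (inv_mem (pow_mem t'.2 k)) p.1).1 p.2
        simpa using this
      exact congrArg (t ^ k • ·) (hx ⟨_, hmem⟩)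
  have hf0 : f ⟨x, mem_orbit_self x⟩ = 96 := by
    show 4 * dotInt (x.1 : Vec) (x.1 : Vec) - 32 = 96
    rw [dot_self, x.2.1]; norm_num
  have hval : ∀ y : S, y ≠ x → ∃ a : ℤ, -2 ≤ a ∧ a ≤ 2 ∧ dotInt (x.1 : Vec) (y.1 : Vec) = 8 * a := by
    intro y hne
    obtain ⟨a, ha⟩ := eight_dvd x.1 y.1
    have h1 := (norm_gap (x.1 - y.1)).resolve_left fun e => hne (Subtype.ext (sub_eq_zero.1 e).symm)
    rw [AddSubgroup.coe_sub, sq_sub_dot, x.2.1, y.2.1] at h1
    have h2 := norm_nonneg ((x.1 : Vec) + (y.1 : Vec) + (v : Vec))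
    have hadd : dotInt ((x.1 : Vec) + (y.1 : Vec)) (v : Vec) = -32 := by
      have ex : dotInt (v : Vec) (x.1 : Vec) = -16 := x.2.2 _ List.mem_cons_self
      have ey : dotInt (v : Vec) (y.1 : Vec) = -16 := y.2.2 _ List.mem_cons_self
      rw [dot_add_left', dot_symm, ex, dot_symm, ey]; norm_num
    rw [sq_add_dot, sq_add_dot, x.2.1, y.2.1, hv, hadd] at h2
    exact ⟨a, by omega, by omega, ha⟩
  have hsum : ¬ (11 : ℤ) ∣ ∑ y, f y := by
    intro h11
    have h' := dvd_sub h11 hdiv
    rw [sub_sub_cancel] at h'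
    by_cases htx : t • x = x
    · have hall : ∀ k : ℕ, t ^ k • x = x := by
        intro k; induction k with
        | zero => rw [pow_zero, one_smul]
        | succ k ih => rw [pow_succ, mul_smul, htx, ih]
      rw [show Finset.univ.filter (· ∈ fixedPoints ↥P ↥(orbit ↥M23pt x)) = {⟨x, mem_orbit_self x⟩} by
        ext y
        simp only [Finset.mem_filter, Finset.mem_univ, true_and, Finset.mem_singleton, hfixed]
        exact ⟨fun ⟨k, _, hk⟩ => Subtype.ext (hk.trans (hall k)),
          fun e => ⟨0, by norm_num, by rw [e, pow_zero, one_smul]⟩⟩,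
        Finset.sum_singleton, hf0] at h'
      norm_num at h'
    · let F : Fin 5 → ↥(orbit ↥M23pt x) := fun k => ⟨t ^ k.val • x, mem_orbit _ _⟩
      have hinj : ∀ a b : ℕ, a < b → b < 5 → t ^ a • x ≠ t ^ b • x := by
        intro a b hab hb e
        have hfix : t ^ (b - a) • x = x := smul_left_cancel (t ^ a) (by
          rw [← mul_smul, ← pow_add, show a + (b - a) = b by omega, ← e])
        have hco : Nat.Coprime (b - a) 5 := ((Nat.Prime.coprime_iff_not_dvd (by norm_num)).2
          (Nat.not_dvd_of_pos_of_lt (by omega) (by omega))).symm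
        refine htx ?_
        have hmem : t ∈ stabilizer ↥M23pt x := by
          obtain ⟨i, hi⟩ : ∃ i : ℕ, t = (t ^ (b - a)) ^ i := by
            obtain ⟨i, hi⟩ := Nat.exists_mul_mod_eq_one_of_coprime hco (by norm_num)
            exact ⟨i, by
              rw [← pow_mul, ← Nat.mod_add_div ((b - a) * i) 5, pow_add, pow_mul t 5, ht5, one_pow, mul_one]
              rw [hi.2, pow_one]⟩
          rw [hi]
          exact pow_mem (show t ^ (b - a) ∈ stabilizer ↥M23pt x from hfix) i
        exact hmem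
      have hFi : Function.Injective F := fun a b e => Fin.ext (by
        by_contra hne
        have e' : t ^ a.val • x = t ^ b.val • x := congrArg Subtype.val e
        rcases Nat.lt_or_gt_of_ne hne with h | h
        · exact hinj _ _ h b.2 e'
        · exact hinj _ _ h a.2 e'.symm)
      rw [show Finset.univ.filter (· ∈ fixedPoints ↥P ↥(orbit ↥M23pt x)) = Finset.univ.image F by
        ext y
        simp only [Finset.mem_filter, Finset.mem_univ, true_and, Finset.mem_image, hfixed]
        exact ⟨fun ⟨k, hk5, hk⟩ => ⟨⟨k, hk5⟩, Subtype.ext hk.symm⟩,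
          fun ⟨k, hk⟩ => ⟨k.1, k.2, by rw [← hk]⟩⟩,
        Finset.sum_image fun a _ b _ e => hFi e, Fin.sum_univ_five] at h'
      have hsym : ∀ a b : ℕ, a + b = 5 → dotInt (x.1 : Vec) ((t ^ a • x).1 : Vec) =
          dotInt (x.1 : Vec) ((t ^ b • x).1 : Vec) := by
        intro a b hab
        have h := dot_smul' (ψ (t ^ b)) x.1 (t ^ a • x).1
        rw [show ψ (t ^ b) • x.1 = (t ^ b • x).1 from rfl,
          show ψ (t ^ b) • (t ^ a • x).1 = (t ^ b • t ^ a • x).1 from rfl, ← mul_smul, ← pow_add,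
          show b + a = 5 by omega, ht5, one_smul] at h
        exact h.symm.trans (dot_symm _ _)
      obtain ⟨a, a1, a2, ha⟩ := hval (t ^ 1 • x) (fun e => hinj 0 1 (by norm_num) (by norm_num) (by rw [pow_zero, one_smul, e]))
      obtain ⟨b, b1, b2, hb⟩ := hval (t ^ 2 • x) (fun e => hinj 0 2 (by norm_num) (by norm_num) (by rw [pow_zero, one_smul, e]))
      refine five_count a b a1 a2 b1 b2 ?_
      have e : f (F 0) + f (F 1) + f (F 2) + f (F 3) + f (F 4) =
          96 + 2 * (32 * a - 32) + 2 * (32 * b - 32) := by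
        simp only [f, F, Fin.val_zero, Fin.val_one, Fin.val_two, show ((3 : Fin 5) : ℕ) = 3 from rfl,
          show ((4 : Fin 5) : ℕ) = 4 from rfl, hsym 4 1 rfl, hsym 3 2 rfl, ha, hb, pow_zero, one_smul, dot_self,
          x.2.1]
        ring
      rw [e] at h'
      exact_mod_cast h'
  let s : ↥leechLattice := ∑ y : ↥(orbit ↥M23pt x), ((2 : ℕ) • y.1.1 + v)
  have hterm : ∀ (w : Vec) (y : ↥(orbit ↥M23pt x)),
      dotInt w ((((2 : ℕ) • y.1.1 + v) : ↥leechLattice) : Vec) =
        2 * dotInt w (y.1.1 : Vec) + dotInt w (v : Vec) := by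
    intro w y
    simp only [dotInt, AddSubgroup.coe_add, two_nsmul, Pi.add_apply, Finset.mul_sum, ← Finset.sum_add_distrib]
    exact Finset.sum_congr rfl fun i _ => by push_cast; ring
  have hdots : ∀ w : Vec, dotInt w (s : Vec) =
      ∑ y : ↥(orbit ↥M23pt x), (2 * dotInt w (y.1.1 : Vec) + dotInt w (v : Vec)) := by
    intro w
    simp only [s, AddSubgroup.val_finsetSum, dotInt, Finset.sum_apply, Finset.mul_sum]
    rw [Finset.sum_comm]
    refine Finset.sum_congr rfl fun y _ => (hterm w y).trans ?_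
    simp only [dotInt, Finset.mul_sum]
  have hvs : dotInt (v : Vec) (s : Vec) = 0 := by
    rw [hdots, Finset.sum_eq_zero fun y _ => ?_]
    rw [y.1.2.2 _ List.mem_cons_self, dot_self, hv]
    norm_num
  refine ⟨s, fun e => hsum ?_, hvs, fun u => ?_⟩
  · have h0 : dotInt ((2 : ℤ) • (x.1 : Vec) + (v : Vec)) (s : Vec) = 0 := by
      rw [e]; simp [dotInt]
    rw [hdots] at h0
    refine ⟨0, ?_⟩
    rw [mul_zero, ← h0]
    refine Finset.sum_congr rfl fun y _ => ?_
    have ey : dotInt (v : Vec) (y.1.1 : Vec) = -16 := y.1.2.2 _ List.mem_cons_self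
    have ex : dotInt (v : Vec) (x.1 : Vec) = -16 := x.2.2 _ List.mem_cons_self
    have hlin : ∀ w : Vec, dotInt ((2 : ℤ) • (x.1 : Vec) + (v : Vec)) w =
        2 * dotInt (x.1 : Vec) w + dotInt (v : Vec) w := by
      intro w
      simp only [dotInt, Pi.add_apply, Pi.smul_apply, smul_eq_mul, Finset.mul_sum, ← Finset.sum_add_distrib]
      exact Finset.sum_congr rfl fun i _ => by ring
    rw [hlin, hlin, ey, dot_self, hv, dot_symm (x.1 : Vec) (v : Vec), ex]
    show 4 * dotInt (x.1 : Vec) (y.1.1 : Vec) - 32 = _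
    ring
  · show linOf (ψ u) s = s
    simp only [s, map_sum]
    refine Fintype.sum_bijective (fun y : ↥(orbit ↥M23pt x) => u • y) (MulAction.bijective u) _ _ fun y => ?_
    show ψ u • ((2 : ℕ) • y.1.1 + v) = _
    rw [smul_add', smul_nsmul', hfv u]
    rfl

/-! ### representatives modulo 2 -/

/-- Not congruent to zero or to `v` modulo 2. -/
def Proper (v u : ↥leechLattice) : Prop :=
  (∀ z : ↥leechLattice, u ≠ (2 : ℕ) • z) ∧ ∀ z : ↥leechLattice, u - v ≠ (2 : ℕ) • z

theorem exists_proper (hψ : Function.Injective ψ) {v : ↥leechLattice} (hv : sqNorm (v : Vec) = 32)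
    (hfv : Fixed ψ v) : ∃ u, Fixed ψ u ∧ Proper v u := by
  classical
  obtain ⟨s, hs0, hsv, hfs⟩ := exists_orth_fixed hψ hv hfv
  let Q : ℕ → Prop := fun n => ∃ u : ↥leechLattice, Fixed ψ u ∧ (∀ k : ℤ, u ≠ k • v) ∧ (sqNorm (u : Vec)).toNat = n
  have hQ : ∃ n, Q n := ⟨_, s, hfs, fun k hk => hs0 (by
    have e : k * 32 = 0 := by
      rw [← hsv, hk, ← hv, ← dot_self]
      simp only [dotInt, AddSubgroupClass.coe_zsmul, Pi.smul_apply, smul_eq_mul, Finset.mul_sum]
      exact Finset.sum_congr rfl fun i _ => by ring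
    rw [hk, show k = 0 by omega, zero_smul]), rfl⟩
  obtain ⟨u, hfu, hu, hn⟩ := Nat.find_spec hQ
  have hu0 : 32 ≤ sqNorm (u : Vec) := (norm_gap u).resolve_left fun e => hu 0 (by rw [e, zero_smul])
  have hmin : ∀ w : ↥leechLattice, Fixed ψ w → (∀ k : ℤ, w ≠ k • v) → sqNorm (u : Vec) ≤ sqNorm (w : Vec) := by
    intro w hw1 hw2
    have := Nat.find_min' hQ (⟨w, hw1, hw2, rfl⟩ : Q _)
    have := norm_nonneg (w : Vec)
    omega
  refine ⟨u, hfu, fun z hz => ?_, fun z hz => ?_⟩
  · have h := hmin z (fixed_half hfu hz) fun k hk => hu (2 * k) (by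
      rw [hz, hk, ← natCast_zsmul, ← mul_smul]; rfl)
    have e : sqNorm (u : Vec) = 4 * sqNorm (z : Vec) := by
      rw [hz, AddSubmonoidClass.coe_nsmul, norm_smul_two]
    omega
  · have hz' : u + v = (2 : ℕ) • (z + v) := by
      rw [nsmul_add, ← hz]; abel
    have e1 : sqNorm (u : Vec) + 32 - 2 * dotInt (u : Vec) (v : Vec) = 4 * sqNorm (z : Vec) := by
      rw [← norm_smul_two, ← AddSubmonoidClass.coe_nsmul, ← hz, AddSubgroup.coe_sub, sq_sub_dot, hv]
    have e2 : sqNorm (u : Vec) + 32 + 2 * dotInt (u : Vec) (v : Vec) = 4 * sqNorm ((z + v : ↥leechLattice) : Vec) := by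
      rw [← norm_smul_two, ← AddSubmonoidClass.coe_nsmul, ← hz', AddSubgroup.coe_add, sq_add_dot, hv]
    have hnot : ∀ k : ℤ, z ≠ k • v := fun k hk => hu (2 * k + 1) (by
      rw [← sub_add_cancel u v, hz, hk, add_smul, one_smul, ← natCast_zsmul, ← mul_smul]; rfl)
    have hfz := fixed_half (hfu.sub hfv) hz
    have h1 := hmin z hfz hnot
    have h2 := hmin (z + v) (hfz.add hfv) fun k hk => hnot (k - 1) (by
      rw [sub_smul, one_smul, ← hk, add_sub_cancel_right])
    omega

/-- In the standard frame some axis is fixed and meets the minimal vector in 24. -/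
theorem frame_case (hψ : Function.Injective ψ) (hK : ∀ u, ψ u ∈ crossStab) {v : ↥leechLattice}
    (hv : sqNorm (v : Vec) = 32) (hfv : Fixed ψ v) :
    ∃ p : GolayPt, Fixed ψ (eightAt p) ∧
      (dotInt (eightVec p) (v : Vec) = 24 ∨ dotInt (eightVec p) (v : Vec) = -24) := by
  classical
  let X : Type := {w : ↥leechLattice // (w : Vec) ∈ stdCross}
  haveI : Finite X := finite_cross.to_subtype
  letI : MulAction ↥M23pt X :=
    { smul := fun u w => ⟨ψ u • w.1, mem_crossStab.1 (hK u) w.1 w.2⟩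
      one_smul := fun w => Subtype.ext (show ψ 1 • w.1 = w.1 by rw [map_one, one_smul])
      mul_smul := fun a b w => Subtype.ext (show ψ (a * b) • w.1 = ψ a • ψ b • w.1 by rw [map_mul, mul_smul]) }
  let e : GolayPt → X := fun i => ⟨eightAt i, mem_stdCross.2 ⟨i, Or.inl rfl⟩⟩
  have haxis : ∀ w : X, ∃ i, w = e i ∨ (w.1 : Vec) = -eightVec i := fun w => by
    obtain ⟨i, h | h⟩ := mem_stdCross.1 w.2
    · exact ⟨i, Or.inl (Subtype.ext (Subtype.ext h))⟩
    · exact ⟨i, Or.inr h⟩
  choose ax hax using haxis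
  have hneg : ∀ w w' : X, ax w = ax w' → w = w' ∨ w'.1 = -w.1 := by
    intro w w' h
    rcases hax w with a | a <;> rcases hax w' with b | b <;> rw [← h] at b
    · exact Or.inl (a.trans b.symm)
    · exact Or.inr (Subtype.ext (by rw [AddSubgroup.coe_neg, a]; exact b))
    · exact Or.inr (Subtype.ext (by rw [AddSubgroup.coe_neg, b, a, neg_neg]; rfl))
    · exact Or.inl (Subtype.ext (Subtype.ext (a.trans b.symm)))
  have hX48 : ∀ w : X, (orbit ↥M23pt w).ncard ≤ 48 := fun w => by
    refine le_trans (Set.ncard_le_ncard (Set.subset_univ _)) ?_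
    rw [Set.ncard_univ]
    have h1 : Nat.card X ≤ Nat.card (GolayPt × Bool) := by
      refine Nat.card_le_card_of_injective (fun w => (ax w, decide ((w.1 : Vec) (ax w) = 8))) fun w w' h => ?_
      simp only [Prod.mk.injEq, decide_eq_decide] at h
      rcases hneg w w' h.1 with h' | h'
      · exact h'
      · exfalso
        have e' : (w'.1 : Vec) (ax w) = -(w.1 : Vec) (ax w) := by rw [h']; rfl
        have hb := h.2
        rw [← h.1, e'] at hb
        rcases hax w with a | a
        · have hv8 : (w.1 : Vec) (ax w) = 8 := (congrArg (fun t : X => (t.1 : Vec) (ax w)) a).trans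
            (by simp [e, eightAt, eightVec])
          rw [hv8] at hb
          simp at hb
        · have hv8 : (w.1 : Vec) (ax w) = -8 := by rw [a]; simp [eightVec]
          rw [hv8] at hb
          simp at hb
    rwa [show Nat.card (GolayPt × Bool) = 48 by rw [Nat.card_eq_fintype_card]; rfl] at h1
  have hfix1 : ∀ i : GolayPt, (∀ u : ↥M23pt, u • e i = e i) → ∀ u, ψ u • eightAt i = eightAt i :=
    fun i h u => congrArg Subtype.val (h u)
  obtain ⟨i0, hi0⟩ : ∃ i, (orbit ↥M23pt (e i)).ncard = 23 := by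
    by_contra hcon
    push Not at hcon
    have hall : ∀ i, ∀ u, ψ u • eightAt i = eightAt i := fun i =>
      hfix1 i ((small_orbit (e i) (Set.toFinite _) (hX48 _)).resolve_right (hcon i))
    have h1 : ∀ u : ↥M23pt, ψ u = 1 := fun u => Subtype.ext (Equiv.ext fun y => Subtype.ext (funext fun i => by
      have h := dot_smul' (ψ u) (eightAt i) y
      rw [hall i u] at h
      simp only [eightAt, eightVec, dotInt, ite_mul, zero_mul, Finset.sum_ite_eq', Finset.mem_univ, if_true] at h
      change ((ψ u • y : ↥leechLattice) : Vec) i = (y : Vec) i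
      omega))
    have h2 : Nat.card ↥M23pt ≤ Nat.card Unit :=
      Nat.card_le_card_of_injective (fun _ : ↥M23pt => ()) fun a b _ => hψ ((h1 a).trans (h1 b).symm)
    rw [card_M23pt] at h2
    simp at h2
  haveI : Fintype X := Fintype.ofFinite X
  set O := (orbit ↥M23pt (e i0)).toFinset with hO
  have hOc : O.card = 23 := by rw [hO, ← Set.ncard_eq_toFinset_card', hi0]
  have hinj : Set.InjOn ax (O : Set X) := by
    intro w hw w' hw' h
    refine (hneg w w' h).resolve_right fun hn => ?_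
    simp only [hO, Set.coe_toFinset] at hw hw'
    -- the orbit would be closed under negation
    let ν : X → X := fun z => ⟨-z.1, by
      obtain ⟨i, h' | h'⟩ := mem_stdCross.1 z.2
      · exact mem_stdCross.2 ⟨i, Or.inr (by rw [AddSubgroup.coe_neg, h'])⟩
      · exact mem_stdCross.2 ⟨i, Or.inl (by rw [AddSubgroup.coe_neg, h', neg_neg])⟩⟩
    have hν : ∀ z ∈ O, ν z ∈ O := by
      intro z hz
      simp only [hO, Set.mem_toFinset] at hz ⊢
      obtain ⟨u, hu⟩ := orbit_eq_iff.2 hw ▸ hz
      have hwn : w' = ν w := Subtype.ext hn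
      rw [← orbit_eq_iff.2 hw'] 
      refine ⟨u, ?_⟩
      rw [hwn, ← hu]
      exact Subtype.ext (smul_neg' _ _)
    have hne : ∀ z : X, ν z ≠ z := fun z hz => by
      have h' : (-z.1 : ↥leechLattice) = z.1 := congrArg Subtype.val hz
      obtain ⟨i, h2 | h2⟩ := mem_stdCross.1 z.2 <;>
      · have := congrArg (fun t : ↥leechLattice => (t : Vec) i) h'
        simp [h2, eightVec] at this
    have hpar : ((O.card : ℕ) : ZMod 2) = 0 := by
      rw [Finset.card_eq_sum_ones, Nat.cast_sum]
      exact Finset.sum_involution (fun z _ => ν z) (fun z _ => by decide) (fun z _ _ => hne z)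
        (fun z hz => hν z hz) fun z _ => Subtype.ext (neg_neg z.1)
    rw [hOc] at hpar
    exact absurd hpar (by decide)
  set A := O.image ax with hA
  have hAc : A.card = 23 := by rw [hA, Finset.card_image_of_injOn hinj, hOc]
  obtain ⟨p, hp⟩ : ∃ p, p ∉ A := by
    by_contra hcon
    push Not at hcon
    rw [Finset.eq_univ_iff_forall.2 hcon, Finset.card_univ] at hAc
    revert hAc
    decide
  have hnotp : ∀ j, j ≠ p → j ∈ A := by
    intro j hj
    by_contra hjA
    have hsub : A ⊆ (Finset.univ.erase p).erase j := fun i hi =>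
      Finset.mem_erase.2 ⟨fun e => hjA (e ▸ hi), Finset.mem_erase.2 ⟨fun e => hp (e ▸ hi), Finset.mem_univ _⟩⟩
    have := Finset.card_le_card hsub
    rw [hAc, Finset.card_erase_of_mem (by simp [hj]), Finset.card_erase_of_mem (Finset.mem_univ p),
      Finset.card_univ] at this
    revert this
    decide
  have hd : ∀ i, dotInt (eightVec i) (v : Vec) = 8 * (v : Vec) i := fun i => by
    simp [eightVec, dotInt]
  have hsq : ∀ j ∈ A, (v : Vec) j ^ 2 = (v : Vec) i0 ^ 2 := by
    intro j hj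
    obtain ⟨w, hw, rfl⟩ := Finset.mem_image.1 hj
    obtain ⟨u, hu⟩ := Set.mem_toFinset.1 hw
    have h := dot_smul' (ψ u) (eightAt i0) v
    rw [hfv u, show ψ u • eightAt i0 = w.1 from congrArg Subtype.val hu] at h
    change _ = dotInt (eightVec i0) (v : Vec) at h
    rcases hax w with a | a
    · rw [a] at h
      change dotInt (eightVec (ax w)) (v : Vec) = _ at h
      rw [hd, hd] at h
      rw [show (v : Vec) (ax w) = (v : Vec) i0 by omega]
    · rw [a, dot_symm, dot_neg_right, dot_symm, hd, hd] at h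
      rw [show (v : Vec) (ax w) = -(v : Vec) i0 by omega]
      ring
  set b := (v : Vec) i0
  set a := (v : Vec) p
  have hn : a ^ 2 + 23 * b ^ 2 = 32 := by
    rw [← hv, sqNorm, ← Finset.add_sum_erase _ _ (Finset.mem_univ p),
      Finset.sum_congr rfl (g := fun _ => b ^ 2) fun j hj => hsq j (hnotp j (Finset.ne_of_mem_erase hj)),
      Finset.sum_const, Finset.card_erase_of_mem (Finset.mem_univ p), Finset.card_univ,
      show Fintype.card GolayPt = 24 by decide]
    simp
    rfl
  have hab : (a = 3 ∨ a = -3) ∧ b ^ 2 = 1 := by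
    have hb : -1 ≤ b ∧ b ≤ 1 := ⟨by nlinarith [sq_nonneg a], by nlinarith [sq_nonneg a]⟩
    have ha : -5 ≤ a ∧ a ≤ 5 := ⟨by nlinarith [sq_nonneg b], by nlinarith [sq_nonneg b]⟩
    obtain ⟨hb1, hb2⟩ := hb
    obtain ⟨ha1, ha2⟩ := ha
    interval_cases b <;> interval_cases a <;> simp_all
  refine ⟨p, hfix1 p ((small_orbit (e p) (Set.toFinite _) (hX48 _)).resolve_right fun h23 => ?_), ?_⟩
  · -- all coordinates in that orbit would have the value at p
    obtain ⟨w, hw, hwp⟩ : ∃ w ∈ orbit ↥M23pt (e p), ax w ≠ p := by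
      by_contra hcon
      push Not at hcon
      have hsub : orbit ↥M23pt (e p) ⊆ ({e p, ⟨-(eightAt p), mem_stdCross.2 ⟨p, Or.inr rfl⟩⟩} : Set X) := by
        intro z hz
        rcases hax z with h | h
        · exact Or.inl (by rw [h, hcon z hz])
        · exact Or.inr (Subtype.ext (Subtype.ext (by rw [h, hcon z hz]; rfl)))
      have := (Set.ncard_le_ncard hsub (Set.toFinite _)).trans (Set.ncard_insert_le _ _)
      rw [h23, Set.ncard_singleton] at this
      omega
    obtain ⟨u, hu⟩ := hw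
    have h := dot_smul' (ψ u) (eightAt p) v
    rw [hfv u, show ψ u • eightAt p = w.1 from congrArg Subtype.val hu] at h
    change _ = dotInt (eightVec p) (v : Vec) at h
    have hb2 := hsq _ (hnotp _ hwp)
    rcases hax w with a' | a'
    · rw [a'] at h
      change dotInt (eightVec (ax w)) (v : Vec) = _ at h
      rw [hd, hd] at h
      rw [show (v : Vec) (ax w) = a by omega, hab.2] at hb2
      rcases hab.1 with e | e <;> rw [e] at hb2 <;> norm_num at hb2
    · rw [a', dot_symm, dot_neg_right, dot_symm, hd, hd] at h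
      rw [show (v : Vec) (ax w) = -a by omega, hab.2] at hb2
      rcases hab.1 with e | e <;> rw [e] at hb2 <;> norm_num at hb2
  · rw [hd]
    rcases hab.1 with e | e <;> rw [show (v : Vec) p = _ from e]
    · exact Or.inl rfl
    · exact Or.inr rfl

/-- The conclusion: a vector of squared length 48. -/
def Good (ψ : ↥M23pt →* ↥Co0) (v : ↥leechLattice) : Prop :=
  ∃ y : ↥leechLattice, sqNorm (y : Vec) = 48 ∧ dotInt (y : Vec) (v : Vec) = 8 ∧ Fixed ψ y

theorem good_of_abs {v y : ↥leechLattice} (hy : sqNorm (y : Vec) = 48) (hfy : Fixed ψ y)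
    (hd : dotInt (y : Vec) (v : Vec) = 8 ∨ dotInt (y : Vec) (v : Vec) = -8) : Good ψ v := by
  rcases hd with h | h
  · exact ⟨y, hy, h, hfy⟩
  · exact ⟨-y, by rw [AddSubgroup.coe_neg, ← hy]; simp [sqNorm], by
      rw [AddSubgroup.coe_neg, dot_symm, dot_neg_right, dot_symm, h]; norm_num, hfy.neg⟩

/-- From a fixed vector proper modulo 2: a good vector, or one orthogonal in the same class. -/
theorem reduce_class (hψ : Function.Injective ψ) {v u : ↥leechLattice} (hv : sqNorm (v : Vec) = 32)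
    (hfv : Fixed ψ v) (hfu : Fixed ψ u) (hu : Proper v u) :
    Good ψ v ∨ ∃ y z : ↥leechLattice, sqNorm (y : Vec) = 48 ∧ dotInt (y : Vec) (v : Vec) = 0 ∧ Fixed ψ y ∧
      u - y = (2 : ℕ) • z := by
  obtain ⟨y0, hy0, hyn, z0, hz0, e0⟩ := exists_short_rep u.2
  set y : ↥leechLattice := ⟨y0, hy0⟩
  have huy : u - y = (2 : ℕ) • (⟨z0, hz0⟩ : ↥leechLattice) := Subtype.ext e0
  have hy0' : y ≠ 0 := fun e => hu.1 _ (by rw [← huy, e, sub_zero])
  obtain ⟨⟨j, hj⟩, hy32⟩ := norm_cases y hy0'
  have hcong : ∀ g, ∃ z : ↥leechLattice, ψ g • y - y = (2 : ℕ) • z := fun g => by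
    refine ⟨(⟨z0, hz0⟩ : ↥leechLattice) - ψ g • ⟨z0, hz0⟩, ?_⟩
    rw [nsmul_sub, ← smul_nsmul', ← huy, smul_sub', hfu g]
    abel
  have hshort : sqNorm (y : Vec) < 64 → Fixed ψ y := by
    intro hlt
    letI : MulAction ↥M23pt ↥leechLattice := MulAction.compHom _ ψ
    have hsub : orbit ↥M23pt y ⊆ ({y, -y} : Set ↥leechLattice) := by
      rintro _ ⟨g, rfl⟩
      obtain ⟨z, hz⟩ := hcong g
      have h := (short_congr (mem_iff.1 y.2) (mem_iff.1 z.2) (v := ((ψ g • y : ↥leechLattice) : Vec))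
        (by rw [norm_smul']; omega) (by omega) (congrArg Subtype.val hz)).2 (by rw [norm_smul']; exact hlt)
      rcases h with h | h
      · exact Or.inl (Subtype.ext h.symm)
      · refine Or.inr (Subtype.ext ?_)
        show ((ψ g • y : ↥leechLattice) : Vec) = -(y : Vec)
        rw [h, neg_neg]
    have hfin : (orbit ↥M23pt y).Finite := Set.Finite.subset (Set.toFinite _) hsub
    have hle : (orbit ↥M23pt y).ncard ≤ 2 := by
      refine (Set.ncard_le_ncard hsub (Set.toFinite _)).trans ((Set.ncard_insert_le _ _).trans ?_)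
      rw [Set.ncard_singleton]
    exact (small_orbit y hfin (by omega)).resolve_right (by omega)
  obtain ⟨k, hk⟩ := eight_dvd y v
  have hyv : y ≠ v := fun e => hu.2 _ (e ▸ huy)
  have hyv' : y ≠ -v := fun e => hu.2 (⟨z0, hz0⟩ - v) (by
    rw [nsmul_sub, ← huy, e]; abel)
  rcases (show sqNorm (y : Vec) = 32 ∨ sqNorm (y : Vec) = 48 ∨ sqNorm (y : Vec) = 64 by
    change sqNorm y0 ≤ 64 at hyn
    change sqNorm y0 = _ ∨ sqNorm y0 = _ ∨ sqNorm y0 = _
    have hj' : sqNorm y0 = 16 * j := hj
    have : 32 ≤ sqNorm y0 := hy32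
    omega) with h32 | h48 | h64
  · exact absurd (no_thirty_two hψ hv h32 hyv hyv' hfv (hshort (by omega))) not_false
  · have hfy := hshort (by omega)
    have hm := (norm_gap (y - v)).resolve_left fun e => hyv (sub_eq_zero.1 e)
    have hp := (norm_gap (y + v)).resolve_left fun e => hyv' (eq_neg_of_add_eq_zero_left e)
    rw [AddSubgroup.coe_sub, sq_sub_dot, h48, hv] at hm
    rw [AddSubgroup.coe_add, sq_add_dot, h48, hv] at hp
    obtain rfl | rfl | rfl | rfl | rfl | rfl | rfl : k = 3 ∨ k = 2 ∨ k = 1 ∨ k = 0 ∨ k = -1 ∨ k = -2 ∨ k = -3 := by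
      omega
    · exfalso
      refine no_thirty_two hψ hv (x := y - v) ?_ ?_ ?_ hfv (hfy.sub hfv)
      · rw [AddSubgroup.coe_sub, sq_sub_dot, h48, hv, hk]; norm_num
      · exact fun e => hu.1 ((⟨z0, hz0⟩ : ↥leechLattice) + v) (by
          rw [nsmul_add, ← huy, eq_add_of_sub_eq e]; abel)
      · exact fun e => hy0' (by rw [eq_add_of_sub_eq e]; abel)
    · refine (no_far hψ hv (y := -y) ?_ ?_ hfv hfy.neg).elim
      · rw [AddSubgroup.coe_neg, ← h48]; simp [sqNorm]
      · rw [AddSubgroup.coe_neg, dot_symm, dot_neg_right, dot_symm, hk]; norm_num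
    · exact Or.inl (good_of_abs h48 hfy (Or.inl (by rw [hk]; norm_num)))
    · exact Or.inr ⟨y, _, h48, by rw [hk]; norm_num, hfy, huy⟩
    · exact Or.inl (good_of_abs h48 hfy (Or.inr (by rw [hk]; norm_num)))
    · exact (no_far hψ hv h48 (by rw [hk]; norm_num) hfv hfy).elim
    · exfalso
      refine no_thirty_two hψ hv (x := y + v) ?_ ?_ ?_ hfv (hfy.add hfv)
      · rw [AddSubgroup.coe_add, sq_add_dot, h48, hv, hk]; norm_num
      · exact fun e => hy0' (add_eq_right.1 e)
      · exact fun e => hu.1 ((⟨z0, hz0⟩ : ↥leechLattice) - v) (by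
          rw [nsmul_sub, ← huy, show y = -v - v by rw [← e]; abel]; abel)
  · -- the frame
    obtain ⟨hr, a, ha⟩ := orbit64 y.2 h64
    have hab : a • y = baseElt := Subtype.ext (by
      have h : ((a • y : ↥leechLattice) : Vec) = vecOf rv_eight := ha
      rw [h, rv_eight_eq]; rfl)
    have hK : ∀ g, a * ψ g * a⁻¹ ∈ crossStab := fun g => by
      rw [mem_crossStab, preserves_iff, mul_smul, mul_smul, show a⁻¹ • baseElt = y from inv_smul_eq_iff.2 hab.symm]
      refine (classOf_smul a (y := y) ?_).trans (by rw [hab]; rfl)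
      obtain ⟨z, hz⟩ := hcong g
      exact (classOf_eq_iff (SetLike.coe_mem _) y.2).2 ⟨z.1, z.2, congrArg Subtype.val hz⟩
    let ψa : ↥M23pt →* ↥Co0 := (MulAut.conj a).toMonoidHom.comp ψ
    have hψa : Function.Injective ψa := (MulAut.conj a).injective.comp hψ
    have hfav : Fixed ψa (a • v) := fun g => by
      show (a * ψ g * a⁻¹) • a • v = a • v
      rw [mul_smul, mul_smul, inv_smul_smul, hfv g]
    obtain ⟨p, hp, hd⟩ := frame_case hψa hK ((norm_smul' a v).trans hv) hfav
    set y' := a⁻¹ • eightAt p with hy'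
    have hfy' : Fixed ψ y' := fun g => by
      have h : (a * ψ g * a⁻¹) • eightAt p = eightAt p := hp g
      rw [mul_smul, mul_smul] at h
      have h2 := congrArg (a⁻¹ • ·) h
      simpa [inv_smul_smul, hy'] using h2
    have hn' : sqNorm (y' : Vec) = 64 := (norm_smul' _ _).trans (norm_eight p)
    have hdv : dotInt (y' : Vec) (v : Vec) = dotInt (eightVec p) ((a • v : ↥leechLattice) : Vec) := by
      rw [← dot_smul' a y' v, hy', smul_inv_smul]; rfl
    refine Or.inl ?_
    rcases hd with hd | hd <;> rw [← hdv] at hd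
    · exact good_of_abs (y := y' - v) (by rw [AddSubgroup.coe_sub, sq_sub_dot, hn', hv, hd]; norm_num)
        (hfy'.sub hfv) (Or.inr (by
          rw [AddSubgroup.coe_sub, dot_symm, dot_sub_right', dot_symm, hd, dot_self, hv]; norm_num))
    · exact good_of_abs (y := y' + v) (by rw [AddSubgroup.coe_add, sq_add_dot, hn', hv, hd]; norm_num)
        (hfy'.add hfv) (Or.inl (by rw [AddSubgroup.coe_add, dot_add_left', hd, dot_self, hv]; norm_num))

theorem norm_double_cases (z : ↥leechLattice) :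
    sqNorm (((2 : ℕ) • z : ↥leechLattice) : Vec) = 0 ∧ z = 0 ∨
      128 ≤ sqNorm (((2 : ℕ) • z : ↥leechLattice) : Vec) := by
  rw [AddSubmonoidClass.coe_nsmul, norm_smul_two]
  rcases norm_gap z with h | h
  · exact Or.inl ⟨by rw [h]; simp [sqNorm], h⟩
  · exact Or.inr (by omega)

/-- A copy of M23 fixing a minimal vector fixes a vector of squared length 48 with inner product 8. -/
theorem exists_fixed_vector (ψ : ↥M23pt →* ↥Co0) (hψ : Function.Injective ψ) {v : ↥leechLattice}
    (hv : sqNorm (v : Vec) = 32) (hfv : Fixed ψ v) : Good ψ v := by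
  obtain ⟨u, hfu, hu⟩ := exists_proper hψ hv hfv
  have hu' : Proper v (u + v) := ⟨fun z hz => hu.2 (z - v) (by
      rw [nsmul_sub, ← hz]; abel),
    fun z hz => hu.1 z (by rw [← hz, add_sub_cancel_right])⟩
  rcases reduce_class hψ hv hfv hfu hu with h | ⟨y, z, hy, hdy, hfy, ez⟩
  · exact h
  rcases reduce_class hψ hv hfv (hfu.add hfv) hu' with h | ⟨y', z', hy', hdy', hfy', ez'⟩
  · exact h
  exfalso
  have e1 : y + v - y' = (2 : ℕ) • (z' - z) := by rw [nsmul_sub, ← ez, ← ez']; abel
  have e2 : y + v + y' = (2 : ℕ) • (z' - z + y') := by rw [nsmul_add, ← e1, two_nsmul]; abel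
  have hz1 := norm_double_cases (z' - z)
  have hz2 := norm_double_cases (z' - z + y')
  have hdvy' : dotInt ((y : Vec) + (v : Vec)) (y' : Vec) = dotInt (y : Vec) (y' : Vec) := by
    rw [dot_add_left', dot_symm (v : Vec), hdy', add_zero]
  have n1 : sqNorm ((y + v - y' : ↥leechLattice) : Vec) = 128 - 2 * dotInt (y : Vec) (y' : Vec) := by
    rw [AddSubgroup.coe_sub, AddSubgroup.coe_add, sq_sub_dot, sq_add_dot, hy, hv, hdy, hy', hdvy']; norm_num
  have n2 : sqNorm ((y + v + y' : ↥leechLattice) : Vec) = 128 + 2 * dotInt (y : Vec) (y' : Vec) := by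
    rw [AddSubgroup.coe_add, AddSubgroup.coe_add, sq_add_dot, sq_add_dot, hy, hv, hdy, hy', hdvy']; norm_num
  have hup := norm_nonneg ((y : Vec) - (y' : Vec))
  have hdn := norm_nonneg ((y : Vec) + (y' : Vec))
  rw [sq_sub_dot, hy, hy'] at hup
  rw [sq_add_dot, hy, hy'] at hdn
  rw [← e1, n1] at hz1
  rw [← e2, n2] at hz2
  have he : dotInt (y : Vec) (y' : Vec) = 0 := by
    rcases hz1 with ⟨h, -⟩ | h <;> rcases hz2 with ⟨h', -⟩ | h' <;> omega
  set x := z' - z
  have hxn : sqNorm (x : Vec) = 32 := by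
    have : sqNorm (((2 : ℕ) • x : ↥leechLattice) : Vec) = 128 := by rw [← e1, n1, he]; norm_num
    rw [AddSubmonoidClass.coe_nsmul, norm_smul_two] at this
    omega
  have hxv : 2 * dotInt (x : Vec) (v : Vec) = 32 := by
    have h : dotInt (((2 : ℕ) • x : ↥leechLattice) : Vec) (v : Vec) = 32 := by
      rw [← e1, AddSubgroup.coe_sub, AddSubgroup.coe_add, dot_symm, dot_sub_right', dot_symm, dot_symm (v : Vec),
        dot_add_left', hdy, dot_self, hv, hdy']
      norm_num
    rw [AddSubmonoidClass.coe_nsmul, two_nsmul, dot_add_left'] at h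
    omega
  refine no_thirty_two hψ hv hxn ?_ ?_ hfv (fixed_half ((hfy.add hfv).sub hfy') e1)
  · intro e
    rw [e, dot_self, hv] at hxv
    norm_num at hxv
  · intro e
    rw [e, AddSubgroup.coe_neg, dot_symm, dot_neg_right, dot_self, hv] at hxv
    norm_num at hxv

end CfsgLib.Sporadic.CoTwoOut
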