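import Cfsg.Agent.Lib.Sporadic.CoOneOutData
import Cfsg.Agent.Lib.Sporadic.CoThreeOutFixed
import Cfsg.Agent.Lib.Sporadic.M23FixedVector

/-!
# Every copy of M24 in the lattice group is conjugate to the permutations

An element of order 23 fixes one pair of minimal vectors, so the orbit of such a vector has a nonzero sum.
A fixed vector reduced modulo 2 gives an invariant frame, and the signs of a fixed vector form a code word.
-/

set_option autoImplicit false

namespace CfsgLib.Sporadic.CoOneOut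

open Cfsg MulAction CfsgLib.Sporadic CfsgLib.Sporadic.Conway CfsgLib.ThreeTrans.Leech CfsgLib.Sporadic.Lattice
open CfsgLib.ThreeTrans.Golay (act mk Word)
open CfsgLib.Sporadic.CoThreeOut (M23pt card_M23pt)
open CfsgLib.Sporadic.CoTwoOut (norm_gap norm_nonneg dot_self dot_symm sum_modEq_fixed smul_add')
open scoped Pointwise

attribute [local irreducible] OTree.entries coThreeEightTree

set_option maxHeartbeats 1000000

/-! ### elements of order 23 -/

theorem cycle_ok : isAut cyclePerm = true ∧ pget cyclePerm 23 = 23 ∧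
    (∀ i < 22, pget cyclePerm i = i + 1) ∧ (Nat.beq (ppow cyclePerm 23) pone) = true ∧
    Nat.beq (movedCount cyclePerm) 0 = false := by
  decide +kernel

theorem std_fixed {σ : ↥M24} (hσ : Rep (σ : Equiv.Perm GolayPt) cyclePerm) {x : ↥leechLattice}
    (hn : sqNorm (x : Vec) = 32) (h : permHom σ • x = x) : x = omegaElt ∨ x = -omegaElt := by
  have hmove : ∀ i, (x : Vec) (σ.1 i) = (x : Vec) i := fun i => by
    have e := congrArg (fun z : ↥leechLattice => (z : Vec) (σ.1 i)) h
    change (x : Vec) (σ.1.symm (σ.1 i)) = (x : Vec) (σ.1 i) at e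
    rw [Equiv.symm_apply_apply] at e
    exact e.symm
  have hconst : ∀ n, n < 23 → (x : Vec) (pt n) = (x : Vec) (pt 0) := by
    intro n hn'
    induction n with
    | zero => rfl
    | succ n ih =>
      rw [← ih (by omega), ← hmove (pt n)]
      refine congrArg (x : Vec) (ix_injective ?_)
      rw [← hσ (pt n), ix_pt (by omega), ix_pt (by omega), cycle_ok.2.2.1 n (by omega)]
  set a := (x : Vec) none
  set b := (x : Vec) (pt 0)
  have hval : ∀ i : GolayPt, i ≠ none → (x : Vec) i = b := by
    intro i hi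
    have h' : ix i < 23 := by
      have h1 := ix_lt i
      have h2 : ix i ≠ 23 := fun e => hi (ix_injective (by rw [e]; rfl))
      omega
    rw [← pt_ix i]
    exact hconst _ h'
  have hnorm : a ^ 2 + 23 * b ^ 2 = 32 := by
    rw [← hn, sqNorm, Fintype.sum_option, Finset.sum_congr rfl (g := fun _ => b ^ 2) fun j _ => by
      rw [hval (some j) (by simp)]]
    simp; rfl
  have hsum : ∃ m d, a = m + 2 * d ∧ (a + 23 * b) ≡ 4 * m [ZMOD 8] := by
    obtain ⟨m, d, h1, -, h3⟩ := mem_iff.1 x.2
    refine ⟨m, d none, h1 none, ?_⟩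
    rw [Fintype.sum_option, Finset.sum_congr rfl (g := fun _ => b) fun j _ => hval (some j) (by simp)] at h3
    simpa using h3
  obtain ⟨m, d, hmd, hcong⟩ := hsum
  have hb : -1 ≤ b ∧ b ≤ 1 := ⟨by nlinarith [sq_nonneg a], by nlinarith [sq_nonneg a]⟩
  have ha : -5 ≤ a ∧ a ≤ 5 := ⟨by nlinarith [sq_nonneg b], by nlinarith [sq_nonneg b]⟩
  have hab : (a = -3 ∧ b = 1) ∨ (a = 3 ∧ b = -1) := by
    obtain ⟨hb1, hb2⟩ := hb
    obtain ⟨ha1, ha2⟩ := ha
    rw [Int.ModEq] at hcong
    interval_cases b <;> interval_cases a <;> first | omega | (norm_num at hnorm)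
  have hshape : ∀ i : GolayPt, (omegaElt : Vec) i = if i = none then -3 else 1 := fun i => omega_shape i
  rcases hab with ⟨ea, eb⟩ | ⟨ea, eb⟩
  · left
    refine Subtype.ext (funext fun i => ?_)
    by_cases hi : i = none
    · rw [hi, hshape, if_pos rfl]; exact ea
    · rw [hval i hi, hshape, if_neg hi]; exact eb
  · right
    refine Subtype.ext (funext fun i => ?_)
    show (x : Vec) i = -((omegaElt : Vec) i)
    by_cases hi : i = none
    · rw [hi, hshape, if_pos rfl]; exact ea
    · rw [hval i hi, hshape, if_neg hi]; exact eb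

theorem fixed_pair {γ : ↥Co0} (hγ : orderOf γ = 23) {x x' : ↥leechLattice} (hx : sqNorm (x : Vec) = 32)
    (hx' : sqNorm (x' : Vec) = 32) (hf : γ • x = x) (hf' : γ • x' = x') : x' = x ∨ x' = -x := by
  have : Fact (Nat.Prime 23) := ⟨by norm_num⟩
  haveI : Finite ↥Co0 := Nat.finite_of_card_ne_zero (by rw [card_Co0]; norm_num)
  obtain ⟨σ, hσ⟩ := exists_M24_elt cycle_ok.1
  have ho : orderOf σ = 23 := by
    refine orderOf_eq_prime ?_ fun e => ?_
    · exact pow_eq_one_of_ppow hσ cycle_ok.2.2.2.1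
    · have h2 := cycle_ok.2.2.2.2
      rw [← card_moved hσ, e] at h2
      simp at h2
  have ho' : orderOf (permHom σ) = 23 := by rw [orderOf_injective _ permHom_injective, ho]
  have hfac : (Nat.card ↥Co0).factorization 23 = 1 := by
    rw [card_Co0, show (8315553613086720000 : ℕ) = 23 ^ 1 * 361545809264640000 from rfl,
      Nat.factorization_mul (by norm_num) (by norm_num), Finsupp.add_apply, Nat.factorization_pow,
      Finsupp.smul_apply, Nat.Prime.factorization_self (by norm_num),
      Nat.factorization_eq_zero_of_not_dvd (by norm_num)]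
    rfl
  let Q1 : Sylow 23 ↥Co0 := Sylow.ofCard (Subgroup.zpowers γ) (by rw [Nat.card_zpowers, hγ, hfac, pow_one])
  let Q2 : Sylow 23 ↥Co0 :=
    Sylow.ofCard (Subgroup.zpowers (permHom σ)) (by rw [Nat.card_zpowers, ho', hfac, pow_one])
  obtain ⟨h, hh⟩ := MulAction.exists_smul_eq ↥Co0 Q1 Q2
  have hh' : (Subgroup.zpowers γ).map (MulAut.conj h).toMonoidHom = Subgroup.zpowers (permHom σ) :=
    congrArg (fun Q : Sylow 23 ↥Co0 => (Q : Subgroup ↥Co0)) hh
  obtain ⟨p, hp, he⟩ : permHom σ ∈ (Subgroup.zpowers γ).map (MulAut.conj h).toMonoidHom :=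
    hh' ▸ Subgroup.mem_zpowers _
  have hpfix : ∀ z : ↥leechLattice, γ • z = z → p • z = z := fun z hz =>
    (Subgroup.zpowers_le.2 (show γ ∈ stabilizer ↥Co0 z from hz) hp : p ∈ stabilizer ↥Co0 z)
  have key : ∀ z : ↥leechLattice, sqNorm (z : Vec) = 32 → γ • z = z → h • z = omegaElt ∨ h • z = -omegaElt :=
    fun z hz hfz => std_fixed hσ ((norm_smul' h z).trans hz) (by
      rw [← he]
      show (h * p * h⁻¹) • h • z = h • z
      rw [mul_smul, mul_smul, inv_smul_smul, hpfix z hfz])
  rcases key x hx hf with a | a <;> rcases key x' hx' hf' with b | b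
  · exact Or.inl (smul_left_cancel h (b.trans a.symm))
  · exact Or.inr (smul_left_cancel h (by rw [smul_neg', a, b]))
  · exact Or.inr (smul_left_cancel h (by rw [smul_neg', a, b, neg_neg]))
  · exact Or.inl (smul_left_cancel h (b.trans a.symm))

/-! ### a fixed vector -/

variable (χ : ↥M24 →* ↥Co0)

theorem exists_fixed (hχ : Function.Injective χ) :
    ∃ s : ↥leechLattice, s ≠ 0 ∧ ∀ u, χ u • s = s := by
  classical
  have : Fact (Nat.Prime 23) := ⟨by norm_num⟩
  let S : Type := {x : ↥leechLattice // sqNorm (x : Vec) = 32}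
  letI : MulAction ↥M24 S :=
    { smul := fun u x => ⟨χ u • x.1, (norm_smul' _ _).trans x.2⟩
      one_smul := fun x => Subtype.ext (show χ 1 • x.1 = x.1 by rw [map_one, one_smul])
      mul_smul := fun a b x => Subtype.ext (show χ (a * b) • x.1 = χ a • χ b • x.1 by rw [map_mul, mul_smul]) }
  have hSc : Nat.card S = 196560 := by
    rw [← count32, ← Nat.card_coe_set_eq]
    exact Nat.card_congr
      { toFun := fun x => ⟨(x.1 : Vec), x.1.2, x.2⟩
        invFun := fun y => ⟨⟨y.1, y.2.1⟩, y.2.2⟩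
        left_inv := fun _ => rfl
        right_inv := fun _ => rfl }
  haveI : Finite S := Nat.finite_of_card_ne_zero (by rw [hSc]; norm_num)
  haveI : Finite ↥M24 := Nat.finite_of_card_ne_zero (by rw [M24_card]; norm_num)
  obtain ⟨g, hg⟩ := exists_prime_orderOf_dvd_card' (G := ↥M24) 23 (by rw [M24_card]; norm_num)
  let P := Subgroup.zpowers g
  have hPc : Nat.card ↥P = 23 := by rw [Nat.card_zpowers, hg]
  obtain ⟨x, hx⟩ : ∃ x : S, x ∈ fixedPoints ↥P S := by
    have h := (IsPGroup.of_card (n := 1) (by rw [hPc, pow_one]) : IsPGroup 23 ↥P).card_modEq_card_fixedPoints S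
    by_contra hcon
    push Not at hcon
    haveI : IsEmpty (fixedPoints ↥P S) := ⟨fun a => hcon a.1 a.2⟩
    rw [hSc, Nat.card_of_isEmpty] at h
    norm_num [Nat.ModEq] at h
  have hgo : orderOf (χ g) = 23 := by rw [orderOf_injective _ hχ, hg]
  have hgx : χ g • x.1 = x.1 := congrArg Subtype.val (hx ⟨g, Subgroup.mem_zpowers g⟩)
  -- the orbit does not contain the opposite vector
  have hneg : ∀ u : ↥M24, χ u • x.1 ≠ -x.1 := by
    intro u hu
    set H := stabilizer ↥M24 x with hH
    have hgH : g ∈ H := hx ⟨g, Subgroup.mem_zpowers g⟩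
    have huH : u⁻¹ * g * u ∈ H := by
      refine Subtype.ext ?_
      show χ (u⁻¹ * g * u) • x.1 = x.1
      rw [map_mul, map_mul, map_inv, mul_smul, mul_smul, hu, smul_neg', hgx, inv_smul_eq_iff, hu]
    have ho : orderOf (⟨g, hgH⟩ : ↥H) = 23 := by rw [Subgroup.orderOf_mk, hg]
    have ho' : orderOf (⟨u⁻¹ * g * u, huH⟩ : ↥H) = 23 := by
      rw [Subgroup.orderOf_mk, show u⁻¹ * g * u = MulAut.conj u⁻¹ g by simp, MulEquiv.orderOf_eq, hg]
    have hfac : (Nat.card ↥H).factorization 23 = 1 := by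
      obtain ⟨q, hq⟩ := ho ▸ orderOf_dvd_natCard (⟨g, hgH⟩ : ↥H)
      have hd : Nat.card ↥H ∣ 244823040 := M24_card ▸ Subgroup.card_subgroup_dvd_card H
      have hq23 : ¬ 23 ∣ q := fun ⟨r, hr⟩ => by
        have : 23 * 23 ∣ 244823040 := dvd_trans ⟨r, by rw [hq, hr]; ring⟩ hd
        norm_num at this
      rw [hq, Nat.factorization_mul (by norm_num) (by rintro rfl; simp at hq23), Finsupp.add_apply,
        Nat.Prime.factorization_self (by norm_num), Nat.factorization_eq_zero_of_not_dvd hq23]
    let Q1 : Sylow 23 ↥H := Sylow.ofCard (Subgroup.zpowers ⟨g, hgH⟩) (by rw [Nat.card_zpowers, ho, hfac, pow_one])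
    let Q2 : Sylow 23 ↥H := Sylow.ofCard (Subgroup.zpowers ⟨_, huH⟩) (by rw [Nat.card_zpowers, ho', hfac, pow_one])
    obtain ⟨h, hh⟩ := MulAction.exists_smul_eq ↥H Q1 Q2
    have hh' : (Subgroup.zpowers (⟨g, hgH⟩ : ↥H)).map (MulAut.conj h).toMonoidHom =
        Subgroup.zpowers ⟨u⁻¹ * g * u, huH⟩ := congrArg (fun Q : Sylow 23 ↥H => (Q : Subgroup ↥H)) hh
    set N := Subgroup.normalizer (P : Set ↥M24) with hN
    have hn : u * h.1 ∈ N := by
      refine Subgroup.mem_normalizer_iff_map_conj_eq.2 (Subgroup.eq_of_le_of_card_ge ?_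
        (le_of_eq (Subgroup.card_map_of_injective (MulAut.conj _).injective).symm))
      rintro _ ⟨p, hp, rfl⟩
      have hpz : (⟨p, Subgroup.zpowers_le.2 hgH hp⟩ : ↥H) ∈ Subgroup.zpowers (⟨g, hgH⟩ : ↥H) := by
        obtain ⟨i, rfl⟩ := Subgroup.mem_zpowers_iff.1 hp
        exact ⟨i, Subtype.ext (by simp)⟩
      have hm := hh' ▸ Subgroup.mem_map_of_mem (MulAut.conj h).toMonoidHom hpz
      obtain ⟨i, hi⟩ := Subgroup.mem_zpowers_iff.1 hm
      refine Subgroup.mem_zpowers_iff.2 ⟨i, ?_⟩
      have hi' := congrArg Subtype.val hi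
      simp only [MulEquiv.coe_toMonoidHom, MulAut.conj_apply, Subgroup.coe_mul, Subgroup.coe_inv,
        SubgroupClass.coe_zpow] at hi'
      rw [show (u⁻¹ * g * u) ^ i = u⁻¹ * g ^ i * u by
        rw [show u⁻¹ * g * u = MulAut.conj u⁻¹ g by simp, ← map_zpow]; simp] at hi'
      calc g ^ i = u * (u⁻¹ * g ^ i * u) * u⁻¹ := by group
        _ = u * h.1 * p * (u * h.1)⁻¹ := by rw [hi']; group
    have hodd : Nat.card ↥N = 253 := by
      have hS : Nat.card ↥P = 23 ^ (Nat.card ↥M24).factorization 23 := by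
        rw [hPc, M24_card, show (244823040 : ℕ) = 23 ^ 1 * 10644480 from rfl,
          Nat.factorization_mul (by norm_num) (by norm_num), Finsupp.add_apply, Nat.factorization_pow,
          Finsupp.smul_apply, Nat.Prime.factorization_self (by norm_num),
          Nat.factorization_eq_zero_of_not_dvd (by norm_num)]
        rfl
      have hcount : Nat.card (Sylow 23 ↥M24) = N.index := (Sylow.ofCard _ hS).card_eq_index_normalizer
      have hm := N.card_mul_index
      rw [← hcount, CoThreeOut.sylow_count_twenty_three, M24_card] at hm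
      omega
    set n := u * h.1 with hn'
    have hnx : χ n • x.1 = -x.1 := by
      rw [hn', map_mul, mul_smul, show χ h.1 • x.1 = x.1 from congrArg Subtype.val h.2, hu]
    have hpow : n ^ 253 = 1 := by
      rw [← hodd]
      have := pow_card_eq_one' (G := ↥N) (x := ⟨n, hn⟩)
      have h' := congrArg Subtype.val this
      rw [Subgroup.coe_pow, Subgroup.coe_one] at h'
      exact h'
    have h2 : χ (n ^ 2) • x.1 = x.1 := by
      rw [pow_two, map_mul, mul_smul, hnx, smul_neg', hnx, neg_neg]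
    have h253 : χ (n ^ 253) • x.1 = -x.1 := by
      rw [show 253 = 2 * 126 + 1 from rfl, pow_succ, map_mul, mul_smul, hnx, pow_mul, map_pow, smul_neg']
      congr 1
      exact smul_pow_fix _ _ h2 126
    rw [hpow, map_one, one_smul] at h253
    have h0 := congrArg (fun z : ↥leechLattice => dotInt (x.1 : Vec) (z : Vec)) h253
    simp only [AddSubgroup.coe_neg, dot_neg_right, dot_self, x.2] at h0
    norm_num at h0
  haveI : Fintype ↥(orbit ↥M24 x) := Fintype.ofFinite _
  let f : ↥(orbit ↥M24 x) → ℤ := fun y => dotInt (x.1 : Vec) (y.1.1 : Vec)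
  have hPf : ∀ (p : ↥P) (y : ↥(orbit ↥M24 x)), f (p • y) = f y := fun p y => by
    show dotInt (x.1 : Vec) ((χ p.1 • y.1.1 : ↥leechLattice) : Vec) = _
    rw [← congrArg Subtype.val (hx p)]
    show dotInt ((χ p.1 • x.1 : ↥leechLattice) : Vec) _ = _
    rw [dot_smul']
  have hdiv := sum_modEq_fixed hPc f hPf
  rw [show Finset.univ.filter (· ∈ fixedPoints ↥P ↥(orbit ↥M24 x)) = {⟨x, mem_orbit_self x⟩} by
    ext y
    simp only [Finset.mem_filter, Finset.mem_univ, true_and, Finset.mem_singleton]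
    refine ⟨fun hy => ?_, fun e p => ?_⟩
    · have hy' : χ g • y.1.1 = y.1.1 :=
        congrArg (fun z : ↥(orbit ↥M24 x) => z.1.1) (hy ⟨g, Subgroup.mem_zpowers g⟩)
      rcases fixed_pair hgo x.2 y.1.2 hgx hy' with e | e
      · exact Subtype.ext (Subtype.ext e)
      · obtain ⟨u, hu⟩ := y.2
        exact absurd ((congrArg Subtype.val hu).trans e) (hneg u)
    · rw [e]; exact Subtype.ext (hx p), Finset.sum_singleton] at hdiv
  let s : ↥leechLattice := ∑ y : ↥(orbit ↥M24 x), y.1.1
  refine ⟨s, fun e => ?_, fun u => ?_⟩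
  · have h0 : ∑ y, f y = 0 := by
      have : dotInt (x.1 : Vec) (s : Vec) = 0 := by rw [e]; simp [dotInt]
      rw [← this]
      simp only [f, s, AddSubgroup.val_finsetSum, dotInt, Finset.sum_apply, Finset.mul_sum]
      rw [Finset.sum_comm]
    rw [h0, show f ⟨x, mem_orbit_self x⟩ = 32 from (dot_self _).trans x.2] at hdiv
    norm_num at hdiv
  · show linOf (χ u) s = s
    simp only [s, map_sum]
    exact Fintype.sum_bijective (fun y : ↥(orbit ↥M24 x) => u • y) (MulAction.bijective u) _ _ fun y => rfl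
where
  smul_pow_fix (a : ↥Co0) (z : ↥leechLattice) (h : a • z = z) : ∀ k : ℕ, a ^ k • z = z := fun k => by
    induction k with
    | zero => rw [pow_zero, one_smul]
    | succ k ih => rw [pow_succ, mul_smul, h, ih]

theorem index_two {H : Subgroup ↥M24} (h : H.index ≤ 2) (h0 : H.index ≠ 0) : H = ⊤ := by
  haveI := M24_isSimple
  rcases (show H.index = 1 ∨ H.index = 2 by omega) with e | e
  · exact Subgroup.index_eq_one.1 e
  · rcases (Subgroup.normal_of_index_eq_two e).eq_bot_or_eq_top with h' | h'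
    · rw [h', Subgroup.index_bot, M24_card] at e
      omega
    · exact h'

/-- A point fixed by the M22 of a base point other than the base is impossible. -/
theorem no_point_map {Y : Type*} [MulAction ↥M24 Y] (y : Y) (P : Y → Prop)
    (hP : ∀ u : ↥M24, ∀ z, P z → P (u • z)) (hy : P y) (hyfix : ∀ u : ↥M23pt, (u : ↥M24) • y = y)
    (honly : ∀ z, P z → (∀ u : ↥M23pt, u.1.1 (some 0) = some 0 → (u : ↥M24) • z = z) → z = y) :
    ∀ u : ↥M24, u • y = y := by
  classical
  obtain ⟨t, ht⟩ := exists_map_list (xs := [none]) (ys := [some 0]) (by simp) (by simp) rfl (by simp)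
  simp only [List.map_cons, List.map_nil, List.cons.injEq, and_true] at ht
  have hty : t • y = y := by
    refine honly _ (hP t y hy) fun u hu => ?_
    have hm : t⁻¹ * u.1 * t ∈ M23pt := by
      show (t⁻¹ * u.1 * t) • (none : GolayPt) = none
      rw [mul_smul, mul_smul, show t • (none : GolayPt) = some 0 from ht, show u.1 • (some 0 : GolayPt) = some 0 from hu,
        inv_smul_eq_iff]
      exact ht.symm
    have e : (t⁻¹ * u.1 * t) • y = y := hyfix ⟨_, hm⟩
    rw [mul_smul, mul_smul, inv_smul_eq_iff] at e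
    exact e
  intro u
  by_cases hu : u • (none : GolayPt) = none
  · exact hyfix ⟨u, hu⟩
  obtain ⟨v, hv⟩ := exists_map_list (xs := [none, u • (none : GolayPt)]) (ys := [none, some 0])
    (by simpa using Ne.symm hu) (by simp) rfl (by simp)
  simp only [List.map_cons, List.map_nil, List.cons.injEq, and_true] at hv
  have hm : t⁻¹ * v * u ∈ M23pt := by
    show (t⁻¹ * v * u) • (none : GolayPt) = none
    rw [mul_smul, mul_smul, show v • u • (none : GolayPt) = some 0 from hv.2, inv_smul_eq_iff]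
    exact ht.symm
  have e : (t⁻¹ * v * u) • y = y := hyfix ⟨_, hm⟩
  rw [mul_smul, mul_smul, inv_smul_eq_iff, hty] at e
  have hv' : v • y = y := hyfix ⟨v, hv.1⟩
  exact smul_left_cancel v (e.trans hv'.symm)

theorem shape_sum (x : Vec) {c : ℤ} (h : ∀ i : GolayPt, i ≠ none → i ≠ some 0 → x i = c) (F : GolayPt → ℤ → ℤ) :
    ∑ i, F i (x i) = F none (x none) + F (some 0) (x (some 0)) +
      ∑ i ∈ (Finset.univ : Finset GolayPt) \ {none, some 0}, F i c := by
  rw [← Finset.sum_sdiff (f := fun i => F i (x i)) (Finset.subset_univ ({none, some 0} : Finset GolayPt)),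
    Finset.sum_pair (by simp), add_comm]
  refine congrArg _ (Finset.sum_congr rfl fun i hi => ?_)
  simp only [Finset.mem_sdiff, Finset.mem_insert, Finset.mem_singleton, not_or] at hi
  rw [h i hi.2.1 hi.2.2]

theorem const_of_fixed {x : ↥leechLattice}
    (h : ∀ u : ↥M23pt, u.1.1 (some 0) = some 0 → permHom u.1 • x = x) :
    ∀ i : GolayPt, i ≠ none → i ≠ some 0 → (x : Vec) i = (x : Vec) (some 1) := by
  intro i hi hi0
  obtain ⟨π, hπ⟩ := exists_map_list (xs := [none, some 0, some 1]) (ys := [none, some 0, i])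
    (by decide) (by simp [Ne.symm hi, Ne.symm hi0]) rfl (by simp)
  simp only [List.map_cons, List.map_nil, List.cons.injEq, and_true] at hπ
  have e := congrArg (fun z : ↥leechLattice => (z : Vec) i) (h ⟨π, hπ.1⟩ hπ.2.1)
  change (x : Vec) (π.1.symm i) = (x : Vec) i at e
  rw [show π.1.symm i = some 1 from π.1.symm_apply_eq.2 hπ.2.2.symm] at e
  exact e.symm

theorem rest_card : ((Finset.univ : Finset GolayPt) \ {none, some 0}).card = 22 := by decide

/-- In both shells the M22 fixes only the base. -/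
theorem only_five {x : ↥leechLattice} (hn : sqNorm (x : Vec) = 48)
    (hd : dotInt (omegaElt : Vec) (x : Vec) = 8)
    (h : ∀ u : ↥M23pt, u.1.1 (some 0) = some 0 → permHom u.1 • x = x) : x = fiveElt := by
  have hc := const_of_fixed h
  set a := (x : Vec) none
  set b := (x : Vec) (some 0)
  set c := (x : Vec) (some 1)
  have hn' : a ^ 2 + b ^ 2 + 22 * c ^ 2 = 48 := by
    rw [← hn, sqNorm, shape_sum _ hc fun _ t => t ^ 2, Finset.sum_const, rest_card]
    simp; rfl
  have hd' : -3 * a + b + 22 * c = 8 := by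
    rw [← hd, dotInt, shape_sum _ hc fun i t => (omegaElt : Vec) i * t,
      Finset.sum_congr rfl (g := fun _ => c) fun i hi => by
        simp only [Finset.mem_sdiff, Finset.mem_insert, Finset.mem_singleton, not_or] at hi
        rw [show (omegaElt : Vec) i = _ from omega_shape i, if_neg hi.2.1, one_mul],
      Finset.sum_const, rest_card, show (omegaElt : Vec) none = _ from omega_shape none,
      show (omegaElt : Vec) (some 0) = _ from omega_shape (some 0)]
    simp; rfl
  have hc1 : -1 ≤ c ∧ c ≤ 1 := ⟨by nlinarith [sq_nonneg a, sq_nonneg b], by nlinarith [sq_nonneg a, sq_nonneg b]⟩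
  have hab : a = 5 ∧ b = 1 ∧ c = 1 := by
    have hb : b = 8 + 3 * a - 22 * c := by omega
    rw [hb] at hn'
    obtain ⟨hc2, hc3⟩ := hc1
    have ha1 : -8 ≤ a ∧ a ≤ 8 := ⟨by nlinarith [sq_nonneg (8 + 3 * a - 22 * c)], by nlinarith [sq_nonneg (8 + 3 * a - 22 * c)]⟩
    obtain ⟨ha2, ha3⟩ := ha1
    interval_cases c <;> interval_cases a <;> first | omega | (norm_num at hn')
  refine Subtype.ext (funext fun i => ?_)
  show (x : Vec) i = pv kFive i
  rw [five_shape]
  by_cases hi : i = none
  · rw [hi, if_pos rfl]; exact hab.1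
  rw [if_neg hi]
  by_cases hi0 : i = some 0
  · rw [hi0]; exact hab.2.1
  · rw [hc i hi hi0]; exact hab.2.2

theorem only_omega {x : ↥leechLattice} (hn : sqNorm (x : Vec) = 32)
    (hd : dotInt (fiveElt : Vec) (x : Vec) = 8)
    (h : ∀ u : ↥M23pt, u.1.1 (some 0) = some 0 → permHom u.1 • x = x) : x = omegaElt := by
  have hc := const_of_fixed h
  set a := (x : Vec) none
  set b := (x : Vec) (some 0)
  set c := (x : Vec) (some 1)
  have hn' : a ^ 2 + b ^ 2 + 22 * c ^ 2 = 32 := by
    rw [← hn, sqNorm, shape_sum _ hc fun _ t => t ^ 2, Finset.sum_const, rest_card]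
    simp; rfl
  have hd' : 5 * a + b + 22 * c = 8 := by
    rw [← hd, dotInt, shape_sum _ hc fun i t => (fiveElt : Vec) i * t,
      show (fiveElt : Vec) = pv kFive from rfl,
      Finset.sum_congr rfl (g := fun _ => c) fun i hi => by
        simp only [Finset.mem_sdiff, Finset.mem_insert, Finset.mem_singleton, not_or] at hi
        rw [five_shape, if_neg hi.2.1, one_mul],
      Finset.sum_const, rest_card, five_shape, five_shape]
    simp; rfl
  have hc1 : -1 ≤ c ∧ c ≤ 1 := ⟨by nlinarith [sq_nonneg a, sq_nonneg b], by nlinarith [sq_nonneg a, sq_nonneg b]⟩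
  have hab : a = -3 ∧ b = 1 ∧ c = 1 := by
    have hb : b = 8 - 5 * a - 22 * c := by omega
    rw [hb] at hn'
    obtain ⟨hc2, hc3⟩ := hc1
    have ha1 : -6 ≤ a ∧ a ≤ 6 := ⟨by nlinarith [sq_nonneg (8 - 5 * a - 22 * c)], by nlinarith [sq_nonneg (8 - 5 * a - 22 * c)]⟩
    obtain ⟨ha2, ha3⟩ := ha1
    interval_cases c <;> interval_cases a <;> first | omega | (norm_num at hn')
  refine Subtype.ext (funext fun i => ?_)
  show (x : Vec) i = pv 27729856879992518157740382617 i
  rw [omega_shape]
  by_cases hi : i = none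
  · rw [hi, if_pos rfl]; exact hab.1
  rw [if_neg hi]
  by_cases hi0 : i = some 0
  · rw [hi0]; exact hab.2.1
  · rw [hc i hi hi0]; exact hab.2.2

/-- M24 does not fit into the stabiliser of the standard pair of vectors. -/
theorem no_double {χ : ↥M24 →* ↥Co0} (hχ : Function.Injective χ)
    (h1 : ∀ u, χ u • omegaElt = omegaElt) (h2 : ∀ u, χ u • fiveElt = fiveElt) : False := by
  let χ' : ↥M24 →* ↥(fixGroup [omegaElt, fiveElt]) := χ.codRestrict _ fun u => mem_fixGroup.2 fun v hv => by
    simp only [List.mem_cons, List.not_mem_nil, or_false] at hv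
    rcases hv with rfl | rfl
    · exact h1 u
    · exact h2 u
  have h := Subgroup.card_dvd_of_injective χ' fun a b e => hχ (congrArg Subtype.val e)
  rw [fix_omega_five, Subgroup.card_map_of_injective permHom_injective, card_stab_point, M24_card] at h
  norm_num at h

/-- Conjugating the point stabiliser to the standard one. -/
theorem std_stab {χ : ↥M24 →* ↥Co0} (hχ : Function.Injective χ)
    (h1 : ∀ u : ↥M23pt, χ u.1 • omegaElt = omegaElt) (h2 : ∀ u : ↥M23pt, χ u.1 • fiveElt = fiveElt)
    {z : ↥leechLattice} (hz : ∀ u : ↥M23pt, u.1.1 (some 0) = some 0 → χ u.1 • z = z) :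
    ∃ β : ↥M23pt ≃* ↥M23pt, ∀ u : ↥M23pt, χ u.1 = permHom (β u).1 := by
  have hmem : ∀ u : ↥M23pt, χ u.1 ∈ (stabilizer ↥M24 (none : GolayPt)).map permHom := fun u => by
    rw [← fix_omega_five]
    refine mem_fixGroup.2 fun v hv => ?_
    simp only [List.mem_cons, List.not_mem_nil, or_false] at hv
    rcases hv with rfl | rfl
    · exact h1 u
    · exact h2 u
  choose b hb hbe using hmem
  let f : ↥M23pt →* ↥M23pt :=
    { toFun := fun u => ⟨b u, hb u⟩
      map_one' := Subtype.ext (permHom_injective (by rw [hbe]; simp))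
      map_mul' := fun u v => Subtype.ext (permHom_injective (by
        rw [hbe, Subgroup.coe_mul, map_mul, ← hbe u, ← hbe v]; exact (map_mul permHom _ _).symm)) }
  haveI : Finite ↥M23pt := Nat.finite_of_card_ne_zero (by rw [card_M23pt]; norm_num)
  have hf : Function.Injective f := fun u v e => by
    have e' : b u = b v := congrArg Subtype.val e
    exact Subtype.ext (hχ (by rw [← hbe u, ← hbe v, e']))
  exact ⟨MulEquiv.ofBijective f (Finite.injective_iff_bijective.1 hf), fun u => (hbe u).symm⟩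

/-- A copy of M24 fixes no vector of squared length 32 or 48. -/
theorem no_short (hχ : Function.Injective χ) {y : ↥leechLattice} (hy : sqNorm (y : Vec) = 32 ∨ sqNorm (y : Vec) = 48)
    (hfy : ∀ u, χ u • y = y) : False := by
  classical
  let ψ : ↥M23pt →* ↥Co0 := χ.comp M23pt.subtype
  have hψ : Function.Injective ψ := hχ.comp M23pt.subtype_injective
  obtain ⟨a, h1, h2, hfixv⟩ : ∃ a : ↥Co0, (∀ u : ↥M23pt, (a * χ u.1 * a⁻¹) • omegaElt = omegaElt) ∧
      (∀ u : ↥M23pt, (a * χ u.1 * a⁻¹) • fiveElt = fiveElt) ∧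
      ((∀ u : ↥M24, (a * χ u * a⁻¹) • omegaElt = omegaElt) ∨ ∀ u : ↥M24, (a * χ u * a⁻¹) • fiveElt = fiveElt) := by
    have hc : ∀ (a : ↥Co0) (g : ↥Co0) (v : ↥leechLattice), g • v = v → (a * g * a⁻¹) • a • v = a • v :=
      fun a g v hg => by rw [mul_smul, mul_smul, inv_smul_smul, hg]
    rcases hy with hy | hy
    · obtain ⟨z, hzn, hzd, hfz⟩ := CoTwoOut.exists_fixed_vector ψ hψ hy fun u => hfy u.1
      obtain ⟨a, ha⟩ := to_five hzn
      have hmem : a • y ∈ DS [(fiveElt, (8 : ℤ))] := ⟨(norm_smul' a y).trans hy, by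
        simp only [List.forall_mem_cons]
        exact ⟨by rw [← ha, dot_smul']; exact hzd, by simp⟩⟩
      obtain ⟨b, hb, hbf⟩ := eight_set.2.1 _ hmem omegaElt omega_mem
      have e1 : (b * a) • y = omegaElt := by rw [mul_smul]; exact hb
      have e2 : (b * a) • z = fiveElt := by rw [mul_smul, ha, hbf _ List.mem_cons_self]
      refine ⟨b * a, fun u => ?_, fun u => ?_, Or.inl fun u => ?_⟩
      · rw [← e1]; exact hc _ _ _ (hfy u.1)
      · rw [← e2]; exact hc _ _ _ (hfz u)
      · rw [← e1]; exact hc _ _ _ (hfy u)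
    · obtain ⟨a, ha⟩ := to_five hy
      let ψ' : ↥M23pt →* ↥CoThreeOut.G3 := ((MulAut.conj a).toMonoidHom.comp ψ).codRestrict _ fun u =>
        mem_fixGroup.2 fun v hv => by
          simp only [List.mem_cons, List.not_mem_nil, or_false] at hv
          rw [hv, ← ha]
          exact hc _ _ _ (hfy u.1)
      obtain ⟨z, hz, hfz⟩ := CoThreeOut.exists_fixed_vector ψ' fun u v e =>
        hψ ((MulAut.conj a).injective (congrArg Subtype.val e))
      obtain ⟨b, hb, hbf⟩ := eight_set.2.1 z hz omegaElt omega_mem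
      have e2 : (b * a) • y = fiveElt := by rw [mul_smul, ha, hbf _ List.mem_cons_self]
      have e1 : (b * a) • a⁻¹ • z = omegaElt := by rw [mul_smul, smul_inv_smul]; exact hb
      refine ⟨b * a, fun u => ?_, fun u => ?_, Or.inr fun u => ?_⟩
      · rw [← e1]
        refine hc _ _ _ (smul_left_cancel a ?_)
        have h' : (a * χ u.1 * a⁻¹) • z = z := hfz u
        rw [mul_smul, mul_smul] at h'
        rw [smul_inv_smul]
        exact h'
      · rw [← e2]; exact hc _ _ _ (hfy u.1)
      · rw [← e2]; exact hc _ _ _ (hfy u)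
  let χa : ↥M24 →* ↥Co0 := (MulAut.conj a).toMonoidHom.comp χ
  have hχa : Function.Injective χa := (MulAut.conj a).injective.comp hχ
  obtain ⟨β, hβ⟩ := std_stab hχa h1 h2 (z := omegaElt) fun u _ => h1 u
  let α : MulAut ↥Spor.M23 := (sporM23Equiv.symm.trans β).trans sporM23Equiv
  obtain ⟨m, hm⟩ := MathieuAut.M23_aut_inner α
  set m₀ : ↥M23pt := sporM23Equiv.symm m
  have hβm : ∀ u : ↥M23pt, β u = m₀ * u * m₀⁻¹ := fun u => by
    have := congrArg (fun f : MulAut ↥Spor.M23 => sporM23Equiv.symm (f (sporM23Equiv u))) hm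
    simp only [α, MulEquiv.trans_apply, MulEquiv.symm_apply_apply, MulAut.conj_apply, map_mul, map_inv] at this
    exact this.symm
  -- the two-point stabilisers, after undoing the automorphism
  letI : MulAction ↥M24 ↥leechLattice := MulAction.compHom _
    ((MulAut.conj (permHom m₀.1)⁻¹).toMonoidHom.comp χa)
  have hsm : ∀ (u : ↥M24) (v : ↥leechLattice), u • v = (permHom m₀.1)⁻¹ • (a * χ u * a⁻¹) • permHom m₀.1 • v := by
    intro u v
    show ((permHom m₀.1)⁻¹ * (a * χ u * a⁻¹) * ((permHom m₀.1)⁻¹)⁻¹) • v = _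
    rw [inv_inv, mul_smul, mul_smul]
  have hperm : ∀ (u : ↥M23pt) (v : ↥leechLattice), (u : ↥M24) • v = permHom u.1 • v := by
    intro u v
    have e : a * χ u.1 * a⁻¹ = permHom (β u).1 := hβ u
    rw [hsm, e, ← mul_smul, ← mul_smul, ← map_inv, ← map_mul, ← map_mul, hβm]
    congr 2
    simp only [Subgroup.coe_mul, Subgroup.coe_inv]
    group
  have mω : permHom m₀.1 • omegaElt = omegaElt := perm_fix_omega m₀.2
  have m5 : permHom m₀.1 • fiveElt = fiveElt := perm_fix_five m₀.2
  have hall : (∀ u : ↥M24, u • omegaElt = omegaElt) ∧ ∀ u : ↥M24, u • fiveElt = fiveElt := by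
    rcases hfixv with hv | hv
    · have hω : ∀ u : ↥M24, u • omegaElt = omegaElt := fun u => by
        rw [hsm, mω, hv u, inv_smul_eq_iff, mω]
      refine ⟨hω, no_point_map fiveElt
        (fun z : ↥leechLattice => sqNorm (z : Vec) = 48 ∧ dotInt (omegaElt : Vec) (z : Vec) = 8) (fun u z hz => ?_)
        ⟨fiveElt_norm, show dotInt (pv 27729856879992518157740382617) (pv kFive) = 8 by decide +kernel⟩
        (fun u => by rw [hperm]; exact perm_fix_five u.2)
        (fun z hz h => only_five hz.1 hz.2 fun u hu => (hperm u z).symm.trans (h u hu))⟩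
      refine ⟨by rw [hsm, norm_smul', norm_smul', norm_smul']; exact hz.1, ?_⟩
      conv_lhs => rw [← hω u]
      rw [hsm, hsm, dot_smul', dot_smul', dot_smul']
      exact hz.2
    · have h5 : ∀ u : ↥M24, u • fiveElt = fiveElt := fun u => by
        rw [hsm, m5, hv u, inv_smul_eq_iff, m5]
      refine ⟨no_point_map omegaElt
        (fun z : ↥leechLattice => sqNorm (z : Vec) = 32 ∧ dotInt (fiveElt : Vec) (z : Vec) = 8) (fun u z hz => ?_)
        ⟨omega_mem.1, omega_mem.2 _ List.mem_cons_self⟩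
        (fun u => by rw [hperm]; exact perm_fix_omega u.2)
        (fun z hz h => only_omega hz.1 hz.2 fun u hu => (hperm u z).symm.trans (h u hu)), h5⟩
      refine ⟨by rw [hsm, norm_smul', norm_smul', norm_smul']; exact hz.1, ?_⟩
      conv_lhs => rw [← h5 u]
      rw [hsm, hsm, dot_smul', dot_smul', dot_smul']
      exact hz.2
  refine no_double (χ := (MulAut.conj (permHom m₀.1)⁻¹).toMonoidHom.comp χa) ?_ hall.1 hall.2
  exact (MulAut.conj _).injective.comp hχa

/-- A copy of M24 normalises a frame, after conjugation. -/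
theorem exists_frame (hχ : Function.Injective χ) : ∃ a : ↥Co0, ∀ u, a * χ u * a⁻¹ ∈ crossStab := by
  classical
  obtain ⟨s, hs0, hfs⟩ := exists_fixed χ hχ
  let Q : ℕ → Prop := fun n => ∃ w : ↥leechLattice, (∀ u, χ u • w = w) ∧ w ≠ 0 ∧ (sqNorm (w : Vec)).toNat = n
  have hQ : ∃ n, Q n := ⟨_, s, hfs, hs0, rfl⟩
  obtain ⟨w, hfw, hw0, hn⟩ := Nat.find_spec hQ
  have hA : ∀ z : ↥leechLattice, w ≠ (2 : ℕ) • z := by
    intro z hz
    have hz0 : z ≠ 0 := fun e => hw0 (by rw [hz, e, smul_zero])
    have hfz : ∀ u, χ u • z = z := fun u => nsmul_lattice_inj two_ne_zero (by rw [← smul_nsmul', ← hz, hfw u])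
    have h := Nat.find_min' hQ (⟨z, hfz, hz0, rfl⟩ : Q _)
    have e : sqNorm (w : Vec) = 4 * sqNorm (z : Vec) := by rw [hz, AddSubmonoidClass.coe_nsmul, norm_smul_two]
    have := (norm_gap z).resolve_left hz0
    omega
  obtain ⟨y0, hy0, hyn, z0, hz0, e0⟩ := exists_short_rep w.2
  set y : ↥leechLattice := ⟨y0, hy0⟩
  have hwy : w - y = (2 : ℕ) • (⟨z0, hz0⟩ : ↥leechLattice) := Subtype.ext e0
  have hy0' : y ≠ 0 := fun e => hA _ (by rw [← hwy, e, sub_zero])
  have hdiv : (16 : ℤ) ∣ sqNorm (y : Vec) := norm_dvd (mem_iff.1 y.2)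
  have h32 : 32 ≤ sqNorm (y : Vec) := (norm_gap y).resolve_left hy0'
  have hcong : ∀ g, ∃ z : ↥leechLattice, χ g • y - y = (2 : ℕ) • z := fun g => by
    refine ⟨(⟨z0, hz0⟩ : ↥leechLattice) - χ g • ⟨z0, hz0⟩, ?_⟩
    rw [nsmul_sub, ← smul_nsmul', ← hwy, smul_sub', hfw g]
    abel
  rcases (show sqNorm (y : Vec) < 64 ∨ sqNorm (y : Vec) = 64 by
    change sqNorm y0 < 64 ∨ sqNorm y0 = 64; omega) with hlt | h64
  · exfalso
    refine no_short χ hχ (y := y) (by omega) fun u => ?_
    letI : MulAction ↥M24 ↥leechLattice := MulAction.compHom _ χ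
    have hsub : orbit ↥M24 y ⊆ ({y, -y} : Set ↥leechLattice) := by
      rintro _ ⟨g, rfl⟩
      obtain ⟨z, hz⟩ := hcong g
      have h := (short_congr (mem_iff.1 y.2) (mem_iff.1 z.2) (v := ((χ g • y : ↥leechLattice) : Vec))
        (by rw [norm_smul']; omega) (by omega) (congrArg Subtype.val hz)).2 (by rw [norm_smul']; exact hlt)
      rcases h with h | h
      · exact Or.inl (Subtype.ext h.symm)
      · refine Or.inr (Subtype.ext ?_)
        show ((χ g • y : ↥leechLattice) : Vec) = -(y : Vec)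
        rw [h, neg_neg]
    have hle : (orbit ↥M24 y).ncard ≤ 2 := by
      refine (Set.ncard_le_ncard hsub (Set.toFinite _)).trans ((Set.ncard_insert_le _ _).trans ?_)
      rw [Set.ncard_singleton]
    have hpos : (orbit ↥M24 y).ncard ≠ 0 :=
      Set.ncard_ne_zero_of_mem (mem_orbit_self y) (Set.Finite.subset (Set.toFinite _) hsub)
    have htop := index_two (H := stabilizer ↥M24 y) (by rw [index_stabilizer]; exact hle)
      (by rw [index_stabilizer]; exact hpos)
    exact (htop ▸ Subgroup.mem_top u : u ∈ stabilizer ↥M24 y)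
  · obtain ⟨hr, a, ha⟩ := orbit64 y.2 h64
    have hab : a • y = baseElt := Subtype.ext (by
      have h : ((a • y : ↥leechLattice) : Vec) = vecOf rv_eight := ha
      rw [h, rv_eight_eq]; rfl)
    refine ⟨a, fun g => ?_⟩
    rw [mem_crossStab, preserves_iff, mul_smul, mul_smul,
      show a⁻¹ • baseElt = y from inv_smul_eq_iff.2 hab.symm]
    refine (classOf_smul a (y := y) ?_).trans (by rw [hab]; rfl)
    obtain ⟨z, hz⟩ := hcong g
    exact (classOf_eq_iff (SetLike.coe_mem _) y.2).2 ⟨z.1, z.2, congrArg Subtype.val hz⟩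

/-! ### the signs -/

theorem cocode_tab : forallLt 4096 (fun j => Nat.beq j 0 ||
    !(cocodePerms.all fun p => inCode (Nat.xor (mimg p (Nat.shiftLeft j 12)) (Nat.shiftLeft j 12)))) = true := by
  decide +kernel

theorem cocode_ok {j : ℕ} (hj : j < 4096)
    (h : (cocodePerms.all fun p => inCode (Nat.xor (mimg p (Nat.shiftLeft j 12)) (Nat.shiftLeft j 12))) = true) :
    j = 0 := by
  have h' := forallLt_elim cocode_tab hj
  rw [h, Bool.not_true, Bool.or_false] at h'
  exact Nat.eq_of_beq_eq_true h'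

theorem cocode_aut : (cocodePerms.all isAut) = true := by decide +kernel

/-- The top twelve bits. -/
theorem low_zero {r : ℕ} (h : r &&& 4095 = 0) (h24 : r < 2 ^ 24) : ∃ j < 4096, r = Nat.shiftLeft j 12 := by
  have h0 : r % 4096 = 0 := by
    have e := Nat.and_two_pow_sub_one_eq_mod r 12
    norm_num at e
    rw [← e]; exact h
  refine ⟨r / 4096, by omega, ?_⟩
  rw [show Nat.shiftLeft (r / 4096) 12 = (r / 4096) <<< 12 from rfl, Nat.shiftLeft_eq]
  omega

theorem split_word {m : ℕ} (hm : m < 2 ^ 24) :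
    ∃ j k : ℕ, j < 4096 ∧ k < 4096 ∧ m = Nat.shiftLeft j 12 ^^^ enc k := by
  have hk : m &&& 4095 < 4096 := Nat.lt_of_le_of_lt Nat.and_le_right (by norm_num)
  have h1 : (m ^^^ enc (m &&& 4095)) &&& 4095 = 0 := by
    rw [Nat.and_xor_distrib_right, enc_land hk]
    exact Nat.xor_self _
  obtain ⟨j, hj, e⟩ := low_zero h1 (Nat.xor_lt_two_pow hm (enc_lt hk))
  refine ⟨j, m &&& 4095, hj, hk, ?_⟩
  rw [← e, Nat.xor_assoc, Nat.xor_self, Nat.xor_zero]

theorem xor_code {p x : ℕ} (h : inCode (mimg p x ^^^ x) = true) : inCode (Nat.xor (mimg p x) x) = true := h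

theorem mk_eq (X : Word) : maskOf (support₂ X) = mk X := by rw [ThreeTrans.Golay.mk]

theorem word_cancel (σ : Equiv.Perm GolayPt) (a b : Word) :
    act σ (a + b) + (a + b) - (act σ b + b) = act σ a + a := by
  funext i
  simp only [act, Pi.add_apply, Pi.sub_apply]
  ring

/-- A word moved into the code by every automorphism is in the code. -/
theorem code_of_invariant {N : Word} (h : ∀ π : ↥M24, act π.1 N + N ∈ golayCode) : N ∈ golayCode := by
  obtain ⟨j, k, hj, hk, e⟩ := split_word (ThreeTrans.Golay.mk_lt N)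
  have hc : wordOf (enc k) ∈ golayCode := mem_golayCode_iff.2 ⟨k, hk, rfl⟩
  have hN : N = wordOf (Nat.shiftLeft j 12) + wordOf (enc k) := by
    rw [← wordOf_xor, ← e, ThreeTrans.Golay.wordOf_mk]
  have hr24 : Nat.shiftLeft j 12 < 2 ^ 24 := by
    rw [show Nat.shiftLeft j 12 = j <<< 12 from rfl, Nat.shiftLeft_eq]
    omega
  have hj0 : j = 0 := by
    refine cocode_ok hj (List.all_eq_true.2 fun p hp => ?_)
    obtain ⟨π, hπ⟩ := exists_M24_elt (List.all_eq_true.1 cocode_aut p hp)
    have hsum : act π.1 (wordOf (Nat.shiftLeft j 12)) + wordOf (Nat.shiftLeft j 12) ∈ golayCode := by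
      have h1 := sub_mem (h π) (add_mem (ThreeTrans.Golay.act_code π.2 hc) hc)
      rw [hN, word_cancel] at h1
      exact h1
    have h2 := mem_golayCode.1 hsum
    rw [mk_eq, ThreeTrans.Golay.mk_add, ThreeTrans.Golay.mk_act hπ, ThreeTrans.Golay.mk_wordOf hr24] at h2
    exact xor_code h2
  rw [hN, hj0, show Nat.shiftLeft 0 12 = 0 from rfl, wordOf_zero, zero_add]
  exact hc

/-- Every copy of M24 is conjugate to the permutations. -/
theorem conj_to_perm (hχ : Function.Injective χ) : ∃ a : ↥Co0, ∀ u, a * χ u * a⁻¹ ∈ permHom.range := by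
  classical
  obtain ⟨a, ha⟩ := exists_frame χ hχ
  let χa : ↥M24 →* ↥Co0 := (MulAut.conj a).toMonoidHom.comp χ
  have hχa : Function.Injective χa := (MulAut.conj a).injective.comp hχ
  obtain ⟨s, hs0, hfs⟩ := exists_fixed χa hχa
  have hdec : ∀ u, ∃ (π : ↥M24) (w : Word) (hw : w ∈ golayCode), χa u = fl w hw * permHom π := fun u => by
    obtain ⟨σ, hσ, c, hc, e⟩ := exists_mono (mem_crossStab.1 (ha u))
    obtain ⟨-, hσ', w, hw, e'⟩ := (permOf_mono hσ hc).mono
    refine ⟨⟨σ, hσ'⟩, w, hw, ?_⟩
    show a * χ u * a⁻¹ = _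
    rw [e, e']
    rfl
  choose p w hw hp using hdec
  have hpo : ∀ u, PermOf (χa u) (p u).1 := fun u => by
    rw [hp u]
    have := (permOf_fl (hw u)).mul (permOf_perm (p u).2)
    rwa [one_mul] at this
  let σh : ↥M24 →* ↥M24 :=
    { toFun := p
      map_one' := Subtype.ext ((hpo 1).eq (by rw [map_one]; exact permOf_one))
      map_mul' := fun u v => Subtype.ext ((hpo (u * v)).eq (by rw [map_mul]; exact (hpo u).mul (hpo v))) }
  have hσi : Function.Injective σh := by
    haveI := M24_isSimple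
    rw [← MonoidHom.ker_eq_bot_iff]
    refine ((inferInstance : σh.ker.Normal).eq_bot_or_eq_top).resolve_right fun e => ?_
    have hcomm : ∀ u v : ↥M24, u * v = v * u := fun u v => hχa (by
      have eu : p u = 1 := MonoidHom.mem_ker.1 (e ▸ Subgroup.mem_top u : u ∈ σh.ker)
      have ev : p v = 1 := MonoidHom.mem_ker.1 (e ▸ Subgroup.mem_top v : v ∈ σh.ker)
      rw [map_mul, map_mul, hp u, hp v, eu, ev, map_one, mul_one, mul_one, ← fl_add, ← fl_add]
      simp only [add_comm])
    obtain ⟨π, hπ⟩ := exists_M24_elt cycle_ok.1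
    obtain ⟨t, ht⟩ := exists_map_list (xs := [none, pt 0]) (ys := [none, pt 2]) (by decide) (by decide) rfl (by simp)
    simp only [List.map_cons, List.map_nil, List.cons.injEq, and_true] at ht
    obtain ⟨t', ht'⟩ := exists_map_list (xs := [none]) (ys := [pt 1]) (by simp) (by simp) rfl (by simp)
    simp only [List.map_cons, List.map_nil, List.cons.injEq, and_true] at ht'
    have h1 := congrArg (fun z : ↥M24 => z • (none : GolayPt)) (hcomm π t')
    simp only [mul_smul] at h1
    rw [show π • (none : GolayPt) = none from ix_injective (by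
      show ix (π.1 none) = ix none
      rw [← hπ none]; exact cycle_ok.2.1), show t' • (none : GolayPt) = pt 1 from ht'] at h1
    have h2 : ix (π.1 (pt 1)) = 2 := by
      rw [← hπ, ix_pt (by norm_num)]; exact cycle_ok.2.2.1 1 (by norm_num)
    rw [show π.1 (pt 1) = pt 1 from h1, ix_pt (by norm_num)] at h2
    omega
  have hσs : Function.Surjective σh := by
    haveI : Finite ↥M24 := Nat.finite_of_card_ne_zero (by rw [M24_card]; norm_num)
    exact (Finite.injective_iff_bijective.1 hσi).2
  set N : Word := fun i => if (s : Vec) i < 0 then 1 else 0 with hN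
  have hcoord : ∀ u i, (s : Vec) i = if w u i ≠ 0 then -(s : Vec) ((p u).1.symm i) else (s : Vec) ((p u).1.symm i) := by
    intro u i
    have e := congrArg (fun z : ↥leechLattice => (z : Vec) i) (hfs u)
    rw [hp u, mul_smul] at e
    simp only [fl_apply, permHom_apply, permElt_apply] at e
    exact e.symm
  have habs : ∀ i j, |(s : Vec) i| = |(s : Vec) j| := by
    intro i j
    obtain ⟨π, hπ⟩ := exists_map_list (xs := [j]) (ys := [i]) (by simp) (by simp) rfl (by simp)
    simp only [List.map_cons, List.map_nil, List.cons.injEq, and_true] at hπ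
    obtain ⟨u, hu⟩ := hσs π
    have e := hcoord u i
    have hj : (p u).1.symm i = j := by
      rw [show p u = π from hu]
      exact π.1.symm_apply_eq.2 hπ.symm
    rw [hj] at e
    rw [e]
    split_ifs
    · rw [abs_neg]
    · rfl
  have hne : ∀ i, (s : Vec) i ≠ 0 := by
    intro i hi
    refine hs0 (Subtype.ext (funext fun j => ?_))
    have := habs j i
    rw [hi, abs_zero, abs_eq_zero] at this
    exact this
  have hwN : ∀ u, w u = N + act (p u).1 N := by
    intro u
    funext i
    have e := hcoord u i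
    have h1 := hne i
    have h2 := hne ((p u).1.symm i)
    have z : ∀ a : ZMod 2, a = 0 ∨ a = 1 := by decide
    simp only [hN, act, Pi.add_apply]
    rcases z (w u i) with hz | hz <;> rw [hz] at e ⊢ <;> simp at e <;>
      by_cases c1 : (s : Vec) i < 0 <;> by_cases c2 : (s : Vec) ((p u).1.symm i) < 0 <;> simp [c1, c2] <;>
      first | omega | decide
  have hNc : N ∈ golayCode := code_of_invariant fun π => by
    obtain ⟨u, rfl⟩ := hσs π
    show act (p u).1 N + N ∈ golayCode
    rw [add_comm, ← hwN u]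
    exact hw u
  refine ⟨fl N hNc * a, fun u => ⟨p u, ?_⟩⟩
  have hinv : (fl N hNc)⁻¹ = fl N hNc := inv_eq_of_mul_eq_one_left (by
    rw [← fl_add hNc hNc]; simp only [ThreeTrans.Golay.add_self]; exact fl_zero)
  have hsplit : fl (w u) (hw u) = fl N hNc * fl (act (p u).1 N) (ThreeTrans.Golay.act_code (p u).2 hNc) := by
    rw [← fl_add]
    congr 1
    exact hwN u
  calc permHom (p u) = fl N hNc * (fl N hNc * fl (act (p u).1 N) (ThreeTrans.Golay.act_code (p u).2 hNc) *
        permHom (p u)) * fl N hNc := by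
        rw [← fl_conj (p u).2 hNc, ← permHom_apply]
        have h2 : fl N hNc * fl N hNc = 1 := by rw [← fl_add hNc hNc]; simp only [ThreeTrans.Golay.add_self]; exact fl_zero
        calc permHom (p u) = fl N hNc * fl N hNc * permHom (p u) * (fl N hNc * fl N hNc) := by
              rw [h2, one_mul, mul_one]
          _ = _ := by group
    _ = _ := by
        rw [← hsplit, ← hp u, mul_inv_rev, hinv]
        show fl N hNc * (a * χ u * a⁻¹) * fl N hNc = _
        group

end CfsgLib.Sporadic.CoOneOut
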