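import Mathlib
import Cfsg.Prelude.Def_KGroupFacts
import Cfsg.Agent.Lib.Known.SL2Multiplier

/-!
# Splitting a central extension over a subgroup by deduction on a coset table

A table of a finite group on generators, with relators known to hold for chosen lifts, shows by
Todd-Coxeter style deductions that those lifts generate a complement.
-/

set_option autoImplicit false

namespace CfsgLib.Sporadic.Mult

open scoped commutatorElement

/-- Read the field of width 16. -/
def fget (n p : ℕ) : ℕ := (n >>> (16 * p)) &&& 65535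

structure Table where
  N : ℕ
  k : ℕ
  next : List ℕ
  word : List (List ℕ)
  tree : List (ℕ × ℕ)
  rels : List (List ℕ)
  steps : List (ℕ × ℕ × ℕ)

namespace Table

variable (D : Table)

def nx (p i : ℕ) : ℕ := fget (D.next.getD i 0) p

def wd (p : ℕ) : List ℕ := D.word.getD p []

def bit (e : ℕ × ℕ) : ℕ := e.1 * D.k + e.2

def mem (m : ℕ) (e : ℕ × ℕ) : Bool := decide (e.2 < D.k) && m.testBit (D.bit e)

def put (m : ℕ) (e : ℕ × ℕ) : ℕ := if e.2 < D.k then m ||| 2 ^ D.bit e else m

/-- Follow a word of known edges. -/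
def run (m : ℕ) : ℕ → List ℕ → Option ℕ
  | p, [] => some p
  | p, i :: l => if D.mem m (p, i) then run m (D.nx p i) l else none

def step (st : Option ℕ) (e : ℕ × ℕ × ℕ) : Option ℕ :=
  match st with
  | none => none
  | some m =>
    let W := D.rels.getD e.1 []
    match D.run m e.2.1 (W.take e.2.2) with
    | none => none
    | some v =>
      match W.drop e.2.2 with
      | [] => none
      | i :: l =>
        if D.run m (D.nx v i) l = some e.2.1 then some (D.put m (v, i)) else none

def treeMask : ℕ := D.tree.foldl D.put 0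

def full (m : ℕ) : Bool := (List.range D.N).all fun p => (List.range D.k).all fun i => D.mem m (p, i)

/-- All the checks on a table. -/
def ok : Bool :=
  decide (0 < D.N) && decide (D.wd 0 = []) &&
  (D.tree.all fun e => decide (e.2 < D.k) && decide (D.wd (D.nx e.1 e.2) = D.wd e.1 ++ [e.2])) &&
  ((List.range D.N).all fun p => (List.range D.k).all fun i => decide (D.nx p i < D.N)) &&
  match D.steps.foldl D.step (some D.treeMask) with
  | none => false
  | some m => D.full m

end Table

variable {Γ G : Type*} [Group Γ] [Group G]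

def wprod {M : Type*} [Monoid M] (T : ℕ → M) (w : List ℕ) : M := (w.map T).prod

theorem wprod_append {M : Type*} [Monoid M] (T : ℕ → M) (u v : List ℕ) :
    wprod T (u ++ v) = wprod T u * wprod T v := by
  simp [wprod]

theorem wprod_cons {M : Type*} [Monoid M] (T : ℕ → M) (i : ℕ) (v : List ℕ) :
    wprod T (i :: v) = T i * wprod T v := by
  simp [wprod]

theorem map_wprod {M N : Type*} [Monoid M] [Monoid N] (f : M →* N) (T : ℕ → M) (w : List ℕ) :
    f (wprod T w) = wprod (fun i => f (T i)) w := by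
  simp [wprod, map_list_prod, Function.comp_def]

/-- The known edges hold. -/
def Holds (D : Table) (T : ℕ → Γ) (m : ℕ) : Prop :=
  ∀ p i, D.mem m (p, i) = true → wprod T (D.wd p) * T i = wprod T (D.wd (D.nx p i))

theorem holds_put {D : Table} {T : ℕ → Γ} {m : ℕ} {p i : ℕ} (h : Holds D T m)
    (he : wprod T (D.wd p) * T i = wprod T (D.wd (D.nx p i))) : Holds D T (D.put m (p, i)) := by
  intro q j hq
  unfold Table.put at hq
  by_cases hi : i < D.k
  · rw [if_pos (by exact hi)] at hq
    simp only [Table.mem, Bool.and_eq_true, decide_eq_true_eq, Nat.testBit_or, Bool.or_eq_true,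
      Nat.testBit_two_pow] at hq
    obtain ⟨hj, hq | hq⟩ := hq
    · exact h q j (by simp [Table.mem, hj, hq])
    · simp only [Table.bit] at hq
      have h1 : i = j := by
        have := congrArg (· % D.k) hq
        simpa [Nat.mul_add_mod', Nat.mod_eq_of_lt hi, Nat.mod_eq_of_lt hj] using this
      subst h1
      have h2 : p = q := Nat.eq_of_mul_eq_mul_right (by omega) (Nat.add_right_cancel hq)
      subst h2
      exact he
  · rw [if_neg (by exact hi)] at hq
    exact h q j hq

theorem run_sound {D : Table} {T : ℕ → Γ} {m : ℕ} (h : Holds D T m) :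
    ∀ (l : List ℕ) (p v : ℕ), D.run m p l = some v →
      wprod T (D.wd p) * wprod T l = wprod T (D.wd v) := by
  intro l
  induction l with
  | nil =>
    intro p v hv
    simp only [Table.run, Option.some.injEq] at hv
    subst hv
    simp [wprod]
  | cons i l ih =>
    intro p v hv
    simp only [Table.run] at hv
    split_ifs at hv with hm
    rw [wprod_cons, ← mul_assoc, h p i hm, ih _ _ hv]

theorem step_sound {D : Table} {T : ℕ → Γ} (hrel : ∀ W ∈ D.rels, wprod T W = 1) {m m' : ℕ}
    (h : Holds D T m) {e : ℕ × ℕ × ℕ} (hs : D.step (some m) e = some m') : Holds D T m' := by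
  simp only [Table.step] at hs
  split at hs
  · simp at hs
  rename_i v hv
  split at hs
  · simp at hs
  rename_i i l hdrop
  split_ifs at hs with hr
  rw [Option.some.injEq] at hs
  subst hs
  refine holds_put h ?_
  have hW : wprod T (D.rels.getD e.1 []) = 1 := by
    rw [List.getD_eq_getElem?_getD]
    cases hg : D.rels[e.1]? with
    | none => simp [wprod]
    | some W => exact hrel W (List.mem_of_getElem? hg)
  rw [← List.take_append_drop e.2.2 (D.rels.getD e.1 []), wprod_append, hdrop, wprod_cons] at hW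
  have h1 := run_sound h _ _ _ hv
  have h2 := run_sound h _ _ _ hr
  rw [← h1]
  apply mul_right_cancel (b := wprod T l)
  rw [h2]
  calc wprod T (D.wd e.2.1) * wprod T ((D.rels.getD e.1 []).take e.2.2) * T i * wprod T l
      = wprod T (D.wd e.2.1) *
        (wprod T ((D.rels.getD e.1 []).take e.2.2) * (T i * wprod T l)) := by group
    _ = wprod T (D.wd e.2.1) := by rw [hW, mul_one]

theorem all_edges {D : Table} (hok : D.ok = true) {T : ℕ → Γ}
    (hrel : ∀ W ∈ D.rels, wprod T W = 1) :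
    0 < D.N ∧ D.wd 0 = [] ∧ ∀ p < D.N, ∀ i < D.k, D.nx p i < D.N ∧
      wprod T (D.wd p) * T i = wprod T (D.wd (D.nx p i)) := by
  simp only [Table.ok, Bool.and_eq_true, decide_eq_true_eq, List.all_eq_true, List.mem_range] at hok
  obtain ⟨⟨⟨⟨hN, hw0⟩, htree⟩, hbound⟩, hfin⟩ := hok
  have htree' : Holds D T D.treeMask := by
    have key : ∀ (l : List (ℕ × ℕ)) (m : ℕ), (∀ e ∈ l, e ∈ D.tree) → Holds D T m →
        Holds D T (l.foldl D.put m) := by
      intro l
      induction l with
      | nil => exact fun _ _ h => h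
      | cons e l ih =>
        intro m hl h
        refine ih _ (fun x hx => hl x (List.mem_cons_of_mem _ hx)) (holds_put (p := e.1) (i := e.2) h ?_)
        rw [(htree e (hl e (by simp))).2, wprod_append, wprod_cons]
        simp [wprod]
    refine key D.tree 0 (fun _ h => h) ?_
    intro p i h
    simp [Table.mem] at h
  have hsteps : ∀ (l : List (ℕ × ℕ × ℕ)) (st : Option ℕ), (∀ m, st = some m → Holds D T m) →
      ∀ m, l.foldl D.step st = some m → Holds D T m := by
    intro l
    induction l with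
    | nil => exact fun _ h => h
    | cons e l ih =>
      intro st h
      refine ih _ fun m hm => ?_
      cases st with
      | none => simp [Table.step] at hm
      | some m0 => exact step_sound hrel (h m0 rfl) hm
  revert hfin
  cases hc : D.steps.foldl D.step (some D.treeMask) with
  | none => simp
  | some m =>
    intro hfull
    have hm := hsteps _ _ (fun m' e => by cases e; exact htree') m hc
    refine ⟨hN, hw0, fun p hp i hi => ⟨hbound p hp i hi, hm p i ?_⟩⟩
    simp only [Table.full, List.all_eq_true, List.mem_range] at hfull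
    exact hfull p hp i hi

/-- A complete table makes the lifts generate a complement over the subgroup they cover. -/
theorem complement_of_table [Finite Γ] (σ : Γ →* G) (hs : Function.Surjective σ)
    (hc : σ.ker ≤ Subgroup.center Γ) {D : Table} (hok : D.ok = true) (T : ℕ → Γ)
    (hrel : ∀ W ∈ D.rels, wprod T W = 1) (t : ℕ → G) (ht : ∀ i < D.k, σ (T i) = t i)
    (hlt : ∀ p < D.N, ∀ i ∈ D.wd p, i < D.k)
    (hinj : Set.InjOn (fun p => wprod t (D.wd p)) {p | p < D.N}) :
    let U := Subgroup.closure (t '' {i | i < D.k})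
    Nat.card U = D.N ∧ ∀ (z : Γ) (h : z ∈ U.comap σ), z ∈ σ.ker →
      (⟨z, h⟩ : U.comap σ) ∈ commutator (U.comap σ) → z = 1 := by
  intro U
  obtain ⟨hN, hw0, hedge⟩ := all_edges hok hrel
  have hsw : ∀ p < D.N, σ (wprod T (D.wd p)) = wprod t (D.wd p) := by
    intro p hp
    rw [map_wprod]
    unfold wprod
    refine congrArg List.prod (List.map_congr_left fun i hi => ht i (hlt p hp i hi))
  let S := Subgroup.closure (T '' {i | i < D.k})
  have hS : ∀ x ∈ S, ∃ p < D.N, x = wprod T (D.wd p) := by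
    intro x hx
    rw [← Subgroup.mem_toSubmonoid, Subgroup.closure_toSubmonoid_of_finite] at hx
    suffices h : ∀ q < D.N, ∃ p < D.N, wprod T (D.wd q) * x = wprod T (D.wd p) by
      obtain ⟨p, hp, e⟩ := h 0 hN
      exact ⟨p, hp, by rw [← e, hw0]; simp [wprod]⟩
    induction hx using Submonoid.closure_induction with
    | mem x hx =>
      obtain ⟨i, hi, rfl⟩ := hx
      exact fun q hq => ⟨D.nx q i, hedge q hq i hi⟩
    | one => exact fun q hq => ⟨q, hq, mul_one _⟩
    | mul x y _ _ hx hy =>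
      intro q hq
      obtain ⟨p, hp, e⟩ := hx q hq
      obtain ⟨r, hr, e'⟩ := hy p hp
      exact ⟨r, hr, by rw [← mul_assoc, e, e']⟩
  have hmem : ∀ p < D.N, wprod T (D.wd p) ∈ S := by
    intro p hp
    refine Subgroup.list_prod_mem _ fun x hx => ?_
    obtain ⟨i, hi, rfl⟩ := List.mem_map.1 hx
    exact Subgroup.subset_closure ⟨i, hlt p hp i hi, rfl⟩
  have himg : S.map σ = U := by
    rw [MonoidHom.map_closure, Set.image_image]
    exact congrArg Subgroup.closure (Set.image_congr fun i hi => ht i hi)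
  have hUset : (U : Set G) = (fun p => wprod t (D.wd p)) '' {p | p < D.N} := by
    refine Set.Subset.antisymm ?_ ?_
    · intro g hg
      rw [SetLike.mem_coe, ← himg] at hg
      obtain ⟨x, hx, rfl⟩ := hg
      obtain ⟨p, hp, rfl⟩ := hS x hx
      exact ⟨p, hp, (hsw p hp).symm⟩
    · rintro _ ⟨p, hp, rfl⟩
      rw [SetLike.mem_coe, ← himg]
      exact ⟨_, hmem p hp, hsw p hp⟩
  refine ⟨?_, fun z hz hk hcom => ?_⟩
  · have : (U : Set G).ncard = D.N := by
      rw [hUset, Set.InjOn.ncard_image hinj, show {p | p < D.N} = Set.Iio D.N from rfl, Set.ncard_Iio_nat]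
    rw [← this, ← Nat.card_coe_set_eq]
    rfl
  · have hle : commutator (U.comap σ) ≤ S.comap (U.comap σ).subtype := by
      rw [commutator_def, Subgroup.commutator_le]
      intro x _ y _
      have split : ∀ u : U.comap σ, ∃ s ∈ S, ∃ c ∈ σ.ker, (u : Γ) = s * c := by
        intro u
        have hu : σ u ∈ S.map σ := by rw [himg]; exact u.2
        obtain ⟨s, hs', e⟩ := hu
        exact ⟨s, hs', s⁻¹ * u,
          by rw [MonoidHom.mem_ker, map_mul, map_inv, e, inv_mul_cancel], by group⟩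
      obtain ⟨s, hs1, c, hc1, ex⟩ := split x
      obtain ⟨s', hs2, c', hc2, ey⟩ := split y
      show ⁅(x : Γ), (y : Γ)⁆ ∈ S
      have e : ⁅(x : Γ), (y : Γ)⁆ = ⁅s, s'⁆ := by
        have hcc := Subgroup.mem_center_iff.1 (hc hc1)
        have hcc' := Subgroup.mem_center_iff.1 (hc hc2)
        rw [ex, ey]
        simp only [commutatorElement_def, mul_inv_rev]
        calc s * c * (s' * c') * (c⁻¹ * s⁻¹) * (c'⁻¹ * s'⁻¹)
            = s * (c * (s' * c')) * c⁻¹ * s⁻¹ * (c'⁻¹ * s'⁻¹) := by group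
          _ = s * ((s' * c') * c) * c⁻¹ * s⁻¹ * (c'⁻¹ * s'⁻¹) := by rw [hcc]
          _ = s * s' * (c' * s⁻¹) * c'⁻¹ * s'⁻¹ := by group
          _ = s * s' * (s⁻¹ * c') * c'⁻¹ * s'⁻¹ := by rw [hcc']
          _ = _ := by group
      rw [e]
      exact mul_mem (mul_mem (mul_mem hs1 hs2) (inv_mem hs1)) (inv_mem hs2)
    obtain ⟨p, hp, rfl⟩ := hS z (hle hcom)
    have h1 : wprod t (D.wd p) = wprod t (D.wd 0) := by
      rw [← hsw p hp, MonoidHom.mem_ker.1 hk, hw0]
      simp [wprod]
    rw [hinj hp hN h1, hw0]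
    simp [wprod]

/-! ## Sources of relations -/

/-- Lifts of `a` and of a product of elements of order prime to the kernel exponent commuting with
`a` commute. -/
theorem commute_lifts (σ : Γ →* G) (hs : Function.Surjective σ) (hc : σ.ker ≤ Subgroup.center Γ)
    {r : ℕ} (he : ∀ z ∈ σ.ker, z ^ r = 1) {a : G} (os : List G) {A H : Γ} (hA : σ A = a)
    (hH : σ H = os.prod)
    (ho : ∀ o ∈ os, a * o = o * a ∧ ∃ n : ℕ, Nat.Coprime n r ∧ o ^ n = 1) : Commute A H := by
  induction os generalizing H with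
  | nil =>
    have : H ∈ σ.ker := by rw [MonoidHom.mem_ker, hH, List.prod_nil]
    exact Subgroup.mem_center_iff.1 (hc this) A
  | cons o os ih =>
    obtain ⟨hao, n, hn, hon⟩ := ho o (by simp)
    obtain ⟨X, hX⟩ := hs o
    have hrest : Commute A (X⁻¹ * H) := ih
      (by rw [map_mul, map_inv, hX, hH, List.prod_cons, inv_mul_cancel_left])
      (fun o' ho' => ho o' (List.mem_cons_of_mem _ ho'))
    have hu : ⁅A, X⁆ ∈ σ.ker := by
      rw [MonoidHom.mem_ker, map_commutatorElement, hA, hX, commutatorElement_eq_one_iff_commute]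
      exact hao
    set u := ⁅A, X⁆ with hu'
    have hcu : ∀ t, Commute t u := fun t => Subgroup.mem_center_iff.1 (hc hu) t
    have hpow : A * X ^ n * A⁻¹ = u ^ n * X ^ n := by
      rw [← conj_pow, show A * X * A⁻¹ = u * X by rw [hu', commutatorElement_def]; group,
        ((hcu X).symm).mul_pow]
    have hXn : X ^ n ∈ σ.ker := by rw [MonoidHom.mem_ker, map_pow, hX, hon]
    rw [(Subgroup.mem_center_iff.1 (hc hXn) A), mul_inv_cancel_right] at hpow
    have hun : u ^ n = 1 := self_eq_one hpow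
    have hu1 : u = 1 := by
      have : u ^ Nat.gcd n r = 1 := pow_gcd_eq_one.2 ⟨hun, he u hu⟩
      rwa [Nat.Coprime.gcd_eq_one hn, pow_one] at this
    have hAX : Commute A X := commutatorElement_eq_one_iff_commute.1 hu1
    simpa using hAX.mul_right hrest
where
  self_eq_one {x y : Γ} (h : x = y * x) : y = 1 :=
    mul_right_cancel (h.symm.trans (one_mul x).symm)

/-- The power of any lift of a conjugate. -/
theorem pow_lift_conj (σ : Γ →* G) (hs : Function.Surjective σ) (hc : σ.ker ≤ Subgroup.center Γ)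
    {r : ℕ} (he : ∀ z ∈ σ.ker, z ^ r = 1) {g a b : G} (h : g * a = b * g) {A B : Γ} (hA : σ A = a)
    (hB : σ B = b) : ∃ c : Γ, B ^ r = c * A ^ r * c⁻¹ := by
  obtain ⟨C, hC⟩ := hs g
  refine ⟨C, ?_⟩
  have hk : (C * A * C⁻¹)⁻¹ * B ∈ σ.ker := by
    rw [MonoidHom.mem_ker, map_mul, map_inv, map_mul, map_mul, map_inv, hA, hB, hC, h,
      mul_inv_cancel_right, inv_mul_cancel]
  have e : B = C * A * C⁻¹ * ((C * A * C⁻¹)⁻¹ * B) := by group
  have hcm : Commute (C * A * C⁻¹) ((C * A * C⁻¹)⁻¹ * B) :=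
    Subgroup.mem_center_iff.1 (hc hk) _
  rw [e, hcm.mul_pow, he _ hk, mul_one, conj_pow]

/-- A lift of an element of odd prime order inverted by another has order equal to that prime. -/
theorem pow_lift_inverted (σ : Γ →* G) (hs : Function.Surjective σ) (hc : σ.ker ≤ Subgroup.center Γ)
    {r : ℕ} (hr : Odd r) (he : ∀ z ∈ σ.ker, z ^ r = 1) {g a : G} (h : g * a = a⁻¹ * g)
    (ha : a ^ r = 1) {A : Γ} (hA : σ A = a) : A ^ r = 1 := by
  have hk : A ^ r ∈ σ.ker := by rw [MonoidHom.mem_ker, map_pow, hA, ha]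
  obtain ⟨C, hC⟩ := pow_lift_conj σ hs hc he h hA (B := A⁻¹) (by rw [map_inv, hA])
  rw [(Subgroup.mem_center_iff.1 (hc hk) C), mul_inv_cancel_right, inv_pow] at hC
  have h2 : (A ^ r) ^ 2 = 1 := by
    rw [sq]
    exact mul_eq_one_iff_eq_inv.2 hC.symm
  have : (A ^ r) ^ Nat.gcd 2 r = 1 := pow_gcd_eq_one.2 ⟨h2, he _ hk⟩
  rwa [Nat.Coprime.gcd_eq_one (Nat.coprime_two_left.2 hr), pow_one] at this

/-- Reduction to extensions whose kernel has exponent `r`, remembering commuting lifts. -/
theorem kills_prime_comm.{u, v} {Q : Type v} [Group Q] [Finite Q] {Γ : Type u} [Group Γ] [Finite Γ]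
    (σ : Γ →* Q) (hσ : Cfsg.IsStemExtension σ) (r : ℕ) [Fact r.Prime] (S : Set (Q × Q))
    (hS : ∀ ab ∈ S, ∀ X Y : Γ, σ X = ab.1 → σ Y = ab.2 → Commute X Y)
    (H : ∀ (Δ : Type u) [Group Δ] [Finite Δ] (τ : Δ →* Q), Cfsg.IsStemExtension τ →
      (∀ z ∈ τ.ker, z ^ r = 1) →
      (∀ ab ∈ S, ∀ X Y : Δ, τ X = ab.1 → τ Y = ab.2 → Commute X Y) →
      ∃ U : Subgroup Q, ¬ r ∣ U.index ∧
        ∀ (z : Δ) (h : z ∈ U.comap τ), z ∈ τ.ker →
          (⟨z, h⟩ : U.comap τ) ∈ commutator (U.comap τ) → z = 1)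
    {z : Γ} (hz : z ∈ σ.ker) : ¬ r ∣ orderOf z := by
  intro hd
  obtain ⟨hs, hc, hder⟩ := hσ
  let N : Subgroup Γ := Subgroup.closure {y | ∃ x ∈ σ.ker, y = x ^ r}
  have hNk : N ≤ σ.ker := by
    rw [Subgroup.closure_le]; rintro y ⟨x, hx, rfl⟩; exact pow_mem hx r
  haveI : N.Normal := ⟨fun n hn g => by
    rw [Subgroup.mem_center_iff.1 (hc (hNk hn)) g, mul_inv_cancel_right]; exact hn⟩
  let τ : Γ ⧸ N →* Q := QuotientGroup.lift N σ hNk
  have hτk : τ.ker = σ.ker.map (QuotientGroup.mk' N) := by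
    ext q
    obtain ⟨x, rfl⟩ := QuotientGroup.mk_surjective q
    constructor
    · intro hx; exact ⟨x, hx, rfl⟩
    · rintro ⟨y, hy, e⟩
      show τ (QuotientGroup.mk x) = 1
      rw [← e]; exact hy
  have hτ : Cfsg.IsStemExtension τ := by
    refine ⟨fun q => ?_, ?_, ?_⟩
    · obtain ⟨x, rfl⟩ := hs q; exact ⟨QuotientGroup.mk x, rfl⟩
    · rw [hτk]
      rintro _ ⟨x, hx, rfl⟩
      refine Subgroup.mem_center_iff.2 fun q => ?_
      obtain ⟨y, rfl⟩ := QuotientGroup.mk_surjective q
      exact congrArg (QuotientGroup.mk' N) (Subgroup.mem_center_iff.1 (hc hx) y)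
    · rw [hτk]
      refine (Subgroup.map_mono hder).trans ?_
      rw [commutator_def, commutator_def, Subgroup.map_commutator]
      exact Subgroup.commutator_mono le_top le_top
  have hexp : ∀ y ∈ τ.ker, y ^ r = 1 := by
    rw [hτk]
    rintro _ ⟨x, hx, rfl⟩
    rw [← map_pow]
    exact (QuotientGroup.eq_one_iff _).2 (Subgroup.subset_closure ⟨x, hx, rfl⟩)
  have hS' : ∀ ab ∈ S, ∀ X Y : Γ ⧸ N, τ X = ab.1 → τ Y = ab.2 → Commute X Y := by
    intro ab hab X Y hX hY
    obtain ⟨x, rfl⟩ := QuotientGroup.mk_surjective X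
    obtain ⟨y, rfl⟩ := QuotientGroup.mk_surjective Y
    exact (hS ab hab x y hX hY).map (QuotientGroup.mk' N)
  obtain ⟨U, hU, hU'⟩ := H _ τ hτ hexp hS' 
  have hker : ∀ y ∈ τ.ker, y = 1 := by
    intro y hy
    have h1 := CfsgLib.Known.SL2Mult.pow_index_eq_one τ hτ U hU' hy
    have : y ^ Nat.gcd U.index r = 1 := pow_gcd_eq_one.2 ⟨h1, hexp y hy⟩
    rwa [Nat.Coprime.gcd_eq_one ((Fact.out : r.Prime).coprime_iff_not_dvd.2 hU).symm, pow_one] at this
  have hle : ∀ x ∈ σ.ker, x ∈ N := fun x hx =>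
    (QuotientGroup.eq_one_iff x).1 (hker _ (hτk ▸ ⟨x, hx, rfl⟩))
  -- so the power map is onto the kernel
  letI : CommGroup σ.ker :=
    { (inferInstance : Group σ.ker) with
      mul_comm := fun a b => Subtype.ext (Subgroup.mem_center_iff.1 (hc b.2) a) }
  let f : σ.ker →* σ.ker := powMonoidHom r
  have hN' : N ≤ f.range.map σ.ker.subtype := by
    rw [Subgroup.closure_le]
    rintro y ⟨x, hx, rfl⟩
    exact ⟨⟨x, hx⟩ ^ r, ⟨⟨x, hx⟩, rfl⟩, rfl⟩
  have hsurj : Function.Surjective f := by
    intro y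
    obtain ⟨w, ⟨v, hv⟩, hw⟩ := hN' (hle y.1 y.2)
    exact ⟨v, hv.trans (Subtype.ext hw)⟩
  have hinj : Function.Injective f := Finite.injective_iff_surjective.2 hsurj
  let z' : σ.ker := ⟨z, hz⟩
  obtain ⟨x, hx⟩ := exists_prime_orderOf_dvd_card' (G := Subgroup.zpowers z') r (by
    rw [Nat.card_zpowers, ← Subgroup.orderOf_coe z']; exact hd)
  have : (x : σ.ker) = 1 := hinj (by
    show (x : σ.ker) ^ r = 1 ^ r
    rw [one_pow, ← SubmonoidClass.coe_pow, ← hx, pow_orderOf_eq_one]; rfl)
  have hx1 : x = 1 := Subtype.ext this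
  rw [hx1, orderOf_one] at hx
  exact (Fact.out : r.Prime).ne_one hx.symm

/-- Reduction to extensions whose kernel has exponent `r`. -/
theorem kills_prime.{u, v} {Q : Type v} [Group Q] [Finite Q] {Γ : Type u} [Group Γ] [Finite Γ]
    (σ : Γ →* Q) (hσ : Cfsg.IsStemExtension σ) (r : ℕ) [Fact r.Prime]
    (H : ∀ (Δ : Type u) [Group Δ] [Finite Δ] (τ : Δ →* Q), Cfsg.IsStemExtension τ →
      (∀ z ∈ τ.ker, z ^ r = 1) → ∃ U : Subgroup Q, ¬ r ∣ U.index ∧
        ∀ (z : Δ) (h : z ∈ U.comap τ), z ∈ τ.ker →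
          (⟨z, h⟩ : U.comap τ) ∈ commutator (U.comap τ) → z = 1)
    {z : Γ} (hz : z ∈ σ.ker) : ¬ r ∣ orderOf z :=
  kills_prime_comm σ hσ r ∅ (fun _ h => h.elim) (fun Δ _ _ τ hτ he _ => H Δ τ hτ he) hz

end CfsgLib.Sporadic.Mult
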