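import Mathlib
import Cfsg.Agent.Lib.Sporadic.MultiplierEngine
import Cfsg.Agent.Lib.Sporadic.PermList

/-!
# Packed elements of subgroups of M24 for multiplier certificates
-/

set_option autoImplicit false

namespace CfsgLib.Sporadic.Mult

open Cfsg

noncomputable def pprod (l : List ℕ) : ℕ := l.foldl pmul pone

noncomputable def ppow (p : ℕ) (k : ℕ) : ℕ := pprod (List.replicate k p)

section

variable {H : Subgroup ↥M24}

noncomputable def pk (g : ↥H) : ℕ := packG (g : ↥M24)

theorem pk_injective : Function.Injective (pk (H := H)) := fun _ _ e =>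
  Subtype.ext (Subtype.ext (packImage_injective e))

theorem pk_mul (g h : ↥H) : pk (g * h) = pmul (pk g) (pk h) :=
  (pmul_packImage (rep_packImage _) (rep_packImage _)).symm

theorem pk_one : pk (1 : ↥H) = pone := packImage_one

theorem pk_prod (l : List ↥H) : pk l.prod = pprod (l.map pk) := by
  have key : ∀ (l : List ↥H) (g : ↥H), pk (g * l.prod) = (l.map pk).foldl pmul (pk g) := by
    intro l
    induction l with
    | nil => intro g; simp
    | cons a l ih => intro g; rw [List.prod_cons, ← mul_assoc, ih, pk_mul]; rfl
  simpa [pprod, pk_one] using key l 1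

theorem pk_pow (g : ↥H) (k : ℕ) : pk (g ^ k) = ppow (pk g) k := by
  rw [← List.prod_replicate, pk_prod, List.map_replicate]; rfl

/-- A check placing a packed permutation in the subgroup. -/
structure Member (H : Subgroup ↥M24) where
  test : ℕ → Bool
  sound : ∀ p, test p = true → ∃ g : ↥H, Rep ((g : ↥M24) : Equiv.Perm GolayPt) p

noncomputable def good (M : Member H) (p : ℕ) : Bool := M.test p && decide (pmul p pone = p)

theorem exists_pk (M : Member H) {p : ℕ} (h : good M p = true) : ∃ g : ↥H, pk g = p := by
  simp only [good, Bool.and_eq_true, decide_eq_true_eq] at h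
  obtain ⟨g, hg⟩ := M.sound p h.1
  refine ⟨g, ?_⟩
  rw [← h.2, pmul_packImage hg Rep.one, mul_one]
  rfl

/-- The element with a given packing. -/
noncomputable def el (M : Member H) (p : ℕ) : ↥H := by
  classical
  exact if h : ∃ g : ↥H, pk g = p then h.choose else 1

theorem pk_el (M : Member H) {p : ℕ} (h : good M p = true) : pk (el M p) = p := by
  have hex := exists_pk M h
  rw [el, dif_pos hex]
  exact hex.choose_spec

theorem pk_el_list (M : Member H) {l : List ℕ} (h : l.all (good M) = true) :
    (l.map (el M)).map pk = l := by
  rw [List.map_map]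
  conv_rhs => rw [← List.map_id l]
  refine List.map_congr_left fun p hp => ?_
  exact pk_el M (List.all_eq_true.1 h p hp)

theorem prod_el_eq (M : Member H) {l l' : List ℕ} (hl : l.all (good M) = true)
    (hl' : l'.all (good M) = true) (h : pprod l = pprod l') :
    (l.map (el M)).prod = (l'.map (el M)).prod :=
  pk_injective (by rw [pk_prod, pk_prod, pk_el_list M hl, pk_el_list M hl', h])

/-- Distinct packed products of the words of a table give distinct elements. -/
theorem injOn_words (M : Member H) {gens : List ℕ} {D : Table} {t : ℕ → ↥H}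
    (ht : ∀ i, i < D.k → pk (t i) = gens.getD i pone)
    (hlt : ∀ p < D.N, ∀ i ∈ D.wd p, i < D.k)
    (h : ((List.range D.N).map fun p => pprod ((D.wd p).map fun i => gens.getD i pone)).Nodup) :
    Set.InjOn (fun p => wprod t (D.wd p)) {p | p < D.N} := by
  intro a ha b hb e
  refine List.inj_on_of_nodup_map h (List.mem_range.2 ha) (List.mem_range.2 hb) ?_
  have key : ∀ p, p < D.N → pk (wprod t (D.wd p)) =
      pprod ((D.wd p).map fun i => gens.getD i pone) := by
    intro p hp
    rw [wprod, pk_prod, List.map_map]
    exact congrArg pprod (List.map_congr_left fun i hi => ht i (hlt p hp i hi))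
  rw [← key a ha, ← key b hb]
  exact congrArg pk e

end

end CfsgLib.Sporadic.Mult
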