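import Mathlib
import Cfsg.Agent.Lib.Sporadic.MultiplierPerms
import Cfsg.Agent.Lib.Sporadic.MathieuTwentyFourMultData
import Cfsg.Agent.Lib.Sporadic.M24

/-!
# The Schur multiplier of M24 is trivial

Lifts of involutions are involutions, as the centraliser of an octad involution is generated by
elements of odd order; such squares present a Sylow 2-subgroup. Lifts of elements of order three
have order three, as those are conjugate to their inverses, and a Sylow 3-subgroup has exponent 3.
-/

set_option autoImplicit false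
set_option maxRecDepth 100000

namespace CfsgLib.Sporadic.MTwentyFourMult

open Cfsg CfsgLib.Sporadic.Mult
open scoped commutatorElement

abbrev H24 : Subgroup ↥M24 := ⊤

noncomputable def member : Member H24 where
  test p := isAut p
  sound p h := by
    obtain ⟨g, hg⟩ := exists_M24_elt h
    exact ⟨⟨g, Subgroup.mem_top g⟩, hg⟩

def twoTable : Table := ⟨1024, 4, twoNext, twoWord, twoTree, twoRels, twoSteps⟩

def threeTable : Table := ⟨27, 2, threeNext, threeWord, threeTree, threeRels, threeSteps⟩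

def gen (i : ℕ) : ℕ := gens.getD i pone

def tgen (i : ℕ) : ℕ := threeGens.getD i pone

def oddWord (w : List ℕ) : List ℕ := w.map fun i => (cenOdd.getD i (pone, 1)).1

def allPacks : List ℕ :=
  [baseA, baseB, baseC, mixB, baseD, toB, toC, toMixB, pone] ++ gens ++ threeGens ++
    cenOdd.map Prod.fst ++ sqCert.map (fun c => c.2.2) ++ cubeCert.map (fun c => c.2)

theorem good_data : allPacks.all (good member) = true := by
  decide +kernel

theorem base_data : pmul baseA baseA = pone ∧ pmul baseA baseB = baseC ∧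
    pmul baseA mixB = baseD ∧ pmul baseD baseD = pone ∧
    pmul toB baseA = pmul baseB toB ∧ pmul toC baseA = pmul baseC toC ∧
    pmul toMixB baseA = pmul mixB toMixB ∧
    pprod (oddWord wordB) = baseB ∧ pprod (oddWord wordMixB) = mixB ∧
    (cenOdd.all fun o => decide (pmul baseA o.1 = pmul o.1 baseA) && decide (o.2 % 2 = 1) &&
      decide (ppow o.1 o.2 = pone)) = true := by
  decide +kernel

theorem sq_data : ∀ c ∈ sqCert, (∀ i ∈ c.1, i < 4) ∧
    pmul c.2.2 (if c.2.1 then baseA else baseD) = pmul (pprod (c.1.map gen)) c.2.2 := by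
  decide +kernel

theorem rels_data : ∀ W ∈ twoRels, ∃ c ∈ sqCert, W = c.1 ++ c.1 := by
  decide +kernel

theorem cube_data : ∀ c ∈ cubeCert, (∀ i ∈ c.1, i < 2) ∧
    ppow (pprod (c.1.map tgen)) 3 = pone ∧
    pmul c.2 (pprod (c.1.map tgen)) = pmul (ppow (pprod (c.1.map tgen)) 2) c.2 := by
  decide +kernel

theorem cube_rels : ∀ W ∈ threeRels, ∃ c ∈ cubeCert, W = c.1 ++ c.1 ++ c.1 := by
  decide +kernel

theorem two_table_ok : twoTable.ok = true := by
  decide +kernel

def incFrom : List ℕ → ℕ → Bool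
  | [], _ => true
  | a :: l, lo => Nat.blt lo a && incFrom l a

def strictlyInc : List ℕ → Bool
  | [] => true
  | a :: l => incFrom l a

theorem pairwise_of_incFrom : ∀ {l : List ℕ} {lo : ℕ}, incFrom l lo = true →
    (lo :: l).Pairwise (· < ·)
  | [], lo, _ => List.pairwise_singleton _ _
  | a :: l, lo, h => by
    simp only [incFrom, Bool.and_eq_true, Nat.blt_eq] at h
    have ih := pairwise_of_incFrom h.2
    refine List.pairwise_cons.2 ⟨fun x hx => ?_, ih⟩
    rcases List.mem_cons.1 hx with rfl | hx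
    · exact h.1
    · exact h.1.trans ((List.pairwise_cons.1 ih).1 x hx)

theorem pairwise_of_strictlyInc : ∀ {l : List ℕ}, strictlyInc l = true → l.Pairwise (· < ·)
  | [], _ => List.Pairwise.nil
  | _ :: _, h => pairwise_of_incFrom h

theorem mem_of_fold : ∀ (l : List ℕ) (m p : ℕ),
    (l.foldl (fun m i => m ||| 2 ^ i) m).testBit p = true → m.testBit p = true ∨ p ∈ l
  | [], _, _, h => .inl h
  | i :: l, m, p, h => by
    rcases mem_of_fold l _ p h with h' | h'
    · rw [Nat.testBit_or, Bool.or_eq_true, Nat.testBit_two_pow, decide_eq_true_eq] at h'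
      rcases h' with h' | rfl
      · exact .inl h'
      · exact .inr (List.mem_cons_self ..)
    · exact .inr (List.mem_cons_of_mem _ h')

theorem two_letters : (twoWord.all fun w => w.all fun i => decide (i < 4)) = true := by
  decide +kernel

theorem two_order_data : twoOrder.length = 1024 ∧
    twoOrder.foldl (fun m i => m ||| 2 ^ i) 0 = 2 ^ 1024 - 1 ∧
    strictlyInc (twoOrder.map fun p => pprod ((twoTable.wd p).map gen)) = true := by
  decide +kernel

theorem two_words : (∀ p : Fin 1024, ∀ i ∈ twoTable.wd p, i < 4) ∧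
    ((List.range 1024).map fun p => pprod ((twoTable.wd p).map gen)).Nodup := by
  obtain ⟨hlen, hfold, hinc⟩ := two_order_data
  refine ⟨fun p i hi => ?_, ?_⟩
  · have h := two_letters
    simp only [List.all_eq_true, decide_eq_true_eq] at h
    simp only [Table.wd, List.getD_eq_getElem?_getD] at hi
    cases hg : twoTable.word[p.val]? with
    | none => rw [hg] at hi; simp at hi
    | some w => rw [hg] at hi; exact h w (List.mem_of_getElem? hg) i hi
  · have hsub : List.range 1024 ⊆ twoOrder := by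
      intro p hp
      have h := mem_of_fold twoOrder 0 p (by
        rw [hfold, Nat.testBit_two_pow_sub_one]
        exact decide_eq_true (List.mem_range.1 hp))
      exact h.resolve_left (by simp)
    have hperm : (List.range 1024).Perm twoOrder :=
      (List.subperm_of_subset List.nodup_range hsub).perm_of_length_le (by simp [hlen])
    exact (hperm.map _).nodup_iff.2 ((pairwise_of_strictlyInc hinc).imp fun h => Nat.ne_of_lt h)

theorem three_table_data : threeTable.ok = true ∧
    (∀ p : Fin 27, ∀ i ∈ threeTable.wd p, i < 2) ∧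
    ((List.range 27).map fun p => pprod ((threeTable.wd p).map tgen)).Nodup := by
  decide +kernel

local notation "e" => el member

theorem pk_good {p : ℕ} (h : p ∈ allPacks) : pk (e p) = p :=
  pk_el member (List.all_eq_true.1 good_data p h)

theorem pk_gen {i : ℕ} (hi : i < 4) : pk (e (gen i)) = gen i := by
  have h1 : gens.length = 4 := by decide +kernel
  refine pk_good ?_
  have : gen i ∈ gens := by
    rw [gen, List.getD_eq_getElem _ _ (by omega)]; exact List.getElem_mem _
  simp [allPacks, this]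

theorem pk_tgen {i : ℕ} (hi : i < 2) : pk (e (tgen i)) = tgen i := by
  have h1 : threeGens.length = 2 := by decide +kernel
  refine pk_good ?_
  have : tgen i ∈ threeGens := by
    rw [tgen, List.getD_eq_getElem _ _ (by omega)]; exact List.getElem_mem _
  simp [allPacks, this]

theorem pk_odd (w : List ℕ) : ((oddWord w).map e).map pk = oddWord w := by
  rw [List.map_map]
  conv_rhs => rw [← List.map_id (oddWord w)]
  refine List.map_congr_left fun p hp => ?_
  obtain ⟨i, -, rfl⟩ := List.mem_map.1 hp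
  refine pk_good ?_
  by_cases hi : i < cenOdd.length
  · rw [List.getD_eq_getElem _ _ hi]
    have : (cenOdd[i]).1 ∈ cenOdd.map Prod.fst := List.mem_map_of_mem (List.getElem_mem hi)
    simp only [allPacks, List.mem_append]; tauto
  · rw [List.getD_eq_default _ _ (by omega)]
    simp [allPacks]

theorem card_top : Nat.card ↥H24 = 244823040 := by
  rw [Subgroup.card_top, M24_card]

theorem two_part {Γ : Type*} [Group Γ] [Finite Γ] (σ : Γ →* ↥H24) (hσ : Cfsg.IsStemExtension σ)
    (he : ∀ z ∈ σ.ker, z ^ 2 = 1) :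
    ∃ U : Subgroup ↥H24, ¬ 2 ∣ U.index ∧
      ∀ (z : Γ) (h : z ∈ U.comap σ), z ∈ σ.ker → (⟨z, h⟩ : U.comap σ) ∈ commutator (U.comap σ) →
        z = 1 := by
  obtain ⟨hs, hc, -⟩ := hσ
  obtain ⟨dAA, dAB, dAM, dDD, dB, dC, dM, dwB, dwM, dodd⟩ := base_data
  obtain ⟨pA, pB, pC, pM, pD, ptB, ptC, ptM⟩ : pk (e baseA) = baseA ∧ pk (e baseB) = baseB ∧
      pk (e baseC) = baseC ∧ pk (e mixB) = mixB ∧ pk (e baseD) = baseD ∧ pk (e toB) = toB ∧
      pk (e toC) = toC ∧ pk (e toMixB) = toMixB := by
    refine ⟨?_, ?_, ?_, ?_, ?_, ?_, ?_, ?_⟩ <;> exact pk_good (by simp [allPacks])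
  obtain ⟨A, hA⟩ := hs (e baseA)
  have cen : ∀ {z : Γ}, σ z = 1 → ∀ t, Commute t z := fun hz t =>
    Subgroup.mem_center_iff.1 (hc hz) t
  have hword : ∀ w : List ℕ, ∀ X : Γ, σ X = ((oddWord w).map e).prod → Commute A X := by
    intro w X hX
    refine commute_lifts σ hs hc he _ hA hX fun o ho => ?_
    obtain ⟨p, hp, rfl⟩ := List.mem_map.1 ho
    obtain ⟨i, -, rfl⟩ := List.mem_map.1 hp
    by_cases hi : i < cenOdd.length
    · rw [List.getD_eq_getElem _ _ hi]
      have hmem : cenOdd[i] ∈ cenOdd := List.getElem_mem hi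
      have hd := List.all_eq_true.1 dodd _ hmem
      simp only [Bool.and_eq_true, decide_eq_true_eq] at hd
      have hp' : pk (e (cenOdd[i]).1) = (cenOdd[i]).1 := pk_good (by
        simp only [allPacks, List.mem_append]
        exact .inl (.inl (.inr (List.mem_map_of_mem hmem))))
      refine ⟨pk_injective (by rw [pk_mul, pk_mul, pA, hp']; exact hd.1.1), (cenOdd[i]).2, ?_, ?_⟩
      · exact Nat.coprime_two_right.2 (Nat.odd_iff.2 hd.1.2)
      · exact pk_injective (by rw [pk_pow, pk_one, hp']; exact hd.2)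
    · rw [List.getD_eq_default _ _ (by omega)]
      have h1 : e pone = 1 := pk_injective (by rw [pk_one]; exact pk_good (by simp [allPacks]))
      exact ⟨by simp [h1], 1, Nat.coprime_one_left 2, by simp [h1]⟩
  -- squares of lifts of conjugates of `A`
  have hconj : ∀ (g b : ↥H24) (B : Γ), g * e baseA = b * g → σ B = b →
      ∃ c : Γ, B ^ 2 = c * A ^ 2 * c⁻¹ := fun g b B h hB => pow_lift_conj σ hs hc he h hA hB
  have hA2k : σ (A ^ 2) = 1 := by
    rw [map_pow, hA, sq]
    exact pk_injective (by rw [pk_mul, pA, pk_one]; exact dAA)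
  have hsame : ∀ (g b : ↥H24) (B : Γ), g * e baseA = b * g → σ B = b → B ^ 2 = A ^ 2 := by
    intro g b B h hB
    obtain ⟨c, hc'⟩ := hconj g b B h hB
    rw [hc', (cen hA2k c).eq, mul_inv_cancel_right]
  have hA2 : A ^ 2 = 1 := by
    obtain ⟨B, hB⟩ := hs (e baseB)
    have hcm : Commute A B := hword wordB B (by
      rw [hB]
      exact pk_injective (by rw [pB, pk_prod, pk_odd]; exact dwB.symm))
    have h1 := hsame (e toB) (e baseB) B
      (pk_injective (by rw [pk_mul, pk_mul, ptB, pA, pB]; exact dB)) hB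
    have h2 := hsame (e toC) (e baseC) (A * B)
      (pk_injective (by rw [pk_mul, pk_mul, ptC, pA, pC]; exact dC))
      (by rw [map_mul, hA, hB]; exact pk_injective (by rw [pk_mul, pA, pB, pC]; exact dAB))
    rw [hcm.mul_pow, h1] at h2
    exact mul_left_cancel (h2.trans (mul_one _).symm)
  obtain ⟨D, hD⟩ := hs (e baseD)
  have hD2 : D ^ 2 = 1 := by
    obtain ⟨B, hB⟩ := hs (e mixB)
    have hcm : Commute A B := hword wordMixB B (by
      rw [hB]
      exact pk_injective (by rw [pM, pk_prod, pk_odd]; exact dwM.symm))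
    have h1 := hsame (e toMixB) (e mixB) B
      (pk_injective (by rw [pk_mul, pk_mul, ptM, pA, pM]; exact dM)) hB
    have hk : (A * B)⁻¹ * D ∈ σ.ker := by
      rw [MonoidHom.mem_ker, map_mul, map_inv, hD, map_mul, hA, hB, inv_mul_eq_one]
      exact pk_injective (by rw [pk_mul, pA, pM, pD]; exact dAM)
    have hz := cen (MonoidHom.mem_ker.1 hk) (A * B)
    rw [show D = A * B * ((A * B)⁻¹ * D) by group, hz.mul_pow, he _ hk, hcm.mul_pow, h1, hA2,
      one_mul, one_mul]
  let t : ℕ → ↥H24 := fun i => e (gen i)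
  let T : ℕ → Γ := fun i => Function.surjInv hs (t i)
  have ht : ∀ i, σ (T i) = t i := fun i => Function.surjInv_eq hs _
  have hrels : ∀ W ∈ twoTable.rels, wprod T W = 1 := by
    intro W hW
    obtain ⟨c, hc', rfl⟩ := rels_data W hW
    obtain ⟨hlt, hd⟩ := sq_data c hc'
    rw [wprod_append, ← sq]
    have hg : pk (e c.2.2) = c.2.2 := pk_good (by
      simp only [allPacks, List.mem_append]
      exact .inl (.inr (List.mem_map_of_mem hc')))
    have hw : pk (σ (wprod T c.1)) = pprod (c.1.map gen) := by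
      rw [map_wprod, wprod, pk_prod, List.map_map]
      exact congrArg pprod (List.map_congr_left fun i hi => by
        show pk (σ (T i)) = gen i
        rw [ht]; exact pk_gen (hlt i hi))
    by_cases hb : c.2.1 = true
    · rw [if_pos hb] at hd
      obtain ⟨x, hx⟩ := pow_lift_conj σ hs hc he (g := e c.2.2) (a := e baseA)
        (b := σ (wprod T c.1)) (pk_injective (by rw [pk_mul, pk_mul, hg, pA, hw]; exact hd)) hA rfl
      rw [hx, hA2, mul_one, mul_inv_cancel]
    · rw [if_neg hb] at hd
      obtain ⟨x, hx⟩ := pow_lift_conj σ hs hc he (g := e c.2.2) (a := e baseD)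
        (b := σ (wprod T c.1)) (pk_injective (by rw [pk_mul, pk_mul, hg, pD, hw]; exact hd)) hD rfl
      rw [hx, hD2, mul_one, mul_inv_cancel]
  obtain ⟨hlt, hnd⟩ := two_words
  have hlt' : ∀ p < twoTable.N, ∀ i ∈ twoTable.wd p, i < twoTable.k := fun p hp => hlt ⟨p, hp⟩
  obtain ⟨hcard, hU⟩ := complement_of_table σ hs hc two_table_ok T hrels t (fun i _ => ht i) hlt'
    (injOn_words member (gens := gens) (fun i hi => pk_gen hi) hlt' hnd)
  refine ⟨_, fun hd => ?_, hU⟩
  have h := Subgroup.card_mul_index (Subgroup.closure (t '' {i | i < twoTable.k}))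
  rw [hcard, card_top] at h
  have hi : (Subgroup.closure (t '' {i | i < twoTable.k})).index = 239085 := by
    have : twoTable.N = 1024 := rfl
    rw [this] at h
    omega
  rw [hi] at hd
  norm_num at hd

theorem three_part {Γ : Type*} [Group Γ] [Finite Γ] (σ : Γ →* ↥H24) (hσ : Cfsg.IsStemExtension σ)
    (he : ∀ z ∈ σ.ker, z ^ 3 = 1) :
    ∃ U : Subgroup ↥H24, ¬ 3 ∣ U.index ∧
      ∀ (z : Γ) (h : z ∈ U.comap σ), z ∈ σ.ker → (⟨z, h⟩ : U.comap σ) ∈ commutator (U.comap σ) →
        z = 1 := by
  obtain ⟨hs, hc, -⟩ := hσ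
  let t : ℕ → ↥H24 := fun i => e (tgen i)
  let T : ℕ → Γ := fun i => Function.surjInv hs (t i)
  have ht : ∀ i, σ (T i) = t i := fun i => Function.surjInv_eq hs _
  have hrels : ∀ W ∈ threeTable.rels, wprod T W = 1 := by
    intro W hW
    obtain ⟨c, hc', rfl⟩ := cube_rels W hW
    obtain ⟨hlt, h3, hinv⟩ := cube_data c hc'
    have hg : pk (e c.2) = c.2 := pk_good (by
      simp only [allPacks, List.mem_append]
      exact .inr (List.mem_map_of_mem hc'))
    set x := σ (wprod T c.1) with hx
    have hw : pk x = pprod (c.1.map tgen) := by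
      rw [hx, map_wprod, wprod, pk_prod, List.map_map]
      exact congrArg pprod (List.map_congr_left fun i hi => by
        show pk (σ (T i)) = tgen i
        rw [ht]; exact pk_tgen (hlt i hi))
    have hx3 : x ^ 3 = 1 := pk_injective (by rw [pk_pow, pk_one, hw]; exact h3)
    have hinv2 : x⁻¹ = x ^ 2 := inv_eq_of_mul_eq_one_right (by rw [← pow_succ', hx3])
    rw [wprod_append, wprod_append, ← pow_three']
    refine pow_lift_inverted σ hs hc (by decide) he (g := e c.2) ?_ hx3 rfl
    rw [hinv2]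
    exact pk_injective (by rw [pk_mul, pk_mul, pk_pow, hg, hw]; exact hinv)
  obtain ⟨hok, hlt, hnd⟩ := three_table_data
  have hlt' : ∀ p < threeTable.N, ∀ i ∈ threeTable.wd p, i < threeTable.k :=
    fun p hp => hlt ⟨p, hp⟩
  obtain ⟨hcard, hU⟩ := complement_of_table σ hs hc hok T hrels t (fun i _ => ht i) hlt'
    (injOn_words member (gens := threeGens) (fun i hi => pk_tgen hi) hlt' hnd)
  refine ⟨_, fun hd => ?_, hU⟩
  have h := Subgroup.card_mul_index (Subgroup.closure (t '' {i | i < threeTable.k}))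
  rw [hcard, card_top] at h
  have hi : (Subgroup.closure (t '' {i | i < threeTable.k})).index = 9067520 := by
    have : threeTable.N = 27 := rfl
    rw [this] at h
    omega
  rw [hi] at hd
  norm_num at hd

theorem prime_not_sq {r : ℕ} (hr : r.Prime) (h2 : r ≠ 2) (h3 : r ≠ 3) : ¬ r ^ 2 ∣ 244823040 := by
  intro h
  have h2' : Nat.Coprime (r ^ 2) (2 ^ 10) :=
    Nat.Coprime.pow _ _ ((Nat.coprime_primes hr Nat.prime_two).2 h2)
  have h3' : Nat.Coprime (r ^ 2) (3 ^ 3) :=
    Nat.Coprime.pow _ _ ((Nat.coprime_primes hr Nat.prime_three).2 h3)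
  have h' : r ^ 2 ∣ 8855 := by
    refine h3'.dvd_of_dvd_mul_left (h2'.dvd_of_dvd_mul_left ?_)
    norm_num
    exact h
  have hlt : r < 95 := by
    have := Nat.le_of_dvd (by norm_num) h'
    nlinarith
  have key : ∀ k < 95, k ^ 2 ∣ 8855 → k = 1 := by decide +kernel
  exact hr.ne_one (key r hlt h')

theorem std_trivial : Cfsg.HasCyclicSchurMultiplier ↥H24 1 := by
  refine CfsgLib.Schur.hasCyclicSchurMultiplier_one_of_forall fun Γ _ _ σ hσ =>
    (Subgroup.eq_bot_iff_forall _).2 fun z hz => ?_
  rw [← orderOf_eq_one_iff]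
  by_contra hne
  obtain ⟨r, hr, hrz⟩ := Nat.exists_prime_and_dvd hne
  haveI := Fact.mk hr
  by_cases h2 : r = 2
  · subst h2; exact kills_prime σ hσ 2 (fun Δ _ _ τ hτ he => two_part τ hτ he) hz hrz
  by_cases h3 : r = 3
  · subst h3; exact kills_prime σ hσ 3 (fun Δ _ _ τ hτ he => three_part τ hτ he) hz hrz
  have key : ∃ U : Subgroup ↥H24, ¬ r ∣ U.index ∧
      ∀ (z : Γ) (h : z ∈ U.comap σ), z ∈ σ.ker → (⟨z, h⟩ : U.comap σ) ∈ commutator (U.comap σ) →
        z = 1 := by
    by_cases hd : r ∣ 244823040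
    · obtain ⟨x, hx⟩ := exists_prime_orderOf_dvd_card' (G := ↥H24) r (by rw [card_top]; exact hd)
      refine ⟨Subgroup.zpowers x, fun h => ?_, fun z h hk hcom => CfsgLib.Known.SL2Mult.trivial_of_mult
        σ hσ _ (CfsgLib.Schur.hasCyclicSchurMultiplier_one_of_isCyclic _) z h hk hcom⟩
      have h1 := Subgroup.card_mul_index (Subgroup.zpowers x)
      rw [Nat.card_zpowers, hx, card_top] at h1
      exact prime_not_sq hr h2 h3 (by rw [sq, ← h1]; exact Nat.mul_dvd_mul_left r h)
    · exact ⟨⊥, by rwa [Subgroup.index_bot, card_top], fun z h hk hcom =>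
        CfsgLib.Known.SL2Mult.trivial_of_mult σ hσ _
          (CfsgLib.Schur.hasCyclicSchurMultiplier_one_of_isCyclic _) z h hk hcom⟩
  obtain ⟨U, hU1, hU2⟩ := key
  exact hU1 (hrz.trans (orderOf_dvd_of_pow_eq_one
    (CfsgLib.Known.SL2Mult.pow_index_eq_one σ hσ U hU2 hz)))

theorem multiplier_trivial : Cfsg.HasCyclicSchurMultiplier ↥M24 1 := by
  refine CfsgLib.Schur.hasCyclicSchurMultiplier_one_of_forall fun Γ _ _ σ hσ => ?_
  have hk : ((Subgroup.topEquiv : ↥H24 ≃* ↥M24).symm.toMonoidHom.comp σ).ker = σ.ker :=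
    Subgroup.ext fun x => by simp [MonoidHom.mem_ker]
  have hst : Cfsg.IsStemExtension ((Subgroup.topEquiv : ↥H24 ≃* ↥M24).symm.toMonoidHom.comp σ) :=
    ⟨(Subgroup.topEquiv : ↥H24 ≃* ↥M24).symm.surjective.comp hσ.1, hk ▸ hσ.2.1, hk ▸ hσ.2.2⟩
  obtain ⟨π, hπ⟩ := std_trivial.2 Γ _ hst
  rw [← hk, Subgroup.eq_bot_iff_forall]
  intro x hx
  obtain ⟨u, hu⟩ := hπ ⟨x, hx⟩
  have h1 : u = 1 := Subsingleton.elim _ _
  rw [h1, map_one] at hu
  exact (congrArg Subtype.val hu).symm

end CfsgLib.Sporadic.MTwentyFourMult
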