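import Cfsg.Agent.Lib.Sporadic.CoOneOutData
import Cfsg.Agent.Lib.Sporadic.M24Copy
import Cfsg.Agent.Lib.Sporadic.MathieuTwentyFourMultiplier
import Cfsg.Prelude.Def_Spor_Conway

/-!
# The outer automorphism group of Co1

An automorphism may be assumed to fix the image of M24 pointwise.  A sign change on an octad and the sextet
involution are each determined up to the centre by what commutes with them, so everything is fixed.
-/

set_option autoImplicit false

namespace CfsgLib.Sporadic.CoOneOut

open Cfsg MulAction CfsgLib.Sporadic CfsgLib.Sporadic.Conway CfsgLib.ThreeTrans.Leech CfsgLib.Sporadic.Lattice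
open CfsgLib.ThreeTrans.Golay (act mk Word)
open scoped Pointwise commutatorElement

set_option maxHeartbeats 1000000

/-! ### lifting -/

/-- A homomorphism from a simple group without multiplier lifts through a central quotient. -/
theorem exists_lift {G Γ : Type} [Group G] [Finite G] [IsSimpleGroup G] [Group Γ] [Finite Γ] (Z : Subgroup Γ) [Z.Normal]
    (hZ : Z ≤ Subgroup.center Γ) (hG : Cfsg.HasCyclicSchurMultiplier G 1) (hne : ∃ a b : G, a * b ≠ b * a)
    (f : G →* Γ ⧸ Z) : ∃ χ : G →* Γ, ∀ g, (QuotientGroup.mk (χ g) : Γ ⧸ Z) = f g := by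
  classical
  let E : Subgroup (G × Γ) :=
    ((f.comp (MonoidHom.fst G Γ)).eqLocus ((QuotientGroup.mk' Z).comp (MonoidHom.snd G Γ)))
  let σ : ↥E →* G := (MonoidHom.fst G Γ).comp E.subtype
  have hσ : Function.Surjective σ := fun g => by
    obtain ⟨x, hx⟩ := QuotientGroup.mk'_surjective Z (f g)
    exact ⟨⟨(g, x), hx.symm⟩, rfl⟩
  have hcent : ∀ e : ↥E, σ e = 1 → e ∈ Subgroup.center ↥E := by
    intro e he
    have h1 : e.1.1 = 1 := he
    have h2 : e.1.2 ∈ Z := by
      rw [← QuotientGroup.eq_one_iff]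
      have h := e.2
      change f e.1.1 = (e.1.2 : Γ ⧸ Z) at h
      rw [h1, map_one] at h
      exact h.symm
    refine Subgroup.mem_center_iff.2 fun e' => Subtype.ext (Prod.ext ?_ ?_)
    · show e'.1.1 * e.1.1 = e.1.1 * e'.1.1
      rw [h1, mul_one, one_mul]
    · exact Subgroup.mem_center_iff.1 (hZ h2) e'.1.2
  let D : Subgroup ↥E := commutator ↥E
  let τ : ↥D →* G := σ.comp D.subtype
  have hτ : Function.Surjective τ := by
    have hperf : commutator G = ⊤ := by
      refine ((inferInstance : (commutator G).Normal).eq_bot_or_eq_top).resolve_left fun e => ?_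
      obtain ⟨a, b, hab⟩ := hne
      have h := Subgroup.commutator_mem_commutator (Subgroup.mem_top a) (Subgroup.mem_top b)
      rw [← commutator_def, e, Subgroup.mem_bot, commutatorElement_eq_one_iff_mul_comm] at h
      exact hab h
    intro g
    have hmap : D.map σ = ⊤ := by
      show (commutator ↥E).map σ = ⊤
      rw [← hperf]; simp only [commutator_def]; rw [Subgroup.map_commutator,
        Subgroup.map_top_of_surjective σ hσ]
    obtain ⟨d, hd, e⟩ : g ∈ D.map σ := hmap ▸ Subgroup.mem_top g
    exact ⟨⟨d, hd⟩, e⟩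
  have hker : τ.ker ≤ Subgroup.center ↥D := fun d hd => Subgroup.mem_center_iff.2 fun d' =>
    Subtype.ext (Subgroup.mem_center_iff.1 (hcent d.1 hd) d'.1)
  have hdec : ∀ e : ↥E, ∃ d : ↥D, ∃ z ∈ Subgroup.center ↥E, e = d.1 * z := by
    intro e
    obtain ⟨d, hd⟩ := hτ (σ e)
    refine ⟨d, d.1⁻¹ * e, hcent _ ?_, by group⟩
    rw [map_mul, map_inv, show σ d.1 = σ e from hd, inv_mul_cancel]
  have hDD : D ≤ (commutator ↥D).map D.subtype := by
    refine Subgroup.commutator_le.2 fun a _ b _ => ?_
    obtain ⟨a', za, hza, rfl⟩ := hdec a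
    obtain ⟨b', zb, hzb, rfl⟩ := hdec b
    refine ⟨⁅a', b'⁆, Subgroup.commutator_mem_commutator (Subgroup.mem_top _) (Subgroup.mem_top _), ?_⟩
    have ca : ∀ x : ↥E, za * x = x * za := fun x => (Subgroup.mem_center_iff.1 hza x).symm
    have cb : ∀ x : ↥E, zb * x = x * zb := fun x => (Subgroup.mem_center_iff.1 hzb x).symm
    show ⁅(a' : ↥E), (b' : ↥E)⁆ = ⁅(a' : ↥E) * za, (b' : ↥E) * zb⁆
    simp only [commutatorElement_def, mul_inv_rev]
    calc (a' : ↥E) * b' * (a' : ↥E)⁻¹ * (b' : ↥E)⁻¹
        = (a' : ↥E) * (za * zb) * b' * (za * zb)⁻¹ * (a' : ↥E)⁻¹ * (b' : ↥E)⁻¹ := by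
          rw [mul_assoc (a' : ↥E) (za * zb), show za * zb * (b' : ↥E) = b' * (za * zb) by
            rw [mul_assoc, cb, ← mul_assoc, ca, mul_assoc]]
          group
      _ = (a' : ↥E) * za * (b' * zb) * (za⁻¹ * (a' : ↥E)⁻¹) * (zb⁻¹ * (b' : ↥E)⁻¹) := by
          have cbi : ∀ x : ↥E, zb⁻¹ * x = x * zb⁻¹ := fun x =>
            (Subgroup.mem_center_iff.1 (inv_mem hzb) x).symm
          rw [mul_inv_rev, show zb⁻¹ * za⁻¹ = za⁻¹ * zb⁻¹ from cbi _]
          simp only [mul_assoc]
          congr 2
          rw [← mul_assoc zb (b' : ↥E), cb, mul_assoc]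
          congr 2
          congr 1
          rw [← mul_assoc zb⁻¹ (a' : ↥E)⁻¹, cbi, mul_assoc]
  have hcomm : τ.ker ≤ commutator ↥D := fun d _ => by
    obtain ⟨c, hc, e⟩ := hDD d.2
    rwa [show c = d from Subtype.ext e] at hc
  obtain ⟨π, hπ⟩ := hG.2 ↥D τ ⟨hτ, hker, hcomm⟩
  haveI : Subsingleton ↥τ.ker := hπ.subsingleton
  have hinj : Function.Injective τ := (MonoidHom.ker_eq_bot_iff τ).1
    (Subgroup.eq_bot_of_subsingleton _)
  let e := MulEquiv.ofBijective τ ⟨hinj, hτ⟩
  refine ⟨((MonoidHom.snd G Γ).comp (E.subtype.comp D.subtype)).comp e.symm.toMonoidHom, fun g => ?_⟩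
  have h := ((e.symm g).1).2
  change f _ = _ at h
  rw [show (MonoidHom.fst G Γ) ((e.symm g).1).1 = g from e.apply_symm_apply g] at h
  exact h.symm

/-! ### the quotient -/

/-- The projection. -/
noncomputable abbrev proj : ↥Co0 →* Spor.Co1 := QuotientGroup.mk' (Subgroup.center ↥Co0)

theorem finite_Co0 : Finite ↥Co0 := Nat.finite_of_card_ne_zero (by rw [card_Co0]; norm_num)

theorem proj_eq_iff {a b : ↥Co0} : proj a = proj b ↔ b = a ∨ b = negElt * a := by
  rw [QuotientGroup.mk'_apply, QuotientGroup.mk'_apply, QuotientGroup.eq, ← SetLike.mem_coe, center_eq]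
  simp only [Set.mem_insert_iff, Set.mem_singleton_iff]
  constructor
  · rintro (h | h)
    · exact Or.inl (inv_mul_eq_one.1 h).symm
    · right
      have hn : a * negElt = negElt * a := Subgroup.mem_center_iff.1 (by
        show negElt ∈ (Subgroup.center ↥Co0 : Set ↥Co0); rw [center_eq]; simp) a
      rw [← hn, ← h, mul_inv_cancel_left]
  · rintro (rfl | rfl)
    · exact Or.inl (inv_mul_cancel _)
    · right
      have hn : a⁻¹ * negElt = negElt * a⁻¹ := Subgroup.mem_center_iff.1 (by
        show negElt ∈ (Subgroup.center ↥Co0 : Set ↥Co0); rw [center_eq]; simp) a⁻¹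
      rw [← mul_assoc, hn, inv_mul_cancel_right]

theorem neg_central (a : ↥Co0) : a * negElt = negElt * a :=
  Subgroup.mem_center_iff.1 (by show negElt ∈ (Subgroup.center ↥Co0 : Set ↥Co0); rw [center_eq]; simp) a

theorem neg_sq : negElt * negElt = 1 := by
  rw [← fl_one, ← fl_add]; simp only [ThreeTrans.Golay.add_self]; exact fl_zero

theorem proj_neg : proj negElt = 1 := by
  rw [← map_one proj, proj_eq_iff]
  right
  rw [neg_sq]

/-- Commuting up to sign, exactly when the order is odd. -/
theorem comm_of_odd {c d : ↥Co0} (h : c * d * c⁻¹ = d ∨ c * d * c⁻¹ = negElt * d) {n : ℕ} (hn : n % 2 = 1)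
    (hd : d ^ n = 1) : c * d * c⁻¹ = d := by
  refine h.resolve_right fun e => negElt_ne_one ?_
  have h1 : (c * d * c⁻¹) ^ n = 1 := by rw [conj_pow, hd, mul_one, mul_inv_cancel]
  rw [e, (show Commute negElt d from (neg_central d).symm).mul_pow, hd, mul_one, ← Nat.div_add_mod n 2, hn,
    pow_succ, pow_mul, pow_two, neg_sq, one_pow, one_mul] at h1
  exact h1

theorem perm_injective_proj : Function.Injective (proj.comp permHom) := by
  intro a b h
  rcases proj_eq_iff.1 h with e | e
  · exact (permHom_injective e).symm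
  · exfalso
    have e' := congrArg (fun g : ↥Co0 => ((g • omegaElt : ↥leechLattice) : Vec) (b.1 none)) e
    simp only [permHom_apply, mul_smul, negElt_smul, AddSubgroup.coe_neg, Pi.neg_apply, permElt_apply] at e'
    change (omegaElt : Vec) (b.1.symm (b.1 none)) = -((omegaElt : Vec) (a.1.symm (b.1 none))) at e'
    rw [Equiv.symm_apply_apply, show (omegaElt : Vec) none = _ from omega_shape none,
      show (omegaElt : Vec) (a.1.symm (b.1 none)) = _ from omega_shape _] at e'
    split_ifs at e' <;> omega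

/-! ### shapes -/

/-- The points reached from `r`. -/
noncomputable def reachPts (gens : List ℕ) (r : ℕ) : ℕ → List ℕ
  | 0 => [r]
  | k + 1 => (List.range 24).filter fun i =>
      (reachPts gens r k).contains i || gens.any fun p => (reachPts gens r k).any fun j => Nat.beq (pget p j) i

theorem const_reach {gens : List ℕ} {r : ℕ} {α : Type*} (v : GolayPt → α)
    (h : ∀ p ∈ gens, ∀ j < 24, v (pt (pget p j)) = v (pt j)) (hr : r < 24) :
    ∀ k, ∀ i ∈ reachPts gens r k, i < 24 ∧ v (pt i) = v (pt r) := by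
  intro k
  induction k with
  | zero => intro i hi; simp [reachPts] at hi; subst hi; exact ⟨hr, rfl⟩
  | succ k ih =>
    intro i hi
    rw [reachPts, List.mem_filter, List.mem_range] at hi
    obtain ⟨hi24, h'⟩ := hi
    rw [Bool.or_eq_true, List.contains_iff_mem, List.any_eq_true] at h'
    rcases h' with h' | ⟨p, hp, h'⟩
    · exact ih i h'
    · obtain ⟨j, hj, e⟩ := List.any_eq_true.1 h'
      rw [Nat.beq_eq] at e
      obtain ⟨hj24, hv⟩ := ih j hj
      exact ⟨hi24, by rw [← e, h p hp j hj24, hv]⟩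

theorem fix_step {σ : ↥M24} {p : ℕ} (hσ : Rep (σ : Equiv.Perm GolayPt) p) {x : ↥leechLattice}
    (h : permHom σ • x = x) : ∀ j < 24, (x : Vec) (pt (pget p j)) = (x : Vec) (pt j) := by
  intro j hj
  have e := congrArg (fun z : ↥leechLattice => (z : Vec) (σ.1 (pt j))) h
  change (x : Vec) (σ.1.symm (σ.1 (pt j))) = (x : Vec) (σ.1 (pt j)) at e
  rw [Equiv.symm_apply_apply] at e
  rw [e]
  refine congrArg (x : Vec) (ix_injective ?_)
  rw [← hσ (pt j), ix_pt hj, ix_pt]
  have := ix_lt (σ.1 (pt j))
  rw [← hσ (pt j), ix_pt hj] at this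
  exact this

/-- Odd order elements fixing the octad. -/
noncomputable def octPermOK (p : ℕ) : Bool :=
  isAut p && Nat.beq (mimg p octKey) octKey &&
    (Nat.beq (ppow p 3) pone || Nat.beq (ppow p 5) pone || Nat.beq (ppow p 7) pone || Nat.beq (ppow p 15) pone)

theorem oct_ok : ((octCarriers ++ inFix ++ outFix).all octPermOK) = true ∧ inCode octKey = true ∧
    (inFix.all fun p => Nat.beq (pget p inPt) inPt) = true ∧
    (outFix.all fun p => Nat.beq (pget p outPt) outPt) = true := by
  decide +kernel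

/-- The octad of points. -/
noncomputable def inOct (i : GolayPt) : Bool := Nat.beq (bitAt octKey (ix i)) 1

theorem in_solve : ∀ a ∈ Finset.Icc (-8 : ℤ) 8, ∀ b ∈ Finset.Icc (-3 : ℤ) 3, ∀ c ∈ Finset.Icc (-2 : ℤ) 2,
    a ^ 2 + 7 * b ^ 2 + 16 * c ^ 2 = 64 → (a - b) % 2 = 0 → (a - c) % 2 = 0 →
      (7 * b + 16 * c - 3 * a) % 8 = 0 →
      ((a = 8 ∨ a = -8) ∧ b = 0 ∧ c = 0) ∨ ((a = 6 ∨ a = -6) ∧ c = 0) ∨ (a = 0 ∧ b = 0) := by
  decide +kernel

theorem out_solve : ∀ a ∈ Finset.Icc (-8 : ℤ) 8, ∀ b ∈ Finset.Icc (-2 : ℤ) 2, ∀ c ∈ Finset.Icc (-2 : ℤ) 2,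
    a ^ 2 + 15 * b ^ 2 + 8 * c ^ 2 = 64 → (a - b) % 2 = 0 → (a - c) % 2 = 0 →
      (15 * b + 8 * c - 3 * a) % 8 = 0 →
      ((a = 8 ∨ a = -8) ∧ b = 0 ∧ c = 0) ∨ (a = b ∧ c = 0) := by
  decide +kernel

/-- The half sum of two base vectors. -/
def halfPair : Vec := fun k => if k = pt inPt then 4 else if k = pt outPt then 4 else 0

theorem halfPair_ok : LTest halfPair := by decide +kernel

theorem cls_cards : ((Finset.univ : Finset GolayPt).filter fun i => ix i ≠ inPt ∧ inOct i).card = 7 ∧
    ((Finset.univ : Finset GolayPt).filter fun i => ix i ≠ outPt ∧ ¬ inOct i).card = 15 ∧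
    ((Finset.univ : Finset GolayPt).filter fun i => ¬ inOct i).card = 16 ∧
    ((Finset.univ : Finset GolayPt).filter fun i => inOct i = true).card = 8 := by
  decide +kernel

/-- A vector with three values. -/
theorem three_sum {x : Vec} {r : GolayPt} {a b c : ℤ} {S : GolayPt → Prop} [DecidablePred S] (hr : x r = a)
    (h1 : ∀ i, i ≠ r → S i → x i = b) (h2 : ∀ i, i ≠ r → ¬ S i → x i = c) (F : ℤ → ℤ) :
    ∑ i, F (x i) = F a + ((Finset.univ.filter fun i => i ≠ r ∧ S i).card : ℤ) * F b +
      ((Finset.univ.filter fun i => i ≠ r ∧ ¬ S i).card : ℤ) * F c := by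
  have e1 : ∑ i ∈ (Finset.univ.erase r).filter S, F (x i) =
      ∑ i ∈ (Finset.univ.erase r).filter S, F b :=
    Finset.sum_congr rfl fun i hi => by
      rw [h1 i (Finset.ne_of_mem_erase (Finset.mem_filter.1 hi).1) (Finset.mem_filter.1 hi).2]
  have e2 : ∑ i ∈ (Finset.univ.erase r).filter (fun i => ¬ S i), F (x i) =
      ∑ i ∈ (Finset.univ.erase r).filter (fun i => ¬ S i), F c :=
    Finset.sum_congr rfl fun i hi => by
      rw [h2 i (Finset.ne_of_mem_erase (Finset.mem_filter.1 hi).1) (Finset.mem_filter.1 hi).2]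
  rw [← Finset.add_sum_erase _ _ (Finset.mem_univ r), ← Finset.sum_filter_add_sum_filter_not (Finset.univ.erase r) S,
    hr, add_assoc, e1, e2, Finset.sum_const, Finset.sum_const, nsmul_eq_mul, nsmul_eq_mul]
  congr 3 <;> congr 2 <;> ext i <;> simp [and_comm]

/-- The two shapes of an image of a base vector inside the octad. -/
theorem in_shape {v : ↥leechLattice} (hn : sqNorm (v : Vec) = 64)
    (hfix : ∀ p ∈ inFix, ∀ σ : ↥M24, Rep (σ : Equiv.Perm GolayPt) p → permHom σ • v = v) :
    ∃ a b c : ℤ, (v : Vec) (pt inPt) = a ∧ (∀ i, ix i ≠ inPt → inOct i = true → (v : Vec) i = b) ∧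
      (∀ i, inOct i = false → (v : Vec) i = c) ∧
      (((a = 8 ∨ a = -8) ∧ b = 0 ∧ c = 0) ∨ ((a = 6 ∨ a = -6) ∧ c = 0) ∨ (a = 0 ∧ b = 0)) := by
  have hstep : ∀ p ∈ inFix, ∀ j < 24, (v : Vec) (pt (pget p j)) = (v : Vec) (pt j) := by
    intro p hp
    have h' := List.all_eq_true.1 oct_ok.1 p (List.mem_append_left _ (List.mem_append_right _ hp))
    simp only [octPermOK, Bool.and_eq_true] at h'
    obtain ⟨σ, hσ⟩ := exists_M24_elt h'.1.1
    exact fix_step hσ (hfix p hp σ hσ)
  set a := (v : Vec) (pt inPt)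
  set b := (v : Vec) (pt 12)
  set c := (v : Vec) (pt outPt)
  have hb : ∀ i, ix i ≠ inPt → inOct i = true → (v : Vec) i = b := by
    intro i hne hi
    rw [inOct, Nat.beq_eq] at hi
    rcases classes_pos (ix i) (ix_lt i) with h | ⟨-, h⟩ | ⟨h, -⟩
    · exact absurd h hne
    · rw [← pt_ix i]; exact (const_reach (v : Vec) hstep (by norm_num) 8 _ h).2
    · omega
  have hc : ∀ i, inOct i = false → (v : Vec) i = c := by
    intro i hi
    simp only [inOct, Bool.eq_false_iff, ne_eq, Nat.beq_eq] at hi
    rcases classes_pos (ix i) (ix_lt i) with h | ⟨h, -⟩ | ⟨-, h⟩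
    · exact absurd (h ▸ bits_ok.1) hi
    · exact absurd h hi
    · rw [← pt_ix i]; exact (const_reach (v : Vec) hstep (by norm_num [outPt]) 8 _ h).2
  have hsum : ∀ F : ℤ → ℤ, ∑ i, F ((v : Vec) i) = F a + 7 * F b + 16 * F c := by
    intro F
    rw [three_sum (S := fun i => inOct i = true) (r := pt inPt) (a := a) (b := b) (c := c) rfl
      (fun i hne hi => hb i (fun e => hne (ix_injective (by rw [e, ix_pt (by norm_num [inPt])]))) hi)
      (fun i _ hi => hc i (by simpa using hi)) F]
    rw [show (Finset.univ.filter fun i => i ≠ pt inPt ∧ inOct i = true).card = 7 by decide +kernel,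
      show (Finset.univ.filter fun i => i ≠ pt inPt ∧ ¬ inOct i = true).card = 16 by decide +kernel]
    norm_num
  have h64 : a ^ 2 + 7 * b ^ 2 + 16 * c ^ 2 = 64 := by rw [← hn, sqNorm]; exact (hsum fun t => t ^ 2).symm
  obtain ⟨m, d, h1, -, h3⟩ := mem_iff.1 v.2
  rw [hsum fun t => t] at h3
  have ea : a = m + 2 * d (pt inPt) := h1 _
  have eb : b = m + 2 * d (pt 12) := h1 _
  have ec : c = m + 2 * d (pt outPt) := h1 _
  rw [Int.ModEq] at h3
  refine ⟨a, b, c, rfl, hb, hc, in_solve a ?_ b ?_ c ?_ h64 (by omega) (by omega) (by omega)⟩ <;>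
    rw [Finset.mem_Icc] <;> constructor <;> nlinarith [sq_nonneg a, sq_nonneg b, sq_nonneg c]
where
  classes_pos : ∀ i < 24, i = inPt ∨ (bitAt octKey i = 1 ∧ i ∈ reachPts inFix 12 8) ∨
      (bitAt octKey i = 0 ∧ i ∈ reachPts inFix outPt 8) := by decide +kernel
  bits_ok : bitAt octKey inPt = 1 ∧ bitAt octKey outPt = 0 := by decide +kernel

/-- The two shapes of an image of a base vector outside the octad. -/
theorem out_shape {v : ↥leechLattice} (hn : sqNorm (v : Vec) = 64)
    (hfix : ∀ p ∈ outFix, ∀ σ : ↥M24, Rep (σ : Equiv.Perm GolayPt) p → permHom σ • v = v) :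
    ∃ a b c : ℤ, (v : Vec) (pt outPt) = a ∧ (∀ i, ix i ≠ outPt → inOct i = false → (v : Vec) i = b) ∧
      (∀ i, inOct i = true → (v : Vec) i = c) ∧
      (((a = 8 ∨ a = -8) ∧ b = 0 ∧ c = 0) ∨ (a = b ∧ c = 0)) := by
  have hstep : ∀ p ∈ outFix, ∀ j < 24, (v : Vec) (pt (pget p j)) = (v : Vec) (pt j) := by
    intro p hp
    have h' := List.all_eq_true.1 oct_ok.1 p (List.mem_append_right _ hp)
    simp only [octPermOK, Bool.and_eq_true] at h'
    obtain ⟨σ, hσ⟩ := exists_M24_elt h'.1.1
    exact fix_step hσ (hfix p hp σ hσ)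
  set a := (v : Vec) (pt outPt)
  set b := (v : Vec) (pt 2)
  set c := (v : Vec) (pt inPt)
  have hb : ∀ i, ix i ≠ outPt → inOct i = false → (v : Vec) i = b := by
    intro i hne hi
    simp only [inOct, Bool.eq_false_iff, ne_eq, Nat.beq_eq] at hi
    rcases classes_pos (ix i) (ix_lt i) with h | ⟨-, h⟩ | ⟨h, -⟩
    · exact absurd h hne
    · rw [← pt_ix i]; exact (const_reach (v : Vec) hstep (by norm_num) 8 _ h).2
    · exact absurd h hi
  have hc : ∀ i, inOct i = true → (v : Vec) i = c := by
    intro i hi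
    rw [inOct, Nat.beq_eq] at hi
    rcases classes_pos (ix i) (ix_lt i) with h | ⟨h, -⟩ | ⟨-, h⟩
    · exact absurd (h ▸ bits_ok) (by rw [hi]; norm_num)
    · omega
    · rw [← pt_ix i]; exact (const_reach (v : Vec) hstep (by norm_num [inPt]) 8 _ h).2
  have hsum : ∀ F : ℤ → ℤ, ∑ i, F ((v : Vec) i) = F a + 15 * F b + 8 * F c := by
    intro F
    rw [three_sum (S := fun i => inOct i = false) (r := pt outPt) (a := a) (b := b) (c := c) rfl
      (fun i hne hi => hb i (fun e => hne (ix_injective (by rw [e, ix_pt (by norm_num [outPt])]))) hi)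
      (fun i _ hi => hc i (by simpa using hi)) F]
    rw [show (Finset.univ.filter fun i => i ≠ pt outPt ∧ inOct i = false).card = 15 by decide +kernel,
      show (Finset.univ.filter fun i => i ≠ pt outPt ∧ ¬ inOct i = false).card = 8 by decide +kernel]
    norm_num
  have h64 : a ^ 2 + 15 * b ^ 2 + 8 * c ^ 2 = 64 := by rw [← hn, sqNorm]; exact (hsum fun t => t ^ 2).symm
  obtain ⟨m, d, h1, -, h3⟩ := mem_iff.1 v.2
  rw [hsum fun t => t] at h3
  have ea : a = m + 2 * d (pt outPt) := h1 _
  have eb : b = m + 2 * d (pt 2) := h1 _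
  have ec : c = m + 2 * d (pt inPt) := h1 _
  rw [Int.ModEq] at h3
  refine ⟨a, b, c, rfl, hb, hc, out_solve a ?_ b ?_ c ?_ h64 (by omega) (by omega) (by omega)⟩ <;>
    rw [Finset.mem_Icc] <;> constructor <;> nlinarith [sq_nonneg a, sq_nonneg b, sq_nonneg c]
where
  classes_pos : ∀ i < 24, i = outPt ∨ (bitAt octKey i = 0 ∧ i ∈ reachPts outFix 2 8) ∨
      (bitAt octKey i = 1 ∧ i ∈ reachPts outFix inPt 8) := by decide +kernel
  bits_ok : bitAt octKey outPt = 0 := by decide +kernel

/-- A signed base vector. -/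
def Axis (x : ↥leechLattice) (i : GolayPt) : Prop :=
  (x : Vec) = eightVec i ∨ (x : Vec) = -eightVec i

theorem axis_of_values {x : ↥leechLattice} {i : GolayPt} (ha : (x : Vec) i = 8 ∨ (x : Vec) i = -8)
    (h : ∀ k, k ≠ i → (x : Vec) k = 0) : Axis x i := by
  rcases ha with e | e
  · left; funext k
    by_cases hk : k = i
    · rw [hk, e]; simp [eightVec]
    · rw [h k hk]; simp [eightVec, hk]
  · right; funext k
    by_cases hk : k = i
    · rw [hk, e]; simp [eightVec]
    · rw [h k hk]; simp [eightVec, hk]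

theorem perm_eight (σ : ↥M24) (i : GolayPt) : permHom σ • eightAt i = eightAt (σ.1 i) := by
  refine Subtype.ext (funext fun k => ?_)
  show eightVec i (σ.1.symm k) = eightVec (σ.1 i) k
  simp [eightVec, Equiv.symm_apply_eq]

theorem carry_ok : (∀ i < 24, i = inPt ∨ i = outPt ∨
      ∃ p ∈ octCarriers, pget p (if bitAt octKey i = 1 then inPt else outPt) = i) ∧
    (∀ p ∈ octCarriers, bitAt octKey (pget p inPt) = 1 ∧ bitAt octKey (pget p outPt) = 0) ∧
    inPt < 24 ∧ outPt < 24 ∧ inOct (pt inPt) = true ∧ inOct (pt outPt) = false ∧ inOct (pt 12) = true ∧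
    12 ≠ inPt ∧ inOct (pt 2) = false ∧ 2 ≠ outPt := by
  decide +kernel

/-- What commutes with the stabiliser of the octad. -/
theorem oct_centraliser (c : ↥Co0)
    (h : ∀ p ∈ octCarriers ++ inFix ++ outFix, ∀ σ : ↥M24, Rep (σ : Equiv.Perm GolayPt) p →
      c * permHom σ = permHom σ * c) :
    ∃ hO : wordOf octKey ∈ golayCode, c = 1 ∨ c = negElt ∨ c = fl _ hO ∨ c = negElt * fl _ hO := by
  have hO : wordOf octKey ∈ golayCode :=
    mem_golayCode.2 (by rw [support₂_wordOf, maskOf_setOfMask (inCode_lt oct_ok.2.1)]; exact oct_ok.2.1)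
  refine ⟨hO, ?_⟩
  obtain ⟨hcarry, hside, hi24, ho24, hiO, hoO, h12, h12ne, h2O, h2ne⟩ := carry_ok
  have hmove : ∀ p ∈ octCarriers ++ inFix ++ outFix, ∀ σ : ↥M24, Rep (σ : Equiv.Perm GolayPt) p →
      ∀ i, permHom σ • c • eightAt i = c • eightAt (σ.1 i) := fun p hp σ hσ i => by
    rw [← mul_smul, ← h p hp σ hσ, mul_smul, perm_eight]
  have hfixi : ∀ (L : List ℕ) (s : ℕ), (∀ p ∈ L, p ∈ octCarriers ++ inFix ++ outFix) → s < 24 →
      (∀ p ∈ L, pget p s = s) →
      ∀ p ∈ L, ∀ σ : ↥M24, Rep (σ : Equiv.Perm GolayPt) p → permHom σ • c • eightAt (pt s) = c • eightAt (pt s) := by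
    intro L s hL hs hfix p hp σ hσ
    rw [hmove p (hL p hp) σ hσ, show σ.1 (pt s) = pt s from ix_injective (by rw [← hσ, ix_pt hs, hfix p hp])]
  have hn : ∀ i, sqNorm ((c • eightAt i : ↥leechLattice) : Vec) = 64 := fun i =>
    (norm_smul' c _).trans (norm_eight i)
  obtain ⟨a, b, e, hva, hvb, hve, hin⟩ := in_shape (hn (pt inPt))
    (hfixi inFix inPt (fun p hp => List.mem_append_left _ (List.mem_append_right _ hp)) hi24
      fun p hp => Nat.eq_of_beq_eq_true (List.all_eq_true.1 oct_ok.2.2.1 p hp))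
  obtain ⟨a', b', e', hwa, hwb, hwe, hout⟩ := out_shape (hn (pt outPt))
    (hfixi outFix outPt (fun p hp => List.mem_append_right _ hp) ho24
      fun p hp => Nat.eq_of_beq_eq_true (List.all_eq_true.1 oct_ok.2.2.2 p hp))
  have himg : ∀ s ∈ [inPt, outPt], ∀ i, i ≠ pt s → inOct i = inOct (pt s) →
      ∃ σ : ↥M24, σ.1 (pt s) = i ∧ (∀ k, inOct (σ.1 k) = inOct k) ∧
        permHom σ • c • eightAt (pt s) = c • eightAt i := by
    intro s hs i hne hi
    have hs24 : s < 24 := by
      simp only [List.mem_cons, List.not_mem_nil, or_false] at hs; rcases hs with rfl | rfl <;> assumption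
    obtain ⟨p, hp, hps⟩ : ∃ p ∈ octCarriers, pget p s = ix i := by
      rcases hcarry (ix i) (ix_lt i) with h' | h' | ⟨p, hp, hps⟩
      · exfalso
        have e1 : i = pt inPt := ix_injective (by rw [h', ix_pt hi24])
        simp only [List.mem_cons, List.not_mem_nil, or_false] at hs
        rcases hs with rfl | rfl
        · exact hne e1
        · rw [e1, hiO, hoO] at hi; exact Bool.false_ne_true hi.symm
      · exfalso
        have e1 : i = pt outPt := ix_injective (by rw [h', ix_pt ho24])
        simp only [List.mem_cons, List.not_mem_nil, or_false] at hs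
        rcases hs with rfl | rfl
        · rw [e1, hiO, hoO] at hi; exact Bool.false_ne_true hi
        · exact hne e1
      · refine ⟨p, hp, ?_⟩
        rw [← hps]
        simp only [List.mem_cons, List.not_mem_nil, or_false] at hs
        rcases hs with rfl | rfl
        · rw [hiO, inOct, Nat.beq_eq] at hi; rw [if_pos hi]
        · rw [hoO] at hi; simp only [inOct, Bool.eq_false_iff, ne_eq, Nat.beq_eq] at hi; rw [if_neg hi]
    have hp' : p ∈ octCarriers ++ inFix ++ outFix := List.mem_append_left _ (List.mem_append_left _ hp)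
    have h' := List.all_eq_true.1 oct_ok.1 p hp'
    simp only [octPermOK, Bool.and_eq_true, Nat.beq_eq] at h'
    obtain ⟨σ, hσ⟩ := exists_M24_elt h'.1.1
    have e1 : σ.1 (pt s) = i := ix_injective (by rw [← hσ, ix_pt hs24, hps])
    refine ⟨σ, e1, fun k => ?_, (hmove p hp' σ hσ _).trans (by rw [e1])⟩
    have hw : act σ.1 (wordOf octKey) = wordOf octKey := by
      rw [← ThreeTrans.Golay.wordOf_mk (act σ.1 (wordOf octKey)), ThreeTrans.Golay.mk_act hσ,
        ThreeTrans.Golay.mk_wordOf (inCode_lt oct_ok.2.1), h'.1.2]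
    have hk := congrFun hw (σ.1 k)
    simp only [act, Equiv.symm_apply_apply] at hk
    have hb : ∀ j : GolayPt, inOct j = decide (wordOf octKey j ≠ 0) := by decide +kernel
    rw [hb, hb, hk]
  -- the degenerate shapes collide
  have hcollide : ∀ s ∈ [inPt, outPt], ∀ i, i ≠ pt s → inOct i = inOct (pt s) →
      (∀ k k', inOct k = inOct k' → ((c • eightAt (pt s) : ↥leechLattice) : Vec) k =
        ((c • eightAt (pt s) : ↥leechLattice) : Vec) k') → False := by
    intro s hs i hne hi hconst
    obtain ⟨σ, -, hσO, hσv⟩ := himg s hs i hne hi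
    have h1 : permHom σ • c • eightAt (pt s) = c • eightAt (pt s) := Subtype.ext (funext fun k => by
      show ((c • eightAt (pt s) : ↥leechLattice) : Vec) (σ.1.symm k) = _
      refine hconst _ _ ?_
      rw [← hσO (σ.1.symm k), Equiv.apply_symm_apply])
    have h2 := smul_left_cancel c (hσv.symm.trans h1)
    exact hne (eightVec_inj (congrArg Subtype.val h2))
  have hout' : Axis (c • eightAt (pt outPt)) (pt outPt) := by
    rcases hout with ⟨ha, rfl, rfl⟩ | ⟨rfl, rfl⟩
    · refine axis_of_values (by rw [hwa]; exact ha) fun k hk => ?_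
      by_cases ho : inOct k = true
      · exact hwe k ho
      · exact hwb k (fun e1 => hk (ix_injective (by rw [e1, ix_pt ho24]))) (by simpa using ho)
    · exfalso
      refine hcollide outPt (by simp) (pt 2) (fun e1 => h2ne ?_) (by rw [h2O, hoO]) fun k k' hkk => ?_
      · have := congrArg ix e1
        rwa [ix_pt (by norm_num), ix_pt ho24] at this
      · have hval : ∀ j, ((c • eightAt (pt outPt) : ↥leechLattice) : Vec) j = if inOct j then 0 else a' := by
          intro j
          by_cases ho : inOct j = true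
          · rw [if_pos ho]; exact hwe j ho
          · rw [if_neg ho]
            by_cases hj : ix j = outPt
            · rw [show j = pt outPt from ix_injective (by rw [hj, ix_pt ho24])]; exact hwa
            · exact hwb j hj (by simpa using ho)
        rw [hval, hval, hkk]
  have hin' : Axis (c • eightAt (pt inPt)) (pt inPt) := by
    rcases hin with ⟨ha, rfl, rfl⟩ | ⟨ha, rfl⟩ | ⟨rfl, rfl⟩
    · refine axis_of_values (by rw [hva]; exact ha) fun k hk => ?_
      by_cases ho : inOct k = true
      · exact hvb k (fun e1 => hk (ix_injective (by rw [e1, ix_pt hi24]))) ho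
      · exact hve k (by simpa using ho)
    · -- a half sum would leave the lattice
      exfalso
      let x : ↥leechLattice := ⟨halfPair, mem_iff.2 (isL_of_test halfPair_ok)⟩
      have hne : pt inPt ≠ pt outPt := fun e1 => by rw [e1, hoO] at hiO; exact Bool.false_ne_true hiO
      have e2 : (2 : ℕ) • x = eightAt (pt inPt) + eightAt (pt outPt) := Subtype.ext (funext fun k => by
        show (2 : ℕ) • halfPair k = eightVec (pt inPt) k + eightVec (pt outPt) k
        simp only [halfPair, eightVec]
        by_cases k1 : k = pt inPt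
        · subst k1; simp [hne]
        · by_cases k2 : k = pt outPt
          · subst k2; simp [k1]
          · simp [k1, k2])
      have e3 : (2 : ℕ) • (c • x) = c • eightAt (pt inPt) + c • eightAt (pt outPt) := by
        rw [← smul_nsmul', e2]; exact map_add (linOf c) _ _
      obtain ⟨m, d, h1, -, -⟩ := mem_iff.1 (c • x).2
      have q1 := congrArg (fun z : ↥leechLattice => (z : Vec) (pt inPt)) e3
      have q2 := congrArg (fun z : ↥leechLattice => (z : Vec) (pt outPt)) e3
      simp only [AddSubgroup.coe_add, AddSubmonoidClass.coe_nsmul, Pi.add_apply, Pi.smul_apply, nsmul_eq_mul] at q1 q2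
      rw [h1] at q1 q2
      rw [hva] at q1
      rw [hve (pt outPt) hoO] at q2
      rcases hout' with w1 | w1 <;> rw [w1] at q1 q2 <;>
        simp [eightVec, hne] at q1 q2 <;> omega
    · exfalso
      refine hcollide inPt (by simp) (pt 12) (fun e1 => h12ne ?_) (by rw [h12, hiO]) fun k k' hkk => ?_
      · have := congrArg ix e1
        rwa [ix_pt (by norm_num), ix_pt hi24] at this
      · have hval : ∀ j, ((c • eightAt (pt inPt) : ↥leechLattice) : Vec) j = if inOct j then 0 else e := by
          intro j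
          by_cases ho : inOct j = true
          · rw [if_pos ho]
            by_cases hj : ix j = inPt
            · rw [show j = pt inPt from ix_injective (by rw [hj, ix_pt hi24])]; exact hva
            · exact hvb j hj ho
          · rw [if_neg ho]; exact hve j (by simpa using ho)
        rw [hval, hval, hkk]
  have hall : ∀ i, Axis (c • eightAt i) i := by
    intro i
    by_cases hin0 : i = pt inPt
    · rw [hin0]; exact hin'
    by_cases hout0 : i = pt outPt
    · rw [hout0]; exact hout'
    obtain ⟨s, hs, hne, hso, hax⟩ : ∃ s ∈ [inPt, outPt], i ≠ pt s ∧ inOct i = inOct (pt s) ∧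
        Axis (c • eightAt (pt s)) (pt s) := by
      by_cases ho : inOct i = true
      · exact ⟨inPt, by simp, hin0, ho.trans hiO.symm, hin'⟩
      · exact ⟨outPt, by simp, hout0, (show inOct i = false by simpa using ho).trans hoO.symm, hout'⟩
    obtain ⟨σ, hσi, -, hσv⟩ := himg s hs i hne hso
    rw [← hσv]
    rcases hax with w1 | w1
    · left
      rw [show (c • eightAt (pt s) : ↥leechLattice) = eightAt (pt s) from Subtype.ext w1, perm_eight, hσi]
      rfl
    · right
      rw [show (c • eightAt (pt s) : ↥leechLattice) = -eightAt (pt s) from Subtype.ext w1, smul_neg', perm_eight,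
        hσi]
      rfl
  obtain ⟨-, h1', w, hw, hcw⟩ := (show PermOf c 1 from hall).mono
  have hcw' : c = fl w hw := by
    rw [hcw, show permElt h1' = 1 from co0_ext fun v => by rw [permElt_apply, one_smul]; rfl, mul_one]
  -- the word is constant on the octad and outside
  have hwc : ∀ s ∈ [inPt, outPt], ∀ i, inOct i = inOct (pt s) → w i = w (pt s) := by
    intro s hs i hi
    by_cases hne : i = pt s
    · rw [hne]
    obtain ⟨σ, hσi, -, hσv⟩ := himg s hs i hne hi
    have e1 := congrArg (fun z : ↥leechLattice => (z : Vec) i) hσv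
    rw [hcw'] at e1
    simp only [permHom_apply, permElt_apply, fl_apply] at e1
    change (if w (σ.1.symm i) ≠ 0 then -eightVec (pt s) (σ.1.symm i) else eightVec (pt s) (σ.1.symm i)) =
      (if w i ≠ 0 then -eightVec i i else eightVec i i) at e1
    rw [σ.1.symm_apply_eq.2 hσi.symm] at e1
    simp only [eightVec, if_true] at e1
    have z : ∀ t : ZMod 2, t = 0 ∨ t = 1 := by decide
    rcases z (w i) with hz | hz <;> rcases z (w (pt s)) with hz' | hz' <;> rw [hz, hz'] at e1 ⊢ <;> simp at e1
  have hword : ∀ i, w i = if inOct i then w (pt inPt) else w (pt outPt) := fun i => by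
    by_cases ho : inOct i = true
    · rw [if_pos ho]; exact hwc inPt (by simp) i (ho.trans hiO.symm)
    · rw [if_neg ho]; exact hwc outPt (by simp) i ((show inOct i = false by simpa using ho).trans hoO.symm)
  have hbit : ∀ i, wordOf octKey i = if inOct i then 1 else 0 := by decide +kernel
  have z : ∀ t : ZMod 2, t = 0 ∨ t = 1 := by decide
  rcases z (w (pt inPt)) with p1 | p1 <;> rcases z (w (pt outPt)) with p2 | p2
  · left
    rw [hcw', ← fl_zero]; congr 1; funext i; rw [hword i, p1, p2]; simp
  · right; right; right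
    rw [hcw', ← fl_one, ← fl_add]; congr 1; funext i
    rw [hword i, p1, p2, Pi.add_apply, hbit i]
    by_cases ho : inOct i = true <;> simp [ho] <;> decide
  · right; right; left
    rw [hcw']; congr 1; funext i; rw [hword i, p1, p2, hbit i]
  · right; left
    rw [hcw', ← fl_one]; congr 1; funext i; rw [hword i, p1, p2]; simp

/-! ### the sextet involution -/

/-- The tetrad index of a position. -/
noncomputable def tix (n : ℕ) : ℕ :=
  if bitAt 8388615 n = 1 then 0 else if bitAt 4268048 n = 1 then 1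
  else if bitAt 147496 n = 1 then 2 else if bitAt 2621632 n = 1 then 3
  else if bitAt 1082880 n = 1 then 4 else 5

/-- An odd order element permuting the tetrads and fixing the first. -/
noncomputable def xiPermOK (p : ℕ) : Bool :=
  isAut p && (Nat.beq (ppow p 3) pone || Nat.beq (ppow p 5) pone || Nat.beq (ppow p 7) pone ||
    Nat.beq (ppow p 15) pone) &&
    forallLt 24 fun i => forallLt 24 fun j =>
      decide ((tix i = tix j ↔ tix (pget p i) = tix (pget p j)) ∧ (tix i = 0 ↔ tix (pget p i) = 0))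

theorem xiPerms_ok : xiPerms.all xiPermOK = true := by decide +kernel

theorem xi_comm {σ : ↥M24} {p : ℕ} (hσ : Rep (σ : Equiv.Perm GolayPt) p) (hp : xiPermOK p = true) :
    xiElt * permHom σ = permHom σ * xiElt := by
  simp only [xiPermOK, Bool.and_eq_true] at hp
  have ht : ∀ i j : GolayPt, (tetIx i = tetIx j ↔ tetIx (σ.1 i) = tetIx (σ.1 j)) ∧
      (tetIx i = 0 ↔ tetIx (σ.1 i) = 0) := by
    intro i j
    have h := of_decide_eq_true (forallLt_elim (forallLt_elim hp.2 (ix_lt i)) (ix_lt j))
    rwa [hσ i, hσ j] at h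
  refine co0_ext fun v => funext fun i => ?_
  rw [mul_smul, mul_smul, xiElt_apply, permHom_apply, permElt_apply, permElt_apply, xiElt_apply]
  show tetSign i * ((∑ j ∈ tet i, permVec σ.1 v j) / 2 - permVec σ.1 v i) =
    tetSign (σ.1.symm i) * ((∑ j ∈ tet (σ.1.symm i), (v : Vec) j) / 2 - (v : Vec) (σ.1.symm i))
  have hsign : tetSign (σ.1.symm i) = tetSign i := by
    have h := (ht (σ.1.symm i) i).2
    rw [Equiv.apply_symm_apply] at h
    simp only [tetSign, h]
  have htet : ∑ j ∈ tet i, permVec σ.1 v j = ∑ j ∈ tet (σ.1.symm i), (v : Vec) j := by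
    refine Finset.sum_equiv σ.1.symm (fun j => ?_) (fun j _ => rfl)
    have h := (ht (σ.1.symm j) (σ.1.symm i)).1
    simp only [Equiv.apply_symm_apply] at h
    simp only [tet, Finset.mem_filter, Finset.mem_univ, true_and, h]
  rw [htet, hsign]
  rfl

/-- Each word goes with the sextet involution to a monomial element. -/
theorem xiFlips_ok : xiFlips.length = 7 ∧
    (∀ e ∈ xiFlips, inCode e.1 = true ∧ e.2 < xiPerms.length ∧
      ∃ k : GolayPt, xi (flipVec (setOfMask e.1) (xi (eightVec none))) = eightVec k ∨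
        xi (flipVec (setOfMask e.1) (xi (eightVec none))) = -eightVec k) := by
  decide +kernel

/-- The combined word of an entry. -/
noncomputable def flipWord (e : ℕ × ℕ) : ℕ := Nat.xor (mimg (xiPerms.getD e.2 0) e.1) e.1

theorem sep_ok : (forallLt 24 fun i => forallLt 24 fun j => Nat.beq i j ||
    xiFlips.any fun e => ! Nat.beq (bitAt (flipWord e) i) (bitAt (flipWord e) j)) = true ∧
    (∀ i < 24, (tix i = 0 ∧ i ∈ reachPts xiPerms 23 12) ∨ (tix i ≠ 0 ∧ i ∈ reachPts xiPerms 3 12)) ∧
    inCode 8388615 = false ∧ inCode (Nat.xor 8388615 16777215) = false := by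
  decide +kernel

theorem tix_words : (∀ i : GolayPt, wordOf 8388615 i = if tix (ix i) = 0 then 1 else 0) ∧
    (∀ i : GolayPt, wordOf (Nat.xor 8388615 16777215) i = if tix (ix i) = 0 then 0 else 1) ∧
    (∀ e ∈ xiFlips, flipWord e < 2 ^ 24) := by
  decide +kernel

theorem xi_centraliser (c : ↥Co0)
    (hp : ∀ p ∈ xiPerms, ∀ σ : ↥M24, Rep (σ : Equiv.Perm GolayPt) p → c * permHom σ = permHom σ * c)
    (hf : ∀ e ∈ xiFlips, ∀ hw : wordOf (flipWord e) ∈ golayCode, c * fl _ hw = fl _ hw * c)
    (hcode : ∀ e ∈ xiFlips, wordOf (flipWord e) ∈ golayCode) : c = 1 ∨ c = negElt := by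
  obtain ⟨hsep, hreach, n1, n2⟩ := sep_ok
  have hall : ∀ i, Axis (c • eightAt i) i := by
    intro i
    have hz : ∀ k, k ≠ i → ((c • eightAt i : ↥leechLattice) : Vec) k = 0 := by
      intro k hk
      have h1 := forallLt_elim (forallLt_elim hsep (ix_lt i)) (ix_lt k)
      rw [Bool.or_eq_true, Nat.beq_eq, List.any_eq_true] at h1
      obtain ⟨e, he, hbit⟩ := h1.resolve_left fun q => hk (ix_injective q.symm)
      simp only [Bool.not_eq_true', Bool.eq_false_iff, ne_eq, Nat.beq_eq] at hbit
      set u := wordOf (flipWord e) with hu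
      have hdiff : u i ≠ u k := fun q => hbit (bit_of_word (tix_words.2.2 e he) i k q)
      have hev : ∀ j : GolayPt, (fl u (hcode e he) • eightAt j : ↥leechLattice) =
          if u j ≠ 0 then -eightAt j else eightAt j := by
        intro j
        refine Subtype.ext ?_
        rw [fl_apply]
        funext l
        by_cases hl : l = j
        · subst hl; split_ifs <;> simp [eightAt, eightVec]
        · split_ifs <;> simp [eightAt, eightVec, hl]
      have e1 : fl u (hcode e he) • c • eightAt i =
          if u i ≠ 0 then -(c • eightAt i) else c • eightAt i := by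
        rw [← mul_smul, ← hf e he (hcode e he), mul_smul, hev i]
        split_ifs
        · exact smul_neg' c _
        · rfl
      have e2 := congrArg (fun z : ↥leechLattice => (z : Vec) k) e1
      simp only [fl_apply] at e2
      have z : ∀ t : ZMod 2, t = 0 ∨ t = 1 := by decide
      rcases z (u i) with hi | hi <;> rcases z (u k) with hk' | hk' <;> rw [hi, hk'] at hdiff
      · exact absurd rfl hdiff
      · simp [hi, hk'] at e2; omega
      · simp [hi, hk'] at e2; omega
      · exact absurd rfl hdiff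
    refine axis_of_values ?_ hz
    have hn : sqNorm ((c • eightAt i : ↥leechLattice) : Vec) = 64 := (norm_smul' c _).trans (norm_eight i)
    rw [sqNorm, Finset.sum_eq_single i (fun k _ hk => by rw [hz k hk]; norm_num) (by simp)] at hn
    set t := ((c • eightAt i : ↥leechLattice) : Vec) i
    have : (t - 8) * (t + 8) = 0 := by linear_combination hn
    rcases mul_eq_zero.1 this with q | q
    · left; omega
    · right; omega
  obtain ⟨-, h1', w, hw, hcw⟩ := (show PermOf c 1 from hall).mono
  have hcw' : c = fl w hw := by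
    rw [hcw, show permElt h1' = 1 from co0_ext fun v => by rw [permElt_apply, one_smul]; rfl, mul_one]
  have hstep : ∀ p ∈ xiPerms, ∀ j < 24, w (pt (pget p j)) = w (pt j) := by
    intro p hp' j hj
    have h' := List.all_eq_true.1 xiPerms_ok p hp'
    simp only [xiPermOK, Bool.and_eq_true] at h'
    obtain ⟨σ, hσ⟩ := exists_M24_elt h'.1.1
    have e := hp p hp' σ hσ
    rw [hcw'] at e
    have e1 := congrArg (fun z : ↥Co0 => ((z • eightAt (pt j) : ↥leechLattice) : Vec) (σ.1 (pt j))) e
    simp only [mul_smul, perm_eight, fl_apply] at e1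
    rw [permHom_apply, permElt_apply] at e1
    simp only [permVec, fl_apply, Equiv.symm_apply_apply] at e1
    have hj' : pget p j < 24 := by
      have := ix_lt (σ.1 (pt j))
      rwa [← hσ, ix_pt hj] at this
    rw [show pt (pget p j) = σ.1 (pt j) from ix_injective (by rw [ix_pt hj', ← hσ, ix_pt hj])]
    have z : ∀ t : ZMod 2, t = 0 ∨ t = 1 := by decide
    rcases z (w (σ.1 (pt j))) with q | q <;> rcases z (w (pt j)) with q' | q' <;> rw [q, q'] at e1 ⊢ <;>
      simp [eightAt, eightVec] at e1
  have hword : ∀ i, w i = if tix (ix i) = 0 then w (pt 23) else w (pt 3) := by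
    intro i
    rcases hreach (ix i) (ix_lt i) with ⟨ht, h'⟩ | ⟨ht, h'⟩
    · rw [if_pos ht]; conv_lhs => rw [← pt_ix i]
      exact (const_reach w hstep (by norm_num) 12 _ h').2
    · rw [if_neg ht]; conv_lhs => rw [← pt_ix i]
      exact (const_reach w hstep (by norm_num) 12 _ h').2
  have z : ∀ t : ZMod 2, t = 0 ∨ t = 1 := by decide
  have key : ∀ (v : Word) (hv : v ∈ golayCode), w = v → c = fl v hv := fun v hv ev => by
    subst ev; exact hcw'
  rcases z (w (pt 23)) with p1 | p1 <;> rcases z (w (pt 3)) with p2 | p2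
  · left; exact (key 0 (zero_mem _) (funext fun i => by rw [hword i, p1, p2]; simp)).trans fl_zero
  · exfalso
    have hm := hw
    rw [show w = wordOf (Nat.xor 8388615 16777215) from funext fun i => by rw [hword i, p1, p2, tix_words.2.1],
      mem_golayCode, support₂_wordOf, maskOf_setOfMask (by decide +kernel), n2] at hm
    exact Bool.false_ne_true hm
  · exfalso
    have hm := hw
    rw [show w = wordOf 8388615 from funext fun i => by rw [hword i, p1, p2, tix_words.1],
      mem_golayCode, support₂_wordOf, maskOf_setOfMask (by norm_num), n1] at hm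
    exact Bool.false_ne_true hm
  · right; rw [← fl_one]; exact key _ _ (funext fun i => by rw [hword i, p1, p2]; simp)
where
  bit_of_word {m : ℕ} (hm : m < 2 ^ 24) (i k : GolayPt) (q : wordOf m i = wordOf m k) :
      bitAt m (ix i) = bitAt m (ix k) := by
    simp only [bitAt_eq]
    simp only [wordOf] at q
    split_ifs at q ⊢ <;> simp_all

/-! ### automorphisms -/

theorem basis_ok : basisCarriers.length = 12 ∧
    (∀ k < 12, isAut (basisCarriers.getD k 0) = true ∧ mimg (basisCarriers.getD k 0) octKey = basisMask k) := by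
  decide +kernel

theorem eq_one_of_fix (θ : MulAut Spor.Co1) (h : ∀ u, θ (proj (permHom u)) = proj (permHom u)) : θ = 1 := by
  classical
  let T : Subgroup ↥Co0 := (θ.toMonoidHom.eqLocus (MonoidHom.id Spor.Co1)).comap proj
  have memT : ∀ a, a ∈ T ↔ θ (proj a) = proj a := fun a => Iff.rfl
  have hperm : ∀ u, permHom u ∈ T := h
  have hcomm : ∀ x b d : ↥Co0, proj b = θ (proj x) → d ∈ T → x * d * x⁻¹ ∈ T →
      (x⁻¹ * b) * d * (x⁻¹ * b)⁻¹ = d ∨ (x⁻¹ * b) * d * (x⁻¹ * b)⁻¹ = negElt * d := by
    intro x b d hb hd hxd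
    have e : proj d = proj ((x⁻¹ * b) * d * (x⁻¹ * b)⁻¹) := by
      have e1 : θ (proj (x * d * x⁻¹)) = proj (x * d * x⁻¹) := hxd
      rw [map_mul, map_mul, map_inv, map_mul, map_mul, map_inv, show θ (proj d) = proj d from hd, ← hb] at e1
      simp only [map_mul, map_inv, mul_inv_rev, inv_inv]
      calc proj d = (proj x)⁻¹ * (proj x * proj d * (proj x)⁻¹) * proj x := by group
        _ = _ := by rw [← e1]; group
    exact proj_eq_iff.1 e
  -- the octad sign change
  have hOcode : wordOf octKey ∈ golayCode :=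
    mem_golayCode.2 (by rw [support₂_wordOf, maskOf_setOfMask (inCode_lt oct_ok.2.1)]; exact oct_ok.2.1)
  set ε := fl _ hOcode with hε
  have hεne : proj ε ≠ 1 := by
    intro e
    rw [← map_one proj] at e
    have hb : ∀ i, wordOf octKey i = if inOct i then 1 else 0 := by decide +kernel
    rcases proj_eq_iff.1 e with q | q <;>
    · have e1 := congrArg (fun z : ↥Co0 => ((z • eightAt (pt inPt) : ↥leechLattice) : Vec) (pt inPt)) q
      have e2 := congrArg (fun z : ↥Co0 => ((z • eightAt (pt outPt) : ↥leechLattice) : Vec) (pt outPt)) q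
      simp [hε, mul_smul, negElt_smul, fl_apply, eightAt, eightVec, hb, carry_ok.2.2.2.2.1, carry_ok.2.2.2.2.2.1] at e1 e2
  obtain ⟨b, hb⟩ := QuotientGroup.mk'_surjective (Subgroup.center ↥Co0) (θ (proj ε))
  have hεT : ε ∈ T := by
    obtain ⟨_, hc⟩ := oct_centraliser (ε⁻¹ * b) fun p hp σ hσ => by
      have h' := List.all_eq_true.1 oct_ok.1 p hp
      simp only [octPermOK, Bool.and_eq_true, Bool.or_eq_true, Nat.beq_eq] at h'
      have hact : act σ.1 (wordOf octKey) = wordOf octKey := by
        rw [← ThreeTrans.Golay.wordOf_mk (act σ.1 (wordOf octKey)), ThreeTrans.Golay.mk_act hσ,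
          ThreeTrans.Golay.mk_wordOf (inCode_lt oct_ok.2.1), h'.1.2]
      have hx : ε * permHom σ * ε⁻¹ = permHom σ := by
        rw [permHom_apply]
        have e := fl_conj σ.2 hOcode
        simp only [hact] at e
        rw [mul_inv_eq_iff_eq_mul]
        exact (mul_inv_eq_iff_eq_mul.1 e).symm
      have hd := hcomm ε b (permHom σ) hb (hperm σ) (by rw [hx]; exact hperm σ)
      obtain ⟨n, hn, hpow⟩ : ∃ n : ℕ, n % 2 = 1 ∧ permHom σ ^ n = 1 := by
        rcases h'.2 with ((q | q) | q) | q
        · exact ⟨3, rfl, by rw [← map_pow, show σ ^ 3 = 1 from pow_one_of σ hσ q, map_one]⟩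
        · exact ⟨5, rfl, by rw [← map_pow, show σ ^ 5 = 1 from pow_one_of σ hσ q, map_one]⟩
        · exact ⟨7, rfl, by rw [← map_pow, show σ ^ 7 = 1 from pow_one_of σ hσ q, map_one]⟩
        · exact ⟨15, rfl, by rw [← map_pow, show σ ^ 15 = 1 from pow_one_of σ hσ q, map_one]⟩
      exact mul_inv_eq_iff_eq_mul.1 (comm_of_odd hd hn hpow)
    rw [memT, ← hb]
    have hkill : ∀ c : ↥Co0, proj c = 1 → ε⁻¹ * b = c → proj b = proj ε := fun c hc q => by
      rw [show b = ε * c by rw [← q, mul_inv_cancel_left], map_mul, hc, mul_one]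
    rcases hc with q | q | q | q
    · exact hkill 1 (map_one _) q
    · exact hkill negElt proj_neg q
    all_goals
      exfalso
      have hb1 : proj b = 1 := by
        have hsq : ε * ε = 1 := by rw [hε, ← fl_add]; simp only [ThreeTrans.Golay.add_self]; exact fl_zero
        rw [show b = ε * (ε⁻¹ * b) by rw [mul_inv_cancel_left], q]
        first
          | (rw [hsq, map_one])
          | (rw [← mul_assoc, neg_central, mul_assoc, hsq, mul_one, proj_neg])
      exact hεne (θ.injective (by rw [← hb, map_one]; exact hb1))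
  -- all sign changes
  have hfl : ∀ (w : Word) (hw : w ∈ golayCode), fl w hw ∈ T := by
    let InT : Word → Prop := fun w => ∃ hw : w ∈ golayCode, fl w hw ∈ T
    have hadd : ∀ a b, InT a → InT b → InT (a + b) := fun a b ⟨ha, h1⟩ ⟨hb, h2⟩ =>
      ⟨add_mem ha hb, fl_add ha hb ▸ mul_mem h1 h2⟩
    have h0 : InT 0 := ⟨zero_mem _, fl_zero ▸ one_mem T⟩
    have hbasis : ∀ k < 12, InT (wordOf (basisMask k)) := by
      intro k hk
      obtain ⟨ha, hm⟩ := basis_ok.2 k hk
      obtain ⟨π, hπ⟩ := exists_M24_elt ha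
      have e : act π.1 (wordOf octKey) = wordOf (basisMask k) := by
        rw [← hm, ← ThreeTrans.Golay.wordOf_mk (act π.1 (wordOf octKey)), ThreeTrans.Golay.mk_act hπ,
          ThreeTrans.Golay.mk_wordOf (inCode_lt oct_ok.2.1)]
      rw [← e]
      refine ⟨ThreeTrans.Golay.act_code π.2 hOcode, ?_⟩
      rw [← fl_conj π.2 hOcode]
      exact mul_mem (mul_mem (hperm π) hεT) (inv_mem (hperm π))
    intro w hw
    obtain ⟨k, hk, rfl⟩ := mem_golayCode_iff.1 hw
    have hc : ∀ m ≤ 12, InT (wordOf (xorComb basisMask k m)) := by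
      intro m hm
      induction m with
      | zero => rw [show xorComb basisMask k 0 = 0 from rfl, wordOf_zero]; exact h0
      | succ m ih =>
        rw [xorComb_succ, wordOf_xor]
        refine hadd _ _ (ih (by omega)) ?_
        rw [bitAt_eq]
        split
        · rw [one_mul]; exact hbasis m (by omega)
        · rw [zero_mul, wordOf_zero]; exact h0
    obtain ⟨hw', h'⟩ := hc 12 le_rfl
    exact h'
  have hcross : crossStab ≤ T := by
    intro g hg
    obtain ⟨σ, hσ, c, hc, rfl⟩ := exists_mono (mem_crossStab.1 hg)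
    obtain ⟨-, hσ', w, hw, e⟩ := (permOf_mono hσ hc).mono
    rw [e]
    exact mul_mem (hfl w hw) (hperm ⟨σ, hσ'⟩)
  -- the sextet involution
  have hxiT : xiElt ∈ T := by
    obtain ⟨b, hb⟩ := QuotientGroup.mk'_surjective (Subgroup.center ↥Co0) (θ (proj xiElt))
    set c := xiElt⁻¹ * b with hc
    have hpc : ∀ p ∈ xiPerms, ∀ σ : ↥M24, Rep (σ : Equiv.Perm GolayPt) p → c * permHom σ = permHom σ * c := by
      intro p hp σ hσ
      have hok := List.all_eq_true.1 xiPerms_ok p hp
      have hx : xiElt * permHom σ * xiElt⁻¹ = permHom σ := by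
        rw [xi_comm hσ hok, mul_inv_cancel_right]
      have hd := hcomm xiElt b (permHom σ) hb (hperm σ) (by rw [hx]; exact hperm σ)
      simp only [xiPermOK, Bool.and_eq_true, Bool.or_eq_true, Nat.beq_eq] at hok
      obtain ⟨n, hn, hpow⟩ : ∃ n : ℕ, n % 2 = 1 ∧ permHom σ ^ n = 1 := by
        rcases hok.1.2 with ((q | q) | q) | q
        · exact ⟨3, rfl, by rw [← map_pow, show σ ^ 3 = 1 from pow_one_of σ hσ q, map_one]⟩
        · exact ⟨5, rfl, by rw [← map_pow, show σ ^ 5 = 1 from pow_one_of σ hσ q, map_one]⟩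
        · exact ⟨7, rfl, by rw [← map_pow, show σ ^ 7 = 1 from pow_one_of σ hσ q, map_one]⟩
        · exact ⟨15, rfl, by rw [← map_pow, show σ ^ 15 = 1 from pow_one_of σ hσ q, map_one]⟩
      exact mul_inv_eq_iff_eq_mul.1 (comm_of_odd hd hn hpow)
    have hdata : ∀ e ∈ xiFlips, ∃ (hw : wordOf e.1 ∈ golayCode) (π : ↥M24),
        wordOf (flipWord e) = act π.1 (wordOf e.1) + wordOf e.1 ∧ xiPerms.getD e.2 0 ∈ xiPerms ∧
        Rep (π : Equiv.Perm GolayPt) (xiPerms.getD e.2 0) := by
      intro e he
      obtain ⟨hi, hlt, -⟩ := xiFlips_ok.2 e he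
      have hmem : xiPerms.getD e.2 0 ∈ xiPerms := by
        rw [List.getD_eq_getElem _ _ hlt]; exact List.getElem_mem _
      have hok := List.all_eq_true.1 xiPerms_ok _ hmem
      simp only [xiPermOK, Bool.and_eq_true] at hok
      obtain ⟨π, hπ⟩ := exists_M24_elt hok.1.1
      refine ⟨mem_golayCode.2 (by rw [support₂_wordOf, maskOf_setOfMask (inCode_lt hi)]; exact hi), π, ?_, hmem, hπ⟩
      rw [flipWord, show Nat.xor _ e.1 = mimg (xiPerms.getD e.2 0) e.1 ^^^ e.1 from rfl, wordOf_xor,
        ← ThreeTrans.Golay.wordOf_mk (act π.1 (wordOf e.1)), ThreeTrans.Golay.mk_act hπ,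
        ThreeTrans.Golay.mk_wordOf (inCode_lt hi)]
    have hcode : ∀ e ∈ xiFlips, wordOf (flipWord e) ∈ golayCode := fun e he => by
      obtain ⟨hw, π, e1, -, -⟩ := hdata e he
      rw [e1]
      exact add_mem (ThreeTrans.Golay.act_code π.2 hw) hw
    have hres : c = 1 ∨ c = negElt := by
      refine xi_centraliser c hpc (fun e he hw' => ?_) hcode
      obtain ⟨hw, π, e1, hmem, hπ⟩ := hdata e he
      obtain ⟨-, -, k, hk⟩ := xiFlips_ok.2 e he
      set η := fl _ hw with hη
      have hmono : xiElt * η * xiElt⁻¹ ∈ crossStab := by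
        rw [mem_crossStab, preserves_iff]
        have hinv : xiElt⁻¹ = xiElt := inv_eq_of_mul_eq_one_left (co0_ext fun v => by
          rw [mul_smul, xiElt_apply, xiElt_apply, one_smul]; exact xi_xi (mem_iff.1 v.2))
        have hs : support₂ (wordOf e.1) = setOfMask e.1 := support₂_wordOf _
        have himage : (((xiElt * η * xiElt⁻¹) • baseElt : ↥leechLattice) : Vec) =
            xi (flipVec (setOfMask e.1) (xi (eightVec none))) := by
          rw [hinv, mul_smul, mul_smul, xiElt_apply, hη, fl, flipElt_apply, xiElt_apply, hs]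
          rfl
        have hstd : (((xiElt * η * xiElt⁻¹) • baseElt : ↥leechLattice) : Vec) ∈ stdCross := by
          rw [himage]
          exact mem_stdCross.2 ⟨k, hk⟩
        exact ((mem_std_iff (SetLike.coe_mem _)).1 hstd).2
      have hd := hcomm xiElt b η hb (hfl _ hw) (hcross hmono)
      have hp := hpc _ hmem π hπ
      have hconj : fl _ hw' = permHom π * η * (permHom π)⁻¹ * η := by
        rw [permHom_apply, hη, fl_conj π.2 hw, ← fl_add]
        congr 1
      rw [hconj]
      have hp' : c * (permHom π)⁻¹ = (permHom π)⁻¹ * c := by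
        rw [eq_inv_mul_iff_mul_eq, ← mul_assoc, ← hp, mul_inv_cancel_right]
      rcases hd with q | q
      · have q' : c * η = η * c := mul_inv_eq_iff_eq_mul.1 q
        calc c * (permHom π * η * (permHom π)⁻¹ * η) = c * permHom π * η * (permHom π)⁻¹ * η := by group
          _ = permHom π * (c * η) * (permHom π)⁻¹ * η := by rw [hp]; group
          _ = permHom π * η * (c * (permHom π)⁻¹) * η := by rw [q']; group
          _ = permHom π * η * (permHom π)⁻¹ * (c * η) := by rw [hp']; group
          _ = _ := by rw [q']; group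
      · have q' : c * η = negElt * η * c := mul_inv_eq_iff_eq_mul.1 q
        calc c * (permHom π * η * (permHom π)⁻¹ * η) = c * permHom π * η * (permHom π)⁻¹ * η := by group
          _ = permHom π * (c * η) * (permHom π)⁻¹ * η := by rw [hp]; group
          _ = permHom π * (negElt * η) * (c * (permHom π)⁻¹) * η := by rw [q']; group
          _ = permHom π * (negElt * η) * (permHom π)⁻¹ * (c * η) := by rw [hp']; group
          _ = permHom π * (negElt * η) * ((permHom π)⁻¹ * negElt) * (η * c) := by rw [q']; group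
          _ = negElt * negElt * (permHom π * η * (permHom π)⁻¹ * η * c) := by
              rw [neg_central ((permHom π)⁻¹), ← mul_assoc (permHom π) negElt η, neg_central (permHom π)]
              simp only [mul_assoc]
              congr 1
              rw [← mul_assoc η negElt, neg_central η]
              simp only [← mul_assoc]
              rw [neg_central (permHom π)]
          _ = _ := by rw [neg_sq, one_mul]
    rw [memT, ← hb, show b = xiElt * c by rw [hc, mul_inv_cancel_left], map_mul]
    rcases hres with q | q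
    · rw [q, map_one, mul_one]
    · rw [q, proj_neg, mul_one]
  have hTtop := top_of_xi hcross hxiT
  refine MulEquiv.ext fun g => ?_
  obtain ⟨x, rfl⟩ := QuotientGroup.mk'_surjective (Subgroup.center ↥Co0) g
  exact (hTtop ▸ Subgroup.mem_top x : x ∈ T)
where
  pow_one_of (σ : ↥M24) {p n : ℕ} (hσ : Rep (σ : Equiv.Perm GolayPt) p) (h : ppow p n = pone) : σ ^ n = 1 :=
    pow_eq_one_of_ppow hσ (by rw [h]; exact Nat.beq_refl _)

theorem aut_inner (φ : MulAut Spor.Co1) : φ ∈ Cfsg.Inn Spor.Co1 := by
  haveI := finite_Co0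
  haveI := M24_isSimple
  haveI : Finite ↥M24 := Nat.finite_of_card_ne_zero (by rw [M24_card]; norm_num)
  have hne : ∃ a b : ↥M24, a * b ≠ b * a := by
    obtain ⟨a, ha⟩ := exists_map_list (xs := [none, pt 0]) (ys := [none, pt 1]) (by decide) (by decide) rfl (by simp)
    obtain ⟨b, hb⟩ := exists_map_list (xs := [none]) (ys := [pt 0]) (by simp) (by simp) rfl (by simp)
    simp only [List.map_cons, List.map_nil, List.cons.injEq, and_true] at ha hb
    refine ⟨a, b, fun e => ?_⟩
    have e1 := congrArg (fun z : ↥M24 => z • (none : GolayPt)) e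
    simp only [mul_smul] at e1
    rw [show a • (none : GolayPt) = none from ha.1, show b • (none : GolayPt) = pt 0 from hb,
      show a • pt 0 = pt 1 from ha.2] at e1
    exact absurd e1 (by decide)
  obtain ⟨χ, hχ⟩ := exists_lift (Subgroup.center ↥Co0) le_rfl MTwentyFourMult.multiplier_trivial hne
    (φ.toMonoidHom.comp (proj.comp permHom))
  have hχi : Function.Injective χ := fun a b e => perm_injective_proj (φ.injective (by
    have h1 := hχ a
    have h2 := hχ b
    rw [e] at h1
    exact h1.symm.trans h2))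
  obtain ⟨a, ha⟩ := conj_to_perm χ hχi
  choose p hp using ha
  let β : ↥M24 →* ↥M24 :=
    { toFun := p
      map_one' := permHom_injective (by rw [hp 1, map_one, map_one]; group)
      map_mul' := fun u v => permHom_injective (by rw [map_mul, hp, hp, hp, map_mul]; group) }
  have hβ : Function.Injective β := fun u v e => hχi (by
    have h1 := hp u
    rw [show p u = p v from e, hp v] at h1
    exact (mul_left_cancel (mul_right_cancel h1)).symm)
  obtain ⟨m, hm⟩ := MathieuAut.M24_aut_inner (MulEquiv.ofBijective β (Finite.injective_iff_bijective.1 hβ))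
  have hpm : ∀ u, p u = m * u * m⁻¹ := fun u => (congrArg (fun f : MulAut ↥M24 => f u) hm).symm
  set k := proj ((permHom m)⁻¹ * a) with hk
  have h1 : MulAut.conj k * φ = 1 := eq_one_of_fix _ fun u => by
    show k * φ (proj (permHom u)) * k⁻¹ = proj (permHom u)
    rw [show φ (proj (permHom u)) = proj (χ u) from (hχ u).symm, hk, ← map_mul, ← MonoidHom.map_inv proj, ← map_mul]
    congr 1
    calc (permHom m)⁻¹ * a * χ u * ((permHom m)⁻¹ * a)⁻¹ = (permHom m)⁻¹ * (a * χ u * a⁻¹) * permHom m := by group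
      _ = _ := by rw [← hp u, hpm, map_mul, map_mul, map_inv]; group
  refine ⟨k⁻¹, ?_⟩
  rw [map_inv]
  exact inv_eq_of_mul_eq_one_right h1

theorem card_out_Co1 : Nat.card (Cfsg.Out Spor.Co1) = 1 := MathieuAut.card_out_eq_one aut_inner

end CfsgLib.Sporadic.CoOneOut
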