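import Cfsg.Agent.Lib.Sporadic.ConwayDotSets

/-!
# Normal subgroups of vector stabilisers

Orbits of a normal subgroup are blocks of one size made of suborbits; a normal subgroup containing the point
stabiliser and one more generator is everything.
-/

set_option autoImplicit false

namespace CfsgLib.Sporadic.Conway

open Cfsg Finset CfsgLib.ThreeTrans.Leech CfsgLib.Sporadic.Lattice

/-- `N` lies in the common stabiliser and is invariant under it. -/
structure NormIn (N : Subgroup ↥Co0) (f : List ↥leechLattice) : Prop where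
  le : N ≤ fixGroup f
  conj : ∀ g ∈ fixGroup f, ∀ n ∈ N, g * n * g⁻¹ ∈ N

variable {N : Subgroup ↥Co0} {f : List ↥leechLattice} {ks : List (↥leechLattice × ℤ)} {r : ↥leechLattice}

theorem orbit_subset_DS (h : NormIn N f) (hks : ∀ p ∈ ks, p.1 ∈ f) {x : ↥leechLattice} (hx : x ∈ DS ks) :
    MulAction.orbit ↥N x ⊆ DS ks := by
  rintro _ ⟨n, rfl⟩
  exact smul_mem_DS (fun p hp => mem_fixGroup.1 (h.le n.2) p.1 (hks p hp)) hx

theorem orbit_conj (h : NormIn N f) {g : ↥Co0} (hg : g ∈ fixGroup f) (x : ↥leechLattice) :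
    MulAction.orbit ↥N (g • x) = (g • ·) '' MulAction.orbit ↥N x := by
  ext y
  constructor
  · rintro ⟨⟨n, hn⟩, rfl⟩
    refine ⟨(g⁻¹ * n * g) • x, ⟨⟨g⁻¹ * n * g, by simpa using h.conj g⁻¹ (inv_mem hg) n hn⟩, rfl⟩, ?_⟩
    show g • (g⁻¹ * n * g) • x = n • g • x
    rw [← mul_smul, ← mul_smul, ← mul_assoc, ← mul_assoc, mul_inv_cancel, one_mul]
  · rintro ⟨_, ⟨⟨n, hn⟩, rfl⟩, rfl⟩
    refine ⟨⟨g * n * g⁻¹, h.conj g hg n hn⟩, ?_⟩
    show (g * n * g⁻¹) • g • x = g • n • x
    rw [← mul_smul, ← mul_smul, inv_mul_cancel_right]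

theorem orbit_size (h : NormIn N f) (ht : Trans f (DS ks)) (hr : r ∈ DS ks) {x : ↥leechLattice} (hx : x ∈ DS ks) :
    (MulAction.orbit ↥N x).ncard = (MulAction.orbit ↥N r).ncard := by
  obtain ⟨g, rfl, hgf⟩ := ht r hr x hx
  rw [orbit_conj h (mem_fixGroup.2 hgf), Set.ncard_image_of_injective _ (MulAction.injective g)]

theorem orbit_dvd (h : NormIn N f) (hks : ∀ p ∈ ks, p.1 ∈ f) (hfin : (DS ks).Finite) (ht : Trans f (DS ks))
    (hr : r ∈ DS ks) : (MulAction.orbit ↥N r).ncard ∣ (DS ks).ncard := by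
  classical
  have hsum := Finset.card_eq_sum_card_image (fun x => MulAction.orbit ↥N x) hfin.toFinset
  rw [Finset.sum_congr rfl (g := fun _ => (MulAction.orbit ↥N r).ncard) fun B hB => ?_, Finset.sum_const,
    smul_eq_mul] at hsum
  · rw [Set.ncard_eq_toFinset_card _ hfin, hsum]; exact dvd_mul_left _ _
  · obtain ⟨x, hx, rfl⟩ := Finset.mem_image.1 hB
    rw [Set.Finite.mem_toFinset] at hx
    rw [← orbit_size h ht hr hx, ← Set.ncard_coe_finset]
    congr 1
    ext y
    simp only [Finset.coe_filter, Set.Finite.mem_toFinset, Set.mem_ofPred_eq]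
    constructor
    · rintro ⟨-, e⟩; rw [← e]; exact MulAction.mem_orbit_self y
    · intro hy
      exact ⟨orbit_subset_DS h hks hx hy, MulAction.orbit_eq_iff.2 hy⟩

/-- The order of a subgroup through one orbit. -/
theorem card_eq_orbit (N : Subgroup ↥Co0) (r : ↥leechLattice) :
    Nat.card ↥N = (MulAction.orbit ↥N r).ncard * Nat.card ↥(N ⊓ MulAction.stabilizer ↥Co0 r) := by
  rw [← MulAction.index_stabilizer, ← Subgroup.card_mul_index (MulAction.stabilizer ↥N r), mul_comm]
  congr 1
  refine Nat.card_congr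
    { toFun := fun g => ⟨g.1.1, g.1.2, MulAction.mem_stabilizer_iff.2 g.2⟩
      invFun := fun g => ⟨⟨g.1, g.2.1⟩, MulAction.mem_stabilizer_iff.2 g.2.2⟩
      left_inv := fun _ => rfl
      right_inv := fun _ => rfl }

/-- The possible sizes of an orbit, from the suborbits. -/
theorem orbit_sum (h : NormIn N f) (hks : ∀ p ∈ ks, p.1 ∈ f) (hfin : (DS ks).Finite) (hr : r ∈ DS ks)
    (vals : Finset ℤ) (h32 : (32 : ℤ) ∉ vals) (n : ℤ → ℕ)
    (hcover : ∀ x ∈ DS ks, x = r ∨ dotInt (r : Vec) (x : Vec) ∈ vals)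
    (hsub : ∀ k ∈ vals, (DS (ks ++ [(r, k)])).ncard = n k ∧ Trans (r :: f) (DS (ks ++ [(r, k)]))) :
    ∃ K ∈ vals.powerset, (MulAction.orbit ↥N r).ncard = 1 + ∑ k ∈ K, n k := by
  classical
  set B := MulAction.orbit ↥N r with hB
  have hBfin : B.Finite := hfin.subset (orbit_subset_DS h hks hr)
  have hinv : ∀ g : ↥Co0, g • r = r → g ∈ fixGroup f → ∀ x ∈ B, g • x ∈ B := fun g hgr hg x hx => by
    rw [hB, ← hgr, orbit_conj h hg]
    exact ⟨x, hx, rfl⟩
  have hrr : dotInt (r : Vec) (r : Vec) = 32 := by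
    rw [← hr.1]; exact Finset.sum_congr rfl fun i _ => (sq _).symm
  let K : Finset ℤ := vals.filter fun k => ∃ x ∈ B, dotInt (r : Vec) (x : Vec) = k
  refine ⟨K, Finset.mem_powerset.2 (Finset.filter_subset _ _), ?_⟩
  have hmem : ∀ k ∈ K, ∀ x, x ∈ DS (ks ++ [(r, k)]) → x ∈ B := by
    intro k hk x hx
    obtain ⟨hkv, y, hy, hyk⟩ := Finset.mem_filter.1 hk
    have hy' : y ∈ DS (ks ++ [(r, k)]) := ⟨(orbit_subset_DS h hks hr hy).1, fun p hp => by
      rcases List.mem_append.1 hp with hp | hp
      · exact (orbit_subset_DS h hks hr hy).2 p hp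
      · rw [List.mem_singleton] at hp; subst hp; exact hyk⟩
    obtain ⟨g, rfl, hgf⟩ := (hsub k hkv).2 y hy' x hx
    exact hinv g (hgf r List.mem_cons_self) (mem_fixGroup.2 fun v hv => hgf v (List.mem_cons_of_mem _ hv)) y hy
  rw [Set.ncard_eq_toFinset_card _ hBfin,
    ← Finset.card_erase_add_one (hBfin.mem_toFinset.2 (MulAction.mem_orbit_self r)), add_comm]
  congr 1
  rw [Finset.card_eq_sum_card_fiberwise (f := fun x : ↥leechLattice => dotInt (r : Vec) (x : Vec)) (t := K)]
  · refine Finset.sum_congr rfl fun k hk => ?_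
    have hkv := (Finset.mem_filter.1 hk).1
    rw [← (hsub k hkv).1, ← Set.ncard_coe_finset]
    congr 1
    ext x
    simp only [Finset.coe_filter, Set.mem_ofPred_eq, Finset.mem_erase, Set.Finite.mem_toFinset]
    constructor
    · rintro ⟨⟨-, hx⟩, hxk⟩
      exact ⟨(orbit_subset_DS h hks hr hx).1, fun p hp => by
        rcases List.mem_append.1 hp with hp | hp
        · exact (orbit_subset_DS h hks hr hx).2 p hp
        · rw [List.mem_singleton] at hp; subst hp; exact hxk⟩
    · intro hx
      have hxk : dotInt (r : Vec) (x : Vec) = k := hx.2 (r, k) (by simp)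
      refine ⟨⟨fun e => ?_, hmem k hk x hx⟩, hxk⟩
      rw [e, hrr] at hxk
      exact h32 (hxk ▸ hkv)
  · intro x hx
    obtain ⟨hne, hxB⟩ := Finset.mem_erase.1 hx
    rw [Set.Finite.mem_toFinset] at hxB
    rcases hcover x (orbit_subset_DS h hks hr hxB) with e | e
    · exact absurd e hne
    · exact Finset.mem_filter.2 ⟨e, x, hxB, rfl⟩

/-- Run a list of word indices. -/
noncomputable def evalSeq (gens : List (List (ℕ × ℕ))) : List ℕ → ℕ → Option ℕ
  | [], a => some a
  | i :: rest, a => match evalWord (gens.getD i []) a with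
    | none => none
    | some b => evalSeq gens rest b

/-- A normal subgroup containing a point stabiliser and compatible with a certificate is everything. -/
theorem top_of_cert {gens : List (List (ℕ × ℕ))} {fixed : List ℕ} {root : ℕ} {T : OTree} {n : ℕ}
    (hok : orbitOK gens fixed root T n = true) (h : NormIn N f)
    (hf : f.map (fun v : ↥leechLattice => (v : Vec)) = fixed.map pv) (hr : (r : Vec) = pv root)
    (hkeys : ∀ g ∈ fixGroup f, ∃ e ∈ T.entries, ((g • r : ↥leechLattice) : Vec) = pv e.1)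
    (hK : fixGroup (r :: f) ≤ N) (nc : ℕ) (hlen : gens.length = nc + 1)
    (hfixr : ∀ i < nc, evalWord (gens.getD i []) root = some root)
    (w₁ w₂ : List ℕ) (c : ℕ) (h1 : w₁.countP (fun i => decide (i = nc)) = c + 1)
    (h2 : w₂.countP (fun i => decide (i = nc)) = c) (hi : ∀ i ∈ w₁ ++ w₂, i ≤ nc) {p : ℕ}
    (e1 : evalSeq gens w₁ root = some p) (e2 : evalSeq gens w₂ root = some p) : N = fixGroup f := by
  simp only [orbitOK, Bool.and_eq_true, List.all_eq_true, decide_eq_true_eq, Nat.beq_eq] at hok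
  obtain ⟨hgen, -, -, hdesc⟩ := hok
  have hentry := OTree.descends_spec hdesc
  have hw : ∀ i, i ≤ nc → ∃ g ∈ fixGroup f, (i < nc → g ∈ N) ∧ ∀ a b, evalWord (gens.getD i []) a = some b →
      ∀ v : ↥leechLattice, (v : Vec) = pv a → ((g • v : ↥leechLattice) : Vec) = pv b := by
    intro i hi
    have hmem : gens.getD i [] ∈ gens := by
      rw [List.getD_eq_getElem _ _ (by omega)]; exact List.getElem_mem _
    obtain ⟨g, hg⟩ := packElt _ (List.all_eq_true.2 (hgen _ hmem).1)
    have hgf : g ∈ fixGroup f := fix_le hf g fun f' hf' v hv =>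
      Subtype.ext ((hg f' f' ((hgen _ hmem).2 f' hf') v hv).trans hv.symm)
    refine ⟨g, hgf, fun hlt => hK ?_, hg⟩
    exact mem_fixGroup.2 fun v hv => by
      rcases List.mem_cons.1 hv with rfl | hv
      · exact Subtype.ext ((hg _ _ (hfixr i hlt) _ hr).trans hr.symm)
      · exact mem_fixGroup.1 hgf v hv
  choose u huG huN hu using hw
  set a := u nc le_rfl with ha
  have hseq : ∀ (w : List ℕ) (s t : ℕ), (∀ i ∈ w, i ≤ nc) → evalSeq gens w s = some t →
      ∃ g ∈ fixGroup f, g * (a ^ w.countP (fun i => decide (i = nc)))⁻¹ ∈ N ∧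
        ∀ v : ↥leechLattice, (v : Vec) = pv s → ((g • v : ↥leechLattice) : Vec) = pv t := by
    intro w
    induction w with
    | nil =>
      intro s t _ e
      rw [show evalSeq gens [] s = some s from rfl, Option.some.injEq] at e
      exact ⟨1, one_mem _, by simp, fun v hv => by rw [one_smul, hv, e]⟩
    | cons i rest ih =>
      intro s t hle e
      rw [evalSeq] at e
      cases hev : evalWord (gens.getD i []) s with
      | none => rw [hev] at e; exact absurd e (by simp)
      | some b =>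
        rw [hev] at e
        obtain ⟨g, hgG, hgN, hgv⟩ := ih b t (fun j hj => hle j (List.mem_cons_of_mem _ hj)) e
        have hi' := hle i List.mem_cons_self
        refine ⟨g * u i hi', mul_mem hgG (huG i hi'), ?_, fun v hv => by
          rw [mul_smul]; exact hgv _ (hu i hi' s b hev v hv)⟩
        set m := rest.countP (fun j => decide (j = nc))
        rcases eq_or_lt_of_le hi' with rfl | hlt
        · rw [List.countP_cons_of_pos (by simp), pow_succ, mul_inv_rev, mul_assoc, ← mul_assoc (u i hi'),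
            show u i hi' * a⁻¹ = 1 from mul_inv_cancel _, one_mul]
          exact hgN
        · rw [List.countP_cons_of_neg (by simp; omega)]
          have h3 := h.conj (a ^ m) (pow_mem (huG _ _) m) _ (huN i hi' hlt)
          convert mul_mem hgN h3 using 1
          group
          rfl
  obtain ⟨g1, hg1G, hg1N, hg1⟩ := hseq w₁ root p (fun i hi' => hi i (List.mem_append_left _ hi')) e1
  obtain ⟨g2, hg2G, hg2N, hg2⟩ := hseq w₂ root p (fun i hi' => hi i (List.mem_append_right _ hi')) e2
  have hk : g2⁻¹ * g1 ∈ fixGroup (r :: f) := mem_fixGroup.2 fun v hv => by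
    rcases List.mem_cons.1 hv with rfl | hv
    · rw [mul_smul, show g1 • v = g2 • v from Subtype.ext ((hg1 v hr).trans (hg2 v hr).symm), inv_smul_smul]
    · exact mem_fixGroup.1 (mul_mem (inv_mem hg2G) hg1G) v hv
  have haN : a ∈ N := by
    rw [h1] at hg1N; rw [h2] at hg2N
    have h12 := h.conj g2 hg2G _ (hK hk)
    have h' := mul_mem (mul_mem (inv_mem hg1N) h12) hg2N
    have e' : (g1 * (a ^ (c + 1))⁻¹)⁻¹ * (g2 * (g2⁻¹ * g1) * g2⁻¹) * (g2 * (a ^ c)⁻¹) = a := by
      rw [pow_succ]; group
    rwa [e'] at h'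
  have hall : ∀ i (hi : i ≤ nc), u i hi ∈ N := fun i hi => by
    rcases eq_or_lt_of_le hi with rfl | hlt
    · exact haN
    · exact huN i hi hlt
  have reach : ∀ M, ∀ e ∈ T.entries, e.2.1 / 16 < M → ∃ g ∈ N, ((g • r : ↥leechLattice) : Vec) = pv e.1 := by
    intro M
    induction M with
    | zero => intro e _ h; omega
    | succ M ih =>
      intro e he hlt
      have h1 := hentry e he
      rw [entryOK] at h1
      cases hb : Nat.beq e.1 root <;> rw [hb] at h1
      · rw [cond_false] at h1
        cases hf' : T.find e.2.2 with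
        | none => rw [hf'] at h1; simp at h1
        | some d' =>
          rw [hf'] at h1
          simp only [Bool.and_eq_true, Nat.blt_eq] at h1
          obtain ⟨hdep, h1⟩ := h1
          change d' / 16 < e.2.1 / 16 at hdep
          obtain ⟨v, hv⟩ := OTree.find_mem hf'
          obtain ⟨g, hg, hgv⟩ := ih _ hv (by simp only; omega)
          cases hev : evalWord (gens.getD (Nat.mod e.2.1 16) []) e.2.2 with
          | none => rw [hev] at h1; simp at h1
          | some w =>
            rw [hev] at h1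
            simp only [Nat.beq_eq] at h1
            subst h1
            by_cases hidx : Nat.mod e.2.1 16 ≤ nc
            · exact ⟨u _ hidx * g, mul_mem (hall _ hidx) hg, by rw [mul_smul]; exact hu _ hidx _ _ hev _ hgv⟩
            · rw [List.getD_eq_default _ _ (by omega), show evalWord [] e.2.2 = some e.2.2 from rfl,
                Option.some.injEq] at hev
              exact ⟨g, hg, hgv.trans (by rw [hev])⟩
      · rw [Nat.beq_eq] at hb
        exact ⟨1, one_mem N, by rw [one_smul, hr, hb]⟩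
  refine le_antisymm h.le fun g hg => ?_
  obtain ⟨e, he, ev⟩ := hkeys g hg
  obtain ⟨m, hm, hmv⟩ := reach (e.2.1 / 16 + 1) e he (by omega)
  have hk' : m⁻¹ * g ∈ fixGroup (r :: f) := mem_fixGroup.2 fun v hv => by
    rcases List.mem_cons.1 hv with rfl | hv
    · rw [mul_smul, show g • v = m • v from Subtype.ext (ev.trans hmv.symm), inv_smul_smul]
    · exact mem_fixGroup.1 (mul_mem (inv_mem (h.le hm)) hg) v hv
  have := mul_mem hm (hK hk')
  rwa [mul_inv_cancel_left] at this

/-- Simplicity from a statement about subgroups of the lattice's automorphism group. -/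
theorem simple_of_normIn (hne : 1 < Nat.card ↥(fixGroup f))
    (h : ∀ M : Subgroup ↥Co0, NormIn M f → M = ⊥ ∨ M = fixGroup f) : IsSimpleGroup ↥(fixGroup f) := by
  haveI : Finite ↥(fixGroup f) := Nat.finite_of_card_ne_zero (by omega)
  haveI : Nontrivial ↥(fixGroup f) := Finite.one_lt_card_iff_nontrivial.1 hne
  refine ⟨fun M hM => ?_⟩
  have hN : NormIn (M.map (fixGroup f).subtype) f := by
    refine ⟨Subgroup.map_subtype_le M, fun g hg x hx => ?_⟩
    obtain ⟨y, hy, rfl⟩ := hx
    exact ⟨⟨g, hg⟩ * y * ⟨g, hg⟩⁻¹, hM.conj_mem y hy _, rfl⟩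
  rcases h _ hN with e | e
  · left
    exact Subgroup.map_injective (fixGroup f).subtype_injective (by rw [e, Subgroup.map_bot])
  · right
    refine Subgroup.map_injective (fixGroup f).subtype_injective ?_
    rw [e, ← MonoidHom.range_eq_map, Subgroup.range_subtype]

end CfsgLib.Sporadic.Conway
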