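import Cfsg.Agent.Lib.Sporadic.Mathieu
import Cfsg.Prelude.Def_SporadicCombinatorics

/-!
# Counting in the code: lists of words of a given weight, syndromes, sextets, trios
-/

set_option autoImplicit false

namespace CfsgLib.Sporadic

open Cfsg
open scoped Pointwise

/-! ### lists of words -/

/-- The words of weight `w`, as a list of masks. -/
noncomputable def codeList (w : ℕ) : List ℕ :=
  Nat.rec [] (fun k ih => cond (Nat.beq (popc (enc k)) w) (enc k :: ih) ih) 4096

noncomputable def countList (l : List ℕ) (f : ℕ → Bool) : ℕ :=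
  List.rec 0 (fun m _ ih => Nat.add (cond (f m) 1 0) ih) l

theorem countList_codeList (w : ℕ) (f : ℕ → Bool) :
    countList (codeList w) f = countLt 4096 fun k => Nat.beq (popc (enc k)) w && f (enc k) := by
  unfold codeList
  generalize 4096 = n
  induction n with
  | zero => rfl
  | succ n ih =>
    show countList (cond (Nat.beq (popc (enc n)) w) (enc n :: _) _) f =
      Nat.add (cond (Nat.beq (popc (enc n)) w && f (enc n)) 1 0) (countLt n _)
    cases Nat.beq (popc (enc n)) w
    · simpa using ih
    · show Nat.add (cond (f (enc n)) 1 0) (countList _ f) = _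
      rw [ih]; rfl

/-- Count the words of weight `w` with a property that can be computed on masks. -/
theorem ncard_eq_countList {S : Set (Finset GolayPt)} (w : ℕ) (f : ℕ → Bool)
    (hS : ∀ s, s ∈ S ↔
      s ∈ wordsOfWeight (golayCode : Set (GolayPt → ZMod 2)) w ∧ f (maskOf s) = true) :
    S.ncard = countList (codeList w) f := by
  rw [countList_codeList]
  refine ncard_eq_countLt (fun m => Nat.beq (popc m) w && f m) fun s => ?_
  rw [hS, mem_wordsOfWeight_iff, and_assoc, Bool.and_eq_true, Nat.beq_eq]

theorem card_inter_maskOf (s t : Finset GolayPt) :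
    (s ∩ t).card = popc (maskOf s &&& maskOf t) := by rw [← popc_maskOf, maskOf_inter]

/-- The census of the intersections of the words of weight `w` with a transform of a set. -/
theorem ncard_inter_census (g : ↥M24) {m : ℕ} (hm : m < 2 ^ 24) (w n : ℕ) :
    {o : Finset GolayPt | o ∈ wordsOfWeight (golayCode : Set (GolayPt → ZMod 2)) w ∧
      (g • setOfMask m ∩ o).card = n}.ncard =
      countList (codeList w) (fun x => Nat.beq (popc (Nat.land m x)) n) := by
  rw [← ncard_smul_congr g
    (P := fun o => o ∈ wordsOfWeight (golayCode : Set (GolayPt → ZMod 2)) w ∧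
      (setOfMask m ∩ o).card = n)
    (Q := fun o => o ∈ wordsOfWeight (golayCode : Set (GolayPt → ZMod 2)) w ∧
      (g • setOfMask m ∩ o).card = n) fun o => by
      rw [card_inter_smul]
      exact and_congr_left' (smul_mem_wordsOfWeight g.2).symm]
  refine ncard_eq_countList w _ fun s => ?_
  rw [Set.mem_ofPred_eq, Nat.beq_eq, card_inter_maskOf, maskOf_setOfMask hm]
  rfl

/-! ### syndromes -/

theorem syn_eq (m : ℕ) : syn m = (m ^^^ enc (m &&& 4095)) >>> 12 := rfl

theorem syn_xor (a b : ℕ) : syn (a ^^^ b) = syn a ^^^ syn b := by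
  rw [syn_eq, syn_eq, syn_eq, Nat.and_xor_distrib_right, enc_xor, ← Nat.shiftRight_xor_distrib]
  congr 1
  ac_rfl

theorem syn_eq_zero_iff (m : ℕ) : syn m = 0 ↔ inCode m = true := by
  constructor
  · intro h
    have hk : m &&& 4095 < 4096 := lt_of_le_of_lt Nat.and_le_right (by norm_num)
    rw [syn_eq, Nat.shiftRight_eq_div_pow, Nat.div_eq_zero_iff] at h
    have h1 : (m ^^^ enc (m &&& 4095)) &&& 4095 = 0 := by
      rw [Nat.and_xor_distrib_right, enc_land hk, Nat.xor_self]
    have h2 : m ^^^ enc (m &&& 4095) < 2 ^ 12 := h.resolve_left (by norm_num)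
    have h3 : (m ^^^ enc (m &&& 4095)) % 2 ^ 12 = 0 :=
      (Nat.and_two_pow_sub_one_eq_mod _ 12).symm.trans h1
    rw [Nat.mod_eq_of_lt h2] at h3
    exact inCode_iff.2 ⟨_, hk, (Nat.xor_eq_zero_iff.1 h3).symm⟩
  · intro h
    rw [syn_eq, show enc (m &&& 4095) = m from (Nat.eq_of_beq_eq_true h).symm, Nat.xor_self,
      Nat.zero_shiftRight]

theorem syn_eq_iff (a b : ℕ) : syn a = syn b ↔ inCode (a ^^^ b) = true := by
  rw [← syn_eq_zero_iff, syn_xor, Nat.xor_eq_zero_iff]

theorem syn_lt {m : ℕ} (hm : m < 2 ^ 24) : syn m < 4096 := by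
  have : m ^^^ enc (m &&& 4095) < 2 ^ 24 :=
    Nat.xor_lt_two_pow hm (enc_lt (lt_of_le_of_lt Nat.and_le_right (by norm_num)))
  rw [syn_eq, Nat.shiftRight_eq_div_pow, Nat.div_lt_iff_lt_mul (by norm_num)]
  exact this

/-- The syndromes of the masks with at most `d` bits, all below `n`, of the shape `acc ||| _`. -/
noncomputable def synMapAux : ℕ → ℕ → ℕ → ℕ :=
  fun d => Nat.rec (motive := fun _ => ℕ → ℕ → ℕ)
    (fun _ acc => Nat.shiftLeft 1 (syn acc))
    (fun _ ih n acc => Nat.lor (Nat.shiftLeft 1 (syn acc))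
      (Nat.rec 0 (fun i r => Nat.lor r (ih i (Nat.lor acc (Nat.shiftLeft 1 i)))) n)) d

theorem synMapAux_spec : ∀ (d n acc : ℕ), n ≤ 24 → acc < 2 ^ 24 → ∀ j,
    (synMapAux d n acc).testBit j = true → ∃ m < 2 ^ 24, popc m ≤ popc acc + d ∧ syn m = j := by
  intro d
  induction d with
  | zero =>
    intro n acc _ hacc j hj
    change (1 <<< syn acc).testBit j = true at hj
    rw [Nat.one_shiftLeft, Nat.testBit_two_pow, decide_eq_true_eq] at hj
    exact ⟨acc, hacc, le_rfl, hj⟩
  | succ d ih =>
    intro n acc hn hacc j hj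
    change ((1 <<< syn acc) |||
      (Nat.rec 0 (fun i r => Nat.lor r (synMapAux d i (Nat.lor acc (Nat.shiftLeft 1 i)))) n : ℕ)).testBit j
        = true at hj
    rw [Nat.testBit_or, Bool.or_eq_true] at hj
    rcases hj with hj | hj
    · rw [Nat.one_shiftLeft, Nat.testBit_two_pow, decide_eq_true_eq] at hj
      exact ⟨acc, hacc, by omega, hj⟩
    · induction n with
      | zero => simp at hj
      | succ k ihk =>
        change ((Nat.rec 0 (fun i r => Nat.lor r (synMapAux d i (Nat.lor acc (Nat.shiftLeft 1 i)))) k : ℕ) |||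
          synMapAux d k (acc ||| 1 <<< k)).testBit j = true at hj
        rw [Nat.testBit_or, Bool.or_eq_true] at hj
        rcases hj with hj | hj
        · exact ihk (by omega) hj
        · have hb : 1 <<< k < 2 ^ 24 := by
            rw [Nat.one_shiftLeft]; exact Nat.pow_lt_pow_right (by norm_num) (by omega)
          obtain ⟨m, hm, hp, e⟩ := ih k _ (by omega) (Nat.or_lt_two_pow hacc hb) j hj
          refine ⟨m, hm, ?_, e⟩
          have : popc (acc ||| 1 <<< k) ≤ popc acc + 1 := by
            rw [← card_setOfMask, ← card_setOfMask, setOfMask_lor]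
            refine (Finset.card_union_le _ _).trans (Nat.add_le_add_left ?_ _)
            rw [← ix_pt (show k < 24 by omega), ← maskOf_singleton, setOfMask_maskOf]
            simp
          omega

theorem synMap_full : synMapAux 4 24 0 = 2 ^ 4096 - 1 := by decide +kernel

/-- Every coset of the code has a word of weight at most four. -/
theorem exists_light {a : ℕ} (ha : a < 2 ^ 24) :
    ∃ m < 2 ^ 24, popc m ≤ 4 ∧ inCode (a ^^^ m) = true := by
  obtain ⟨m, hm, hp, e⟩ := synMapAux_spec 4 24 0 le_rfl (by norm_num) (syn a) (by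
    rw [synMap_full, Nat.testBit_two_pow_sub_one]
    exact decide_eq_true (syn_lt ha))
  have h0 : popc 0 = 0 := by decide +kernel
  exact ⟨m, hm, by omega, (syn_eq_iff a m).1 e.symm⟩

/-! ### tetrads and sextets -/

theorem card_symmDiff (s t : Finset GolayPt) :
    (symmDiff s t).card + 2 * (s ∩ t).card = s.card + t.card := by
  rw [Finset.symmDiff_def, Finset.card_union_of_disjoint disjoint_sdiff_sdiff,
    ← Finset.card_sdiff_add_card_inter s t, ← Finset.card_sdiff_add_card_inter t s,
    Finset.inter_comm t s]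
  ring

theorem card_inter_octads {o o' : Finset GolayPt} (ho : o ∈ octads) (ho' : o' ∈ octads)
    (h : o ≠ o') : (o ∩ o').card = 0 ∨ (o ∩ o').card = 2 ∨ (o ∩ o').card = 4 := by
  have h5 : (o ∩ o').card < 5 := by
    by_contra hc
    exact h (eq_of_inter_five ho ho' (by omega))
  have hs := card_code_support (symmDiff_mem_supports ho.1 ho'.1)
  have hc := card_symmDiff o o'
  rw [ho.2, ho'.2] at hc
  omega

theorem symmDiff_octads_four {o o' : Finset GolayPt} (ho : o ∈ octads) (ho' : o' ∈ octads)
    (h : (o ∩ o').card = 4) : symmDiff o o' ∈ octads := by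
  refine ⟨symmDiff_mem_supports ho.1 ho'.1, ?_⟩
  have hc := card_symmDiff o o'
  rw [ho.2, ho'.2] at hc
  omega

open Classical in
/-- The octads, as a finset. -/
noncomputable def octadFinset : Finset (Finset GolayPt) := (Set.toFinite octads).toFinset

theorem mem_octadFinset {o : Finset GolayPt} : o ∈ octadFinset ↔ o ∈ octads :=
  Set.Finite.mem_toFinset _

/-- The sextet of a tetrad. -/
noncomputable def sextetOf (t : Finset GolayPt) : Finset (Finset GolayPt) :=
  insert t ((octadFinset.filter (t ⊆ ·)).image (· \ t))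

theorem card_octads_through_tetrad {t : Finset GolayPt} (ht : t.card = 4) :
    (octadFinset.filter (t ⊆ ·)).card = 5 := by
  obtain ⟨g, rfl⟩ := exists_smul_set (s := setOfMask 15) (t := t)
    (by rw [ht]; decide +kernel) (by decide +kernel)
  rw [← Set.ncard_coe_finset]
  have := ncard_inter_census g (m := 15) (by norm_num) 8 4
  rw [show countList (codeList 8) (fun x => Nat.beq (popc (Nat.land 15 x)) 4) = 5 by
    decide +kernel] at this
  rw [← this]
  congr 1
  ext o
  simp only [Finset.coe_filter, Set.mem_ofPred_eq, mem_octadFinset]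
  refine and_congr_right fun _ => ?_
  rw [← Finset.inter_eq_left]
  exact ⟨fun h => by rw [h, ht], fun h => Finset.eq_of_subset_of_card_le Finset.inter_subset_left
    (by rw [h, ht])⟩

theorem card_sextetOf {t : Finset GolayPt} (ht : t.card = 4) : (sextetOf t).card = 6 := by
  rw [sextetOf, Finset.card_insert_of_notMem, Finset.card_image_of_injOn,
    card_octads_through_tetrad ht]
  · intro a ha b hb e
    simp only [Finset.coe_filter, Set.mem_ofPred_eq] at ha hb
    have e' : a \ t ∪ t = b \ t ∪ t := congrArg (· ∪ t) e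
    rwa [Finset.sdiff_union_of_subset ha.2, Finset.sdiff_union_of_subset hb.2] at e'
  · rw [Finset.mem_image]
    rintro ⟨o, -, e⟩
    have : t.Nonempty := Finset.card_pos.1 (by omega)
    obtain ⟨x, hx⟩ := this
    rw [← e] at hx
    exact (Finset.mem_sdiff.1 hx).2 (e ▸ Finset.mem_sdiff.2 ⟨(Finset.mem_sdiff.1 hx).1, (Finset.mem_sdiff.1 hx).2⟩)

theorem sextetOf_mem {t : Finset GolayPt} (ht : t.card = 4) : sextetOf t ∈ sextets := by
  have hmem : ∀ u ∈ sextetOf t, u = t ∨ ∃ o ∈ octads, t ⊆ o ∧ u = o \ t := by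
    intro u hu
    simp only [sextetOf, Finset.mem_insert, Finset.mem_image, Finset.mem_filter,
      mem_octadFinset] at hu
    rcases hu with h | ⟨o, ⟨ho, h⟩, rfl⟩
    · exact Or.inl h
    · exact Or.inr ⟨o, ho, h, rfl⟩
  refine ⟨card_sextetOf ht, fun u hu => ?_, fun u hu v hv huv => ?_⟩
  · rcases hmem u hu with rfl | ⟨o, ho, h, rfl⟩
    · exact ht
    · rw [Finset.card_sdiff_of_subset h, ho.2, ht]
  · rcases hmem u hu with rfl | ⟨o, ho, h, rfl⟩ <;>
      rcases hmem v hv with rfl | ⟨o', ho', h', rfl⟩
    · exact absurd rfl huv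
    · rwa [Finset.union_sdiff_of_subset h']
    · rwa [Finset.union_comm, Finset.union_sdiff_of_subset h]
    · have hne : o ≠ o' := fun e => huv (e ▸ rfl)
      have h4 : 4 ≤ (o ∩ o').card := ht ▸ Finset.card_le_card (Finset.subset_inter h h')
      have h4' : (o ∩ o').card = 4 := by
        rcases card_inter_octads ho ho' hne with e | e | e <;> omega
      have hi : o ∩ o' = t :=
        (Finset.eq_of_subset_of_card_le (Finset.subset_inter h h') (by omega)).symm
      rw [← hi, Finset.sdiff_inter_self_left, Finset.inter_comm o o', Finset.sdiff_inter_self_left,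
        ← Finset.symmDiff_def]
      exact symmDiff_octads_four ho ho' h4'

theorem sextet_eq {S : Finset (Finset GolayPt)} (hS : S ∈ sextets) {t : Finset GolayPt}
    (ht : t ∈ S) : S = sextetOf t := by
  refine Finset.eq_of_subset_of_card_le (fun u hu => ?_) (by rw [hS.1, card_sextetOf (hS.2.1 t ht)])
  simp only [sextetOf, Finset.mem_insert, Finset.mem_image, Finset.mem_filter, mem_octadFinset]
  by_cases hut : u = t
  · exact Or.inl hut
  · refine Or.inr ⟨t ∪ u, ⟨hS.2.2 t ht u hu (Ne.symm hut), Finset.subset_union_left⟩, ?_⟩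
    have hc := (hS.2.2 t ht u hu (Ne.symm hut)).2
    rw [Finset.card_union, hS.2.1 t ht, hS.2.1 u hu] at hc
    have hd : Disjoint u t := by
      rw [Finset.disjoint_iff_inter_eq_empty, Finset.inter_comm, ← Finset.card_eq_zero]; omega
    rw [Finset.union_sdiff_left, Finset.sdiff_eq_self_iff_disjoint.2 hd]

theorem mem_sextetOf_self (t : Finset GolayPt) : t ∈ sextetOf t := Finset.mem_insert_self _ _

theorem existsUnique_sextet {t : Finset GolayPt} (ht : t.card = 4) :
    ∃! S : Finset (Finset GolayPt), S ∈ sextets ∧ t ∈ S :=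
  ⟨sextetOf t, ⟨sextetOf_mem ht, mem_sextetOf_self t⟩, fun _ h => sextet_eq h.1 h.2⟩

theorem sextets_ncard : sextets.ncard = 1771 := by
  classical
  let Q := (Finset.univ : Finset GolayPt).powersetCard 4
  have hS : sextets = ↑(Q.image sextetOf) := by
    ext S
    simp only [Finset.coe_image, Set.mem_image, Finset.mem_coe, Q, Finset.mem_powersetCard,
      Finset.subset_univ, true_and]
    constructor
    · intro hS
      obtain ⟨t, ht⟩ : S.Nonempty := Finset.card_pos.1 (by rw [hS.1]; norm_num)
      exact ⟨t, hS.2.1 t ht, (sextet_eq hS ht).symm⟩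
    · rintro ⟨t, ht, rfl⟩; exact sextetOf_mem ht
  have h6 : ∀ S ∈ Q.image sextetOf, (Q.filter fun t => sextetOf t = S).card = 6 := by
    intro S hS'
    have hS'' : S ∈ sextets := by rw [hS]; exact hS'
    rw [show Q.filter (fun t => sextetOf t = S) = S from ?_, hS''.1]
    ext t
    simp only [Finset.mem_filter, Q, Finset.mem_powersetCard, Finset.subset_univ, true_and]
    exact ⟨fun ⟨_, e⟩ => e ▸ mem_sextetOf_self t,
      fun h => ⟨hS''.2.1 t h, (sextet_eq hS'' h).symm⟩⟩
  have h := Finset.card_eq_sum_card_image sextetOf Q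
  rw [Finset.sum_congr rfl h6, Finset.sum_const, smul_eq_mul, Finset.card_powersetCard] at h
  rw [hS, Set.ncard_coe_finset]
  have : Nat.choose (Finset.univ : Finset GolayPt).card 4 = 10626 := by decide +kernel
  omega

/-! ### trios -/

theorem third_octad {o o' : Finset GolayPt} (ho : o ∈ octads) (ho' : o' ∈ octads)
    (h : Disjoint o o') : (o ∪ o')ᶜ ∈ octads := by
  refine ⟨compl_mem_supports ?_, ?_⟩
  · rw [← Finset.sup_eq_union, ← h.symmDiff_eq_sup]
    exact symmDiff_mem_supports ho.1 ho'.1
  · rw [Finset.card_compl, Finset.card_union_of_disjoint h, ho.2, ho'.2]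
    decide

theorem card_disjoint_octads {o : Finset GolayPt} (ho : o ∈ octads) :
    (octadFinset.filter (Disjoint o ·)).card = 30 := by
  have h0 : setOfMask 8536111 ∈ octads := by
    rw [mem_octads_iff, maskOf_setOfMask (by norm_num)]; decide +kernel
  obtain ⟨g, hg, e⟩ := exists_smul_octad h0 ho
  have := ncard_inter_census ⟨g, hg⟩ (m := 8536111) (by norm_num) 8 0
  rw [show countList (codeList 8) (fun x => Nat.beq (popc (Nat.land 8536111 x)) 0) = 30 by
    decide +kernel] at this
  rw [← Set.ncard_coe_finset, ← this]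
  congr 1
  ext x
  simp only [Finset.coe_filter, Set.mem_ofPred_eq, mem_octadFinset]
  refine and_congr_right fun _ => ?_
  rw [Finset.card_eq_zero, ← Finset.disjoint_iff_inter_eq_empty, ← e]
  rfl

theorem trio_eq {T : Finset (Finset GolayPt)} (hT : T ∈ trios) {o o' : Finset GolayPt}
    (ho : o ∈ T) (ho' : o' ∈ T) (h : o ≠ o') : T = {o, o', (o ∪ o')ᶜ} := by
  refine (Finset.eq_of_subset_of_card_le (fun x hx => ?_) ?_)
  · simp only [Finset.mem_insert, Finset.mem_singleton]
    by_cases h1 : x = o
    · exact Or.inl h1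
    by_cases h2 : x = o'
    · exact Or.inr (Or.inl h2)
    refine Or.inr (Or.inr (Finset.eq_of_subset_of_card_le ?_ ?_))
    · intro z hz
      rw [Finset.mem_compl, Finset.mem_union]
      rintro (hz' | hz')
      · exact Finset.disjoint_left.1 (hT.2.2 x hx o ho h1) hz hz'
      · exact Finset.disjoint_left.1 (hT.2.2 x hx o' ho' h2) hz hz'
    · rw [(hT.2.1 x hx).2, (third_octad (hT.2.1 o ho) (hT.2.1 o' ho') (hT.2.2 o ho o' ho' h)).2]
  · rw [hT.1]; exact Finset.card_le_three

theorem trio_mem {o o' : Finset GolayPt} (ho : o ∈ octads) (ho' : o' ∈ octads)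
    (h : Disjoint o o') : ({o, o', (o ∪ o')ᶜ} : Finset (Finset GolayPt)) ∈ trios := by
  have h3 := third_octad ho ho' h
  have d1 : Disjoint o (o ∪ o')ᶜ := disjoint_compl_right.mono_left Finset.subset_union_left
  have d2 : Disjoint o' (o ∪ o')ᶜ := disjoint_compl_right.mono_left Finset.subset_union_right
  have ne : ∀ {a b : Finset GolayPt}, a ∈ octads → Disjoint a b → a ≠ b := by
    intro a b ha hd e
    subst e
    rw [disjoint_self] at hd
    have := ha.2
    simp [hd] at this
  refine ⟨?_, ?_, ?_⟩
  · rw [Finset.card_insert_of_notMem, Finset.card_pair (ne ho' d2)]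
    simp only [Finset.mem_insert, Finset.mem_singleton, not_or]
    exact ⟨ne ho h, ne ho d1⟩
  · simp only [Finset.mem_insert, Finset.mem_singleton]
    rintro x (rfl | rfl | rfl) <;> assumption
  · simp only [Finset.mem_insert, Finset.mem_singleton]
    rintro x (rfl | rfl | rfl) y (rfl | rfl | rfl) hxy <;>
      first | exact absurd rfl hxy | assumption | exact h.symm | exact d1.symm | exact d2.symm

theorem trios_ncard : trios.ncard = 3795 := by
  classical
  let P := (octadFinset ×ˢ octadFinset).filter fun q => Disjoint q.1 q.2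
  let F : Finset GolayPt × Finset GolayPt → Finset (Finset GolayPt) :=
    fun q => {q.1, q.2, (q.1 ∪ q.2)ᶜ}
  have hP : P.card = 22770 := by
    rw [Finset.card_filter, Finset.sum_product]
    rw [Finset.sum_congr rfl (g := fun _ => 30) fun o ho => by
      rw [← Finset.card_filter]; exact card_disjoint_octads (mem_octadFinset.1 ho)]
    rw [Finset.sum_const, octadFinset, ← Set.ncard_eq_toFinset_card, octads_ncard]
    rfl
  have hmem : ∀ q ∈ P, q.1 ∈ octads ∧ q.2 ∈ octads ∧ Disjoint q.1 q.2 := fun q hq => by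
    simpa [P, mem_octadFinset, and_assoc] using hq
  have hne : ∀ {o : Finset GolayPt}, o ∈ octads → ¬ Disjoint o o := fun {o} ho hd => by
    rw [disjoint_self] at hd
    have := ho.2
    simp [hd] at this
  have hT : trios = ↑(P.image F) := by
    ext T
    simp only [Finset.coe_image, Set.mem_image, Finset.mem_coe]
    constructor
    · intro hT
      obtain ⟨o, ho, o', ho', h⟩ := Finset.one_lt_card.1 (show 1 < T.card by rw [hT.1]; norm_num)
      refine ⟨(o, o'), ?_, (trio_eq hT ho ho' h).symm⟩
      simp only [P, Finset.mem_filter, Finset.mem_product, mem_octadFinset]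
      exact ⟨⟨hT.2.1 o ho, hT.2.1 o' ho'⟩, hT.2.2 o ho o' ho' h⟩
    · rintro ⟨q, hq, rfl⟩
      exact trio_mem (hmem q hq).1 (hmem q hq).2.1 (hmem q hq).2.2
  have h6 : ∀ T ∈ P.image F, (P.filter fun q => F q = T).card = 6 := by
    intro T hT'
    have hT'' : T ∈ trios := by rw [hT]; exact hT'
    rw [show P.filter (fun q => F q = T) = T.offDiag from ?_, Finset.offDiag_card, hT''.1]
    ext q
    simp only [Finset.mem_filter, Finset.mem_offDiag]
    constructor
    · rintro ⟨hq, rfl⟩
      refine ⟨by simp [F], by simp [F], fun e => hne (hmem q hq).1 ?_⟩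
      conv => congr
              · skip
              · rw [e]
      exact (hmem q hq).2.2
    · rintro ⟨h1, h2, h3⟩
      refine ⟨?_, (trio_eq hT'' h1 h2 h3).symm⟩
      simp only [P, Finset.mem_filter, Finset.mem_product, mem_octadFinset]
      exact ⟨⟨hT''.2.1 _ h1, hT''.2.1 _ h2⟩, hT''.2.2 _ h1 _ h2 h3⟩
  have h := Finset.card_eq_sum_card_image F P
  rw [Finset.sum_congr rfl h6, Finset.sum_const, smul_eq_mul, hP] at h
  rw [hT, Set.ncard_coe_finset]
  omega

end CfsgLib.Sporadic
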