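import Cfsg.Agent.Lib.Sporadic.ConwayMax
import Cfsg.Agent.Lib.Sporadic.Simple
import Cfsg.Agent.Lib.ThreeTrans.GolayModule

/-!
# The largest Conway group modulo its centre is simple
-/

set_option autoImplicit false

namespace CfsgLib.Sporadic.Conway

open Cfsg Finset CfsgLib.ThreeTrans.Leech CfsgLib.Sporadic.Lattice
open CfsgLib.ThreeTrans.Golay (act mk Word)
open scoped Pointwise

theorem supp_mem {w : Word} (hw : w ∈ golayCode) :
    support₂ w ∈ supports (golayCode : Set (GolayPt → ZMod 2)) := ⟨w, hw, rfl⟩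

/-- The sign change attached to a code word. -/
def fl (w : Word) (hw : w ∈ golayCode) : ↥Co0 := flipElt (supp_mem hw)

theorem fl_apply {w : Word} (hw : w ∈ golayCode) (v : ↥leechLattice) :
    ((fl w hw • v : ↥leechLattice) : Vec) = fun i => if w i ≠ 0 then -(v : Vec) i else (v : Vec) i := by
  rw [fl, flipElt_apply]
  funext i
  simp [flipVec, support₂]

theorem co0_ext {g h : ↥Co0} (e : ∀ v : ↥leechLattice, ((g • v : ↥leechLattice) : Vec) = ((h • v : ↥leechLattice) : Vec)) :
    g = h := Subtype.ext (Equiv.ext fun v => Subtype.ext (e v))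

theorem fl_zero : fl 0 (zero_mem _) = 1 := co0_ext fun v => by
  rw [fl_apply, one_smul]; simp

theorem fl_one : fl 1 one_mem_code = negElt := co0_ext fun v => by
  rw [fl_apply, negElt_smul]; funext i; simp

theorem fl_add {v w : Word} (hv : v ∈ golayCode) (hw : w ∈ golayCode) :
    fl (v + w) (add_mem hv hw) = fl v hv * fl w hw := co0_ext fun x => by
  rw [fl_apply, mul_smul, fl_apply, fl_apply]
  funext i
  have key : ∀ a b : ZMod 2, (a + b ≠ 0) ↔ ¬ ((a ≠ 0) ↔ (b ≠ 0)) := by decide
  simp only [Pi.add_apply, key]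
  by_cases h1 : v i ≠ 0 <;> by_cases h2 : w i ≠ 0 <;> simp [h1, h2]

theorem fl_conj {σ : Equiv.Perm GolayPt} (hσ : σ ∈ M24) {w : Word} (hw : w ∈ golayCode) :
    permElt hσ * fl w hw * (permElt hσ)⁻¹ = fl (act σ w) (ThreeTrans.Golay.act_code hσ hw) := by
  rw [mul_inv_eq_iff_eq_mul]
  refine co0_ext fun v => ?_
  rw [mul_smul, mul_smul, permElt_apply, fl_apply, fl_apply, permElt_apply]
  rfl

/-- `g` permutes the lines of the standard cross as `σ`. -/
def PermOf (g : ↥Co0) (σ : Equiv.Perm GolayPt) : Prop :=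
  ∀ i, ((g • (⟨eightVec i, eightVec_mem i⟩ : ↥leechLattice) : ↥leechLattice) : Vec) = eightVec (σ i) ∨
    ((g • (⟨eightVec i, eightVec_mem i⟩ : ↥leechLattice) : ↥leechLattice) : Vec) = -eightVec (σ i)

theorem PermOf.eq {g : ↥Co0} {σ τ : Equiv.Perm GolayPt} (h1 : PermOf g σ) (h2 : PermOf g τ) : σ = τ := by
  refine Equiv.ext fun i => ?_
  rcases h1 i with a | a <;> rcases h2 i with b | b <;> rw [a] at b
  · exact eightVec_inj b
  · exact absurd b (eightVec_ne_neg _ _)
  · exact absurd b.symm (eightVec_ne_neg _ _)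
  · exact eightVec_inj (neg_injective b)

theorem permOf_mono {σ : Equiv.Perm GolayPt} (hσ : σ ∈ M24) {c : Finset GolayPt}
    (hc : c ∈ supports (golayCode : Set (GolayPt → ZMod 2))) : PermOf (monoElt hσ hc) σ := fun i => by
  rw [monoElt_apply, signedPerm_eight]
  split_ifs
  · exact Or.inr rfl
  · exact Or.inl rfl

theorem permOf_one : PermOf 1 1 := fun i => Or.inl (by rw [one_smul]; rfl)

theorem PermOf.mul {g h : ↥Co0} {σ τ : Equiv.Perm GolayPt} (h1 : PermOf g σ) (h2 : PermOf h τ) :
    PermOf (g * h) (σ * τ) := fun i => by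
  rw [mul_smul]
  rcases h2 i with b | b
  · rw [show h • (⟨eightVec i, eightVec_mem i⟩ : ↥leechLattice) = ⟨eightVec (τ i), eightVec_mem _⟩ from
      Subtype.ext b]
    exact h1 (τ i)
  · rw [show h • (⟨eightVec i, eightVec_mem i⟩ : ↥leechLattice) = -⟨eightVec (τ i), eightVec_mem _⟩ from
      Subtype.ext b, smul_neg', AddSubgroup.coe_neg]
    rcases h1 (τ i) with a | a <;> rw [a]
    · exact Or.inr rfl
    · exact Or.inl (neg_neg _)

theorem PermOf.inv {g : ↥Co0} {σ : Equiv.Perm GolayPt} (h1 : PermOf g σ) : PermOf g⁻¹ σ⁻¹ := fun i => by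
  rcases h1 (σ⁻¹ i) with a | a
  · rw [show σ (σ⁻¹ i) = i from σ.apply_symm_apply i] at a
    left
    rw [show (⟨eightVec i, eightVec_mem i⟩ : ↥leechLattice) = g • ⟨eightVec (σ⁻¹ i), eightVec_mem _⟩ from
      Subtype.ext a.symm, inv_smul_smul]
  · rw [show σ (σ⁻¹ i) = i from σ.apply_symm_apply i] at a
    right
    rw [show (⟨eightVec i, eightVec_mem i⟩ : ↥leechLattice) = g • -⟨eightVec (σ⁻¹ i), eightVec_mem _⟩ from
      Subtype.ext (by rw [smul_neg', AddSubgroup.coe_neg, a, neg_neg]), inv_smul_smul]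
    rfl

theorem permOf_fl {w : Word} (hw : w ∈ golayCode) : PermOf (fl w hw) 1 := by
  have : fl w hw = monoElt (σ := 1) M24.one_mem (supp_mem hw) := co0_ext fun v => by
    rw [fl, flipElt_apply, monoElt_apply]; rfl
  rw [this]; exact permOf_mono _ _

theorem permOf_perm {σ : Equiv.Perm GolayPt} (hσ : σ ∈ M24) : PermOf (permElt hσ) σ := fun i => by
  left
  rw [permElt_apply]
  funext k
  simp [permVec, eightVec, Equiv.symm_apply_eq]

theorem PermOf.mono {g : ↥Co0} {σ : Equiv.Perm GolayPt} (h : PermOf g σ) :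
    g ∈ crossStab ∧ ∃ (hσ : σ ∈ M24) (w : Word) (hw : w ∈ golayCode), g = fl w hw * permElt hσ := by
  have hs : Preserves g := fun v hv => by
    obtain ⟨i, e | e⟩ := mem_stdCross.1 hv
    · rw [show v = ⟨eightVec i, eightVec_mem i⟩ from Subtype.ext e]
      exact mem_stdCross.2 ⟨σ i, h i⟩
    · rw [show v = -⟨eightVec i, eightVec_mem i⟩ from Subtype.ext e, smul_neg', AddSubgroup.coe_neg]
      refine mem_stdCross.2 ⟨σ i, (h i).symm.imp (fun a => ?_) (fun a => ?_)⟩
      · rw [a, neg_neg]
      · rw [a]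
  obtain ⟨τ, hτ, c, ⟨w, hw, rfl⟩, rfl⟩ := exists_mono hs
  obtain rfl := h.eq (permOf_mono hτ _)
  exact ⟨mem_crossStab.2 hs, hτ, w, hw, rfl⟩

theorem exists_notMem_card {s : Finset GolayPt} (h : s.card < Fintype.card GolayPt) : ∃ a, a ∉ s := by
  by_contra hne
  push Not at hne
  rw [Finset.eq_univ_of_forall hne, Finset.card_univ] at h
  exact lt_irrefl _ h

/-- An element preserving every cross is central. -/
theorem normal_le_center {N : Subgroup ↥Co0} (hN : N.Normal) (hle : N ≤ crossStab) :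
    N ≤ Subgroup.center ↥Co0 := by
  intro n hn
  have hclass : ∀ x : ↥leechLattice, sqNorm (x : Vec) = 64 →
      classOf ((n • x : ↥leechLattice) : Vec) = classOf (x : Vec) := by
    intro x hx
    obtain ⟨g, rfl⟩ := exists_smul_of_rel (v := baseElt) (w := x)
      (rv_eight_eq ▸ Rel.refl (eightVec_mem none)) (orbit64 x.2 hx)
    have h1 := preserves_iff.1 (mem_crossStab.1 (hle (hN.conj_mem' n hn g)))
    have h2 := classOf_smul g (x := (g⁻¹ * n * g) • baseElt) (y := baseElt) h1
    rwa [← mul_smul, ← mul_assoc, ← mul_assoc, mul_inv_cancel, one_mul, mul_smul] at h2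
  obtain ⟨σ, hσ, c, hc, rfl⟩ := exists_mono (mem_crossStab.1 (hle hn))
  let four : GolayPt → GolayPt → GolayPt → GolayPt → Vec := fun a b e d => fun k =>
    4 * ((if k = a then 1 else 0) + (if k = b then 1 else 0) + (if k = e then 1 else 0) + (if k = d then 1 else 0))
  have hfour : ∀ a b e d, a ≠ b → a ≠ e → a ≠ d → b ≠ e → b ≠ d → e ≠ d →
      ∃ h : four a b e d ∈ leechLattice, sqNorm (four a b e d) = 64 := by
    intro a b e d h1 h2 h3 h4 h5 h6
    refine ⟨?_, ?_⟩
    · have : four a b e d = pairVec a b + pairVec e d := by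
        funext k; simp only [four, pairVec, Pi.add_apply]; ring
      rw [this]
      exact add_mem (mem_iff.2 (isL_pair a b)) (mem_iff.2 (isL_pair e d))
    · have : ∀ k, four a b e d k ^ 2 = 16 * ((if k = a then 1 else 0) + (if k = b then 1 else 0) +
          (if k = e then 1 else 0) + (if k = d then 1 else 0)) := fun k => by
        simp only [four]; split_ifs <;> simp_all
      rw [sqNorm, Finset.sum_congr rfl fun k _ => this k, ← Finset.mul_sum]
      simp [Finset.sum_add_distrib]
  have key : ∀ d e : GolayPt, d ≠ e → ∀ z : Vec, z = signedPerm σ c (pairVec d d) - signedPerm σ c (pairVec e e) →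
      z = pairVec d d - pairVec e e ∨ z = -(pairVec d d - pairVec e e) := by
    intro d e hde z hz
    obtain ⟨a, ha⟩ : ∃ a, a ∉ ({d, e} : Finset GolayPt) := exists_notMem_card
      (by rw [Finset.card_pair hde]; decide)
    obtain ⟨b, hb⟩ : ∃ b, b ∉ ({a, d, e} : Finset GolayPt) := exists_notMem_card
      (lt_of_le_of_lt Finset.card_le_three (by decide))
    obtain ⟨g, hg⟩ : ∃ g, g ∉ ({b, a, d, e} : Finset GolayPt) := exists_notMem_card
      (lt_of_le_of_lt Finset.card_le_four (by decide))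
    simp only [Finset.mem_insert, Finset.mem_singleton, not_or] at ha hb hg
    obtain ⟨hx, hxn⟩ := hfour a b g d (Ne.symm hb.1) (Ne.symm hg.2.1) ha.1 (Ne.symm hg.1) hb.2.1 hg.2.2.1
    obtain ⟨hy, hyn⟩ := hfour a b g e (Ne.symm hb.1) (Ne.symm hg.2.1) ha.2 (Ne.symm hg.1) hb.2.2 hg.2.2.2
    have c1 := hclass ⟨_, hx⟩ hxn
    have c2 := hclass ⟨_, hy⟩ hyn
    rw [monoElt_apply] at c1 c2
    have m1 : signedPerm σ c (four a b g d) ∈ leechLattice := by
      rw [← monoElt_apply hσ hc ⟨_, hx⟩]; exact SetLike.coe_mem _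
    have m2 : signedPerm σ c (four a b g e) ∈ leechLattice := by
      rw [← monoElt_apply hσ hc ⟨_, hy⟩]; exact SetLike.coe_mem _
    obtain ⟨z1, hz1, e1⟩ := (classOf_eq_iff m1 hx).1 c1
    obtain ⟨z2, hz2, e2⟩ := (classOf_eq_iff m2 hy).1 c2
    have hz' : signedPerm σ c (four a b g d) - signedPerm σ c (four a b g e) = fun k =>
        if k ∈ c then -(four a b g d (σ.symm k) - four a b g e (σ.symm k))
        else four a b g d (σ.symm k) - four a b g e (σ.symm k) := by
      funext k; simp only [signedPerm, Pi.sub_apply]; split_ifs <;> ring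
    have h2z : 2 • (fun k => 2 * z k / 4) = 2 • (fun k => 2 * z k / 4) := rfl
    have hw : ∀ u : Vec, u = four a b g d - four a b g e → (2 : ℤ) • u = pairVec d d - pairVec e e := by
      intro u hu; rw [hu]; funext k
      simp only [Pi.smul_apply, Pi.sub_apply, four, pairVec, smul_eq_mul]; ring
    have hsz : z = (2 : ℤ) • (signedPerm σ c (four a b g d) - signedPerm σ c (four a b g e)) := by
      rw [hz, hz']; funext k
      simp only [Pi.smul_apply, Pi.sub_apply, signedPerm, four, pairVec, smul_eq_mul]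
      split_ifs <;> ring
    have hmin : sqNorm (four a b g d - four a b g e) = 32 := by
      have : ∀ k, (four a b g d - four a b g e) k ^ 2 = 16 * ((if k = d then 1 else 0) + (if k = e then 1 else 0)) :=
        fun k => by simp only [Pi.sub_apply, four]; split_ifs <;> simp_all
      rw [sqNorm, Finset.sum_congr rfl fun k _ => this k, ← Finset.mul_sum]
      simp [Finset.sum_add_distrib]
    have hminz : sqNorm (signedPerm σ c (four a b g d) - signedPerm σ c (four a b g e)) = 32 := by
      rw [← hmin, hz', sqNorm, sqNorm]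
      refine (Finset.sum_congr rfl fun k _ => ?_).trans
        (Equiv.sum_comp σ.symm fun k => (four a b g d - four a b g e) k ^ 2)
      simp only [Pi.sub_apply]; split_ifs <;> ring
    rcases eq_or_ne (signedPerm σ c (four a b g d) - signedPerm σ c (four a b g e))
        (four a b g d - four a b g e) with heq | hne
    · left; rw [hsz, heq]; exact hw _ rfl
    · right
      rcases congr_short (sub_mem m1 m2) (sub_mem hx hy) hne (by omega) (by omega)
        ⟨z1 - z2, sub_mem hz1 hz2, by rw [sub_sub_sub_comm, e1, e2, smul_sub]⟩ with h | ⟨h, -⟩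
      · rw [hsz, h, smul_neg]; exact congrArg Neg.neg (hw _ rfl)
      · omega
  have hσ1 : σ = 1 := by
    refine Equiv.ext fun i => ?_
    by_contra hi
    obtain ⟨j, hj⟩ : ∃ j, j ∉ ({i, σ i} : Finset GolayPt) := exists_notMem_card
      (lt_of_le_of_lt Finset.card_le_two (by decide))
    simp only [Finset.mem_insert, Finset.mem_singleton, not_or] at hj
    have h8 := key i j (Ne.symm hj.1) _ rfl
    have hij : σ j ≠ σ i := fun h => hj.1 (σ.injective h)
    change σ i ≠ i at hi
    rcases h8 with h | h <;> (have := congrFun h (σ i); simp [signedPerm, pairVec, hi, Ne.symm hj.1, Ne.symm hj.2] at this; split_ifs at this <;> omega)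
  subst hσ1
  have hconst : ∀ i j, i ∈ c → j ∈ c := by
    intro i j hi
    by_contra hj
    have hij : i ≠ j := fun e => hj (e ▸ hi)
    rcases key i j hij _ rfl with h | h
    · have := congrFun h i; simp [signedPerm, pairVec, hi, hij, show ((1 : Equiv.Perm GolayPt).symm) i = i from rfl] at this
    · have := congrFun h j; simp [signedPerm, pairVec, hj, Ne.symm hij, show ((1 : Equiv.Perm GolayPt).symm) j = j from rfl] at this
  rw [← SetLike.mem_coe, center_eq]
  rcases c.eq_empty_or_nonempty with rfl | ⟨i, hi⟩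
  · left
    exact co0_ext fun v => by rw [monoElt_apply, one_smul]; funext k; simp [signedPerm]; rfl
  · right
    obtain rfl : c = Finset.univ := Finset.eq_univ_of_forall fun j => hconst i j hi
    exact co0_ext fun v => by rw [monoElt_apply, negElt_smul]; funext k; simp [signedPerm]; rfl

/-- A sign change on an octad, moved by the involution. -/
theorem key_mask : inCode 13062145 = true ∧
    xi (flipVec (setOfMask 13062145) (xi (eightVec none))) = eightVec (some 0) := by decide +kernel

theorem normal_eq_top {N : Subgroup ↥Co0} (hN : N.Normal) (hZ : Subgroup.center ↥Co0 ≤ N)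
    (hnot : ¬ N ≤ crossStab) : N = ⊤ := by
  have hne : negElt ∈ N := hZ (by rw [← SetLike.mem_coe, center_eq]; exact Or.inr rfl)
  have hsup : N ⊔ crossStab = ⊤ := by
    refine crossStab_coatom.2 _ (lt_of_le_of_ne le_sup_right fun e => hnot ?_)
    exact le_sup_left.trans e.ge
  have hxi : xiElt ∈ (↑(N ⊔ crossStab) : Set ↥Co0) := by rw [hsup]; exact Subgroup.mem_top _
  rw [Subgroup.normal_mul, Set.mem_mul] at hxi
  obtain ⟨x, hx, m, hm, e⟩ := hxi
  obtain ⟨τ, hτ, cm, hcm, rfl⟩ := exists_mono (mem_crossStab.1 hm)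
  have hd : wordOf 13062145 ∈ golayCode :=
    mem_golayCode.2 (by decide +kernel)
  set f := fl _ hd with hf
  set k := monoElt hτ hcm * f * (monoElt hτ hcm)⁻¹ with hk
  have hkp : PermOf k 1 := by
    have := ((permOf_mono hτ hcm).mul (permOf_fl hd)).mul (permOf_mono hτ hcm).inv
    rwa [mul_one, mul_inv_cancel] at this
  have hxisq : xiElt * xiElt = 1 := co0_ext fun v => by
    rw [mul_smul, one_smul, xiElt_apply, xiElt_apply]
    exact xi_xi (mem_iff.1 v.2)
  have hp : xiElt * f * xiElt * k⁻¹ ∈ N := by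
    have h1 := mul_mem hx (hN.conj_mem _ (inv_mem hx) k)
    have e' : x = xiElt * (monoElt hτ hcm)⁻¹ := by rw [← e, mul_inv_cancel_right]
    have e2 : x * (k * x⁻¹ * k⁻¹) = xiElt * f * xiElt * k⁻¹ := by
      rw [e', hk, mul_inv_rev, inv_inv, inv_eq_of_mul_eq_one_left hxisq]
      group
    exact e2 ▸ h1
  have ht : ((( xiElt * f * xiElt) • baseElt : ↥leechLattice) : Vec) = eightVec (some 0) := by
    rw [mul_smul, mul_smul, xiElt_apply, hf, fl_apply, xiElt_apply]
    rw [← key_mask.2]
    congr 1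
    funext i
    simp only [flipVec]
    have : (wordOf 13062145 i ≠ 0) ↔ i ∈ setOfMask 13062145 := by
      rw [← support₂_wordOf 13062145]; simp [support₂]
    simp only [this]
    rfl
  obtain ⟨σ, hσ, c, hc, hpe⟩ := exists_mono (mem_crossStab.1
    (mul_mem (mem_crossStab.2 (preserves_iff.2 (((mem_std_iff (SetLike.coe_mem _)).1
      (mem_stdCross.2 ⟨some 0, Or.inl ht⟩)).2))) (inv_mem hkp.mono.1)))
  have hpσ : PermOf (xiElt * f * xiElt * k⁻¹) σ := hpe ▸ permOf_mono hσ hc
  have hσne : σ ≠ 1 := fun h1 => by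
    subst h1
    have h := hpσ.mul hkp
    rw [mul_one, inv_mul_cancel_right] at h
    rcases h none with a | a
    · exact absurd (eightVec_inj (ht.symm.trans a)) (by simp)
    · exact eightVec_ne_neg _ _ (ht.symm.trans a)
  let P : Subgroup ↥M24 :=
    { carrier := {π | ∃ g ∈ N, PermOf g π.1}
      one_mem' := ⟨1, one_mem N, permOf_one⟩
      mul_mem' := fun {a b} ⟨g, hg, h1⟩ ⟨g', hg', h2⟩ => ⟨g * g', mul_mem hg hg', h1.mul h2⟩
      inv_mem' := fun {a} ⟨g, hg, h1⟩ => ⟨g⁻¹, inv_mem hg, h1.inv⟩ }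
  have hPn : P.Normal := ⟨fun π ⟨g, hg, h1⟩ ρ =>
    ⟨permElt ρ.2 * g * (permElt ρ.2)⁻¹, hN.conj_mem g hg _,
      ((permOf_perm ρ.2).mul h1).mul (permOf_perm ρ.2).inv⟩⟩
  haveI := M24_isSimple
  have hPtop : P = ⊤ := by
    refine (hPn.eq_bot_or_eq_top).resolve_left fun hbot => hσne ?_
    have : (⟨σ, hσ⟩ : ↥M24) ∈ P := ⟨_, hp, hpσ⟩
    rw [hbot, Subgroup.mem_bot] at this
    exact congrArg Subtype.val this
  have hall : ∀ π : ↥M24, ∃ g ∈ N, PermOf g π.1 := fun π => (hPtop ▸ Subgroup.mem_top π : π ∈ P)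
  let W : Submodule (ZMod 2) Word :=
    { carrier := {w | ∃ hw : w ∈ golayCode, fl w hw ∈ N}
      zero_mem' := ⟨zero_mem _, fl_zero ▸ one_mem N⟩
      add_mem' := fun {a b} ⟨ha, h1⟩ ⟨hb, h2⟩ => ⟨add_mem ha hb, fl_add ha hb ▸ mul_mem h1 h2⟩
      smul_mem' := fun a w hw => by
        rcases (by revert a; decide : a = 0 ∨ a = 1) with rfl | rfl
        · rw [zero_smul]; exact ⟨zero_mem _, fl_zero ▸ one_mem N⟩
        · rw [one_smul]; exact hw }
  have hW : ThreeTrans.Golay.Invariant W := fun π hπ w ⟨hw, hwN⟩ =>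
    ⟨ThreeTrans.Golay.act_code hπ hw, fl_conj hπ hw ▸ hN.conj_mem _ hwN _⟩
  have h1W : (1 : Word) ∈ W := ⟨one_mem_code, fl_one ▸ hne⟩
  have hE : golayCode ≤ W := by
    have h0 : setOfMask (basisMask 0) ∈ octads := mem_octads_iff.2 (by decide +kernel)
    have h1 : setOfMask (basisMask 1) ∈ octads := mem_octads_iff.2 (by decide +kernel)
    obtain ⟨π, hπ, hπe⟩ := exists_smul_octad h0 h1
    have hw : wordOf (basisMask 0) ∈ golayCode := mem_golayCode.2 (by decide +kernel)
    have hacte : act π (wordOf (basisMask 0)) = wordOf (basisMask 1) :=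
      ThreeTrans.Golay.mk_injective (by
        rw [ThreeTrans.Golay.mk, ThreeTrans.Golay.mk, ThreeTrans.Golay.support_act, support₂_wordOf, support₂_wordOf, hπe])
    obtain ⟨g, hg, hgp⟩ := hall ⟨π, hπ⟩
    obtain ⟨-, hπ', u, hu, rfl⟩ := hgp.mono
    have hmem : act π (wordOf (basisMask 0)) + wordOf (basisMask 0) ∈ W := by
      refine ⟨add_mem (ThreeTrans.Golay.act_code hπ hw) hw, ?_⟩
      rw [fl_add (ThreeTrans.Golay.act_code hπ hw) hw]
      have h2 := mul_mem hg (hN.conj_mem _ (inv_mem hg) (fl _ hw))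
      have comm : ∀ (a : Word) (ha : a ∈ golayCode), fl u hu * fl a ha = fl a ha * fl u hu := fun a ha => by
        rw [← fl_add hu ha, ← fl_add ha hu]; simp only [add_comm u a]
      have e2 : fl u hu * permElt hπ' * (fl _ hw * (fl u hu * permElt hπ')⁻¹ * (fl _ hw)⁻¹) =
          fl (act π (wordOf (basisMask 0))) (ThreeTrans.Golay.act_code hπ hw) * fl _ hw := by
        have inv : (fl _ hw)⁻¹ = fl _ hw := inv_eq_of_mul_eq_one_left (by
          rw [← fl_add hw hw]; simp only [ThreeTrans.Golay.add_self]; exact fl_zero)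
        rw [inv, mul_inv_rev]
        calc _ = fl u hu * (permElt hπ' * fl _ hw * (permElt hπ')⁻¹) * (fl u hu)⁻¹ * fl _ hw := by group
          _ = _ := by rw [fl_conj, comm, mul_inv_cancel_right]
      exact e2 ▸ h2
    refine ThreeTrans.Golay.code_le hW h1W hmem (add_mem (ThreeTrans.Golay.act_code hπ hw) hw) ?_ ?_
    · rw [hacte]; decide +kernel
    · rw [hacte]; decide +kernel
  refine crossStab_coatom.2 N (lt_of_le_of_ne (fun g hg => ?_) fun e => hnot e.ge)
  obtain ⟨π, hπ, c', ⟨u, hu, rfl⟩, rfl⟩ := exists_mono (mem_crossStab.1 hg)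
  obtain ⟨g', hg', hgp⟩ := hall ⟨π, hπ⟩
  obtain ⟨-, hπ', u', hu', rfl⟩ := hgp.mono
  obtain ⟨_, hn1⟩ := hE hu
  obtain ⟨_, hn2⟩ := hE hu'
  have hpe' : permElt hπ' ∈ N := by
    have := mul_mem (inv_mem hn2) hg'; rwa [inv_mul_cancel_left] at this
  exact mul_mem hn1 hpe'

/-- The quotient is simple, of the order of the first Conway group. -/
theorem isCo1 : IsCo1 (↥Co0 ⧸ Subgroup.center ↥Co0) := by
  have hcard : Nat.card (↥Co0 ⧸ Subgroup.center ↥Co0) = 4157776806543360000 := by
    have h := Subgroup.card_eq_card_quotient_mul_card_subgroup (Subgroup.center ↥Co0)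
    rw [card_Co0, card_center] at h
    omega
  haveI : Nontrivial (↥Co0 ⧸ Subgroup.center ↥Co0) := by
    haveI : Finite (↥Co0 ⧸ Subgroup.center ↥Co0) := Nat.finite_of_card_ne_zero (by omega)
    exact Finite.one_lt_card_iff_nontrivial.1 (by omega)
  refine ⟨⟨fun H hH => ?_⟩, hcard⟩
  let φ := QuotientGroup.mk' (Subgroup.center ↥Co0)
  have hsurj : Function.Surjective φ := QuotientGroup.mk'_surjective _
  by_cases hle : H.comap φ ≤ crossStab
  · left
    have := Subgroup.map_mono (f := φ) (normal_le_center (hH.comap φ) hle)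
    rwa [Subgroup.map_comap_eq_self_of_surjective hsurj, QuotientGroup.map_mk'_self, le_bot_iff] at this
  · right
    have hker : Subgroup.center ↥Co0 ≤ H.comap φ := fun g hg => by
      rw [Subgroup.mem_comap, show φ g = 1 from (QuotientGroup.eq_one_iff g).2 hg]; exact one_mem H
    rw [← Subgroup.map_comap_eq_self_of_surjective hsurj H,
      normal_eq_top (hH.comap φ) hker hle, Subgroup.map_top_of_surjective φ hsurj]

end CfsgLib.Sporadic.Conway
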