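import Cfsg.Agent.Lib.Sporadic.ConwayConfigs
import Cfsg.Agent.Lib.Sporadic.ConwayNormal
import Cfsg.Agent.Lib.Sporadic.ConwaySimple

/-!
# Point stabilisers of the smaller Conway groups are monomial

The stabilisers of a suitable point are the stabilisers of one or two points in the large Mathieu group.
-/

set_option autoImplicit false

namespace CfsgLib.Sporadic.Conway

open Cfsg Finset CfsgLib.ThreeTrans.Leech CfsgLib.Sporadic.Lattice MulAction
open CfsgLib.ThreeTrans.Golay (act mk Word)

/-- The lattice element `8 eₐ`. -/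
def eightAt (a : GolayPt) : ↥leechLattice := ⟨eightVec a, eightVec_mem a⟩

theorem mono_apply {σ : Equiv.Perm GolayPt} (hσ : σ ∈ M24) {w : Word} (hw : w ∈ golayCode)
    (v : ↥leechLattice) (i : GolayPt) :
    (((fl w hw * permElt hσ) • v : ↥leechLattice) : Vec) i =
      if w i ≠ 0 then -((v : Vec) (σ.symm i)) else (v : Vec) (σ.symm i) := by
  rw [mul_smul, fl_apply, permElt_apply]
  rfl

/-- An element fixing the base vector is monomial. -/
theorem mono_of_eight {g : ↥Co0} (h : g • eightAt none = eightAt none) :
    ∃ (σ : Equiv.Perm GolayPt) (hσ : σ ∈ M24) (w : Word) (hw : w ∈ golayCode), g = fl w hw * permElt hσ := by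
  have hg : g ∈ crossStab := stab_of_base (congrArg Subtype.val h)
  obtain ⟨σ, hσ, c, hc, rfl⟩ := exists_mono (mem_crossStab.1 hg)
  obtain ⟨-, hσ', w, hw, e⟩ := (permOf_mono hσ hc).mono
  exact ⟨σ, hσ', w, hw, e⟩

theorem mono_fix {σ : Equiv.Perm GolayPt} (hσ : σ ∈ M24) {w : Word} (hw : w ∈ golayCode) {a : GolayPt}
    (h : (fl w hw * permElt hσ) • eightAt a = eightAt a) : σ a = a ∧ w a = 0 := by
  have e := congrArg (fun v : ↥leechLattice => (v : Vec) (σ a)) h
  simp only [mono_apply, eightAt, eightVec, Equiv.symm_apply_apply, if_pos] at e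
  by_cases hs : σ a = a
  · refine ⟨hs, ?_⟩
    rw [hs] at e
    by_contra hne
    simp [hne] at e
  · simp only [if_neg hs] at e
    split_ifs at e <;> omega

theorem five_sub_omega : eightAt none = fiveElt - elt 27729856879992518157740382617 (by decide +kernel) :=
  Subtype.ext (show eightVec none = pv kFive - pv 27729856879992518157740382617 by decide +kernel)

/-- The vector with entries `1`, except `-3` at infinity. -/
noncomputable def omegaElt : ↥leechLattice := elt 27729856879992518157740382617 (by decide +kernel)

theorem pair_add_z : eightAt none = pairElt + twentyPt :=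
  Subtype.ext (show eightVec none = pv kPair + pv 62062060636173731114942761092 by decide +kernel)

theorem pair_sub_z : eightAt (some 0) = pairElt - twentyPt :=
  Subtype.ext (show eightVec (some 0) = pv kPair - pv 62062060636173731114942761092 by decide +kernel)

theorem five_shape : ∀ i : GolayPt, pv kFive i = if i = none then 5 else 1 := by decide +kernel

theorem omega_shape : ∀ i : GolayPt, pv 27729856879992518157740382617 i = if i = none then -3 else 1 := by
  decide +kernel

theorem pair_shape : ∀ i : GolayPt, pv kPair i = if i = none then 4 else if i = some 0 then 4 else 0 := by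
  decide +kernel

theorem z_shape : ∀ i : GolayPt, pv 62062060636173731114942761092 i =
    if i = none then 4 else if i = some 0 then -4 else 0 := by
  decide +kernel

/-- A monomial element fixing infinity and the vector with entries `1, 5` changes no sign. -/
theorem mono_five {σ : Equiv.Perm GolayPt} (hσ : σ ∈ M24) {w : Word} (hw : w ∈ golayCode)
    (hs : σ none = none) (h : (fl w hw * permElt hσ) • fiveElt = fiveElt) :
    fl w hw * permElt hσ = permElt hσ := by
  have hw0 : w = 0 := by
    funext i
    have e := congrArg (fun v : ↥leechLattice => (v : Vec) i) h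
    simp only [mono_apply] at e
    by_contra hne
    rw [if_pos (show w i ≠ 0 from hne)] at e
    change -(pv kFive (σ.symm i)) = pv kFive i at e
    rw [five_shape, five_shape] at e
    by_cases hi : i = none
    · subst hi
      rw [show σ.symm none = none from σ.symm_apply_eq.2 hs.symm] at e
      simp at e
    · rw [if_neg hi] at e
      split_ifs at e <;> omega
  subst hw0
  rw [fl_zero, one_mul]

/-- The permutation automorphisms. -/
def permHom : ↥M24 →* ↥Co0 where
  toFun π := permElt π.2
  map_one' := co0_ext fun v => by rw [permElt_apply, one_smul]; rfl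
  map_mul' a b := co0_ext fun v => by rw [mul_smul, permElt_apply, permElt_apply, permElt_apply]; rfl

theorem permHom_apply (π : ↥M24) : permHom π = permElt π.2 := rfl

theorem permHom_injective : Function.Injective permHom := fun a b h => by
  have e : permElt a.2 = permElt b.2 := h
  exact Subtype.ext ((permOf_perm a.2).eq (e ▸ permOf_perm b.2))

/-- The two-point stabiliser in the large Mathieu group. -/
def twoPt : Subgroup ↥M24 := stabilizer ↥M24 (none : GolayPt) ⊓ stabilizer ↥M24 (some 0 : GolayPt)

theorem mem_twoPt {π : ↥M24} : π ∈ twoPt ↔ π.1 none = none ∧ π.1 (some 0) = some 0 := Iff.rfl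

theorem perm_fix_five {π : ↥M24} (h : π.1 none = none) : permHom π • fiveElt = fiveElt := by
  refine Subtype.ext (funext fun i => ?_)
  show pv kFive (π.1.symm i) = pv kFive i
  have hs : π.1.symm none = none := π.1.symm_apply_eq.2 h.symm
  simp only [five_shape, Equiv.symm_apply_eq, h]

theorem perm_fix_omega {π : ↥M24} (h : π.1 none = none) : permHom π • omegaElt = omegaElt := by
  refine Subtype.ext (funext fun i => ?_)
  show pv 27729856879992518157740382617 (π.1.symm i) = pv 27729856879992518157740382617 i
  simp only [omega_shape, Equiv.symm_apply_eq, h]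

theorem perm_fix_pair {π : ↥M24} (h : π ∈ twoPt) : permHom π • pairElt = pairElt := by
  obtain ⟨h1, h2⟩ := mem_twoPt.1 h
  refine Subtype.ext (funext fun i => ?_)
  show pv kPair (π.1.symm i) = pv kPair i
  simp only [pair_shape, Equiv.symm_apply_eq, h1, h2]

theorem perm_fix_z {π : ↥M24} (h : π ∈ twoPt) : permHom π • twentyPt = twentyPt := by
  obtain ⟨h1, h2⟩ := mem_twoPt.1 h
  refine Subtype.ext (funext fun i => ?_)
  show pv 62062060636173731114942761092 (π.1.symm i) = pv 62062060636173731114942761092 i
  simp only [z_shape, Equiv.symm_apply_eq, h1, h2]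

theorem eight_none_of_five {g : ↥Co0} (h1 : g • fiveElt = fiveElt) (h2 : g • omegaElt = omegaElt) :
    g • eightAt none = eightAt none := by
  rw [five_sub_omega, smul_sub', h1]; exact congrArg (fiveElt - ·) h2

theorem eight_of_pair {g : ↥Co0} (h1 : g • pairElt = pairElt) (h2 : g • twentyPt = twentyPt) :
    g • eightAt none = eightAt none ∧ g • eightAt (some 0) = eightAt (some 0) := by
  refine ⟨?_, by rw [pair_sub_z, smul_sub', h1, h2]⟩
  rw [pair_add_z, show g • (pairElt + twentyPt) = g • pairElt + g • twentyPt from map_add (linOf g) _ _, h1, h2]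

/-- The stabiliser of two vectors is the large Mathieu group's point stabiliser. -/
theorem fix_omega_five : fixGroup [omegaElt, fiveElt] = (stabilizer ↥M24 (none : GolayPt)).map permHom := by
  ext g
  simp only [mem_fixGroup, List.forall_mem_cons, List.not_mem_nil, false_imp_iff, implies_true, and_true,
    Subgroup.mem_map]
  constructor
  · rintro ⟨h2, h1⟩
    obtain ⟨σ, hσ, w, hw, rfl⟩ := mono_of_eight (eight_none_of_five h1 h2)
    obtain ⟨hs, -⟩ := mono_fix hσ hw (eight_none_of_five h1 h2)
    exact ⟨⟨σ, hσ⟩, hs, by rw [permHom_apply, mono_five hσ hw hs h1]⟩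
  · rintro ⟨π, hπ, rfl⟩
    exact ⟨perm_fix_omega hπ, perm_fix_five hπ⟩

/-- The stabiliser of three vectors is a two-point stabiliser. -/
theorem fix_z_five_pair : fixGroup [twentyPt, fiveElt, pairElt] = twoPt.map permHom := by
  ext g
  simp only [mem_fixGroup, List.forall_mem_cons, List.not_mem_nil, false_imp_iff, implies_true, and_true,
    Subgroup.mem_map]
  constructor
  · rintro ⟨h1, h2, h3⟩
    obtain ⟨he, he'⟩ := eight_of_pair h3 h1
    obtain ⟨σ, hσ, w, hw, rfl⟩ := mono_of_eight he
    obtain ⟨hs, -⟩ := mono_fix hσ hw he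
    exact ⟨⟨σ, hσ⟩, ⟨hs, (mono_fix hσ hw he').1⟩, by rw [permHom_apply, mono_five hσ hw hs h2]⟩
  · rintro ⟨π, hπ, rfl⟩
    exact ⟨perm_fix_z hπ, perm_fix_five (mem_twoPt.1 hπ).1, perm_fix_pair hπ⟩

theorem hs_eq_z_sub : hsElt = twentyPt - fiveElt :=
  Subtype.ext (show pv kHs = pv 62062060636173731114942761092 - pv kFive by decide +kernel)

theorem hsPt_eq : hsPt = pairElt := rfl
theorem splitPt_eq : splitPt = pairElt := rfl

theorem fix_hs_point : fixGroup [hsPt, fiveElt, hsElt] = fixGroup [twentyPt, fiveElt, pairElt] := by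
  ext g
  simp only [mem_fixGroup, List.forall_mem_cons, List.not_mem_nil, false_imp_iff, implies_true, and_true, hsPt_eq]
  constructor
  · rintro ⟨h1, h2, h3⟩
    refine ⟨?_, h2, h1⟩
    rw [show twentyPt = fiveElt + hsElt by rw [hs_eq_z_sub, add_sub_cancel],
      show g • (fiveElt + hsElt) = g • fiveElt + g • hsElt from map_add (linOf g) _ _, h2, h3]
  · rintro ⟨h1, h2, h3⟩
    exact ⟨h3, h2, by rw [hs_eq_z_sub, smul_sub', h1, h2]⟩

theorem simple_twentyPt : IsSimpleGroup ↥(fixGroup [twentyPt, fiveElt, pairElt]) := by
  rw [fix_z_five_pair]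
  exact isSimple_congr (twoPt.equivMapOfInjective _ permHom_injective) (M22_isSimple (by simp))

theorem simple_hsPt : IsSimpleGroup ↥(fixGroup [hsPt, fiveElt, hsElt]) := by
  rw [fix_hs_point]; exact simple_twentyPt

theorem simple_omega : IsSimpleGroup ↥(fixGroup [omegaElt, fiveElt]) := by
  rw [fix_omega_five]
  exact isSimple_congr (Subgroup.equivMapOfInjective _ _ permHom_injective) (M23_isSimple none)

theorem fix_congr {f f' : List ↥leechLattice} (h : ∀ v, v ∈ f ↔ v ∈ f') : fixGroup f = fixGroup f' := by
  ext g; simp only [mem_fixGroup, h]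

theorem card_fix_hs : Nat.card ↥(fixGroup [fiveElt, hsElt]) = 44352000 := by
  have h := card_fix (f := [fiveElt]) (ks := [(fiveElt, (-16 : ℤ))]) (r := farPt) (by simp)
    ⟨by decide +kernel, by simp only [List.forall_mem_cons]; exact ⟨by decide +kernel, by simp⟩⟩ far_set.2.1
  rw [card_fix_five, far_set.1] at h
  have hfar : farPt = -(fiveElt + hsElt) := Subtype.ext (show pv kFar = -(pv kFive + pv kHs) from kFar_eq)
  have e : fixGroup [farPt, fiveElt] = fixGroup [fiveElt, hsElt] := by
    ext g
    simp only [mem_fixGroup, List.forall_mem_cons, List.not_mem_nil, false_imp_iff, implies_true, and_true, hfar]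
    rw [smul_neg', neg_inj, show g • (fiveElt + hsElt) = g • fiveElt + g • hsElt from map_add (linOf g) _ _]
    constructor
    · rintro ⟨h1, h2⟩
      rw [h2, add_right_inj] at h1
      exact ⟨h2, h1⟩
    · rintro ⟨h1, h2⟩
      exact ⟨by rw [h1, h2], h1⟩
  rw [e] at h
  omega

theorem card_fix_mcl : Nat.card ↥(fixGroup [fiveElt, pairElt]) = 898128000 := by
  have h := card_fix (f := [fiveElt]) (ks := [(fiveElt, (24 : ℤ))]) (r := splitPt) (by simp)
    ⟨by decide +kernel, by simp only [List.forall_mem_cons]; exact ⟨by decide +kernel, by simp⟩⟩ split_set.2.1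
  rw [card_fix_five, split_set.1, splitPt_eq, fix_congr (f' := [fiveElt, pairElt]) (by simp [or_comm])] at h
  omega

end CfsgLib.Sporadic.Conway
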