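import Cfsg.Agent.Lib.Sporadic.Code

/-!
# Certificates for permutations of the 24 points

`isAut p` decides that the packed number `p` is an element of `Cfsg.M24`; `walk` produces, from a
root and a list of operations, states that all lie in the orbit of the root.
-/

set_option autoImplicit false

namespace CfsgLib.Sporadic

open Cfsg
open scoped Pointwise

theorem Rep.unique {σ τ : Equiv.Perm GolayPt} {p : ℕ} (h : Rep σ p) (h' : Rep τ p) : σ = τ :=
  Equiv.ext fun x => ix_injective ((h x).symm.trans (h' x))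

/-- The packed product `p ∘ q`. -/
noncomputable def pmul (p q : ℕ) : ℕ :=
  Nat.rec 0 (fun i acc => Nat.lor acc (Nat.shiftLeft (pget p (pget q i)) (Nat.mul 5 i))) 24

theorem pget_pmul_aux (f : ℕ → ℕ) (hf : ∀ i, f i < 32) (n i : ℕ) :
    pget (Nat.rec 0 (fun i acc => Nat.lor acc (Nat.shiftLeft (f i) (Nat.mul 5 i))) n : ℕ) i
      = if i < n then f i else 0 := by
  show ((Nat.rec 0 (fun i acc => Nat.lor acc (Nat.shiftLeft (f i) (Nat.mul 5 i))) n : ℕ)
    >>> (5 * i)) &&& 31 = _
  induction n with
  | zero => simp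
  | succ n ih =>
    show ((_ ||| (f n) <<< (5 * n)) >>> (5 * i)) &&& 31 = _
    rw [Nat.shiftRight_or_distrib, Nat.and_or_distrib_right, ih]
    have e31 : (31 : ℕ) = 2 ^ 5 - 1 := rfl
    rw [e31, Nat.and_two_pow_sub_one_eq_mod]
    rcases lt_trichotomy i n with h | rfl | h
    · rw [if_pos h, if_pos (by omega)]
      rw [Nat.shiftLeft_eq, Nat.shiftRight_eq_div_pow,
        show 5 * n = 5 * i + (5 + 5 * (n - i - 1)) by omega, pow_add, pow_add,
        show f n * (2 ^ (5 * i) * (2 ^ 5 * 2 ^ (5 * (n - i - 1)))) =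
          f n * 2 ^ (5 * (n - i - 1)) * 2 ^ 5 * 2 ^ (5 * i) by ring,
        Nat.mul_div_cancel _ (by positivity), Nat.mul_mod_left, Nat.or_zero]
    · rw [if_neg (lt_irrefl _), if_pos (by omega), Nat.shiftLeft_shiftRight, Nat.zero_or,
        Nat.mod_eq_of_lt (hf i)]
    · rw [if_neg (by omega), if_neg (by omega), Nat.zero_or]
      have : (f n <<< (5 * n)) >>> (5 * i) = 0 := by
        rw [Nat.shiftLeft_eq, Nat.shiftRight_eq_div_pow]
        apply Nat.div_eq_of_lt
        calc f n * 2 ^ (5 * n) < 2 ^ 5 * 2 ^ (5 * n) :=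
              Nat.mul_lt_mul_of_pos_right (hf n) (by positivity)
          _ = 2 ^ (5 + 5 * n) := (pow_add 2 5 (5 * n)).symm
          _ ≤ 2 ^ (5 * i) := Nat.pow_le_pow_right (by norm_num) (by omega)
      rw [this]

theorem pget_lt (p i : ℕ) : pget p i < 32 := by
  show _ &&& 31 < 32
  exact lt_of_le_of_lt Nat.and_le_right (by norm_num)

theorem Rep.mul {σ τ : Equiv.Perm GolayPt} {p q : ℕ} (h : Rep σ p) (h' : Rep τ q) :
    Rep (σ * τ) (pmul p q) := fun x => by
  rw [pmul, pget_pmul_aux _ (fun i => pget_lt _ _), if_pos (ix_lt x), h' x, h (τ x)]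
  rfl

/-- The packed form of a permutation. -/
noncomputable def packImage (σ : Equiv.Perm GolayPt) : ℕ :=
  Nat.rec 0 (fun i acc => Nat.lor acc (Nat.shiftLeft (ix (σ (pt i))) (Nat.mul 5 i))) 24

theorem rep_packImage (σ : Equiv.Perm GolayPt) : Rep σ (packImage σ) := fun x => by
  rw [packImage, pget_pmul_aux (fun i => ix (σ (pt i))) (fun i => lt_trans (ix_lt _) (by norm_num)),
    if_pos (ix_lt x), pt_ix]

/-- The packed identity. -/
def pone : ℕ := 984818244535754528103549039458486304

theorem Rep.one : Rep 1 pone := by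
  have : forallLt 24 (fun i => Nat.beq (pget pone i) i) = true := by decide +kernel
  exact fun x => Nat.eq_of_beq_eq_true (forallLt_elim this (ix_lt x))

noncomputable def okPerm (p : ℕ) : Bool :=
  forallLt 24 (fun i => Nat.blt (pget p i) 24) && Nat.beq (mimg p 16777215) 16777215

theorem exists_rep {p : ℕ} (h : okPerm p = true) : ∃ σ : Equiv.Perm GolayPt, Rep σ p := by
  rw [okPerm, Bool.and_eq_true] at h
  have h1 : ∀ i < 24, pget p i < 24 := fun i hi => by
    have := forallLt_elim h.1 hi
    rwa [Nat.blt_eq] at this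
  let f : GolayPt → GolayPt := fun x => pt (pget p (ix x))
  have hsurj : Function.Surjective f := by
    intro y
    have h2 : mimg p 16777215 = 16777215 := Nat.eq_of_beq_eq_true h.2
    have hy : (16777215 : ℕ).testBit (ix y) = true := by
      rw [← maskOf_univ, testBit_maskOf]; simp
    rw [← h2, testBit_mimg] at hy
    obtain ⟨i, hi, -, e⟩ := hy
    exact ⟨pt i, by show pt (pget p (ix (pt i))) = y; rw [ix_pt hi, e, pt_ix]⟩
  refine ⟨Equiv.ofBijective f ((Finite.surjective_iff_bijective).1 hsurj), fun x => ?_⟩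
  show _ = ix (pt (pget p (ix x)))
  rw [ix_pt (h1 _ (ix_lt x))]

theorem mimg_xor {σ : Equiv.Perm GolayPt} {p : ℕ} (h : Rep σ p) (a b : ℕ) :
    mimg p (a ^^^ b) = mimg p a ^^^ mimg p b := by
  refine setOfMask_inj (mimg_lt h _) (Nat.xor_lt_two_pow (mimg_lt h _) (mimg_lt h _)) ?_
  rw [setOfMask_xor, setOfMask_mimg h, setOfMask_mimg h, setOfMask_mimg h, setOfMask_xor,
    Finset.image_symmDiff _ _ σ.injective]

theorem mimg_zero (p : ℕ) : mimg p 0 = 0 :=
  Nat.eq_of_testBit_eq fun j => by
    rw [Nat.zero_testBit, Bool.eq_false_iff, ne_eq, testBit_mimg]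
    simp

theorem mem_M24_iff {σ : Equiv.Perm GolayPt} :
    σ ∈ M24 ↔ ∀ s ∈ supports (golayCode : Set (GolayPt → ZMod 2)),
      σ • s ∈ supports (golayCode : Set (GolayPt → ZMod 2)) := by
  constructor
  · intro h s hs
    have h' : σ • supports (golayCode : Set (GolayPt → ZMod 2)) = supports ↑golayCode := h
    exact h' ▸ Set.smul_mem_smul_set hs
  · intro h
    show σ • supports (golayCode : Set (GolayPt → ZMod 2)) = supports ↑golayCode
    refine Set.eq_of_subset_of_ncard_le ?_ ?_ (Set.toFinite _)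
    · rintro x ⟨s, hs, rfl⟩; exact h s hs
    · rw [← Set.image_smul, Set.ncard_image_of_injective _ (MulAction.injective σ)]

theorem mem_M24_of_rep {σ : Equiv.Perm GolayPt} {p : ℕ} (h : Rep σ p)
    (hb : forallLt 12 (fun i => inCode (mimg p (basisMask i))) = true) : σ ∈ M24 := by
  have key : ∀ k n, n ≤ 12 → inCode (mimg p (xorComb basisMask k n)) = true := by
    intro k n hn
    induction n with
    | zero =>
      show inCode (mimg p 0) = true
      rw [mimg_zero]; decide +kernel
    | succ n ih =>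
      rw [xorComb_succ, mimg_xor h]
      refine inCode_xor (ih (by omega)) ?_
      rw [bitAt_eq]
      split
      · rw [one_mul]; exact forallLt_elim hb (by omega)
      · rw [zero_mul, mimg_zero]; decide +kernel
  rw [mem_M24_iff]
  intro s hs
  rw [mem_supports_iff] at hs ⊢
  obtain ⟨k, -, e⟩ := inCode_iff.1 hs
  rw [maskOf_smul h, ← e]
  exact key k 12 le_rfl

/-- `p` is an element of `M24`. -/
noncomputable def isAut (p : ℕ) : Bool :=
  okPerm p && forallLt 12 (fun i => inCode (mimg p (basisMask i)))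

theorem exists_mem_M24 {p : ℕ} (h : isAut p = true) : ∃ σ ∈ M24, Rep σ p := by
  rw [isAut, Bool.and_eq_true] at h
  obtain ⟨σ, hσ⟩ := exists_rep h.1
  exact ⟨σ, mem_M24_of_rep hσ h.2, hσ⟩

theorem exists_M24_elt {p : ℕ} (h : isAut p = true) : ∃ g : M24, Rep (g : Equiv.Perm GolayPt) p := by
  obtain ⟨σ, hσ, hr⟩ := exists_mem_M24 h
  exact ⟨⟨σ, hσ⟩, hr⟩

theorem smul_mem_supports {σ : Equiv.Perm GolayPt} (hσ : σ ∈ M24) {s : Finset GolayPt} :
    σ • s ∈ supports (golayCode : Set (GolayPt → ZMod 2)) ↔
      s ∈ supports (golayCode : Set (GolayPt → ZMod 2)) := by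
  refine ⟨fun h => ?_, fun h => mem_M24_iff.1 hσ s h⟩
  have := mem_M24_iff.1 (inv_mem hσ) _ h
  rwa [inv_smul_smul] at this

theorem smul_mem_wordsOfWeight {σ : Equiv.Perm GolayPt} (hσ : σ ∈ M24) {s : Finset GolayPt}
    {n : ℕ} : σ • s ∈ wordsOfWeight (golayCode : Set (GolayPt → ZMod 2)) n ↔
      s ∈ wordsOfWeight (golayCode : Set (GolayPt → ZMod 2)) n := by
  show _ ∧ _ ↔ _ ∧ _
  rw [smul_mem_supports hσ, Finset.card_smul_finset]

/-! ### orbits from operations -/

/-- Depth first walk: the operation `0` pops, `j + 1` pushes the image of the top under the `j`-th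
generator.  All pushed states are returned. -/
noncomputable def walkAux {β : Type} (step : β → ℕ → β) (ops : List ℕ) :
    β → List β → List β → List β :=
  List.rec (fun _ _ acc => acc)
    (fun op _ ih top stack acc =>
      Nat.rec (List.rec (ih top [] acc) (fun t ts _ => ih t ts acc) stack)
        (fun j _ => ih (step top j) (top :: stack) (step top j :: acc)) op) ops

noncomputable def walk {β : Type} (step : β → ℕ → β) (ops : List ℕ) (root : β) : List β :=
  walkAux step ops root [] [root]

theorem walkAux_mem {β : Type} {step : β → ℕ → β} {P : β → Prop}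
    (hP : ∀ v j, P v → P (step v j)) (ops : List ℕ) :
    ∀ top stack acc, P top → (∀ v ∈ stack, P v) → (∀ v ∈ acc, P v) →
      ∀ v ∈ walkAux step ops top stack acc, P v := by
  induction ops with
  | nil => exact fun _ _ _ _ _ h => h
  | cons op ops ih =>
    intro top stack acc h1 h2 h3
    cases op with
    | zero =>
      cases stack with
      | nil => exact ih top [] acc h1 h2 h3
      | cons t ts => exact ih t ts acc (h2 t (by simp)) (fun v hv => h2 v (by simp [hv])) h3
    | succ j =>
      exact ih _ _ _ (hP top j h1)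
        (fun v hv => by rcases List.mem_cons.1 hv with rfl | hv <;> [exact h1; exact h2 v hv])
        (fun v hv => by
          rcases List.mem_cons.1 hv with rfl | hv <;> [exact hP top j h1; exact h3 v hv])

theorem walk_mem {β : Type} {step : β → ℕ → β} {P : β → Prop} (hP : ∀ v j, P v → P (step v j))
    {ops : List ℕ} {root : β} (hr : P root) : ∀ v ∈ walk step ops root, P v :=
  walkAux_mem hP ops root [] [root] hr (by simp) (by simpa using hr)

/-- The set of the codes `code v`, as a bit mask. -/
noncomputable def bitmap {β : Type} (code : β → ℕ) (l : List β) : ℕ :=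
  List.rec 0 (fun v _ ih => Nat.lor ih (Nat.shiftLeft 1 (code v))) l

theorem testBit_bitmap {β : Type} (code : β → ℕ) (l : List β) (j : ℕ) :
    (bitmap code l).testBit j = true ↔ ∃ v ∈ l, code v = j := by
  induction l with
  | nil => simp [bitmap]
  | cons v l ih =>
    show (bitmap code l ||| 1 <<< code v).testBit j = true ↔ _
    rw [Nat.testBit_or, Bool.or_eq_true, ih, Nat.one_shiftLeft, Nat.testBit_two_pow]
    simp [or_comm]

/-- The indices below `n` at which `f` holds, as a bit mask. -/
noncomputable def maskLt (n : ℕ) (f : ℕ → Bool) : ℕ :=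
  Nat.rec 0 (fun k ih => Nat.lor ih (Nat.shiftLeft (cond (f k) 1 0) k)) n

theorem testBit_maskLt (n : ℕ) (f : ℕ → Bool) (j : ℕ) :
    (maskLt n f).testBit j = true ↔ j < n ∧ f j = true := by
  induction n with
  | zero => simp [maskLt]
  | succ n ih =>
    show (maskLt n f ||| (cond (f n) 1 0) <<< n).testBit j = true ↔ _
    rw [Nat.testBit_or, Bool.or_eq_true, ih]
    cases hn : f n
    · simp only [cond_false, Nat.zero_shiftLeft, Nat.zero_testBit]
      constructor
      · rintro (⟨h1, h2⟩ | h)
        · exact ⟨by omega, h2⟩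
        · simp at h
      · rintro ⟨h1, h2⟩
        rcases Nat.lt_succ_iff_lt_or_eq.1 h1 with h | rfl
        · exact Or.inl ⟨h, h2⟩
        · simp [hn] at h2
    · simp only [cond_true, Nat.one_shiftLeft, Nat.testBit_two_pow, decide_eq_true_eq]
      constructor
      · rintro (⟨h1, h2⟩ | rfl)
        · exact ⟨by omega, h2⟩
        · exact ⟨by omega, hn⟩
      · rintro ⟨h1, h2⟩
        rcases Nat.lt_succ_iff_lt_or_eq.1 h1 with h | rfl
        · exact Or.inl ⟨h, h2⟩
        · exact Or.inr rfl

/-- Every code word satisfying `f` occurs among `l`, provided the two bit maps agree. -/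
theorem mem_of_bitmap {f : ℕ → Bool} {l : List ℕ}
    (h : bitmap (fun m => Nat.land m 4095) l = maskLt 4096 (fun k => f (enc k)))
    (hl : ∀ v ∈ l, inCode v = true) {m : ℕ} (hm : inCode m = true) (hf : f m = true) : m ∈ l := by
  obtain ⟨k, hk, e⟩ := inCode_iff.1 hm
  have : (bitmap (fun m => Nat.land m 4095) l).testBit k = true := by
    rw [h, testBit_maskLt, e]; exact ⟨hk, hf⟩
  rw [testBit_bitmap] at this
  obtain ⟨v, hv, hvk⟩ := this
  obtain ⟨k', hk', e'⟩ := inCode_iff.1 (hl v hv)
  have hvk' : v &&& 4095 = k := hvk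
  rw [← e', enc_land hk'] at hvk'
  rwa [← e, ← hvk', e']

/-! ### orders from orbits -/

theorem card_eq_orbit_mul {G β : Type*} [Group G] [MulAction G β] (H : Subgroup G) (a : β)
    (O : Set β) (h1 : ∀ g ∈ H, g • a ∈ O) (h2 : ∀ x ∈ O, ∃ g ∈ H, g • a = x) :
    Nat.card H = O.ncard * Nat.card ↥(H ⊓ MulAction.stabilizer G a) := by
  have hO : MulAction.orbit H a = O := by
    ext x
    constructor
    · rintro ⟨g, rfl⟩; exact h1 _ g.2
    · intro hx
      obtain ⟨g, hg, rfl⟩ := h2 x hx
      exact ⟨⟨g, hg⟩, rfl⟩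
  have hs : MulAction.stabilizer H a = (MulAction.stabilizer G a).subgroupOf H := by
    ext g; rfl
  rw [← hO, ← MulAction.index_stabilizer, ← (MulAction.stabilizer H a).card_mul_index, mul_comm]
  congr 1
  rw [hs, ← Subgroup.inf_subgroupOf_left]
  exact Nat.card_congr (Subgroup.subgroupOfEquivOfLe inf_le_left).toEquiv

end CfsgLib.Sporadic
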