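import Mathlib
import Cfsg.Prelude.Def_KGroupFacts
import Cfsg.Agent.Lib.Schur.CosetBound
import Cfsg.Agent.Lib.Sporadic.M24

/-!
# Multiplier bounds for subgroups of M24 from chains of coset tables
-/

set_option autoImplicit false

namespace CfsgLib.Sporadic

open Cfsg CfsgLib.Schur.Cert

/-- one level of a chain -/
structure ChainLevel where
  /-- the table -/
  table : Table
  /-- exponents of the generators -/
  gexp : List Vec
  /-- packed generators -/
  perm : List ℕ
  /-- packed inverses -/
  pinv : List ℕ
  /-- the generators of the next level as words -/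
  defs : List Word
  /-- equations: relation, vertex, vector -/
  eqs : List (ℕ × ℕ × Vec)
  /-- points that separate the cosets -/
  pts : List ℕ

/-- number of normal forms -/
def chainSize : List ChainLevel → ℕ
  | [] => 1
  | l :: ls => l.table.size * chainSize ls

/-- the machine of a chain -/
def chainMachine : List ChainLevel → Machine
  | [] => fun _ _ => (0, [])
  | l :: ls => l.table.machine (chainMachine ls)

/-- number of generators of the first level -/
def chainGen : List ChainLevel → ℕ
  | [] => 0
  | l :: _ => l.table.ngen

/-- exponents of the generators of the first level -/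
def chainExp : List ChainLevel → List Vec
  | [] => []
  | l :: _ => l.gexp

/-- the generators of the next level in the top generators -/
def nextWords (h : List Word) (l : ChainLevel) : List Word := l.defs.map (wsub fun j => h.getD j [])

/-- all relations in the top generators -/
def chainRels : List ChainLevel → List Word → List Word
  | [], _ => []
  | l :: ls, h => chainRels ls (nextWords h l) ++
      ((l.table.rels.filter fun r => r.rhs.isEmpty).map fun r => wsub (fun j => h.getD j []) r.word)

/-- all equations -/
def chainEqns : List ChainLevel → List Vec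
  | [] => []
  | l :: ls => l.eqs.map (fun e => e.2.2) ++ chainEqns ls

/-- one level is valid, apart from deductions and equations -/
def shapeOK (rels : List Word) (rows : List Vec) (l : ChainLevel) (ls : List ChainLevel) (h : List Word) : Bool :=
  let g := nextWords h l
  decide (l.table.ngen = h.length) && (l.gexp == h.map (wexp vunit)) && decide (l.table.innerSize = chainSize ls) &&
    decide (l.table.innerGen = chainGen ls) && decide (g.length = chainGen ls) && l.table.baseOK &&
    (l.table.rels.all fun r => relTop rels (fun j => h.getD j []) (fun j => g.getD j []) r) &&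
    ((List.range l.table.size).all fun v => (List.range l.table.ngen).all fun x =>
      l.table.edgeOK (fun j => l.gexp.getD j []) (fun j => (chainExp ls).getD j []) rows v x)

/-- the deductions of one level -/
def dedsOK (l : ChainLevel) (ls : List ChainLevel) : Bool :=
  (List.range l.table.nded).all fun i => l.table.dedOK (chainMachine ls) i

/-- an equation of one level -/
def eqnOK (l : ChainLevel) (ls : List ChainLevel) (i : ℕ) : Bool :=
  let e := l.eqs.getD i (0, 0, [])
  l.table.eqOK (chainMachine ls) e.1 e.2.1 && veq (l.table.eqn (chainMachine ls) e.1 e.2.1) e.2.2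

/-- the equations of one level -/
def eqnsOK (l : ChainLevel) (ls : List ChainLevel) : Bool := (List.range l.eqs.length).all (eqnOK l ls)

/-- the tables are valid -/
def tablesOK (rels : List Word) (rows : List Vec) : List ChainLevel → List Word → Bool
  | [], h => h.isEmpty
  | l :: ls, h =>
    shapeOK rels rows l ls h && dedsOK l ls && eqnsOK l ls && tablesOK rels rows ls (nextWords h l)

section Sound

variable {Γ : Type*} [Group Γ] {G : Type*} [Group G] {σ : Γ →* G} {a : ℕ → G}

theorem chain_sound {rels : List Word} (F : Frame σ a rels) : ∀ (ls : List ChainLevel) (h : List Word),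
    tablesOK rels (relRows rels) ls h = true →
    Sound F.E (relRows rels) (fun j => wval F.b (h.getD j [])) (chainGen ls) (fun j => (chainExp ls).getD j [])
        (chainSize ls) (chainMachine ls) ∧ ∀ e ∈ chainEqns ls, F.E e = 1
  | [], h, _ => ⟨sound_trivial F.E _ _ _, by simp [chainEqns]⟩
  | l :: ls, h, hok => by
    simp only [tablesOK, shapeOK, dedsOK, eqnsOK, eqnOK, Bool.and_eq_true, decide_eq_true_eq, List.all_eq_true,
      List.mem_range] at hok
    obtain ⟨⟨⟨⟨⟨⟨⟨⟨⟨⟨-, -⟩, hsz⟩, hgn⟩, -⟩, hbase⟩, hrels⟩, hedge⟩, hded⟩, heq⟩, hnext⟩ := hok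
    obtain ⟨hS, hE⟩ := chain_sound F ls (nextWords h l) hnext
    have heq' : ∀ e ∈ l.eqs, l.table.eqOK (chainMachine ls) e.1 e.2.1 = true ∧
        veq (l.table.eqn (chainMachine ls) e.1 e.2.1) e.2.2 = true := fun e he => by
      obtain ⟨i, hi, rfl⟩ := List.getElem_of_mem he
      have := heq i hi
      rwa [List.getD_eq_getElem _ _ hi] at this
    rw [← hsz, ← hgn] at hS
    obtain ⟨h1, h2⟩ := Table.sound F.central hS hbase (fun r hr => relTop_spec F (hrels r hr))
      (fun g hg x hx => hedge g hg x hx) (fun i hi => hded i hi)
    refine ⟨by rw [show chainSize (l :: ls) = l.table.size * l.table.innerSize by rw [chainSize, hsz]]; exact h1,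
      fun e he => ?_⟩
    simp only [chainEqns, List.mem_append, List.mem_map] at he
    rcases he with ⟨e', he', rfl⟩ | he
    · rw [← F.central.veq _ _ (heq' e' he').2]
      exact h2 _ _ (heq' e' he').1
    · exact hE e he

end Sound

/-- the image of a point under a word in packed permutations -/
noncomputable def wordImg (P Pi : List ℕ) (w : Word) (x : ℕ) : ℕ :=
  w.foldr (fun l y => pget (bif l.2 then P.getD l.1 0 else Pi.getD l.1 0) y) x

/-- a word from the root to a vertex -/
def treePath (T : Table) : ℕ → ℕ → Word
  | 0, _ => []
  | n + 1, v => bif v == 0 then [] else treePath T n (T.tree v).1 ++ [((T.tree v).2, true)]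

/-- the images of the separating points under the representative of a coset -/
noncomputable def cosetImage (l : ChainLevel) (v : ℕ) : List ℕ :=
  let w := winv (treePath l.table l.table.size v)
  l.pts.map fun p => wordImg l.perm l.pinv w p

/-- generators of the first level -/
def chainPerm : List ChainLevel → List ℕ
  | [] => []
  | l :: _ => l.perm

/-- the permutations are valid -/
noncomputable def permsOK : List ChainLevel → Bool
  | [] => true
  | l :: ls =>
    decide (l.perm.length = l.table.ngen) && decide (l.pinv.length = l.table.ngen) &&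
      decide (l.defs.length = (chainPerm ls).length) &&
      (l.pts.all fun p => decide (p < 24)) &&
      ((List.range l.table.ngen).all fun j =>
        forallLt 24 fun x => Nat.beq (pget (l.pinv.getD j 0) (pget (l.perm.getD j 0) x)) x) &&
      ((List.range l.defs.length).all fun j => ((l.defs.getD j []).all fun m => decide (m.1 < l.table.ngen)) &&
        forallLt 24 fun x => Nat.beq (wordImg l.perm l.pinv (l.defs.getD j []) x) (pget ((chainPerm ls).getD j 0) x)) &&
      (l.table.rels.all fun r => !r.rhs.isEmpty || ((r.word.all fun m => decide (m.1 < l.table.ngen)) &&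
        [23, 0, 1, 2, 3, 5, 4].all fun x => Nat.beq (wordImg l.perm l.pinv r.word x) x)) &&
      ((List.range l.table.size).all fun v => (treePath l.table l.table.size v).all fun m => decide (m.1 < l.table.ngen)) &&
      (((List.range l.table.size).map (cosetImage l)).Nodup) &&
      ((chainPerm ls).all fun p => l.pts.all fun x => Nat.beq (pget p x) x) && permsOK ls

section Perms

variable {G : Subgroup (Equiv.Perm GolayPt)}

theorem Rep.inv' {σ : Equiv.Perm GolayPt} {p q : ℕ} (h : Rep σ p)
    (hq : forallLt 24 (fun x => Nat.beq (pget q (pget p x)) x) = true) : Rep σ⁻¹ q := fun x => by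
  have := Nat.eq_of_beq_eq_true (forallLt_elim hq (ix_lt (σ⁻¹ x)))
  rw [h] at this
  simpa using this

theorem wordImg_spec {b : ℕ → G} {P Pi : List ℕ} {m : ℕ}
    (hb : ∀ j < m, Rep ((b j : G) : Equiv.Perm GolayPt) (P.getD j 0))
    (hbi : ∀ j < m, Rep (((b j : G) : Equiv.Perm GolayPt))⁻¹ (Pi.getD j 0)) :
    ∀ (w : Word), (∀ l ∈ w, l.1 < m) → ∀ x : GolayPt,
      wordImg P Pi w (ix x) = ix (((wval b w : G) : Equiv.Perm GolayPt) x)
  | [], _, x => rfl
  | l :: w, hw, x => by
    have ih := wordImg_spec hb hbi w (fun y hy => hw y (List.mem_cons_of_mem _ hy)) x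
    show pget _ (wordImg P Pi w (ix x)) = _
    rw [ih, wval_cons, Subgroup.coe_mul, Equiv.Perm.mul_apply]
    have hl := hw l List.mem_cons_self
    obtain ⟨j, s⟩ := l
    cases s
    · simp only [cond_false, lett, Subgroup.coe_inv]; exact hbi j hl _
    · simp only [cond_true, lett]; exact hb j hl _

theorem chain_perms (hG : G ≤ M24) (a : ℕ → G) : ∀ (ls : List ChainLevel) (h : List Word),
    permsOK ls = true → (chainPerm ls).length = h.length →
    (∀ j < h.length, Rep ((wval a (h.getD j []) : G) : Equiv.Perm GolayPt) ((chainPerm ls).getD j 0)) →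
    (∀ w ∈ chainRels ls h, wval a w = 1) ∧
      chainSize ls ≤ Nat.card (Subgroup.closure ((fun j => wval a (h.getD j [])) '' Set.Iio h.length))
  | [], h, _, _, _ => ⟨by simp [chainRels], by
      rw [chainSize]; exact Nat.one_le_iff_ne_zero.mpr Nat.card_pos.ne'⟩
  | l :: ls, h, hok, hlen, hrep => by
    classical
    simp only [permsOK, Bool.and_eq_true, decide_eq_true_eq, List.all_eq_true, List.mem_range, Bool.or_eq_true,
      Bool.not_eq_true', Nat.beq_eq] at hok
    obtain ⟨⟨⟨⟨⟨⟨⟨⟨⟨⟨hpl, -⟩, hdl⟩, hpts⟩, hinv⟩, hdefs⟩, hrels⟩, hpath⟩, hnd⟩, hfix⟩, hnext⟩ := hok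
    simp only [chainPerm] at hlen hrep
    rw [← hlen, hpl] at hrep
    let b : ℕ → G := fun j => wval a (h.getD j [])
    have hbi : ∀ j < l.table.ngen, Rep (((b j : G) : Equiv.Perm GolayPt))⁻¹ (l.pinv.getD j 0) :=
      fun j hj => Rep.inv' (hrep j hj) (hinv j hj)
    have hspec := wordImg_spec (b := b) hrep hbi
    have hnl : (nextWords h l).length = (chainPerm ls).length := by rw [nextWords, List.length_map, hdl]
    have hword : ∀ j < (nextWords h l).length,
        wval a ((nextWords h l).getD j []) = wval b (l.defs.getD j []) := fun j hj => by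
      rw [nextWords, List.length_map] at hj
      rw [nextWords, List.getD_eq_getElem _ _ (by simpa using hj), List.getElem_map, wval_wsub,
        List.getD_eq_getElem _ _ hj]
    have hrep' : ∀ j < (nextWords h l).length,
        Rep ((wval a ((nextWords h l).getD j []) : G) : Equiv.Perm GolayPt) ((chainPerm ls).getD j 0) := fun j hj x => by
      have hj' : j < l.defs.length := by rw [hdl, ← hnl]; exact hj
      have hd := hdefs j hj'
      have := Nat.eq_of_beq_eq_true (forallLt_elim hd.2 (ix_lt x))
      rw [hspec _ (fun y hy => hd.1 y hy) x] at this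
      rw [hword j hj]
      exact this.symm
    obtain ⟨ih1, ih2⟩ := chain_perms hG a ls (nextWords h l) hnext hnl.symm hrep'
    refine ⟨fun w hw => ?_, ?_⟩
    · simp only [chainRels, List.mem_append, List.mem_map, List.mem_filter, List.isEmpty_iff] at hw
      rcases hw with hw | ⟨r, ⟨hr, hre⟩, rfl⟩
      · exact ih1 w hw
      · rw [wval_wsub]
        rcases hrels r hr with hne | ⟨hv, hx⟩
        · rw [hre] at hne; simp at hne
        refine Subtype.ext (eq_one_of_fix_base (hG (wval b r.word).2) fun i hi => ?_)
        have h24 : i < 24 := by revert hi; revert i; decide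
        have := hspec r.word hv (pt i)
        rw [ix_pt h24, hx i hi] at this
        exact ix_injective (by rw [← this, ix_pt h24])
    · let K := Subgroup.closure ((fun j => wval a (h.getD j [])) '' Set.Iio h.length)
      let K' := Subgroup.closure ((fun j => wval a ((nextWords h l).getD j [])) '' Set.Iio (nextWords h l).length)
      have hmemW : ∀ w : Word, (∀ y ∈ w, y.1 < l.table.ngen) → wval b w ∈ K := by
        intro w
        induction w with
        | nil => intro _; exact one_mem _
        | cons y w ih =>
          intro hw
          rw [wval_cons]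
          refine mul_mem ?_ (ih fun z hz => hw z (List.mem_cons_of_mem _ hz))
          have hy : b y.1 ∈ K := Subgroup.subset_closure ⟨y.1, by
            show y.1 < h.length; rw [← hlen, hpl]; exact hw y List.mem_cons_self, rfl⟩
          obtain ⟨j, s⟩ := y
          cases s
          · exact inv_mem hy
          · exact hy
      have hK' : K' ≤ K := by
        rw [Subgroup.closure_le]
        rintro _ ⟨j, hj, rfl⟩
        show wval a _ ∈ K
        rw [hword j hj]
        exact hmemW _ fun y hy => (hdefs j (by rw [hdl, ← hnl]; exact hj)).1 y hy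
      have hKfix : ∀ k ∈ K', ∀ p ∈ l.pts, ((k : G) : Equiv.Perm GolayPt) (pt p) = pt p := by
        intro k hk p hp
        induction hk using Subgroup.closure_induction with
        | mem y hy =>
          obtain ⟨j, hj, rfl⟩ := hy
          have hj' : j < (chainPerm ls).length := by rw [← hnl]; exact hj
          apply ix_injective
          rw [← hrep' j hj, List.getD_eq_getElem _ _ hj', ix_pt (hpts p hp)]
          exact hfix _ (List.getElem_mem hj') p hp
        | one => rfl
        | mul y z _ _ hy hz => rw [Subgroup.coe_mul, Equiv.Perm.mul_apply, hz, hy]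
        | inv y _ hy => rw [Subgroup.coe_inv, Equiv.Perm.inv_eq_iff_eq, hy]
      let W : ℕ → Word := fun v => winv (treePath l.table l.table.size v)
      have hW : ∀ v < l.table.size, ∀ y ∈ W v, y.1 < l.table.ngen := fun v hv y hy => by
        simp only [W, winv, List.mem_map, List.mem_reverse] at hy
        obtain ⟨y', hy', rfl⟩ := hy
        exact hpath v hv y' hy'
      let φ : Fin l.table.size × K' → K := fun e =>
        ⟨wval b (W e.1.1) * (e.2 : G), mul_mem (hmemW _ (hW _ e.1.2)) (hK' e.2.2)⟩
      have hinj : Function.Injective φ := by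
        rintro ⟨v, k⟩ ⟨v', k'⟩ e
        have e' : wval b (W v.1) * (k : G) = wval b (W v'.1) * (k' : G) := congrArg Subtype.val e
        have himg : cosetImage l v.1 = cosetImage l v'.1 := by
          simp only [cosetImage]
          refine List.map_congr_left fun p hp => ?_
          rw [← ix_pt (hpts p hp), hspec _ (hW _ v.2), hspec _ (hW _ v'.2)]
          have := congrArg (fun g : G => (g : Equiv.Perm GolayPt) (pt p)) e'
          simp only [Subgroup.coe_mul, Equiv.Perm.mul_apply, hKfix _ k.2 p hp, hKfix _ k'.2 p hp] at this
          rw [this]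
        have hv : v = v' := Fin.ext ((List.inj_on_of_nodup_map hnd (List.mem_range.mpr v.2) (List.mem_range.mpr v'.2)) himg)
        subst hv
        exact Prod.ext rfl (Subtype.ext (mul_left_cancel e'))
      have hle := Nat.card_le_card_of_injective φ hinj
      rw [Nat.card_prod, Nat.card_fin] at hle
      rw [chainSize]
      exact (Nat.mul_le_mul_left _ ih2).trans hle

/-- a stem extension of a group with a valid chain has small kernel -/
theorem card_ker_le_of_chain (hG : G ≤ M24) (ls : List ChainLevel) (C : LinCert) (rows : List Vec) (m : ℕ)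
    (hgenMem : ∀ j < m, ∃ g : G, Rep ((g : G) : Equiv.Perm GolayPt) ((chainPerm ls).getD j 0))
    (hlen : (chainPerm ls).length = m) (hgenlen : chainGen ls = m) (hperm : permsOK ls = true)
    (hrows : rows = relRows (chainRels ls ((List.range m).map fun j => [(j, true)])))
    (htab : tablesOK (chainRels ls ((List.range m).map fun j => [(j, true)])) rows ls
      ((List.range m).map fun j => [(j, true)]) = true)
    (hexp : chainExp ls = (List.range m).map fun j => wexp vunit [(j, true)])
    (hcard : Nat.card G = chainSize ls) (hlin : C.ok rows m (chainEqns ls) = true)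
    {Γ : Type*} [Group Γ] [Finite Γ] (σ : Γ →* G) (hσ : Cfsg.IsStemExtension σ) : Nat.card σ.ker ≤ C.bound := by
  classical
  set top : List Word := (List.range m).map fun j => [(j, true)] with htop
  let a : ℕ → G := fun j => if h : j < m then (hgenMem j h).choose else 1
  have htopget : ∀ j < m, top.getD j [] = [(j, true)] := fun j hj => by
    rw [htop, List.getD_eq_getElem _ _ (by simpa using hj)]; simp
  have hb : ∀ (j : ℕ), j < m → wval a (top.getD j []) = a j := fun j hj => by
    rw [htopget j hj]; simp [wval, lett]
  have htl : top.length = m := by simp [htop]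
  obtain ⟨hrels, hsize⟩ := chain_perms hG a ls top hperm (by rw [hlen, htl]) fun j hj => by
    rw [htl] at hj
    rw [hb j hj]
    simp only [a, dif_pos hj]
    exact (hgenMem j hj).choose_spec
  have hgen : Subgroup.closure (a '' Set.Iio m) = ⊤ := by
    refine Subgroup.eq_top_of_le_card _ ?_
    rw [hcard]
    have : (fun j => wval a (top.getD j [])) '' Set.Iio top.length = a '' Set.Iio m := by
      rw [htl]; exact Set.image_congr fun j hj => hb j hj
    rwa [this] at hsize
  subst hrows
  obtain ⟨F⟩ := exists_frame σ hσ.1 hσ.2.1 a _ hrels
  obtain ⟨hS, hE⟩ := chain_sound F ls top htab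
  refine card_ker_le hσ.1 hσ.2.1 hσ.2.2 F hgen hcard (f := chainMachine ls) ?_ C _ hlin hE
  rw [hgenlen] at hS
  obtain ⟨elt, pot, hN, he, hp, hstep⟩ := hS
  refine ⟨elt, pot, hN, he, hp, fun i hi l hl => ?_⟩
  obtain ⟨h1, h2, h3⟩ := hstep i hi l hl
  have hwl : wval F.b (top.getD l.1 []) = F.b l.1 := by rw [htopget _ hl]; simp [wval, lett]
  refine ⟨h1, by simpa only [lett, hwl] using h2, fun j => ?_⟩
  have := h3 j
  simp only [hexp] at this
  obtain ⟨x, s⟩ := l
  rw [show cf (wexp (fun j => ((List.range m).map fun j => wexp vunit [(j, true)]).getD j []) [(x, s)]) j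
    = cf (wexp vunit [(x, s)]) j by
      simp only [wexp]
      rw [List.getD_eq_getElem _ _ (by simpa using hl)]
      cases s <;> simp [cf_vadd, cf_vneg, cf_nil]] at this
  exact this

end Perms

end CfsgLib.Sporadic
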