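import Mathlib
import Cfsg.Prelude.Def_Sporadic_a

/-!
# Computing with the 24 points as bit masks, for evaluation in the kernel

Points are numbered `0..22` (residues) and `23` (the extra point); a set of points is the bit mask
`< 2 ^ 24`, a permutation is 24 images packed five bits each.  The functions below use only
`Nat.rec` and the accelerated operations on `Nat`, so that `decide +kernel` is fast.
-/

set_option autoImplicit false

namespace CfsgLib.Sporadic

open Cfsg

/-! ### loops -/

noncomputable def forallLt (n : ℕ) (f : ℕ → Bool) : Bool :=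
  Nat.rec true (fun k ih => f k && ih) n

noncomputable def countLt (n : ℕ) (f : ℕ → Bool) : ℕ :=
  Nat.rec 0 (fun k ih => Nat.add (cond (f k) 1 0) ih) n

theorem forallLt_succ (n : ℕ) (f : ℕ → Bool) : forallLt (n + 1) f = (f n && forallLt n f) := rfl

theorem forallLt_iff (n : ℕ) (f : ℕ → Bool) : forallLt n f = true ↔ ∀ k < n, f k = true := by
  induction n with
  | zero => simp [forallLt]
  | succ n ih =>
    rw [forallLt_succ, Bool.and_eq_true, ih]
    constructor
    · rintro ⟨h1, h2⟩ k hk
      rcases Nat.lt_succ_iff_lt_or_eq.1 hk with hk | rfl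
      · exact h2 k hk
      · exact h1
    · exact fun h => ⟨h n (by omega), fun k hk => h k (by omega)⟩

theorem forallLt_elim {n : ℕ} {f : ℕ → Bool} (h : forallLt n f = true) {k : ℕ} (hk : k < n) :
    f k = true := (forallLt_iff n f).1 h k hk

theorem countLt_eq (n : ℕ) (f : ℕ → Bool) :
    countLt n f = ((Finset.range n).filter fun k => f k = true).card := by
  induction n with
  | zero => simp [countLt]
  | succ n ih =>
    have h : countLt (n + 1) f = cond (f n) 1 0 + countLt n f := rfl
    rw [h, ih, Finset.range_add_one, Finset.filter_insert]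
    cases f n <;> simp [add_comm]

/-! ### points -/

/-- The number of a point. -/
def ix : GolayPt → ℕ
  | none => 23
  | some x => x.val

/-- The point with a given number. -/
def pt (i : ℕ) : GolayPt := if i < 23 then some (i : ZMod 23) else none

theorem ix_lt : ∀ x, ix x < 24 := by decide
theorem pt_ix : ∀ x, pt (ix x) = x := by decide
theorem ix_pt {i : ℕ} (hi : i < 24) : ix (pt i) = i := by
  revert i; decide
theorem ix_injective : Function.Injective ix := fun x y h => by rw [← pt_ix x, h, pt_ix]
theorem ix_inj {x y : GolayPt} : ix x = ix y ↔ x = y := ix_injective.eq_iff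

theorem image_ix_univ : (Finset.univ : Finset GolayPt).image ix = Finset.range 24 := by decide

/-! ### masks -/

/-- The set of points of a mask. -/
def setOfMask (m : ℕ) : Finset GolayPt := Finset.univ.filter fun x => m.testBit (ix x)

/-- The mask of a set of points. -/
def maskOf (s : Finset GolayPt) : ℕ := Nat.ofBits fun i : Fin 24 => decide (pt i ∈ s)

@[simp] theorem mem_setOfMask {m : ℕ} {x : GolayPt} : x ∈ setOfMask m ↔ m.testBit (ix x) := by
  simp [setOfMask]

theorem maskOf_lt (s : Finset GolayPt) : maskOf s < 2 ^ 24 := Nat.ofBits_lt_two_pow _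

@[simp] theorem testBit_maskOf (s : Finset GolayPt) (x : GolayPt) :
    (maskOf s).testBit (ix x) = decide (x ∈ s) := by
  rw [maskOf, Nat.testBit_ofBits_lt _ _ (ix_lt x)]
  simp [pt_ix]

@[simp] theorem setOfMask_maskOf (s : Finset GolayPt) : setOfMask (maskOf s) = s := by
  ext x; simp

theorem maskOf_injective : Function.Injective maskOf :=
  Function.LeftInverse.injective setOfMask_maskOf

theorem mask_ext {a b : ℕ} (ha : a < 2 ^ 24) (hb : b < 2 ^ 24)
    (h : ∀ x, a.testBit (ix x) = b.testBit (ix x)) : a = b := by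
  refine Nat.eq_of_testBit_eq fun i => ?_
  by_cases hi : i < 24
  · simpa [ix_pt hi] using h (pt i)
  · have : 2 ^ 24 ≤ 2 ^ i := Nat.pow_le_pow_right (by norm_num) (by omega)
    rw [Nat.testBit_lt_two_pow (by omega), Nat.testBit_lt_two_pow (by omega)]

theorem maskOf_setOfMask {m : ℕ} (hm : m < 2 ^ 24) : maskOf (setOfMask m) = m :=
  mask_ext (maskOf_lt _) hm fun x => by simp

theorem setOfMask_inj {a b : ℕ} (ha : a < 2 ^ 24) (hb : b < 2 ^ 24)
    (h : setOfMask a = setOfMask b) : a = b := by
  rw [← maskOf_setOfMask ha, h, maskOf_setOfMask hb]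

@[simp] theorem setOfMask_land (a b : ℕ) : setOfMask (a &&& b) = setOfMask a ∩ setOfMask b := by
  ext x; simp

@[simp] theorem setOfMask_lor (a b : ℕ) : setOfMask (a ||| b) = setOfMask a ∪ setOfMask b := by
  ext x; simp

theorem setOfMask_xor (a b : ℕ) : setOfMask (a ^^^ b) = symmDiff (setOfMask a) (setOfMask b) := by
  ext x
  simp only [mem_setOfMask, Nat.testBit_xor, Finset.mem_symmDiff]
  cases a.testBit (ix x) <;> cases b.testBit (ix x) <;> simp

theorem maskOf_inter (s t : Finset GolayPt) : maskOf (s ∩ t) = maskOf s &&& maskOf t :=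
  mask_ext (maskOf_lt _) (Nat.and_lt_two_pow _ (maskOf_lt _)) fun x => by simp

theorem maskOf_union (s t : Finset GolayPt) : maskOf (s ∪ t) = maskOf s ||| maskOf t :=
  mask_ext (maskOf_lt _) (Nat.or_lt_two_pow (maskOf_lt _) (maskOf_lt _)) fun x => by simp

theorem maskOf_symmDiff (s t : Finset GolayPt) : maskOf (symmDiff s t) = maskOf s ^^^ maskOf t := by
  refine mask_ext (maskOf_lt _) (Nat.xor_lt_two_pow (maskOf_lt _) (maskOf_lt _)) fun x => ?_
  simp only [testBit_maskOf, Nat.testBit_xor, Finset.mem_symmDiff]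
  by_cases h1 : x ∈ s <;> by_cases h2 : x ∈ t <;> simp [h1, h2]

@[simp] theorem maskOf_empty : maskOf ∅ = 0 :=
  mask_ext (maskOf_lt _) (by norm_num) fun x => by simp

theorem maskOf_univ : maskOf Finset.univ = 16777215 := by decide +kernel

theorem maskOf_compl (s : Finset GolayPt) : maskOf sᶜ = 16777215 ^^^ maskOf s := by
  rw [← maskOf_univ, ← maskOf_symmDiff]
  congr 1
  ext x; simp [Finset.mem_symmDiff]

theorem maskOf_singleton (x : GolayPt) : maskOf {x} = 1 <<< ix x := by
  revert x; decide +kernel

/-! ### bits and cardinalities -/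

noncomputable def bitAt (m i : ℕ) : ℕ := Nat.land (Nat.shiftRight m i) 1

theorem bitAt_eq (m i : ℕ) : bitAt m i = if m.testBit i then 1 else 0 := by
  show (m >>> i) &&& 1 = _
  rw [Nat.and_one_is_mod, Nat.testBit, Nat.one_and_eq_mod_two]
  rcases Nat.mod_two_eq_zero_or_one (m >>> i) with h | h <;> simp [h]

/-- The number of the bits below `24` that are set. -/
noncomputable def popc (m : ℕ) : ℕ := Nat.rec 0 (fun i acc => Nat.add acc (bitAt m i)) 24

theorem popc_loop (m n : ℕ) :
    (Nat.rec 0 (fun i acc => Nat.add acc (bitAt m i)) n : ℕ) =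
      ((Finset.range n).filter fun i => m.testBit i).card := by
  induction n with
  | zero => simp
  | succ n ih =>
    show Nat.rec 0 (fun i acc => Nat.add acc (bitAt m i)) n + bitAt m n = _
    rw [ih, bitAt_eq, Finset.range_add_one, Finset.filter_insert]
    split <;> simp

theorem card_setOfMask (m : ℕ) : (setOfMask m).card = popc m := by
  rw [popc, popc_loop, ← image_ix_univ, Finset.filter_image,
    Finset.card_image_of_injective _ ix_injective]
  rfl

theorem popc_maskOf (s : Finset GolayPt) : popc (maskOf s) = s.card := by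
  rw [← card_setOfMask, setOfMask_maskOf]

theorem disjoint_iff_land (s t : Finset GolayPt) : Disjoint s t ↔ maskOf s &&& maskOf t = 0 := by
  rw [Finset.disjoint_iff_inter_eq_empty, ← maskOf_inter, ← maskOf_empty,
    maskOf_injective.eq_iff]

theorem subset_iff_land (s t : Finset GolayPt) : s ⊆ t ↔ maskOf s &&& maskOf t = maskOf s := by
  rw [← Finset.inter_eq_left, ← maskOf_inter, maskOf_injective.eq_iff]

theorem mem_iff_bitAt (s : Finset GolayPt) (x : GolayPt) : x ∈ s ↔ bitAt (maskOf s) (ix x) = 1 := by
  rw [bitAt_eq, testBit_maskOf]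
  by_cases h : x ∈ s <;> simp [h]

/-! ### packed permutations -/

noncomputable def pget (p i : ℕ) : ℕ := Nat.land (Nat.shiftRight p (Nat.mul 5 i)) 31

/-- The packed number `p` holds the images of the permutation `σ`. -/
def Rep (σ : Equiv.Perm GolayPt) (p : ℕ) : Prop := ∀ x, pget p (ix x) = ix (σ x)

/-- The image of a mask under a packed permutation. -/
noncomputable def mimg (p m : ℕ) : ℕ :=
  Nat.rec 0 (fun i acc => Nat.lor acc (Nat.shiftLeft (bitAt m i) (pget p i))) 24

theorem mimg_loop (p m n j : ℕ) :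
    Nat.testBit (Nat.rec 0 (fun i acc => Nat.lor acc (Nat.shiftLeft (bitAt m i) (pget p i))) n : ℕ) j
      = decide (∃ i < n, m.testBit i ∧ pget p i = j) := by
  induction n with
  | zero => simp
  | succ n ih =>
    show Nat.testBit (_ ||| (bitAt m n) <<< (pget p n)) j = _
    rw [Nat.testBit_or, ih, Nat.testBit_shiftLeft, bitAt_eq]
    rw [Bool.eq_iff_iff]
    simp only [Bool.or_eq_true, decide_eq_true_eq, Bool.and_eq_true]
    constructor
    · rintro (⟨i, hi, h⟩ | ⟨h1, h2⟩)
      · exact ⟨i, by omega, h⟩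
      · refine ⟨n, by omega, ?_⟩
        cases hb : m.testBit n
        · simp [hb] at h2
        · simp only [hb, if_true, Nat.testBit_one_eq_true_iff_self_eq_zero] at h2
          exact ⟨rfl, by omega⟩
    · rintro ⟨i, hi, h1, h2⟩
      rcases Nat.lt_succ_iff_lt_or_eq.1 hi with hi | rfl
      · exact Or.inl ⟨i, hi, h1, h2⟩
      · exact Or.inr ⟨by omega, by simp [h1, h2]⟩

theorem testBit_mimg (p m j : ℕ) :
    (mimg p m).testBit j = true ↔ ∃ i < 24, m.testBit i ∧ pget p i = j := by
  rw [mimg, mimg_loop, decide_eq_true_iff]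

theorem setOfMask_mimg {σ : Equiv.Perm GolayPt} {p : ℕ} (h : Rep σ p) (m : ℕ) :
    setOfMask (mimg p m) = (setOfMask m).image σ := by
  ext x
  simp only [mem_setOfMask, Finset.mem_image, testBit_mimg]
  constructor
  · rintro ⟨i, hi, hm, hp⟩
    refine ⟨pt i, by rwa [ix_pt hi], ?_⟩
    apply ix_injective
    rw [← h, ix_pt hi, hp]
  · rintro ⟨y, hy, rfl⟩
    exact ⟨ix y, ix_lt y, hy, h y⟩

theorem mimg_lt {σ : Equiv.Perm GolayPt} {p : ℕ} (h : Rep σ p) (m : ℕ) : mimg p m < 2 ^ 24 := by
  refine Nat.lt_pow_two_of_testBit _ fun j hj => ?_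
  rw [Bool.eq_false_iff, ne_eq, testBit_mimg]
  rintro ⟨i, hi, -, hp⟩
  have := h (pt i)
  rw [ix_pt hi, hp] at this
  have := ix_lt (σ (pt i))
  omega

open scoped Pointwise in
theorem smul_setOfMask {σ : Equiv.Perm GolayPt} {p : ℕ} (h : Rep σ p) (m : ℕ) :
    σ • setOfMask m = setOfMask (mimg p m) := by
  rw [setOfMask_mimg h]; rfl

open scoped Pointwise in
theorem maskOf_smul {σ : Equiv.Perm GolayPt} {p : ℕ} (h : Rep σ p) (s : Finset GolayPt) :
    maskOf (σ • s) = mimg p (maskOf s) := by
  conv_lhs => rw [← setOfMask_maskOf s]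
  rw [smul_setOfMask h, maskOf_setOfMask (mimg_lt h _)]

end CfsgLib.Sporadic
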