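import Cfsg.Agent.Lib.Sporadic.MathieuAut
import Cfsg.Agent.Lib.ThreeTrans.M24Mathieu

/-!
# The automorphism group of M22 is the stabiliser of a pair of points in M24

The subgroups of index 22 of M22 are the point stabilisers; a permutation of the 22 points
normalising M22 preserves the 77 octads through the two fixed points, and these span the words of
the code that agree at the two points, so the permutation preserves the code after composing it
with the interchange of the two points, if necessary.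
-/

set_option autoImplicit false

namespace CfsgLib.Sporadic.M22Aut

open Cfsg MulAction CfsgLib.Sporadic CfsgLib.Sporadic.MathieuAut
open scoped Pointwise

/-! ### elements fixing many points -/

theorem eq_one_of_fix_seven {σ : Equiv.Perm GolayPt} (hσ : σ ∈ M24)
    (h5 : ∀ c ∈ [3, 2, 1, 0, 23], σ (pt c) = pt c) {x z : GolayPt}
    (hx : x ∈ setOfMask 147488) (hz : z ∈ setOfMask 8241104) (hσx : σ x = x) (hσz : σ z = z) :
    σ = 1 := by
  obtain ⟨τ, hτ, hτx⟩ := exists_of_level level5 (m24Trans_mem m24Trans5 (by simp [m24Trans])) hx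
  obtain ⟨hτ24, hτfix⟩ := mem_fixOf.1 hτ
  have hoct : setOfMask 8536111 ∈ octads := by
    rw [mem_octads_iff, maskOf_setOfMask (by norm_num)]; decide +kernel
  have hτo : τ • setOfMask 8536111 = setOfMask 8536111 := by
    refine smul_eq_of_fix_five hτ24 hoct (s := setOfMask 8388623)
      (by decide +kernel) (by decide +kernel) fun y hy => ?_
    have hc : ix y ∈ [3, 2, 1, 0, 23] := by revert hy; revert y; decide +kernel
    have := hτfix _ hc
    rwa [pt_ix] at this
  have hz' : τ⁻¹ z ∈ setOfMask 8241104 := by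
    have hzo : z ∉ setOfMask 8536111 := by clear hσz; revert hz; revert z; decide +kernel
    have h1 : τ⁻¹ z ∉ setOfMask 8536111 := fun h => hzo (by
      rw [← hτo]
      simpa using Finset.smul_mem_smul_finset (a := τ) h)
    revert h1
    generalize τ⁻¹ z = w
    revert w
    decide +kernel
  obtain ⟨ρ, hρ, hρz⟩ := exists_of_level level6 (m24Trans_mem m24Trans6 (by simp [m24Trans])) hz'
  obtain ⟨hρ24, hρfix⟩ := mem_fixOf.1 hρ
  have hmem : (τ * ρ)⁻¹ * σ * (τ * ρ) ∈ M24 :=
    mul_mem (mul_mem (inv_mem (mul_mem hτ24 hρ24)) hσ) (mul_mem hτ24 hρ24)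
  have he := eq_one_of_fix_base hmem fun i hi => by
    rw [Equiv.Perm.mul_apply, Equiv.Perm.mul_apply, Equiv.Perm.inv_eq_iff_eq]
    have hcases : i ∈ [3, 2, 1, 0, 23] ∨ i = 5 ∨ i = 4 := by simp at hi ⊢; tauto
    rcases hcases with hc | rfl | rfl
    · have e : (τ * ρ) (pt i) = pt i := by
        rw [Equiv.Perm.mul_apply, hρfix i (by simp at hc ⊢; tauto), hτfix i hc]
      rw [e]; exact h5 i hc
    · have e : (τ * ρ) (pt 5) = x := by rw [Equiv.Perm.mul_apply, hρfix 5 (by simp), hτx]
      rw [e]; exact hσx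
    · have e : (τ * ρ) (pt 4) = z := by rw [Equiv.Perm.mul_apply, hρz]; simp
      rw [e]; exact hσz
  calc σ = (τ * ρ) * ((τ * ρ)⁻¹ * σ * (τ * ρ)) * (τ * ρ)⁻¹ := by group
    _ = 1 := by rw [he]; group

/-- A non-identity element of M24 of order two or of prime order at least five fixing five points
has all its fixed points in an octad, which is left invariant. -/
theorem exists_octad_of_fix {q : ℕ} [Fact q.Prime] (hq3 : q ≠ 3) {y : ↥M24} (hy : orderOf y = q)
    (h : 5 ≤ (Finset.univ.filter fun z : GolayPt => y • z = z).card) :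
    ∃ o ∈ octads, (Finset.univ.filter fun z : GolayPt => y • z = z) ⊆ o ∧ ∀ z ∈ o, y • z ∈ o := by
  classical
  obtain ⟨T, hT, hTc⟩ := Finset.exists_subset_card_eq h
  let e : Fin 5 ↪ GolayPt := ((T.equivFinOfCardEq hTc).symm.toEmbedding).trans (Function.Embedding.subtype _)
  obtain ⟨g, hg, hge⟩ := exists_map_five e
  have hoct : setOfMask 8536111 ∈ octads := by
    rw [mem_octads_iff, maskOf_setOfMask (by norm_num)]; decide +kernel
  set o := g • setOfMask 8536111 with ho
  have hbase : ∀ c ∈ [3, 2, 1, 0, 23], g (pt c) ∈ T := by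
    intro c hc
    obtain ⟨i, hi⟩ : ∃ i : Fin 5, [23, 0, 1, 2, 3].getD (i : ℕ) 0 = c := by
      revert hc; revert c; decide
    rw [← hi, hge i]
    exact ((T.equivFinOfCardEq hTc).symm i).2
  have hfix : ∀ w ∈ T, y • w = w := fun w hw => (Finset.mem_filter.1 (hT hw)).2
  have hTo : T ⊆ o := by
    intro w hw
    obtain ⟨i, hi⟩ : ∃ i, e i = w := ⟨T.equivFinOfCardEq hTc ⟨w, hw⟩, by simp [e]⟩
    rw [← hi, ← hge i, ho]
    refine Finset.smul_mem_smul_finset (a := g) ?_
    clear hi
    revert i; decide +kernel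
  have hinv : (y : Equiv.Perm GolayPt) • o = o :=
    smul_eq_of_fix_five y.2 ((smul_mem_octads hg).2 hoct) hTo hTc.ge fun w hw => hfix w hw
  have hinv' : ∀ z ∈ o, y • z ∈ o := fun z hz => hinv ▸ Finset.smul_mem_smul_finset (a := (y : Equiv.Perm GolayPt)) hz
  refine ⟨o, (smul_mem_octads hg).2 hoct, fun z hz => ?_, hinv'⟩
  by_contra hzo
  have hzfix := (Finset.mem_filter.1 hz).2
  obtain ⟨x, hx, hxT⟩ : ∃ x ∈ o.filter (fun w => y • w = w), x ∉ T := by
    refine Finset.exists_mem_notMem_of_card_lt_card ?_ |>.imp fun x hx => hx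
    have hm := fixed_modEq hy o hinv'
    have hle : T.card ≤ (o.filter fun w => y • w = w).card :=
      Finset.card_le_card fun w hw => Finset.mem_filter.2 ⟨hTo hw, hfix w hw⟩
    rw [((smul_mem_octads hg).2 hoct).2, Nat.ModEq] at hm
    rcases eq_or_lt_of_le hle with heq | hlt
    · exfalso
      rw [← heq, hTc] at hm
      have := Nat.sub_mod_eq_zero_of_mod_eq hm
      have h3 : q ∣ 3 := Nat.dvd_of_mod_eq_zero this
      exact hq3 ((Nat.prime_dvd_prime_iff_eq Fact.out Nat.prime_three).1 h3)
    · exact hlt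
  obtain ⟨hxo, hxfix⟩ := Finset.mem_filter.1 hx
  have hx' : g⁻¹ x ∈ setOfMask 147488 := by
    have h1 : g⁻¹ x ∈ setOfMask 8536111 := by
      rw [ho, ← Finset.inv_smul_mem_iff] at hxo; exact hxo
    have h2 : ∀ c ∈ [3, 2, 1, 0, 23], g⁻¹ x ≠ pt c := fun c hc e' =>
      hxT (by rw [show x = g (pt c) by rw [← e']; simp]; exact hbase c hc)
    revert h1 h2
    generalize g⁻¹ x = w
    revert w
    decide +kernel
  have hz' : g⁻¹ z ∈ setOfMask 8241104 := by
    have h1 : g⁻¹ z ∉ setOfMask 8536111 := fun h' => hzo (by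
      rw [ho, ← Finset.inv_smul_mem_iff]; exact h')
    revert h1
    generalize g⁻¹ z = w
    revert w
    decide +kernel
  have hmem : g⁻¹ * (y : Equiv.Perm GolayPt) * g ∈ M24 := mul_mem (mul_mem (inv_mem hg) y.2) hg
  have hone := eq_one_of_fix_seven hmem (x := g⁻¹ x) (z := g⁻¹ z) (fun c hc => by
      simp only [Equiv.Perm.mul_apply]
      rw [show (y : Equiv.Perm GolayPt) (g (pt c)) = g (pt c) from hfix _ (hbase c hc)]
      simp) hx' hz'
    (by
      simp only [Equiv.Perm.mul_apply, Equiv.Perm.coe_inv, Equiv.apply_symm_apply]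
      rw [show (y : Equiv.Perm GolayPt) x = x from hxfix])
    (by
      simp only [Equiv.Perm.mul_apply, Equiv.Perm.coe_inv, Equiv.apply_symm_apply]
      rw [show (y : Equiv.Perm GolayPt) z = z from hzfix])
  have hy1 : y = 1 := Subtype.ext (by
    calc (y : Equiv.Perm GolayPt) = g * (g⁻¹ * (y : Equiv.Perm GolayPt) * g) * g⁻¹ := by group
      _ = 1 := by rw [hone]; group)
  rw [hy1, orderOf_one] at hy
  exact (Fact.out : q.Prime).one_lt.ne hy

theorem fixed_le_four {q : ℕ} [Fact q.Prime] (hq : q = 5 ∨ q = 7) {y : ↥M24} (hy : orderOf y = q) :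
    (Finset.univ.filter fun z : GolayPt => y • z = z).card ≤ 4 := by
  classical
  by_contra hlt
  obtain ⟨o, ho, hsub, hinv⟩ := exists_octad_of_fix (by omega) hy (by omega)
  have hm := fixed_modEq hy o hinv
  have hm24 := fixed_modEq hy Finset.univ (fun _ _ => Finset.mem_univ _)
  have he : (o.filter fun z => y • z = z) = Finset.univ.filter fun z : GolayPt => y • z = z :=
    Finset.ext fun z => ⟨fun h => Finset.mem_filter.2 ⟨Finset.mem_univ _, (Finset.mem_filter.1 h).2⟩,
      fun h => Finset.mem_filter.2 ⟨hsub h, (Finset.mem_filter.1 h).2⟩⟩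
  rw [he, ho.2] at hm
  rw [Finset.card_univ, show Fintype.card GolayPt = 24 from rfl] at hm24
  have := hm24.trans hm.symm
  rcases hq with rfl | rfl <;> exact absurd this (by decide)

theorem fixed_le_eight {y : ↥M24} (hy : orderOf y = 2) :
    (Finset.univ.filter fun z : GolayPt => y • z = z).card ≤ 8 := by
  classical
  by_contra hlt
  have := Fact.mk Nat.prime_two
  obtain ⟨o, ho, hsub, -⟩ := exists_octad_of_fix (by norm_num) hy (by omega)
  have := Finset.card_le_card hsub
  rw [ho.2] at this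
  omega

/-! ### subgroups of index 22 -/

theorem eq_stabilizer_of_card_M22 (H : Subgroup ↥M24)
    (hH : H ≤ stabilizer ↥M24 (none : GolayPt) ⊓ stabilizer ↥M24 (some 0 : GolayPt))
    (h : Nat.card H = 20160) :
    ∃ a : GolayPt, a ≠ none ∧ a ≠ some 0 ∧ H ≤ stabilizer ↥M24 a := by
  classical
  have := Fact.mk (show Nat.Prime 7 by norm_num)
  obtain ⟨y, hy⟩ := exists_prime_orderOf_dvd_card' (G := ↥H) 7 (by rw [h]; norm_num)
  have hy' : orderOf (y : ↥M24) = 7 := by rw [Subgroup.orderOf_coe, hy]
  set Fy := Finset.univ.filter fun z : GolayPt => (y : ↥M24) • z = z with hFy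
  have hFy3 : Fy.card = 3 := by
    have h4 := fixed_le_four (Or.inr rfl) hy'
    have hm := fixed_modEq hy' Finset.univ (fun _ _ => Finset.mem_univ _)
    rw [← hFy] at h4 hm
    rw [Finset.card_univ, show Fintype.card GolayPt = 24 from rfl, Nat.ModEq] at hm
    omega
  have hn : (none : GolayPt) ∈ Fy := Finset.mem_filter.2 ⟨Finset.mem_univ _, (hH y.2).1⟩
  have h0 : (some 0 : GolayPt) ∈ Fy := Finset.mem_filter.2 ⟨Finset.mem_univ _, (hH y.2).2⟩
  obtain ⟨a, ha⟩ : ((Fy.erase none).erase (some 0)).Nonempty := by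
    rw [← Finset.card_pos, Finset.card_erase_of_mem (Finset.mem_erase.2 ⟨by simp, h0⟩),
      Finset.card_erase_of_mem hn, hFy3]
    norm_num
  simp only [Finset.mem_erase] at ha
  obtain ⟨ha0, han, haF⟩ := ha
  have hFeq : ({none, some 0, a} : Finset GolayPt) = Fy := by
    refine Finset.eq_of_subset_of_card_le ?_ ?_
    · simp [Finset.insert_subset_iff, hn, h0, haF]
    · rw [hFy3, Finset.card_insert_of_notMem (by simp [han.symm]), Finset.card_pair ha0.symm]
  refine ⟨a, han, ha0, ?_⟩
  set O := (orbit ↥H a).toFinset with hO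
  have hOinv : ∀ g ∈ H, ∀ z ∈ O, g • z ∈ O := fun g hg z hz => by
    rw [hO, Set.mem_toFinset] at hz ⊢
    exact mem_orbit_of_mem_orbit (⟨g, hg⟩ : ↥H) hz
  have hOn : ∀ p : GolayPt, p ≠ a → (∀ g ∈ H, g • p = p) → p ∉ O := fun p hp hfix => by
    rw [hO, Set.mem_toFinset]
    rintro ⟨g, hg⟩
    exact hp (smul_left_cancel (g : ↥M24) ((hfix g g.2).trans hg.symm))
  have hOnone := hOn none han.symm fun g hg => (hH hg).1
  have hO0 := hOn (some 0) ha0.symm fun g hg => (hH hg).2
  have hf1 : (O.filter fun z => (y : ↥M24) • z = z).card = 1 := by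
    rw [Finset.card_eq_one]
    refine ⟨a, Finset.eq_singleton_iff_unique_mem.2 ⟨?_, fun z hz => ?_⟩⟩
    · simpa [hO] using (Finset.mem_filter.1 haF).2
    · obtain ⟨hzO, hz'⟩ := Finset.mem_filter.1 hz
      have : z ∈ ({none, some 0, a} : Finset GolayPt) :=
        hFeq ▸ Finset.mem_filter.2 ⟨Finset.mem_univ _, hz'⟩
      simp only [Finset.mem_insert, Finset.mem_singleton] at this
      rcases this with rfl | rfl | rfl
      · exact absurd hzO hOnone
      · exact absurd hzO hO0
      · rfl
  have hOc := fixed_modEq hy' O (hOinv _ y.2)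
  rw [hf1, Nat.ModEq] at hOc
  have hsub : O ⊆ ({none, some 0} : Finset GolayPt)ᶜ := by
    intro z hz
    simp only [Finset.mem_compl, Finset.mem_insert, Finset.mem_singleton, not_or]
    exact ⟨fun e => hOnone (e ▸ hz), fun e => hO0 (e ▸ hz)⟩
  have hle22 : O.card ≤ 22 := (Finset.card_le_card hsub).trans (by decide)
  have hmul := orbit_card H a
  rw [h, Set.ncard_eq_toFinset_card', ← hO] at hmul
  have h4 : O.card = 1 ∨ O.card = 8 ∨ O.card = 15 ∨ O.card = 22 := by omega
  rcases h4 with e | e | e | e <;> rw [e] at hmul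
  · exact inf_eq_left.1 (Subgroup.eq_of_le_of_card_ge inf_le_left (by omega))
  · exfalso
    have := Fact.mk (show Nat.Prime 5 by norm_num)
    obtain ⟨w, hw⟩ := exists_prime_orderOf_dvd_card' (G := ↥(H ⊓ stabilizer ↥M24 a)) 5 (by
      rw [show Nat.card ↥(H ⊓ stabilizer ↥M24 a) = 2520 by omega]; norm_num)
    have hw' : orderOf (w : ↥M24) = 5 := by rw [Subgroup.orderOf_coe, hw]
    have hm := fixed_modEq hw' O (hOinv _ w.2.1)
    have hsum : 2 + (O.filter fun z => (w : ↥M24) • z = z).card ≤
        (Finset.univ.filter fun z : GolayPt => (w : ↥M24) • z = z).card := by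
      have hd : Disjoint ({none, some 0} : Finset GolayPt) (O.filter fun z => (w : ↥M24) • z = z) := by
        rw [Finset.disjoint_left]
        intro z hz hz'
        exact (Finset.mem_compl.1 (hsub (Finset.mem_filter.1 hz').1)) hz
      rw [show (2 : ℕ) = ({none, some 0} : Finset GolayPt).card from rfl, ← Finset.card_union_of_disjoint hd]
      refine Finset.card_le_card (Finset.union_subset (fun z hz => ?_) (Finset.filter_subset_filter _ (Finset.subset_univ _)))
      simp only [Finset.mem_insert, Finset.mem_singleton] at hz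
      refine Finset.mem_filter.2 ⟨Finset.mem_univ _, ?_⟩
      rcases hz with rfl | rfl
      · exact (hH w.2.1).1
      · exact (hH w.2.1).2
    have := fixed_le_four (Or.inl rfl) hw'
    rw [e, Nat.ModEq] at hm
    omega
  · exfalso
    set C : Finset GolayPt := (O ∪ {none, some 0})ᶜ with hC
    have hCc : C.card = 7 := by
      rw [hC, Finset.card_compl, Finset.card_union_of_disjoint
        (Finset.disjoint_left.2 fun z hz => Finset.mem_compl.1 (hsub hz)), e]
      rfl
    have hCinv : ∀ g ∈ H, ∀ z, g • z ∈ C ↔ z ∈ C := by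
      intro g hg z
      simp only [hC, Finset.mem_compl, Finset.mem_union, Finset.mem_insert, Finset.mem_singleton]
      refine not_congr (or_congr ⟨fun hz => ?_, fun hz => hOinv g hg z hz⟩ (or_congr ?_ ?_))
      · simpa using hOinv g⁻¹ (inv_mem hg) _ hz
      · exact ⟨fun e' => smul_left_cancel g (e'.trans (hH hg).1.symm), fun e' => e' ▸ (hH hg).1⟩
      · exact ⟨fun e' => smul_left_cancel g (e'.trans (hH hg).2.symm), fun e' => e' ▸ (hH hg).2⟩
    let f : ↥H →* Equiv.Perm {z // z ∈ C} :=
      { toFun := fun g => ((g : ↥M24) : Equiv.Perm GolayPt).subtypePerm (hCinv g g.2)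
        map_one' := by ext; rfl
        map_mul' := fun g g' => by ext; rfl }
    have hr : Nat.card f.range ∣ 5040 := by
      have := Subgroup.card_subgroup_dvd_card f.range
      rwa [Nat.card_eq_fintype_card (α := Equiv.Perm {z // z ∈ C}), Fintype.card_perm, Fintype.card_coe,
        hCc] at this
    have hk := f.ker.card_mul_index
    rw [Subgroup.index_ker, h] at hk
    obtain ⟨d, hd⟩ := hr
    have h2 : 2 ∣ Nat.card f.ker := by
      have h20 : Nat.card f.ker * 5040 = 20160 * d := by rw [hd, ← hk]; ring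
      have : 5040 * Nat.card f.ker = 5040 * (4 * d) := by linarith
      rw [Nat.eq_of_mul_eq_mul_left (by norm_num) this]
      exact ⟨2 * d, by ring⟩
    have := Fact.mk Nat.prime_two
    obtain ⟨t, ht⟩ := exists_prime_orderOf_dvd_card' (G := ↥f.ker) 2 h2
    have ht' : orderOf ((t : ↥H) : ↥M24) = 2 := by rw [Subgroup.orderOf_coe, Subgroup.orderOf_coe, ht]
    have hle := fixed_le_eight ht'
    have hsub' : C ∪ {none, some 0} ⊆
        Finset.univ.filter fun z : GolayPt => ((t : ↥H) : ↥M24) • z = z := by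
      intro z hz
      simp only [Finset.mem_union, Finset.mem_insert, Finset.mem_singleton] at hz
      refine Finset.mem_filter.2 ⟨Finset.mem_univ _, ?_⟩
      rcases hz with hz | rfl | rfl
      · exact congrArg Subtype.val (Equiv.congr_fun (show f t = 1 from t.2) ⟨z, hz⟩)
      · exact (hH (t : ↥H).2).1
      · exact (hH (t : ↥H).2).2
    have hge := (Finset.card_le_card hsub').trans hle
    rw [Finset.card_union_of_disjoint (Finset.disjoint_left.2 fun z hz hz' => by
      rw [hC, Finset.mem_compl] at hz; exact hz (Finset.mem_union_right _ hz')), hCc] at hge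
    simp at hge
  · omega

/-! ### the octads through the two fixed points -/

/-- A family of 8-sets through the two fixed points, invariant under their stabiliser, consists of
octads if five-sets lie in at most one member. -/
theorem mem_octads_of_unique_two {F : Set (Finset GolayPt)}
    (hinv : ∀ σ ∈ M24, σ none = none → σ (some 0) = some 0 → ∀ s ∈ F, σ • s ∈ F)
    (hp : ∀ s ∈ F, (none : GolayPt) ∈ s ∧ (some 0 : GolayPt) ∈ s) (h8 : ∀ s ∈ F, s.card = 8)
    (huniq : ∀ s ∈ F, ∀ t ∈ F, ∀ T : Finset GolayPt, T.card = 5 → T ⊆ s → T ⊆ t → s = t)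
    {s : Finset GolayPt} (hs : s ∈ F) : s ∈ octads := by
  classical
  obtain ⟨hsn, hs0⟩ := hp s hs
  obtain ⟨T', hT', hT'c⟩ := Finset.exists_subset_card_eq (s := (s.erase none).erase (some 0)) (n := 3)
    (by rw [Finset.card_erase_of_mem (Finset.mem_erase.2 ⟨by simp, hs0⟩),
      Finset.card_erase_of_mem hsn, h8 s hs]; norm_num)
  let y : Fin 5 → GolayPt :=
    Fin.cons none (Fin.cons (some 0) (fun i => ((T'.equivFinOfCardEq hT'c).symm i).1))
  have hmem : ∀ i, ((T'.equivFinOfCardEq hT'c).symm i).1 ∈ (s.erase none).erase (some 0) :=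
    fun i => hT' ((T'.equivFinOfCardEq hT'c).symm i).2
  have hy : Function.Injective y := by
    refine Fin.cons_injective_iff.2 ⟨?_, Fin.cons_injective_iff.2 ⟨?_, fun i j e =>
      (T'.equivFinOfCardEq hT'c).symm.injective (Subtype.ext e)⟩⟩
    · rintro ⟨i, hi⟩
      revert hi
      refine Fin.cases ?_ (fun j => ?_) i
      · simp
      · intro hi
        exact (Finset.mem_erase.1 (Finset.mem_of_mem_erase (hmem j))).1 hi
    · rintro ⟨i, hi⟩
      exact (Finset.mem_erase.1 (hmem i)).1 hi
  have hys : ∀ i, y i ∈ s := by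
    intro i
    refine Fin.cases ?_ (fun j => Fin.cases ?_ (fun k => ?_) j) i
    · exact hsn
    · exact hs0
    · exact Finset.mem_of_mem_erase (Finset.mem_of_mem_erase (hmem k))
  obtain ⟨g, hg, hge⟩ := exists_map_five ⟨y, hy⟩
  have hgn : g none = none := hge 0
  have hg0 : g (some 0) = some 0 := hge 1
  have hg' : g⁻¹ ∈ M24 := inv_mem hg
  set u := g⁻¹ • s with hu
  have huF : u ∈ F := hinv _ hg' (Equiv.Perm.inv_eq_iff_eq.2 hgn.symm)
    (Equiv.Perm.inv_eq_iff_eq.2 hg0.symm) s hs
  have hbase : ∀ c ∈ [3, 2, 1, 0, 23], pt c ∈ u := by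
    intro c hc
    obtain ⟨i, hi⟩ : ∃ i : Fin 5, [23, 0, 1, 2, 3].getD (i : ℕ) 0 = c := by
      revert hc; revert c; decide
    rw [hu, Finset.mem_inv_smul_finset_iff]
    show g (pt c) ∈ s
    rw [← hi, hge i]; exact hys i
  have hstab : ∀ σ ∈ fixOf M24 [3, 2, 1, 0, 23], σ • u = u := by
    intro σ hσ
    obtain ⟨hσ24, hσfix⟩ := mem_fixOf.1 hσ
    refine huniq _ (hinv σ hσ24 (hσfix 23 (by simp)) (hσfix 0 (by simp)) u huF) u huF
      ({pt 3, pt 2, pt 1, pt 0, pt 23} : Finset GolayPt) (by decide) ?_ ?_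
    · intro z hz
      obtain ⟨c, hc, rfl⟩ : ∃ c ∈ [3, 2, 1, 0, 23], pt c = z := by simpa [eq_comm] using hz
      rw [← hσfix c hc]
      exact Finset.smul_mem_smul_finset (hbase c hc)
    · intro z hz
      obtain ⟨c, hc, rfl⟩ : ∃ c ∈ [3, 2, 1, 0, 23], pt c = z := by simpa [eq_comm] using hz
      exact hbase c hc
  have hK6 := m24Trans_mem m24Trans6 (by simp [m24Trans])
  have hpre : ∀ τ ∈ fixOf M24 [5, 3, 2, 1, 0, 23], τ • u = u := fun τ hτ =>
    hstab τ (mem_fixOf.2 ⟨(mem_fixOf.1 hτ).1, fun c hc => (mem_fixOf.1 hτ).2 c (by simp at hc ⊢; tauto)⟩)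
  have hsub : u ⊆ setOfMask 8536111 := by
    intro x hx
    by_contra hxo
    have hx16 : x ∈ setOfMask 8241104 := by revert hxo; clear hx; revert x; decide +kernel
    obtain ⟨σ, hσ, hσx⟩ := exists_of_level level6 hK6 hx16
    have h4 : pt 4 ∈ u := by
      rw [← hpre σ hσ, ← hσx] at hx
      exact (Finset.smul_mem_smul_finset_iff σ).1 hx
    have hall : setOfMask 8241104 ⊆ u := by
      intro z hz
      obtain ⟨τ, hτ, hτz⟩ := exists_of_level level6 hK6 hz
      rw [← hpre τ hτ, ← hτz]
      exact Finset.smul_mem_smul_finset h4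
    have := Finset.card_le_card hall
    rw [h8 u huF, card_setOfMask, show popc 8241104 = 16 by decide +kernel] at this
    omega
  have hu8 : u = setOfMask 8536111 :=
    Finset.eq_of_subset_of_card_le hsub (by
      rw [h8 u huF, card_setOfMask, show popc 8536111 = 8 by decide +kernel])
  have hoct : u ∈ octads := by
    rw [hu8, mem_octads_iff, maskOf_setOfMask (by norm_num)]; decide +kernel
  rwa [hu, smul_mem_octads hg'] at hoct

/-! ### the words agreeing at the two points -/

theorem even_card_symmDiff {α : Type*} [DecidableEq α] (A B : Finset α) :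
    Even (symmDiff A B).card ↔ (Even A.card ↔ Even B.card) := by
  have h : (symmDiff A B).card + 2 * (A ∩ B).card = A.card + B.card := by
    rw [Finset.symmDiff_def, Finset.card_union_of_disjoint disjoint_sdiff_sdiff,
      ← Finset.card_sdiff_add_card_inter A B, ← Finset.card_sdiff_add_card_inter B A,
      Finset.inter_comm B A]
    ring
  rw [← Nat.even_add, ← h, Nat.even_add (n := 2 * _)]
  simp

theorem even_inter_symmDiff (A B T : Finset GolayPt) :
    Even (symmDiff A B ∩ T).card ↔ (Even (A ∩ T).card ↔ Even (B ∩ T).card) := by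
  rw [← even_card_symmDiff]
  congr! 2
  ext z
  simp only [Finset.mem_inter, Finset.mem_symmDiff]
  tauto

/-- Eleven octads through the two points, then one through the extra point only. -/
def spanList : List ℕ := [13062145, 9347075, 11100169, 8966165, 10846245, 9506893, 14254209,
  11731203, 12325377, 10630149, 15747077, 13938692]

noncomputable def spanMask (i : ℕ) : ℕ := spanList.getD i 0

theorem span_check : ∀ i < 12, basisMask i =
    xorComb spanMask ([1, 3, 2048, 5, 2057, 2065, 2084, 65, 130, 257, 2561, 3073].getD i 0) 12 := by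
  decide +kernel

theorem span_octads : ∀ i < 12, inCode (spanMask i) = true ∧ popc (spanMask i) = 8 ∧
    bitAt (spanMask i) 23 = 1 ∧ bitAt (spanMask i) 0 = (if i = 11 then 0 else 1) := by
  decide +kernel

/-- The code is self-dual: the high twelve bits are determined by the parities. -/
theorem dual_table : forallLt 4096 (fun k => Nat.beq k 0 ||
    ! forallLt 12 (fun i => Nat.beq (Nat.land (popc (Nat.land (Nat.shiftLeft k 12) (basisMask i))) 1) 0))
      = true := by
  decide +kernel

theorem even_enc_inter {s : Finset GolayPt}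
    (hs : ∀ i < 12, Even (s ∩ setOfMask (basisMask i)).card) :
    s ∈ supports (golayCode : Set (GolayPt → ZMod 2)) := by
  have hall : ∀ {u : Finset GolayPt}, u ∈ supports (golayCode : Set (GolayPt → ZMod 2)) →
      ∀ i < 12, Even (u ∩ setOfMask (basisMask i)).card := by
    intro u hu i hi
    have hb : inCode (basisMask i) = true ∧ popc (basisMask i) = popc (basisMask i) :=
      ⟨(by decide +kernel : ∀ j < 12, inCode (basisMask j) = true) i hi, rfl⟩
    have hv : setOfMask (basisMask i) ∈ supports (golayCode : Set (GolayPt → ZMod 2)) := by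
      rw [mem_supports_iff, maskOf_setOfMask (inCode_lt hb.1)]; exact hb.1
    have hc : (symmDiff u (setOfMask (basisMask i))).card + 2 * (u ∩ setOfMask (basisMask i)).card =
        u.card + (setOfMask (basisMask i)).card := by
      rw [Finset.symmDiff_def, Finset.card_union_of_disjoint disjoint_sdiff_sdiff,
        ← Finset.card_sdiff_add_card_inter u, ← Finset.card_sdiff_add_card_inter (setOfMask (basisMask i)) u,
        Finset.inter_comm (setOfMask (basisMask i)) u]
      ring
    rcases card_code_support (symmDiff_mem_supports hu hv) with a | a | a | a | a <;>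
      rcases card_code_support hu with b | b | b | b | b <;>
        rcases card_code_support hv with c | c | c | c | c <;>
          rw [Nat.even_iff] <;> omega
  set m := maskOf s with hm
  set c := enc (m &&& 4095) with hc
  have hk12 : m &&& 4095 < 4096 := lt_of_le_of_lt Nat.and_le_right (by norm_num)
  set k := (m ^^^ c) >>> 12 with hk
  have hlow : (m ^^^ c) &&& 4095 = 0 := by
    rw [Nat.and_xor_distrib_right, hc, enc_land hk12, Nat.xor_self]
  have hklt : k < 4096 := by
    rw [hk, Nat.shiftRight_eq_div_pow, Nat.div_lt_iff_lt_mul (by norm_num)]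
    exact (Nat.xor_lt_two_pow (n := 24) (maskOf_lt s) (enc_lt hk12)).trans_eq (by norm_num)
  have hkm : k <<< 12 = m ^^^ c := by
    have h1 := Nat.div_add_mod (m ^^^ c) 4096
    rw [show (4095 : ℕ) = 2 ^ 12 - 1 by norm_num, Nat.and_two_pow_sub_one_eq_mod] at hlow
    rw [hk, Nat.shiftLeft_eq, Nat.shiftRight_eq_div_pow]
    norm_num at hlow ⊢
    omega
  have hsupp : setOfMask c ∈ supports (golayCode : Set (GolayPt → ZMod 2)) := by
    rw [mem_supports_iff, maskOf_setOfMask (enc_lt hk12)]; exact inCode_enc hk12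
  have heven : ∀ i < 12, Even (popc ((k <<< 12) &&& basisMask i)) := by
    intro i hi
    rw [← card_setOfMask, setOfMask_land, hkm, setOfMask_xor, even_inter_symmDiff, hm, setOfMask_maskOf]
    exact iff_of_true (hs i hi) (hall hsupp i hi)
  have hk0 : k = 0 := by
    have h := forallLt_elim dual_table hklt
    simp only [Bool.or_eq_true, Bool.not_eq_true', Nat.beq_eq] at h
    refine h.resolve_right ?_
    rw [Bool.eq_false_iff, ne_eq, forallLt_iff]
    push Not
    intro i hi
    simp only [Nat.beq_eq]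
    show popc ((k <<< 12) &&& basisMask i) &&& 1 = 0
    rw [Nat.and_one_is_mod, ← Nat.even_iff]; exact heven i hi
  rw [mem_supports_iff, ← hm]
  have : m = c := by
    rw [hk0, Nat.zero_shiftLeft] at hkm
    exact Nat.xor_eq_zero_iff.1 hkm.symm
  rw [this, hc]; exact inCode_enc hk12

/-- A set meeting evenly all octads through the two points is a word, possibly after adding the two
points. -/
theorem mem_or_mem_of_even {w : Finset GolayPt}
    (h : ∀ o ∈ octads, (none : GolayPt) ∈ o → (some 0 : GolayPt) ∈ o → Even (w ∩ o).card) :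
    w ∈ supports (golayCode : Set (GolayPt → ZMod 2)) ∨
      symmDiff w {none, some 0} ∈ supports (golayCode : Set (GolayPt → ZMod 2)) := by
  have key : ∀ u : Finset GolayPt, (∀ i < 12, Even (u ∩ setOfMask (spanMask i)).card) →
      u ∈ supports (golayCode : Set (GolayPt → ZMod 2)) := by
    intro u hu
    refine even_enc_inter fun i hi => ?_
    rw [span_check i hi]
    generalize ([1, 3, 2048, 5, 2057, 2065, 2084, 65, 130, 257, 2561, 3073].getD i 0) = c
    suffices ∀ n ≤ 12, Even (u ∩ setOfMask (xorComb spanMask c n)).card from this 12 le_rfl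
    intro n hn
    induction n with
    | zero => simp [xorComb, setOfMask]
    | succ n ih =>
      rw [xorComb_succ, setOfMask_xor, Finset.inter_comm, even_inter_symmDiff, Finset.inter_comm,
        Finset.inter_comm _ u]
      refine iff_of_true (ih (by omega)) ?_
      rw [bitAt_eq]
      split
      · rw [one_mul]; exact hu n (by omega)
      · simp [setOfMask]
  have hbits : ∀ (m : ℕ) (z : GolayPt), bitAt m (ix z) = 1 ↔ z ∈ setOfMask m := fun m z => by
    rw [mem_setOfMask, bitAt_eq]; cases m.testBit (ix z) <;> simp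
  have h11 : ∀ i < 11, Even (w ∩ setOfMask (spanMask i)).card := by
    intro i hi
    obtain ⟨h1, h2, h3, h4⟩ := span_octads i (by omega)
    rw [if_neg (by omega)] at h4
    refine h _ ?_ ((hbits _ none).1 h3) ((hbits _ (some 0)).1 h4)
    rw [mem_octads_iff, maskOf_setOfMask (inCode_lt h1)]; exact ⟨h1, h2⟩
  by_cases h12 : Even (w ∩ setOfMask (spanMask 11)).card
  · exact Or.inl (key w fun i hi => if e : i = 11 then e ▸ h12 else h11 i (by omega))
  · refine Or.inr (key _ fun i hi => ?_)
    rw [even_inter_symmDiff]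
    by_cases e : i = 11
    · subst e
      refine iff_of_false h12 ?_
      rw [show ({none, some 0} : Finset GolayPt) ∩ setOfMask (spanMask 11) = {none} by decide +kernel]
      simp
    · refine iff_of_true (h11 i (by omega)) ?_
      have : ({none, some 0} : Finset GolayPt) ∩ setOfMask (spanMask i) = {none, some 0} := by
        have : ∀ j < 11, ({none, some 0} : Finset GolayPt) ∩ setOfMask (spanMask j) = {none, some 0} := by
          decide +kernel
        exact this i (by omega)
      rw [this]; decide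

theorem even_inter_octads {u v : Finset GolayPt}
    (hu : u ∈ supports (golayCode : Set (GolayPt → ZMod 2)))
    (hv : v ∈ supports (golayCode : Set (GolayPt → ZMod 2))) : Even (u ∩ v).card := by
  have hc : (symmDiff u v).card + 2 * (u ∩ v).card = u.card + v.card := by
    rw [Finset.symmDiff_def, Finset.card_union_of_disjoint disjoint_sdiff_sdiff,
      ← Finset.card_sdiff_add_card_inter u v, ← Finset.card_sdiff_add_card_inter v u,
      Finset.inter_comm v u]
    ring
  rw [Nat.even_iff]
  rcases card_code_support (symmDiff_mem_supports hu hv) with a | a | a | a | a <;>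
    rcases card_code_support hu with b | b | b | b | b <;>
      rcases card_code_support hv with c | c | c | c | c <;> omega

/-- A permutation fixing the two points and normalising their stabiliser lies in M24, possibly
after composing it with the interchange of the two points. -/
theorem mem_or_mem_of_normalizes {π : Equiv.Perm GolayPt} (hn : π none = none)
    (h0 : π (some 0) = some 0)
    (h : ∀ σ ∈ M24, σ none = none → σ (some 0) = some 0 → π⁻¹ * σ * π ∈ M24) :
    π ∈ M24 ∨ Equiv.swap none (some 0) * π ∈ M24 := by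
  classical
  have fixd : ∀ σ : Equiv.Perm GolayPt, σ none = none → σ (some 0) = some 0 →
      (π⁻¹ * σ * π) none = none ∧ (π⁻¹ * σ * π) (some 0) = some 0 := fun σ a b => by
    constructor
    · show π.symm (σ (π none)) = none
      rw [hn, a, Equiv.symm_apply_eq, hn]
    · show π.symm (σ (π (some 0))) = some 0
      rw [h0, b, Equiv.symm_apply_eq, h0]
  have hboth : ∀ o ∈ octads, (none : GolayPt) ∈ o → (some 0 : GolayPt) ∈ o → π • o ∈ octads := by
    intro o ho hon ho0
    refine mem_octads_of_unique_two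
      (F := (π • ·) '' {o | o ∈ octads ∧ (none : GolayPt) ∈ o ∧ (some 0 : GolayPt) ∈ o}) ?_ ?_ ?_ ?_
      ⟨o, ⟨ho, hon, ho0⟩, rfl⟩
    · rintro σ hσ hσn hσ0 _ ⟨t, ⟨ht, htn, ht0⟩, rfl⟩
      obtain ⟨e1, e2⟩ := fixd σ hσn hσ0
      refine ⟨(π⁻¹ * σ * π) • t, ⟨(smul_mem_octads (h σ hσ hσn hσ0)).2 ht, ?_, ?_⟩, ?_⟩
      · rw [← e1]; exact Finset.smul_mem_smul_finset (a := π⁻¹ * σ * π) htn
      · rw [← e2]; exact Finset.smul_mem_smul_finset (a := π⁻¹ * σ * π) ht0
      · show π • (π⁻¹ * σ * π) • t = σ • π • t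
        rw [← mul_smul, ← mul_smul]; group
    · rintro _ ⟨t, ⟨-, htn, ht0⟩, rfl⟩
      exact ⟨hn ▸ Finset.smul_mem_smul_finset (a := π) htn, h0 ▸ Finset.smul_mem_smul_finset (a := π) ht0⟩
    · rintro _ ⟨t, ⟨ht, -⟩, rfl⟩
      rw [Finset.card_smul_finset, ht.2]
    · rintro _ ⟨t, ⟨ht, -⟩, rfl⟩ _ ⟨t', ⟨ht', -⟩, rfl⟩ T hT h1 h2
      rw [eq_of_inter_five ht ht' ?_]
      have : π⁻¹ • T ⊆ t ∩ t' := Finset.subset_inter
        (Finset.subset_smul_finset_iff.1 h1) (Finset.subset_smul_finset_iff.1 h2)
      have := Finset.card_le_card this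
      rwa [Finset.card_smul_finset, hT] at this
  have hperm : ∀ u : Finset GolayPt, (π • u).card = u.card := fun u => Finset.card_smul_finset _ _
  have hsurj : ∀ A ∈ octads, (none : GolayPt) ∈ A → (some 0 : GolayPt) ∈ A → ∃ B ∈ octads,
      π • B = A := by
    intro A hA hAn hA0
    let S : Set (Finset GolayPt) := {o | o ∈ octads ∧ (none : GolayPt) ∈ o ∧ (some 0 : GolayPt) ∈ o}
    have hmaps : (π • ·) '' S ⊆ S := by
      rintro _ ⟨t, ⟨ht, htn, ht0⟩, rfl⟩
      exact ⟨hboth t ht htn ht0, hn ▸ Finset.smul_mem_smul_finset (a := π) htn,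
        h0 ▸ Finset.smul_mem_smul_finset (a := π) ht0⟩
    have : (π • ·) '' S = S := Set.eq_of_subset_of_ncard_le hmaps
      (by rw [Set.ncard_image_of_injective _ (MulAction.injective π)]) (Set.toFinite _)
    obtain ⟨B, hB, e⟩ := this.symm.subset ⟨hA, hAn, hA0⟩
    exact ⟨B, hB.1, e⟩
  have hone : ∀ o ∈ octads, π • o ∈ supports (golayCode : Set (GolayPt → ZMod 2)) ∨
      symmDiff (π • o) {none, some 0} ∈ supports (golayCode : Set (GolayPt → ZMod 2)) := by
    intro o ho
    refine mem_or_mem_of_even fun A hA hAn hA0 => ?_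
    obtain ⟨B, hB, rfl⟩ := hsurj A hA hAn hA0
    rw [← Finset.smul_finset_inter, hperm]
    exact even_inter_octads ho.1 hB.1
  -- the points `none` and `some 0` cannot behave differently
  have hcons : ∀ o ∈ octads, ∀ o' ∈ octads,
      π • o ∈ supports (golayCode : Set (GolayPt → ZMod 2)) →
      symmDiff (π • o') {none, some 0} ∈ supports (golayCode : Set (GolayPt → ZMod 2)) →
      ((none : GolayPt) ∈ o ↔ (some 0 : GolayPt) ∈ o) := by
    intro o ho o' ho' h1 h2
    have he := even_inter_octads h2 h1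
    have he' : Even (π • o' ∩ π • o).card := by
      rw [← Finset.smul_finset_inter, hperm]; exact even_inter_octads ho'.1 ho.1
    rw [even_inter_symmDiff] at he
    have h3 : Even (({none, some 0} : Finset GolayPt) ∩ π • o).card := he.1 he'
    have m1 : (none : GolayPt) ∈ π • o ↔ (none : GolayPt) ∈ o := by
      conv_lhs => rw [← hn]
      exact Finset.smul_mem_smul_finset_iff π
    have m2 : (some 0 : GolayPt) ∈ π • o ↔ (some 0 : GolayPt) ∈ o := by
      conv_lhs => rw [← h0]
      exact Finset.smul_mem_smul_finset_iff π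
    rw [← m1, ← m2]
    by_cases a : (none : GolayPt) ∈ π • o <;> by_cases b : (some 0 : GolayPt) ∈ π • o <;>
      simp [Finset.insert_inter_of_mem, Finset.insert_inter_of_notMem, a, b] at h3 ⊢
  set o₁ := setOfMask (spanMask 11) with ho₁
  have ho₁o : o₁ ∈ octads := by
    rw [ho₁, mem_octads_iff, maskOf_setOfMask (by decide +kernel)]; decide +kernel
  have ho₁n : (none : GolayPt) ∈ o₁ ∧ (some 0 : GolayPt) ∉ o₁ := by decide +kernel
  -- it suffices to treat the octads through exactly one of the two points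
  have reduce : ∀ ρ : Equiv.Perm GolayPt,
      (∀ o ∈ octads, (none : GolayPt) ∈ o → ρ • o ∈ supports (golayCode : Set (GolayPt → ZMod 2))) →
      ρ ∈ M24 := by
    intro ρ hρ
    refine mem_M24_of_octads fun o ho => ⟨?_, by rw [Finset.card_smul_finset, ho.2]⟩
    by_cases hno : (none : GolayPt) ∈ o
    · exact hρ o ho hno
    obtain ⟨q, hq, hqc⟩ := Finset.exists_subset_card_eq (s := o) (n := 4) (by rw [ho.2]; norm_num)
    have hnq : (none : GolayPt) ∉ q := fun e => hno (hq e)
    obtain ⟨A, hA, hqA⟩ := exists_octad_of_five (s := insert none q)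
      (by rw [Finset.card_insert_of_notMem hnq, hqc])
    have hnA : (none : GolayPt) ∈ A := hqA (Finset.mem_insert_self _ _)
    have h4 : (o ∩ A).card = 4 := by
      have hle : 4 ≤ (o ∩ A).card := hqc ▸ Finset.card_le_card
        (Finset.subset_inter hq ((Finset.subset_insert _ _).trans hqA))
      have hne : o ≠ A := fun e => hno (e ▸ hnA)
      rcases Design.inter24 (by decide +kernel) octads_steiner ho hA hne with e | e | e <;> omega
    have hB : symmDiff o A ∈ octads := Uniq.symmDiff_block24 (by decide +kernel) octads_steiner ho hA h4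
    have hnB : (none : GolayPt) ∈ symmDiff o A := by
      rw [Finset.mem_symmDiff]; exact Or.inr ⟨hnA, hno⟩
    have e : ρ • o = symmDiff (ρ • symmDiff o A) (ρ • A) := by
      rw [← Finset.smul_finset_symmDiff, symmDiff_symmDiff_cancel_right]
    rw [e]
    exact symmDiff_mem_supports (hρ _ hB hnB) (hρ A hA hnA)
  rcases hone o₁ ho₁o with hA | hA
  · left
    refine reduce π fun o ho hno => ?_
    by_cases ho0 : (some 0 : GolayPt) ∈ o
    · exact (hboth o ho hno ho0).1
    · refine (hone o ho).resolve_right fun h2 => ?_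
      exact ho₁n.2 ((hcons o₁ ho₁o o ho hA h2).1 ho₁n.1)
  · right
    refine reduce _ fun o ho hno => ?_
    have hsw : ∀ u : Finset GolayPt, ((none : GolayPt) ∈ u ↔ (some 0 : GolayPt) ∈ u) →
        Equiv.swap (none : GolayPt) (some 0) • u = u := by
      intro u hu
      ext z
      rw [← Finset.inv_smul_mem_iff, Equiv.swap_inv, Equiv.Perm.smul_def, Equiv.swap_apply_def]
      split_ifs with a b
      · rw [a]; exact hu.symm
      · rw [b]; exact hu
      · rfl
    rw [mul_smul]
    by_cases ho0 : (some 0 : GolayPt) ∈ o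
    · rw [hsw]
      · exact (hboth o ho hno ho0).1
      · exact iff_of_true (hn ▸ Finset.smul_mem_smul_finset (a := π) hno)
          (h0 ▸ Finset.smul_mem_smul_finset (a := π) ho0)
    · have h2 : symmDiff (π • o) {none, some 0} ∈ supports (golayCode : Set (GolayPt → ZMod 2)) :=
        (hone o ho).resolve_left fun h1 => ho0 ((hcons o ho o₁ ho₁o h1 hA).1 hno)
      have e : Equiv.swap (none : GolayPt) (some 0) • (π • o) = symmDiff (π • o) {none, some 0} := by
        have a : (none : GolayPt) ∈ π • o := hn ▸ Finset.smul_mem_smul_finset (a := π) hno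
        have b : (some 0 : GolayPt) ∉ π • o := by
          rw [← h0]; exact fun hh => ho0 ((Finset.smul_mem_smul_finset_iff π).1 hh)
        ext z
        rw [← Finset.inv_smul_mem_iff, Equiv.swap_inv, Equiv.Perm.smul_def, Equiv.swap_apply_def,
          Finset.mem_symmDiff]
        simp only [Finset.mem_insert, Finset.mem_singleton]
        split_ifs with c d
        · subst c; simp [a, b]
        · subst d; simp [a, b]
        · simp [c, d]
      rwa [e]

/-! ### the outer automorphism group -/

theorem mem_M22 {x : Equiv.Perm GolayPt} :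
    x ∈ Spor.M22 ↔ x ∈ M24 ∧ x none = none ∧ x (some 0) = some 0 :=
  ⟨fun ⟨⟨a, b⟩, c⟩ => ⟨a, b, c⟩, fun ⟨a, b, c⟩ => ⟨⟨a, b⟩, c⟩⟩

/-- Every automorphism is conjugation by an element of M24 that stabilises the pair. -/
theorem aut_conj (φ : MulAut ↥Spor.M22) :
    ∃ h : Equiv.Perm GolayPt, h ∈ M24 ∧
      ((h none = none ∧ h (some 0) = some 0) ∨ (h none = some 0 ∧ h (some 0) = none)) ∧
      ∀ g : ↥Spor.M22, (φ g : Equiv.Perm GolayPt) = h * g * h⁻¹ := by
  classical
  let α := {z : GolayPt // z ≠ none ∧ z ≠ some 0}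
  let : MulAction ↥Spor.M22 α :=
    { smul := fun g z => ⟨(g : Equiv.Perm GolayPt) z.1,
        fun e => z.2.1 ((g : Equiv.Perm GolayPt).injective (e.trans (mem_M22.1 g.2).2.1.symm)),
        fun e => z.2.2 ((g : Equiv.Perm GolayPt).injective (e.trans (mem_M22.1 g.2).2.2.symm))⟩
      one_smul := fun z => Subtype.ext rfl
      mul_smul := fun g h z => Subtype.ext rfl }
  let ι : ↥Spor.M22 →* ↥M24 := Subgroup.inclusion (inf_le_left.trans inf_le_left)
  have hι : Function.Injective ι := Subgroup.inclusion_injective _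
  have hrange : ι.range ≤ stabilizer ↥M24 (none : GolayPt) ⊓ stabilizer ↥M24 (some 0 : GolayPt) := by
    rintro _ ⟨h, rfl⟩; exact ⟨(mem_M22.1 h.2).2.1, (mem_M22.1 h.2).2.2⟩
  have hstab : ∀ a : α, (stabilizer ↥Spor.M22 a).map ι =
      stabilizer ↥M24 (none : GolayPt) ⊓ stabilizer ↥M24 (some 0 : GolayPt) ⊓ stabilizer ↥M24 a.1 := by
    intro a
    ext g
    constructor
    · rintro ⟨h, hh, rfl⟩
      exact ⟨hrange ⟨h, rfl⟩, congrArg Subtype.val (show h • a = a from hh)⟩
    · rintro ⟨⟨h1, h2⟩, h3⟩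
      exact ⟨⟨g.1, mem_M22.2 ⟨g.2, h1, h2⟩⟩, Subtype.ext h3, rfl⟩
  have htrans : ∀ a b : α, ∃ g : ↥Spor.M22, g • a = b := by
    intro a b
    obtain ⟨g, hg⟩ := exists_map_list (xs := [none, some 0, a.1]) (ys := [none, some 0, b.1])
      (by simp [a.2.1.symm, a.2.2.symm]) (by simp [b.2.1.symm, b.2.2.symm]) rfl (by simp)
    simp only [List.map_cons, List.map_nil, List.cons.injEq, and_true] at hg
    exact ⟨⟨g.1, mem_M22.2 ⟨g.2, hg.1, hg.2.1⟩⟩, Subtype.ext hg.2.2⟩
  have hcard : ∀ a : α, Nat.card ↥(stabilizer ↥Spor.M22 a) = 20160 := by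
    intro a
    have : MulAction.IsPretransitive ↥Spor.M22 α := ⟨htrans⟩
    have h := (stabilizer ↥Spor.M22 a).card_mul_index
    rw [index_stabilizer_of_transitive, card_sporM22] at h
    have hα : Nat.card α = 22 := by
      rw [Nat.card_eq_fintype_card]; decide
    rw [hα] at h
    omega
  have hsep : ∀ a b : α, stabilizer ↥Spor.M22 a = stabilizer ↥Spor.M22 b → a = b := by
    intro a b e
    by_contra hne
    have hne' : a.1 ≠ b.1 := fun h => hne (Subtype.ext h)
    obtain ⟨c, hc⟩ : ∃ c, c ∉ ({none, some 0, a.1, b.1} : Finset GolayPt) :=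
      (Finset.exists_mem_notMem_of_card_lt_card (s := ({none, some 0, a.1, b.1} : Finset GolayPt))
        (t := Finset.univ) (Finset.card_le_four.trans_lt (by decide))).imp fun c hc => hc.2
    simp only [Finset.mem_insert, Finset.mem_singleton, not_or] at hc
    obtain ⟨g, hg⟩ := exists_map_list (xs := [none, some 0, a.1, b.1]) (ys := [none, some 0, a.1, c])
      (by simp [a.2.1.symm, a.2.2.symm, b.2.1.symm, b.2.2.symm, hne'])
      (by simp [a.2.1.symm, a.2.2.symm, Ne.symm hc.1, Ne.symm hc.2.1, Ne.symm hc.2.2.1]) rfl (by simp)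
    simp only [List.map_cons, List.map_nil, List.cons.injEq, and_true] at hg
    have hmem : (⟨g.1, mem_M22.2 ⟨g.2, hg.1, hg.2.1⟩⟩ : ↥Spor.M22) ∈ stabilizer ↥Spor.M22 a :=
      Subtype.ext hg.2.2.1
    rw [e] at hmem
    exact hc.2.2.2 (hg.2.2.2.symm.trans (congrArg Subtype.val hmem))
  obtain ⟨π, hπ⟩ := exists_perm φ hsep (fun a => by
    set K := (stabilizer ↥Spor.M22 a).map φ.toMonoidHom with hK
    have hKc : Nat.card K = 20160 := by rw [hK, Subgroup.card_map_of_injective φ.injective, hcard]
    obtain ⟨b, hbn, hb0, hb⟩ := eq_stabilizer_of_card_M22 (K.map ι)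
      ((Subgroup.map_le_range ι _).trans hrange) (by rw [Subgroup.card_map_of_injective hι, hKc])
    refine ⟨⟨b, hbn, hb0⟩, Subgroup.eq_of_le_of_card_ge (fun x hx => ?_) ?_⟩
    · exact Subtype.ext (hb ⟨x, hx, rfl⟩)
    · rw [hKc, hcard])
  let τ : Equiv.Perm GolayPt := Equiv.Perm.ofSubtype π
  have hτn : τ none = none := Equiv.Perm.ofSubtype_apply_of_not_mem π (by simp)
  have hτ0 : τ (some 0) = some 0 := Equiv.Perm.ofSubtype_apply_of_not_mem π (by simp)
  have hτ : ∀ z : α, τ z.1 = (π z).1 := fun z => Equiv.Perm.ofSubtype_apply_coe π z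
  have hconj : ∀ g : ↥Spor.M22, (φ g : Equiv.Perm GolayPt) = τ * g * τ⁻¹ := by
    intro g
    rw [eq_mul_inv_iff_mul_eq]
    ext z : 1
    simp only [Equiv.Perm.mul_apply]
    by_cases hz : z = none ∨ z = some 0
    · rcases hz with rfl | rfl
      · rw [hτn, (mem_M22.1 (φ g).2).2.1, (mem_M22.1 g.2).2.1, hτn]
      · rw [hτ0, (mem_M22.1 (φ g).2).2.2, (mem_M22.1 g.2).2.2, hτ0]
    · rw [not_or] at hz
      have := congrArg Subtype.val (hπ g ⟨z, hz⟩)
      rw [show τ z = (π ⟨z, hz⟩).1 from hτ ⟨z, hz⟩,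
        show (g : Equiv.Perm GolayPt) z = (g • (⟨z, hz⟩ : α)).1 from rfl, hτ]
      exact this.symm
  have hnorm : ∀ σ ∈ M24, σ none = none → σ (some 0) = some 0 → τ⁻¹ * σ * τ ∈ M24 := by
    intro σ hσ hσn hσ0
    have := hconj (φ.symm ⟨σ, mem_M22.2 ⟨hσ, hσn, hσ0⟩⟩)
    rw [φ.apply_symm_apply] at this
    have e : τ⁻¹ * σ * τ = (φ.symm ⟨σ, mem_M22.2 ⟨hσ, hσn, hσ0⟩⟩ : ↥Spor.M22).1 := by
      conv_lhs => rw [show σ = _ from this]
      group
    rw [e]; exact (mem_M22.1 (φ.symm ⟨σ, mem_M22.2 ⟨hσ, hσn, hσ0⟩⟩).2).1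
  rcases mem_or_mem_of_normalizes hτn hτ0 hnorm with h | h
  · exact ⟨τ, h, Or.inl ⟨hτn, hτ0⟩, hconj⟩
  · refine ⟨_, h, Or.inr ⟨?_, ?_⟩, fun g => ?_⟩
    · rw [Equiv.Perm.mul_apply, hτn, Equiv.swap_apply_left]
    · rw [Equiv.Perm.mul_apply, hτ0, Equiv.swap_apply_right]
    · have hcomm : Equiv.swap (none : GolayPt) (some 0) * (φ g : Equiv.Perm GolayPt) =
          (φ g : Equiv.Perm GolayPt) * Equiv.swap (none : GolayPt) (some 0) := by
        ext z : 1
        simp only [Equiv.Perm.mul_apply]
        obtain ⟨-, e1, e2⟩ := mem_M22.1 (φ g).2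
        rcases eq_or_ne z none with rfl | z1
        · rw [e1, Equiv.swap_apply_left, e2]
        rcases eq_or_ne z (some 0) with rfl | z2
        · rw [e2, Equiv.swap_apply_right, e1]
        rw [Equiv.swap_apply_of_ne_of_ne z1 z2, Equiv.swap_apply_of_ne_of_ne
          (fun e => z1 ((φ g : Equiv.Perm GolayPt).injective (e.trans e1.symm)))
          (fun e => z2 ((φ g : Equiv.Perm GolayPt).injective (e.trans e2.symm)))]
      rw [mul_inv_rev, Equiv.swap_inv]
      calc (φ g : Equiv.Perm GolayPt)
          = (φ g : Equiv.Perm GolayPt) * Equiv.swap none (some 0) * Equiv.swap none (some 0) := by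
            rw [mul_assoc, Equiv.swap_mul_self, mul_one]
        _ = Equiv.swap none (some 0) * (φ g : Equiv.Perm GolayPt) * Equiv.swap none (some 0) := by
            rw [hcomm]
        _ = _ := by rw [hconj g]; group

theorem card_out : Nat.card (Cfsg.Out ↥Spor.M22) = 2 := by
  obtain ⟨g, hg1, hg2⟩ := exists_map_two (p := (none : GolayPt)) (q := some 0) (p' := some 0)
    (q' := none) (by simp) (by simp)
  obtain ⟨-, hnorm, houter⟩ := CfsgLib.ThreeTrans.M24Sub.pair_stab g.2 hg1 hg2
  have hnorm' : ∀ x ∈ Spor.M22, (g : Equiv.Perm GolayPt)⁻¹ * x * g ∈ Spor.M22 := by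
    intro x hx
    obtain ⟨a, b, c⟩ := mem_M22.1 hx
    refine mem_M22.2 ⟨mul_mem (mul_mem (inv_mem g.2) a) g.2, ?_, ?_⟩
    · show (g : Equiv.Perm GolayPt).symm (x ((g : Equiv.Perm GolayPt) none)) = none
      rw [show (g : Equiv.Perm GolayPt) none = some 0 from hg1, c, Equiv.symm_apply_eq]
      exact hg1.symm
    · show (g : Equiv.Perm GolayPt).symm (x ((g : Equiv.Perm GolayPt) (some 0))) = some 0
      rw [show (g : Equiv.Perm GolayPt) (some 0) = none from hg2, b, Equiv.symm_apply_eq]
      exact hg2.symm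
  let ψ : MulAut ↥Spor.M22 :=
    { toFun := fun x => ⟨g * x * (g : Equiv.Perm GolayPt)⁻¹, hnorm x x.2⟩
      invFun := fun x => ⟨(g : Equiv.Perm GolayPt)⁻¹ * x * g, hnorm' x x.2⟩
      left_inv := fun x => Subtype.ext (by group)
      right_inv := fun x => Subtype.ext (by group)
      map_mul' := fun x y => Subtype.ext (by simp [mul_assoc]) }
  have hψ : ψ ∉ Cfsg.Inn ↥Spor.M22 := by
    rintro ⟨h, hh⟩
    exact houter ⟨h, h.2, fun x hx => (congrArg (fun f : MulAut ↥Spor.M22 => (f ⟨x, hx⟩ : Equiv.Perm GolayPt)) hh).symm⟩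
  refine Nat.card_eq_two_iff.2 ⟨1, QuotientGroup.mk ψ, fun e => hψ ?_, Set.eq_univ_of_forall fun a => ?_⟩
  · exact (QuotientGroup.eq_one_iff ψ).1 e.symm
  · induction a using QuotientGroup.induction_on with | H φ =>
    obtain ⟨h, hM, hcases, hφ⟩ := aut_conj φ
    rcases hcases with ⟨a, b⟩ | ⟨a, b⟩
    · exact Or.inl ((QuotientGroup.eq_one_iff φ).2 ⟨⟨h, mem_M22.2 ⟨hM, a, b⟩⟩,
        MulEquiv.ext fun x => Subtype.ext (hφ x).symm⟩)
    · refine Or.inr (QuotientGroup.eq.2 ⟨⟨h⁻¹ * (g : Equiv.Perm GolayPt), mem_M22.2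
        ⟨mul_mem (inv_mem hM) g.2, ?_, ?_⟩⟩, MulEquiv.ext fun x => Subtype.ext ?_⟩)
      · show h.symm ((g : Equiv.Perm GolayPt) none) = none
        rw [show (g : Equiv.Perm GolayPt) none = some 0 from hg1, Equiv.symm_apply_eq, a]
      · show h.symm ((g : Equiv.Perm GolayPt) (some 0)) = some 0
        rw [show (g : Equiv.Perm GolayPt) (some 0) = none from hg2, Equiv.symm_apply_eq, b]
      · have key := hφ (φ.symm (ψ x))
        rw [φ.apply_symm_apply] at key
        show h⁻¹ * (g : Equiv.Perm GolayPt) * x * (h⁻¹ * (g : Equiv.Perm GolayPt))⁻¹ = (φ⁻¹ (ψ x) : ↥Spor.M22)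
        have key' : (g : Equiv.Perm GolayPt) * x * (g : Equiv.Perm GolayPt)⁻¹ = _ := key
        calc _ = h⁻¹ * ((g : Equiv.Perm GolayPt) * x * (g : Equiv.Perm GolayPt)⁻¹) * h := by group
          _ = _ := by rw [key']; simp [mul_assoc]

end CfsgLib.Sporadic.M22Aut
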