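import Cfsg.Agent.Lib.Sporadic.CodeUnique
import Cfsg.Agent.Lib.Sporadic.Design
import Cfsg.Agent.Lib.Sporadic.Simple
import Cfsg.Prelude.Def_Sporadic

/-!
# Uniqueness of `S(5,8,24)` and `S(4,7,23)` through their codes
-/

set_option autoImplicit false

namespace CfsgLib.Sporadic.Uniq

open Cfsg Module CfsgLib.Sporadic.Design
open scoped Pointwise

local notation "F₂" => ZMod 2

section Family

variable {β : Type*} [Fintype β] [DecidableEq β]

omit [DecidableEq β] in
theorem ind_support₂ [DecidableEq β] (w : β → F₂) : ind (support₂ w) = w := by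
  funext x
  have h01 : w x = 0 ∨ w x = 1 := by generalize w x = v; revert v; decide
  rcases h01 with h | h <;> simp [ind, support₂, h]

theorem support₂_ind (s : Finset β) : support₂ (ind s) = s := by
  ext x; simp [ind, support₂]

omit [Fintype β] in
theorem ind_injective : Function.Injective (ind : Finset β → β → F₂) := fun s t e => by
  ext x
  have := congrFun e x
  simp only [ind] at this
  by_cases h1 : x ∈ s <;> by_cases h2 : x ∈ t <;> simp_all

theorem norm_add_dvd {s t : Finset β} (hs : 4 ∣ s.card) (ht : 4 ∣ t.card) (h : Even (s ∩ t).card) :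
    4 ∣ (symmDiff s t).card := by
  have := card_symmDiff' s t
  obtain ⟨a, ha⟩ := h
  omega

/-- The code of a family. -/
def span (G : Set (Finset β)) : Submodule F₂ (β → F₂) := Submodule.span F₂ (ind '' G)

omit [Fintype β] in
theorem ind_mem_span {G : Set (Finset β)} {b : Finset β} (hb : b ∈ G) : ind b ∈ span G :=
  Submodule.subset_span ⟨b, hb, rfl⟩

/-- A family of eight-subsets meeting evenly that no small set meets evenly spans a good code. -/
theorem good_span (h24 : Fintype.card β = 24) {G : Set (Finset β)} (h8 : ∀ b ∈ G, b.card = 8)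
    (heven : ∀ b ∈ G, ∀ c ∈ G, Even (b ∩ c).card)
    (hsmall : ∀ s : Finset β, 1 ≤ s.card → s.card ≤ 7 → ∃ b ∈ G, Odd (b ∩ s).card) :
    Good (span G) := by
  classical
  let B : LinearMap.BilinForm F₂ (β → F₂) := Matrix.toBilin' (1 : Matrix β β F₂)
  have hB : ∀ a b, B a b = ∑ i, a i * b i := fun a b => by
    simp [B, Matrix.toBilin'_apply, Matrix.one_apply]
  have hBnd : B.Nondegenerate :=
    LinearMap.BilinForm.nondegenerate_toBilin'_of_det_ne_zero' _ (by simp)
  have horth1 : ∀ b ∈ G, ∀ w ∈ span G, B (ind b) w = 0 := by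
    intro b hb w hw
    induction hw using Submodule.span_induction with
    | mem x hx =>
      obtain ⟨c, hc, rfl⟩ := hx
      rw [hB, sum_ind, ZMod.natCast_eq_zero_iff_even]
      exact heven b hb c hc
    | zero => exact map_zero _
    | add x y _ _ hx hy => rw [map_add, hx, hy, add_zero]
    | smul a x _ hx => rw [map_smul, hx, smul_zero]
  have horth : ∀ v ∈ span G, ∀ w ∈ span G, B v w = 0 := by
    intro v hv w hw
    induction hv using Submodule.span_induction with
    | mem x hx =>
      obtain ⟨b, hb, rfl⟩ := hx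
      exact horth1 b hb w hw
    | zero => simp
    | add x y _ _ hx hy => rw [map_add, LinearMap.add_apply, hx, hy, add_zero]
    | smul a x _ hx => rw [map_smul, LinearMap.smul_apply, hx, smul_zero]
  have hfour : ∀ w ∈ span G, 4 ∣ hammingNorm w := by
    intro w hw
    induction hw using Submodule.span_induction with
    | mem x hx =>
      obtain ⟨b, hb, rfl⟩ := hx
      rw [norm_ind, h8 b hb]; norm_num
    | zero => rw [hammingNorm_zero]; exact dvd_zero _
    | add x y hx' hy' hx hy =>
      obtain ⟨s, rfl⟩ := exists_ind x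
      obtain ⟨t, rfl⟩ := exists_ind y
      rw [← ind_symmDiff, norm_ind]
      rw [norm_ind] at hx hy
      refine norm_add_dvd hx hy ?_
      rw [← ZMod.natCast_eq_zero_iff_even, ← sum_ind, ← hB]
      exact horth _ hx' _ hy'
    | smul a x _ hx =>
      rcases (by revert a; decide : ∀ a : F₂, a = 0 ∨ a = 1) a with e | e <;> subst e
      · rw [zero_smul, hammingNorm_zero]; exact dvd_zero _
      · rwa [one_smul]
  let P := B.orthogonal (span G)
  have hle : span G ≤ P := fun c hc w hw => horth w hw c hc
  have hmin : ∀ s : Finset β, ind s ∈ P → s.card = 0 ∨ 8 ≤ s.card := by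
    intro s hs
    by_contra hne
    obtain ⟨b, hb, hodd⟩ := hsmall s (by omega) (by omega)
    have h0 : B (ind b) (ind s) = 0 := hs (ind b) (ind_mem_span hb)
    rw [hB, sum_ind, ZMod.natCast_eq_zero_iff_even] at h0
    exact Nat.not_odd_iff_even.2 h0 hodd
  have hsum : finrank F₂ P = 24 - finrank F₂ (span G) := by
    rw [LinearMap.BilinForm.finrank_orthogonal hBnd, finrank_fintype_fun_eq_card, h24]
  have hPle : finrank F₂ P ≤ 12 := by
    let S : Finset (Finset β) := (Finset.univ : Finset (Finset β)).filter fun u => u.card ≤ 3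
    have hS : 2048 < S.card := by
      have hsub : (Finset.univ.powersetCard 3 : Finset (Finset β)) ∪ Finset.univ.powersetCard 2 ⊆ S := by
        intro u hu
        simp only [Finset.mem_union, Finset.mem_powersetCard] at hu
        simp only [S, Finset.mem_filter, Finset.mem_univ, true_and]
        omega
      refine lt_of_lt_of_le ?_ (Finset.card_le_card hsub)
      rw [Finset.card_union_of_disjoint, Finset.card_powersetCard, Finset.card_powersetCard,
        Finset.card_univ, h24]
      · decide
      · rw [Finset.disjoint_left]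
        intro u h1 h2
        rw [Finset.mem_powersetCard] at h1 h2
        omega
    have hinj : Set.InjOn (fun u => (Submodule.Quotient.mk (ind u) : (β → F₂) ⧸ P)) S := by
      intro u hu v hv e
      simp only [S, Finset.coe_filter, Finset.mem_univ, true_and, Set.mem_ofPred_eq] at hu hv
      have hd := (Submodule.Quotient.eq P).1 e
      rw [ZModModule.sub_eq_add, ← ind_symmDiff] at hd
      have hc := card_symmDiff' u v
      rcases hmin _ hd with h0 | h0
      · rwa [Finset.card_eq_zero, Finset.symmDiff_eq_empty] at h0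
      · omega
    have hcard : S.card ≤ Nat.card ((β → F₂) ⧸ P) := by
      haveI : Fintype ((β → F₂) ⧸ P) := Fintype.ofFinite _
      rw [Nat.card_eq_fintype_card, ← Finset.card_univ]
      exact Finset.card_le_card_of_injOn _ (fun _ _ => Finset.mem_coe.2 (Finset.mem_univ _)) hinj
    rw [Module.natCard_eq_pow_finrank (K := F₂), Nat.card_zmod] at hcard
    have hq := Submodule.finrank_quotient_add_finrank P
    rw [finrank_fintype_fun_eq_card, h24] at hq
    by_contra hgt
    have h2 : 2 ^ finrank F₂ ((β → F₂) ⧸ P) ≤ 2 ^ 11 := Nat.pow_le_pow_right (by norm_num) (by omega)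
    omega
  have hmono := Submodule.finrank_mono hle
  refine ⟨h24, by omega, fun v hv w hw => by rw [← hB]; exact horth v hv w hw, hfour, fun w hw h4 => ?_⟩
  obtain ⟨s, rfl⟩ := exists_ind w
  rw [norm_ind] at h4
  rcases hmin s (hle hw) with h | h <;> omega

end Family

/-! ### the bound -/

variable {α : Type*} [Fintype α] [DecidableEq α]

theorem choose_one_add (j : ℕ) : 1 + (j + 1).choose 2 ≤ (j + 1) + (j + 1).choose 3 := by
  have a : (j + 1).choose 2 = j.choose 1 + j.choose 2 := Nat.choose_succ_succ' j 1
  have b : (j + 1).choose 3 = j.choose 2 + j.choose 3 := Nat.choose_succ_succ' j 2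
  rw [Nat.choose_one_right] at a
  omega

omit [Fintype α] in
theorem sum_choose_inter (A : Finset (Finset α)) (s : Finset α) (i l : ℕ)
    (hl : ∀ u ⊆ s, u.card = i → (A.filter (u ⊆ ·)).card = l) :
    ∑ b ∈ A, (b ∩ s).card.choose i = l * s.card.choose i := by
  have : ∀ b, (b ∩ s).card.choose i = ∑ u ∈ s.powersetCard i, if u ⊆ b then 1 else 0 := fun b => by
    rw [← Finset.card_filter, ← Finset.card_powersetCard]
    congr 1
    ext u
    simp only [Finset.mem_powersetCard, Finset.mem_filter, Finset.subset_inter_iff]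
    tauto
  simp only [this]
  rw [Finset.sum_comm, Finset.sum_congr rfl (g := fun _ => l) fun u hu => by
      rw [← Finset.card_filter]
      exact hl u (Finset.mem_powersetCard.1 hu).1 (Finset.mem_powersetCard.1 hu).2,
    Finset.sum_const, Finset.card_powersetCard, smul_eq_mul, mul_comm]

omit [Fintype α] in
/-- Truncated inclusion and exclusion for a set met by every member. -/
theorem cover_bound (A : Finset (Finset α)) (s : Finset α) (l1 l2 l3 : ℕ)
    (h1 : ∀ u ⊆ s, u.card = 1 → (A.filter (u ⊆ ·)).card = l1)
    (h2 : ∀ u ⊆ s, u.card = 2 → (A.filter (u ⊆ ·)).card = l2)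
    (h3 : ∀ u ⊆ s, u.card = 3 → (A.filter (u ⊆ ·)).card = l3)
    (hmeet : ∀ b ∈ A, (b ∩ s).Nonempty) :
    A.card + l2 * s.card.choose 2 ≤ l1 * s.card + l3 * s.card.choose 3 := by
  have e1 := sum_choose_inter A s 1 l1 h1
  simp only [Nat.choose_one_right] at e1
  rw [← e1, ← sum_choose_inter A s 2 l2 h2, ← sum_choose_inter A s 3 l3 h3, Finset.card_eq_sum_ones,
    ← Finset.sum_add_distrib, ← Finset.sum_add_distrib]
  refine Finset.sum_le_sum fun b hb => ?_
  obtain ⟨j, hj⟩ := Nat.exists_eq_add_of_le' (Finset.card_pos.2 (hmeet b hb))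
  rw [hj]
  exact choose_one_add j

variable {B : Set (Finset α)}

theorem filter_above {u v : Finset α} : (above B u).filter (v ⊆ ·) = above B (u ∪ v) := by
  ext b
  simp only [Finset.mem_filter, mem_above, Finset.union_subset_iff]
  tauto

theorem card_above24 (hα : Fintype.card α = 24) (hB : IsSteinerSystem 5 8 B) {s : Finset α}
    (hs : s.card ≤ 5) : (above B s).card = [759, 253, 77, 21, 5, 1].getD s.card 0 := by
  refine card_above_le hB hs ?_ (Nat.choose_pos (by omega))
  rw [hα]
  interval_cases s.card <;> decide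

theorem card_above23 (hα : Fintype.card α = 23) (hB : IsSteinerSystem 4 7 B) {s : Finset α}
    (hs : s.card ≤ 4) : (above B s).card = [253, 77, 21, 5, 1].getD s.card 0 := by
  refine card_above_le hB hs ?_ (Nat.choose_pos (by omega))
  rw [hα]
  interval_cases s.card <;> decide

theorem above_empty : above B (∅ : Finset α) = blocks B := by
  ext b; simp [mem_above, mem_blocks]

theorem ncard24 (hα : Fintype.card α = 24) (hB : IsSteinerSystem 5 8 B) : B.ncard = 759 := by
  rw [← card_blocks, ← above_empty, card_above24 hα hB (by simp)]; rfl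

theorem ncard23 (hα : Fintype.card α = 23) (hB : IsSteinerSystem 4 7 B) : B.ncard = 253 := by
  rw [← card_blocks, ← above_empty, card_above23 hα hB (by simp)]; rfl

theorem exists_odd24 (hα : Fintype.card α = 24) (hB : IsSteinerSystem 5 8 B) (s : Finset α)
    (h1 : 1 ≤ s.card) (h7 : s.card ≤ 7) : ∃ b ∈ B, Odd (b ∩ s).card := by
  by_contra hne
  push Not at hne
  obtain ⟨x, hx⟩ := Finset.card_pos.1 h1
  have hcu : ∀ u ⊆ s.erase x, u.card ≤ 4 → (((above B {x})).filter (u ⊆ ·)).card =
      [759, 253, 77, 21, 5, 1].getD (1 + u.card) 0 := fun u hu h4 => by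
    have hxu : x ∉ u := fun h => Finset.notMem_erase x s (hu h)
    have hc : ({x} ∪ u).card = 1 + u.card := by
      rw [Finset.card_union_of_disjoint (Finset.disjoint_singleton_left.2 hxu), Finset.card_singleton]
    rw [filter_above, card_above24 hα hB (by omega), hc]
  have hb := cover_bound (above B {x}) (s.erase x) 77 21 5
    (fun u hu h => by rw [hcu u hu (by omega), h]; rfl)
    (fun u hu h => by rw [hcu u hu (by omega), h]; rfl)
    (fun u hu h => by rw [hcu u hu (by omega), h]; rfl)
    (fun b hb => by
      rw [mem_above, Finset.singleton_subset_iff] at hb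
      have he := Nat.not_odd_iff_even.1 (hne b hb.1)
      rw [Finset.inter_erase, ← Finset.card_pos, Finset.card_erase_of_mem (Finset.mem_inter.2 ⟨hb.2, hx⟩)]
      have : 0 < (b ∩ s).card := Finset.card_pos.2 ⟨x, Finset.mem_inter.2 ⟨hb.2, hx⟩⟩
      obtain ⟨k, hk⟩ := he
      omega)
  rw [card_above24 hα hB (by simp), Finset.card_singleton, Finset.card_erase_of_mem hx] at hb
  change 253 + _ ≤ _ at hb
  revert hb
  generalize hm : s.card - 1 = m
  have : m ≤ 6 := by omega
  interval_cases m <;> decide

/-- Any `S(5,8,24)` maps onto the octads. -/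
theorem steiner24 (hα : Fintype.card α = 24) (hB : IsSteinerSystem 5 8 B) :
    ∃ e : α ≃ GolayPt, (fun b : Finset α => b.image e) '' B = octads := by
  have hgood : Good (span B) := good_span hα hB.1 (fun b hb c hc => by
      by_cases h : b = c
      · subst h; rw [Finset.inter_self, hB.1 b hb]; decide
      · rcases inter24 hα hB hb hc h with e | e | e <;> rw [e] <;> decide)
    (exists_odd24 hα hB)
  obtain ⟨e, he⟩ := code_unique hgood
  refine ⟨e, Set.eq_of_subset_of_ncard_le ?_ ?_ (Set.toFinite _)⟩
  · rintro _ ⟨b, hb, rfl⟩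
    refine ⟨⟨ind (b.image e), (he _).2 ?_, support₂_ind _⟩, ?_⟩
    · convert ind_mem_span hb using 1
      funext i
      simp [ind]
    · rw [Finset.card_image_of_injective _ e.injective, hB.1 b hb]
  · rw [octads_ncard, Set.ncard_image_of_injective _ (Finset.image_injective e.injective), ncard24 hα hB]

theorem iso_symm {β γ : Type*} [DecidableEq β] [DecidableEq γ] {B : Set (Finset α)}
    {B' : Set (Finset β)} {S : Set (Finset γ)} (e : α ≃ γ) (e' : β ≃ γ)
    (h : (fun b : Finset α => b.image e) '' B = S) (h' : (fun b : Finset β => b.image e') '' B' = S) :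
    SetSystemIso B B' := by
  refine ⟨e.trans e'.symm, ?_⟩
  have : (fun b : Finset α => b.image (e.trans e'.symm)) =
      (fun c : Finset γ => c.image e'.symm) ∘ (fun b : Finset α => b.image e) := by
    funext b; simp [Finset.image_image, Function.comp_def]
  rw [this, Set.image_comp, h, ← h', ← Set.image_comp]
  convert Set.image_id B' using 2
  simp [Finset.image_image, Function.comp_def]

theorem symmDiff_block24 (hα : Fintype.card α = 24) (hB : IsSteinerSystem 5 8 B) {b c : Finset α}
    (hb : b ∈ B) (hc : c ∈ B) (h4 : (b ∩ c).card = 4) : symmDiff b c ∈ B := by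
  obtain ⟨e, he⟩ := steiner24 hα hB
  have h1 : b.image e ∈ octads := he ▸ ⟨b, hb, rfl⟩
  have h2 : c.image e ∈ octads := he ▸ ⟨c, hc, rfl⟩
  have h3 : (symmDiff b c).image e ∈ octads := by
    refine ⟨?_, ?_⟩
    · rw [Finset.image_symmDiff _ _ e.injective]
      exact symmDiff_mem_supports h1.1 h2.1
    · rw [Finset.card_image_of_injective _ e.injective]
      have := card_symmDiff' b c
      rw [hB.1 b hb, hB.1 c hc, h4] at this
      omega
  rw [← he] at h3
  obtain ⟨d, hd, ed⟩ := h3
  rwa [← Finset.image_injective e.injective ed]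

/-! ### automorphism groups -/

variable {β : Type*} [DecidableEq β]

theorem map_setSystemAut (e : α ≃ β) {B' : Set (Finset β)}
    (h : (fun b : Finset α => b.image e) '' B = B') :
    (setSystemAut B).map e.permCongrHom.toMonoidHom = setSystemAut B' := by
  have hinj : Function.Injective (fun b : Finset α => b.image e) := Finset.image_injective e.injective
  have hcomm : ∀ (σ : Equiv.Perm α) (b : Finset α),
      e.permCongrHom σ • b.image e = (σ • b).image e := fun σ b => by
    rw [Finset.smul_finset_def, Finset.smul_finset_def, Finset.image_image, Finset.image_image]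
    refine Finset.image_congr fun x _ => ?_
    simp [Equiv.permCongrHom, Equiv.permCongr_apply]
  have hiff : ∀ σ : Equiv.Perm α, e.permCongrHom σ ∈ setSystemAut B' ↔ σ ∈ setSystemAut B := fun σ => by
    rw [MulAction.mem_stabilizer_iff, MulAction.mem_stabilizer_iff, ← h, ← Set.image_smul,
      ← Set.image_comp, ← Set.image_smul]
    rw [← hinj.image_injective.eq_iff, ← Set.image_comp]
    simp only [Function.comp_def, hcomm]
  ext τ
  rw [Subgroup.mem_map]
  constructor
  · rintro ⟨σ, hσ, rfl⟩; exact (hiff σ).2 hσ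
  · intro hτ
    obtain ⟨σ, rfl⟩ := e.permCongrHom.surjective τ
    exact ⟨σ, (hiff σ).1 hτ, rfl⟩

/-- Transport of automorphism groups. -/
noncomputable def autEquiv (e : α ≃ β) {B' : Set (Finset β)}
    (h : (fun b : Finset α => b.image e) '' B = B') : setSystemAut B ≃* setSystemAut B' :=
  (e.permCongrHom.subgroupMap (setSystemAut B)).trans (MulEquiv.subgroupCongr (map_setSystemAut e h))

theorem pretransitive_transport (e : α ≃ β) {B' : Set (Finset β)}
    (h : (fun b : Finset α => b.image e) '' B = B') {n : ℕ}
    (ht : MulAction.IsMultiplyPretransitive (setSystemAut B') β n) :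
    MulAction.IsMultiplyPretransitive (setSystemAut B) α n := by
  rw [MulAction.isMultiplyPretransitive_iff]
  intro x y
  obtain ⟨⟨τ, hτ⟩, hg⟩ := MulAction.isMultiplyPretransitive_iff.1 ht
    (x.trans e.toEmbedding) (y.trans e.toEmbedding)
  rw [← map_setSystemAut e h] at hτ
  obtain ⟨σ, hσ, rfl⟩ := Subgroup.mem_map.1 hτ
  refine ⟨⟨σ, hσ⟩, Function.Embedding.ext fun i => e.injective ?_⟩
  have := congrArg (fun f : Fin n ↪ β => f i) hg
  simpa [Function.Embedding.smul_apply, Equiv.permCongrHom, Equiv.permCongr_apply, Subgroup.smul_def] using this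

theorem aut24 (hα : Fintype.card α = 24) (hB : IsSteinerSystem 5 8 B) :
    IsM24 (setSystemAut B) ∧ MulAction.IsMultiplyPretransitive (setSystemAut B) α 5 := by
  obtain ⟨e, he⟩ := steiner24 hα hB
  let E : setSystemAut B ≃* ↥M24 := (autEquiv e he).trans (MulEquiv.subgroupCongr M24_eq_octad_aut.symm)
  refine ⟨⟨isSimple_congr E.symm M24_isSimple, by rw [Nat.card_congr E.toEquiv, M24_card]⟩, ?_⟩
  exact pretransitive_transport e he (M24_eq_octad_aut ▸ M24_five_transitive)

/-! ### one point removed -/

/-- The heptads. -/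
def heptads : Set (Finset (ZMod 23)) := {c | Finset.insertNone c ∈ octads}

theorem heptads_steiner : IsSteinerSystem 4 7 heptads := by
  refine ⟨fun c hc => by have := (hc : Finset.insertNone c ∈ octads).2; rw [Finset.card_insertNone] at this; omega, fun s hs => ?_⟩
  obtain ⟨o, ⟨ho, hso⟩, huniq⟩ := octads_steiner.2 (Finset.insertNone s) (by rw [Finset.card_insertNone, hs])
  have hn : none ∈ o := hso (Finset.none_mem_insertNone)
  have eo : Finset.insertNone (Finset.eraseNone o) = o := by
    rw [Finset.insertNone_eraseNone, Finset.insert_eq_of_mem hn]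
  refine ⟨Finset.eraseNone o, ⟨?_, fun x hx => Finset.mem_eraseNone.2 (hso (Finset.some_mem_insertNone.2 hx))⟩,
    fun c ⟨hc, hsc⟩ => ?_⟩
  · show Finset.insertNone _ ∈ octads
    rwa [eo]
  · rw [← huniq (Finset.insertNone c) ⟨hc, Finset.insertNone.monotone hsc⟩, Finset.eraseNone_insertNone]

theorem insertNone_inter {γ : Type*} [DecidableEq γ] (b c : Finset γ) :
    Finset.insertNone b ∩ Finset.insertNone c = Finset.insertNone (b ∩ c) := by
  ext o; cases o <;> simp

theorem insertNone_inter_right {γ : Type*} [DecidableEq γ] (b : Finset γ) (s : Finset (Option γ)) :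
    (Finset.insertNone b ∩ s).card = (b ∩ Finset.eraseNone s).card + if none ∈ s then 1 else 0 := by
  have h : Finset.eraseNone (Finset.insertNone b ∩ s) = b ∩ Finset.eraseNone s := by ext x; simp
  rw [← h]
  by_cases hn : none ∈ s
  · rw [Finset.card_eraseNone_of_mem (Finset.mem_inter.2 ⟨Finset.none_mem_insertNone, hn⟩), if_pos hn]
    have : 0 < (Finset.insertNone b ∩ s).card :=
      Finset.card_pos.2 ⟨none, Finset.mem_inter.2 ⟨Finset.none_mem_insertNone, hn⟩⟩
    omega
  · rw [Finset.card_eraseNone_eq_card_erase, Finset.erase_eq_self.2 fun h => hn (Finset.mem_inter.1 h).2, if_neg hn, Nat.add_zero]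

theorem exists_odd23 (hα : Fintype.card α = 23) (hB : IsSteinerSystem 4 7 B) (s : Finset (Option α))
    (h1 : 1 ≤ s.card) (h7 : s.card ≤ 7) : ∃ b ∈ Finset.insertNone '' B, Odd (b ∩ s).card := by
  by_contra hne
  push Not at hne
  have hev : ∀ b ∈ B, Even ((b ∩ Finset.eraseNone s).card + if none ∈ s then 1 else 0) := fun b hb => by
    rw [← insertNone_inter_right]
    exact Nat.not_odd_iff_even.1 (hne _ ⟨b, hb, rfl⟩)
  set s' := Finset.eraseNone s with hs'
  by_cases hn : none ∈ s
  · have hc : s'.card = s.card - 1 := Finset.card_eraseNone_of_mem hn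
    have hcu : ∀ u ⊆ s', u.card ≤ 4 → ((blocks B).filter (u ⊆ ·)).card =
        [253, 77, 21, 5, 1].getD u.card 0 := fun u _ h4 => by
      rw [← card_above23 hα hB h4]; rfl
    have hb := cover_bound (blocks B) s' 77 21 5
      (fun u hu h => by rw [hcu u hu (by omega), h]; rfl)
      (fun u hu h => by rw [hcu u hu (by omega), h]; rfl)
      (fun u hu h => by rw [hcu u hu (by omega), h]; rfl)
      (fun b hb => by
        obtain ⟨k, hk⟩ := hev b (mem_blocks.1 hb)
        rw [if_pos hn] at hk
        exact Finset.card_pos.1 (by omega))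
    rw [card_blocks, ncard23 hα hB] at hb
    revert hb
    generalize hm : s'.card = m
    have : m ≤ 6 := by omega
    interval_cases m <;> decide
  · have hc : s'.card = s.card := by rw [hs', Finset.card_eraseNone_eq_card_erase, Finset.erase_eq_self.2 hn]
    obtain ⟨x, hx⟩ := Finset.card_pos.1 (by omega : 0 < s'.card)
    have hcu : ∀ u ⊆ s'.erase x, u.card ≤ 3 → (((above B {x})).filter (u ⊆ ·)).card =
        [253, 77, 21, 5, 1].getD (1 + u.card) 0 := fun u hu h4 => by
      have hxu : x ∉ u := fun h => Finset.notMem_erase x s' (hu h)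
      have hc : ({x} ∪ u).card = 1 + u.card := by
        rw [Finset.card_union_of_disjoint (Finset.disjoint_singleton_left.2 hxu), Finset.card_singleton]
      rw [filter_above, card_above23 hα hB (by omega), hc]
    have hb := cover_bound (above B {x}) (s'.erase x) 21 5 1
      (fun u hu h => by rw [hcu u hu (by omega), h]; rfl)
      (fun u hu h => by rw [hcu u hu (by omega), h]; rfl)
      (fun u hu h => by rw [hcu u hu (by omega), h]; rfl)
      (fun b hb => by
        rw [mem_above, Finset.singleton_subset_iff] at hb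
        obtain ⟨k, hk⟩ := hev b hb.1
        rw [if_neg hn] at hk
        rw [Finset.inter_erase, ← Finset.card_pos, Finset.card_erase_of_mem (Finset.mem_inter.2 ⟨hb.2, hx⟩)]
        have : 0 < (b ∩ s').card := Finset.card_pos.2 ⟨x, Finset.mem_inter.2 ⟨hb.2, hx⟩⟩
        omega)
    rw [card_above23 hα hB (by simp), Finset.card_singleton, Finset.card_erase_of_mem hx] at hb
    change 77 + _ ≤ _ at hb
    revert hb
    generalize hm : s'.card - 1 = m
    have : m ≤ 6 := by omega
    interval_cases m <;> decide

theorem good23 (hα : Fintype.card α = 23) (hB : IsSteinerSystem 4 7 B) :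
    Good (span (Finset.insertNone '' B)) := by
  refine good_span (by rw [Fintype.card_option, hα]) ?_ ?_ (exists_odd23 hα hB)
  · rintro _ ⟨b, hb, rfl⟩
    rw [Finset.card_insertNone, hB.1 b hb]
  · rintro _ ⟨b, hb, rfl⟩ _ ⟨c, hc, rfl⟩
    rw [insertNone_inter, Finset.card_insertNone]
    by_cases h : b = c
    · subst h; rw [Finset.inter_self, hB.1 b hb]; decide
    · rcases inter23 hα hB hb hc h with e | e <;> rw [e] <;> decide

theorem map_insertNone {γ : Type*} [DecidableEq γ] (e : α ≃ γ) (b : Finset α) :
    (Finset.insertNone b).image e.optionCongr = Finset.insertNone (b.image e) := by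
  ext o; cases o <;> simp

/-- Any `S(4,7,23)` maps onto the heptads. -/
theorem steiner23 (hα : Fintype.card α = 23) (hB : IsSteinerSystem 4 7 B) :
    ∃ e : α ≃ ZMod 23, (fun b : Finset α => b.image e) '' B = heptads := by
  obtain ⟨e₀, he⟩ := code_unique (good23 hα hB)
  obtain ⟨g, hg⟩ := exists_map_list (xs := [e₀ none]) (ys := [none]) (by simp) (by simp) rfl (by simp)
  simp only [List.map_cons, List.map_nil, List.cons.injEq, and_true] at hg
  let e' : Option α ≃ GolayPt := e₀.trans g.1
  let e : α ≃ ZMod 23 := Equiv.removeNone e'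
  have he'n : e' none = none := hg
  have hsome : ∀ a, e' (some a) = some (e a) := fun a =>
    (Equiv.removeNone_some e' (Option.ne_none_iff_exists'.1 fun h =>
      Option.some_ne_none a (e'.injective (h.trans he'n.symm)))).symm
  have himg : ∀ b : Finset α, Finset.insertNone (b.image e) = g.1 • (Finset.insertNone b).image e₀ := by
    intro b
    rw [Finset.smul_finset_def, Finset.image_image, ← map_insertNone]
    refine Finset.image_congr fun o _ => ?_
    cases o with
    | none => exact he'n.symm
    | some a => exact (hsome a).symm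
  refine ⟨e, Set.eq_of_subset_of_ncard_le ?_ ?_ (Set.toFinite _)⟩
  · rintro _ ⟨b, hb, rfl⟩
    show Finset.insertNone _ ∈ octads
    rw [himg, smul_mem_octads g.2]
    refine ⟨⟨ind ((Finset.insertNone b).image e₀), (he _).2 ?_, support₂_ind _⟩, ?_⟩
    · convert ind_mem_span (G := Finset.insertNone '' B) ⟨b, hb, rfl⟩ using 1
      funext i
      simp [ind]
    · rw [Finset.card_image_of_injective _ e₀.injective, Finset.card_insertNone, hB.1 b hb]
  · rw [ncard23 (ZMod.card 23) heptads_steiner, Set.ncard_image_of_injective _ (Finset.image_injective e.injective),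
      ncard23 hα hB]

theorem finrank_golay : finrank F₂ golayCode = 12 := by
  have hc : Nat.card golayCode = 4096 := by
    refine (Nat.card_eq_of_bijective (fun k : Fin 4096 => (⟨wordOf (enc k),
      mem_golayCode_iff.2 ⟨k, k.2, rfl⟩⟩ : golayCode)) ⟨fun a b h => ?_, fun w => ?_⟩).symm.trans (Nat.card_fin _)
    · exact Fin.ext (enc_inj a.2 b.2 (wordOf_inj (enc_lt a.2) (enc_lt b.2) (congrArg Subtype.val h)))
    · obtain ⟨k, hk, hw⟩ := mem_golayCode_iff.1 w.2
      exact ⟨⟨k, hk⟩, Subtype.ext hw⟩
  rw [Module.natCard_eq_pow_finrank (K := F₂), Nat.card_zmod] at hc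
  exact Nat.pow_right_injective (le_refl 2) (hc.trans (by norm_num : (4096 : ℕ) = 2 ^ 12))

theorem span_heptads : span (Finset.insertNone '' heptads) = golayCode := by
  refine Submodule.eq_of_le_of_finrank_eq (Submodule.span_le.2 ?_) ?_
  · rintro _ ⟨_, ⟨c, hc, rfl⟩, rfl⟩
    obtain ⟨w, hw, e⟩ := (hc : Finset.insertNone c ∈ octads).1
    rw [← e, ind_support₂]
    exact hw
  · rw [finrank_golay, (good23 (ZMod.card 23) heptads_steiner).dim]

theorem optionCongr_mem {σ : Equiv.Perm (ZMod 23)} (hσ : σ ∈ setSystemAut heptads) :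
    (σ.optionCongr : Equiv.Perm GolayPt) ∈ M24 := by
  let σ' : Equiv.Perm GolayPt := σ.optionCongr
  let L : (GolayPt → F₂) ≃ₗ[F₂] (GolayPt → F₂) := LinearEquiv.funCongrLeft F₂ F₂ σ'.symm
  have hsm : ∀ c : Finset (ZMod 23), Finset.insertNone (σ • c) = σ' • Finset.insertNone c := fun c => by
    rw [Finset.smul_finset_def, Finset.smul_finset_def]
    exact (map_insertNone σ c).symm
  have hL : ∀ w ∈ golayCode, L w ∈ golayCode := by
    rw [← span_heptads]
    intro w hw
    induction hw using Submodule.span_induction with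
    | mem x hx =>
      obtain ⟨_, ⟨c, hc, rfl⟩, rfl⟩ := hx
      have hσc : σ • c ∈ heptads := by
        rw [← MulAction.mem_stabilizer_iff.1 hσ]; exact Set.smul_mem_smul_set hc
      convert ind_mem_span (G := Finset.insertNone '' heptads) ⟨_, hσc, rfl⟩ using 1
      funext o
      show ind (Finset.insertNone c) (σ'.symm o) = _
      simp only [ind]
      refine if_congr ?_ rfl rfl
      rw [hsm, ← Finset.inv_smul_mem_iff]
      rfl
    | zero => rw [map_zero]; exact Submodule.zero_mem _
    | add x y _ _ hx hy => rw [map_add]; exact Submodule.add_mem _ hx hy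
    | smul a x _ hx => rw [map_smul]; exact Submodule.smul_mem _ a hx
  show σ' • supports (golayCode : Set (GolayPt → F₂)) = supports (golayCode : Set (GolayPt → F₂))
  refine Set.eq_of_subset_of_ncard_le ?_
    (by rw [← Set.image_smul, Set.ncard_image_of_injective _ (MulAction.injective σ')]) (Set.toFinite _)
  rintro _ ⟨_, ⟨w, hw, rfl⟩, rfl⟩
  refine ⟨L w, hL w hw, ?_⟩
  ext o
  simp only [support₂, Finset.mem_filter, Finset.mem_univ, true_and, ← Finset.inv_smul_mem_iff]
  rfl

theorem optionCongr_iff {σ : Equiv.Perm (ZMod 23)} :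
    (σ.optionCongr : Equiv.Perm GolayPt) ∈ M24 ↔ σ ∈ setSystemAut heptads := by
  refine ⟨fun h => ?_, optionCongr_mem⟩
  show σ • heptads = heptads
  refine Set.eq_of_subset_of_ncard_le ?_
    (by rw [← Set.image_smul, Set.ncard_image_of_injective _ (MulAction.injective σ)]) (Set.toFinite _)
  rintro _ ⟨c, hc, rfl⟩
  show Finset.insertNone (σ • c) ∈ octads
  rw [Finset.smul_finset_def, show c.image (σ • ·) = c.image σ from rfl, ← map_insertNone]
  exact (smul_mem_octads h).2 hc

/-- Extending by `none`. -/
def stabNoneHom : setSystemAut heptads →* MulAction.stabilizer ↥M24 (none : GolayPt) where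
  toFun σ := ⟨⟨σ.1.optionCongr, optionCongr_mem σ.2⟩, MulAction.mem_stabilizer_iff.2 rfl⟩
  map_one' := Subtype.ext (Subtype.ext Equiv.optionCongr_refl)
  map_mul' σ τ := Subtype.ext (Subtype.ext (Equiv.optionCongr_trans τ.1 σ.1))

/-- The stabiliser of `none` as a group of the residues. -/
noncomputable def stabNoneEquiv : setSystemAut heptads ≃* MulAction.stabilizer ↥M24 (none : GolayPt) :=
  MulEquiv.ofBijective stabNoneHom
    ⟨fun σ τ h => Subtype.ext (Equiv.optionCongr_injective (congrArg (fun g => g.1.1) h)), fun g => by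
      have hn : g.1.1 none = none := MulAction.mem_stabilizer_iff.1 g.2
      have he : (Equiv.removeNone g.1.1).optionCongr = g.1.1 := Equiv.ext fun o => by
        cases o with
        | none => exact hn.symm
        | some a =>
          exact Equiv.removeNone_some g.1.1 (Option.ne_none_iff_exists'.1 fun h =>
            Option.some_ne_none a (g.1.1.injective (h.trans hn.symm)))
      exact ⟨⟨Equiv.removeNone g.1.1, optionCongr_iff.1 (he.symm ▸ g.1.2)⟩, Subtype.ext (Subtype.ext he)⟩⟩

theorem aut23 (hα : Fintype.card α = 23) (hB : IsSteinerSystem 4 7 B) :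
    IsM23 (setSystemAut B) ∧ MulAction.IsMultiplyPretransitive (setSystemAut B) α 4 := by
  obtain ⟨e, he⟩ := steiner23 hα hB
  let E := (autEquiv e he).trans stabNoneEquiv
  refine ⟨⟨isSimple_congr E.symm (M23_isSimple none), by rw [Nat.card_congr E.toEquiv, card_stab_point]⟩, ?_⟩
  refine pretransitive_transport e he ?_
  rw [MulAction.isMultiplyPretransitive_iff]
  intro x y
  let up : (Fin 4 ↪ ZMod 23) → (Fin 5 ↪ GolayPt) := fun f =>
    ⟨Fin.cons none (fun i => some (f i)), Fin.cons_injective_iff.2
      ⟨by rintro ⟨i, hi⟩; exact Option.some_ne_none _ hi,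
       fun i j h => f.injective (Option.some_injective _ h)⟩⟩
  obtain ⟨g, hg, hgi⟩ := exists_map_five_five (up x) (up y)
  have hn : g none = none := hgi 0
  let s := stabNoneEquiv.symm ⟨⟨g, hg⟩, MulAction.mem_stabilizer_iff.2 hn⟩
  refine ⟨s, Function.Embedding.ext fun i => Option.some_injective _ ?_⟩
  have hs : s.1.optionCongr = g := by
    have := congrArg (fun z : MulAction.stabilizer ↥M24 (none : GolayPt) => z.1.1)
      (stabNoneEquiv.apply_symm_apply ⟨⟨g, hg⟩, MulAction.mem_stabilizer_iff.2 hn⟩)
    exact this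
  show some (s.1 (x i)) = some (y i)
  exact (congrArg (fun z : Equiv.Perm GolayPt => z (some (x i))) hs).trans (hgi i.succ)

end CfsgLib.Sporadic.Uniq
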