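import Cfsg.Agent.Lib.Sporadic.MathieuDefectZero
import Cfsg.Agent.Lib.Sporadic.Maximal
import Cfsg.Agent.Lib.Sporadic.SteinerUnique
import Cfsg.Prelude.Def_KGroupFacts

/-!
# M23 and M24 have only inner automorphisms

Sylow counting shows that the subgroups of index 24 in M24 and of index 23 in M23 are the point
stabilisers, so an automorphism is induced by a permutation of the points; such a permutation
preserves the octads.
-/

set_option autoImplicit false

namespace CfsgLib.Sporadic.MathieuAut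

open Cfsg MulAction CfsgLib.Sporadic
open scoped Pointwise

/-! ### Sylow counting -/

/-- No subgroup of order `q * m` when the order `q * d` of the normalizer of the Sylow `q`-subgroup
forces a number of Sylow subgroups not congruent to one. -/
theorem no_subgroup {G : Type*} [Group G] [Finite G] {q d m : ℕ} [Fact q.Prime] {x : G}
    (hx : orderOf x = q) (hq2 : ¬ q ^ 2 ∣ Nat.card G)
    (hN : Nat.card (Subgroup.normalizer (Subgroup.zpowers x : Set G)) = q * d)
    (hbad : ∀ j n, j * n = m → j ∣ d → n % q ≠ 1) (K : Subgroup G) :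
    Nat.card K ≠ q * m := by
  classical
  intro hK
  have hq := (Fact.out : q.Prime)
  obtain ⟨y, hy⟩ := exists_prime_orderOf_dvd_card' (G := ↥K) q (hK ▸ dvd_mul_right q m)
  have hy' : orderOf (y : G) = q := by rw [Subgroup.orderOf_coe, hy]
  have hqm : ¬ q ^ 2 ∣ Nat.card K := fun h => hq2 (h.trans (Subgroup.card_subgroup_dvd_card K))
  have syl : ∀ {H : Type _} [Group H] [Finite H] (z : H), orderOf z = q → ¬ q ^ 2 ∣ Nat.card H →
      ∃ S : Sylow q H, (S : Subgroup H) = Subgroup.zpowers z := by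
    intro H _ _ z hz hH
    have hP : Nat.card (Subgroup.zpowers z) = q := by rw [Nat.card_zpowers, hz]
    have hfac : (Nat.card H).factorization q = 1 := by
      have h1 : 1 ≤ (Nat.card H).factorization q :=
        hq.factorization_pos_of_dvd Nat.card_pos.ne' (hP ▸ Subgroup.card_subgroup_dvd_card _)
      have h2 : (Nat.card H).factorization q < 2 := by
        by_contra hc
        exact hH ((pow_dvd_pow q (not_lt.1 hc)).trans (Nat.ordProj_dvd _ q))
      omega
    exact ⟨Sylow.ofCard (Subgroup.zpowers z)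
      (show Nat.card (Subgroup.zpowers z) = _ by rw [hP, hfac, pow_one]), rfl⟩
  obtain ⟨S, hS⟩ := syl x hx hq2
  obtain ⟨T, hT⟩ := syl (y : G) hy' hq2
  obtain ⟨U, hU⟩ := syl y hy hqm
  obtain ⟨g, hg⟩ := MulAction.exists_smul_eq G S T
  have hNT : Nat.card (Subgroup.normalizer ((T : Subgroup G) : Set G)) = q * d := by
    rw [← hg, ← hN, ← hS]
    have : (Subgroup.normalizer ((S : Subgroup G) : Set G)).index =
        (Subgroup.normalizer (((g • S : Sylow q G) : Subgroup G) : Set G)).index :=
      (Sylow.card_eq_index_normalizer S).symm.trans (Sylow.card_eq_index_normalizer (g • S))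
    have e1 := (Subgroup.normalizer ((S : Subgroup G) : Set G)).card_mul_index
    have e2 := (Subgroup.normalizer (((g • S : Sylow q G) : Subgroup G) : Set G)).card_mul_index
    rw [← this, ← e1] at e2
    exact Nat.eq_of_mul_eq_mul_right (Nat.pos_of_ne_zero Subgroup.index_ne_zero_of_finite) e2
  have hle : (Subgroup.normalizer ((U : Subgroup K) : Set K)).map K.subtype ≤
      Subgroup.normalizer ((T : Subgroup G) : Set G) := by
    refine (Subgroup.le_normalizer_map _).trans (le_of_eq ?_)
    rw [hU, hT, MonoidHom.map_zpowers]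
    rfl
  have hdvd : Nat.card (Subgroup.normalizer ((U : Subgroup K) : Set K)) ∣ q * d := by
    rw [← hNT, ← Subgroup.card_map_of_injective K.subtype_injective]
    exact Subgroup.card_dvd_of_le hle
  obtain ⟨j, hj⟩ : q ∣ Nat.card (Subgroup.normalizer ((U : Subgroup K) : Set K)) := by
    have h1 : Nat.card (U : Subgroup K) = q := by rw [hU, Nat.card_zpowers, hy]
    exact (dvd_of_eq h1.symm).trans (Subgroup.card_dvd_of_le Subgroup.le_normalizer)
  rw [hj] at hdvd
  have hn := card_sylow_modEq_one q K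
  rw [U.card_eq_index_normalizer, Nat.ModEq, Nat.mod_eq_of_lt hq.one_lt] at hn
  refine hbad j (Subgroup.normalizer ((U : Subgroup K) : Set K)).index ?_
    (Nat.dvd_of_mul_dvd_mul_left hq.pos hdvd) hn
  have := (Subgroup.normalizer ((U : Subgroup K) : Set K)).card_mul_index
  rw [hj, hK, mul_assoc] at this
  exact Nat.eq_of_mul_eq_mul_left hq.pos this

theorem no_card_425040 (K : Subgroup ↥M24) : Nat.card K ≠ 425040 := by
  have := Fact.mk (show Nat.Prime 11 by norm_num)
  obtain ⟨x, hx, -, hle⟩ := exists_x11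
  obtain ⟨j, hj⟩ : 11 ∣ Nat.card (Subgroup.normalizer (Subgroup.zpowers x : Set ↥M24)) := by
    have h1 : Nat.card (Subgroup.zpowers x) = 11 := by rw [Nat.card_zpowers, hx]
    exact (dvd_of_eq h1.symm).trans (Subgroup.card_dvd_of_le Subgroup.le_normalizer)
  have hq2 : ¬ 11 ^ 2 ∣ Nat.card ↥M24 := by rw [M24_card]; norm_num
  have hj10 : j = 10 := by
    obtain ⟨S, hS⟩ : ∃ S : Sylow 11 ↥M24, (S : Subgroup ↥M24) = Subgroup.zpowers x := by
      refine ⟨Sylow.ofCard (Subgroup.zpowers x) ?_, rfl⟩
      have h1 : (244823040 : ℕ).factorization 11 = 1 := by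
        rw [show (244823040 : ℕ) = 11 * 22256640 by norm_num, Nat.factorization_mul (by norm_num) (by norm_num),
          Finsupp.add_apply, (Fact.out : Nat.Prime 11).factorization_self,
          Nat.factorization_eq_zero_of_not_dvd (by norm_num)]
      rw [Nat.card_zpowers, hx, M24_card, h1, pow_one]
    have hn := card_sylow_modEq_one 11 ↥M24
    rw [S.card_eq_index_normalizer] at hn
    change (Subgroup.normalizer ((S : Subgroup ↥M24) : Set ↥M24)).index ≡ 1 [MOD 11] at hn
    rw [hS, Nat.ModEq] at hn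
    have := (Subgroup.normalizer (Subgroup.zpowers x : Set ↥M24)).card_mul_index
    rw [hj, M24_card] at this
    have hj' : j ≤ 10 := by omega
    interval_cases j <;> omega
  rw [show (425040 : ℕ) = 11 * 38640 by norm_num]
  refine no_subgroup hx hq2 (d := 10) (by rw [hj, hj10]) (fun i n hi hd => ?_) K
  have : i ≤ 10 := Nat.le_of_dvd (by norm_num) hd
  interval_cases i <;> omega

theorem no_card_36960 (K : Subgroup ↥Spor.M22) : Nat.card K ≠ 36960 := by
  have := Fact.mk (show Nat.Prime 7 by norm_num)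
  obtain ⟨x, hx, -, hle⟩ := exists_y7
  obtain ⟨j, hj⟩ : 7 ∣ Nat.card (Subgroup.normalizer (Subgroup.zpowers x : Set ↥Spor.M22)) := by
    have h1 : Nat.card (Subgroup.zpowers x) = 7 := by rw [Nat.card_zpowers, hx]
    exact (dvd_of_eq h1.symm).trans (Subgroup.card_dvd_of_le Subgroup.le_normalizer)
  have hq2 : ¬ 7 ^ 2 ∣ Nat.card ↥Spor.M22 := by rw [card_sporM22]; norm_num
  have hj3 : j = 3 := by
    obtain ⟨S, hS⟩ : ∃ S : Sylow 7 ↥Spor.M22, (S : Subgroup ↥Spor.M22) = Subgroup.zpowers x := by
      refine ⟨Sylow.ofCard (Subgroup.zpowers x) ?_, rfl⟩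
      have h1 : (443520 : ℕ).factorization 7 = 1 := by
        rw [show (443520 : ℕ) = 7 * 63360 by norm_num, Nat.factorization_mul (by norm_num) (by norm_num),
          Finsupp.add_apply, (Fact.out : Nat.Prime 7).factorization_self,
          Nat.factorization_eq_zero_of_not_dvd (by norm_num)]
      rw [Nat.card_zpowers, hx, card_sporM22, h1, pow_one]
    have hn := card_sylow_modEq_one 7 ↥Spor.M22
    rw [S.card_eq_index_normalizer] at hn
    change (Subgroup.normalizer ((S : Subgroup ↥Spor.M22) : Set ↥Spor.M22)).index ≡ 1 [MOD 7] at hn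
    rw [hS, Nat.ModEq] at hn
    have := (Subgroup.normalizer (Subgroup.zpowers x : Set ↥Spor.M22)).card_mul_index
    rw [hj, card_sporM22] at this
    have hj' : j ≤ 3 := by omega
    interval_cases j <;> omega
  rw [show (36960 : ℕ) = 7 * 5280 by norm_num]
  refine no_subgroup hx hq2 (d := 3) (by rw [hj, hj3]) (fun i n hi hd => ?_) K
  have : i ≤ 3 := Nat.le_of_dvd (by norm_num) hd
  interval_cases i <;> omega

/-! ### fixed points of elements of order 23 and 11 -/

theorem fixed_modEq {q : ℕ} [Fact q.Prime] {x : ↥M24} (hx : orderOf x = q)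
    (O : Finset GolayPt) (hO : ∀ z ∈ O, x • z ∈ O) :
    O.card ≡ (O.filter fun z => x • z = z).card [MOD q] := by
  classical
  let σ : Equiv.Perm {z // z ∈ O} := (x : Equiv.Perm GolayPt).subtypePerm (fun z => ⟨fun h => by
    have h' : ∀ k : ℕ, ∀ w ∈ O, (x ^ k) • w ∈ O := by
      intro k
      induction k with
      | zero => intro w hw; simpa using hw
      | succ k ih => intro w hw; rw [pow_succ, mul_smul]; exact ih _ (hO w hw)
    have hq := (Fact.out : q.Prime)
    have := h' (q - 1) _ h
    change (x ^ (q - 1)) • (x • z) ∈ O at this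
    rwa [← mul_smul, ← pow_succ, Nat.sub_add_cancel hq.one_le, ← hx, pow_orderOf_eq_one,
      one_smul] at this, fun h => hO z h⟩)
  have hσ : σ ^ q ^ 1 = 1 := by
    rw [pow_one]
    refine Equiv.ext fun z => Subtype.ext ?_
    rw [Equiv.Perm.subtypePerm_pow]
    show ((x : Equiv.Perm GolayPt) ^ q) z.1 = z.1
    rw [← Subgroup.coe_pow, ← hx, pow_orderOf_eq_one]
    rfl
  have h := Equiv.Perm.card_compl_support_modEq hσ
  rw [Fintype.card_coe] at h
  refine h.symm.trans (Eq.congr_right ?_ |>.1 (Nat.ModEq.refl _))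
  congr 1
  refine Finset.card_bij (fun z _ => z.1) (fun z hz => ?_) (fun a _ b _ e => Subtype.ext e)
    (fun z hz => ?_)
  · simp only [Finset.mem_compl, Equiv.Perm.mem_support, not_not] at hz
    exact Finset.mem_filter.2 ⟨z.2, congrArg Subtype.val hz⟩
  · obtain ⟨hzO, hz⟩ := Finset.mem_filter.1 hz
    refine ⟨⟨z, hzO⟩, ?_, rfl⟩
    simp only [Finset.mem_compl, Equiv.Perm.mem_support, not_not]
    exact Subtype.ext hz

theorem fixed_eleven {x : ↥M24} (hx : orderOf x = 11) :
    (Finset.univ.filter fun z : GolayPt => x • z = z).card = 2 := by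
  classical
  have := Fact.mk (show Nat.Prime 11 by norm_num)
  obtain ⟨y, hy, hyo, -⟩ := exists_prime_elt_M24 (q := 11) (k := 2)
    (px := 853578880230531206870209755574157781) (pg := 419783189053049315041144008537224801)
    (by decide +kernel)
  have hmoved : (Finset.univ.filter fun z : GolayPt => (y : Equiv.Perm GolayPt) z ≠ z).card = 22 :=
    (card_moved hy).trans (by decide +kernel)
  have hy2 : (Finset.univ.filter fun z : GolayPt => y • z = z).card = 2 := by
    have h := Finset.card_filter_add_card_filter_not (s := (Finset.univ : Finset GolayPt))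
      (fun z => (y : Equiv.Perm GolayPt) z = z)
    have hmoved' : (Finset.univ.filter fun z : GolayPt => ¬ (y : Equiv.Perm GolayPt) z = z).card = 22 :=
      by convert hmoved
    rw [Finset.card_univ, show Fintype.card GolayPt = 24 from rfl] at h
    change (Finset.univ.filter fun z : GolayPt => (y : Equiv.Perm GolayPt) z = z).card = 2
    omega
  have hfac : (244823040 : ℕ).factorization 11 = 1 := by
    rw [show (244823040 : ℕ) = 11 * 22256640 by norm_num, Nat.factorization_mul (by norm_num) (by norm_num),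
      Finsupp.add_apply, (Fact.out : Nat.Prime 11).factorization_self,
      Nat.factorization_eq_zero_of_not_dvd (by norm_num)]
  let S : Sylow 11 ↥M24 := Sylow.ofCard (Subgroup.zpowers x)
    (by rw [Nat.card_zpowers, hx, M24_card, hfac, pow_one])
  let T : Sylow 11 ↥M24 := Sylow.ofCard (Subgroup.zpowers y)
    (by rw [Nat.card_zpowers, hyo, M24_card, hfac, pow_one])
  obtain ⟨g, hg⟩ := MulAction.exists_smul_eq ↥M24 S T
  have hg' : (Subgroup.zpowers x).map (MulAut.conj g).toMonoidHom = Subgroup.zpowers y :=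
    congrArg Sylow.toSubgroup hg
  rw [MonoidHom.map_zpowers] at hg'
  have key : ∀ z : GolayPt, y • z = z ↔ x • g⁻¹ • z = g⁻¹ • z := by
    intro z
    have h1 : y ∈ stabilizer ↥M24 z ↔ (MulAut.conj g).toMonoidHom x ∈ stabilizer ↥M24 z := by
      rw [← Subgroup.zpowers_le, ← hg', Subgroup.zpowers_le]
    rw [mem_stabilizer_iff, mem_stabilizer_iff] at h1
    rw [h1]
    show (g * x * g⁻¹) • z = z ↔ _
    rw [mul_smul, mul_smul, smul_eq_iff_eq_inv_smul]
  rw [← hy2]
  refine Finset.card_bij (fun z _ => g • z) (fun z hz => ?_) (fun a _ b _ e => smul_left_cancel g e)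
    (fun z hz => ⟨g⁻¹ • z, ?_, smul_inv_smul g z⟩)
  · simp only [Finset.mem_filter, Finset.mem_univ, true_and] at hz ⊢
    rw [key, inv_smul_smul]; exact hz
  · simp only [Finset.mem_filter, Finset.mem_univ, true_and] at hz ⊢
    exact (key z).1 hz

/-! ### subgroups of index 24 and 23 -/

theorem orbit_card (H : Subgroup ↥M24) (a : GolayPt) :
    (orbit ↥H a).ncard * Nat.card ↥(H ⊓ stabilizer ↥M24 a) = Nat.card ↥H := by
  classical
  have e : Nat.card ↥(stabilizer ↥H a) = Nat.card ↥(H ⊓ stabilizer ↥M24 a) :=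
    Nat.card_congr
      { toFun := fun g => ⟨g.1.1, g.1.2, g.2⟩
        invFun := fun g => ⟨⟨g.1, g.2.1⟩, g.2.2⟩
        left_inv := fun _ => rfl
        right_inv := fun _ => rfl }
  rw [← e, ← Nat.card_coe_set_eq, ← Nat.card_prod]
  exact Nat.card_congr (MulAction.orbitProdStabilizerEquivGroup ↥H a)

theorem eq_stabilizer_of_card_M24 (H : Subgroup ↥M24) (h : Nat.card H = 10200960) :
    ∃ a : GolayPt, H = stabilizer ↥M24 a := by
  classical
  have := Fact.mk (show Nat.Prime 23 by norm_num)
  obtain ⟨y, hy⟩ := exists_prime_orderOf_dvd_card' (G := ↥H) 23 (by rw [h]; norm_num)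
  have hy' : orderOf (y : ↥M24) = 23 := by rw [Subgroup.orderOf_coe, hy]
  have hf := fixed_modEq hy' Finset.univ (fun _ _ => Finset.mem_univ _)
  obtain ⟨a, ha⟩ : (Finset.univ.filter fun z : GolayPt => (y : ↥M24) • z = z).Nonempty := by
    rw [← Finset.card_pos]
    rw [Finset.card_univ, show Fintype.card GolayPt = 24 from rfl, Nat.ModEq] at hf
    omega
  simp only [Finset.mem_filter, Finset.mem_univ, true_and] at ha
  set O := (orbit ↥H a).toFinset with hO
  have hOinv : ∀ z ∈ O, (y : ↥M24) • z ∈ O := fun z hz => by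
    rw [hO, Set.mem_toFinset] at hz ⊢
    exact mem_orbit_of_mem_orbit y hz
  have hOc := fixed_modEq hy' O hOinv
  have hf1 : (O.filter fun z => (y : ↥M24) • z = z).card = 1 := by
    have hmax : (Finset.univ.filter fun z : GolayPt => (y : ↥M24) • z = z).card ≤ 1 := by
      have hle : (Finset.univ.filter fun z : GolayPt => (y : ↥M24) • z = z).card ≤ 24 :=
        (Finset.card_le_univ _).trans le_rfl
      have hne : (Finset.univ.filter fun z : GolayPt => (y : ↥M24) • z = z).card ≠ 24 := by
        intro e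
        have hu := (Finset.eq_univ_iff_forall.1 (Finset.eq_univ_of_card _
          (e.trans (show (24 : ℕ) = Fintype.card GolayPt from rfl))))
        have : (y : ↥M24) = 1 := Subtype.ext (Equiv.ext fun z => (Finset.mem_filter.1 (hu z)).2)
        rw [this, orderOf_one] at hy'
        omega
      rw [Finset.card_univ, show Fintype.card GolayPt = 24 from rfl, Nat.ModEq] at hf
      omega
    refine le_antisymm ((Finset.card_le_card ?_).trans hmax) (Finset.card_pos.2 ⟨a, ?_⟩)
    · exact Finset.filter_subset_filter _ (Finset.subset_univ O)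
    · simp [hO, ha]
  have hle24 : O.card ≤ 24 := (Finset.card_le_univ O).trans le_rfl
  have hmul := orbit_card H a
  rw [h, Set.ncard_eq_toFinset_card', ← hO] at hmul
  refine ⟨a, ?_⟩
  rw [hf1, Nat.ModEq] at hOc
  have h124 : O.card = 1 ∨ O.card = 24 := by omega
  rcases h124 with e | e <;> rw [e] at hmul
  · have hle : H ⊓ stabilizer ↥M24 a = H :=
      Subgroup.eq_of_le_of_card_ge inf_le_left (by omega)
    exact Subgroup.eq_of_le_of_card_ge (inf_eq_left.1 hle) (by rw [card_stab_point, h])
  · exact absurd (by omega : Nat.card ↥(H ⊓ stabilizer ↥M24 a) = 425040) (no_card_425040 _)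

theorem eq_stabilizer_of_card_M23 (H : Subgroup ↥M24) (hH : H ≤ stabilizer ↥M24 (none : GolayPt))
    (h : Nat.card H = 443520) :
    ∃ a : GolayPt, a ≠ none ∧ H = stabilizer ↥M24 (none : GolayPt) ⊓ stabilizer ↥M24 a := by
  classical
  have := Fact.mk (show Nat.Prime 11 by norm_num)
  obtain ⟨y, hy⟩ := exists_prime_orderOf_dvd_card' (G := ↥H) 11 (by rw [h]; norm_num)
  have hy' : orderOf (y : ↥M24) = 11 := by rw [Subgroup.orderOf_coe, hy]
  have hf := fixed_eleven hy'
  have hnone : (none : GolayPt) ∈ Finset.univ.filter fun z : GolayPt => (y : ↥M24) • z = z :=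
    Finset.mem_filter.2 ⟨Finset.mem_univ _, hH y.2⟩
  obtain ⟨a, ha, hane⟩ := Finset.exists_mem_ne (by rw [hf]; norm_num) (none : GolayPt)
  have hpair : (Finset.univ.filter fun z : GolayPt => (y : ↥M24) • z = z) = {none, a} :=
    (Finset.eq_of_subset_of_card_le (by
      intro z hz
      simp only [Finset.mem_insert, Finset.mem_singleton] at hz
      rcases hz with rfl | rfl
      · exact hnone
      · exact ha) (by rw [hf, Finset.card_pair hane.symm])).symm
  set O := (orbit ↥H a).toFinset with hO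
  have hOinv : ∀ z ∈ O, (y : ↥M24) • z ∈ O := fun z hz => by
    rw [hO, Set.mem_toFinset] at hz ⊢
    exact mem_orbit_of_mem_orbit y hz
  have hOn : (none : GolayPt) ∉ O := by
    rw [hO, Set.mem_toFinset]
    rintro ⟨g, hg⟩
    exact hane (smul_left_cancel (g : ↥M24) (hg.trans (hH g.2).symm))
  have hOc := fixed_modEq hy' O hOinv
  have hf1 : (O.filter fun z => (y : ↥M24) • z = z).card = 1 := by
    rw [Finset.card_eq_one]
    refine ⟨a, Finset.eq_singleton_iff_unique_mem.2 ⟨?_, fun z hz => ?_⟩⟩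
    · simpa [hO] using (Finset.mem_filter.1 ha).2
    · obtain ⟨hzO, hz'⟩ := Finset.mem_filter.1 hz
      have : z ∈ ({none, a} : Finset GolayPt) := hpair ▸ Finset.mem_filter.2 ⟨Finset.mem_univ _, hz'⟩
      simp only [Finset.mem_insert, Finset.mem_singleton] at this
      rcases this with rfl | rfl
      · exact absurd hzO hOn
      · rfl
  have hle23 : O.card < 24 := Finset.card_lt_univ_of_notMem hOn
  have hmul := orbit_card H a
  rw [h, Set.ncard_eq_toFinset_card', ← hO] at hmul
  refine ⟨a, hane, ?_⟩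
  rw [hf1, Nat.ModEq] at hOc
  have h3 : O.card = 1 ∨ O.card = 12 ∨ O.card = 23 := by omega
  rcases h3 with e | e | e <;> rw [e] at hmul
  · have hle : H ⊓ stabilizer ↥M24 a = H :=
      Subgroup.eq_of_le_of_card_ge inf_le_left (by omega)
    refine Subgroup.eq_of_le_of_card_ge (le_inf hH (inf_eq_left.1 hle)) ?_
    rw [card_stab_two _ _ hane.symm, h]
  · exfalso
    have hS : Nat.card ↥(H ⊓ stabilizer ↥M24 a) = 36960 := by omega
    obtain ⟨g, hg1, hg2⟩ := exists_map_two (p := (none : GolayPt)) (q := a) (p' := none)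
      (q' := some 0) hane.symm (by simp)
    set K := (H ⊓ stabilizer ↥M24 a).map (MulAut.conj g).toMonoidHom with hK
    have hKle : K.map M24.subtype ≤ Spor.M22 := by
      rintro _ ⟨_, ⟨s, hs, rfl⟩, rfl⟩
      have e1 : (g * s * g⁻¹) • (none : GolayPt) = none := by
        rw [mul_smul, mul_smul, inv_smul_eq_iff.2 hg1.symm, show s • (none : GolayPt) = none from hH hs.1, hg1]
      have e2 : (g * s * g⁻¹) • (some 0 : GolayPt) = some 0 := by
        rw [mul_smul, mul_smul, inv_smul_eq_iff.2 hg2.symm, show s • a = a from hs.2, hg2]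
      exact ⟨⟨(g * s * g⁻¹).2, e1⟩, e2⟩
    refine no_card_36960 ((K.map M24.subtype).subgroupOf Spor.M22) ?_
    rw [Nat.card_congr (Subgroup.subgroupOfEquivOfLe hKle).toEquiv,
      Subgroup.card_map_of_injective M24.subtype_injective, hK,
      Subgroup.card_map_of_injective (MulAut.conj g).injective, hS]
  · omega

/-! ### octads -/

/-- A family of 8-sets, invariant under the stabiliser of a five-set containing a given point,
consists of octads if five-sets lie in at most one member. -/
theorem mem_octads_of_unique {F : Set (Finset GolayPt)} (K : Subgroup (Equiv.Perm GolayPt))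
    (p : GolayPt) (hK : ∀ σ ∈ M24, σ p = p → σ ∈ K) (hinv : ∀ σ ∈ K, ∀ s ∈ F, σ • s ∈ F)
    (hp : ∀ s ∈ F, p ∈ s) (h8 : ∀ s ∈ F, s.card = 8)
    (huniq : ∀ s ∈ F, ∀ t ∈ F, ∀ T : Finset GolayPt, T.card = 5 → p ∈ T → T ⊆ s → T ⊆ t → s = t)
    (hpt : p = pt 23) {s : Finset GolayPt} (hs : s ∈ F) : s ∈ octads := by
  classical
  obtain ⟨T', hT', hT'c⟩ := Finset.exists_subset_card_eq (s := s.erase p) (n := 4)
    (by rw [Finset.card_erase_of_mem (hp s hs), h8 s hs]; norm_num)
  let y : Fin 5 → GolayPt := Fin.cons p (fun i => ((T'.equivFinOfCardEq hT'c).symm i).1)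
  have hy : Function.Injective y := by
    refine Fin.cons_injective_iff.2 ⟨?_, fun i j e => (T'.equivFinOfCardEq hT'c).symm.injective (Subtype.ext e)⟩
    rintro ⟨i, hi⟩
    exact Finset.notMem_erase p s (hi ▸ hT' ((T'.equivFinOfCardEq hT'c).symm i).2)
  have hys : ∀ i, y i ∈ s := by
    intro i
    refine Fin.cases ?_ (fun j => ?_) i
    · exact hp s hs
    · exact Finset.mem_of_mem_erase (hT' ((T'.equivFinOfCardEq hT'c).symm j).2)
  obtain ⟨g, hg, hge⟩ := exists_map_five ⟨y, hy⟩
  have hgp : g p = p := by rw [hpt]; exact (hge 0).trans (by simp [y, hpt])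
  have hg' : g⁻¹ ∈ M24 := inv_mem hg
  have hgp' : g⁻¹ p = p := by rw [← Equiv.Perm.eq_inv_iff_eq.2 hgp]
  set u := g⁻¹ • s with hu
  have huF : u ∈ F := hinv _ (hK _ hg' hgp') s hs
  have hbase : ∀ c ∈ [3, 2, 1, 0, 23], pt c ∈ u := by
    intro c hc
    obtain ⟨i, hi⟩ : ∃ i : Fin 5, [23, 0, 1, 2, 3].getD (i : ℕ) 0 = c := by
      revert hc; revert c; decide
    rw [hu, Finset.mem_inv_smul_finset_iff]
    show g (pt c) ∈ s
    rw [← hi, hge i]; exact hys i
  have hstab : ∀ σ ∈ fixOf M24 [3, 2, 1, 0, 23], σ • u = u := by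
    intro σ hσ
    obtain ⟨hσ24, hσfix⟩ := mem_fixOf.1 hσ
    have hσp : σ p = p := by rw [hpt]; exact hσfix 23 (by simp)
    refine huniq _ (hinv _ (hK _ hσ24 hσp) u huF) u huF
      ({pt 3, pt 2, pt 1, pt 0, pt 23} : Finset GolayPt) (by decide) (by rw [hpt]; simp) ?_ ?_
    · intro z hz
      obtain ⟨c, hc, rfl⟩ : ∃ c ∈ [3, 2, 1, 0, 23], pt c = z := by simpa [eq_comm] using hz
      rw [← hσfix c hc]
      exact Finset.smul_mem_smul_finset (hbase c hc)
    · intro z hz
      obtain ⟨c, hc, rfl⟩ : ∃ c ∈ [3, 2, 1, 0, 23], pt c = z := by simpa [eq_comm] using hz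
      exact hbase c hc
  have hsub : u ⊆ setOfMask 8536111 := by
    intro x hx
    by_contra hxo
    have hx16 : x ∈ setOfMask 8241104 := by revert hxo; clear hx; revert x; decide +kernel
    have hK6 := m24Trans_mem m24Trans6 (by simp [m24Trans])
    obtain ⟨σ, hσ, hσx⟩ := exists_of_level level6 hK6 hx16
    have hpre : ∀ τ ∈ fixOf M24 [5, 3, 2, 1, 0, 23], τ • u = u := fun τ hτ =>
      hstab τ (mem_fixOf.2 ⟨(mem_fixOf.1 hτ).1, fun c hc => (mem_fixOf.1 hτ).2 c (by simp at hc ⊢; tauto)⟩)
    have h4 : pt 4 ∈ u := by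
      rw [← hpre σ hσ, ← hσx] at hx
      exact (Finset.smul_mem_smul_finset_iff σ).1 hx
    have hall : setOfMask 8241104 ⊆ u := by
      intro z hz
      obtain ⟨τ, hτ, hτz⟩ := exists_of_level level6 hK6 hz
      rw [← hpre τ hτ, ← hτz]
      exact Finset.smul_mem_smul_finset h4
    have := Finset.card_le_card hall
    rw [h8 u huF, card_setOfMask, show popc 8241104 = 16 by decide +kernel] at this
    omega
  have hu8 : u = setOfMask 8536111 :=
    Finset.eq_of_subset_of_card_le hsub (by
      rw [h8 u huF, card_setOfMask, show popc 8536111 = 8 by decide +kernel])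
  have hoct : u ∈ octads := by
    rw [hu8, mem_octads_iff, maskOf_setOfMask (by norm_num)]; decide +kernel
  rwa [hu, smul_mem_octads hg'] at hoct

theorem mem_M24_of_octads {π : Equiv.Perm GolayPt} (h : ∀ o ∈ octads, π • o ∈ octads) :
    π ∈ M24 := by
  rw [M24_eq_octad_aut]
  show π • octads = octads
  refine Set.eq_of_subset_of_ncard_le ?_ ?_ (Set.toFinite _)
  · rintro _ ⟨o, ho, rfl⟩; exact h o ho
  · rw [← Set.image_smul, Set.ncard_image_of_injective _ (MulAction.injective π)]

/-- A permutation fixing the extra point and normalising M23 lies in M24. -/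
theorem mem_M24_of_normalizes_M23 {π : Equiv.Perm GolayPt} (hπ : π none = none)
    (h : ∀ σ ∈ M24, σ none = none → π⁻¹ * σ * π ∈ M24) : π ∈ M24 := by
  classical
  have hnone : ∀ o ∈ octads, (none : GolayPt) ∈ o → π • o ∈ octads := by
    intro o ho hno
    refine mem_octads_of_unique (F := (π • ·) '' {o | o ∈ octads ∧ (none : GolayPt) ∈ o})
      (M24 ⊓ stabilizer (Equiv.Perm GolayPt) (none : GolayPt)) none (fun σ h1 h2 => ⟨h1, h2⟩) ?_ ?_ ?_ ?_
      (by decide) ⟨o, ⟨ho, hno⟩, rfl⟩
    · rintro σ ⟨hσ, hσn⟩ _ ⟨t, ⟨ht, htn⟩, rfl⟩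
      refine ⟨(π⁻¹ * σ * π) • t, ⟨(smul_mem_octads (h σ hσ hσn)).2 ht, ?_⟩, ?_⟩
      · have e : (π⁻¹ * σ * π) • (none : GolayPt) = none := by
          show π.symm (σ (π none)) = none
          rw [hπ, show σ none = none from hσn, Equiv.symm_apply_eq, hπ]
        rw [← e]
        exact Finset.smul_mem_smul_finset htn
      · show π • (π⁻¹ * σ * π) • t = σ • π • t
        rw [← mul_smul, ← mul_smul]; group
    · rintro _ ⟨t, ⟨-, htn⟩, rfl⟩
      rw [← hπ]; exact Finset.smul_mem_smul_finset htn
    · rintro _ ⟨t, ⟨ht, -⟩, rfl⟩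
      rw [Finset.card_smul_finset, ht.2]
    · rintro _ ⟨t, ⟨ht, -⟩, rfl⟩ _ ⟨t', ⟨ht', -⟩, rfl⟩ T hT - h1 h2
      rw [eq_of_inter_five ht ht' ?_]
      have : π⁻¹ • T ⊆ t ∩ t' := Finset.subset_inter
        (Finset.subset_smul_finset_iff.1 h1) (Finset.subset_smul_finset_iff.1 h2)
      have := Finset.card_le_card this
      rwa [Finset.card_smul_finset, hT] at this
  refine mem_M24_of_octads fun o ho => ?_
  by_cases hno : (none : GolayPt) ∈ o
  · exact hnone o ho hno
  obtain ⟨q, hq, hqc⟩ := Finset.exists_subset_card_eq (s := o) (n := 4) (by rw [ho.2]; norm_num)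
  have hnq : (none : GolayPt) ∉ q := fun e => hno (hq e)
  obtain ⟨A, hA, hqA⟩ := exists_octad_of_five (s := insert none q) (by rw [Finset.card_insert_of_notMem hnq, hqc])
  have hnA : (none : GolayPt) ∈ A := hqA (Finset.mem_insert_self _ _)
  have h4 : (o ∩ A).card = 4 := by
    have hle : 4 ≤ (o ∩ A).card := hqc ▸ Finset.card_le_card
      (Finset.subset_inter hq ((Finset.subset_insert _ _).trans hqA))
    have hne : o ≠ A := fun e => hno (e ▸ hnA)
    rcases Design.inter24 (by decide +kernel) octads_steiner ho hA hne with e | e | e <;> omega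
  have hB : symmDiff o A ∈ octads := Uniq.symmDiff_block24 (by decide +kernel) octads_steiner ho hA h4
  have hnB : (none : GolayPt) ∈ symmDiff o A := by
    rw [Finset.mem_symmDiff]; exact Or.inr ⟨hnA, hno⟩
  have e : π • o = symmDiff (π • symmDiff o A) (π • A) := by
    rw [← Finset.smul_finset_symmDiff, symmDiff_symmDiff_cancel_right]
  refine ⟨?_, by rw [Finset.card_smul_finset, ho.2]⟩
  rw [e]
  exact symmDiff_mem_supports (hnone _ hB hnB).1 (hnone A hA hnA).1

/-! ### automorphisms -/

/-- A permutation normalising M24 lies in M24. -/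
theorem mem_M24_of_normalizes {π : Equiv.Perm GolayPt} (h : ∀ σ ∈ M24, π⁻¹ * σ * π ∈ M24) :
    π ∈ M24 := by
  obtain ⟨g, hg1, -⟩ := exists_map_two (p := π none) (q := π (some 0)) (p' := (none : GolayPt))
    (q' := some 0) (fun e => by simpa using π.injective e) (by simp)
  have h1 : (g : Equiv.Perm GolayPt) * π ∈ M24 :=
    mem_M24_of_normalizes_M23 hg1 fun σ hσ _ => by
      have := h _ (mul_mem (mul_mem (inv_mem g.2) hσ) g.2)
      convert this using 1
      group
  have := mul_mem (inv_mem g.2) h1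
  rwa [← mul_assoc, inv_mul_cancel, one_mul] at this

theorem card_out_eq_one {G : Type*} [Group G] (h : ∀ φ : MulAut G, φ ∈ Cfsg.Inn G) :
    Nat.card (Cfsg.Out G) = 1 := by
  have : Subsingleton (Cfsg.Out G) := ⟨fun a b => by
    induction a using QuotientGroup.induction_on with | H x =>
    induction b using QuotientGroup.induction_on with | H y =>
    exact QuotientGroup.eq.2 (h _)⟩
  exact Nat.card_of_subsingleton 1

/-- An action-compatible point map turns an automorphism into a conjugation. -/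
theorem exists_perm {α : Type*} [Finite α] {G : Type*} [Group G] [MulAction G α]
    (φ : MulAut G) (hsep : ∀ a b : α, stabilizer G a = stabilizer G b → a = b)
    (hex : ∀ a : α, ∃ b : α, (stabilizer G a).map φ.toMonoidHom = stabilizer G b) :
    ∃ π : Equiv.Perm α, ∀ g a, π (g • a) = φ g • π a := by
  choose f hf using hex
  have hinj : Function.Injective f := fun a b e => hsep a b
    (Subgroup.map_injective φ.injective ((hf a).trans ((congrArg _ e).trans (hf b).symm)))
  refine ⟨Equiv.ofBijective f (Finite.injective_iff_bijective.1 hinj), fun g a => ?_⟩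
  refine hsep _ _ ?_
  show stabilizer G (f (g • a)) = stabilizer G (φ g • f a)
  rw [← hf, stabilizer_smul_eq_stabilizer_map_conj, stabilizer_smul_eq_stabilizer_map_conj, ← hf,
    Subgroup.map_map, Subgroup.map_map]
  congr 1
  ext x
  simp

theorem M24_aut_inner (φ : MulAut ↥M24) : φ ∈ Cfsg.Inn ↥M24 := by
  have hsep : ∀ a b : GolayPt, stabilizer ↥M24 a = stabilizer ↥M24 b → a = b := by
    intro a b e
    by_contra hne
    have := card_stab_two a b hne
    rw [e, inf_idem, card_stab_point] at this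
    omega
  obtain ⟨π, hπ⟩ := exists_perm φ hsep (fun a => eq_stabilizer_of_card_M24 _ (by
    rw [Subgroup.card_map_of_injective φ.injective, card_stab_point]))
  have hconj : ∀ g : ↥M24, (φ g : Equiv.Perm GolayPt) = π * g * π⁻¹ := by
    intro g
    ext z : 1
    have := hπ g (π⁻¹ z)
    simp only [Equiv.Perm.coe_inv, Equiv.apply_symm_apply] at this
    exact this.symm
  have hmem : π ∈ M24 := mem_M24_of_normalizes fun σ hσ => by
    have := hconj (φ.symm ⟨σ, hσ⟩)
    rw [φ.apply_symm_apply] at this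
    have e : π⁻¹ * σ * π = (φ.symm ⟨σ, hσ⟩ : ↥M24).1 := by
      conv_lhs => rw [show σ = _ from this]
      group
    rw [e]; exact (φ.symm ⟨σ, hσ⟩).2
  exact ⟨⟨π, hmem⟩, MulEquiv.ext fun g => Subtype.ext (hconj g).symm⟩

theorem M23_aut_inner (φ : MulAut ↥Spor.M23) : φ ∈ Cfsg.Inn ↥Spor.M23 := by
  classical
  let α := {z : GolayPt // z ≠ none}
  let : MulAction ↥Spor.M23 α :=
    { smul := fun g z => ⟨(g : Equiv.Perm GolayPt) z.1, fun e => z.2
        ((g : Equiv.Perm GolayPt).injective (e.trans (show (g : Equiv.Perm GolayPt) none = none from g.2.2).symm))⟩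
      one_smul := fun z => Subtype.ext rfl
      mul_smul := fun g h z => Subtype.ext rfl }
  let ι : ↥Spor.M23 →* ↥M24 := Subgroup.inclusion inf_le_left
  have hι : Function.Injective ι := Subgroup.inclusion_injective _
  have hrange : ι.range = stabilizer ↥M24 (none : GolayPt) := by
    ext g
    constructor
    · rintro ⟨h, rfl⟩; exact h.2.2
    · intro hg; exact ⟨⟨g.1, g.2, hg⟩, rfl⟩
  have hstab : ∀ a : α, (stabilizer ↥Spor.M23 a).map ι =
      stabilizer ↥M24 (none : GolayPt) ⊓ stabilizer ↥M24 a.1 := by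
    intro a
    ext g
    constructor
    · rintro ⟨h, hh, rfl⟩
      exact ⟨h.2.2, congrArg Subtype.val (show h • a = a from hh)⟩
    · rintro ⟨h1, h2⟩
      exact ⟨⟨g.1, g.2, h1⟩, Subtype.ext h2, rfl⟩
  have hsep : ∀ a b : α, stabilizer ↥Spor.M23 a = stabilizer ↥Spor.M23 b → a = b := by
    intro a b e
    by_contra hne
    have h1 := hstab a
    rw [e, hstab b] at h1
    have hne' : a.1 ≠ b.1 := fun h => hne (Subtype.ext h)
    obtain ⟨g, hg, hg1, hg2⟩ := exists_fix_fix_move a b hne'
    have : g ∈ stabilizer ↥M24 (none : GolayPt) ⊓ stabilizer ↥M24 b.1 := h1 ▸ ⟨hg, hg1⟩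
    exact hg2 this.2
  obtain ⟨π, hπ⟩ := exists_perm φ hsep (fun a => by
    obtain ⟨b, hb, e⟩ := eq_stabilizer_of_card_M23 (((stabilizer ↥Spor.M23 a).map φ.toMonoidHom).map ι)
      ((Subgroup.map_le_range ι _).trans hrange.le) (by
        rw [Subgroup.card_map_of_injective hι, Subgroup.card_map_of_injective φ.injective,
          ← Subgroup.card_map_of_injective (f := ι) hι, hstab, card_stab_two _ _ a.2.symm])
    exact ⟨⟨b, hb⟩, Subgroup.map_injective hι (e.trans (hstab ⟨b, hb⟩).symm)⟩)
  let τ : Equiv.Perm GolayPt := Equiv.Perm.ofSubtype π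
  have hτn : τ none = none := Equiv.Perm.ofSubtype_apply_of_not_mem π (by simp)
  have hτ : ∀ z : α, τ z.1 = (π z).1 := fun z => Equiv.Perm.ofSubtype_apply_coe π z
  have hconj : ∀ g : ↥Spor.M23, (φ g : Equiv.Perm GolayPt) = τ * g * τ⁻¹ := by
    intro g
    rw [eq_mul_inv_iff_mul_eq]
    ext z : 1
    by_cases hz : z = none
    · subst hz
      simp only [Equiv.Perm.mul_apply]
      rw [hτn, show (φ g : Equiv.Perm GolayPt) none = none from (φ g).2.2,
        show (g : Equiv.Perm GolayPt) none = none from g.2.2, hτn]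
    · have := congrArg Subtype.val (hπ g ⟨z, hz⟩)
      simp only [Equiv.Perm.mul_apply]
      rw [show τ z = (π ⟨z, hz⟩).1 from hτ ⟨z, hz⟩,
        show (g : Equiv.Perm GolayPt) z = (g • (⟨z, hz⟩ : α)).1 from rfl, hτ]
      exact this.symm
  have hmem : τ ∈ M24 := mem_M24_of_normalizes_M23 hτn fun σ hσ hσn => by
    have := hconj (φ.symm ⟨σ, hσ, hσn⟩)
    rw [φ.apply_symm_apply] at this
    have e : τ⁻¹ * σ * τ = (φ.symm ⟨σ, hσ, hσn⟩ : ↥Spor.M23).1 := by
      conv_lhs => rw [show σ = _ from this]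
      group
    rw [e]; exact (φ.symm ⟨σ, hσ, hσn⟩).2.1
  exact ⟨⟨τ, hmem, hτn⟩, MulEquiv.ext fun g => Subtype.ext (hconj g).symm⟩
where
  exists_fix_fix_move (a b : {z : GolayPt // z ≠ none}) (h : a.1 ≠ b.1) :
      ∃ g : ↥M24, g • (none : GolayPt) = none ∧ g • a.1 = a.1 ∧ g • b.1 ≠ b.1 := by
    classical
    obtain ⟨c, hc⟩ : ∃ c, c ∉ ({none, a.1, b.1} : Finset GolayPt) := by
      refine (Finset.exists_mem_notMem_of_card_lt_card (s := ({none, a.1, b.1} : Finset GolayPt))
        (t := Finset.univ) (Finset.card_le_three.trans_lt (by decide))).imp fun c hc => hc.2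
    simp only [Finset.mem_insert, Finset.mem_singleton, not_or] at hc
    obtain ⟨g, hg⟩ := exists_map_list (xs := [none, a.1, b.1]) (ys := [none, a.1, c])
      (by simp [a.2.symm, b.2.symm, h]) (by simp [a.2.symm, Ne.symm hc.1, Ne.symm hc.2.1]) rfl (by simp)
    simp only [List.map_cons, List.map_nil, List.cons.injEq, and_true] at hg
    exact ⟨g, hg.1, hg.2.1, fun e => hc.2.2 (hg.2.2.symm.trans e)⟩

end CfsgLib.Sporadic.MathieuAut
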