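import Cfsg.Agent.Lib.Sporadic.MathieuTwo

/-!
# Centralizers of involutions of M24 and M22 are 2-constrained
-/

set_option autoImplicit false

namespace CfsgLib.Sporadic

open Cfsg MulAction
open scoped Pointwise

theorem packG_mul (a b : ↥M24) : packG (a * b) = pmul (packG a) (packG b) :=
  (pmul_packImage (rep_packImage _) (rep_packImage _)).symm

theorem packG_injective : Function.Injective packG :=
  fun _ _ e => Subtype.ext (packImage_injective e)

theorem commute_of_sq {H : Type*} [Group H] {x y : H} (hx : x * x = 1) (hy : y * y = 1)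
    (hxy : x * y * (x * y) = 1) : x * y = y * x := by
  rw [eq_inv_of_mul_eq_one_left hxy, mul_inv_rev, inv_eq_of_mul_eq_one_right hx,
    inv_eq_of_mul_eq_one_right hy]

/-! ### octads -/

/-- The elements fixing an octad pointwise. -/
def octFixer (o : Finset GolayPt) : Subgroup ↥M24 where
  carrier := {g | ∀ x ∈ o, g • x = x}
  one_mem' := fun x _ => one_smul _ x
  mul_mem' := fun {a b} ha hb x hx => by rw [mul_smul, hb x hx, ha x hx]
  inv_mem' := fun {a} ha x hx => by rw [inv_smul_eq_iff, ha x hx]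

theorem mem_octFixer {o : Finset GolayPt} {g : ↥M24} :
    g ∈ octFixer o ↔ ∀ x ∈ o, g • x = x := Iff.rfl

/-- The check that the fixer of the standard octad moves every other point. -/
noncomputable def octFixMoves : Bool :=
  forallLt 24 fun i => Nat.beq (bitAt stdO i) 1 ||
    octFixList.any fun p => ! Nat.beq (pget p i) i

theorem octFixMoves_ok : octFixMoves = true := by decide +kernel

/-- Octads that fix every point, given the complement of the standard octad. -/
def stdOOctads : List ℕ := [1134148, 1060490, 69395, 2101096, 675712]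

theorem compl_stdO_step : fixStep (Nat.xor 16777215 stdO) stdOOctads
    (stdOOctads ++ bitsList (Nat.xor 16777215 stdO)) 16777215 = true := by decide +kernel

theorem centralizer_octFixer_std :
    Subgroup.centralizer (octFixer (setOfMask stdO) : Set ↥M24) ≤ octFixer (setOfMask stdO) := by
  intro g hg
  have hreg := fix_regular stdO_mem (p := pt 4) (by decide +kernel)
  have hcomm : ∀ r ∈ octFixer (setOfMask stdO), ∀ x : GolayPt, r • g • x = g • r • x :=
    fun r hr x => by rw [← mul_smul, ← mul_smul, Subgroup.mem_centralizer_iff.1 hg r hr]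
  have habel : ∀ r ∈ octFixer (setOfMask stdO), ∀ s ∈ octFixer (setOfMask stdO), r * s = s * r :=
    fun r hr s hs => commute_of_sq (sq_eq_one_of_fix stdO_mem hr) (sq_eq_one_of_fix stdO_mem hs)
      (sq_eq_one_of_fix stdO_mem (mul_mem hr hs))
  -- the octad is stable
  have hin : ∀ x, x ∈ setOfMask stdO → g • x ∈ setOfMask stdO := by
    intro x hx
    by_contra hn
    have h := forallLt_elim octFixMoves_ok (ix_lt (g • x))
    simp only [Bool.or_eq_true, Nat.beq_eq, List.any_eq_true, Bool.not_eq_true'] at h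
    rcases h with h | ⟨p, hp, h⟩
    · refine hn (mem_setOfMask.2 ?_)
      rw [bitAt_eq] at h
      by_contra hb
      simp [hb] at h
    · obtain ⟨σ, hσ, hr, -, hfix⟩ := octFixList_spec hp
      have hmem : (⟨σ, hσ⟩ : ↥M24) ∈ octFixer (setOfMask stdO) := hfix
      have h1 := hcomm _ hmem x
      rw [(hmem x hx)] at h1
      rw [Bool.eq_false_iff, ne_eq, Nat.beq_eq, hr (g • x)] at h
      exact h (congrArg ix h1)
  have hout : g • pt 4 ∉ setOfMask stdO := fun hm => by
    have himg : (setOfMask stdO).image (fun x => g • x) = setOfMask stdO :=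
      Finset.eq_of_subset_of_card_le
        (fun y hy => by obtain ⟨x, hx, rfl⟩ := Finset.mem_image.1 hy; exact hin x hx)
        (Finset.card_image_of_injective _ (MulAction.injective g)).ge
    rw [← himg] at hm
    obtain ⟨x, hx, e⟩ := Finset.mem_image.1 hm
    rw [MulAction.injective g e] at hx
    revert hx; decide +kernel
  obtain ⟨r, hr, hre⟩ := hreg.2 _ hout
  -- the quotient fixes the complement
  set h := r⁻¹ * g with hh
  have hh4 : h • pt 4 = pt 4 := by rw [hh, mul_smul, ← hre, inv_smul_smul]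
  have hfix : ∀ y, y ∉ setOfMask stdO → h • y = y := by
    intro y hy
    obtain ⟨s, hs, rfl⟩ := hreg.2 y hy
    have e : h * s = s * h := by
      rw [hh, mul_assoc, ← Subgroup.mem_centralizer_iff.1 hg s hs, ← mul_assoc, ← mul_assoc,
        habel _ (inv_mem hr) _ hs]
    rw [← mul_smul, e, mul_smul, hh4]
  have h1 : h = 1 := by
    refine Subtype.ext (Equiv.ext fun y => ?_)
    refine fixStep_spec compl_stdO_step h.2 (fun x hx => ?_) y
      (by rw [← maskOf_univ, setOfMask_maskOf]; simp)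
    refine hfix x fun hxo => ?_
    revert hxo; revert hx; revert x; decide +kernel
  rw [hh, inv_mul_eq_one] at h1
  exact h1 ▸ hr

theorem mem_centralizer_conj {H : Type*} [Group H] {R : Subgroup H} {R₀ : Subgroup H} {t g : H}
    (hR : ∀ r, r ∈ R₀ ↔ t * r * t⁻¹ ∈ R) (hg : g ∈ Subgroup.centralizer (R : Set H)) :
    t⁻¹ * g * t ∈ Subgroup.centralizer (R₀ : Set H) :=
  Subgroup.mem_centralizer_iff.2 fun r hr => by
    have h := Subgroup.mem_centralizer_iff.1 hg _ ((hR r).1 hr)
    calc r * (t⁻¹ * g * t) = t⁻¹ * ((t * r * t⁻¹) * g) * t := by group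
      _ = t⁻¹ * (g * (t * r * t⁻¹)) * t := by rw [h]
      _ = t⁻¹ * g * t * r := by group

theorem centralizer_octFixer {o : Finset GolayPt} (ho : o ∈ octads) :
    Subgroup.centralizer (octFixer o : Set ↥M24) ≤ octFixer o := by
  obtain ⟨t, rfl⟩ := exists_smul_stdO ho
  have hR : ∀ r, r ∈ octFixer (setOfMask stdO) ↔ t * r * t⁻¹ ∈ octFixer (t • setOfMask stdO) := by
    intro r
    constructor
    · intro hr y hy
      obtain ⟨x, hx, rfl⟩ := Finset.mem_smul_finset.1 hy
      rw [mul_smul, mul_smul, inv_smul_smul, hr x hx]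
    · intro hr x hx
      have h := hr (t • x) ((mem_smul_set t).2 hx)
      rwa [mul_smul, mul_smul, inv_smul_smul, smul_left_cancel_iff] at h
  intro g hg
  have h := (hR _).1 (centralizer_octFixer_std (mem_centralizer_conj hR hg))
  rwa [show t * (t⁻¹ * g * t) * t⁻¹ = g by group] at h

/-! ### sextets -/

/-- The elements of the kernel on the standard sextet squaring to one. -/
theorem sextet_sq_std {a b : ↥M24} (ha : ∀ t ∈ toQ sextetRoot, a • t = t) (ha2 : a * a = 1)
    (hb : ∀ t ∈ toQ sextetRoot, b • t = t) (hb2 : b * b = 1) : a * b * (a * b) = 1 := by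
  obtain ⟨φ, -, hk⟩ := exists_sextet_nine
  let a' : ↥sextetKer := ⟨a, mem_sextetKer.2 ha⟩
  let b' : ↥sextetKer := ⟨b, mem_sextetKer.2 hb⟩
  have h : φ (a' * b') = 1 := by
    rw [map_mul, (hk a').2 (Subtype.ext ha2), (hk b').2 (Subtype.ext hb2), one_mul]
  exact congrArg Subtype.val ((hk _).1 h)

theorem sextet_sq {S : Finset (Finset GolayPt)} (hS : S ∈ sextets) {a b : ↥M24}
    (ha : ∀ t ∈ S, a • t = t) (ha2 : a * a = 1) (hb : ∀ t ∈ S, b • t = t) (hb2 : b * b = 1) :
    a * b * (a * b) = 1 := by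
  obtain ⟨t, rfl⟩ := exists_smul_sextet (toQ_sextet sextetRoot_ok.1).1 hS
  have hfix : ∀ c : ↥M24, (∀ u ∈ t • toQ sextetRoot, c • u = u) →
      ∀ v ∈ toQ sextetRoot, (t⁻¹ * c * t) • v = v := fun c hc v hv => by
    rw [mul_smul, mul_smul, hc _ (Finset.smul_mem_smul_finset hv), inv_smul_smul]
  have h := sextet_sq_std (hfix a ha) (by
    rw [show t⁻¹ * a * t * (t⁻¹ * a * t) = t⁻¹ * (a * a) * t by group, ha2]; group)
    (hfix b hb) (by
    rw [show t⁻¹ * b * t * (t⁻¹ * b * t) = t⁻¹ * (b * b) * t by group, hb2]; group)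
  rwa [show t⁻¹ * a * t * (t⁻¹ * b * t) * (t⁻¹ * a * t * (t⁻¹ * b * t)) =
    t⁻¹ * (a * b * (a * b)) * (t⁻¹)⁻¹ by group, conj_eq_one_iff] at h

/-- The elementary abelian group of a sextet. -/
def sextetFour {S : Finset (Finset GolayPt)} (hS : S ∈ sextets) : Subgroup ↥M24 where
  carrier := {g | (∀ t ∈ S, g • t = t) ∧ g * g = 1}
  one_mem' := ⟨fun t _ => one_smul _ t, mul_one 1⟩
  mul_mem' := fun {a b} ha hb =>
    ⟨fun t ht => by rw [mul_smul, hb.1 t ht, ha.1 t ht], sextet_sq hS ha.1 ha.2 hb.1 hb.2⟩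
  inv_mem' := fun {a} ha => ⟨fun t ht => by rw [inv_smul_eq_iff, ha.1 t ht],
    by rw [← mul_inv_rev, ha.2, inv_one]⟩

theorem mem_sextetFour {S : Finset (Finset GolayPt)} (hS : S ∈ sextets) {g : ↥M24} :
    g ∈ sextetFour hS ↔ (∀ t ∈ S, g • t = t) ∧ g * g = 1 := Iff.rfl

/-- The elementary abelian part of the kernel on the standard sextet. -/
noncomputable def sextetFourList : List ℕ :=
  (sextetKerWalk.map Prod.fst).filter fun p => Nat.beq (pmul p p) pone

/-- A point fixed with `x` by all those fixing `x` lies in the tetrad of `x`. -/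
noncomputable def sextetFourMoves : Bool :=
  sextetRoot.all fun v => forallLt 24 fun i => forallLt 24 fun j =>
    Nat.beq (bitAt v i) 0 || Nat.beq (bitAt v j) 1 ||
      sextetFourList.any fun p => Nat.beq (pget p i) i && ! Nat.beq (pget p j) j

set_option maxRecDepth 100000 in
theorem sextetFourMoves_ok : sextetFourMoves = true := by decide +kernel

/-- The kernel elements commuting with the elementary part lie in it. -/
noncomputable def sextetFourCentral : Bool :=
  (sextetKerWalk.map Prod.fst).all fun p => Nat.beq (pmul p p) pone ||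
    sextetFourList.any fun r => ! Nat.beq (pmul p r) (pmul r p)

set_option maxRecDepth 100000 in
theorem sextetFourCentral_ok : sextetFourCentral = true := by decide +kernel

theorem sextetFourList_spec {p : ℕ} (hp : p ∈ sextetFourList) :
    ∃ r : ↥M24, packG r = p ∧ r ∈ sextetFour (toQ_sextet sextetRoot_ok.1).1 := by
  rw [sextetFourList, List.mem_filter, List.mem_map, Nat.beq_eq] at hp
  obtain ⟨⟨x, hx, rfl⟩, hsq⟩ := hp
  obtain ⟨r, hr, e⟩ := walk_pair sextetKerGens_in sextetKerOps x hx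
  refine ⟨r, e, mem_sextetKer.1 hr, packG_injective ?_⟩
  rw [packG_mul, e, hsq]
  exact packImage_one.symm

theorem centralizer_sextetFour_std :
    Subgroup.centralizer (sextetFour (toQ_sextet sextetRoot_ok.1).1 : Set ↥M24) ≤
      sextetFour (toQ_sextet sextetRoot_ok.1).1 := by
  intro g hg
  have hlt := (toQ_sextet sextetRoot_ok.1).2
  have hfix : ∀ t ∈ toQ sextetRoot, g • t = t := by
    intro t ht
    refine Finset.eq_of_subset_of_card_le (fun y hy => ?_) (by rw [card_smul_set])
    obtain ⟨x, hx, rfl⟩ := Finset.mem_smul_finset.1 hy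
    have h := List.all_eq_true.1 sextetFourMoves_ok _ ((mem_toQ hlt).1 ht)
    have h' := forallLt_elim (forallLt_elim h (ix_lt x)) (ix_lt (g • x))
    simp only [Bool.or_eq_true, Nat.beq_eq, List.any_eq_true, Bool.and_eq_true,
      Bool.not_eq_true'] at h'
    rcases h' with (h' | h') | ⟨p, hp, h1, h2⟩
    · simp [bitAt_eq, hx] at h'
    · rw [bitAt_eq, testBit_maskOf] at h'
      by_contra hn
      simp [hn] at h'
    · exfalso
      obtain ⟨r, e, hr⟩ := sextetFourList_spec hp
      rw [← e] at h1 h2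
      have hrx : r • x = x := ix_injective ((rep_packImage _ x).symm.trans h1)
      rw [Bool.eq_false_iff, ne_eq, Nat.beq_eq, rep_packImage] at h2
      refine h2 (congrArg ix ?_)
      show r • g • x = g • x
      conv_rhs => rw [← hrx]
      rw [← mul_smul, ← mul_smul, Subgroup.mem_centralizer_iff.1 hg r hr]
  refine ⟨hfix, ?_⟩
  obtain ⟨x, hx, e⟩ := exists_entry sextetKerGens_in card_sextetKer sextetKerWalk_ok g
    (mem_sextetKer.2 hfix)
  have h := List.all_eq_true.1 sextetFourCentral_ok _ (List.mem_map_of_mem hx)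
  rw [e] at h
  simp only [Bool.or_eq_true, Nat.beq_eq, List.any_eq_true, Bool.not_eq_true'] at h
  rcases h with h | ⟨p, hp, h⟩
  · exact packG_injective (by rw [packG_mul, h]; exact packImage_one.symm)
  · exfalso
    obtain ⟨r, rfl, hr⟩ := sextetFourList_spec hp
    rw [Bool.eq_false_iff, ne_eq, Nat.beq_eq, ← packG_mul, ← packG_mul] at h
    exact h (congrArg packG (Subgroup.mem_centralizer_iff.1 hg r hr).symm)

theorem centralizer_sextetFour {S : Finset (Finset GolayPt)} (hS : S ∈ sextets) :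
    Subgroup.centralizer (sextetFour hS : Set ↥M24) ≤ sextetFour hS := by
  obtain ⟨t, rfl⟩ := exists_smul_sextet (toQ_sextet sextetRoot_ok.1).1 hS
  have hR : ∀ r, r ∈ sextetFour (toQ_sextet sextetRoot_ok.1).1 ↔
      t * r * t⁻¹ ∈ sextetFour hS := by
    intro r
    have hsq : t * r * t⁻¹ * (t * r * t⁻¹) = 1 ↔ r * r = 1 := by
      rw [conj_mul, conj_eq_one_iff]
    rw [mem_sextetFour, mem_sextetFour, hsq]
    refine and_congr_left fun _ => ⟨fun hr u hu => ?_, fun hr v hv => ?_⟩
    · obtain ⟨v, hv, rfl⟩ := Finset.mem_smul_finset.1 hu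
      rw [mul_smul, mul_smul, inv_smul_smul, hr v hv]
    · have h := hr _ (Finset.smul_mem_smul_finset (a := t) hv)
      rwa [mul_smul, mul_smul, inv_smul_smul, smul_left_cancel_iff] at h
  intro g hg
  have h := (hR _).1 (centralizer_sextetFour_std (mem_centralizer_conj hR hg))
  rwa [show t * (t⁻¹ * g * t) * t⁻¹ = g by group] at h

/-! ### constrained centralizers -/

theorem le_centralizer_of_exponent_two {H : Type*} [Group H] {R : Subgroup H}
    (hR : ∀ x ∈ R, x * x = 1) {z : H} (hz : z ∈ R) :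
    R ≤ Subgroup.centralizer ({z} : Set H) := fun x hx =>
  Subgroup.mem_centralizer_singleton_iff.2
    (commute_of_sq (hR x hx) (hR z hz) (hR _ (mul_mem hx hz)))

theorem isPGroup_two_of_exponent {H : Type*} [Group H] {R : Subgroup H}
    (hR : ∀ x ∈ R, x * x = 1) : IsPGroup 2 R := fun x =>
  ⟨1, Subtype.ext (by rw [Subgroup.coe_pow, Subgroup.coe_one, pow_one, pow_two]; exact hR _ x.2)⟩

/-- An involution fixing a point: the fixer of its octad. -/
theorem constrained_of_fixed {z : ↥M24} (hz : z * z = 1) (h1 : z ≠ 1) {a : GolayPt}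
    (ha : z • a = a) : ∃ o ∈ octads, (∀ x, z • x = x → x ∈ o) ∧ IsPGroup 2 (octFixer o) ∧
      octFixer o ≤ Subgroup.centralizer ({z} : Set ↥M24) ∧
      Subgroup.centralizer ({z} : Set ↥M24) ≤ Subgroup.normalizer (octFixer o : Set ↥M24) ∧
      Subgroup.centralizer (octFixer o : Set ↥M24) ≤ octFixer o := by
  obtain ⟨o, ho, hiff⟩ := fixed_eq_octad hz h1 ha
  have hex : ∀ x ∈ octFixer o, x * x = 1 := fun x hx => sq_eq_one_of_fix ho hx
  refine ⟨o, ho, fun x hx => (hiff x).1 hx, isPGroup_two_of_exponent hex,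
    le_centralizer_of_exponent_two hex (fun x hx => (hiff x).2 hx), fun g hg => ?_,
    centralizer_octFixer ho⟩
  have hcomm : g * z = z * g := Subgroup.mem_centralizer_singleton_iff.1 hg
  have hmaps : ∀ c : ↥M24, c * z = z * c → ∀ x ∈ o, c • x ∈ o := fun c hc x hx => by
    rw [← hiff, ← mul_smul, ← hc, mul_smul, (hiff x).2 hx]
  have hinv : g⁻¹ * z = z * g⁻¹ := by
    rw [inv_mul_eq_iff_eq_mul, ← mul_assoc, hcomm, mul_inv_cancel_right]
  refine Subgroup.mem_normalizer_iff.2 fun r => ⟨fun hr x hx => ?_, fun hr x hx => ?_⟩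
  · rw [mul_smul, mul_smul, hr _ (hmaps _ hinv x hx), smul_inv_smul]
  · have h := hr (g • x) (hmaps g hcomm x hx)
    rwa [mul_smul, mul_smul, inv_smul_smul, smul_left_cancel_iff] at h

theorem constrained_M24 {z : ↥M24} (hz : orderOf z = 2) :
    ∃ R : Subgroup ↥M24, IsPGroup 2 R ∧ R ≤ Subgroup.centralizer ({z} : Set ↥M24) ∧
      Subgroup.centralizer ({z} : Set ↥M24) ≤ Subgroup.normalizer (R : Set ↥M24) ∧
      Subgroup.centralizer (R : Set ↥M24) ≤ R := by
  have hz2 : z * z = 1 := by rw [← pow_two, ← hz, pow_orderOf_eq_one]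
  have h1 : z ≠ 1 := fun e => by rw [e, orderOf_one] at hz; norm_num at hz
  by_cases hex : ∃ a : GolayPt, z • a = a
  · obtain ⟨a, ha⟩ := hex
    obtain ⟨o, -, -, h⟩ := constrained_of_fixed hz2 h1 ha
    exact ⟨_, h⟩
  push Not at hex
  obtain ⟨S, ⟨hS, hSz⟩, huniq⟩ := existsUnique_fixed_sextet hz2 hex
  have hexp : ∀ x ∈ sextetFour hS, x * x = 1 := fun x hx => hx.2
  refine ⟨sextetFour hS, isPGroup_two_of_exponent hexp,
    le_centralizer_of_exponent_two hexp ⟨hSz, hz2⟩, fun g hg => ?_, centralizer_sextetFour hS⟩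
  have hcomm : g * z = z * g := Subgroup.mem_centralizer_singleton_iff.1 hg
  have hgS : g • S = S := huniq _ ⟨smul_mem_sextets g hS, fun u hu => by
    obtain ⟨v, hv, rfl⟩ := Finset.mem_smul_finset.1 hu
    rw [← mul_smul, ← hcomm, mul_smul, hSz v hv]⟩
  have hmaps : ∀ u ∈ S, g • u ∈ S := fun u hu => hgS ▸ Finset.smul_mem_smul_finset hu
  have hmapsi : ∀ u ∈ S, g⁻¹ • u ∈ S := fun u hu => by
    rw [← hgS] at hu
    obtain ⟨v, hv, rfl⟩ := Finset.mem_smul_finset.1 hu
    rwa [inv_smul_smul]
  refine Subgroup.mem_normalizer_iff.2 fun r => ?_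
  show (_ ∧ _) ↔ (_ ∧ _)
  rw [conj_mul, conj_eq_one_iff]
  refine and_congr_left fun _ => ⟨fun hr u hu => ?_, fun hr u hu => ?_⟩
  · rw [mul_smul, mul_smul, hr _ (hmapsi u hu), smul_inv_smul]
  · have h := hr _ (hmaps u hu)
    rwa [mul_smul, mul_smul, inv_smul_smul, smul_left_cancel_iff] at h

/-- M22 as a subgroup of M24. -/
theorem M22_le_M24 : Spor.M22 ≤ M24 := inf_le_left.trans inf_le_left

theorem constrained_M22 {z : ↥Spor.M22} (hz : orderOf z = 2) :
    ∃ R : Subgroup ↥Spor.M22, IsPGroup 2 R ∧ R ≤ Subgroup.centralizer ({z} : Set ↥Spor.M22) ∧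
      Subgroup.centralizer ({z} : Set ↥Spor.M22) ≤ Subgroup.normalizer (R : Set ↥Spor.M22) ∧
      Subgroup.centralizer (R : Set ↥Spor.M22) ≤ R := by
  let ι := Subgroup.inclusion M22_le_M24
  have hinj : Function.Injective ι := Subgroup.inclusion_injective _
  have hfx : ∀ g : ↥Spor.M22, ι g • (none : GolayPt) = none ∧ ι g • (some 0 : GolayPt) = some 0 :=
    fun g => ⟨g.2.1.2, g.2.2⟩
  have hz' : orderOf (ι z) = 2 := (orderOf_injective ι hinj z).trans hz
  have hz2 : ι z * ι z = 1 := by rw [← pow_two, ← hz', pow_orderOf_eq_one]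
  have h1 : ι z ≠ 1 := fun e => by rw [e, orderOf_one] at hz'; norm_num at hz'
  obtain ⟨o, -, hsub, hP, hle, hn, hc⟩ := constrained_of_fixed hz2 h1 (hfx z).1
  have hin : ∀ r ∈ octFixer o, ∃ g : ↥Spor.M22, ι g = r := fun r hr =>
    ⟨⟨(r : Equiv.Perm GolayPt),
      ⟨⟨r.2, hr _ (hsub _ (hfx z).1)⟩, hr _ (hsub _ (hfx z).2)⟩⟩, rfl⟩
  refine ⟨(octFixer o).comap ι, hP.comap_of_injective ι hinj, fun g hg => ?_, fun g hg => ?_,
    fun g hg => ?_⟩
  · refine Subgroup.mem_centralizer_singleton_iff.2 (hinj ?_)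
    rw [map_mul, map_mul]
    exact Subgroup.mem_centralizer_singleton_iff.1 (hle hg)
  · have hg' : ι g ∈ Subgroup.centralizer ({ι z} : Set ↥M24) :=
      Subgroup.mem_centralizer_singleton_iff.2 (by
        rw [← map_mul, ← map_mul, Subgroup.mem_centralizer_singleton_iff.1 hg])
    refine Subgroup.mem_normalizer_iff.2 fun r => ?_
    simp only [Subgroup.mem_comap, map_mul, map_inv]
    exact Subgroup.mem_normalizer_iff.1 (hn hg') _
  · refine hc (Subgroup.mem_centralizer_iff.2 fun r hr => ?_)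
    obtain ⟨r', rfl⟩ := hin r hr
    rw [← map_mul, ← map_mul, Subgroup.mem_centralizer_iff.1 hg r' hr]

end CfsgLib.Sporadic
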