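import Cfsg.Agent.Lib.Sporadic.M24

/-!
# Orbit certificates for subgroups of M24, and transport along M24
-/

set_option autoImplicit false

namespace CfsgLib.Sporadic

open Cfsg
open scoped Pointwise

/-- Every packed permutation of the list is an element of `H`. -/
def GensIn (H : Subgroup ↥M24) (gens : List ℕ) : Prop :=
  ∀ p ∈ gens, ∃ g ∈ H, Rep (g : Equiv.Perm GolayPt) p

theorem gensIn_of {H : Subgroup ↥M24} {gens : List ℕ} (h : gens.all isAut = true)
    (hH : ∀ p ∈ gens, ∀ g : ↥M24, Rep (g : Equiv.Perm GolayPt) p → g ∈ H) : GensIn H gens :=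
  fun p hp => by
    obtain ⟨g, hg⟩ := exists_M24_elt (List.all_eq_true.1 h p hp)
    exact ⟨g, hH p hp g hg, hg⟩

theorem gensIn_top {gens : List ℕ} (h : gens.all isAut = true) : GensIn ⊤ gens :=
  gensIn_of h fun _ _ _ _ => Subgroup.mem_top _

theorem mem_stab_mask {g : ↥M24} {p m : ℕ} (hg : Rep (g : Equiv.Perm GolayPt) p)
    (h : mimg p m = m) : g ∈ MulAction.stabilizer ↥M24 (setOfMask m) := by
  show (g : Equiv.Perm GolayPt) • setOfMask m = setOfMask m
  rw [smul_setOfMask hg, h]

theorem mem_stab_point {g : ↥M24} {p : ℕ} {x : GolayPt} (hg : Rep (g : Equiv.Perm GolayPt) p)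
    (h : pget p (ix x) = ix x) : g ∈ MulAction.stabilizer ↥M24 x :=
  ix_injective ((hg x).symm.trans h)

theorem GensIn.getD {H : Subgroup ↥M24} {gens : List ℕ} (h : GensIn H gens) (j : ℕ) :
    ∃ g ∈ H, Rep (g : Equiv.Perm GolayPt) (gens.getD j pone) := by
  by_cases hj : j < gens.length
  · rw [List.getD_eq_getElem _ _ hj]; exact h _ (List.getElem_mem hj)
  · rw [List.getD_eq_default _ _ (by omega)]; exact ⟨1, one_mem _, Rep.one⟩

noncomputable def stepMask (gens : List ℕ) (v j : ℕ) : ℕ := mimg (gens.getD j pone) v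

noncomputable def stepPoint (gens : List ℕ) (v j : ℕ) : ℕ := pget (gens.getD j pone) v

theorem walk_mask {H : Subgroup ↥M24} {gens : List ℕ} (hg : GensIn H gens) (ops : List ℕ)
    (root : ℕ) : ∀ v ∈ walk (stepMask gens) ops root,
      ∃ g ∈ H, g • setOfMask root = setOfMask v := by
  refine walk_mem (P := fun v => ∃ g ∈ H, g • setOfMask root = setOfMask v) ?_
    ⟨1, one_mem _, one_smul _ _⟩
  rintro v j ⟨g, hgH, e⟩
  obtain ⟨h, hhH, hr⟩ := hg.getD j
  refine ⟨h * g, mul_mem hhH hgH, ?_⟩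
  rw [mul_smul, e]
  exact smul_setOfMask hr v

theorem walk_point {H : Subgroup ↥M24} {gens : List ℕ} (hg : GensIn H gens) (ops : List ℕ)
    (root : GolayPt) : ∀ v ∈ walk (stepPoint gens) ops (ix root),
      ∃ g ∈ H, ix (g • root) = v := by
  refine walk_mem (P := fun v => ∃ g ∈ H, ix (g • root) = v) ?_
    ⟨1, one_mem _, by rw [one_smul]⟩
  rintro v j ⟨g, hgH, rfl⟩
  obtain ⟨h, hhH, hr⟩ := hg.getD j
  exact ⟨h * g, mul_mem hhH hgH, by rw [mul_smul]; exact (hr (g • root)).symm⟩

theorem smul_mask_inCode {g : ↥M24} {m v : ℕ} (hm : inCode m = true) (hv : v < 2 ^ 24)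
    (h : g • setOfMask m = setOfMask v) : inCode v = true := by
  rw [← maskOf_setOfMask hv, ← mem_supports_iff, ← h]
  refine mem_M24_iff.1 g.2 _ ?_
  rw [mem_supports_iff, maskOf_setOfMask (inCode_lt hm)]; exact hm

theorem walk_lt {H : Subgroup ↥M24} {gens : List ℕ} (hg : GensIn H gens) (ops : List ℕ) {root : ℕ}
    (hroot : root < 2 ^ 24) : ∀ v ∈ walk (stepMask gens) ops root, v < 2 ^ 24 := by
  refine walk_mem (P := fun v => v < 2 ^ 24) (fun v j _ => ?_) hroot
  obtain ⟨h, -, hr⟩ := hg.getD j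
  exact mimg_lt hr v

/-- An orbit of code words exhibited by a walk. -/
theorem exists_smul_code {H : Subgroup ↥M24} {gens : List ℕ} (hg : GensIn H gens) {ops : List ℕ}
    {root : ℕ} (hroot : inCode root = true) {f : ℕ → Bool}
    (hb : bitmap (fun m => Nat.land m 4095) (walk (stepMask gens) ops root) =
      maskLt 4096 (fun k => f (enc k)))
    {s : Finset GolayPt} (hs : inCode (maskOf s) = true) (hf : f (maskOf s) = true) :
    ∃ g ∈ H, g • setOfMask root = s := by
  have hl : ∀ v ∈ walk (stepMask gens) ops root, inCode v = true := fun v hv => by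
    obtain ⟨g, -, e⟩ := walk_mask hg ops root v hv
    exact smul_mask_inCode hroot (walk_lt hg ops (inCode_lt hroot) v hv) e
  obtain ⟨g, hgH, e⟩ := walk_mask hg ops root _ (mem_of_bitmap hb hl hs hf)
  exact ⟨g, hgH, e.trans (setOfMask_maskOf s)⟩

/-- An orbit of points exhibited by a walk. -/
theorem exists_smul_point {H : Subgroup ↥M24} {gens : List ℕ} (hg : GensIn H gens) {ops : List ℕ}
    {root : GolayPt} {O : ℕ} (hb : bitmap id (walk (stepPoint gens) ops (ix root)) = O)
    {x : GolayPt} (hx : x ∈ setOfMask O) : ∃ g ∈ H, g • root = x := by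
  rw [mem_setOfMask, ← hb, testBit_bitmap] at hx
  obtain ⟨v, hv, e⟩ := hx
  obtain ⟨g, hgH, e'⟩ := walk_point hg ops root v hv
  exact ⟨g, hgH, ix_injective (e'.trans e)⟩

/-- A lower bound for an orbit, by counting the codes of the states of a walk. -/
theorem le_ncard_of_codes {α : Type} {β : Type*} {S : Set β} (hS : S.Finite) (code : α → ℕ) (φ : α → β)
    (code' : β → ℕ) (l : List α) (hφ : ∀ v ∈ l, φ v ∈ S ∧ code' (φ v) = code v) {N : ℕ} :
    countLt N (fun i => Nat.testBit (bitmap code l) i) ≤ S.ncard := by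
  rw [countLt_eq]
  calc _ ≤ (code' '' S).ncard := by
        rw [← Set.ncard_coe_finset]
        refine Set.ncard_le_ncard ?_ (hS.image _)
        intro i hi
        simp only [Finset.coe_filter, Finset.mem_range, Set.mem_ofPred_eq] at hi
        obtain ⟨v, hv, rfl⟩ := (testBit_bitmap code l i).1 hi.2
        exact ⟨φ v, (hφ v hv).1, (hφ v hv).2⟩
    _ ≤ S.ncard := Set.ncard_image_le hS

/-! ### transport -/

/-- A chain certificate for transitivity of `H` on tuples of distinct elements of `D`. -/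
def TupleChain {G α : Type*} [Group G] [MulAction G α] (H : Subgroup G) (D : Set α) :
    List α → Prop
  | [] => True
  | b :: pre => TupleChain H D pre ∧
      ∀ x ∈ D, x ∉ pre → ∃ h ∈ H, (∀ c ∈ pre, h • c = c) ∧ h • b = x

theorem TupleChain.exists_map {G α : Type*} [Group G] [MulAction G α] {H : Subgroup G} {D : Set α}
    (hD : ∀ g ∈ H, ∀ x ∈ D, g • x ∈ D) {bs : List α} (h : TupleChain H D bs) :
    ∀ ys : List α, ys.length = bs.length → ys.Nodup → (∀ y ∈ ys, y ∈ D) →
      ∃ g ∈ H, bs.map (g • ·) = ys := by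
  induction bs with
  | nil =>
    intro ys hl _ _
    exact ⟨1, one_mem _, by simp [List.eq_nil_of_length_eq_zero hl]⟩
  | cons b pre ih =>
    intro ys hl hn hys
    obtain ⟨y, ys, rfl⟩ := List.exists_cons_of_length_pos (l := ys) (by rw [hl]; simp)
    simp only [List.length_cons, add_left_inj] at hl
    rw [List.nodup_cons] at hn
    obtain ⟨g, hg, e⟩ := ih h.1 ys hl hn.2 fun z hz => hys z (List.mem_cons_of_mem _ hz)
    obtain ⟨k, hk, hfix, e'⟩ := h.2 (g⁻¹ • y) (hD _ (inv_mem hg) _ (hys y (by simp))) fun hmem => by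
      have : y ∈ ys := by
        rw [← e, List.mem_map]; exact ⟨_, hmem, by rw [smul_inv_smul]⟩
      exact hn.1 this
    refine ⟨g * k, mul_mem hg hk, ?_⟩
    rw [List.map_cons, mul_smul, e', smul_inv_smul, ← e]
    congr 1
    exact List.map_congr_left fun c hc => by rw [mul_smul, hfix c hc]

theorem isMultiplyPretransitive_le_five {k : ℕ} (hk : k ≤ 5) :
    MulAction.IsMultiplyPretransitive ↥M24 GolayPt k :=
  haveI := M24_five_transitive
  MulAction.isMultiplyPretransitive_of_le hk (by simp [GolayPt])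

theorem exists_map_le_five {k : ℕ} (hk : k ≤ 5) (x y : Fin k ↪ GolayPt) :
    ∃ g : ↥M24, ∀ i, g • x i = y i := by
  haveI := isMultiplyPretransitive_le_five hk
  obtain ⟨g, hg⟩ := MulAction.exists_smul_eq ↥M24 x y
  exact ⟨g, fun i => by rw [← hg]; rfl⟩

theorem exists_map_list {xs ys : List GolayPt} (hx : xs.Nodup) (hy : ys.Nodup)
    (hl : xs.length = ys.length) (h5 : xs.length ≤ 5) : ∃ g : ↥M24, xs.map (g • ·) = ys := by
  let x : Fin xs.length ↪ GolayPt := ⟨xs.get, List.nodup_iff_injective_get.1 hx⟩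
  let y : Fin xs.length ↪ GolayPt := ⟨fun i => ys.get (i.cast hl),
    (List.nodup_iff_injective_get.1 hy).comp (Fin.cast_injective _)⟩
  obtain ⟨g, hg⟩ := exists_map_le_five h5 x y
  refine ⟨g, List.ext_getElem (by simp [hl]) fun i h1 h2 => ?_⟩
  rw [List.getElem_map]
  exact hg ⟨i, by simpa using h1⟩

theorem exists_smul_set {s t : Finset GolayPt} (h : s.card = t.card) (h5 : s.card ≤ 5) :
    ∃ g : ↥M24, g • s = t := by
  obtain ⟨g, hg⟩ := exists_map_list s.nodup_toList t.nodup_toList (by simp [h]) (by simpa using h5)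
  refine ⟨g, ?_⟩
  ext z
  rw [← Finset.mem_toList (s := t), ← hg, List.mem_map]
  show z ∈ s.image (fun x => (g : Equiv.Perm GolayPt) • x) ↔ _
  simp only [Finset.mem_image, Finset.mem_toList]
  rfl

theorem ncard_smul_congr {G β : Type*} [Group G] [MulAction G β] (g : G) {P Q : β → Prop}
    (h : ∀ x, P x ↔ Q (g • x)) : {x | P x}.ncard = {x | Q x}.ncard := by
  rw [← Set.ncard_image_of_injective _ (MulAction.injective g)]
  congr 1
  ext y
  constructor
  · rintro ⟨x, hx, rfl⟩; exact (h x).1 hx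
  · intro hy
    exact ⟨g⁻¹ • y, (h _).2 (by rwa [smul_inv_smul]), smul_inv_smul g y⟩

theorem card_stabilizer_mul {β : Type*} [MulAction ↥M24 β] (a : β) (O : Set β)
    (hO : MulAction.orbit ↥M24 a = O) :
    Nat.card (MulAction.stabilizer ↥M24 a) * O.ncard = 244823040 := by
  rw [← hO, ← MulAction.index_stabilizer, Subgroup.card_mul_index]
  exact M24_card

theorem card_stabilizer_of_orbit {β : Type*} [MulAction ↥M24 β] (a : β) (O : Set β) {n c : ℕ}
    (h1 : ∀ g : ↥M24, g • a ∈ O) (h2 : ∀ x ∈ O, ∃ g : ↥M24, g • a = x) (hn : O.ncard = n)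
    (hc : c * n = 244823040) : Nat.card (MulAction.stabilizer ↥M24 a) = c := by
  have hO : MulAction.orbit ↥M24 a = O := by
    ext x
    exact ⟨fun ⟨g, e⟩ => e ▸ h1 g, fun hx => h2 x hx⟩
  have h := card_stabilizer_mul a O hO
  have : 0 < n := Nat.pos_of_ne_zero fun h0 => by rw [h0, mul_zero] at hc; omega
  rw [hn, ← hc] at h
  exact Nat.eq_of_mul_eq_mul_right this h

theorem smul_mem_octads' (g : ↥M24) {o : Finset GolayPt} : g • o ∈ octads ↔ o ∈ octads :=
  smul_mem_octads g.2

theorem smul_mem_dodecads' (g : ↥M24) {o : Finset GolayPt} : g • o ∈ dodecads ↔ o ∈ dodecads :=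
  smul_mem_dodecads g.2

theorem card_smul_set (g : ↥M24) (s : Finset GolayPt) : (g • s).card = s.card :=
  Finset.card_smul_finset (g : Equiv.Perm GolayPt) s

theorem smul_inter' (g : ↥M24) (s t : Finset GolayPt) : g • (s ∩ t) = g • s ∩ g • t :=
  Finset.smul_finset_inter (a := (g : Equiv.Perm GolayPt))

theorem card_inter_smul (g : ↥M24) (s t : Finset GolayPt) :
    (g • s ∩ g • t).card = (s ∩ t).card := by rw [← smul_inter', card_smul_set]

theorem mem_smul_set (g : ↥M24) {x : GolayPt} {s : Finset GolayPt} : g • x ∈ g • s ↔ x ∈ s :=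
  Finset.smul_mem_smul_finset_iff (g : Equiv.Perm GolayPt)

theorem smul_set_subset (g : ↥M24) {s t : Finset GolayPt} : g • s ⊆ g • t ↔ s ⊆ t :=
  Finset.smul_finset_subset_smul_finset_iff (a := (g : Equiv.Perm GolayPt))

theorem disjoint_smul_set (g : ↥M24) {s t : Finset GolayPt} :
    Disjoint (g • s) (g • t) ↔ Disjoint s t := by
  rw [Finset.disjoint_iff_inter_eq_empty, Finset.disjoint_iff_inter_eq_empty, ← smul_inter',
    ← Finset.card_eq_zero, ← Finset.card_eq_zero (s := s ∩ t), card_smul_set]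

end CfsgLib.Sporadic
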