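import Cfsg.Agent.Lib.Sporadic.Octad
import Cfsg.Agent.Lib.Sporadic.Orbits

/-!
# The stabiliser of an octad: alternating on the octad, split over its pointwise fixer
-/

set_option autoImplicit false

namespace CfsgLib.Sporadic

open Cfsg MulAction
open scoped Pointwise

theorem card_stab_octad' {o : Finset GolayPt} (ho : o ∈ octads) :
    Nat.card ↥(stabilizer ↥M24 o) = 322560 :=
  card_stabilizer_of_orbit o octads (fun g => (smul_mem_octads' g).2 ho)
    (fun _ h => by obtain ⟨g, hg, e⟩ := exists_smul_octad ho h; exact ⟨⟨g, hg⟩, e⟩)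
    octads_ncard (by norm_num)

theorem stab_mem_iff {o : Finset GolayPt} {g : ↥M24} (hg : g ∈ stabilizer ↥M24 o) (x : GolayPt) :
    g • x ∈ o ↔ x ∈ o := by
  conv_lhs => rw [← mem_stabilizer_iff.1 hg]
  exact mem_smul_set g

/-- The action of the stabiliser on the points of the octad. -/
def octRestrict (o : Finset GolayPt) : ↥(stabilizer ↥M24 o) →* Equiv.Perm ↥o where
  toFun g := Equiv.Perm.subtypePerm ((g : ↥M24) : Equiv.Perm GolayPt) fun x => stab_mem_iff g.2 x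
  map_one' := rfl
  map_mul' _ _ := rfl

theorem fixes_of_ker {o : Finset GolayPt} {g : ↥(stabilizer ↥M24 o)} (h : g ∈ (octRestrict o).ker) :
    ∀ x ∈ o, (g : ↥M24) • x = x := fun x hx => by
  have := congrArg (fun e : Equiv.Perm ↥o => (e ⟨x, hx⟩ : GolayPt)) (MonoidHom.mem_ker.1 h)
  exact this

theorem mem_stab_of_fix {o : Finset GolayPt} {g : ↥M24} (h : ∀ x ∈ o, g • x = x) :
    g ∈ stabilizer ↥M24 o := by
  rw [mem_stabilizer_iff]
  refine Finset.eq_of_subset_of_card_le (fun y hy => ?_) (by rw [card_smul_set])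
  obtain ⟨x, hx, rfl⟩ := Finset.mem_smul_finset.1 hy
  rwa [h x hx]

theorem card_ker_restrict {o : Finset GolayPt} (ho : o ∈ octads) :
    Nat.card ↥(octRestrict o).ker = 16 := by
  refine (Nat.card_congr ?_).trans (card_fix_octad ho)
  exact
    { toFun := fun g => ⟨g.1.1, fixes_of_ker g.2⟩
      invFun := fun g => ⟨⟨g.1, mem_stab_of_fix g.2⟩, MonoidHom.mem_ker.2
        (Equiv.ext fun x => Subtype.ext (g.2 x.1 x.2))⟩ }

theorem range_restrict {o : Finset GolayPt} (ho : o ∈ octads) :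
    (octRestrict o).range = alternatingGroup ↥o := by
  refine Equiv.Perm.eq_alternatingGroup_of_index_eq_two ?_
  have h1 := (octRestrict o).ker.card_mul_index
  rw [Subgroup.index_ker, card_ker_restrict ho, card_stab_octad' ho] at h1
  have h2 := (octRestrict o).range.card_mul_index
  rw [Nat.card_perm, Nat.card_eq_fintype_card (α := ↥o), Fintype.card_coe, ho.2,
    show Nat.factorial 8 = 40320 from rfl] at h2
  have h3 : Nat.card ↥(octRestrict o).range = 20160 := by omega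
  rw [h3] at h2
  omega

theorem octad_induced_set {o : Finset GolayPt} (ho : o ∈ octads) :
    {e : Equiv.Perm ↥o | ∃ g : Equiv.Perm GolayPt, g ∈ M24 ∧
      ∃ h : (∀ x, g x ∈ o ↔ x ∈ o), g.subtypePerm h = e} = (alternatingGroup ↥o : Set (Equiv.Perm ↥o)) := by
  rw [← range_restrict ho]
  ext e
  constructor
  · rintro ⟨g, hg, h, rfl⟩
    have hst : (⟨g, hg⟩ : ↥M24) ∈ stabilizer ↥M24 o := by
      rw [mem_stabilizer_iff]
      refine Finset.eq_of_subset_of_card_le (fun y hy => ?_) (by rw [card_smul_set])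
      obtain ⟨x, hx, rfl⟩ := Finset.mem_smul_finset.1 hy
      exact (h x).2 hx
    exact ⟨⟨_, hst⟩, rfl⟩
  · rintro ⟨g, rfl⟩
    exact ⟨_, g.1.2, fun x => stab_mem_iff g.2 x, rfl⟩

/-- The pointwise fixer is regular outside the octad. -/
theorem fix_regular {o : Finset GolayPt} (ho : o ∈ octads) {p : GolayPt} (hp : p ∉ o) :
    (∀ g : ↥M24, (∀ x ∈ o, g • x = x) → g • p = p → g = 1) ∧
    ∀ q, q ∉ o → ∃ g : ↥M24, (∀ x ∈ o, g • x = x) ∧ g • p = q := by
  let Φ : {g : ↥M24 // ∀ x ∈ o, g • x = x} → ↥oᶜ := fun g => ⟨g.1 • p, by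
    rw [Finset.mem_compl, stab_mem_iff (mem_stab_of_fix g.2)]; exact hp⟩
  have hs : Function.Surjective Φ := by
    obtain ⟨t, rfl⟩ := exists_smul_stdO ho
    have base : ∀ z, z ∉ setOfMask stdO → ∃ g : ↥M24, (∀ x ∈ setOfMask stdO, g • x = x) ∧ g • pt 4 = z := by
      intro z hz
      have hb : (16777215 ^^^ stdO).testBit (ix z) = true := by
        rw [← maskOf_setOfMask (m := stdO) (by decide), ← maskOf_compl, testBit_maskOf]
        simpa using hz
      have hlist := octFixList_ok.2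
      change bitmap id (octFixList.map fun p => pget p 4) = 16777215 ^^^ stdO at hlist
      rw [← hlist, testBit_bitmap] at hb
      obtain ⟨v, hv, e⟩ := hb
      obtain ⟨w, hw, rfl⟩ := List.mem_map.1 hv
      obtain ⟨σ, hσ, hr, -, hfix⟩ := octFixList_spec hw
      exact ⟨⟨σ, hσ⟩, hfix, ix_injective ((hr (pt 4)).symm.trans e)⟩
    have pull : ∀ z, z ∉ t • setOfMask stdO → ∃ g : ↥M24,
        (∀ x ∈ setOfMask stdO, g • x = x) ∧ t • g • pt 4 = z := by
      intro z hz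
      obtain ⟨g, h1, h2⟩ := base (t⁻¹ • z) fun h => hz (by rwa [← smul_inv_smul t z, mem_smul_set])
      exact ⟨g, h1, by rw [h2, smul_inv_smul]⟩
    rintro ⟨q, hq⟩
    obtain ⟨a, ha, ea⟩ := pull p hp
    obtain ⟨b, hb, eb⟩ := pull q (Finset.mem_compl.1 hq)
    refine ⟨⟨t * (b * a⁻¹) * t⁻¹, fun x hx => ?_⟩, Subtype.ext ?_⟩
    · rw [← smul_inv_smul t x, mem_smul_set] at hx
      rw [mul_smul, mul_smul, mul_smul, inv_smul_eq_iff.2 (ha _ hx).symm, hb _ hx, smul_inv_smul]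
    · show (t * (b * a⁻¹) * t⁻¹) • p = q
      rw [← ea, ← eb]
      simp [mul_smul]
  have hb : Function.Bijective Φ := (Nat.bijective_iff_surjective_and_card Φ).2 ⟨hs, by
    rw [card_fix_octad ho, Nat.card_eq_fintype_card, Fintype.card_coe, Finset.card_compl, ho.2,
      show Fintype.card GolayPt = 24 by decide +kernel]⟩
  refine ⟨fun g hg hgp => ?_, fun q hq => ?_⟩
  · have : (⟨g, hg⟩ : {g : ↥M24 // ∀ x ∈ o, g • x = x}) = ⟨1, fun x _ => one_smul _ x⟩ :=
      hb.1 (Subtype.ext (by simp [Φ, hgp]))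
    exact congrArg Subtype.val this
  · obtain ⟨g, hg⟩ := hs ⟨q, Finset.mem_compl.2 hq⟩
    exact ⟨g.1, g.2, congrArg Subtype.val hg⟩

theorem octad_split {o : Finset GolayPt} (ho : o ∈ octads) {p : GolayPt} (hp : p ∉ o) :
    (M24 ⊓ fixingSubgroup (Equiv.Perm GolayPt) (o : Set GolayPt)) ⊓
        (M24 ⊓ stabilizer (Equiv.Perm GolayPt) o ⊓ stabilizer (Equiv.Perm GolayPt) p) = ⊥ ∧
    (M24 ⊓ fixingSubgroup (Equiv.Perm GolayPt) (o : Set GolayPt)) ⊔
        (M24 ⊓ stabilizer (Equiv.Perm GolayPt) o ⊓ stabilizer (Equiv.Perm GolayPt) p) =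
      (M24 ⊓ stabilizer (Equiv.Perm GolayPt) o) ∧
    Nonempty (↥(M24 ⊓ stabilizer (Equiv.Perm GolayPt) o ⊓ stabilizer (Equiv.Perm GolayPt) p) ≃*
      alternatingGroup (Fin 8)) := by
  obtain ⟨free, trans⟩ := fix_regular ho hp
  have hfix_stab : M24 ⊓ fixingSubgroup (Equiv.Perm GolayPt) (o : Set GolayPt) ≤
      M24 ⊓ stabilizer (Equiv.Perm GolayPt) o := fun g hg => by
    obtain ⟨h1, h2⟩ := Subgroup.mem_inf.1 hg
    exact Subgroup.mem_inf.2 ⟨h1, mem_stab_of_fix (g := ⟨g, h1⟩) fun x hx =>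
      (mem_fixingSubgroup_iff _).1 h2 x hx⟩
  refine ⟨?_, ?_, ?_⟩
  · rw [eq_bot_iff]
    rintro g ⟨⟨h1, h2⟩, ⟨⟨-, -⟩, h5⟩⟩
    exact congrArg Subtype.val
      (free ⟨g, h1⟩ (fun x hx => (mem_fixingSubgroup_iff _).1 h2 x hx) h5)
  · refine le_antisymm (sup_le hfix_stab inf_le_left) fun g hg => ?_
    obtain ⟨h1, h2⟩ := Subgroup.mem_inf.1 hg
    have hgp : (⟨g, h1⟩ : ↥M24) • p ∉ o := by
      rw [stab_mem_iff (o := o) (g := ⟨g, h1⟩) h2]; exact hp
    obtain ⟨f, hf, e⟩ := trans _ hgp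
    have hfm : (f : Equiv.Perm GolayPt) ∈ M24 ⊓ fixingSubgroup (Equiv.Perm GolayPt) (o : Set GolayPt) :=
      Subgroup.mem_inf.2 ⟨f.2, (mem_fixingSubgroup_iff _).2 hf⟩
    have hrest : (f : Equiv.Perm GolayPt)⁻¹ * g ∈
        M24 ⊓ stabilizer (Equiv.Perm GolayPt) o ⊓ stabilizer (Equiv.Perm GolayPt) p := by
      refine Subgroup.mem_inf.2 ⟨mul_mem (inv_mem (hfix_stab hfm)) hg, ?_⟩
      rw [mem_stabilizer_iff, mul_smul, inv_smul_eq_iff]
      exact e.symm
    have := mul_mem (Subgroup.mem_sup_left (T := M24 ⊓ stabilizer (Equiv.Perm GolayPt) o ⊓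
      stabilizer (Equiv.Perm GolayPt) p) hfm) (Subgroup.mem_sup_right hrest)
    rwa [mul_inv_cancel_left] at this
  · let K := M24 ⊓ stabilizer (Equiv.Perm GolayPt) o ⊓ stabilizer (Equiv.Perm GolayPt) p
    let j : ↥K →* ↥(stabilizer ↥M24 o) :=
      { toFun := fun g => ⟨⟨g.1, g.2.1.1⟩, g.2.1.2⟩
        map_one' := rfl
        map_mul' := fun _ _ => rfl }
    let ψ : ↥K →* ↥(alternatingGroup ↥o) := ((octRestrict o).comp j).codRestrict _ fun g => by
      rw [← range_restrict ho]; exact ⟨j g, rfl⟩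
    have hinj : Function.Injective ψ := (injective_iff_map_eq_one ψ).2 fun g hg => by
      have hk : j g ∈ (octRestrict o).ker := MonoidHom.mem_ker.2 (congrArg Subtype.val hg)
      exact Subtype.ext (congrArg (fun z : ↥M24 => (z : Equiv.Perm GolayPt))
        (free _ (fixes_of_ker hk) g.2.2))
    have hsurj : Function.Surjective ψ := by
      rintro ⟨e, he⟩
      rw [← range_restrict ho] at he
      obtain ⟨g, rfl⟩ := he
      have hgp : (g : ↥M24) • p ∉ o := by rw [stab_mem_iff g.2]; exact hp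
      obtain ⟨f, hf, e'⟩ := trans _ hgp
      have hgm : f⁻¹ * (g : ↥M24) ∈ stabilizer ↥M24 o := mul_mem (inv_mem (mem_stab_of_fix hf)) g.2
      have hp' : (f⁻¹ * (g : ↥M24)) • p = p := by rw [mul_smul, inv_smul_eq_iff, e']
      refine ⟨⟨((f⁻¹ * (g : ↥M24) : ↥M24) : Equiv.Perm GolayPt),
        Subgroup.mem_inf.2 ⟨Subgroup.mem_inf.2 ⟨(f⁻¹ * (g : ↥M24)).2, hgm⟩, hp'⟩⟩, Subtype.ext ?_⟩
      refine Equiv.ext fun x => Subtype.ext ?_
      show (f⁻¹ * (g : ↥M24)) • (x : GolayPt) = (g : ↥M24) • (x : GolayPt)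
      rw [mul_smul, inv_smul_eq_iff, hf _ ((stab_mem_iff g.2 _).2 x.2)]
    exact ⟨(MulEquiv.ofBijective ψ ⟨hinj, hsurj⟩).trans
      (o.equivFinOfCardEq ho.2).altCongrHom⟩

end CfsgLib.Sporadic
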