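import Cfsg.Agent.Lib.Sporadic.Steiner22

/-!
# The automorphism group of `S(3,6,22)` is the stabiliser of a pair of points in the largest Mathieu group
-/

set_option autoImplicit false

namespace CfsgLib.Sporadic.Hexad22

open Cfsg Module CfsgLib.Sporadic.Design CfsgLib.Sporadic.Uniq MulAction
open scoped Pointwise

local notation "F₂" => ZMod 2

variable {α : Type*} [Fintype α] [DecidableEq α] {B : Set (Finset α)}

/-- The stabiliser of the two chosen points. -/
def pairGroup : Subgroup ↥M24 := stabilizer ↥M24 ({none, some 0} : Finset GolayPt)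

theorem mem_pairGroup {g : ↥M24} :
    g ∈ pairGroup ↔ (g.1 none = none ∧ g.1 (some 0) = some 0) ∨ (g.1 none = some 0 ∧ g.1 (some 0) = none) := by
  rw [pairGroup, mem_stabilizer_iff]
  have e : g • ({none, some 0} : Finset GolayPt) = {g.1 none, g.1 (some 0)} := by
    rw [Finset.smul_finset_def, Finset.image_insert, Finset.image_singleton]; rfl
  have hne : g.1 none ≠ g.1 (some 0) := g.1.injective.ne (by simp)
  rw [e]
  constructor
  · intro h
    have h1 : g.1 none ∈ ({none, some 0} : Finset GolayPt) := h ▸ Finset.mem_insert_self _ _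
    have h2 : g.1 (some 0) ∈ ({none, some 0} : Finset GolayPt) :=
      h ▸ Finset.mem_insert_of_mem (Finset.mem_singleton_self _)
    simp only [Finset.mem_insert, Finset.mem_singleton] at h1 h2
    rcases h1 with a | a <;> rcases h2 with b | b
    · exact absurd (a.trans b.symm) hne
    · exact Or.inl ⟨a, b⟩
    · exact Or.inr ⟨a, b⟩
    · exact absurd (a.trans b.symm) hne
  · rintro (⟨a, b⟩ | ⟨a, b⟩) <;> rw [a, b]
    exact Finset.pair_comm _ _

/-- The image of a point. -/
def pnt (e : Option (Option α) ≃ GolayPt) (a : α) : GolayPt := e (some (some a))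

omit [Fintype α] [DecidableEq α] in
theorem pnt_injective (e : Option (Option α) ≃ GolayPt) : Function.Injective (pnt e) := fun _ _ h =>
  Option.some_injective _ (Option.some_injective _ (e.injective h))

theorem pnt_range {e : Option (Option α) ≃ GolayPt} (he : Frame B e) (x : GolayPt) :
    (∃ a, pnt e a = x) ↔ x ≠ none ∧ x ≠ some 0 := by
  constructor
  · rintro ⟨a, rfl⟩
    exact ⟨fun h => by simpa using e.injective (h.trans he.infty.symm),
      fun h => by simpa using e.injective (h.trans he.zero.symm)⟩
  · rintro ⟨h1, h2⟩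
    obtain ⟨o, rfl⟩ := e.surjective x
    rcases o with _ | _ | a
    · exact absurd he.infty h1
    · exact absurd he.zero h2
    · exact ⟨a, rfl⟩

/-- An element inducing a permutation of the points. -/
def Corr (e : Option (Option α) ≃ GolayPt) (σ : Equiv.Perm α) (g : ↥M24) : Prop :=
  ∀ a, g.1 (pnt e a) = pnt e (σ a)

theorem corr_mem {e : Option (Option α) ≃ GolayPt} (he : Frame B e) {σ : Equiv.Perm α} {g : ↥M24}
    (h : Corr e σ g) : g ∈ pairGroup := by
  have out : ∀ x, (x = none ∨ x = some 0) → g.1 x = none ∨ g.1 x = some 0 := by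
    intro x hx
    by_contra hne
    push Not at hne
    obtain ⟨a, ha⟩ := (pnt_range he _).2 hne
    obtain ⟨b, rfl⟩ := σ.surjective a
    rw [← h b] at ha
    have := g.1.injective ha
    rcases hx with rfl | rfl
    · exact ((pnt_range he _).1 ⟨b, this⟩).1 rfl
    · exact ((pnt_range he _).1 ⟨b, this⟩).2 rfl
  have hne : g.1 none ≠ g.1 (some 0) := g.1.injective.ne (by simp)
  rw [mem_pairGroup]
  rcases out none (Or.inl rfl) with a | a <;> rcases out (some 0) (Or.inr rfl) with b | b
  · exact absurd (a.trans b.symm) hne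
  · exact Or.inl ⟨a, b⟩
  · exact Or.inr ⟨a, b⟩
  · exact absurd (a.trans b.symm) hne

theorem exists_corr_perm {e : Option (Option α) ≃ GolayPt} (he : Frame B e) {g : ↥M24} (hg : g ∈ pairGroup) :
    ∃ σ ∈ setSystemAut B, Corr e σ g := by
  have hout : ∀ a, ∃ a', pnt e a' = g.1 (pnt e a) := fun a => by
    refine (pnt_range he _).2 ?_
    obtain ⟨h1, h2⟩ := (pnt_range he _).1 ⟨a, rfl⟩
    rcases mem_pairGroup.1 hg with ⟨x, y⟩ | ⟨x, y⟩
    · exact ⟨fun h => h1 (g.1.injective (h.trans x.symm)), fun h => h2 (g.1.injective (h.trans y.symm))⟩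
    · exact ⟨fun h => h2 (g.1.injective (h.trans y.symm)), fun h => h1 (g.1.injective (h.trans x.symm))⟩
  choose f hf using hout
  have hinj : Function.Injective f := fun a b h => pnt_injective e (g.1.injective (by rw [← hf, ← hf, h]))
  let σ : Equiv.Perm α := Equiv.ofBijective f (Finite.injective_iff_bijective.1 hinj)
  refine ⟨σ, ?_, fun a => (hf a).symm⟩
  show σ • B = B
  refine Set.eq_of_subset_of_ncard_le ?_
    (by rw [← Set.image_smul, Set.ncard_image_of_injective _ (MulAction.injective σ)]) (Set.toFinite _)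
  rintro _ ⟨b, hb, rfl⟩
  show σ • b ∈ B
  have himg : (lift (σ • b)).image e = g.1 • (lift b).image e := by
    ext x
    rw [← Finset.inv_smul_mem_iff]
    simp only [Finset.mem_image, lift]
    constructor
    · rintro ⟨o, ho, rfl⟩
      rcases o with _ | _ | a
      · rcases mem_pairGroup.1 hg with ⟨u, v⟩ | ⟨u, v⟩
        · exact ⟨none, by simp, (inv_smul_eq_iff.2 (by show e none = g.1 (e none); rw [he.infty, u])).symm⟩
        · exact ⟨some none, by simp, (inv_smul_eq_iff.2 (by show e none = g.1 (e (some none)); rw [he.infty, he.zero, v])).symm⟩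
      · rcases mem_pairGroup.1 hg with ⟨u, v⟩ | ⟨u, v⟩
        · exact ⟨some none, by simp, (inv_smul_eq_iff.2 (by show e (some none) = g.1 (e (some none)); rw [he.zero, v])).symm⟩
        · exact ⟨none, by simp, (inv_smul_eq_iff.2 (by show e (some none) = g.1 (e none); rw [he.infty, he.zero, u])).symm⟩
      · simp only [Finset.some_mem_insertNone, Finset.mem_smul_finset] at ho
        obtain ⟨c, hc, rfl⟩ := ho
        exact ⟨some (some c), by simp [hc], (inv_smul_eq_iff.2 (hf c)).symm⟩
    · rintro ⟨o, ho, h⟩
      rw [eq_inv_smul_iff] at h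
      subst h
      rcases o with _ | _ | a
      · rcases mem_pairGroup.1 hg with ⟨u, v⟩ | ⟨u, v⟩
        · exact ⟨none, by simp, by show _ = g.1 (e none); rw [he.infty, u]⟩
        · exact ⟨some none, by simp, by show _ = g.1 (e none); rw [he.infty, he.zero, u]⟩
      · rcases mem_pairGroup.1 hg with ⟨u, v⟩ | ⟨u, v⟩
        · exact ⟨some none, by simp, by show _ = g.1 (e (some none)); rw [he.zero, v]⟩
        · exact ⟨none, by simp, by show _ = g.1 (e (some none)); rw [he.infty, he.zero, v]⟩
      · simp only [Finset.some_mem_insertNone] at ho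
        refine ⟨some (some (σ a)), ?_, hf a⟩
        simp only [Finset.some_mem_insertNone, Finset.mem_smul_finset]
        exact ⟨a, ho, rfl⟩
  rw [← he.mem, himg, smul_mem_octads g.2, he.mem]
  exact hb

theorem octad_avoiding : ∃ o ∈ octads, none ∈ o ∧ (some 0 : GolayPt) ∉ o := by
  by_contra hne
  push Not at hne
  have hsub : above octads ({none} : Finset GolayPt) ⊆ above octads {none, some 0} := fun o ho => by
    rw [mem_above, Finset.singleton_subset_iff] at ho
    rw [mem_above, Finset.insert_subset_iff, Finset.singleton_subset_iff]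
    exact ⟨ho.1, ho.2, hne o ho.1 ho.2⟩
  have h1 := Finset.card_le_card hsub
  rw [octads_through none (some 0) (by simp), card_above24 (by simp [GolayPt]) octads_steiner (by simp),
    Finset.card_singleton] at h1
  exact absurd h1 (by decide)

theorem corr_unique {e : Option (Option α) ≃ GolayPt} (he : Frame B e) {σ : Equiv.Perm α} {g g' : ↥M24}
    (h : Corr e σ g) (h' : Corr e σ g') : g = g' := by
  set k : ↥M24 := g'⁻¹ * g with hk
  have hfix : ∀ x, x ≠ none → x ≠ some 0 → k.1 x = x := fun x h1 h2 => by
    obtain ⟨a, rfl⟩ := (pnt_range he x).2 ⟨h1, h2⟩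
    show g'.1⁻¹ (g.1 (pnt e a)) = pnt e a
    rw [h, ← h', Equiv.Perm.inv_def, Equiv.symm_apply_apply]
  have hkm : k ∈ pairGroup := mul_mem (inv_mem (corr_mem he h')) (corr_mem he h)
  suffices k = 1 from (inv_mul_eq_one.1 this).symm
  refine Subtype.ext (Equiv.ext fun x => ?_)
  rcases mem_pairGroup.1 hkm with ⟨a, b⟩ | ⟨a, b⟩
  · by_cases h1 : x = none
    · rw [h1]; exact a
    by_cases h2 : x = some 0
    · rw [h2]; exact b
    exact hfix x h1 h2
  · exfalso
    obtain ⟨o, ho, hn, h0⟩ := octad_avoiding
    have hmem := (smul_mem_octads k.2).2 ho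
    have hsub : o.erase none ⊆ o ∩ k.1 • o := fun y hy => by
      obtain ⟨hy1, hy2⟩ := Finset.mem_erase.1 hy
      refine Finset.mem_inter.2 ⟨hy2, ?_⟩
      have := hfix y hy1 fun e => h0 (e ▸ hy2)
      rw [← this]
      exact Finset.smul_mem_smul_finset hy2
    have h5 := Finset.card_le_card hsub
    rw [Finset.card_erase_of_mem hn, ho.2] at h5
    have heq := eq_of_inter_five ho hmem (by omega)
    refine h0 (heq ▸ ?_)
    rw [← a]
    exact Finset.smul_mem_smul_finset hn

theorem symmDiff_inter_even {γ : Type*} [Fintype γ] [DecidableEq γ] (x y g : Finset γ) :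
    Even (symmDiff x y ∩ g).card ↔ (Even (x ∩ g).card ↔ Even (y ∩ g).card) := by
  rw [show symmDiff x y ∩ g = symmDiff (x ∩ g) (y ∩ g) from inf_symmDiff_distrib_right x y g]
  have h1 := card_symmDiff' (x ∩ g) (y ∩ g)
  rw [← Nat.even_add, ← h1, Nat.even_add]
  simp

/-- The linear extension of a permutation preserves a span once it does so on generators. -/
theorem image_mem_span {γ : Type*} [Fintype γ] [DecidableEq γ] {G : Set (Finset γ)} (h : Equiv.Perm γ)
    (hG : ∀ g ∈ G, ind (g.image h) ∈ span G) {u : Finset γ} (hu : ind u ∈ span G) :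
    ind (u.image h) ∈ span G := by
  let L : (γ → F₂) ≃ₗ[F₂] (γ → F₂) := LinearEquiv.funCongrLeft F₂ F₂ h.symm
  have hL : ∀ s : Finset γ, L (ind s) = ind (s.image h) := fun s => funext fun i => by
    show ind s (h.symm i) = _
    simp only [ind]
    refine if_congr ?_ rfl rfl
    constructor
    · intro hi; exact Finset.mem_image.2 ⟨_, hi, h.apply_symm_apply i⟩
    · intro hi
      obtain ⟨j, hj, rfl⟩ := Finset.mem_image.1 hi
      simpa using hj
  have hall : ∀ w ∈ span G, L w ∈ span G := by
    intro w hw
    induction hw using Submodule.span_induction with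
    | mem x hx => obtain ⟨g, hg, rfl⟩ := hx; rw [hL]; exact hG g hg
    | zero => rw [map_zero]; exact Submodule.zero_mem _
    | add x y _ _ hx hy => rw [map_add]; exact Submodule.add_mem _ hx hy
    | smul a x _ hx => rw [map_smul]; exact Submodule.smul_mem _ a hx
  rw [← hL]
  exact hall _ hu

theorem sup_of_even {γ : Type*} [Fintype γ] [DecidableEq γ] {G : Set (Finset γ)} (h : Good (span G))
    {X : Finset γ} (hX : ∀ g ∈ G, Even (X ∩ g).card) : ind X ∈ span G := by
  refine mem_of_orth h fun w hw => ?_
  induction hw using Submodule.span_induction with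
  | mem x hx => obtain ⟨g, hg, rfl⟩ := hx; rw [sum_ind, ZMod.natCast_eq_zero_iff_even]; exact hX g hg
  | zero => simp
  | add x y _ _ hx hy => simp only [Pi.add_apply, mul_add, Finset.sum_add_distrib, hx, hy, add_zero]
  | smul a x _ hx =>
    simp only [Pi.smul_apply, smul_eq_mul]
    rw [Finset.sum_congr rfl fun i _ => mul_left_comm (ind X i) a (x i), ← Finset.mul_sum, hx, mul_zero]

theorem exists_corr {e : Option (Option α) ≃ GolayPt} (he : Frame B e) {σ : Equiv.Perm α}
    (hσ : σ ∈ setSystemAut B) : ∃ g ∈ pairGroup, Corr e σ g := by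
  obtain ⟨s, hgood, hcode⟩ := he.code
  set G := insert (top s) (lift '' B) with hG
  obtain ⟨c1, c2, c3, -⟩ := core_top s
  obtain ⟨d1, d2, d3, -⟩ := core_top (σ • s)
  have hB : ∀ b ∈ B, σ • b ∈ B := fun b hb => by
    rw [← mem_stabilizer_iff.1 hσ]; exact Set.smul_mem_smul_set hb
  let h1 : Equiv.Perm (Option (Option α)) := σ.optionCongr.optionCongr
  let sw : Equiv.Perm (Option (Option α)) := Equiv.swap none (some none)
  have him1 : ∀ b : Finset α, (lift b).image h1 = lift (σ • b) := fun b => by
    rw [lift, map_insertNone, map_insertNone, lift, Finset.smul_finset_def]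
    rfl
  have htop1 : (top s).image h1 = top (σ • s) := by
    rw [top, map_insertNone, top]
    congr 1
    rw [Finset.map_eq_image, Finset.map_eq_image, Finset.smul_finset_def, Finset.image_image, Finset.image_image]
    rfl
  have hsw : ∀ (u : Finset (Option (Option α))) o, o ∈ u.image sw ↔ sw o ∈ u := fun u o => by
    rw [Finset.mem_image]
    constructor
    · rintro ⟨p, hp, rfl⟩; simpa [sw] using hp
    · intro hp; exact ⟨_, hp, by simp [sw]⟩
  have hswl : ∀ b : Finset α, (lift b).image sw = lift b := fun b => by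
    ext o
    rw [hsw]
    rcases o with _ | _ | a <;> simp [sw, lift, Equiv.swap_apply_def]
  let E : Finset (Option (Option α)) := {none, some none}
  have hswt : ∀ u : Finset α, (top u).image sw = symmDiff (top u) E := fun u => by
    ext o
    rw [hsw]
    rcases o with _ | _ | a <;> simp [sw, top, E, Finset.mem_symmDiff, Equiv.swap_apply_def]
  have hkey : ind (top (σ • s)) ∈ span G ∨ ind ((top (σ • s)).image sw) ∈ span G := by
    set X := symmDiff (top (σ • s)) (top s) with hX
    have hts : ind (top s) ∈ span G := ind_mem_span (Set.mem_insert _ _)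
    have hXl : ∀ b ∈ B, Even (X ∩ lift b).card := by
      intro b hb
      have hev : ∀ c ∈ B, Even (top s ∩ lift c).card := fun c hc => by
        rw [← ZMod.natCast_eq_zero_iff_even, ← sum_ind]
        exact hgood.orth _ hts _ (ind_mem_span (Set.mem_insert_of_mem _ ⟨c, hc, rfl⟩))
      rw [hX, symmDiff_inter_even]
      refine iff_of_true ?_ (hev b hb)
      have hb' : σ⁻¹ • b ∈ B := by
        rw [← mem_stabilizer_iff.1 (inv_mem hσ)]; exact Set.smul_mem_smul_set hb
      have e1 : top (σ • s) ∩ lift b = (top s ∩ lift (σ⁻¹ • b)).image h1 := by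
        rw [Finset.image_inter _ _ h1.injective, htop1, him1, smul_inv_smul]
      rw [e1, Finset.card_image_of_injective _ h1.injective]
      exact hev _ hb'
    by_cases hXt : Even (X ∩ top s).card
    · left
      have hXG : ind X ∈ span G := sup_of_even hgood (by
        rintro g (rfl | ⟨b, hb, rfl⟩)
        · exact hXt
        · exact hXl b hb)
      have := Submodule.add_mem _ hXG hts
      rwa [← ind_symmDiff, hX, symmDiff_symmDiff_cancel_right] at this
    · right
      have hE : ∀ b : Finset α, (E ∩ lift b).card = 2 := fun b => by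
        rw [show E ∩ lift b = E from Finset.inter_eq_left.2 (by simp [E, lift, Finset.insert_subset_iff])]
        exact Finset.card_pair (by simp)
      have hEt : (E ∩ top s).card = 1 := by
        rw [show E ∩ top s = {none} from by ext o; rcases o with _ | _ | a <;> simp [E, top]]
        rfl
      have hXG : ind (symmDiff X E) ∈ span G := sup_of_even hgood (by
        rintro g (rfl | ⟨b, hb, rfl⟩)
        · rw [symmDiff_inter_even, hEt]
          exact iff_of_false hXt (by decide)
        · rw [symmDiff_inter_even, hE]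
          exact iff_of_true (hXl b hb) (by decide))
      have := Submodule.add_mem _ hXG hts
      rw [← ind_symmDiff] at this
      have e' : symmDiff (symmDiff X E) (top s) = (top (σ • s)).image sw := by
        rw [hswt, symmDiff_assoc, symmDiff_comm E (top s), ← symmDiff_assoc, hX, symmDiff_symmDiff_cancel_right]
      rwa [e'] at this
  obtain ⟨h, hgen, hsome⟩ : ∃ h : Equiv.Perm (Option (Option α)), (∀ g ∈ G, ind (g.image h) ∈ span G) ∧
      ∀ a, h (some (some a)) = some (some (σ a)) := by
    rcases hkey with hk | hk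
    · refine ⟨h1, ?_, fun a => rfl⟩
      rintro g (rfl | ⟨b, hb, rfl⟩)
      · rw [htop1]; exact hk
      · rw [him1]; exact ind_mem_span (Set.mem_insert_of_mem _ ⟨_, hB b hb, rfl⟩)
    · refine ⟨sw * h1, ?_, fun a => ?_⟩
      · rintro g (rfl | ⟨b, hb, rfl⟩)
        · rw [Equiv.Perm.coe_mul, ← Finset.image_image, htop1]; exact hk
        · rw [Equiv.Perm.coe_mul, ← Finset.image_image, him1, hswl]
          exact ind_mem_span (Set.mem_insert_of_mem _ ⟨_, hB b hb, rfl⟩)
      · show sw (some (some (σ a))) = _
        simp [sw, Equiv.swap_apply_def]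
  have hπ : e.permCongr h ∈ M24 := mem_M24_iff.2 fun u hu => by
    have hu' : u = (u.image e.symm).image e := by simp [Finset.image_image]
    have hsm : e.permCongr h • u = ((u.image e.symm).image h).image e := by
      rw [Finset.smul_finset_def, Finset.image_image, Finset.image_image]
      rfl
    rw [hsm, ← hcode]
    exact image_mem_span h hgen ((hcode _).2 (hu' ▸ hu))
  have hc : Corr e σ ⟨_, hπ⟩ := fun a => by
    show e (h (e.symm (e (some (some a))))) = _
    rw [Equiv.symm_apply_apply, hsome]
    rfl
  exact ⟨⟨_, hπ⟩, corr_mem he hc, hc⟩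

theorem exists_aut_equiv {e : Option (Option α) ≃ GolayPt} (he : Frame B e) :
    ∃ E : ↥(setSystemAut B) ≃* ↥pairGroup, ∀ σ, Corr e σ.1 (E σ).1 := by
  choose f hf hfc using fun σ : ↥(setSystemAut B) => exists_corr he σ.2
  let φ : ↥(setSystemAut B) →* ↥pairGroup := MonoidHom.mk' (fun σ => ⟨f σ, hf σ⟩) fun a b => Subtype.ext
    (corr_unique he (hfc (a * b)) fun x => by
      show (f a).1 ((f b).1 (pnt e x)) = _
      rw [hfc b, hfc a]
      rfl)
  have hbij : Function.Bijective φ := by
    refine ⟨fun a b h => ?_, fun g => ?_⟩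
    · refine Subtype.ext (Equiv.ext fun x => pnt_injective e ?_)
      rw [← hfc a, ← hfc b, show f a = f b from congrArg Subtype.val h]
    · obtain ⟨σ, hσ, hc⟩ := exists_corr_perm he g.2
      exact ⟨⟨σ, hσ⟩, Subtype.ext (corr_unique he (hfc ⟨σ, hσ⟩) hc)⟩
  exact ⟨MulEquiv.ofBijective φ hbij, hfc⟩

theorem card_pairGroup : Nat.card ↥pairGroup = 887040 := by
  refine card_stabilizer_of_orbit ({none, some 0} : Finset GolayPt) {s | s.card = 2} (fun g => ?_) (fun s hs => ?_)
    (n := 276) ?_ (by norm_num)
  · show (g • ({none, some 0} : Finset GolayPt)).card = 2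
    rw [card_smul_set]
    exact Finset.card_pair (by simp)
  · obtain ⟨x, y, hxy, rfl⟩ := Finset.card_eq_two.1 hs
    obtain ⟨g, hx, hy⟩ := exists_map_two (p := none) (q := some 0) (p' := x) (q' := y) (by simp) hxy
    refine ⟨g, ?_⟩
    rw [Finset.smul_finset_def, Finset.image_insert, Finset.image_singleton, hx, hy]
  · rw [show {s : Finset GolayPt | s.card = 2} = ↑((Finset.univ : Finset GolayPt).powersetCard 2) by ext s; simp,
      Set.ncard_coe_finset, Finset.card_powersetCard]
    simp [GolayPt]
    decide

theorem aut22 (hα : Fintype.card α = 22) (hB : IsSteinerSystem 3 6 B) :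
    Nat.card (setSystemAut B) = 887040 ∧ IsMultiplyPretransitive (setSystemAut B) α 3 ∧
      ∃ H : Subgroup (setSystemAut B), H.index = 2 ∧ IsM22 H := by
  obtain ⟨e, he⟩ := exists_frame22 hα hB
  obtain ⟨E, hE⟩ := exists_aut_equiv he
  have hcard : Nat.card (setSystemAut B) = 887040 := by rw [Nat.card_congr E.toEquiv, card_pairGroup]
  refine ⟨hcard, ?_, ?_⟩
  · rw [isMultiplyPretransitive_iff]
    intro x y
    have hnd : ∀ z : Fin 3 ↪ α, [none, some 0, pnt e (z 0), pnt e (z 1), pnt e (z 2)].Nodup := fun z => by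
      have h1 : ∀ i, pnt e (z i) ≠ none ∧ pnt e (z i) ≠ some 0 := fun i => (pnt_range he _).1 ⟨_, rfl⟩
      have h2 : ∀ i j, pnt e (z i) = pnt e (z j) → i = j := fun i j h => z.injective (pnt_injective e h)
      simp only [List.nodup_cons, List.mem_cons, List.not_mem_nil, or_false, List.nodup_nil, not_false_iff,
        and_true, not_or]
      exact ⟨⟨by simp, (h1 0).1.symm, (h1 1).1.symm, (h1 2).1.symm⟩, ⟨(h1 0).2.symm, (h1 1).2.symm, (h1 2).2.symm⟩,
        ⟨fun h => absurd (h2 _ _ h) (by decide), fun h => absurd (h2 _ _ h) (by decide)⟩,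
        fun h => absurd (h2 _ _ h) (by decide)⟩
    obtain ⟨g, hg⟩ := exists_map_list (hnd x) (hnd y) rfl (by simp)
    simp only [List.map_cons, List.map_nil, List.cons.injEq, and_true] at hg
    obtain ⟨g0, g1, g2, g3, g4⟩ := hg
    have hgm : g ∈ pairGroup := mem_pairGroup.2 (Or.inl ⟨g0, g1⟩)
    refine ⟨E.symm ⟨g, hgm⟩, Function.Embedding.ext fun i => pnt_injective e ?_⟩
    have := hE (E.symm ⟨g, hgm⟩) (x i)
    rw [MulEquiv.apply_symm_apply] at this
    rw [Function.Embedding.smul_apply]
    refine this.symm.trans ?_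
    fin_cases i
    · exact g2
    · exact g3
    · exact g4
  · let H : Subgroup ↥pairGroup :=
      (stabilizer ↥M24 (none : GolayPt) ⊓ stabilizer ↥M24 (some 0 : GolayPt)).subgroupOf pairGroup
    have hle : stabilizer ↥M24 (none : GolayPt) ⊓ stabilizer ↥M24 (some 0 : GolayPt) ≤ pairGroup :=
      fun g hg => mem_pairGroup.2 (Or.inl ⟨hg.1, hg.2⟩)
    let H' : Subgroup (setSystemAut B) := H.map E.symm.toMonoidHom
    let F : ↥(stabilizer ↥M24 (none : GolayPt) ⊓ stabilizer ↥M24 (some 0 : GolayPt)) ≃* ↥H' :=
      (Subgroup.subgroupOfEquivOfLe hle).symm.trans (H.equivMapOfInjective _ E.symm.injective)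
    have hH : Nat.card ↥H' = 443520 := by
      rw [← Nat.card_congr F.toEquiv, card_stab_two _ _ (by simp)]
    refine ⟨H', ?_, isSimple_congr F (M22_isSimple (by simp)), hH⟩
    have h := Subgroup.card_mul_index H'
    rw [hH, hcard] at h
    omega

end CfsgLib.Sporadic.Hexad22
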