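import Cfsg.Agent.Lib.Sporadic.J3Center

/-!
# J3 is simple

An element of order 19 has centraliser with primes 3 and 19 only; a proper normal subgroup would
either be centralised by it and by an element of order 17, or contain it, and then the quotient
would be a perfect group of order `2 · 3^k`.
-/

set_option autoImplicit false

namespace CfsgLib.Sporadic.J3

open Cfsg Cfsg.Spor Data Matrix
open scoped MatrixGroups Pointwise

theorem exists_fixed_prime {G : Type*} [Group G] [Finite G] (N : Subgroup G) [N.Normal] (x : G) {p q : ℕ}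
    [Fact p.Prime] [hq : Fact q.Prime] (hx : orderOf x = q) (hN : ¬ q ∣ Nat.card N) (hpN : p ∣ Nat.card N)
    (hk : ∀ k, 0 < k → p ^ k ∣ Nat.card N → p ^ k % q ≠ 1) :
    ∃ y ∈ N, orderOf y = p ∧ Commute y x := by
  let C := Subgroup.zpowers x
  have hC : IsPGroup q C := IsPGroup.of_card (n := 1) (by rw [pow_one, Nat.card_zpowers, hx])
  letI : MulDistribMulAction C N :=
    MulDistribMulAction.compHom N ((MulAut.conjNormal (H := N)).comp C.subtype)
  obtain ⟨P, hP⟩ := hC.nonempty_fixed_point_of_prime_not_dvd_card (Sylow p N) (fun h =>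
    hN (h.trans ((Sylow.card_dvd_index (default : Sylow p N)).trans (Subgroup.index_dvd_card _))))
  letI : MulAction C (P : Subgroup N) :=
    { smul := fun c y => ⟨c • (y : N), by
        have h := congrArg (fun S : Sylow p N => (S : Subgroup N)) (hP c)
        rw [Sylow.pointwise_smul_def] at h
        have h2 := Subgroup.smul_mem_pointwise_smul (y : N) c (P : Subgroup N) y.2
        rwa [h] at h2⟩
      one_smul := fun y => Subtype.ext (one_smul C (y : N))
      mul_smul := fun a c y => Subtype.ext (mul_smul a c (y : N)) }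
  have hcongr := hC.card_modEq_card_fixedPoints (P : Subgroup N)
  have hne : ∃ y ∈ MulAction.fixedPoints C (P : Subgroup N), y ≠ 1 := by
    by_contra hcon
    push Not at hcon
    have h1 : MulAction.fixedPoints C (P : Subgroup N) = {1} :=
      Set.eq_singleton_iff_unique_mem.2 ⟨fun c => Subtype.ext (smul_one c), hcon⟩
    rw [h1, Nat.card_coe_set_eq, Set.ncard_singleton] at hcongr
    obtain ⟨k, hk'⟩ := IsPGroup.iff_card.1 P.isPGroup'
    have hkpos : 0 < k := by
      have := P.dvd_card_of_dvd_card hpN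
      rcases Nat.eq_zero_or_pos k with rfl | h
      · rw [hk', pow_zero] at this
        exact absurd (Nat.le_of_dvd Nat.one_pos this) (by have := (Fact.out : p.Prime).two_le; omega)
      · exact h
    have hdvd : p ^ k ∣ Nat.card N := hk' ▸ Subgroup.card_subgroup_dvd_card _
    refine hk k hkpos hdvd ?_
    have := hcongr
    rw [hk'] at this
    exact Eq.trans (this : _ % q = 1 % q) (Nat.mod_eq_of_lt hq.out.one_lt)
  obtain ⟨y, hy, hy1⟩ := hne
  have hcomm : Commute ((y : N) : G) x := by
    have h := congrArg (fun z : (P : Subgroup N) => ((z : N) : G)) (hy ⟨x, Subgroup.mem_zpowers x⟩)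
    have h' : x * ((y : N) : G) * x⁻¹ = ((y : N) : G) := h
    exact (mul_inv_eq_iff_eq_mul.1 h').symm
  obtain ⟨j, hj⟩ := IsPGroup.iff_orderOf.1 P.isPGroup' y
  have hj0 : 0 < j := Nat.pos_of_ne_zero fun e => hy1 (orderOf_eq_one_iff.1 (by rw [hj, e, pow_zero]))
  have ho : orderOf ((y : N) : G) = p ^ j := by rw [Subgroup.orderOf_coe, Subgroup.orderOf_coe, hj]
  refine ⟨((y : N) : G) ^ p ^ (j - 1), pow_mem (y : N).2 _, ?_, hcomm.pow_left _⟩
  obtain ⟨i, rfl⟩ : ∃ i, j = i + 1 := ⟨j - 1, by omega⟩
  rw [orderOf_pow_of_dvd (pow_ne_zero _ (Fact.out : p.Prime).ne_zero) (ho ▸ pow_dvd_pow p (by omega)), ho,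
    Nat.add_sub_cancel, Nat.pow_div (by omega) (Fact.out : p.Prime).pos, Nat.add_sub_cancel_left, pow_one]

section Abstract

variable {G : Type*} [Group G] [Finite G]

theorem index_normal_dvd {N : Subgroup G} [N.Normal] {q : ℕ} [Fact q.Prime] (P : Sylow q G) (hP : (P : Subgroup G) ≤ N) :
    N.index ∣ Nat.card (Subgroup.normalizer ((P : Subgroup G) : Set G)) := by
  have h : Subgroup.normalizer ((P : Subgroup G) : Set G) ⊔ N = ⊤ := Sylow.normalizer_sup_eq_top' P hP
  have e : N.index = N.relIndex (Subgroup.normalizer ((P : Subgroup G) : Set G)) := by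
    rw [← Subgroup.relIndex_sup_right (Subgroup.normalizer ((P : Subgroup G) : Set G)) N, h, Subgroup.relIndex_top_right]
  rw [e]
  exact Subgroup.index_dvd_card _

/-- The criterion. -/
theorem isSimpleGroup_of_data (hcard : Nat.card G = 50232960)
    (hperf : ∀ N : Subgroup G, N.Normal → (∀ a b : G, a * b * a⁻¹ * b⁻¹ ∈ N) → N = ⊤)
    {x z : G} (hx : orderOf x = 19) (hz : orderOf z = 17)
    (hcx : ∀ y : G, Commute y x → (orderOf y).Prime → orderOf y = 3 ∨ orderOf y = 19)
    (hxz : ∀ y : G, Commute y x → Commute y z → y = 1) : IsSimpleGroup G := by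
  haveI : Fact (Nat.Prime 19) := ⟨by norm_num⟩
  haveI : Fact (Nat.Prime 17) := ⟨by norm_num⟩
  haveI : Fact (Nat.Prime 3) := ⟨by norm_num⟩
  haveI : Nontrivial G := Finite.one_lt_card_iff_nontrivial.1 (by rw [hcard]; norm_num)
  refine ⟨fun N hN => ?_⟩
  by_contra hcon
  push Not at hcon
  obtain ⟨hbot, htop⟩ := hcon
  have hdvd : Nat.card N ∣ 50232960 := hcard ▸ Subgroup.card_subgroup_dvd_card N
  by_cases h19 : 19 ∣ Nat.card N
  · -- the element of order 19 is inside
    have hmult : 19 ^ (Nat.card G).factorization 19 = 19 := by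
      rw [hcard, Nat.factorization_def _ (by norm_num : Nat.Prime 19)]
      have : padicValNat 19 50232960 = 1 := by
        rw [show (50232960 : ℕ) = 19 * 2643840 by norm_num, padicValNat.mul (by norm_num) (by norm_num),
          padicValNat_self, padicValNat.eq_zero_of_not_dvd (by norm_num)]
      rw [this, pow_one]
    let P : Sylow 19 G := Sylow.ofCard (Subgroup.zpowers x) (by rw [Nat.card_zpowers, hx, hmult])
    have hPN : (P : Subgroup G) ≤ N := by
      obtain ⟨y, hy⟩ := exists_prime_orderOf_dvd_card' 19 h19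
      let Q : Sylow 19 G := Sylow.ofCard (Subgroup.zpowers (y : G))
        (by rw [Nat.card_zpowers, Subgroup.orderOf_coe, hy, hmult])
      have hQN : (Q : Subgroup G) ≤ N := (Subgroup.zpowers_le).2 y.2
      obtain ⟨g, hg⟩ := MulAction.exists_smul_eq G Q P
      intro w hw
      rw [← hg, Sylow.coe_subgroup_smul, Subgroup.mem_pointwise_smul_iff_inv_smul_mem] at hw
      have := hN.conj_mem _ (hQN hw) g
      simpa [MulAut.smul_def, mul_assoc] using this
    have hidx := index_normal_dvd P hPN
    set M := Subgroup.normalizer ((P : Subgroup G) : Set G) with hM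
    -- the normaliser of the Sylow subgroup
    have hker : (Subgroup.centralizer ((P : Subgroup G) : Set G)).subgroupOf M =
        (Subgroup.normalizerMonoidHom (P : Subgroup G)).ker := (Subgroup.normalizerMonoidHom_ker _).symm
    have hcen : ∀ q : ℕ, q.Prime → q ∣ Nat.card (Subgroup.normalizerMonoidHom (P : Subgroup G)).ker → q = 3 ∨ q = 19 := by
      intro q hq hdq
      haveI := Fact.mk hq
      obtain ⟨y, hy⟩ := exists_prime_orderOf_dvd_card' q hdq
      have hy' : ((y : M) : G) ∈ Subgroup.centralizer ((P : Subgroup G) : Set G) := by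
        exact Subgroup.mem_subgroupOf.1 ((SetLike.ext_iff.1 hker (y : M)).2 y.2)
      have hc : Commute ((y : M) : G) x :=
        (Subgroup.mem_centralizer_iff.1 hy' x (Subgroup.mem_zpowers x)).symm
      have ho : orderOf ((y : M) : G) = q := by rw [Subgroup.orderOf_coe, Subgroup.orderOf_coe, hy]
      rcases hcx _ hc (ho ▸ hq) with e | e
      · exact Or.inl (ho ▸ e)
      · exact Or.inr (ho ▸ e)
    have haut : Nat.card (Subgroup.normalizerMonoidHom (P : Subgroup G)).range ∣ 18 := by
      haveI : IsCyclic (P : Subgroup G) := show IsCyclic (Subgroup.zpowers x) from inferInstance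
      have e : Nat.card (MulAut (P : Subgroup G)) = 18 := by
        rw [IsCyclic.card_mulAut, show Nat.card (P : Subgroup G) = 19 from (Nat.card_zpowers x).trans hx,
          Nat.totient_prime (by norm_num : Nat.Prime 19)]
      exact e ▸ Subgroup.card_subgroup_dvd_card _
    have hMcard : Nat.card M = Nat.card (Subgroup.normalizerMonoidHom (P : Subgroup G)).range *
        Nat.card (Subgroup.normalizerMonoidHom (P : Subgroup G)).ker := by
      rw [← Subgroup.index_ker, Subgroup.index_mul_card]
    have h19N : ¬ 19 ∣ N.index := by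
      intro h
      have := N.card_mul_index
      rw [hcard] at this
      obtain ⟨a, ha⟩ := h19
      obtain ⟨c, hc⟩ := h
      rw [ha, hc] at this
      have : 19 ∣ 2643840 := ⟨a * c, by linarith⟩
      norm_num at this
    have hprimes : ∀ q, q.Prime → q ∣ N.index → q = 2 ∨ q = 3 := by
      intro q hq hqd
      have h1 : q ∣ 18 ∨ q ∣ Nat.card (Subgroup.normalizerMonoidHom (P : Subgroup G)).ker :=
        (hq.dvd_mul.1 (hMcard ▸ hqd.trans hidx)).imp_left fun h => h.trans haut
      rcases h1 with h | h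
      · have hle := Nat.le_of_dvd (by norm_num) h
        interval_cases q <;> first | omega | (norm_num at hq; done) | (norm_num at h; done)
      · rcases hcen q hq h with rfl | rfl
        · exact Or.inr rfl
        · exact absurd hqd h19N
    have hfour : ¬ 4 ∣ N.index := by
      intro h
      have hk : Nat.Coprime 4 (Nat.card (Subgroup.normalizerMonoidHom (P : Subgroup G)).ker) := by
        rw [show (4 : ℕ) = 2 ^ 2 by norm_num]
        refine Nat.Coprime.pow_left _ ((Nat.prime_two.coprime_iff_not_dvd).2 fun h2 => ?_)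
        rcases hcen 2 Nat.prime_two h2 with e | e <;> omega
      have := (hk.dvd_of_dvd_mul_right (hMcard ▸ h.trans hidx)).trans haut
      norm_num at this
    -- the quotient is perfect of order two times a power of three
    haveI : Nontrivial (G ⧸ N) := by
      rw [← Finite.one_lt_card_iff_nontrivial]
      have h1 : Nat.card (G ⧸ N) ≠ 1 := fun h => htop (Subgroup.index_eq_one.1 h)
      have h2 := Nat.card_pos (α := G ⧸ N)
      omega
    let S : Sylow 3 (G ⧸ N) := default
    have hS : (S : Subgroup (G ⧸ N)).index ≤ 2 := by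
      have hd : (S : Subgroup (G ⧸ N)).index ∣ N.index := Subgroup.index_dvd_card _
      have hne : (S : Subgroup (G ⧸ N)).index ≠ 0 := Subgroup.index_ne_zero_of_finite
      have e := Nat.eq_prime_pow_of_unique_prime_dvd hne (p := 2) (fun {d} hdp hdd => by
        rcases hprimes d hdp (hdd.trans hd) with rfl | rfl
        · rfl
        · exact absurd hdd S.not_dvd_index)
      by_contra hlt
      push Not at hlt
      refine hfour ((show 4 ∣ (S : Subgroup (G ⧸ N)).index from ?_).trans hd)
      rw [e] at hlt ⊢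
      rcases Nat.lt_or_ge (S : Subgroup (G ⧸ N)).index.primeFactorsList.length 2 with h | h
      · have := Nat.pow_le_pow_right (show 1 ≤ 2 by norm_num) (Nat.le_of_lt_succ h)
        omega
      · exact (show (4 : ℕ) = 2 ^ 2 by norm_num) ▸ pow_dvd_pow 2 h
    haveI hSn : (S : Subgroup (G ⧸ N)).Normal := by
      rcases Nat.lt_or_ge (S : Subgroup (G ⧸ N)).index 2 with h | h
      · have := Subgroup.index_ne_zero_of_finite (H := (S : Subgroup (G ⧸ N)))
        rw [Subgroup.index_eq_one.1 (by omega : (S : Subgroup (G ⧸ N)).index = 1)]; infer_instance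
      · exact Subgroup.normal_of_index_eq_two (by omega)
    have hperfQ : ∀ L : Subgroup (G ⧸ N), L.Normal → (∀ u v, u * v * u⁻¹ * v⁻¹ ∈ L) → L = ⊤ := by
      intro L hL h
      have := hperf (L.comap (QuotientGroup.mk' N)) inferInstance fun u v => by
        simpa using h (QuotientGroup.mk u) (QuotientGroup.mk v)
      rw [← Subgroup.map_comap_eq_self_of_surjective (QuotientGroup.mk'_surjective N) L, this,
        Subgroup.map_top_of_surjective _ (QuotientGroup.mk'_surjective N)]
    have hStop : (S : Subgroup (G ⧸ N)) = ⊤ := by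
      refine hperfQ _ hSn fun u v => ?_
      rw [← QuotientGroup.eq_one_iff]
      have hcard2 : Nat.card ((G ⧸ N) ⧸ (S : Subgroup (G ⧸ N))) ≤ 2 := hS
      have hcommQ : ∀ s t : (G ⧸ N) ⧸ (S : Subgroup (G ⧸ N)), s * t = t * s := by
        rcases Nat.lt_or_ge (Nat.card ((G ⧸ N) ⧸ (S : Subgroup (G ⧸ N)))) 2 with h | h
        · have h0 := Nat.card_pos (α := (G ⧸ N) ⧸ (S : Subgroup (G ⧸ N)))
          have h1 : Nat.card ((G ⧸ N) ⧸ (S : Subgroup (G ⧸ N))) = 1 := by omega
          intro s t
          obtain ⟨w, hw⟩ := Nat.card_eq_one_iff_exists.1 h1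
          rw [hw (s * t), hw (t * s)]
        · haveI : IsCyclic ((G ⧸ N) ⧸ (S : Subgroup (G ⧸ N))) :=
            isCyclic_of_prime_card (p := 2) (by omega)
          exact fun s t => (IsCyclic.commGroup).mul_comm s t
      simp only [QuotientGroup.mk_mul, QuotientGroup.mk_inv]
      rw [hcommQ (QuotientGroup.mk u) (QuotientGroup.mk v)]
      group
    have hpg : IsPGroup 3 (G ⧸ N) := by
      intro u
      obtain ⟨k, hk⟩ := S.isPGroup' ⟨u, hStop ▸ Subgroup.mem_top u⟩
      exact ⟨k, congrArg Subtype.val hk⟩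
    haveI := hpg.isNilpotent
    have hder : commutator (G ⧸ N) < ⊤ := IsSolvable.commutator_lt_top_of_nontrivial _
    exact hder.ne (hperfQ _ inferInstance fun u v => Subgroup.commutator_mem_commutator (Subgroup.mem_top u) (Subgroup.mem_top v))
  · -- otherwise `N` is a 3-group centralised by both
    have hthree : ∀ q, q.Prime → q ∣ Nat.card N → q = 3 := by
      intro q hq hqd
      haveI := Fact.mk hq
      by_contra h3
      have hq' : q ∈ ({2, 5, 17, 19} : Finset ℕ) := by
        have h := hqd.trans hdvd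
        have : q ∈ (50232960 : ℕ).primeFactors := Nat.mem_primeFactors.2 ⟨hq, h, by norm_num⟩
        rw [show (50232960 : ℕ) = 2 ^ 7 * 3 ^ 5 * 5 * 17 * 19 by norm_num] at this
        rw [Nat.primeFactors_mul (by norm_num) (by norm_num), Nat.primeFactors_mul (by norm_num) (by norm_num),
          Nat.primeFactors_mul (by norm_num) (by norm_num), Nat.primeFactors_mul (by norm_num) (by norm_num),
          Nat.primeFactors_pow _ (by norm_num), Nat.primeFactors_pow _ (by norm_num)] at this
        simp only [Nat.Prime.primeFactors (by norm_num : Nat.Prime 2), Nat.Prime.primeFactors (by norm_num : Nat.Prime 3),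
          Nat.Prime.primeFactors (by norm_num : Nat.Prime 5), Nat.Prime.primeFactors (by norm_num : Nat.Prime 17),
          Nat.Prime.primeFactors (by norm_num : Nat.Prime 19), Finset.mem_union, Finset.mem_singleton] at this
        simp only [Finset.mem_insert, Finset.mem_singleton]
        tauto
      simp only [Finset.mem_insert, Finset.mem_singleton] at hq'
      have hk : ∀ k, 0 < k → q ^ k ∣ Nat.card N → q ^ k % 19 ≠ 1 := by
        intro k hk0 hkd
        have hd := hkd.trans hdvd
        have hk8 : k < 8 := by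
          by_contra hge
          push Not at hge
          have := (pow_dvd_pow q hge).trans hd
          rcases hq' with rfl | rfl | rfl | rfl <;> norm_num at this
        have : q = 19 → False := fun e => h19 (e ▸ hqd)
        rcases hq' with rfl | rfl | rfl | rfl <;> interval_cases k <;> first
          | (norm_num at hd; done) | norm_num | exact absurd rfl this
      obtain ⟨y, -, hy, hyc⟩ := exists_fixed_prime N x hx h19 hqd hk
      rcases hcx y hyc (hy ▸ hq) with e | e
      · exact h3 (hy ▸ e)
      · exact h19 ((hy ▸ e : q = 19) ▸ hqd)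
    obtain ⟨k, hk⟩ : ∃ k, Nat.card N = 3 ^ k := ⟨(Nat.card N).factorization 3, by
      conv_lhs => rw [← Nat.prod_factorization_pow_eq_self (Nat.card_pos (α := N)).ne']
      rw [Finsupp.prod]
      refine Finset.prod_eq_single 3 (fun q hq hne => ?_) (fun h => by simp [Finsupp.notMem_support_iff.1 h])
      rw [Nat.support_factorization, Nat.mem_primeFactors] at hq
      exact absurd (hthree q hq.1 hq.2.1) hne⟩
    have hk5 : k ≤ 5 := by
      by_contra hge
      push Not at hge
      have := (pow_dvd_pow 3 hge).trans (hk ▸ hdvd)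
      norm_num at this
    have hcent : ∀ (g : G) (p : ℕ) [Fact p.Prime], orderOf g = p → (∀ j ≤ 5, ∀ i ≤ 5, 3 ^ i % p = 3 ^ j % p → i = j) →
        ∀ y ∈ N, Commute y g := by
      intro g p hp hg hinj y hy
      let C := Subgroup.zpowers g
      have hC : IsPGroup p C := IsPGroup.of_card (n := 1) (by rw [pow_one, Nat.card_zpowers, hg])
      let K : Subgroup N := (Subgroup.centralizer {g}).subgroupOf N
      have hfix : Nat.card K % p = Nat.card N % p := by
        letI : MulAction C N :=
          MulAction.compHom N ((MulAut.conjNormal (H := N)).comp C.subtype)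
        rw [show Nat.card K = Nat.card (MulAction.fixedPoints C N) from Nat.card_congr (Equiv.subtypeEquivRight fun w => ?_)]
        · exact (hC.card_modEq_card_fixedPoints N).symm
        · rw [Subgroup.mem_subgroupOf, Subgroup.mem_centralizer_singleton_iff]
          constructor
          · rintro h ⟨c, i, rfl⟩
            exact Subtype.ext (show g ^ i * (w : G) * (g ^ i)⁻¹ = w from
              mul_inv_eq_iff_eq_mul.2 ((show Commute g (w : G) from h.symm).zpow_left i).eq)
          · intro h
            have h' : g * (w : G) * g⁻¹ = w := congrArg Subtype.val (h ⟨g, Subgroup.mem_zpowers g⟩)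
            exact (mul_inv_eq_iff_eq_mul.1 h').symm
      haveI : Fact (Nat.Prime 3) := ⟨by norm_num⟩
      obtain ⟨j, hj⟩ := IsPGroup.iff_card.1 ((IsPGroup.of_card (p := 3) hk).to_subgroup K)
      have hjk : j ≤ k := by
        have := Nat.le_of_dvd Nat.card_pos (Subgroup.card_subgroup_dvd_card K)
        rw [hk, hj] at this
        exact (Nat.pow_le_pow_iff_right (by norm_num)).1 this
      rw [hk, hj] at hfix
      have := hinj k hk5 j (hjk.trans hk5) hfix
      subst this
      have htopK : K = ⊤ := Subgroup.eq_top_of_card_eq _ (by rw [hj, hk])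
      have : (⟨y, hy⟩ : N) ∈ K := htopK ▸ Subgroup.mem_top _
      rw [Subgroup.mem_subgroupOf, Subgroup.mem_centralizer_singleton_iff] at this
      exact this
    refine hbot ((Subgroup.eq_bot_iff_forall _).2 fun y hy => hxz y (hcent x 19 hx ?_ y hy) (hcent z 17 hz ?_ y hy))
    · decide
    · decide

end Abstract

section Concrete

open Polynomial in
/-- In a matrix algebra over `F₄`, a combination of powers of an element with `X^19 = 1` has period `4^9`. -/
theorem pow_of_aeval {F : Type*} [Field F] [Fintype F] (hF : Fintype.card F = 4) {X : Matrix F9 F9 F}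
    (hX : X ^ 19 = 1) (p : F[X]) : aeval X p ^ (4 ^ 9) = aeval X p := by
  have key : ∀ n, expand F (4 ^ n) p = p ^ (4 ^ n) := by
    intro n
    induction n with
    | zero => simp
    | succ n ih =>
      rw [pow_succ', expand_mul, ih, map_pow]
      have := FiniteField.expand_card p
      rw [hF] at this
      rw [this, ← pow_mul]
  have hm : 4 ^ 9 % 19 = 1 := by norm_num
  have e : X ^ (4 ^ 9) = X := by
    rw [← Nat.div_add_mod (4 ^ 9) 19, hm, pow_add, pow_mul, hX, one_pow, one_mul, pow_one]
  rw [← map_pow, ← key, expand_aeval, e]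

variable {F : Type*} [Field F] [CharP F 2] {ω : F} (hω : ω ^ 2 + ω + 1 = 0)
include hω

theorem X_pow : X19 ω ^ 19 = (1 : Matrix F9 F9 F) ∧ X17 ω ^ 17 = (1 : Matrix F9 F9 F) := by
  have h := Valid.words_ok
  simp only [Bool.and_eq_true] at h
  obtain ⟨⟨⟨⟨⟨⟨⟨⟨⟨⟨⟨⟨-, -⟩, -⟩, b19⟩, b17⟩, -⟩, -⟩, -⟩, -⟩, -⟩, -⟩, -⟩, -⟩ := h
  unfold X19 X17
  rw [← dec_mpow hω, ← dec_mpow hω, Nat.eq_of_beq_eq_true b19, Nat.eq_of_beq_eq_true b17, dec_one]
  exact ⟨rfl, rfl⟩

variable [Fintype F]

open Polynomial in
theorem pow_commutant (hF : Fintype.card F = 4) {Y : GL F9 F} (hY : Commute (Y : Matrix F9 F9 F) (X19 ω)) :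
    Y ^ (4 ^ 9 - 1) = 1 := by
  have hV : dec ω vMat * dec ω vInv = 1 := by
    have h := Valid.comm_ok
    rw [Bool.and_eq_true] at h
    exact dec_base hω h.1
  let u : F9 → F := dec ω vInv *ᵥ ((Y : Matrix F9 F9 F) *ᵥ e₀)
  let p : F[X] := ∑ i : F9, Polynomial.C (u i) * Polynomial.X ^ ix i
  have hp : aeval (X19 ω) p = ∑ i : F9, u i • X19 ω ^ ix i := by
    simp [p, map_sum, Algebra.smul_def]
  have hc : Commute (∑ i : F9, u i • X19 ω ^ ix i) (X19 ω) :=
    Commute.sum_left _ _ _ fun i _ => ((Commute.refl _).pow_left _).smul_left _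
  have e : (Y : Matrix F9 F9 F) = ∑ i : F9, u i • X19 ω ^ ix i := by
    refine eq_of_commute hω hY hc ?_
    have : dec ω vMat *ᵥ u = (Y : Matrix F9 F9 F) *ᵥ e₀ := by
      rw [mulVec_mulVec, hV, one_mulVec]
    rw [← this, Matrix.sum_mulVec]
    funext a
    rw [Matrix.mulVec, dotProduct, Finset.sum_apply]
    refine Finset.sum_congr rfl fun i _ => ?_
    rw [Matrix.smul_mulVec, Pi.smul_apply, vMat_apply hω, smul_eq_mul, mul_comm]
  have h1 : Y ^ (4 ^ 9) = Y := by
    apply Units.ext
    rw [Units.val_pow_eq_pow_val, e, ← hp, pow_of_aeval hF (X_pow hω).1]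
  rw [show 4 ^ 9 = (4 ^ 9 - 1) + 1 by norm_num, pow_succ] at h1
  exact mul_eq_right.1 h1

theorem word_elts : (∃ g ∈ threeJ3 F ω, (g : Matrix F9 F9 F) = X19 ω ∧ orderOf g = 19) ∧
    ∃ g ∈ threeJ3 F ω, (g : Matrix F9 F9 F) = X17 ω ∧ orderOf g = 17 := by
  have h := Valid.words_ok
  simp only [Bool.and_eq_true, Bool.not_eq_true'] at h
  obtain ⟨⟨⟨⟨⟨⟨⟨⟨⟨⟨⟨⟨a19, a17⟩, -⟩, -⟩, -⟩, -⟩, n19⟩, n17⟩, -⟩, -⟩, -⟩, -⟩, -⟩ := h
  obtain ⟨g, hg, eg⟩ := mem_threeJ3_word hω a19
  obtain ⟨k, hk, ek⟩ := mem_threeJ3_word hω a17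
  haveI : Fact (Nat.Prime 19) := ⟨by norm_num⟩
  haveI : Fact (Nat.Prime 17) := ⟨by norm_num⟩
  refine ⟨⟨g, hg, eg, orderOf_eq_prime ?_ ?_⟩, k, hk, ek, orderOf_eq_prime ?_ ?_⟩
  · exact Units.ext (by rw [Units.val_pow_eq_pow_val, eg]; exact (X_pow hω).1)
  · intro e
    rw [e, Units.val_one, ← dec_one (ω := ω)] at eg
    rw [dec_inj hω (by decide +kernel) (by decide +kernel) eg.symm] at n19
    simp at n19
  · exact Units.ext (by rw [Units.val_pow_eq_pow_val, ek]; exact (X_pow hω).2)
  · intro e
    rw [e, Units.val_one, ← dec_one (ω := ω)] at ek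
    rw [dec_inj hω (by decide +kernel) (by decide +kernel) ek.symm] at n17
    simp at n17

/-- Commuting in the quotient with the image of an element of order prime to 3 lifts. -/
theorem commute_lift (hF : Fintype.card F = 4) {y g : threeJ3 F ω} {n : ℕ} (hn : Nat.Coprime n 3) (hg : g ^ n = 1)
    (h : Commute (QuotientGroup.mk y : J3 F ω) (QuotientGroup.mk g)) : Commute y g := by
  obtain ⟨c, hc, e⟩ : ∃ c ∈ Subgroup.center (threeJ3 F ω), y * g * y⁻¹ = g * c := by
    refine ⟨g⁻¹ * (y * g * y⁻¹), ?_, by group⟩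
    rw [← QuotientGroup.eq_one_iff]
    simp only [QuotientGroup.mk_mul, QuotientGroup.mk_inv]
    rw [h.eq]; group
  have h3 : c ^ 3 = 1 := by
    have := pow_card_eq_one' (G := Subgroup.center (threeJ3 F ω)) (x := ⟨c, hc⟩)
    rw [card_center hω hF] at this
    exact congrArg Subtype.val this
  have hcn : c ^ n = 1 := by
    have e2 : (y * g * y⁻¹) ^ n = 1 := by rw [conj_pow, hg, mul_one, mul_inv_cancel]
    rwa [e, (show Commute g c from Subgroup.mem_center_iff.1 hc g).mul_pow, hg, one_mul] at e2
  have : c = 1 := by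
    have := pow_gcd_eq_one.2 ⟨hcn, h3⟩
    rwa [hn, pow_one] at this
  rw [this, mul_one] at e
  exact mul_inv_eq_iff_eq_mul.1 e

theorem isSimple_J3 (hF : Fintype.card F = 4) : IsSimpleGroup (J3 F ω) := by
  obtain ⟨⟨g, hg, eg, og⟩, k, hk, ek, ok⟩ := word_elts hω
  have og' : orderOf (⟨g, hg⟩ : threeJ3 F ω) = 19 := by rw [Subgroup.orderOf_mk, og]
  have ok' : orderOf (⟨k, hk⟩ : threeJ3 F ω) = 17 := by rw [Subgroup.orderOf_mk, ok]
  have hmk : ∀ (u : threeJ3 F ω) (n : ℕ), n.Prime → n ≠ 3 → orderOf u = n →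
      orderOf (QuotientGroup.mk u : J3 F ω) = n := by
    intro u n hn hn3 hu
    haveI := Fact.mk hn
    refine orderOf_eq_prime ?_ fun e => ?_
    · rw [← QuotientGroup.mk_pow, ← hu, pow_orderOf_eq_one]; rfl
    · have hu' := (QuotientGroup.eq_one_iff u).1 e
      have := orderOf_dvd_natCard (⟨u, hu'⟩ : Subgroup.center (threeJ3 F ω))
      rw [card_center hω hF, Subgroup.orderOf_mk, hu] at this
      exact hn3 ((Nat.prime_dvd_prime_iff_eq hn Nat.prime_three).1 this)
  refine isSimpleGroup_of_data (card_J3 hω hF) ?_ (hmk _ 19 (by norm_num) (by norm_num) og')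
    (hmk _ 17 (by norm_num) (by norm_num) ok') ?_ ?_
  · intro N hN hab
    letI : CommGroup (J3 F ω ⧸ N) :=
      { (inferInstance : Group (J3 F ω ⧸ N)) with
        mul_comm := fun a b => by
          obtain ⟨a, rfl⟩ := QuotientGroup.mk_surjective a
          obtain ⟨b, rfl⟩ := QuotientGroup.mk_surjective b
          have := (QuotientGroup.eq_one_iff (N := N) _).2 (hab a b)
          simp only [QuotientGroup.mk_mul, QuotientGroup.mk_inv] at this
          exact commutatorElement_eq_one_iff_mul_comm.1 this }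
    exact eq_top_iff.2 fun a _ => (QuotientGroup.eq_one_iff a).1 (J3_hom_trivial hω (QuotientGroup.mk' N) a)
  · intro y hy hp
    obtain ⟨y, rfl⟩ := QuotientGroup.mk_surjective y
    have hc := commute_lift hω hF (n := 19) (by norm_num) (by rw [← og', pow_orderOf_eq_one]) hy
    have hY : Commute ((y : GL F9 F) : Matrix F9 F9 F) (X19 ω) := by
      rw [← eg]
      exact congrArg (fun u : threeJ3 F ω => ((u : GL F9 F) : Matrix F9 F9 F)) hc.eq
    have h1 : (QuotientGroup.mk y : J3 F ω) ^ (4 ^ 9 - 1) = 1 := by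
      rw [← QuotientGroup.mk_pow]
      rw [show y ^ (4 ^ 9 - 1) = 1 from Subtype.ext (pow_commutant hω hF hY)]
      rfl
    have d1 := orderOf_dvd_of_pow_eq_one h1
    have d2 := orderOf_dvd_natCard (QuotientGroup.mk y : J3 F ω)
    rw [card_J3 hω hF] at d2
    have := Nat.dvd_gcd d1 d2
    rw [show Nat.gcd (4 ^ 9 - 1) 50232960 = 3 ^ 3 * 19 by norm_num] at this
    rcases hp.dvd_mul.1 this with h | h
    · exact Or.inl ((Nat.prime_dvd_prime_iff_eq hp Nat.prime_three).1 (hp.dvd_of_dvd_pow h))
    · exact Or.inr ((Nat.prime_dvd_prime_iff_eq hp (by norm_num)).1 h)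
  · intro y hy hy'
    obtain ⟨y, rfl⟩ := QuotientGroup.mk_surjective y
    have c1 := commute_lift hω hF (n := 19) (by norm_num) (by rw [← og', pow_orderOf_eq_one]) hy
    have c2 := commute_lift hω hF (n := 17) (by norm_num) (by rw [← ok', pow_orderOf_eq_one]) hy'
    refine (QuotientGroup.eq_one_iff y).2 ((mem_center_iff hω y).2 ⟨_, scalar_of_commute hω ?_ ?_⟩)
    · rw [← eg]; exact congrArg (fun u : threeJ3 F ω => ((u : GL F9 F) : Matrix F9 F9 F)) c1.eq
    · rw [← ek]; exact congrArg (fun u : threeJ3 F ω => ((u : GL F9 F) : Matrix F9 F9 F)) c2.eq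

end Concrete

end CfsgLib.Sporadic.J3
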