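import Cfsg.Agent.Lib.Sporadic.ConwayVecs

/-!
# Sets of minimal vectors with given inner products

Certificates turn into: the size, transitivity of the common stabiliser, the list of members, and the
order of the stabiliser of one more vector.
-/

set_option autoImplicit false

namespace CfsgLib.Sporadic.Conway

open Cfsg Finset CfsgLib.ThreeTrans.Leech CfsgLib.Sporadic.Lattice

/-- The minimal vectors with the listed inner products. -/
def DS (ks : List (↥leechLattice × ℤ)) : Set ↥leechLattice :=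
  {x | sqNorm (x : Vec) = 32 ∧ ∀ p ∈ ks, dotInt (p.1 : Vec) (x : Vec) = p.2}

theorem smul_mem_DS {ks : List (↥leechLattice × ℤ)} {g : ↥Co0} (hg : ∀ p ∈ ks, g • p.1 = p.1)
    {x : ↥leechLattice} (hx : x ∈ DS ks) : g • x ∈ DS ks :=
  ⟨(norm_smul' g x).trans hx.1, fun p hp => by rw [← hx.2 p hp, ← dot_smul' g p.1 x, hg p hp]⟩

theorem smul_mem_map {ks : List (↥leechLattice × ℤ)} {g : ↥Co0} {x : ↥leechLattice} :
    g • x ∈ DS (ks.map fun p => (g • p.1, p.2)) ↔ x ∈ DS ks := by
  simp only [DS, Set.mem_ofPred_eq, List.forall_mem_map, norm_smul', dot_smul']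

theorem image_DS (ks : List (↥leechLattice × ℤ)) (g : ↥Co0) :
    (g • ·) '' DS ks = DS (ks.map fun p => (g • p.1, p.2)) := by
  ext y
  constructor
  · rintro ⟨x, hx, rfl⟩; exact smul_mem_map.2 hx
  · intro hy
    exact ⟨g⁻¹ • y, smul_mem_map.1 (by rw [smul_inv_smul]; exact hy), smul_inv_smul g y⟩

theorem ncard_map (ks : List (↥leechLattice × ℤ)) (g : ↥Co0) :
    (DS (ks.map fun p => (g • p.1, p.2))).ncard = (DS ks).ncard := by
  rw [← image_DS, Set.ncard_image_of_injective _ (MulAction.injective g)]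

/-- A transitive common stabiliser, stated for arbitrary base vectors. -/
def Trans (f : List ↥leechLattice) (S : Set ↥leechLattice) : Prop :=
  ∀ x ∈ S, ∀ y ∈ S, ∃ g : ↥Co0, g • x = y ∧ ∀ v ∈ f, g • v = v

theorem trans_map {f : List ↥leechLattice} {ks : List (↥leechLattice × ℤ)} (g : ↥Co0)
    (h : Trans (f.map (g • ·)) (DS (ks.map fun p => (g • p.1, p.2)))) : Trans f (DS ks) := by
  intro x hx y hy
  obtain ⟨a, ha, haf⟩ := h _ (smul_mem_map.2 hx) _ (smul_mem_map.2 hy)
  refine ⟨g⁻¹ * a * g, by rw [mul_smul, mul_smul, ha, inv_smul_smul], fun v hv => ?_⟩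
  rw [mul_smul, mul_smul, haf _ (List.mem_map_of_mem hv), inv_smul_smul]

theorem DS_finite {v : ↥leechLattice} {k : ℤ} {ks : List (↥leechLattice × ℤ)} (h : (v, k) ∈ ks) :
    (DS ks).Finite :=
  (shell_dot_finite (v : Vec) k).subset fun _ hx => ⟨hx.1, hx.2 (v, k) h⟩

theorem DS_one (v : ↥leechLattice) (k : ℤ) : (DS [(v, k)]).ncard = (dotClass (v : Vec) k).card := by
  rw [← dot_ncard]
  congr 1
  ext x; simp [DS]

/-- A certificate applied to a set cut out by inner products. -/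
theorem ds_cert {gens : List (List (ℕ × ℕ))} {fixed : List ℕ} {root : ℕ} {T : OTree} {n : ℕ}
    (h : orbitOK gens fixed root T n = true) (f : List ↥leechLattice)
    (hf : f.map (fun v : ↥leechLattice => (v : Vec)) = fixed.map pv) (ks : List (↥leechLattice × ℤ))
    (hks : ∀ p ∈ ks, p.1 ∈ f) (r : ↥leechLattice) (hr : (r : Vec) = pv root) (hrS : r ∈ DS ks)
    (hfin : (DS ks).Finite) (hcard : (DS ks).ncard ≤ n) :
    (DS ks).ncard = n ∧ Trans f (DS ks) ∧ ∀ x ∈ DS ks, ∃ e ∈ T.entries, (x : Vec) = pv e.1 := by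
  obtain ⟨h1, h2, h3⟩ := orbit_of_cert h (DS ks) (fixGroup f) (fix_le hf)
    (fun g hg x hx => smul_mem_DS (fun p hp => mem_fixGroup.1 hg p.1 (hks p hp)) hx) hcard hfin r hr hrS
  refine ⟨h1, fun x hx y hy => ?_, h3⟩
  obtain ⟨a, ha, rfl⟩ := h2 x hx
  obtain ⟨b, hb, rfl⟩ := h2 y hy
  exact ⟨b * a⁻¹, by rw [mul_smul, inv_smul_smul], fun v hv => mem_fixGroup.1 (mul_mem hb (inv_mem ha)) v hv⟩

/-- A subset cut out of a listed set. -/
theorem ds_bound {T : OTree} {ks ls : List (↥leechLattice × ℤ)} {n : ℕ}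
    (hkeys : ∀ x ∈ DS ks, ∃ e ∈ T.entries, (x : Vec) = pv e.1) (hsub : ∀ p ∈ ks, p ∈ ls)
    (extra : List (ℕ × ℤ)) (hextra : ∀ q ∈ extra, ∃ p ∈ ls, (p.1 : Vec) = pv q.1 ∧ p.2 = q.2)
    (h : (T.entries.filter fun e => extra.all fun q => decide (dotInt (pv q.1) (pv e.1) = q.2)).length = n) :
    (DS ls).Finite ∧ (DS ls).ncard ≤ n := by
  set B : Finset Vec :=
    ((T.entries.filter fun e => extra.all fun q => decide (dotInt (pv q.1) (pv e.1) = q.2)).map
      fun e => pv e.1).toFinset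
  have hB : Subtype.val '' DS ls ⊆ (B : Set Vec) := by
    rintro _ ⟨x, hx, rfl⟩
    obtain ⟨e, he, ev⟩ := hkeys x ⟨hx.1, fun p hp => hx.2 p (hsub p hp)⟩
    simp only [B, Finset.mem_coe, List.mem_toFinset, List.mem_map, List.mem_filter, List.all_eq_true,
      decide_eq_true_eq]
    refine ⟨e, ⟨he, fun q hq => ?_⟩, ev.symm⟩
    obtain ⟨p, hp, e1, e2⟩ := hextra q hq
    rw [← e1, ← ev, ← e2]
    exact hx.2 p hp
  refine ⟨Set.Finite.of_finite_image (B.finite_toSet.subset hB) Subtype.val_injective.injOn, ?_⟩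
  rw [← Set.ncard_image_of_injective _ Subtype.val_injective]
  refine (Set.ncard_le_ncard hB B.finite_toSet).trans ?_
  rw [Set.ncard_coe_finset]
  exact (List.toFinset_card_le _).trans (by rw [List.length_map, h])

/-- Inner products within a listed set take listed values. -/
theorem ds_values {T : OTree} {ks : List (↥leechLattice × ℤ)}
    (hkeys : ∀ x ∈ DS ks, ∃ e ∈ T.entries, (x : Vec) = pv e.1) {r : ↥leechLattice} {root : ℕ}
    (hr : (r : Vec) = pv root) (vals : List ℤ)
    (h : (T.entries.all fun e => Nat.beq e.1 root || decide (dotInt (pv root) (pv e.1) ∈ vals)) = true)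
    {x : ↥leechLattice} (hx : x ∈ DS ks) : x = r ∨ dotInt (r : Vec) (x : Vec) ∈ vals := by
  obtain ⟨e, he, ev⟩ := hkeys x hx
  have h' := List.all_eq_true.1 h e he
  simp only [Bool.or_eq_true, Nat.beq_eq, decide_eq_true_eq] at h'
  rcases h' with h' | h'
  · exact Or.inl (Subtype.ext (by rw [ev, h', hr]))
  · exact Or.inr (by rw [hr, ev]; exact h')

theorem fixGroup_cons (r : ↥leechLattice) (f : List ↥leechLattice) :
    fixGroup (r :: f) = fixGroup f ⊓ MulAction.stabilizer ↥Co0 r := by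
  ext g
  simp [mem_fixGroup, MulAction.mem_stabilizer_iff, and_comm]

/-- Orbit and stabiliser. -/
theorem card_fix {f : List ↥leechLattice} {ks : List (↥leechLattice × ℤ)} {r : ↥leechLattice}
    (hks : ∀ p ∈ ks, p.1 ∈ f) (hr : r ∈ DS ks) (ht : Trans f (DS ks)) :
    Nat.card ↥(fixGroup f) = (DS ks).ncard * Nat.card ↥(fixGroup (r :: f)) := by
  have horb : MulAction.orbit ↥(fixGroup f) r = DS ks := by
    ext x
    constructor
    · rintro ⟨g, rfl⟩
      exact smul_mem_DS (fun p hp => mem_fixGroup.1 g.2 p.1 (hks p hp)) hr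
    · intro hx
      obtain ⟨g, hg, hgf⟩ := ht r hr x hx
      exact ⟨⟨g, mem_fixGroup.2 hgf⟩, hg⟩
  rw [← horb, fixGroup_cons, ← MulAction.index_stabilizer,
    ← Subgroup.card_mul_index (MulAction.stabilizer ↥(fixGroup f) r), mul_comm]
  congr 1
  refine Nat.card_congr
    { toFun := fun g => ⟨g.1.1, g.1.2, MulAction.mem_stabilizer_iff.2 g.2⟩
      invFun := fun g => ⟨⟨g.1, g.2.1⟩, MulAction.mem_stabilizer_iff.2 g.2.2⟩
      left_inv := fun _ => rfl
      right_inv := fun _ => rfl }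

/-- The orbit of the common stabiliser, as a set. -/
theorem orbit_eq_DS {f : List ↥leechLattice} {ks : List (↥leechLattice × ℤ)} {r : ↥leechLattice}
    (hks : ∀ p ∈ ks, p.1 ∈ f) (hr : r ∈ DS ks) (ht : Trans f (DS ks)) (K : Subgroup ↥Co0)
    (hK : K = fixGroup f) : MulAction.orbit ↥K r = DS ks := by
  subst hK
  ext x
  constructor
  · rintro ⟨g, rfl⟩
    exact smul_mem_DS (fun p hp => mem_fixGroup.1 g.2 p.1 (hks p hp)) hr
  · intro hx
    obtain ⟨g, hg, hgf⟩ := ht r hr x hx
    exact ⟨⟨g, mem_fixGroup.2 hgf⟩, hg⟩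

theorem smul_mem_fixGroup {f : List ↥leechLattice} (g : ↥Co0) (a : ↥Co0) :
    a ∈ fixGroup (f.map (g • ·)) ↔ g⁻¹ * a * g ∈ fixGroup f := by
  simp only [mem_fixGroup, List.forall_mem_map, mul_smul, inv_smul_eq_iff]

theorem card_fix_map (f : List ↥leechLattice) (g : ↥Co0) :
    Nat.card ↥(fixGroup (f.map (g • ·))) = Nat.card ↥(fixGroup f) :=
  Nat.card_congr
    { toFun := fun a => ⟨g⁻¹ * a.1 * g, (smul_mem_fixGroup g a.1).1 a.2⟩
      invFun := fun a => ⟨g * a.1 * g⁻¹, (smul_mem_fixGroup g _).2 (by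
        rw [show g⁻¹ * (g * a.1 * g⁻¹) * g = a.1 by group]; exact a.2)⟩
      left_inv := fun a => Subtype.ext (by simp [mul_assoc])
      right_inv := fun a => Subtype.ext (by simp [mul_assoc]) }

/-- The same, as an isomorphism. -/
def fixConj (f : List ↥leechLattice) (g : ↥Co0) : ↥(fixGroup f) ≃* ↥(fixGroup (f.map (g • ·))) where
  toFun a := ⟨g * a.1 * g⁻¹, (smul_mem_fixGroup g _).2 (by
    rw [show g⁻¹ * (g * a.1 * g⁻¹) * g = a.1 by group]; exact a.2)⟩
  invFun a := ⟨g⁻¹ * a.1 * g, (smul_mem_fixGroup g a.1).1 a.2⟩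
  left_inv a := Subtype.ext (by simp [mul_assoc])
  right_inv a := Subtype.ext (by simp [mul_assoc])
  map_mul' a b := Subtype.ext (by simp [mul_assoc])

theorem card_fix_one (v : ↥leechLattice) {n : ℤ} (hv : sqNorm (v : Vec) = n)
    (htr : ∀ x : ↥leechLattice, sqNorm (x : Vec) = n → ∃ g : ↥Co0, g • x = v) :
    8315553613086720000 = (shell n).card * Nat.card ↥(fixGroup [v]) := by
  have horb : MulAction.orbit ↥Co0 v = {x : ↥leechLattice | sqNorm (x : Vec) = n} := by
    ext x
    constructor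
    · rintro ⟨g, rfl⟩; exact (norm_smul' g v).trans hv
    · intro hx
      obtain ⟨g, hg⟩ := htr x hx
      exact ⟨g⁻¹, by rw [← hg]; exact inv_smul_smul g x⟩
  have hcard : (MulAction.orbit ↥Co0 v).ncard = (shell n).card := by
    rw [horb, ← Set.ncard_coe_finset, ← Set.ncard_image_of_injective _ Subtype.val_injective]
    congr 1
    ext w
    simp only [Set.mem_image, Set.mem_ofPred_eq, Finset.mem_coe, mem_shell]
    exact ⟨fun ⟨x, hx, e⟩ => e ▸ ⟨x.2, hx⟩, fun h => ⟨⟨w, h.1⟩, h.2, rfl⟩⟩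
  have hf : fixGroup [v] = MulAction.stabilizer ↥Co0 v := by
    ext g; simp [mem_fixGroup]
  rw [hf, ← card_Co0, ← hcard, ← MulAction.index_stabilizer, ← Subgroup.card_mul_index (MulAction.stabilizer ↥Co0 v),
    mul_comm]

theorem card_fix_five : Nat.card ↥(fixGroup [fiveElt]) = 495766656000 := by
  have h := card_fix_one fiveElt fiveElt_norm fun x hx => to_five hx
  rw [card_shell, count48] at h
  omega

theorem card_fix_pair : Nat.card ↥(fixGroup [pairElt]) = 42305421312000 := by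
  have h := card_fix_one pairElt pairElt_norm fun x hx => to_pair hx
  rw [card_shell, count32] at h
  omega

end CfsgLib.Sporadic.Conway
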