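import Cfsg.Agent.Lib.Sporadic.ConwayVecs
import Cfsg.Agent.Lib.Sporadic.OrbitHsHundred
import Cfsg.Agent.Lib.Sporadic.OrbitMclPoints
import Cfsg.Agent.Lib.Sporadic.OrbitCoThreeSplits
import Cfsg.Agent.Lib.Sporadic.OrbitCoTwoNear
import Cfsg.Agent.Lib.Sporadic.OrbitCoThreeFar

/-!
# Orbits of vector stabilisers
-/

set_option autoImplicit false

namespace CfsgLib.Sporadic.Conway

open Cfsg Finset CfsgLib.ThreeTrans.Leech CfsgLib.Sporadic.Lattice

/-- One orbit, from a certificate and a bound on the size. -/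
theorem set_orbit {gens : List (List (ℕ × ℕ))} {fixed : List ℕ} {root : ℕ} {T : OTree} {n : ℕ}
    (h : orbitOK gens fixed root T n = true) {f : List ↥leechLattice}
    (hf : f.map (fun v : ↥leechLattice => (v : Vec)) = fixed.map pv) (r : ↥leechLattice) (hr : (r : Vec) = pv root)
    (ks : List (↥leechLattice × ℤ)) (hks : ∀ p ∈ ks, p.1 ∈ f)
    (hn : sqNorm (r : Vec) = 32) (hd : ∀ p ∈ ks, dotInt (p.1 : Vec) (r : Vec) = p.2)
    (hfin : {x : ↥leechLattice | sqNorm (x : Vec) = 32 ∧ ∀ p ∈ ks, dotInt (p.1 : Vec) (x : Vec) = p.2}.Finite)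
    (hcard : {x : ↥leechLattice | sqNorm (x : Vec) = 32 ∧ ∀ p ∈ ks, dotInt (p.1 : Vec) (x : Vec) = p.2}.ncard ≤ n) :
    {x : ↥leechLattice | sqNorm (x : Vec) = 32 ∧ ∀ p ∈ ks, dotInt (p.1 : Vec) (x : Vec) = p.2}.ncard = n ∧
    ∀ x x' : ↥leechLattice, sqNorm (x : Vec) = 32 → (∀ p ∈ ks, dotInt (p.1 : Vec) (x : Vec) = p.2) →
      sqNorm (x' : Vec) = 32 → (∀ p ∈ ks, dotInt (p.1 : Vec) (x' : Vec) = p.2) →
      ∃ g : ↥Co0, g • x = x' ∧ ∀ v ∈ f, g • v = v := by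
  obtain ⟨h1, h2, -⟩ := orbit_of_cert h {x : ↥leechLattice | sqNorm (x : Vec) = 32 ∧
    ∀ p ∈ ks, dotInt (p.1 : Vec) (x : Vec) = p.2} (fixGroup f) (fix_le hf) (fun g hg x hx => ⟨(norm_smul' g x).trans hx.1,
    fun p hp => by
      rw [← hx.2 p hp, ← dot_smul' g p.1 x, mem_fixGroup.1 hg p.1 (hks p hp)]⟩) hcard hfin r hr ⟨hn, hd⟩
  refine ⟨h1, fun x x' hx hxd hx' hxd' => ?_⟩
  obtain ⟨a, ha, ea⟩ := h2 x ⟨hx, hxd⟩
  obtain ⟨b, hb, eb⟩ := h2 x' ⟨hx', hxd'⟩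
  refine ⟨b * a⁻¹, ?_, fun v hv => mem_fixGroup.1 (mul_mem hb (inv_mem ha)) v hv⟩
  rw [mul_smul, ← ea, inv_smul_smul, eb]

theorem one_orbit {gens : List (List (ℕ × ℕ))} {root : ℕ} {T : OTree} {n : ℕ} {c : ℕ}
    (h : orbitOK gens [c] root T n = true) (v : ↥leechLattice) (hv : (v : Vec) = pv c)
    (hL : LTest (pv root)) (hn : sqNorm (pv root) = 32) (k : ℤ) (hd : dotInt (pv c) (pv root) = k)
    (hcount : (dotClass (v : Vec) k).card = n) :
    ∀ x x' : ↥leechLattice, sqNorm (x : Vec) = 32 → dotInt (v : Vec) (x : Vec) = k →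
      sqNorm (x' : Vec) = 32 → dotInt (v : Vec) (x' : Vec) = k →
      ∃ g : ↥Co0, g • x = x' ∧ g • v = v := by
  have e : {x : ↥leechLattice | sqNorm (x : Vec) = 32 ∧ ∀ p ∈ [(v, k)], dotInt (p.1 : Vec) (x : Vec) = p.2} =
      {x : ↥leechLattice | sqNorm (x : Vec) = 32 ∧ dotInt (v : Vec) (x : Vec) = k} := by
    ext x; simp
  obtain ⟨-, ht⟩ := set_orbit h (f := [v]) (by simp [hv]) ⟨pv root, pv_mem hL⟩ rfl [(v, k)]
    (by simp) hn (by simp [hv, hd]) (e ▸ shell_dot_finite _ _) (by rw [e, dot_ncard, hcount])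
  intro x x' h1 h2 h3 h4
  obtain ⟨g, hg, hf⟩ := ht x x' h1 (by simpa using h2) h3 (by simpa using h4)
  exact ⟨g, hg, hf v (List.mem_singleton_self v)⟩

theorem near_std {x x' : ↥leechLattice} (h1 : sqNorm (x : Vec) = 32) (h2 : dotInt (pairElt : Vec) (x : Vec) = -16)
    (h3 : sqNorm (x' : Vec) = 32) (h4 : dotInt (pairElt : Vec) (x' : Vec) = -16) :
    ∃ g : ↥Co0, g • x = x' ∧ g • pairElt = pairElt :=
  one_orbit coTwoNear_ok pairElt rfl (by decide +kernel) (by decide +kernel) (-16) (by decide +kernel)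
    (census (mem_shell.2 ⟨pairElt.2, pairElt_norm⟩)).1 x x' h1 h2 h3 h4

theorem splits_dot {u : Vec} (hu : u ∈ shell 48) : (dotClass u 24).card = 552 := by
  obtain ⟨huL, hun⟩ := mem_shell.1 hu
  rw [← splits48 hu]
  refine congrArg Finset.card (Finset.filter_congr fun w hw => ?_)
  obtain ⟨hwL, hwn⟩ := mem_shell.1 hw
  rw [mem_shell, sq_sub_dot, hun, hwn]
  exact ⟨fun h => ⟨sub_mem huL hwL, by omega⟩, fun h => by omega⟩

theorem split_std {x x' : ↥leechLattice} (h1 : sqNorm (x : Vec) = 32) (h2 : dotInt (fiveElt : Vec) (x : Vec) = 24)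
    (h3 : sqNorm (x' : Vec) = 32) (h4 : dotInt (fiveElt : Vec) (x' : Vec) = 24) :
    ∃ g : ↥Co0, g • x = x' ∧ g • fiveElt = fiveElt :=
  one_orbit coThreeSplits_ok fiveElt rfl (by decide +kernel) (by decide +kernel) 24 (by decide +kernel)
    (splits_dot (mem_shell.2 ⟨fiveElt.2, fiveElt_norm⟩)) x x' h1 h2 h3 h4

theorem far_std {x x' : ↥leechLattice} (h1 : sqNorm (x : Vec) = 32) (h2 : dotInt (fiveElt : Vec) (x : Vec) = -16)
    (h3 : sqNorm (x' : Vec) = 32) (h4 : dotInt (fiveElt : Vec) (x' : Vec) = -16) :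
    ∃ g : ↥Co0, g • x = x' ∧ g • fiveElt = fiveElt :=
  one_orbit coThreeFar_ok fiveElt rfl (by decide +kernel) (by decide +kernel) (-16) (by decide +kernel)
    ((census48_dots (mem_shell.2 ⟨fiveElt.2, fiveElt_norm⟩)).1) x x' h1 h2 h3 h4

/-- Transitivity at a standard vector moves to any vector equivalent to it. -/
theorem transport {v v₀ : ↥leechLattice} {g : ↥Co0} (hg : g • v = v₀) {k : ℤ}
    (h : ∀ {x x' : ↥leechLattice}, sqNorm (x : Vec) = 32 → dotInt (v₀ : Vec) (x : Vec) = k →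
      sqNorm (x' : Vec) = 32 → dotInt (v₀ : Vec) (x' : Vec) = k → ∃ a : ↥Co0, a • x = x' ∧ a • v₀ = v₀)
    {x x' : ↥leechLattice} (h1 : sqNorm (x : Vec) = 32) (h2 : dotInt (v : Vec) (x : Vec) = k)
    (h3 : sqNorm (x' : Vec) = 32) (h4 : dotInt (v : Vec) (x' : Vec) = k) :
    ∃ a : ↥Co0, a • v = v ∧ a • x = x' := by
  obtain ⟨a, ha, hav⟩ := h (x := g • x) (x' := g • x') (by rw [norm_smul', h1]) (by rw [← hg, dot_smul', h2])
    (by rw [norm_smul', h3]) (by rw [← hg, dot_smul', h4])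
  exact ⟨g⁻¹ * a * g, by rw [mul_smul, mul_smul, hg, hav, ← hg, inv_smul_smul],
    by rw [mul_smul, mul_smul, ha, inv_smul_smul]⟩

theorem near_trans (v w w' : ↥leechLattice) (hv : sqNorm (v : Vec) = 32) (hw : sqNorm (w : Vec) = 32)
    (hw' : sqNorm (w' : Vec) = 32) (hd : dotInt (v : Vec) (w : Vec) = -16)
    (hd' : dotInt (v : Vec) (w' : Vec) = -16) : ∃ g : ↥Co0, g • v = v ∧ g • w = w' := by
  obtain ⟨g, hg⟩ := to_pair hv
  exact transport hg (fun a b c d => near_std a b c d) hw hd hw' hd'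

theorem dot24_iff {u v : ↥leechLattice} (hu : sqNorm (u : Vec) = 48) (hv : sqNorm (v : Vec) = 32) :
    dotInt (u : Vec) (v : Vec) = 24 ↔ sqNorm ((u - v) : Vec) = 32 := by
  rw [sq_sub_dot, hu, hv]; omega

theorem splits_trans (u v v' : ↥leechLattice) (hu : sqNorm (u : Vec) = 48)
    (hv : sqNorm (v : Vec) = 32 ∧ sqNorm ((u - v) : Vec) = 32)
    (hv' : sqNorm (v' : Vec) = 32 ∧ sqNorm ((u - v') : Vec) = 32) :
    ∃ g : ↥Co0, g • u = u ∧ g • v = v' := by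
  obtain ⟨g, hg⟩ := to_five hu
  exact transport hg (fun a b c d => split_std a b c d) hv.1 ((dot24_iff hu hv.1).2 hv.2) hv'.1
    ((dot24_iff hu hv'.1).2 hv'.2)

theorem far_trans (u : ↥leechLattice) (hu : sqNorm (u : Vec) = 48) :
    {x : ↥leechLattice | sqNorm (x : Vec) = 32 ∧ dotInt (u : Vec) (x : Vec) = -16}.ncard = 11178 ∧
    ∀ x ∈ {x : ↥leechLattice | sqNorm (x : Vec) = 32 ∧ dotInt (u : Vec) (x : Vec) = -16},
      ∀ x' ∈ {x : ↥leechLattice | sqNorm (x : Vec) = 32 ∧ dotInt (u : Vec) (x : Vec) = -16},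
        ∃ g : ↥Co0, g • u = u ∧ g • x = x' := by
  refine ⟨by rw [dot_ncard]; exact (census48_dots (mem_shell.2 ⟨u.2, hu⟩)).1, fun x hx x' hx' => ?_⟩
  obtain ⟨g, hg⟩ := to_five hu
  exact transport hg (fun a b c d => far_std a b c d) hx.1 hx.2 hx'.1 hx'.2

/-! ### inside the 552 -/

theorem split_keys {x : ↥leechLattice} (hn : sqNorm (x : Vec) = 32) (hd : dotInt (fiveElt : Vec) (x : Vec) = 24) :
    (x : Vec) ∈ ((coThreeSplitsTree.entries.map fun e => pv e.1).toFinset : Finset Vec) := by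
  have hT := coThreeSplits_ok
  simp only [orbitOK, Bool.and_eq_true, Nat.beq_eq] at hT
  obtain ⟨-, hsize, hsort, -⟩ := hT
  obtain ⟨hpair, hbound⟩ := OTree.sorted_spec hsort
  have hkeys : ∀ e ∈ coThreeSplitsTree.entries,
      LTest (pv e.1) ∧ sqNorm (pv e.1) = 32 ∧ dotInt (pv kFive) (pv e.1) = 24 := by
    decide +kernel
  have hnd : (coThreeSplitsTree.entries.map fun e => pv e.1).Nodup := by
    have h0 : (coThreeSplitsTree.entries.map Prod.fst).Nodup := hpair.imp fun hab => Nat.ne_of_lt hab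
    rw [show (coThreeSplitsTree.entries.map fun e => pv e.1) = (coThreeSplitsTree.entries.map Prod.fst).map pv
      from by rw [List.map_map]; rfl]
    refine h0.map_on fun a ha b hb e => pv_inj ?_ ?_ e
    · obtain ⟨c, hc, rfl⟩ := List.mem_map.1 ha
      exact (hbound c hc).2
    · obtain ⟨c, hc, rfl⟩ := List.mem_map.1 hb
      exact (hbound c hc).2
  have hsub : (coThreeSplitsTree.entries.map fun e => pv e.1).toFinset ⊆ dotClass (fiveElt : Vec) 24 := by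
    intro y hy
    obtain ⟨e, he, rfl⟩ := List.mem_map.1 (List.mem_toFinset.1 hy)
    obtain ⟨h1, h2, h3⟩ := hkeys e he
    exact Finset.mem_filter.2 ⟨mem_shell.2 ⟨pv_mem h1, h2⟩, h3⟩
  rw [Finset.eq_of_subset_of_card_le hsub (by
    rw [splits_dot (mem_shell.2 ⟨fiveElt.2, fiveElt_norm⟩), List.toFinset_card_of_nodup hnd, List.length_map,
      ← OTree.size_eq, hsize])]
  exact Finset.mem_filter.2 ⟨mem_shell.2 ⟨x.2, hn⟩, hd⟩

/-- Those among the 552 with a further inner product. -/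
theorem sub_split_card (c : ℕ) (k : ℤ) (n : ℕ)
    (h : (coThreeSplitsTree.entries.filter fun e => decide (dotInt (pv c) (pv e.1) = k)).length = n)
    (S : Set ↥leechLattice)
    (hS : ∀ x ∈ S, sqNorm (x : Vec) = 32 ∧ dotInt (fiveElt : Vec) (x : Vec) = 24 ∧ dotInt (pv c) (x : Vec) = k) :
    S.Finite ∧ S.ncard ≤ n := by
  set B : Finset Vec :=
    ((coThreeSplitsTree.entries.filter fun e => decide (dotInt (pv c) (pv e.1) = k)).map fun e => pv e.1).toFinset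
  have hsub : Subtype.val '' S ⊆ (B : Set Vec) := by
    rintro _ ⟨x, hx, rfl⟩
    obtain ⟨h1, h2, h3⟩ := hS x hx
    obtain ⟨e, he, ev⟩ := List.mem_map.1 (List.mem_toFinset.1 (split_keys h1 h2))
    simp only [B, Finset.mem_coe, List.mem_toFinset, List.mem_map, List.mem_filter, decide_eq_true_eq]
    exact ⟨e, ⟨he, by rw [ev]; exact h3⟩, ev⟩
  refine ⟨Set.Finite.of_finite_image (B.finite_toSet.subset hsub) Subtype.val_injective.injOn, ?_⟩
  rw [← Set.ncard_image_of_injective _ Subtype.val_injective]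
  refine (Set.ncard_le_ncard hsub B.finite_toSet).trans ?_
  rw [Set.ncard_coe_finset]
  exact (List.toFinset_card_le _).trans (by rw [List.length_map, h])

theorem mcl_std :
    {x : ↥leechLattice | sqNorm (x : Vec) = 32 ∧ ∀ p ∈ [(fiveElt, (24 : ℤ)), (pairElt, 16)],
      dotInt (p.1 : Vec) (x : Vec) = p.2}.ncard = 275 ∧
    ∀ x x' : ↥leechLattice, sqNorm (x : Vec) = 32 →
      (∀ p ∈ [(fiveElt, (24 : ℤ)), (pairElt, 16)], dotInt (p.1 : Vec) (x : Vec) = p.2) →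
      sqNorm (x' : Vec) = 32 → (∀ p ∈ [(fiveElt, (24 : ℤ)), (pairElt, 16)], dotInt (p.1 : Vec) (x' : Vec) = p.2) →
      ∃ g : ↥Co0, g • x = x' ∧ ∀ v ∈ [fiveElt, pairElt], g • v = v := by
  obtain ⟨hfin, hle⟩ := sub_split_card kPair 16 275 (by decide +kernel) {x : ↥leechLattice |
    sqNorm (x : Vec) = 32 ∧ ∀ p ∈ [(fiveElt, (24 : ℤ)), (pairElt, 16)], dotInt (p.1 : Vec) (x : Vec) = p.2} fun x hx =>
    ⟨hx.1, hx.2 (fiveElt, 24) (by simp), hx.2 (pairElt, 16) (by simp)⟩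
  exact set_orbit mclPoints_ok (f := [fiveElt, pairElt]) rfl ⟨pv 62062060636173731114942761160,
    pv_mem (by decide +kernel)⟩ rfl _ (by simp) (by decide +kernel)
    (by simp only [List.forall_mem_cons]; exact ⟨by decide +kernel, by decide +kernel, by simp⟩) hfin hle

theorem hundred_std :
    {x : ↥leechLattice | sqNorm (x : Vec) = 32 ∧ ∀ p ∈ [(fiveElt, (24 : ℤ)), (hsElt, -24)],
      dotInt (p.1 : Vec) (x : Vec) = p.2}.ncard = 100 ∧
    ∀ x x' : ↥leechLattice, sqNorm (x : Vec) = 32 →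
      (∀ p ∈ [(fiveElt, (24 : ℤ)), (hsElt, -24)], dotInt (p.1 : Vec) (x : Vec) = p.2) →
      sqNorm (x' : Vec) = 32 → (∀ p ∈ [(fiveElt, (24 : ℤ)), (hsElt, -24)], dotInt (p.1 : Vec) (x' : Vec) = p.2) →
      ∃ g : ↥Co0, g • x = x' ∧ ∀ v ∈ [fiveElt, hsElt], g • v = v := by
  obtain ⟨hfin, hle⟩ := sub_split_card kHs (-24) 100 (by decide +kernel) {x : ↥leechLattice |
    sqNorm (x : Vec) = 32 ∧ ∀ p ∈ [(fiveElt, (24 : ℤ)), (hsElt, -24)], dotInt (p.1 : Vec) (x : Vec) = p.2} fun x hx =>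
    ⟨hx.1, hx.2 (fiveElt, 24) (by simp), hx.2 (hsElt, -24) (by simp)⟩
  exact set_orbit hsHundred_ok (f := [fiveElt, hsElt]) rfl ⟨pv 62062060636173731114942761100,
    pv_mem (by decide +kernel)⟩ rfl _ (by simp) (by decide +kernel)
    (by simp only [List.forall_mem_cons]; exact ⟨by decide +kernel, by decide +kernel, by simp⟩) hfin hle

theorem to_mcl {u v : ↥leechLattice} (hu : sqNorm (u : Vec) = 48)
    (hv : sqNorm (v : Vec) = 32 ∧ sqNorm ((u - v) : Vec) = 32) :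
    ∃ g : ↥Co0, g • u = fiveElt ∧ g • v = pairElt := by
  obtain ⟨g, hg⟩ := to_five hu
  obtain ⟨a, ha, haf⟩ := split_std (x := g • v) (x' := pairElt) (by rw [norm_smul', hv.1])
    (by rw [← hg, dot_smul']; exact (dot24_iff hu hv.1).2 hv.2) pairElt_norm
    (by show dotInt (pv kFive) (pv kPair) = 24; decide +kernel)
  exact ⟨a * g, by rw [mul_smul, hg, haf], by rw [mul_smul, ha]⟩

/-- Any admissible pair goes to the standard one. -/
theorem to_hs {v w : ↥leechLattice} (hv : sqNorm (v : Vec) = 48) (hw : sqNorm (w : Vec) = 48)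
    (hvw : dotInt (v : Vec) (w : Vec) = -32) : ∃ g : ↥Co0, g • v = fiveElt ∧ g • w = hsElt := by
  obtain ⟨g, hg⟩ := to_five hv
  have hgw : dotInt (fiveElt : Vec) ((g • w : ↥leechLattice) : Vec) = -32 := by rw [← hg, dot_smul', hvw]
  have hgwn : sqNorm ((g • w : ↥leechLattice) : Vec) = 48 := by rw [norm_smul', hw]
  have hff : dotInt (fiveElt : Vec) (fiveElt : Vec) = 48 := by
    show dotInt (pv kFive) (pv kFive) = 48
    decide +kernel
  have e : ∀ z : ↥leechLattice, ((-(fiveElt + z) : ↥leechLattice) : Vec) = -((fiveElt : Vec) + (z : Vec)) :=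
    fun z => rfl
  have hn : ∀ y : Vec, sqNorm (-y) = sqNorm y := fun y => by simp [sqNorm]
  have hadd : ∀ z : Vec, dotInt (fiveElt : Vec) ((fiveElt : Vec) + z) =
      dotInt (fiveElt : Vec) (fiveElt : Vec) + dotInt (fiveElt : Vec) z := fun z => by
    simp only [dotInt, Pi.add_apply, mul_add, Finset.sum_add_distrib]
  obtain ⟨a, ha, haf⟩ := far_std (x := -(fiveElt + g • w)) (x' := -(fiveElt + hsElt))
    (by rw [e, hn, sq_add_dot, fiveElt_norm, hgwn, hgw]; norm_num)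
    (by rw [e, dot_neg_right, hadd, hff, hgw]; norm_num)
    (by rw [e, hn]; show sqNorm (pv kFive + pv kHs) = 32; decide +kernel)
    (by rw [e]; show dotInt (pv kFive) (-(pv kFive + pv kHs)) = -16; decide +kernel)
  refine ⟨a * g, by rw [mul_smul, hg, haf], ?_⟩
  rw [mul_smul]
  rw [show a • (-(fiveElt + g • w)) = -(a • fiveElt + a • g • w) from by
    rw [smul_neg']; exact congrArg Neg.neg (map_add (linOf a) _ _), haf, neg_inj, add_right_inj] at ha
  exact ha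

theorem hs_swap (v w : ↥leechLattice) (hv : sqNorm (v : Vec) = 48) (hw : sqNorm (w : Vec) = 48)
    (hvw : dotInt (v : Vec) (w : Vec) = -32) : ∃ g : ↥Co0, g • v = w ∧ g • w = v := by
  obtain ⟨a, ha1, ha2⟩ := to_hs hv hw hvw
  obtain ⟨b, hb1, hb2⟩ := to_hs hw hv (by rw [show dotInt (w : Vec) (v : Vec) = dotInt (v : Vec) (w : Vec) from
    Finset.sum_congr rfl fun i _ => mul_comm _ _, hvw])
  exact ⟨b⁻¹ * a, by rw [mul_smul, ha1, ← hb1, inv_smul_smul], by rw [mul_smul, ha2, ← hb2, inv_smul_smul]⟩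

/-- A set and an action on it, moved along one element. -/
theorem transport_pair {u v u₀ v₀ : ↥leechLattice} {g : ↥Co0} (hu : g • u = u₀) (hv : g • v = v₀) (a b : ℤ) (n : ℕ)
    (h : {x : ↥leechLattice | sqNorm (x : Vec) = 32 ∧ ∀ p ∈ [(u₀, a), (v₀, b)],
      dotInt (p.1 : Vec) (x : Vec) = p.2}.ncard = n ∧
    ∀ x x' : ↥leechLattice, sqNorm (x : Vec) = 32 →
      (∀ p ∈ [(u₀, a), (v₀, b)], dotInt (p.1 : Vec) (x : Vec) = p.2) →
      sqNorm (x' : Vec) = 32 → (∀ p ∈ [(u₀, a), (v₀, b)], dotInt (p.1 : Vec) (x' : Vec) = p.2) →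
      ∃ c : ↥Co0, c • x = x' ∧ ∀ z ∈ [u₀, v₀], c • z = z) :
    {x : ↥leechLattice | sqNorm (x : Vec) = 32 ∧ dotInt (u : Vec) (x : Vec) = a ∧
      dotInt (v : Vec) (x : Vec) = b}.ncard = n ∧
    ∀ x x' : ↥leechLattice, sqNorm (x : Vec) = 32 → dotInt (u : Vec) (x : Vec) = a → dotInt (v : Vec) (x : Vec) = b →
      sqNorm (x' : Vec) = 32 → dotInt (u : Vec) (x' : Vec) = a → dotInt (v : Vec) (x' : Vec) = b →
      ∃ c : ↥Co0, c • u = u ∧ c • v = v ∧ c • x = x' := by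
  have hiff : ∀ x : ↥leechLattice, (sqNorm ((g • x : ↥leechLattice) : Vec) = 32 ∧
      ∀ p ∈ [(u₀, a), (v₀, b)], dotInt (p.1 : Vec) ((g • x : ↥leechLattice) : Vec) = p.2) ↔
      (sqNorm (x : Vec) = 32 ∧ dotInt (u : Vec) (x : Vec) = a ∧ dotInt (v : Vec) (x : Vec) = b) := fun x => by
    simp only [List.forall_mem_cons, List.not_mem_nil, false_imp_iff, implies_true, and_true, norm_smul',
      ← hu, ← hv, dot_smul']
  constructor
  · rw [← h.1, ← Set.ncard_image_of_injective {x : ↥leechLattice | sqNorm (x : Vec) = 32 ∧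
      dotInt (u : Vec) (x : Vec) = a ∧ dotInt (v : Vec) (x : Vec) = b} (MulAction.injective g)]
    congr 1
    ext y
    constructor
    · rintro ⟨x, hx, rfl⟩; exact (hiff x).2 hx
    · intro hy
      exact ⟨g⁻¹ • y, (hiff _).1 (by rw [smul_inv_smul]; exact hy), smul_inv_smul g y⟩
  · intro x x' h1 h2 h3 h4 h5 h6
    have hx := (hiff x).2 ⟨h1, h2, h3⟩
    have hx' := (hiff x').2 ⟨h4, h5, h6⟩
    obtain ⟨c, hc, hcf⟩ := h.2 _ _ hx.1 hx.2 hx'.1 hx'.2
    refine ⟨g⁻¹ * c * g, ?_, ?_, by rw [mul_smul, mul_smul, hc, inv_smul_smul]⟩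
    · rw [mul_smul, mul_smul, hu, hcf _ (by simp), ← hu, inv_smul_smul]
    · rw [mul_smul, mul_smul, hv, hcf _ (by simp), ← hv, inv_smul_smul]

theorem mcl_trans (u v : ↥leechLattice) (hu : sqNorm (u : Vec) = 48)
    (hv : sqNorm (v : Vec) = 32 ∧ sqNorm ((u - v) : Vec) = 32) :
    {x : ↥leechLattice | sqNorm (x : Vec) = 32 ∧ sqNorm ((u - x) : Vec) = 32 ∧
      dotInt (v : Vec) (x : Vec) = 16}.ncard = 275 ∧
    ∀ x ∈ {x : ↥leechLattice | sqNorm (x : Vec) = 32 ∧ sqNorm ((u - x) : Vec) = 32 ∧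
      dotInt (v : Vec) (x : Vec) = 16}, ∀ x' ∈ {x : ↥leechLattice | sqNorm (x : Vec) = 32 ∧
      sqNorm ((u - x) : Vec) = 32 ∧ dotInt (v : Vec) (x : Vec) = 16},
      ∃ g : ↥Co0, g • u = u ∧ g • v = v ∧ g • x = x' := by
  obtain ⟨g, hg1, hg2⟩ := to_mcl hu hv
  obtain ⟨hc, ht⟩ := transport_pair hg1 hg2 24 16 275 mcl_std
  refine ⟨?_, fun x hx x' hx' => ht x x' hx.1 ((dot24_iff hu hx.1).2 hx.2.1) hx.2.2 hx'.1
    ((dot24_iff hu hx'.1).2 hx'.2.1) hx'.2.2⟩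
  rw [← hc]
  congr 1
  ext x
  exact and_congr_right fun hn => and_congr_left fun _ => (dot24_iff hu hn).symm

theorem hundred_trans (v w : ↥leechLattice) (hv : sqNorm (v : Vec) = 48) (hw : sqNorm (w : Vec) = 48)
    (hvw : dotInt (v : Vec) (w : Vec) = -32) :
    {x : ↥leechLattice | sqNorm (x : Vec) = 32 ∧ dotInt (v : Vec) (x : Vec) = 24 ∧
      dotInt (w : Vec) (x : Vec) = -24}.ncard = 100 ∧
    ∀ x ∈ {x : ↥leechLattice | sqNorm (x : Vec) = 32 ∧ dotInt (v : Vec) (x : Vec) = 24 ∧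
      dotInt (w : Vec) (x : Vec) = -24}, ∀ x' ∈ {x : ↥leechLattice | sqNorm (x : Vec) = 32 ∧
      dotInt (v : Vec) (x : Vec) = 24 ∧ dotInt (w : Vec) (x : Vec) = -24},
      ∃ g : ↥Co0, g • v = v ∧ g • w = w ∧ g • x = x' := by
  obtain ⟨g, hg1, hg2⟩ := to_hs hv hw hvw
  obtain ⟨hc, ht⟩ := transport_pair hg1 hg2 24 (-24) 100 hundred_std
  exact ⟨hc, fun x hx x' hx' => ht x x' hx.1 hx.2.1 hx.2.2 hx'.1 hx'.2.1 hx'.2.2⟩

end CfsgLib.Sporadic.Conway
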