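import Cfsg.Agent.Lib.Sporadic.ConwayDotFast
import Cfsg.Agent.Lib.Sporadic.ConwayDotSets
import Cfsg.Agent.Lib.Sporadic.ConwayOrbitSets
import Cfsg.Agent.Lib.Sporadic.OrbitMclTwenty
import Cfsg.Agent.Lib.Sporadic.OrbitMclTwentySubP8
import Cfsg.Agent.Lib.Sporadic.OrbitMclTwentySubP16
import Cfsg.Agent.Lib.Sporadic.OrbitMclTwentySubP0
import Cfsg.Agent.Lib.Sporadic.OrbitMclSubP8
import Cfsg.Agent.Lib.Sporadic.OrbitMclSubP16
import Cfsg.Agent.Lib.Sporadic.OrbitHsSubP8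
import Cfsg.Agent.Lib.Sporadic.OrbitHsSubP16
import Cfsg.Agent.Lib.Sporadic.OrbitCoThreeFarSubP16
import Cfsg.Agent.Lib.Sporadic.OrbitCoThreeFarSubP8
import Cfsg.Agent.Lib.Sporadic.OrbitCoThreeFarSubP0
import Cfsg.Agent.Lib.Sporadic.OrbitCoThreeFarSubM8

/-!
# Point sets of the smaller Conway groups and their suborbits
-/

set_option autoImplicit false

namespace CfsgLib.Sporadic.Conway

open Cfsg Finset CfsgLib.ThreeTrans.Leech CfsgLib.Sporadic.Lattice

attribute [local irreducible] OTree.entries coThreeFarTree coThreeSplitsTree mclTwentyTree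

set_option maxHeartbeats 1000000

/-- A lattice element given packed. -/
noncomputable def elt (V : ℕ) (h : LTest (pv V)) : ↥leechLattice := ⟨pv V, pv_mem h⟩

theorem DS_congr {ks ls : List (↥leechLattice × ℤ)}
    (h : ∀ x : ↥leechLattice, sqNorm (x : Vec) = 32 →
      ((∀ p ∈ ks, dotInt (p.1 : Vec) (x : Vec) = p.2) ↔ ∀ p ∈ ls, dotInt (p.1 : Vec) (x : Vec) = p.2)) :
    DS ks = DS ls :=
  Set.ext fun x => ⟨fun hx => ⟨hx.1, (h x hx.1).1 hx.2⟩, fun hx => ⟨hx.1, (h x hx.1).2 hx.2⟩⟩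

/-- Negation moves a set to the one with opposite inner products. -/
theorem ncard_DS_neg (ks : List (↥leechLattice × ℤ)) :
    (DS (ks.map fun p => (p.1, -p.2))).ncard = (DS ks).ncard := by
  rw [← Set.ncard_image_of_injective (DS ks) (neg_injective (G := ↥leechLattice))]
  congr 1
  ext y
  simp only [Set.mem_image, DS, Set.mem_ofPred_eq, List.forall_mem_map]
  have hn : ∀ z : ↥leechLattice, sqNorm ((-z : ↥leechLattice) : Vec) = sqNorm (z : Vec) := fun z => by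
    simp [sqNorm]
  constructor
  · rintro ⟨h1, h2⟩
    refine ⟨-y, ⟨(hn y).trans h1, fun p hp => ?_⟩, neg_neg y⟩
    rw [AddSubgroup.coe_neg, dot_neg_right, h2 p hp, neg_neg]
  · rintro ⟨z, ⟨h1, h2⟩, rfl⟩
    refine ⟨(hn z).trans h1, fun p hp => ?_⟩
    rw [AddSubgroup.coe_neg, dot_neg_right, h2 p hp]

/-! ### the standard configurations -/

/-- A point among the 552. -/
noncomputable def splitPt : ↥leechLattice := elt 62062060636173731114942761100 (by decide +kernel)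
/-- A point among the 275. -/
noncomputable def mclPt : ↥leechLattice := elt 62062060636173731114942761160 (by decide +kernel)
/-- A point among the 100. -/
noncomputable def hsPt : ↥leechLattice := elt 62062060636173731114942761100 (by decide +kernel)
/-- A point among the 2025. -/
noncomputable def twentyPt : ↥leechLattice := elt 62062060636173731114942761092 (by decide +kernel)
/-- A point among the 11178. -/
noncomputable def farPt : ↥leechLattice := elt kFar (by decide +kernel)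

theorem split_set : (DS [(fiveElt, (24 : ℤ))]).ncard = 552 ∧ Trans [fiveElt] (DS [(fiveElt, (24 : ℤ))]) ∧
    ∀ x ∈ DS [(fiveElt, (24 : ℤ))], ∃ e ∈ coThreeSplitsTree.entries, (x : Vec) = pv e.1 :=
  ds_cert coThreeSplits_ok [fiveElt] rfl _ (by simp) splitPt rfl
    ⟨by decide +kernel, by simp only [List.forall_mem_cons]; exact ⟨by decide +kernel, by simp⟩⟩
    (DS_finite List.mem_cons_self)
    (by rw [DS_one, splits_dot (mem_shell.2 ⟨fiveElt.2, fiveElt_norm⟩)])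

theorem far_set : (DS [(fiveElt, (-16 : ℤ))]).ncard = 11178 ∧ Trans [fiveElt] (DS [(fiveElt, (-16 : ℤ))]) ∧
    ∀ x ∈ DS [(fiveElt, (-16 : ℤ))], ∃ e ∈ coThreeFarTree.entries, (x : Vec) = pv e.1 :=
  ds_cert coThreeFar_ok [fiveElt] rfl _ (by simp) farPt rfl
    ⟨by decide +kernel, by simp only [List.forall_mem_cons]; exact ⟨by decide +kernel, by simp⟩⟩
    (DS_finite List.mem_cons_self)
    (by rw [DS_one, (census48_dots (mem_shell.2 ⟨fiveElt.2, fiveElt_norm⟩)).1])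

theorem mcl_set : (DS [(fiveElt, (24 : ℤ)), (pairElt, 16)]).ncard = 275 ∧
    Trans [fiveElt, pairElt] (DS [(fiveElt, (24 : ℤ)), (pairElt, 16)]) ∧
    ∀ x ∈ DS [(fiveElt, (24 : ℤ)), (pairElt, 16)], ∃ e ∈ mclPointsTree.entries, (x : Vec) = pv e.1 := by
  obtain ⟨h1, h2⟩ := ds_bound (ls := [(fiveElt, (24 : ℤ)), (pairElt, 16)]) split_set.2.2 (by simp) [(kPair, 16)]
    (by simp [pairElt]) (n := 275) (DotFast.filter_dot_length (by decide +kernel))
  exact ds_cert mclPoints_ok [fiveElt, pairElt] rfl _ (by simp) mclPt rfl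
    ⟨by decide +kernel, by simp only [List.forall_mem_cons]; exact ⟨by decide +kernel, by decide +kernel, by simp⟩⟩
    h1 h2

theorem hundred_set : (DS [(fiveElt, (24 : ℤ)), (hsElt, -24)]).ncard = 100 ∧
    Trans [fiveElt, hsElt] (DS [(fiveElt, (24 : ℤ)), (hsElt, -24)]) ∧
    ∀ x ∈ DS [(fiveElt, (24 : ℤ)), (hsElt, -24)], ∃ e ∈ hsHundredTree.entries, (x : Vec) = pv e.1 := by
  obtain ⟨h1, h2⟩ := ds_bound (ls := [(fiveElt, (24 : ℤ)), (hsElt, -24)]) split_set.2.2 (by simp) [(kHs, -24)]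
    (by simp [hsElt]) (n := 100) (DotFast.filter_dot_length (by decide +kernel))
  exact ds_cert hsHundred_ok [fiveElt, hsElt] rfl _ (by simp) hsPt rfl
    ⟨by decide +kernel, by simp only [List.forall_mem_cons]; exact ⟨by decide +kernel, by decide +kernel, by simp⟩⟩
    h1 h2

theorem twenty_set : (DS [(fiveElt, (16 : ℤ)), (pairElt, 0)]).ncard = 2025 ∧
    Trans [fiveElt, pairElt] (DS [(fiveElt, (16 : ℤ)), (pairElt, 0)]) ∧
    ∀ x ∈ DS [(fiveElt, (16 : ℤ)), (pairElt, 0)], ∃ e ∈ mclTwentyTree.entries, (x : Vec) = pv e.1 := by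
  obtain ⟨h1, h2⟩ := ds_bound (ls := [(fiveElt, (-16 : ℤ)), (pairElt, 0)]) far_set.2.2 (by simp) [(kPair, 0)]
    (by simp [pairElt]) (n := 2025) (DotFast.filter_dot_length (by decide +kernel))
  have e := ncard_DS_neg [(fiveElt, (16 : ℤ)), (pairElt, 0)]
  rw [List.map_cons, List.map_cons, List.map_nil, neg_zero] at e
  exact ds_cert mclTwenty_ok [fiveElt, pairElt] rfl _ (by simp) twentyPt rfl
    ⟨by decide +kernel, by simp only [List.forall_mem_cons]; exact ⟨by decide +kernel, by decide +kernel, by simp⟩⟩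
    (DS_finite List.mem_cons_self) (by rw [← e]; exact h2)

/-- A suborbit of the stabiliser of one more point. -/
theorem sub_orbit {gens : List (List (ℕ × ℕ))} {fixed : List ℕ} {root : ℕ} {T P : OTree} {n : ℕ}
    (h : orbitOK gens fixed root T n = true) {a b : ↥leechLattice} {A B : ℕ} {α β : ℤ} {r : ↥leechLattice} {R : ℕ}
    (ha : (a : Vec) = pv A) (hb : (b : Vec) = pv B) (hr : (r : Vec) = pv R) (hfixed : fixed = [A, B, R])
    (hkeys : ∀ x ∈ DS [(a, α), (b, β)], ∃ e ∈ P.entries, (x : Vec) = pv e.1) (k : ℤ)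
    (hcount : (P.entries.filter fun e => [(R, k)].all fun q => decide (dotInt (pv q.1) (pv e.1) = q.2)).length = n)
    (hL : LTest (pv root)) (hroot : sqNorm (pv root) = 32 ∧ dotInt (pv A) (pv root) = α ∧
      dotInt (pv B) (pv root) = β ∧ dotInt (pv R) (pv root) = k) :
    (DS [(a, α), (b, β), (r, k)]).ncard = n ∧ Trans [a, b, r] (DS [(a, α), (b, β), (r, k)]) ∧
      (⟨pv root, pv_mem hL⟩ : ↥leechLattice) ∈ DS [(a, α), (b, β), (r, k)] := by
  obtain ⟨h1, h2⟩ := ds_bound (ls := [(a, α), (b, β), (r, k)]) hkeys (by simp) [(R, k)] (by simp [hr]) hcount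
  have hmem : (⟨pv root, pv_mem hL⟩ : ↥leechLattice) ∈ DS [(a, α), (b, β), (r, k)] :=
    ⟨hroot.1, by simp only [List.forall_mem_cons, ha, hb, hr]; exact ⟨hroot.2.1, hroot.2.2.1, hroot.2.2.2, by simp⟩⟩
  obtain ⟨e1, e2, -⟩ := ds_cert h [a, b, r] (by simp [ha, hb, hr, hfixed]) _ (by simp) ⟨pv root, pv_mem hL⟩ rfl
    hmem h1 h2
  exact ⟨e1, e2, hmem⟩

theorem mcl_sub8 :
    (DS [(fiveElt, 24), (pairElt, 16), (mclPt, 8)]).ncard = 112 ∧
    Trans [fiveElt, pairElt, mclPt] (DS [(fiveElt, 24), (pairElt, 16), (mclPt, 8)]) ∧ (DS [(fiveElt, 24), (pairElt, 16), (mclPt, 8)]).Nonempty := by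
  obtain ⟨h1, h2, h3⟩ := sub_orbit (α := 24) (β := 16) mclSubP8_ok (a := fiveElt) (b := pairElt) (r := mclPt) rfl rfl rfl rfl
    mcl_set.2.2 8 (DotFast.filter_dot_length (by decide +kernel)) (by decide +kernel) (by decide +kernel)
  exact ⟨h1, h2, _, h3⟩

theorem mcl_sub16 :
    (DS [(fiveElt, 24), (pairElt, 16), (mclPt, 16)]).ncard = 162 ∧
    Trans [fiveElt, pairElt, mclPt] (DS [(fiveElt, 24), (pairElt, 16), (mclPt, 16)]) ∧ (DS [(fiveElt, 24), (pairElt, 16), (mclPt, 16)]).Nonempty := by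
  obtain ⟨h1, h2, h3⟩ := sub_orbit (α := 24) (β := 16) mclSubP16_ok (a := fiveElt) (b := pairElt) (r := mclPt) rfl rfl rfl rfl
    mcl_set.2.2 16 (DotFast.filter_dot_length (by decide +kernel)) (by decide +kernel) (by decide +kernel)
  exact ⟨h1, h2, _, h3⟩

theorem hs_sub8 :
    (DS [(fiveElt, 24), (hsElt, -24), (hsPt, 8)]).ncard = 22 ∧
    Trans [fiveElt, hsElt, hsPt] (DS [(fiveElt, 24), (hsElt, -24), (hsPt, 8)]) ∧ (DS [(fiveElt, 24), (hsElt, -24), (hsPt, 8)]).Nonempty := by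
  obtain ⟨h1, h2, h3⟩ := sub_orbit (α := 24) (β := -24) hsSubP8_ok (a := fiveElt) (b := hsElt) (r := hsPt) rfl rfl rfl rfl
    hundred_set.2.2 8 (DotFast.filter_dot_length (by decide +kernel)) (by decide +kernel) (by decide +kernel)
  exact ⟨h1, h2, _, h3⟩

theorem hs_sub16 :
    (DS [(fiveElt, 24), (hsElt, -24), (hsPt, 16)]).ncard = 77 ∧
    Trans [fiveElt, hsElt, hsPt] (DS [(fiveElt, 24), (hsElt, -24), (hsPt, 16)]) ∧ (DS [(fiveElt, 24), (hsElt, -24), (hsPt, 16)]).Nonempty := by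
  obtain ⟨h1, h2, h3⟩ := sub_orbit (α := 24) (β := -24) hsSubP16_ok (a := fiveElt) (b := hsElt) (r := hsPt) rfl rfl rfl rfl
    hundred_set.2.2 16 (DotFast.filter_dot_length (by decide +kernel)) (by decide +kernel) (by decide +kernel)
  exact ⟨h1, h2, _, h3⟩

theorem twenty_sub8 :
    (DS [(fiveElt, 16), (pairElt, 0), (twentyPt, 8)]).ncard = 1232 ∧
    Trans [fiveElt, pairElt, twentyPt] (DS [(fiveElt, 16), (pairElt, 0), (twentyPt, 8)]) ∧ (DS [(fiveElt, 16), (pairElt, 0), (twentyPt, 8)]).Nonempty := by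
  obtain ⟨h1, h2, h3⟩ := sub_orbit (α := 16) (β := 0) mclTwentySubP8_ok (a := fiveElt) (b := pairElt) (r := twentyPt)
    rfl rfl rfl rfl twenty_set.2.2 8 (DotFast.filter_dot_length (by decide +kernel)) (by decide +kernel) (by decide +kernel)
  exact ⟨h1, h2, _, h3⟩

theorem twenty_sub16 :
    (DS [(fiveElt, 16), (pairElt, 0), (twentyPt, 16)]).ncard = 462 ∧
    Trans [fiveElt, pairElt, twentyPt] (DS [(fiveElt, 16), (pairElt, 0), (twentyPt, 16)]) ∧ (DS [(fiveElt, 16), (pairElt, 0), (twentyPt, 16)]).Nonempty := by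
  obtain ⟨h1, h2, h3⟩ := sub_orbit (α := 16) (β := 0) mclTwentySubP16_ok (a := fiveElt) (b := pairElt) (r := twentyPt)
    rfl rfl rfl rfl twenty_set.2.2 16 (DotFast.filter_dot_length (by decide +kernel)) (by decide +kernel) (by decide +kernel)
  exact ⟨h1, h2, _, h3⟩

theorem twenty_sub0 :
    (DS [(fiveElt, 16), (pairElt, 0), (twentyPt, 0)]).ncard = 330 ∧
    Trans [fiveElt, pairElt, twentyPt] (DS [(fiveElt, 16), (pairElt, 0), (twentyPt, 0)]) ∧ (DS [(fiveElt, 16), (pairElt, 0), (twentyPt, 0)]).Nonempty := by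
  obtain ⟨h1, h2, h3⟩ := sub_orbit (α := 16) (β := 0) mclTwentySubP0_ok (a := fiveElt) (b := pairElt) (r := twentyPt)
    rfl rfl rfl rfl twenty_set.2.2 0 (DotFast.filter_dot_length (by decide +kernel)) (by decide +kernel) (by decide +kernel)
  exact ⟨h1, h2, _, h3⟩

/-- A suborbit among the 11178. -/
theorem far_sub {gens : List (List (ℕ × ℕ))} {root : ℕ} {T : OTree} {n : ℕ}
    (h : orbitOK gens [kFive, kFar] root T n = true) (k : ℤ)
    (hcount : (coThreeFarTree.entries.filter fun e =>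
      [(kFar, k)].all fun q => decide (dotInt (pv q.1) (pv e.1) = q.2)).length = n)
    (hL : LTest (pv root)) (hroot : sqNorm (pv root) = 32 ∧ dotInt (pv kFive) (pv root) = -16 ∧
      dotInt (pv kFar) (pv root) = k) :
    (DS [(fiveElt, -16), (farPt, k)]).ncard = n ∧ Trans [fiveElt, farPt] (DS [(fiveElt, -16), (farPt, k)]) ∧
      (⟨pv root, pv_mem hL⟩ : ↥leechLattice) ∈ DS [(fiveElt, -16), (farPt, k)] := by
  obtain ⟨h1, h2⟩ := ds_bound (ls := [(fiveElt, -16), (farPt, k)]) far_set.2.2 (by simp) [(kFar, k)]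
    (by simp [farPt, elt]) hcount
  have hmem : (⟨pv root, pv_mem hL⟩ : ↥leechLattice) ∈ DS [(fiveElt, -16), (farPt, k)] :=
    ⟨hroot.1, by simp only [List.forall_mem_cons]; exact ⟨hroot.2.1, hroot.2.2, by simp⟩⟩
  obtain ⟨e1, e2, -⟩ := ds_cert h [fiveElt, farPt] rfl _ (by simp) ⟨pv root, pv_mem hL⟩ rfl hmem h1 h2
  exact ⟨e1, e2, hmem⟩

theorem far_sub16 :
    (DS [(fiveElt, -16), (farPt, 16)]).ncard = 1100 ∧
    Trans [fiveElt, farPt] (DS [(fiveElt, -16), (farPt, 16)]) ∧ (DS [(fiveElt, -16), (farPt, 16)]).Nonempty := by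
  obtain ⟨h1, h2, h3⟩ := far_sub coThreeFarSubP16_ok 16 (DotFast.filter_dot_length (by decide +kernel)) (by decide +kernel) (by decide +kernel)
  exact ⟨h1, h2, _, h3⟩
theorem far_sub8 :
    (DS [(fiveElt, -16), (farPt, 8)]).ncard = 5600 ∧
    Trans [fiveElt, farPt] (DS [(fiveElt, -16), (farPt, 8)]) ∧ (DS [(fiveElt, -16), (farPt, 8)]).Nonempty := by
  obtain ⟨h1, h2, h3⟩ := far_sub coThreeFarSubP8_ok 8 (DotFast.filter_dot_length (by decide +kernel)) (by decide +kernel) (by decide +kernel)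
  exact ⟨h1, h2, _, h3⟩
theorem far_sub0 :
    (DS [(fiveElt, -16), (farPt, 0)]).ncard = 4125 ∧
    Trans [fiveElt, farPt] (DS [(fiveElt, -16), (farPt, 0)]) ∧ (DS [(fiveElt, -16), (farPt, 0)]).Nonempty := by
  obtain ⟨h1, h2, h3⟩ := far_sub coThreeFarSubP0_ok 0 (DotFast.filter_dot_length (by decide +kernel)) (by decide +kernel) (by decide +kernel)
  exact ⟨h1, h2, _, h3⟩
theorem farSubM :
    (DS [(fiveElt, -16), (farPt, -8)]).ncard = 352 ∧
    Trans [fiveElt, farPt] (DS [(fiveElt, -16), (farPt, -8)]) ∧ (DS [(fiveElt, -16), (farPt, -8)]).Nonempty := by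
  obtain ⟨h1, h2, h3⟩ := far_sub coThreeFarSubM8_ok (-8) (DotFast.filter_dot_length (by decide +kernel)) (by decide +kernel) (by decide +kernel)
  exact ⟨h1, h2, _, h3⟩

/-! ### general vectors -/

theorem mcl_rank (u v x : ↥leechLattice) (hu : sqNorm (u : Vec) = 48)
    (hv : sqNorm (v : Vec) = 32 ∧ sqNorm ((u - v) : Vec) = 32) (hx : x ∈ DS [(u, 24), (v, 16)]) :
    (DS [(u, 24), (v, 16), (x, 8)]).ncard = 112 ∧ (DS [(u, 24), (v, 16), (x, 16)]).ncard = 162 ∧
    ∀ y ∈ DS [(u, 24), (v, 16)], ∀ y' ∈ DS [(u, 24), (v, 16)], y ≠ x → y' ≠ x →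
      dotInt (x : Vec) (y : Vec) = dotInt (x : Vec) (y' : Vec) →
      ∃ g : ↥Co0, g • u = u ∧ g • v = v ∧ g • x = x ∧ g • y = y' := by
  obtain ⟨g, hg1, hg2⟩ := to_mcl hu hv
  have hgx : g • x ∈ DS [(fiveElt, (24 : ℤ)), (pairElt, 16)] := by
    rw [← hg1, ← hg2]; exact (smul_mem_map (ks := [(u, 24), (v, 16)])).2 hx
  obtain ⟨a, ha, haf⟩ := mcl_set.2.1 _ hgx mclPt
    ⟨by decide +kernel, by simp only [List.forall_mem_cons]; exact ⟨by decide +kernel, by decide +kernel, by simp⟩⟩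
  have f1 : (a * g) • u = fiveElt := by rw [mul_smul, hg1, haf _ (by simp)]
  have f2 : (a * g) • v = pairElt := by rw [mul_smul, hg2, haf _ (by simp)]
  have f3 : (a * g) • x = mclPt := by rw [mul_smul, ha]
  have hmap : ∀ k, ([(u, (24 : ℤ)), (v, 16), (x, k)].map fun p => ((a * g) • p.1, p.2)) =
      [(fiveElt, 24), (pairElt, 16), (mclPt, k)] := fun k => by simp [f1, f2, f3]
  refine ⟨by rw [← ncard_map _ (a * g), hmap]; exact mcl_sub8.1,
    by rw [← ncard_map _ (a * g), hmap]; exact mcl_sub16.1, fun y hy y' hy' hyx hyx' heq => ?_⟩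
  set k := dotInt (x : Vec) (y : Vec) with hk
  have hval : k = 8 ∨ k = 16 := by
    have hy2 : (a * g) • y ∈ DS [(fiveElt, (24 : ℤ)), (pairElt, 16)] := by
      rw [← f1, ← f2]; exact (smul_mem_map (ks := [(u, 24), (v, 16)])).2 hy
    rcases ds_values mcl_set.2.2 (r := mclPt) (root := 62062060636173731114942761160) rfl [8, 16]
      (DotFast.all_dot_values (by decide +kernel)) hy2 with h | h
    · exact absurd (MulAction.injective (a * g) (h.trans f3.symm)) hyx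
    · rw [← f3, dot_smul'] at h
      simpa using h
  have ht : Trans [u, v, x] (DS [(u, 24), (v, 16), (x, k)]) := trans_map (a * g) (by
    rw [hmap, List.map_cons, List.map_cons, List.map_cons, List.map_nil, f1, f2, f3]
    rcases hval with h | h <;> rw [h]
    · exact mcl_sub8.2.1
    · exact mcl_sub16.2.1)
  have hmem : ∀ z ∈ DS [(u, 24), (v, 16)], dotInt (x : Vec) (z : Vec) = k → z ∈ DS [(u, 24), (v, 16), (x, k)] :=
    fun z hz hd => ⟨hz.1, by
      simp only [List.forall_mem_cons]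
      exact ⟨hz.2 _ List.mem_cons_self, hz.2 (v, 16) (by simp), hd, by simp⟩⟩
  obtain ⟨c, hc, hcf⟩ := ht y (hmem y hy rfl) y' (hmem y' hy' heq.symm)
  exact ⟨c, hcf u (by simp), hcf v (by simp), hcf x (by simp), hc⟩

theorem hs_rank (v w x : ↥leechLattice) (hv : sqNorm (v : Vec) = 48) (hw : sqNorm (w : Vec) = 48)
    (hvw : dotInt (v : Vec) (w : Vec) = -32) (hx : x ∈ DS [(v, 24), (w, -24)]) :
    (DS [(v, 24), (w, -24), (x, 8)]).ncard = 22 ∧ (DS [(v, 24), (w, -24), (x, 16)]).ncard = 77 ∧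
    ∀ y ∈ DS [(v, 24), (w, -24)], y ≠ x → (dotInt (x : Vec) (y : Vec) = 8 ∨ dotInt (x : Vec) (y : Vec) = 16) ∧
      ∀ y' ∈ DS [(v, 24), (w, -24)], dotInt (x : Vec) (y : Vec) = dotInt (x : Vec) (y' : Vec) →
        ∃ g : ↥Co0, g • v = v ∧ g • w = w ∧ g • x = x ∧ g • y = y' := by
  obtain ⟨g, hg1, hg2⟩ := to_hs hv hw hvw
  have hgx : g • x ∈ DS [(fiveElt, (24 : ℤ)), (hsElt, -24)] := by
    rw [← hg1, ← hg2]; exact (smul_mem_map (ks := [(v, 24), (w, -24)])).2 hx
  obtain ⟨a, ha, haf⟩ := hundred_set.2.1 _ hgx hsPt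
    ⟨by decide +kernel, by simp only [List.forall_mem_cons]; exact ⟨by decide +kernel, by decide +kernel, by simp⟩⟩
  have f1 : (a * g) • v = fiveElt := by rw [mul_smul, hg1, haf _ (by simp)]
  have f2 : (a * g) • w = hsElt := by rw [mul_smul, hg2, haf _ (by simp)]
  have f3 : (a * g) • x = hsPt := by rw [mul_smul, ha]
  have hmap : ∀ k, ([(v, (24 : ℤ)), (w, -24), (x, k)].map fun p => ((a * g) • p.1, p.2)) =
      [(fiveElt, 24), (hsElt, -24), (hsPt, k)] := fun k => by simp [f1, f2, f3]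
  refine ⟨by rw [← ncard_map _ (a * g), hmap]; exact hs_sub8.1,
    by rw [← ncard_map _ (a * g), hmap]; exact hs_sub16.1, fun y hy hyx => ?_⟩
  have hval : dotInt (x : Vec) (y : Vec) = 8 ∨ dotInt (x : Vec) (y : Vec) = 16 := by
    have hy2 : (a * g) • y ∈ DS [(fiveElt, (24 : ℤ)), (hsElt, -24)] := by
      rw [← f1, ← f2]; exact (smul_mem_map (ks := [(v, 24), (w, -24)])).2 hy
    rcases ds_values hundred_set.2.2 (r := hsPt) (root := 62062060636173731114942761100) rfl [8, 16]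
      (DotFast.all_dot_values (by decide +kernel)) hy2 with h | h
    · exact absurd (MulAction.injective (a * g) (h.trans f3.symm)) hyx
    · rw [← f3, dot_smul'] at h
      simpa using h
  refine ⟨hval, fun y' hy' heq => ?_⟩
  set k := dotInt (x : Vec) (y : Vec) with hk
  have ht : Trans [v, w, x] (DS [(v, 24), (w, -24), (x, k)]) := trans_map (a * g) (by
    rw [hmap, List.map_cons, List.map_cons, List.map_cons, List.map_nil, f1, f2, f3]
    rcases hval with h | h <;> rw [h]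
    · exact hs_sub8.2.1
    · exact hs_sub16.2.1)
  have hmem : ∀ z ∈ DS [(v, 24), (w, -24)], dotInt (x : Vec) (z : Vec) = k → z ∈ DS [(v, 24), (w, -24), (x, k)] :=
    fun z hz hd => ⟨hz.1, by
      simp only [List.forall_mem_cons]
      exact ⟨hz.2 _ List.mem_cons_self, hz.2 (w, -24) (by simp), hd, by simp⟩⟩
  obtain ⟨c, hc, hcf⟩ := ht y (hmem y hy rfl) y' (hmem y' hy' heq.symm)
  exact ⟨c, hcf v (by simp), hcf w (by simp), hcf x (by simp), hc⟩

theorem twenty_general (v w : ↥leechLattice) (hv : sqNorm (v : Vec) = 32) (hw : sqNorm (w : Vec) = 32)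
    (hvw : dotInt (v : Vec) (w : Vec) = -8) :
    (DS [(v, 0), (w, 16)]).ncard = 2025 ∧ Trans [v, w] (DS [(v, 0), (w, 16)]) ∧
    ∀ x ∈ DS [(v, 0), (w, 16)], ∀ (k : ℤ) (n : ℕ),
      ((DS [(fiveElt, 16), (pairElt, 0), (twentyPt, k)]).ncard = n ∧
        Trans [fiveElt, pairElt, twentyPt] (DS [(fiveElt, 16), (pairElt, 0), (twentyPt, k)]) ∧
        (DS [(fiveElt, 16), (pairElt, 0), (twentyPt, k)]).Nonempty) →
      ∃ y ∈ DS [(v, 0), (w, 16)], (MulAction.orbit ↥(MulAction.stabilizer ↥Co0 v ⊓ MulAction.stabilizer ↥Co0 w ⊓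
        MulAction.stabilizer ↥Co0 x) y).ncard = n := by
  have hu : sqNorm (((v + w : ↥leechLattice)) : Vec) = 48 := by
    rw [AddSubgroup.coe_add, sq_add_dot, hv, hw, hvw]; norm_num
  obtain ⟨g, hg1, hg2⟩ := to_mcl hu (v := v) ⟨hv, by rw [AddSubgroup.coe_add, add_sub_cancel_left]; exact hw⟩
  have hsum : ∀ x : ↥leechLattice, dotInt ((v + w : ↥leechLattice) : Vec) (x : Vec) =
      dotInt (v : Vec) (x : Vec) + dotInt (w : Vec) (x : Vec) := fun x => by
    rw [AddSubgroup.coe_add]; simp only [dotInt, Pi.add_apply, add_mul, Finset.sum_add_distrib]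
  have hset : DS [(v, 0), (w, 16)] = DS [(v + w, 16), (v, 0)] := DS_congr fun x _ => by
    simp only [List.forall_mem_cons, hsum]
    constructor <;> rintro ⟨h1, h2, -⟩ <;> refine ⟨?_, ?_, by simp⟩ <;> omega
  have hm2 : ([(v + w, (16 : ℤ)), (v, 0)].map fun p => (g • p.1, p.2)) = [(fiveElt, 16), (pairElt, 0)] := by
    simp [hg1, hg2]
  have ht : Trans [v, w] (DS [(v, 0), (w, 16)]) := by
    intro x hx y hy
    rw [hset] at hx hy
    obtain ⟨c, hc, hcf⟩ := (trans_map (f := [v + w, v]) g (by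
      rw [hm2, List.map_cons, List.map_cons, List.map_nil, hg1, hg2]; exact twenty_set.2.1)) x hx y hy
    refine ⟨c, hc, ?_⟩
    have h1 := hcf (v + w) (by simp)
    have h2 := hcf v (by simp)
    rw [show c • (v + w) = c • v + c • w from map_add (linOf c) v w, h2, add_right_inj] at h1
    simp [h2, h1]
  refine ⟨by rw [hset, ← ncard_map _ g, hm2]; exact twenty_set.1, ht, fun x hx k n ⟨hn, htr, r, hr⟩ => ?_⟩
  have hgx : g • x ∈ DS [(fiveElt, (16 : ℤ)), (pairElt, 0)] := by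
    rw [← hm2]; exact smul_mem_map.2 (hset ▸ hx)
  obtain ⟨a, ha, haf⟩ := twenty_set.2.1 _ hgx twentyPt
    ⟨by decide +kernel, by simp only [List.forall_mem_cons]; exact ⟨by decide +kernel, by decide +kernel, by simp⟩⟩
  have f1 : (a * g) • (v + w) = fiveElt := by rw [mul_smul, hg1, haf _ (by simp)]
  have f2 : (a * g) • v = pairElt := by rw [mul_smul, hg2, haf _ (by simp)]
  have f3 : (a * g) • x = twentyPt := by rw [mul_smul, ha]
  have hm3 : ([(v + w, (16 : ℤ)), (v, 0), (x, k)].map fun p => ((a * g) • p.1, p.2)) =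
      [(fiveElt, 16), (pairElt, 0), (twentyPt, k)] := by simp [f1, f2, f3]
  have hy : (a * g)⁻¹ • r ∈ DS [(v + w, 16), (v, 0), (x, k)] := by
    refine (smul_mem_map (g := a * g)).1 ?_
    rw [smul_inv_smul, hm3]; exact hr
  refine ⟨(a * g)⁻¹ • r, hset ▸ ⟨hy.1, fun p hp => hy.2 p (by simp at hp ⊢; tauto)⟩, ?_⟩
  rw [orbit_eq_DS (f := [v + w, v, x]) (by simp) hy (trans_map (a * g) (by
    rw [hm3, List.map_cons, List.map_cons, List.map_cons, List.map_nil, f1, f2, f3]; exact htr)) _ ?_,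
    ← ncard_map _ (a * g), hm3, hn]
  ext c
  simp only [Subgroup.mem_inf, MulAction.mem_stabilizer_iff, mem_fixGroup, List.forall_mem_cons,
    List.not_mem_nil, false_imp_iff, implies_true, and_true]
  have hadd : c • (v + w) = c • v + c • w := map_add (linOf c) v w
  constructor
  · rintro ⟨⟨h1, h2⟩, h3⟩; exact ⟨by rw [hadd, h1, h2], h1, h3⟩
  · rintro ⟨h1, h2, h3⟩
    rw [hadd, h2, add_right_inj] at h1
    exact ⟨⟨h2, h1⟩, h3⟩

theorem twenty_rank (v w : ↥leechLattice) (hv : sqNorm (v : Vec) = 32) (hw : sqNorm (w : Vec) = 32)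
    (hvw : dotInt (v : Vec) (w : Vec) = -8) (x : ↥leechLattice) (hx : x ∈ DS [(v, 0), (w, 16)]) :
    ∃ y₁ ∈ DS [(v, 0), (w, 16)], ∃ y₂ ∈ DS [(v, 0), (w, 16)], ∃ y₃ ∈ DS [(v, 0), (w, 16)],
      (MulAction.orbit ↥(MulAction.stabilizer ↥Co0 v ⊓ MulAction.stabilizer ↥Co0 w ⊓ MulAction.stabilizer ↥Co0 x) y₁).ncard = 330 ∧
      (MulAction.orbit ↥(MulAction.stabilizer ↥Co0 v ⊓ MulAction.stabilizer ↥Co0 w ⊓ MulAction.stabilizer ↥Co0 x) y₂).ncard = 462 ∧
      (MulAction.orbit ↥(MulAction.stabilizer ↥Co0 v ⊓ MulAction.stabilizer ↥Co0 w ⊓ MulAction.stabilizer ↥Co0 x) y₃).ncard = 1232 := by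
  have G := (twenty_general v w hv hw hvw).2.2 x hx
  obtain ⟨y1, h1, e1⟩ := G 0 330 twenty_sub0
  obtain ⟨y2, h2, e2⟩ := G 16 462 twenty_sub16
  obtain ⟨y3, h3, e3⟩ := G 8 1232 twenty_sub8
  exact ⟨y1, h1, y2, h2, y3, h3, e1, e2, e3⟩

theorem far_rank (u x : ↥leechLattice) (hu : sqNorm (u : Vec) = 48) (hx : x ∈ DS [(u, -16)]) :
    ∃ y₁ ∈ DS [(u, -16)], ∃ y₂ ∈ DS [(u, -16)], ∃ y₃ ∈ DS [(u, -16)], ∃ y₄ ∈ DS [(u, -16)],
      (MulAction.orbit ↥(MulAction.stabilizer ↥Co0 u ⊓ MulAction.stabilizer ↥Co0 x) y₁).ncard = 352 ∧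
      (MulAction.orbit ↥(MulAction.stabilizer ↥Co0 u ⊓ MulAction.stabilizer ↥Co0 x) y₂).ncard = 1100 ∧
      (MulAction.orbit ↥(MulAction.stabilizer ↥Co0 u ⊓ MulAction.stabilizer ↥Co0 x) y₃).ncard = 4125 ∧
      (MulAction.orbit ↥(MulAction.stabilizer ↥Co0 u ⊓ MulAction.stabilizer ↥Co0 x) y₄).ncard = 5600 ∧
      DS [(u, -16)] = {x} ∪ MulAction.orbit ↥(MulAction.stabilizer ↥Co0 u ⊓ MulAction.stabilizer ↥Co0 x) y₁ ∪
        MulAction.orbit ↥(MulAction.stabilizer ↥Co0 u ⊓ MulAction.stabilizer ↥Co0 x) y₂ ∪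
        MulAction.orbit ↥(MulAction.stabilizer ↥Co0 u ⊓ MulAction.stabilizer ↥Co0 x) y₃ ∪
        MulAction.orbit ↥(MulAction.stabilizer ↥Co0 u ⊓ MulAction.stabilizer ↥Co0 x) y₄ := by
  obtain ⟨g, hg⟩ := to_five hu
  have hm1 : ([(u, (-16 : ℤ))].map fun p => (g • p.1, p.2)) = [(fiveElt, -16)] := by simp [hg]
  have hgx : g • x ∈ DS [(fiveElt, (-16 : ℤ))] := by rw [← hm1]; exact smul_mem_map.2 hx
  obtain ⟨a, ha, haf⟩ := far_set.2.1 _ hgx farPt
    ⟨by decide +kernel, by simp only [List.forall_mem_cons]; exact ⟨by decide +kernel, by simp⟩⟩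
  have f1 : (a * g) • u = fiveElt := by rw [mul_smul, hg, haf _ (by simp)]
  have f2 : (a * g) • x = farPt := by rw [mul_smul, ha]
  have hm2 : ∀ k, ([(u, (-16 : ℤ)), (x, k)].map fun p => ((a * g) • p.1, p.2)) = [(fiveElt, -16), (farPt, k)] :=
    fun k => by simp [f1, f2]
  have G : ∀ (k : ℤ) (n : ℕ), ((DS [(fiveElt, -16), (farPt, k)]).ncard = n ∧
      Trans [fiveElt, farPt] (DS [(fiveElt, -16), (farPt, k)]) ∧ (DS [(fiveElt, -16), (farPt, k)]).Nonempty) →
      ∃ y ∈ DS [(u, -16)], (MulAction.orbit ↥(MulAction.stabilizer ↥Co0 u ⊓ MulAction.stabilizer ↥Co0 x) y).ncard = n ∧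
        MulAction.orbit ↥(MulAction.stabilizer ↥Co0 u ⊓ MulAction.stabilizer ↥Co0 x) y = DS [(u, -16), (x, k)] := by
    rintro k n ⟨hn, htr, r, hr⟩
    have hy : (a * g)⁻¹ • r ∈ DS [(u, -16), (x, k)] := by
      refine (smul_mem_map (g := a * g)).1 ?_
      rw [smul_inv_smul, hm2]; exact hr
    refine ⟨(a * g)⁻¹ • r, ⟨hy.1, fun p hp => hy.2 p (by simp at hp ⊢; tauto)⟩, ?_⟩
    have e := orbit_eq_DS (f := [u, x]) (by simp) hy (trans_map (a * g) (by
      rw [hm2, List.map_cons, List.map_cons, List.map_nil, f1, f2]; exact htr))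
      (MulAction.stabilizer ↥Co0 u ⊓ MulAction.stabilizer ↥Co0 x) (by
        ext c; simp [mem_fixGroup, MulAction.mem_stabilizer_iff])
    exact ⟨by rw [e, ← ncard_map _ (a * g), hm2, hn], e⟩
  obtain ⟨y1, m1, c1, o1⟩ := G (-8) 352 farSubM
  obtain ⟨y2, m2, c2, o2⟩ := G 16 1100 far_sub16
  obtain ⟨y3, m3, c3, o3⟩ := G 0 4125 far_sub0
  obtain ⟨y4, m4, c4, o4⟩ := G 8 5600 far_sub8
  refine ⟨y1, m1, y2, m2, y3, m3, y4, m4, c1, c2, c3, c4, ?_⟩
  rw [o1, o2, o3, o4]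
  ext y
  simp only [Set.mem_union, Set.mem_singleton_iff]
  constructor
  · intro hy
    by_cases hyx : y = x
    · simp [hyx]
    have hy2 : (a * g) • y ∈ DS [(fiveElt, (-16 : ℤ))] := by
      have := (smul_mem_map (g := a * g)).2 hy
      simpa [f1] using this
    rcases ds_values far_set.2.2 (r := farPt) (root := kFar) rfl [-8, 16, 0, 8]
      (DotFast.all_dot_values (by decide +kernel)) hy2 with h | h
    · exact absurd (MulAction.injective (a * g) (h.trans f2.symm)) hyx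
    · rw [← f2, dot_smul'] at h
      simp only [List.mem_cons, List.not_mem_nil, or_false] at h
      have mem : ∀ k, dotInt (x : Vec) (y : Vec) = k → y ∈ DS [(u, -16), (x, k)] := fun k hk =>
        ⟨hy.1, by simp only [List.forall_mem_cons]; exact ⟨hy.2 _ List.mem_cons_self, hk, by simp⟩⟩
      rcases h with h | h | h | h <;> simp [mem _ h]
  · rintro ((((rfl | h) | h) | h) | h)
    · exact hx
    all_goals exact ⟨h.1, fun p hp => h.2 p (by simp at hp ⊢; tauto)⟩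

end CfsgLib.Sporadic.Conway
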