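import Cfsg.Agent.Lib.Sporadic.ConwayDotSets
import Cfsg.Agent.Lib.Schur.PermChain

/-!
# A common stabiliser as a permutation group on a listed set of minimal vectors
-/

set_option autoImplicit false

namespace CfsgLib.Sporadic.Conway

open Cfsg CfsgLib.ThreeTrans.Leech CfsgLib.Sporadic.Lattice
open CfsgLib.Schur.Cert (pgetN RepN)

/-- A numbering of a set of minimal vectors by packed keys. -/
structure Numbered (f : List ↥leechLattice) (ks : List (↥leechLattice × ℤ)) (keys : List ℕ) (n : ℕ) where
  len : keys.length = n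
  fixes : ∀ p ∈ ks, p.1 ∈ f
  pt : Fin n → ↥leechLattice
  val : ∀ i, (pt i : Vec) = pv (keys.getD i.1 0)
  mem : ∀ i, pt i ∈ DS ks
  inj : Function.Injective pt
  cover : ∀ x ∈ DS ks, ∃ i, pt i = x

/-- A numbering from a tree of keys. -/
theorem exists_numbered {f : List ↥leechLattice} {ks : List (↥leechLattice × ℤ)} {T : OTree} {keys : List ℕ}
    (hfix : ∀ p ∈ ks, p.1 ∈ f) (hcov : ∀ x ∈ DS ks, ∃ e ∈ T.entries, (x : Vec) = pv e.1)
    (hkeys : T.entries.map Prod.fst = keys) (hcard : (DS ks).ncard = keys.length) :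
    Nonempty (Numbered f ks keys keys.length) := by
  classical
  have hsub : Subtype.val '' DS ks ⊆ ((keys.map pv).toFinset : Set Vec) := by
    rintro _ ⟨x, hx, rfl⟩
    obtain ⟨e, he, ev⟩ := hcov x hx
    simp only [Finset.mem_coe, List.mem_toFinset, List.mem_map]
    exact ⟨e.1, hkeys ▸ List.mem_map_of_mem (f := Prod.fst) he, ev.symm⟩
  have hncard : (Subtype.val '' DS ks).ncard = keys.length := by
    rw [Set.ncard_image_of_injective _ Subtype.val_injective, hcard]
  have hle : ((keys.map pv).toFinset : Set Vec).ncard ≤ keys.length := by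
    rw [Set.ncard_coe_finset]
    exact (List.toFinset_card_le _).trans (by rw [List.length_map])
  have heq := Set.eq_of_subset_of_ncard_le hsub (by omega) (Finset.finite_toSet _)
  have hnd : (keys.map pv).Nodup := by
    have hc : (keys.map pv).toFinset.card = (keys.map pv).length := by
      rw [List.length_map, ← Set.ncard_coe_finset, ← heq, hncard]
    exact Multiset.toFinset_card_eq_card_iff_nodup.mp hc
  have hex : ∀ i : Fin keys.length, ∃ x ∈ DS ks, (x : Vec) = pv (keys.getD i.1 0) := fun i => by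
    have : pv (keys.getD i.1 0) ∈ Subtype.val '' DS ks := by
      rw [heq]
      simp only [Finset.mem_coe, List.mem_toFinset, List.mem_map]
      exact ⟨_, List.getD_eq_getElem _ _ i.2 ▸ List.getElem_mem _, rfl⟩
    obtain ⟨x, hx, e⟩ := this
    exact ⟨x, hx, e⟩
  choose pt hpt hval using hex
  refine ⟨{ len := rfl, fixes := hfix, pt := pt, val := hval, mem := hpt, inj := fun i j e => ?_, cover := fun x hx => ?_ }⟩
  · have e' : pv (keys.getD i.1 0) = pv (keys.getD j.1 0) := by rw [← hval, ← hval, e]
    rw [List.getD_eq_getElem _ _ i.2, List.getD_eq_getElem _ _ j.2] at e'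
    exact Fin.ext ((hnd.getElem_inj_iff (hi := by simp) (hj := by simp)).1 (by simpa using e'))
  · obtain ⟨e, he, ev⟩ := hcov x hx
    obtain ⟨i, hi, hie⟩ := List.getElem_of_mem (hkeys ▸ List.mem_map_of_mem (f := Prod.fst) he : e.1 ∈ keys)
    exact ⟨⟨i, hi⟩, Subtype.ext (by rw [hval, List.getD_eq_getElem _ _ hi, hie, ev])⟩

namespace Numbered

variable {f : List ↥leechLattice} {ks : List (↥leechLattice × ℤ)} {keys : List ℕ} {n : ℕ}
  (N : Numbered f ks keys n)

theorem smul_mem (g : ↥(fixGroup f)) (i : Fin n) : ∃ j, N.pt j = g.1 • N.pt i :=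
  N.cover _ (smul_mem_DS (fun p hp => mem_fixGroup.1 g.2 p.1 (N.fixes p hp)) (N.mem i))

/-- The image of a number. -/
noncomputable def img (g : ↥(fixGroup f)) (i : Fin n) : Fin n := (N.smul_mem g i).choose

theorem img_spec (g : ↥(fixGroup f)) (i : Fin n) : N.pt (N.img g i) = g.1 • N.pt i := (N.smul_mem g i).choose_spec

/-- The permutation of the numbers. -/
noncomputable def toPermN : ↥(fixGroup f) →* Equiv.Perm (Fin n) :=
  MonoidHom.mk'
    (fun g =>
      { toFun := N.img g
        invFun := N.img g⁻¹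
        left_inv := fun i => N.inj (by rw [N.img_spec, N.img_spec, Subgroup.coe_inv, inv_smul_smul])
        right_inv := fun i => N.inj (by rw [N.img_spec, N.img_spec, Subgroup.coe_inv, smul_inv_smul]) })
    fun g h => Equiv.ext fun i => N.inj (by
      show N.pt (N.img (g * h) i) = N.pt (N.img g (N.img h i))
      rw [N.img_spec, N.img_spec, N.img_spec, Subgroup.coe_mul, mul_smul])

theorem toPermN_spec (g : ↥(fixGroup f)) (i : Fin n) : N.pt (N.toPermN g i) = g.1 • N.pt i := N.img_spec g i

/-- The pointwise stabiliser of the set is trivial. -/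
theorem injective_of (h : ∀ g ∈ fixGroup f, (∀ x ∈ DS ks, g • x = x) → g = 1) : Function.Injective N.toPermN := by
  refine (injective_iff_map_eq_one _).2 fun g hg => Subtype.ext (h g.1 g.2 fun x hx => ?_)
  obtain ⟨i, rfl⟩ := N.cover x hx
  rw [← N.toPermN_spec, hg]; rfl

/-- A word fixing the base vectors acts by a packed permutation. -/
noncomputable def wordOK (fixed : List ℕ) (keys : List ℕ) (n : ℕ) (w : List (ℕ × ℕ)) (p : ℕ) : Bool :=
  w.all stepValid && (fixed.all fun c => decide (evalWord w c = some c)) &&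
    forallLt n fun i => Nat.blt (pgetN p i) n &&
      decide (evalWord w (keys.getD i 0) = some (keys.getD (pgetN p i) 0))

theorem exists_repN {fixed : List ℕ} (hf : f.map (fun v : ↥leechLattice => (v : Vec)) = fixed.map pv)
    {w : List (ℕ × ℕ)} {p : ℕ} (h : wordOK fixed keys n w p = true) :
    ∃ g : ↥(fixGroup f), RepN (N.toPermN g) p := by
  simp only [wordOK, Bool.and_eq_true] at h
  obtain ⟨⟨hv, hfx⟩, hpts⟩ := h
  obtain ⟨g, hg⟩ := packElt w hv
  have hgf : g ∈ fixGroup f := fix_le hf g fun c hc v hv' => by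
    have := List.all_eq_true.1 hfx c hc
    rw [decide_eq_true_eq] at this
    exact Subtype.ext ((hg _ _ this v hv').trans hv'.symm)
  refine ⟨⟨g, hgf⟩, fun i => ?_⟩
  have := forallLt_elim hpts i.2
  simp only [Bool.and_eq_true, Nat.blt_eq, decide_eq_true_eq] at this
  have e : N.pt (N.toPermN ⟨g, hgf⟩ i) = N.pt ⟨pgetN p i.1, this.1⟩ := by
    refine Subtype.ext ?_
    rw [N.toPermN_spec, N.val]
    exact hg _ _ this.2 _ (N.val i)
  rw [N.inj e]

end Numbered

end CfsgLib.Sporadic.Conway
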