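import Cfsg.Agent.Lib.Sporadic.ConwayOrbits

/-!
# The stabiliser of the standard cross, the order and the centre
-/

set_option autoImplicit false

namespace CfsgLib.Sporadic.Conway

open Cfsg Finset CfsgLib.ThreeTrans.Leech CfsgLib.Sporadic.Lattice
open scoped Pointwise

/-- An automorphism as a homomorphism of the lattice. -/
def linOf (g : ↥Co0) : ↥leechLattice →+ ↥leechLattice := AddMonoidHom.mk' (fun v => g • v) g.2.1

theorem smul_sub' (g : ↥Co0) (v w : ↥leechLattice) : g • (v - w) = g • v - g • w :=
  map_sub (linOf g) v w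

theorem smul_neg' (g : ↥Co0) (v : ↥leechLattice) : g • (-v) = -(g • v) := map_neg (linOf g) v

theorem smul_nsmul' (g : ↥Co0) (n : ℕ) (v : ↥leechLattice) : g • (n • v) = n • g • v :=
  map_nsmul (linOf g) n v

theorem norm_smul' (g : ↥Co0) (v : ↥leechLattice) :
    sqNorm ((g • v : ↥leechLattice) : Vec) = sqNorm (v : Vec) := g.2.2 v

/-- `8 e_i`. -/
def eightVec (i : GolayPt) : Vec := fun k => if k = i then 8 else 0

theorem pair_self (i : GolayPt) : pairVec i i = eightVec i := by
  funext k; simp only [pairVec, eightVec]; split_ifs <;> norm_num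

theorem eightVec_mem (i : GolayPt) : eightVec i ∈ leechLattice :=
  pair_self i ▸ mem_iff.2 (isL_pair i i)

theorem norm_eight (i : GolayPt) : sqNorm (eightVec i) = 64 := by
  simp [sqNorm, eightVec, ite_pow]

theorem rv_eight_eq : vecOf rv_eight = eightVec none := by decide +kernel

theorem mem_stdCross {y : Vec} : y ∈ stdCross ↔ ∃ i, y = eightVec i ∨ y = -eightVec i := by
  constructor
  · rintro ⟨i, s, rfl | rfl, rfl⟩
    · exact ⟨i, Or.inl (funext fun k => by simp [eightVec, Pi.single_apply])⟩
    · exact ⟨i, Or.inr (funext fun k => by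
        simp only [eightVec, Pi.single_apply, Pi.neg_apply]; split_ifs <;> rfl)⟩
  · rintro ⟨i, rfl | rfl⟩
    · exact ⟨i, 8, Or.inl rfl, funext fun k => by simp [eightVec, Pi.single_apply]⟩
    · exact ⟨i, -8, Or.inr rfl, funext fun k => by
        simp only [eightVec, Pi.single_apply, Pi.neg_apply]; split_ifs <;> rfl⟩

theorem stdCross_eq : stdCross = cross (eightVec none) := by
  have hsub : stdCross ⊆ cross (eightVec none) := by
    intro y hy
    obtain ⟨i, h⟩ := mem_stdCross.1 hy
    refine ⟨?_, ?_, ?_⟩
    · rcases h with rfl | rfl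
      exacts [eightVec_mem i, neg_mem (eightVec_mem i)]
    · rcases h with rfl | rfl
      · rw [norm_eight, norm_eight]
      · rw [show sqNorm (-eightVec i) = sqNorm (eightVec i) by simp [sqNorm], norm_eight, norm_eight]
    · rcases h with rfl | rfl
      · refine ⟨pairVec none i - eightVec i,
          sub_mem (mem_iff.2 (isL_pair none i)) (eightVec_mem i), funext fun k => ?_⟩
        simp only [Pi.sub_apply, Pi.smul_apply, pairVec, eightVec, nsmul_eq_mul]
        push_cast; split_ifs <;> norm_num
      · refine ⟨pairVec none i, mem_iff.2 (isL_pair none i), funext fun k => ?_⟩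
        simp only [Pi.sub_apply, Pi.neg_apply, Pi.smul_apply, pairVec, eightVec, nsmul_eq_mul]
        push_cast; split_ifs <;> norm_num
  have hcard := cross_card (eightVec_mem none) (norm_eight none)
  refine Set.eq_of_subset_of_ncard_le hsub ?_ (Set.finite_of_ncard_ne_zero (by rw [hcard]; norm_num))
  rw [hcard]
  let T : Finset Vec := (Finset.univ.image eightVec) ∪ (Finset.univ.image fun i => -eightVec i)
  have hT : stdCross = ↑T := by
    ext y
    simp only [T, mem_stdCross, Finset.coe_union, Finset.coe_image, Finset.coe_univ, Set.image_univ,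
      Set.mem_union, Set.mem_range]
    exact ⟨fun ⟨i, h⟩ => h.imp (fun e => ⟨i, e.symm⟩) fun e => ⟨i, e.symm⟩,
      fun h => h.elim (fun ⟨i, e⟩ => ⟨i, Or.inl e.symm⟩) fun ⟨i, e⟩ => ⟨i, Or.inr e.symm⟩⟩
  rw [hT, Set.ncard_coe_finset]
  decide +kernel

/-- The condition of preserving the standard cross. -/
def Preserves (g : ↥Co0) : Prop :=
  ∀ v : ↥leechLattice, (v : Vec) ∈ stdCross → ((g • v : ↥leechLattice) : Vec) ∈ stdCross

theorem finite_cross : {v : ↥leechLattice | (v : Vec) ∈ stdCross}.Finite := by
  refine Set.Finite.preimage (Subtype.val_injective.injOn) ?_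
  rw [stdCross_eq]
  exact Set.finite_of_ncard_ne_zero (by rw [cross_card (eightVec_mem none) (norm_eight none)]; norm_num)

/-- The stabiliser of the standard cross. -/
def crossStab : Subgroup ↥Co0 :=
  MulAction.stabilizer ↥Co0 ({v : ↥leechLattice | (v : Vec) ∈ stdCross} : Set ↥leechLattice)

theorem mem_crossStab {g : ↥Co0} : g ∈ crossStab ↔ Preserves g := by
  rw [crossStab, MulAction.mem_stabilizer_iff]
  constructor
  · intro h v hv
    have h' := Set.smul_mem_smul_set (a := g) (s := {v : ↥leechLattice | (v : Vec) ∈ stdCross}) hv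
    rw [h] at h'
    exact h'
  · intro h
    refine Set.eq_of_subset_of_ncard_le ?_
      (by rw [← Set.image_smul, Set.ncard_image_of_injective _ (MulAction.injective g)]) finite_cross
    rintro _ ⟨v, hv, rfl⟩
    exact h v hv

/-- The monomial automorphisms. -/
def monoElt {σ : Equiv.Perm GolayPt} (hσ : σ ∈ M24) {c : Finset GolayPt}
    (hc : c ∈ supports (golayCode : Set (GolayPt → ZMod 2))) : ↥Co0 := flipElt hc * permElt hσ

theorem monoElt_apply {σ : Equiv.Perm GolayPt} (hσ : σ ∈ M24) {c : Finset GolayPt}
    (hc : c ∈ supports (golayCode : Set (GolayPt → ZMod 2))) (v : ↥leechLattice) :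
    ((monoElt hσ hc • v : ↥leechLattice) : Vec) = signedPerm σ c v := by
  rw [monoElt, mul_smul, flipElt_apply, permElt_apply]
  rfl

theorem signedPerm_eight (σ : Equiv.Perm GolayPt) (c : Finset GolayPt) (i : GolayPt) :
    signedPerm σ c (eightVec i) = if σ i ∈ c then -eightVec (σ i) else eightVec (σ i) := by
  funext k
  have : σ.symm k = i ↔ k = σ i := Equiv.symm_apply_eq σ
  simp only [signedPerm, eightVec, this]
  by_cases hk : k = σ i
  · subst hk
    split_ifs <;> simp_all [eightVec]
  · simp only [if_neg hk]
    split_ifs <;> simp [eightVec, hk]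

theorem preserves_mono {σ : Equiv.Perm GolayPt} (hσ : σ ∈ M24) {c : Finset GolayPt}
    (hc : c ∈ supports (golayCode : Set (GolayPt → ZMod 2))) : Preserves (monoElt hσ hc) := by
  intro v hv
  rw [monoElt_apply]
  obtain ⟨i, e | e⟩ := mem_stdCross.1 hv
  · rw [e, signedPerm_eight]
    split_ifs
    exacts [mem_stdCross.2 ⟨_, Or.inr rfl⟩, mem_stdCross.2 ⟨_, Or.inl rfl⟩]
  · rw [e, show signedPerm σ c (-eightVec i) = -signedPerm σ c (eightVec i) from funext fun k => by
      simp only [signedPerm, Pi.neg_apply]; split_ifs <;> rfl, signedPerm_eight]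
    split_ifs
    · rw [neg_neg]; exact mem_stdCross.2 ⟨_, Or.inl rfl⟩
    · exact mem_stdCross.2 ⟨_, Or.inr rfl⟩

theorem eightVec_inj {i j : GolayPt} (h : eightVec i = eightVec j) : i = j := by
  by_contra hne
  have := congrFun h i
  simp [eightVec, hne] at this

theorem eightVec_ne_neg (i j : GolayPt) : eightVec i ≠ -eightVec j := fun h => by
  have := congrFun h i
  simp only [eightVec, Pi.neg_apply, if_true] at this
  split_ifs at this <;> omega

/-- An automorphism preserving the cross is monomial. -/
theorem exists_mono {g : ↥Co0} (hg : Preserves g) :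
    ∃ (σ : Equiv.Perm GolayPt) (hσ : σ ∈ M24) (c : Finset GolayPt)
      (hc : c ∈ supports (golayCode : Set (GolayPt → ZMod 2))), g = monoElt hσ hc := by
  classical
  let E : GolayPt → ↥leechLattice := fun i => ⟨eightVec i, eightVec_mem i⟩
  have him : ∀ i, ∃ j, ((g • E i : ↥leechLattice) : Vec) = eightVec j ∨
      ((g • E i : ↥leechLattice) : Vec) = -eightVec j :=
    fun i => mem_stdCross.1 (hg (E i) (mem_stdCross.2 ⟨i, Or.inl rfl⟩))
  choose τ hτ using him
  have hτinj : Function.Injective τ := by
    intro i j e
    have key : g • E i = g • E j ∨ g • E i = g • (-E j) := by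
      rw [smul_neg']
      rcases hτ i with hi | hi <;> rcases hτ j with hj | hj <;> rw [e] at hi
      · exact Or.inl (Subtype.ext (hi.trans hj.symm))
      · exact Or.inr (Subtype.ext (by rw [AddSubgroup.coe_neg, hi, hj, neg_neg]))
      · exact Or.inr (Subtype.ext (by rw [AddSubgroup.coe_neg, hi, hj]))
      · exact Or.inl (Subtype.ext (hi.trans hj.symm))
    rcases key with k | k
    · exact eightVec_inj (congrArg Subtype.val (MulAction.injective g k))
    · exact absurd (congrArg Subtype.val (MulAction.injective g k)) (eightVec_ne_neg i j)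
  let σ : Equiv.Perm GolayPt := Equiv.ofBijective τ (Finite.injective_iff_bijective.1 hτinj)
  let c : Finset GolayPt :=
    Finset.univ.filter fun k => ((g • E (σ.symm k) : ↥leechLattice) : Vec) = -eightVec k
  have hE : ∀ i, ((g • E i : ↥leechLattice) : Vec) = signedPerm σ c (eightVec i) := by
    intro i
    rw [signedPerm_eight]
    have hσi : σ i = τ i := rfl
    have hmem : σ i ∈ c ↔ ((g • E i : ↥leechLattice) : Vec) = -eightVec (σ i) := by
      simp [c]
    split_ifs with h
    · exact hmem.1 h
    · exact (hτ i).resolve_right fun h' => h (hmem.2 h')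
  have hall : ∀ v : ↥leechLattice, ((g • v : ↥leechLattice) : Vec) = signedPerm σ c v := by
    intro v
    have hsum : (8 : ℕ) • v = ∑ i, (v : Vec) i • E i := by
      refine Subtype.ext (funext fun k => ?_)
      rw [AddSubgroup.val_finset_sum, Finset.sum_apply]
      simp [E, eightVec, mul_comm]
    have h1 := congrArg (fun w => ((g • w : ↥leechLattice) : Vec)) hsum
    simp only [smul_nsmul', AddSubgroup.coe_nsmul] at h1
    have h2 : ((g • (∑ i, (v : Vec) i • E i) : ↥leechLattice) : Vec) =
        ∑ i, (v : Vec) i • signedPerm σ c (eightVec i) := by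
      show ((linOf g (∑ i, (v : Vec) i • E i) : ↥leechLattice) : Vec) = _
      rw [map_sum, AddSubgroup.val_finset_sum]
      refine Finset.sum_congr rfl fun i _ => ?_
      rw [map_zsmul, AddSubgroup.coe_zsmul]
      exact congrArg _ (hE i)
    rw [h2] at h1
    funext k
    have := congrFun h1 k
    rw [Pi.smul_apply, Finset.sum_apply, Finset.sum_eq_single (σ.symm k)] at this
    · simp only [Pi.smul_apply, signedPerm, eightVec, nsmul_eq_mul, smul_eq_mul, if_true] at this ⊢
      push_cast at this
      split_ifs at this ⊢ with h <;> omega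
    · intro i _ hi
      simp [signedPerm, eightVec, Ne.symm hi]
    · simp
  have hσ : σ ∈ M24 := by
    rw [M24_eq_octad_aut]
    show σ • octads = octads
    refine Set.eq_of_subset_of_ncard_le ?_
      (by rw [← Set.image_smul, Set.ncard_image_of_injective _ (MulAction.injective σ)]) (Set.toFinite _)
    rintro _ ⟨o, ho, rfl⟩
    have hL := mem_iff.1 (SetLike.coe_mem (g • (⟨octVec o, mem_iff.2 (isL_octVec ho.1)⟩ : ↥leechLattice)))
    rw [hall] at hL
    have he : signedPerm σ c (octVec o) =
        fun k => 2 * (if σ.symm k ∈ o then (if k ∈ c then (-1 : ℤ) else 1) else 0) := by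
      funext k; simp only [signedPerm, octVec]; split_ifs <;> rfl
    rw [he, isL_two] at hL
    obtain ⟨hr, -⟩ := hL
    show σ • o ∈ octads
    refine ⟨⟨_, hr, ?_⟩, by rw [Finset.card_smul_finset]; exact ho.2⟩
    ext k
    rw [← Finset.inv_smul_mem_iff]
    simp only [support₂, Finset.mem_filter, Finset.mem_univ, true_and, red, cast_ne_zero_iff,
      Equiv.Perm.smul_def, Equiv.Perm.coe_inv]
    split_ifs with h1 h2 <;> simp [h1]
  have hc : c ∈ supports (golayCode : Set (GolayPt → ZMod 2)) := by
    have hv : permVec σ.symm omegaVec ∈ leechLattice := mem_iff.2 (isL_perm (inv_mem hσ) isL_omega)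
    have hL := mem_iff.1 (SetLike.coe_mem (g • (⟨permVec σ.symm omegaVec, hv⟩ : ↥leechLattice)))
    rw [hall] at hL
    have e : ∀ k, signedPerm σ c (permVec σ.symm omegaVec) k =
        if k ∈ c then -omegaVec k else omegaVec k := fun k => by
      simp [signedPerm, permVec]
    obtain ⟨m, d, h1, h2, -⟩ := hL
    refine ⟨red d + (((m - 1) / 2 : ℤ) : ZMod 2) • (1 : GolayPt → ZMod 2),
      add_mem h2 (Submodule.smul_mem _ _ one_mem_code), ?_⟩
    ext k
    have hk := (h1 k).symm.trans (e k)
    have h0 := (h1 none).symm.trans (e none)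
    simp only [support₂, Finset.mem_filter, Finset.mem_univ, true_and, Pi.add_apply, Pi.smul_apply,
      Pi.one_apply, smul_eq_mul, mul_one, red]
    rw [← Int.cast_add, cast_ne_zero_iff]
    have hm : m % 2 = 1 := by
      simp only [omegaVec, if_true] at h0
      split_ifs at h0 <;> omega
    by_cases hk0 : k = none <;> simp only [omegaVec, hk0, if_true, if_false] at hk h0 ⊢ <;>
      split_ifs at hk h0 <;> simp [*] <;> omega
  refine ⟨σ, hσ, c, hc, Subtype.ext (Equiv.ext fun v => Subtype.ext ?_)⟩
  exact (hall v).trans (monoElt_apply hσ hc v).symm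

/-- The monomial group is the stabiliser of the cross. -/
noncomputable def monoEquiv :
    ↥M24 × ↥{c : Finset GolayPt | c ∈ supports (golayCode : Set (GolayPt → ZMod 2))} ≃
      {g : ↥Co0 // Preserves g} :=
  Equiv.ofBijective (fun p => ⟨monoElt p.1.2 p.2.2, preserves_mono p.1.2 p.2.2⟩)
    ⟨fun p q h => by
      have key : ∀ i, (if p.1.1 i ∈ p.2.1 then -eightVec (p.1.1 i) else eightVec (p.1.1 i)) =
          (if q.1.1 i ∈ q.2.1 then -eightVec (q.1.1 i) else eightVec (q.1.1 i)) := fun i => by
        have := congrArg (fun z : {g : ↥Co0 // Preserves g} =>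
          ((z.1 • (⟨eightVec i, eightVec_mem i⟩ : ↥leechLattice) : ↥leechLattice) : Vec)) h
        simp only [monoElt_apply, signedPerm_eight] at this
        exact this
      have hp : p.1 = q.1 := Subtype.ext (Equiv.ext fun i => by
        have := key i
        split_ifs at this
        · exact eightVec_inj (neg_injective this)
        · exact absurd this.symm (eightVec_ne_neg _ _)
        · exact absurd this (eightVec_ne_neg _ _)
        · exact eightVec_inj this)
      refine Prod.ext hp (Subtype.ext (Finset.ext fun k => ?_))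
      obtain ⟨i, rfl⟩ := p.1.1.surjective k
      have := key i
      rw [← hp] at this
      split_ifs at this with h1 h2 h3
      · exact iff_of_true h1 h2
      · exact absurd this.symm (eightVec_ne_neg _ _)
      · exact absurd this (eightVec_ne_neg _ _)
      · exact iff_of_false h1 h3,
     fun ⟨g, hg⟩ => by
      obtain ⟨σ, hσ, c, hc, rfl⟩ := exists_mono hg
      exact ⟨(⟨σ, hσ⟩, ⟨c, hc⟩), rfl⟩⟩

theorem card_supports :
    {c : Finset GolayPt | c ∈ supports (golayCode : Set (GolayPt → ZMod 2))}.ncard = 4096 := by
  rw [← card_codeFin, Set.ofPred_mem_eq, supports, Set.ncard_image_of_injective _ (Function.LeftInverse.injective (g := Uniq.ind) Uniq.ind_support₂),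
    ← Set.ncard_coe_finset]
  congr 1
  ext c
  simp [mem_codeFin]

theorem card_preserves : Nat.card {g : ↥Co0 // Preserves g} = 4096 * 244823040 := by
  rw [← Nat.card_congr monoEquiv, Nat.card_prod, M24_card, Nat.card_coe_set_eq, card_supports, mul_comm]

theorem std_cross_stabilizer :
    (∀ g : ↥Co0, Preserves g →
      ∃ f ∈ golayMonomialMaps, ∀ v : ↥leechLattice, ((g • v : ↥leechLattice) : Vec) = f (v : Vec)) ∧
    Nat.card {g : ↥Co0 // Preserves g} = 4096 * 244823040 := by
  refine ⟨fun g hg => ?_, card_preserves⟩
  obtain ⟨σ, hσ, c, hc, rfl⟩ := exists_mono hg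
  exact ⟨signedPerm σ c, ⟨σ, hσ, c, hc, rfl⟩, monoElt_apply hσ hc⟩

/-! ### the order -/

theorem classOf_smul (g : ↥Co0) {x y : ↥leechLattice} (h : classOf (x : Vec) = classOf (y : Vec)) :
    classOf ((g • x : ↥leechLattice) : Vec) = classOf ((g • y : ↥leechLattice) : Vec) := by
  obtain ⟨z, hz, e⟩ := (classOf_eq_iff x.2 y.2).1 h
  refine (classOf_eq_iff (SetLike.coe_mem _) (SetLike.coe_mem _)).2
    ⟨((g • (⟨z, hz⟩ : ↥leechLattice) : ↥leechLattice) : Vec), SetLike.coe_mem _, ?_⟩
  rw [← AddSubgroup.coe_sub, ← smul_sub', ← AddSubgroup.coe_nsmul, ← smul_nsmul']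
  exact congrArg (fun w : ↥leechLattice => ((g • w : ↥leechLattice) : Vec)) (Subtype.ext e)

theorem mem_std_iff {y : Vec} (hy : y ∈ leechLattice) :
    y ∈ stdCross ↔ sqNorm y = 64 ∧ classOf y = classOf (eightVec none) := by
  rw [stdCross_eq]
  constructor
  · rintro ⟨-, h2, h3⟩
    exact ⟨h2.trans (norm_eight none), ((classOf_eq_iff (eightVec_mem none) hy).2 h3).symm⟩
  · rintro ⟨h2, h3⟩
    exact ⟨hy, h2.trans (norm_eight none).symm, (classOf_eq_iff (eightVec_mem none) hy).1 h3.symm⟩

/-- The base vector. -/
def baseElt : ↥leechLattice := ⟨eightVec none, eightVec_mem none⟩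

theorem preserves_iff {g : ↥Co0} :
    Preserves g ↔ classOf ((g • baseElt : ↥leechLattice) : Vec) = classOf (eightVec none) := by
  constructor
  · intro h
    exact ((mem_std_iff (SetLike.coe_mem _)).1
      (h baseElt (mem_stdCross.2 ⟨none, Or.inl rfl⟩))).2
  · intro h v hv
    obtain ⟨h1, h2⟩ := (mem_std_iff v.2).1 hv
    exact (mem_std_iff (SetLike.coe_mem _)).2
      ⟨(norm_smul' g v).trans h1, (classOf_smul g (y := baseElt) h2).trans h⟩

theorem card_image64 : ((shell 64).image classOf).card = 8292375 := by
  have h := Finset.card_eq_sum_card_image classOf (shell 64)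
  rw [Finset.sum_congr rfl (g := fun _ => 48) fun q hq => by
      obtain ⟨x, hx, rfl⟩ := Finset.mem_image.1 hq
      exact classes_exact.2 x hx,
    Finset.sum_const, smul_eq_mul, card_shell, count64] at h
  omega

theorem index_crossStab : crossStab.index = 8292375 := by
  let φ : ↥Co0 ⧸ crossStab → Classes :=
    Quotient.lift (fun g : ↥Co0 => classOf ((g • baseElt : ↥leechLattice) : Vec)) fun a b hab => by
      have hab' : Preserves (a⁻¹ * b) := mem_crossStab.1 (QuotientGroup.leftRel_apply.1 hab)
      have h' := classOf_smul a (x := (a⁻¹ * b) • baseElt) (y := baseElt) (preserves_iff.1 hab')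
      rw [← mul_smul, mul_inv_cancel_left] at h'
      exact h'.symm
  have hinj : Function.Injective φ := by
    intro A B h
    induction A using Quotient.inductionOn with | _ a => ?_
    induction B using Quotient.inductionOn with | _ b => ?_
    refine Quotient.sound (QuotientGroup.leftRel_apply.2 (mem_crossStab.2 (preserves_iff.2 ?_)))
    have h' := classOf_smul a⁻¹ (x := b • baseElt) (y := a • baseElt)
      (show classOf ((b • baseElt : ↥leechLattice) : Vec) = _ from h.symm)
    rw [inv_smul_smul, ← mul_smul] at h'
    exact h'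
  have hrange : Set.range φ = ↑((shell 64).image classOf) := by
    ext q
    simp only [Set.mem_range, Finset.coe_image, Set.mem_image, Finset.mem_coe, mem_shell]
    constructor
    · rintro ⟨A, rfl⟩
      induction A using Quotient.inductionOn with | _ a => ?_
      exact ⟨_, ⟨SetLike.coe_mem _, (norm_smul' a baseElt).trans (norm_eight none)⟩, rfl⟩
    · rintro ⟨x, ⟨hx, hn⟩, rfl⟩
      obtain ⟨hy, g, e⟩ := (orbit64 hx hn).symm
      refine ⟨Quotient.mk _ g, ?_⟩
      show classOf ((g • baseElt : ↥leechLattice) : Vec) = classOf x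
      have : baseElt = ⟨vecOf rv_eight, hy⟩ := Subtype.ext rv_eight_eq.symm
      rw [this, e]
  rw [Subgroup.index, ← Nat.card_range_of_injective hinj, Nat.card_coe_set_eq, hrange,
    Set.ncard_coe_finset, card_image64]

theorem card_Co0 : Nat.card ↥Co0 = 8315553613086720000 := by
  rw [← Subgroup.card_mul_index crossStab, index_crossStab,
    show Nat.card ↥crossStab = Nat.card {g : ↥Co0 // Preserves g} from
      Nat.card_congr (Equiv.subtypeEquivRight fun g => mem_crossStab), card_preserves]

/-! ### the centre -/

theorem code_sep : ∀ i j : GolayPt, i ≠ j →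
    ∃ k : Fin 12, i ∉ setOfMask (basisMask k.val) ∧ j ∈ setOfMask (basisMask k.val) ∨
      i ∈ setOfMask (basisMask k.val) ∧ j ∉ setOfMask (basisMask k.val) := by
  decide +kernel

theorem exists_avoid {i j : GolayPt} (h : i ≠ j) :
    ∃ c ∈ supports (golayCode : Set (GolayPt → ZMod 2)), i ∉ c ∧ j ∈ c := by
  obtain ⟨k, hk | hk⟩ := code_sep i j h
  · exact ⟨_, basis_supports k.2, hk.1, hk.2⟩
  · refine ⟨(setOfMask (basisMask k.val))ᶜ, ?_, by simpa using hk.1, by simpa using hk.2⟩
    obtain ⟨w, hw, e⟩ := basis_supports k.2
    refine ⟨w + 1, add_mem hw one_mem_code, ?_⟩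
    rw [← e]
    ext x
    have h01 : w x = 0 ∨ w x = 1 := by generalize w x = v; revert v; decide
    rcases h01 with hx | hx <;> simp [support₂, hx] <;> decide

theorem univ_supports : (Finset.univ : Finset GolayPt) ∈ supports (golayCode : Set (GolayPt → ZMod 2)) :=
  ⟨1, one_mem_code, by ext x; simp [support₂]⟩

theorem empty_supports : (∅ : Finset GolayPt) ∈ supports (golayCode : Set (GolayPt → ZMod 2)) :=
  ⟨0, zero_mem _, by ext x; simp [support₂]⟩

/-- Minus one. -/
def negElt : ↥Co0 := flipElt univ_supports

theorem negElt_smul (v : ↥leechLattice) : negElt • v = -v :=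
  Subtype.ext (funext fun i => by
    show flipVec Finset.univ (v : Vec) i = _
    simp [flipVec])

theorem negElt_ne_one : negElt ≠ 1 := fun h => by
  have := negElt_smul baseElt
  rw [h, one_smul] at this
  exact eightVec_ne_neg none none (congrArg Subtype.val this)

theorem center_eq : (Subgroup.center ↥Co0 : Set ↥Co0) = {1, negElt} := by
  ext z
  constructor
  · intro hz
    have hcomm : ∀ g : ↥Co0, ∀ v : ↥leechLattice, g • z • v = z • g • v := fun g v => by
      rw [← mul_smul, ← mul_smul, Subgroup.mem_center_iff.1 hz g]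
    have hpres : Preserves z := by
      intro v hv
      obtain ⟨i, hi⟩ := mem_stdCross.1 hv
      set w : Vec := ((z • v : ↥leechLattice) : Vec) with hw
      have hzero : ∀ j, j ≠ i → w j = 0 := by
        intro j hj
        obtain ⟨c, hc, hci, hcj⟩ := exists_avoid (Ne.symm hj)
        have hfix : flipElt hc • v = v := Subtype.ext (funext fun k => by
          rw [flipElt_apply]
          simp only [flipVec]
          split_ifs with hk
          · have : k ≠ i := fun e => hci (e ▸ hk)
            rcases hi with e | e <;> rw [e] <;> simp [eightVec, this]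
          · rfl)
        have := congrArg (fun u : ↥leechLattice => (u : Vec) j) (hcomm (flipElt hc) v)
        simp only [hfix, flipElt_apply, flipVec, if_pos hcj] at this
        change -w j = w j at this
        omega
      have hn : sqNorm w = 64 := by
        rw [hw, norm_smul']
        rcases hi with e | e <;> rw [e] <;> simp [sqNorm, eightVec, ite_pow]
      rw [sqNorm, Finset.sum_eq_single i (fun j _ hj => by rw [hzero j hj]; norm_num) (by simp)] at hn
      have hwi : w i = 8 ∨ w i = -8 := by
        have : (w i - 8) * (w i + 8) = 0 := by ring_nf; linarith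
        rcases mul_eq_zero.1 this with h | h <;> omega
      refine mem_stdCross.2 ⟨i, hwi.imp (fun h => ?_) (fun h => ?_)⟩ <;>
        funext k <;> by_cases hk : k = i
      all_goals (try subst hk) <;> simp_all [eightVec]
    obtain ⟨σ, hσ, c, hc, rfl⟩ := exists_mono hpres
    have key : ∀ i, σ i = i := by
      intro i
      by_contra hne
      obtain ⟨d, hd, hdi, hdj⟩ := exists_avoid (Ne.symm hne)
      have h := congrArg (fun u : ↥leechLattice => (u : Vec))
        (hcomm (flipElt hd) ⟨eightVec i, eightVec_mem i⟩)
      rw [flipElt_apply, monoElt_apply, monoElt_apply, flipElt_apply,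
        show flipVec d (eightVec i) = eightVec i from funext fun k => by
          simp only [flipVec, eightVec]
          by_cases hk : k = i
          · subst hk; simp [hdi]
          · simp [hk]] at h
      rw [signedPerm_eight] at h
      have := congrFun h (σ i)
      simp only [flipVec, if_pos hdj] at this
      split_ifs at this <;> simp [eightVec] at this
    have hc2 : ∀ i j : GolayPt, i ∈ c → j ∈ c := by
      intro i j hi
      obtain ⟨g, hg⟩ := exists_map_list (xs := [i]) (ys := [j]) (by simp) (by simp) rfl (by simp)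
      simp only [List.map_cons, List.map_nil, List.cons.injEq, and_true] at hg
      have h := congrArg (fun u : ↥leechLattice => (u : Vec))
        (hcomm (permElt g.2) ⟨eightVec i, eightVec_mem i⟩)
      rw [permElt_apply, monoElt_apply, monoElt_apply, permElt_apply] at h
      have := congrFun h j
      have hgi : g.1.symm j = i := by rw [← hg]; exact g.1.symm_apply_apply i
      have hsym : σ.symm i = i := by rw [Equiv.symm_apply_eq, key]
      have hsymj : σ.symm j = j := by rw [Equiv.symm_apply_eq, key]
      simp only [permVec, signedPerm, hgi, hsym, hsymj, eightVec, if_pos hi, if_true] at this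
      by_contra hj
      rw [if_neg hj] at this
      omega
    have h1 : σ = 1 := Equiv.ext key
    by_cases hempty : c = ∅
    · left
      refine Subtype.ext (Equiv.ext fun v => Subtype.ext ?_)
      show ((monoElt hσ hc • v : ↥leechLattice) : Vec) = (v : Vec)
      rw [monoElt_apply]
      subst h1; subst hempty
      funext k; simp [signedPerm]; rfl
    · right
      obtain ⟨i, hi⟩ := Finset.nonempty_iff_ne_empty.2 hempty
      have hu : c = Finset.univ := Finset.eq_univ_of_forall fun j => hc2 i j hi
      refine Set.mem_singleton_iff.2 (Subtype.ext (Equiv.ext fun v => Subtype.ext ?_))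
      show ((monoElt hσ hc • v : ↥leechLattice) : Vec) = ((negElt • v : ↥leechLattice) : Vec)
      rw [monoElt_apply, negElt_smul]
      subst h1; subst hu
      funext k; simp [signedPerm]; rfl
  · rintro (rfl | rfl)
    · exact Subgroup.one_mem _
    · refine Subgroup.mem_center_iff.2 fun g => Subtype.ext (Equiv.ext fun v => ?_)
      show g • negElt • v = negElt • g • v
      rw [negElt_smul, negElt_smul, smul_neg']

theorem card_center : Nat.card (Subgroup.center ↥Co0) = 2 := by
  rw [← SetLike.coe_sort_coe, Nat.card_coe_set_eq, center_eq]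
  exact Set.ncard_pair (Ne.symm negElt_ne_one)

end CfsgLib.Sporadic.Conway
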