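import Cfsg.Agent.Lib.Sporadic.M11IsoData
import Cfsg.Agent.Lib.Sporadic.PermList
import Cfsg.Agent.Lib.Sporadic.Maximal
import Cfsg.Agent.Lib.Sporadic.Simple
import Cfsg.Agent.Lib.Classical.LinearOrder

/-!
# M11 on twelve points: point, pair and involution centraliser
-/

set_option autoImplicit false
set_option Elab.async false

namespace CfsgLib.Sporadic

open Cfsg MulAction
open scoped Pointwise

/-- The standard M11. -/
abbrev std11 : Subgroup ↥M24 :=
  stabilizer ↥M24 (setOfMask stdD) ⊓ stabilizer ↥M24 (some 0 : GolayPt)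

def stdPair : ℕ := 8388640

theorem none_out : (none : GolayPt) ∉ setOfMask stdD := by decide +kernel
theorem five_out : (some 5 : GolayPt) ∉ setOfMask stdD := by decide +kernel
theorem zero_in : (some 0 : GolayPt) ∈ setOfMask stdD := by decide +kernel

theorem card_outside {d : Finset GolayPt} (hd : d ∈ dodecads) : dᶜ.card = 12 := by
  rw [Finset.card_compl, hd.2, show Fintype.card GolayPt = 24 by decide +kernel]

theorem exists_map_compl_two {d : Finset GolayPt} (hd : d ∈ dodecads) {p : GolayPt} (hp : p ∈ d)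
    {a b a' b' : GolayPt} (hab : a ≠ b) (hab' : a' ≠ b') (ha : a ∉ d) (hb : b ∉ d) (ha' : a' ∉ d)
    (hb' : b' ∉ d) :
    ∃ g ∈ stabilizer ↥M24 d ⊓ stabilizer ↥M24 p, g • a = a' ∧ g • b = b' := by
  have third : ∀ u v : GolayPt, u ∉ d → v ∉ d → ∃ w, w ∉ d ∧ w ≠ u ∧ w ≠ v := by
    intro u v _ _
    have : 0 < ((dᶜ.erase u).erase v).card := by
      have h1 := Finset.pred_card_le_card_erase (a := v) (s := dᶜ.erase u)
      have h2 := Finset.pred_card_le_card_erase (a := u) (s := dᶜ)
      rw [card_outside hd] at h2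
      omega
    obtain ⟨w, hw⟩ := Finset.card_pos.1 this
    simp only [Finset.mem_erase, Finset.mem_compl] at hw
    exact ⟨w, hw.2.2, hw.2.1, hw.1⟩
  obtain ⟨c, hc, hca, hcb⟩ := third a b ha hb
  obtain ⟨c', hc', hca', hcb'⟩ := third a' b' ha' hb'
  have inj : ∀ {u v w : GolayPt}, u ≠ v → w ≠ u → w ≠ v → Function.Injective ![u, v, w] := by
    intro u v w h1 h2 h3 i j h
    fin_cases i <;> fin_cases j <;> first
      | rfl
      | (exfalso; revert h; simp [h1, h2, h3, h1.symm, h2.symm, h3.symm])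
  obtain ⟨g, hg, e⟩ := exists_map_compl hd hp ⟨_, inj hab hca hcb⟩ ⟨_, inj hab' hca' hcb'⟩
    (fun i => by fin_cases i <;> [exact ha; exact hb; exact hc])
    (fun i => by fin_cases i <;> [exact ha'; exact hb'; exact hc'])
  exact ⟨g, hg, e 0, e 1⟩

theorem m11_frame {d : Finset GolayPt} (hd : d ∈ dodecads) {p a b : GolayPt} (hp : p ∈ d)
    (ha : a ∉ d) (hb : b ∉ d) (hab : a ≠ b) :
    ∃ t : ↥M24, t • setOfMask stdD = d ∧ t • (some 0 : GolayPt) = p ∧ t • (none : GolayPt) = a ∧
      t • (some 5 : GolayPt) = b := by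
  obtain ⟨t, rfl, rfl⟩ := dodecad_frame hd hp
  have e1 : t • (none : GolayPt) ∉ t • setOfMask stdD := fun h => none_out ((mem_smul_set t).1 h)
  have e2 : t • (some 5 : GolayPt) ∉ t • setOfMask stdD := fun h => five_out ((mem_smul_set t).1 h)
  obtain ⟨g, hg, h1, h2⟩ := exists_map_compl_two hd hp
    (fun e => by simpa using MulAction.injective t e) hab e1 e2 ha hb
  obtain ⟨g1, g2⟩ := Subgroup.mem_inf.1 hg
  exact ⟨g * t, by rw [mul_smul, mem_stabilizer_iff.1 g1], by rw [mul_smul, mem_stabilizer_iff.1 g2],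
    by rw [mul_smul, h1], by rw [mul_smul, h2]⟩

/-- Intersections of three stabilisers of translated objects. -/
def stabEquiv3 {X Y Z : Type*} [MulAction ↥M24 X] [MulAction ↥M24 Y] [MulAction ↥M24 Z] (t : ↥M24)
    (a : X) (b : Y) (c : Z) :
    ↥(stabilizer ↥M24 a ⊓ stabilizer ↥M24 b ⊓ stabilizer ↥M24 c) ≃*
      ↥(stabilizer ↥M24 (t • a) ⊓ stabilizer ↥M24 (t • b) ⊓ stabilizer ↥M24 (t • c)) :=
  conjEquiv t _ _ fun g => by simp only [Subgroup.mem_inf, stab_conj]

theorem card_stab_out {d : Finset GolayPt} (hd : d ∈ dodecads) {p q : GolayPt} (hp : p ∈ d) (hq : q ∉ d) :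
    Nat.card ↥(stabilizer ↥M24 d ⊓ stabilizer ↥M24 p ⊓ stabilizer ↥M24 q) = 660 := by
  have := card_eq_orbit_mul (stabilizer ↥M24 d ⊓ stabilizer ↥M24 p) q (↑dᶜ : Set GolayPt)
    (fun g hg => by
      have h1 := (Subgroup.mem_inf.1 hg).1
      exact Finset.mem_coe.2 (Finset.mem_compl.2 fun h => hq ((smul_mem_of_stab h1).1 h)))
    fun y hy => by
      have hy' : y ∉ d := Finset.mem_compl.1 (Finset.mem_coe.1 hy)
      have other : ∀ u : GolayPt, ∃ w, w ∉ d ∧ u ≠ w := fun u => by
        obtain ⟨w, hw⟩ := Finset.card_pos.1 (show 0 < (dᶜ.erase u).card by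
          have := Finset.pred_card_le_card_erase (a := u) (s := dᶜ)
          rw [card_outside hd] at this
          omega)
        simp only [Finset.mem_erase, Finset.mem_compl] at hw
        exact ⟨w, hw.2, hw.1.symm⟩
      obtain ⟨q2, h2, hne⟩ := other q
      obtain ⟨y2, h2', hne'⟩ := other y
      obtain ⟨g, hg, e, -⟩ := exists_map_compl_two hd hp hne hne' hq h2 hy' h2'
      exact ⟨g, hg, e⟩
  rw [card_stab_dodecad_point hd hp, Set.ncard_coe_finset, card_outside hd] at this
  omega

theorem pair_mask : setOfMask stdPair = ({none, some 5} : Finset GolayPt) := by decide +kernel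

theorem card_stab_out_pair {d : Finset GolayPt} (hd : d ∈ dodecads) {p a b : GolayPt} (hp : p ∈ d)
    (ha : a ∉ d) (hb : b ∉ d) (hab : a ≠ b) :
    Nat.card ↥(stabilizer ↥M24 d ⊓ stabilizer ↥M24 p ⊓ stabilizer ↥M24 ({a, b} : Finset GolayPt)) = 120 := by
  have := card_eq_orbit_mul (stabilizer ↥M24 d ⊓ stabilizer ↥M24 p) ({a, b} : Finset GolayPt)
    (↑(dᶜ.powersetCard 2) : Set (Finset GolayPt))
    (fun g hg => by
      have h1 := (Subgroup.mem_inf.1 hg).1
      refine Finset.mem_coe.2 (Finset.mem_powersetCard.2 ⟨?_, by rw [card_smul_set, Finset.card_pair hab]⟩)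
      intro z hz
      obtain ⟨w, hw, rfl⟩ := Finset.mem_smul_finset.1 hz
      refine Finset.mem_compl.2 fun h => ?_
      have := (smul_mem_of_stab h1).1 h
      simp only [Finset.mem_insert, Finset.mem_singleton] at hw
      rcases hw with rfl | rfl <;> [exact ha this; exact hb this])
    fun y hy => by
      obtain ⟨hsub, hc⟩ := Finset.mem_powersetCard.1 (Finset.mem_coe.1 hy)
      obtain ⟨u, v, huv, rfl⟩ := Finset.card_eq_two.1 hc
      obtain ⟨g, hg, e1, e2⟩ := exists_map_compl_two hd hp hab huv ha hb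
        (Finset.mem_compl.1 (hsub (Finset.mem_insert_self _ _)))
        (Finset.mem_compl.1 (hsub (Finset.mem_insert_of_mem (Finset.mem_singleton_self _))))
      exact ⟨g, hg, by rw [smul_pair, e1, e2]⟩
  rw [card_stab_dodecad_point hd hp, Set.ncard_coe_finset, Finset.card_powersetCard, card_outside hd,
    show Nat.choose 12 2 = 66 from rfl] at this
  omega

/-! ### the pair stabiliser is symmetric of degree five -/

noncomputable def mulList (a b : List ℕ) : List ℕ := b.map fun x => a.getD x 0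

def permFun (l : List ℕ) (i : Fin 5) : Fin 5 := ⟨l.getD i.val 0 % 5, Nat.mod_lt _ (by norm_num)⟩

def permInv (l : List ℕ) (j : Fin 5) : Fin 5 :=
  ⟨(l.findIdx fun x => x == j.val) % 5, Nat.mod_lt _ (by norm_num)⟩

def decPerm (l : List ℕ) : Equiv.Perm (Fin 5) :=
  if h : (∀ i, permInv l (permFun l i) = i) ∧ ∀ i, permFun l (permInv l i) = i then
    ⟨permFun l, permInv l, h.1, h.2⟩
  else 1

noncomputable def pairWalk : List (ℕ × List ℕ) :=
  walk (stepPair mulList m11PairGens) m11PairOps (pone, [0, 1, 2, 3, 4])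

theorem std11_gens {gens : List ℕ} (h : stabGens gens stdD [0] = true) :
    GensIn std11 gens := fun p hp => by
  obtain ⟨g, h1, h2, h3⟩ := stabGens_in h p hp
  exact ⟨g, Subgroup.mem_inf.2 ⟨h1, h3 _ (by decide +kernel)⟩, h2⟩

theorem pairGens_in : GensIn (std11 ⊓ stabilizer ↥M24 (setOfMask stdPair)) (m11PairGens.map Prod.fst) :=
  fun p hp => by
    obtain ⟨g, h1, h2⟩ := std11_gens (gens := m11PairGens.map Prod.fst) (by decide +kernel) p hp
    have hm : ∀ p ∈ m11PairGens.map Prod.fst, mimg p stdPair = stdPair := by decide +kernel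
    exact ⟨g, Subgroup.mem_inf.2 ⟨h1, mem_stab_mask h2 (hm p hp)⟩, h2⟩

theorem card_stdPair : Nat.card ↥(std11 ⊓ stabilizer ↥M24 (setOfMask stdPair)) = 120 := by
  rw [pair_mask]
  exact card_stab_out_pair stdD_mem zero_in none_out five_out (by simp)

set_option maxRecDepth 100000 in
theorem pairWalk_ok : enumOK mulList m11PairGens pairWalk 120 = true := by decide +kernel

set_option maxRecDepth 100000 in
theorem pairWalk_mul : ∀ x ∈ pairWalk, ∀ s ∈ m11PairGens,
    decPerm (mulList x.2 s.2) = decPerm x.2 * decPerm s.2 := by decide +kernel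

set_option maxRecDepth 100000 in
theorem pairWalk_inj : ∀ x ∈ pairWalk, decPerm x.2 = 1 → x.1 = pone := by decide +kernel

/-- A homomorphism from a listed group is bijective when only the identity entry maps to 1. -/
theorem bijective_of_enum {H : Subgroup ↥M24} {β : Type} [DecidableEq β] {H' : Type*} [Group H']
    [Finite H'] {mulC : β → β → β} {one : β} {gens : List (ℕ × β)} {ops : List ℕ} {n : ℕ} {dec : β → H'}
    (hg : GensIn H (gens.map Prod.fst)) (hcard : Nat.card ↥H = n)
    (hok : enumOK mulC gens (walk (stepPair mulC gens) ops (pone, one)) n = true) (φ : ↥H →* H')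
    (hφ : ∀ x ∈ walk (stepPair mulC gens) ops (pone, one),
      ∃ g : ↥H, packG (g : ↥M24) = x.1 ∧ φ g = dec x.2)
    (hker : ∀ x ∈ walk (stepPair mulC gens) ops (pone, one), dec x.2 = 1 → x.1 = pone)
    (hH' : Nat.card H' = n) : Function.Bijective φ := by
  have hinj : Function.Injective φ := (injective_iff_map_eq_one φ).2 fun g hg1 => by
    obtain ⟨x, hx, e⟩ := exists_entry hg hcard hok g g.2
    obtain ⟨g', e', eφ⟩ := hφ x hx
    have : g' = g := Subtype.ext (Subtype.ext (packImage_injective (e'.trans e)))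
    subst this
    have := hker x hx (eφ.symm.trans hg1)
    exact Subtype.ext (Subtype.ext (packImage_injective ((e'.trans this).trans packImage_one.symm)))
  exact (Nat.bijective_iff_injective_and_card φ).2 ⟨hinj, hcard.trans hH'.symm⟩

theorem pair_iso {d : Finset GolayPt} (hd : d ∈ dodecads) {p a b : GolayPt} (hp : p ∈ d)
    (ha : a ∉ d) (hb : b ∉ d) (hab : a ≠ b) :
    Nonempty (↥(stabilizer ↥M24 d ⊓ stabilizer ↥M24 p ⊓ stabilizer ↥M24 ({a, b} : Finset GolayPt)) ≃*
      Equiv.Perm (Fin 5)) := by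
  obtain ⟨φ, hφ⟩ := exists_hom decPerm pairGens_in card_stdPair pairWalk_ok (by decide +kernel) pairWalk_mul
  have hb' := bijective_of_enum pairGens_in card_stdPair pairWalk_ok φ hφ pairWalk_inj (by
    rw [Nat.card_perm, Nat.card_fin]; rfl)
  obtain ⟨t, rfl, rfl, rfl, rfl⟩ := m11_frame hd hp ha hb hab
  have e := stabEquiv3 t (setOfMask stdD) (some 0 : GolayPt) (setOfMask stdPair)
  rw [show t • setOfMask stdPair = ({t • none, t • some 5} : Finset GolayPt) by
    rw [pair_mask, smul_pair]] at e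
  exact ⟨e.symm.trans (MulEquiv.ofBijective φ hb')⟩

/-! ### the point stabiliser is PSL(2, 11) -/

abbrev SL11 := Matrix.SpecialLinearGroup (Fin 2) (ZMod 11)

abbrev Code11 : Type := ℕ × ℕ × ℕ × ℕ

noncomputable def canon11 (x : Code11) : Code11 :=
  cond (Nat.ble (cond (Nat.beq x.1 0) x.2.1 x.1) 5) x
    ((11 - x.1) % 11, (11 - x.2.1) % 11, (11 - x.2.2.1) % 11, (11 - x.2.2.2) % 11)

noncomputable def mul11 (x y : Code11) : Code11 :=
  canon11 ((x.1 * y.1 + x.2.1 * y.2.2.1) % 11, (x.1 * y.2.1 + x.2.1 * y.2.2.2) % 11,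
    (x.2.2.1 * y.1 + x.2.2.2 * y.2.2.1) % 11, (x.2.2.1 * y.2.1 + x.2.2.2 * y.2.2.2) % 11)

def mat11 (x : Code11) : Matrix (Fin 2) (Fin 2) (ZMod 11) :=
  !![(x.1 : ZMod 11), (x.2.1 : ZMod 11); (x.2.2.1 : ZMod 11), (x.2.2.2 : ZMod 11)]

def sl11 (x : Code11) : SL11 :=
  if h : (mat11 x).det = 1 then ⟨mat11 x, h⟩ else 1

noncomputable def pointWalk : List (ℕ × Code11) :=
  walk (stepPair mul11 m11PointGens) m11PointOps (pone, ((1, 0, 0, 1) : Code11))

theorem pointGens_in : GensIn (std11 ⊓ stabilizer ↥M24 (none : GolayPt)) (m11PointGens.map Prod.fst) :=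
  fun p hp => by
    obtain ⟨g, h1, h2⟩ := std11_gens (gens := m11PointGens.map Prod.fst) (by decide +kernel) p hp
    have hm : ∀ p ∈ m11PointGens.map Prod.fst, pget p 23 = 23 := by decide +kernel
    exact ⟨g, Subgroup.mem_inf.2 ⟨h1, mem_stab_point h2 (hm p hp)⟩, h2⟩

theorem card_stdPoint : Nat.card ↥(std11 ⊓ stabilizer ↥M24 (none : GolayPt)) = 660 :=
  card_stab_out stdD_mem zero_in none_out

/-- No two entries agree modulo `m`. -/
noncomputable def modDistinct (m : ℕ) : List ℕ → ℕ → Bool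
  | [], _ => true
  | v :: t, seen => cond (Nat.beq (bitAt seen (Nat.mod v m)) 1) false
      (modDistinct m t (Nat.lor seen (Nat.shiftLeft 1 (Nat.mod v m))))

theorem modDistinct_spec (m : ℕ) : ∀ (l : List ℕ) (seen : ℕ), modDistinct m l seen = true →
    l.Nodup ∧ ∀ v ∈ l, seen.testBit (v % m) = false
  | [], _, _ => ⟨List.nodup_nil, fun _ h => absurd h List.not_mem_nil⟩
  | v :: t, seen, h => by
    rw [modDistinct] at h
    cases hb : Nat.beq (bitAt seen (Nat.mod v m)) 1 <;> rw [hb] at h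
    · obtain ⟨h1, h2⟩ := modDistinct_spec m t _ h
      have hlor : ∀ i, (Nat.lor seen (Nat.shiftLeft 1 (Nat.mod v m))).testBit i =
          (seen.testBit i || decide (v % m = i)) := fun i => by
        show (seen ||| 1 <<< (v % m)).testBit i = _
        rw [Nat.testBit_or, Nat.one_shiftLeft, Nat.testBit_two_pow]
      refine ⟨List.nodup_cons.2 ⟨fun hm => ?_, h1⟩, fun w hw => ?_⟩
      · have := h2 v hm
        rw [hlor] at this
        simp at this
      · rcases List.mem_cons.1 hw with rfl | hw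
        · cases e : seen.testBit (w % m)
          · rfl
          · rw [bitAt_eq, show Nat.mod w m = w % m from rfl, e] at hb
            simp at hb
        · have := h2 w hw
          rw [hlor, Bool.or_eq_false_iff] at this
          exact this.1
    · simp at h

set_option maxRecDepth 100000 in
theorem pointWalk_nodup : modDistinct 38239 (pointWalk.map Prod.fst) 0 = true := by decide +kernel

set_option maxRecDepth 100000 in
theorem pointWalk_closed : (pointWalk.all fun x => m11PointGens.all fun s =>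
    pointWalk.any fun y => Nat.beq y.1 (pmul x.1 s.1) && decide (y.2 = mul11 x.2 s.2)) = true := by
  decide +kernel

set_option maxRecDepth 100000 in
theorem pointWalk_length : Nat.beq pointWalk.length 660 = true := by decide +kernel

theorem pointWalk_ok : enumOK mul11 m11PointGens pointWalk 660 = true := by
  rw [enumOK, pointWalk_length, pointWalk_closed, decide_eq_true (modDistinct_spec _ _ _ pointWalk_nodup).1]
  rfl

set_option maxRecDepth 100000 in
theorem pointWalk_mul : ∀ x ∈ pointWalk, ∀ s ∈ m11PointGens,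
    sl11 (mul11 x.2 s.2) = sl11 x.2 * sl11 s.2 ∨ sl11 (mul11 x.2 s.2) = -(sl11 x.2 * sl11 s.2) := by
  decide +kernel

set_option maxRecDepth 100000 in
theorem pointWalk_inj : ∀ x ∈ pointWalk, sl11 x.2 = 1 ∨ sl11 x.2 = -1 → x.1 = pone := by decide +kernel

theorem center_SL11 {m : SL11} : m ∈ Subgroup.center SL11 ↔ m = 1 ∨ m = -1 := by
  rw [Matrix.SpecialLinearGroup.mem_center_iff]
  constructor
  · rintro ⟨r, hr, e⟩
    have : r = 1 ∨ r = -1 :=
      (show ∀ r : ZMod 11, r ^ 2 = 1 → r = 1 ∨ r = -1 by decide) r (by simpa using hr)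
    rcases this with rfl | rfl
    · left; ext i j; rw [← e]; simp
    · right; apply Subtype.ext; rw [Matrix.SpecialLinearGroup.coe_neg, Matrix.SpecialLinearGroup.coe_one, ← e, map_neg, map_one]
  · rintro (rfl | rfl)
    · exact ⟨1, by simp, by simp⟩
    · exact ⟨-1, by simp, by rw [map_neg, map_one, Matrix.SpecialLinearGroup.coe_neg, Matrix.SpecialLinearGroup.coe_one]⟩

theorem point_iso {d : Finset GolayPt} (hd : d ∈ dodecads) {p q : GolayPt} (hp : p ∈ d) (hq : q ∉ d) :
    Nonempty (↥(stabilizer ↥M24 d ⊓ stabilizer ↥M24 p ⊓ stabilizer ↥M24 q) ≃*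
      Matrix.ProjectiveSpecialLinearGroup (Fin 2) (ZMod 11)) := by
  haveI : Fact (Nat.Prime 11) := ⟨by norm_num⟩
  let dec : Code11 → Matrix.ProjectiveSpecialLinearGroup (Fin 2) (ZMod 11) :=
    fun x => QuotientGroup.mk (sl11 x)
  have hneg : ∀ m : SL11, (QuotientGroup.mk (-m) : Matrix.ProjectiveSpecialLinearGroup (Fin 2) (ZMod 11)) =
      QuotientGroup.mk m := fun m => by
    rw [QuotientGroup.eq, center_SL11]
    right
    apply mul_left_cancel (a := -m)
    rw [mul_inv_cancel_left, mul_neg, mul_one, neg_neg]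
  obtain ⟨φ, hφ⟩ := exists_hom dec pointGens_in card_stdPoint pointWalk_ok
    (by show QuotientGroup.mk (sl11 (1, 0, 0, 1)) = 1
        rw [show sl11 (1, 0, 0, 1) = 1 by decide +kernel]; rfl)
    (fun x hx s hs => by
      show QuotientGroup.mk (sl11 (mul11 x.2 s.2)) = _
      rcases pointWalk_mul x hx s hs with e | e
      · rw [e]; rfl
      · rw [e, hneg]; rfl)
  have hbij := bijective_of_enum pointGens_in card_stdPoint pointWalk_ok φ hφ
    (fun x hx e => pointWalk_inj x hx (center_SL11.1 ((QuotientGroup.eq_one_iff _).1 e))) (by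
      have h1 := CfsgLib.Classical.card_SL_eq_gcd_mul_card_PSL (F := ZMod 11) (ι := Fin 2)
      have h2 := CfsgLib.Classical.card_SL (F := ZMod 11) 2 (by norm_num)
      rw [ZMod.card, Fintype.card_fin] at h1
      rw [show Nat.gcd 2 (11 - 1) = 2 from rfl] at h1
      rw [h1, ZMod.card, Fin.prod_univ_two] at h2
      norm_num at h2
      rw [Nat.card_eq_fintype_card]
      omega)
  obtain ⟨q', hq'⟩ : ∃ q', q' ∉ d ∧ q ≠ q' := by
    obtain ⟨w, hw⟩ := Finset.card_pos.1 (show 0 < (dᶜ.erase q).card by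
      have := Finset.pred_card_le_card_erase (a := q) (s := dᶜ)
      rw [card_outside hd] at this
      omega)
    simp only [Finset.mem_erase, Finset.mem_compl] at hw
    exact ⟨w, hw.2, hw.1.symm⟩
  obtain ⟨t, rfl, rfl, rfl, -⟩ := m11_frame hd hp hq hq'.1 hq'.2
  exact ⟨(stabEquiv3 t (setOfMask stdD) (some 0 : GolayPt) (none : GolayPt)).symm.trans
    (MulEquiv.ofBijective φ hbij)⟩

/-! ### centralisers of involutions -/

theorem inv_gens : stabGens [m11Inv] stdD [0] = true ∧ stabGens m11Conj stdD [0] = true ∧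
    stabGens (m11CentGens.map Prod.fst) stdD [0] = true := by decide +kernel

noncomputable def swapsOK : Bool :=
  pairWalk.all fun x => !(Nat.beq (pget x.1 23) 5 && Nat.beq (pmul x.1 x.1) pone) ||
    (m11Conj.any fun c => Nat.beq (pmul c m11Inv) (pmul x.1 c))

noncomputable def movedOK : Bool :=
  forallLt 24 fun z => Nat.beq (bitAt stdD z) 1 || Nat.beq (pget m11Inv z) z ||
    m11MovedPairs.any (Nat.beq (Nat.lor (Nat.shiftLeft 1 z) (Nat.shiftLeft 1 (pget m11Inv z))))

set_option maxRecDepth 100000 in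
theorem swaps_ok : swapsOK = true := by decide +kernel
theorem moved_ok : movedOK = true := by decide +kernel

theorem exists_inv : ∃ x0 : ↥M24, x0 ∈ std11 ∧ packG x0 = m11Inv ∧ x0 • (none : GolayPt) = some 5 ∧
    x0 • (some 5 : GolayPt) = none := by
  obtain ⟨g, h1, h2⟩ := std11_gens inv_gens.1 m11Inv (List.mem_singleton_self _)
  have e0 : pmul pone m11Inv = m11Inv := by decide +kernel
  refine ⟨g, h1, ?_, ix_injective ?_, ix_injective ?_⟩
  · rw [pmul_packImage Rep.one h2, one_mul] at e0; exact e0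
  · exact (h2 none).symm.trans (by decide +kernel)
  · exact (h2 (some 5)).symm.trans (by decide +kernel)

theorem exists_conj_inv {x0 : ↥M24} (hx0 : packG x0 = m11Inv) {y : ↥M24} (hy : y ∈ std11)
    (h2 : y * y = 1) (h1 : y ≠ 1) : ∃ c ∈ std11, c * x0 * c⁻¹ = y := by
  obtain ⟨hyD, hy0⟩ := Subgroup.mem_inf.1 hy
  obtain ⟨a, ha, hya⟩ : ∃ a, a ∉ setOfMask stdD ∧ y • a ≠ a := by
    by_contra hne
    push Not at hne
    refine h1 (stab_dodecad_faithful (compl_mem_dodecads stdD_mem) ?_ fun x hx => hne x (Finset.mem_compl.1 hx))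
    rw [mem_stabilizer_iff, smul_compl', mem_stabilizer_iff.1 hyD]
  have hyya : y • y • a = a := by rw [← mul_smul, h2, one_smul]
  have hb : y • a ∉ setOfMask stdD := fun h => ha ((smul_mem_of_stab hyD).1 h)
  obtain ⟨g, hg, e1, e2⟩ := exists_map_compl_two stdD_mem zero_in (a := (none : GolayPt))
    (b := some 5) (by simp) (Ne.symm hya) none_out five_out ha hb
  have e1' : g⁻¹ • a = none := by rw [inv_smul_eq_iff, e1]
  have e2' : g⁻¹ • y • a = some 5 := by rw [inv_smul_eq_iff, e2]
  let w := g⁻¹ * y * g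
  have hw1 : w • (none : GolayPt) = some 5 := by simp only [w, mul_smul, e1, e2']
  have hw2 : w • (some 5 : GolayPt) = none := by simp only [w, mul_smul, e2, hyya, e1']
  have hwH : w ∈ std11 ⊓ stabilizer ↥M24 (setOfMask stdPair) := Subgroup.mem_inf.2
    ⟨mul_mem (mul_mem (inv_mem hg) hy) hg, by
      rw [mem_stabilizer_iff, pair_mask, smul_pair, hw1, hw2, Finset.pair_comm]⟩
  obtain ⟨x, hx, ex⟩ := exists_entry pairGens_in card_stdPair pairWalk_ok w hwH
  have h := swaps_ok
  simp only [swapsOK, List.all_eq_true, Bool.or_eq_true, Bool.not_eq_true', List.any_eq_true,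
    Nat.beq_eq] at h
  obtain ⟨c, hc, ec⟩ := (h x hx).resolve_left (by
    rw [ex]
    simp only [Bool.not_eq_false, Bool.and_eq_true, Nat.beq_eq]
    refine ⟨(rep_packImage _ none).trans (congrArg ix hw1), ?_⟩
    rw [pmul_packImage (rep_packImage _) (rep_packImage _)]
    show packImage ((w * w : ↥M24) : Equiv.Perm GolayPt) = pone
    rw [show w * w = 1 from ?_]
    · exact packImage_one
    · calc g⁻¹ * y * g * (g⁻¹ * y * g) = g⁻¹ * (y * y) * g := by group
        _ = 1 := by rw [h2]; group)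
  obtain ⟨γ, hγ, hr⟩ := std11_gens inv_gens.2.1 c hc
  rw [ex, ← hx0, pmul_packImage hr (rep_packImage _), pmul_packImage (rep_packImage _) hr] at ec
  have e : γ * x0 = w * γ := Subtype.ext (packImage_injective ec)
  refine ⟨g * γ, mul_mem hg hγ, ?_⟩
  calc g * γ * x0 * (g * γ)⁻¹ = g * (γ * x0) * γ⁻¹ * g⁻¹ := by group
    _ = y := by rw [e]; simp only [w]; group

abbrev stdCent (x0 : ↥M24) : Subgroup ↥M24 := std11 ⊓ Subgroup.centralizer ({x0} : Set ↥M24)

theorem centGens_in {x0 : ↥M24} (hx0 : packG x0 = m11Inv) :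
    GensIn (stdCent x0) (m11CentGens.map Prod.fst) := fun p hp => by
  obtain ⟨g, h1, h2⟩ := std11_gens inv_gens.2.2 p hp
  have hc : ∀ p ∈ m11CentGens.map Prod.fst, pmul p m11Inv = pmul m11Inv p := by decide +kernel
  refine ⟨g, Subgroup.mem_inf.2 ⟨h1, Subgroup.mem_centralizer_singleton_iff.2 ?_⟩, h2⟩
  have := hc p hp
  rw [← hx0, pmul_packImage h2 (rep_packImage _), pmul_packImage (rep_packImage _) h2] at this
  exact Subtype.ext (packImage_injective this)

set_option maxRecDepth 100000 in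
theorem moved_orbit : ∀ v ∈ m11MovedPairs, v < 2 ^ 24 ∧
    v ∈ walk (stepMask (m11CentGens.map Prod.fst)) m11CentPairOps stdPair := by decide +kernel

theorem moved_nodup : m11MovedPairs.Nodup ∧ m11MovedPairs.length = 4 := by decide +kernel

/-- Counting inside a listed group. -/
theorem ncard_enum_filter {H : Subgroup ↥M24} {β : Type} [DecidableEq β] {mulC : β → β → β} {one : β}
    {gens : List (ℕ × β)} {ops : List ℕ} {n : ℕ} (hg : GensIn H (gens.map Prod.fst))
    (hcard : Nat.card ↥H = n)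
    (hok : enumOK mulC gens (walk (stepPair mulC gens) ops (pone, one)) n = true)
    (P : ↥M24 → Prop) (f : ℕ → Bool) (hPf : ∀ g ∈ H, P g ↔ f (packG g) = true) :
    {g : ↥M24 | g ∈ H ∧ P g}.ncard =
      ((walk (stepPair mulC gens) ops (pone, one)).filter fun x => f x.1).length := by
  have hent := exists_entry hg hcard hok
  have hwalk := walk_pair (mulC := mulC) (one := one) hg ops
  simp only [enumOK, Bool.and_eq_true, decide_eq_true_eq] at hok
  generalize walk (stepPair mulC gens) ops (pone, one) = L at hok hent hwalk ⊢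
  have hnd : ((L.filter fun x => f x.1).map Prod.fst).Nodup :=
    hok.1.2.sublist (List.filter_sublist.map _)
  rw [← List.length_map (f := Prod.fst) (as := L.filter fun x => f x.1),
    ← List.toFinset_card_of_nodup hnd, ← Set.ncard_coe_finset,
    ← Set.ncard_image_of_injective _ (fun a b e => Subtype.ext (packImage_injective e) :
      Function.Injective packG)]
  congr 1
  ext v
  simp only [Set.mem_image, Set.mem_ofPred_eq, List.coe_toFinset, List.mem_map, List.mem_filter]
  constructor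
  · rintro ⟨g, ⟨hgH, hP⟩, rfl⟩
    obtain ⟨x, hx, e⟩ := hent g hgH
    exact ⟨x, ⟨hx, by rw [e]; exact (hPf g hgH).1 hP⟩, e⟩
  · rintro ⟨x, ⟨hx, hf⟩, rfl⟩
    obtain ⟨g, hgH, e⟩ := hwalk x hx
    exact ⟨g, ⟨hgH, (hPf g hgH).2 (by rw [e]; exact hf)⟩, e⟩

noncomputable def commInv (p : ℕ) : Bool := Nat.beq (pmul p m11Inv) (pmul m11Inv p)

theorem commInv_iff {x0 : ↥M24} (hx0 : packG x0 = m11Inv) (g : ↥M24) :
    g ∈ Subgroup.centralizer ({x0} : Set ↥M24) ↔ commInv (packG g) = true := by
  rw [Subgroup.mem_centralizer_singleton_iff, commInv, Nat.beq_eq, ← hx0,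
    pmul_packImage (rep_packImage _) (rep_packImage _), pmul_packImage (rep_packImage _) (rep_packImage _)]
  exact ⟨fun h => congrArg packImage (congrArg Subtype.val h), fun h => Subtype.ext (packImage_injective h)⟩

set_option maxRecDepth 100000 in
theorem cent_count : ((walk (stepPair mulList m11PairGens) m11PairOps (pone, [0, 1, 2, 3, 4])).filter
    fun x => commInv x.1).length = 12 := by decide +kernel

theorem card_cent_pair {x0 : ↥M24} (hx0 : packG x0 = m11Inv) :
    Nat.card ↥(stdCent x0 ⊓ stabilizer ↥M24 (setOfMask stdPair)) = 12 := by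
  have hok : enumOK mulList m11PairGens
      (walk (stepPair mulList m11PairGens) m11PairOps (pone, [0, 1, 2, 3, 4])) 120 = true := pairWalk_ok
  have h := ncard_enum_filter pairGens_in card_stdPair hok
    (fun g => g ∈ Subgroup.centralizer ({x0} : Set ↥M24)) commInv (fun g _ => commInv_iff hx0 g)
  rw [cent_count] at h
  refine Eq.trans ?_ h
  refine (Nat.card_coe_set_eq
    ((stdCent x0 ⊓ stabilizer ↥M24 (setOfMask stdPair) : Subgroup ↥M24) : Set ↥M24)).trans
    (congrArg Set.ncard (Set.ext fun g => ?_))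
  simp only [SetLike.mem_coe, Subgroup.mem_inf, Set.mem_ofPred_eq]
  exact ⟨fun h => ⟨⟨h.1.1, h.2⟩, h.1.2⟩, fun h => ⟨⟨h.1.1, h.2⟩, h.1.2⟩⟩

theorem card_stdCent {x0 : ↥M24} (hx0 : packG x0 = m11Inv) (hx0H : x0 ∈ std11)
    (h05 : x0 • (none : GolayPt) = some 5) : Nat.card ↥(stdCent x0) = 48 := by
  have := card_eq_orbit_mul (stdCent x0) (setOfMask stdPair)
    (↑(m11MovedPairs.toFinset.image setOfMask) : Set (Finset GolayPt))
    (fun g hg => by
      obtain ⟨hgH, hgc⟩ := Subgroup.mem_inf.1 hg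
      have hcomm := Subgroup.mem_centralizer_singleton_iff.1 hgc
      have e5 : g • (some 5 : GolayPt) = x0 • g • (none : GolayPt) := by
        rw [← h05, ← mul_smul, ← mul_smul, hcomm]
      have hout : g • (none : GolayPt) ∉ setOfMask stdD := fun h =>
        none_out ((smul_mem_of_stab (Subgroup.mem_inf.1 hgH).1).1 h)
      have hne : x0 • g • (none : GolayPt) ≠ g • (none : GolayPt) := fun e => by
        rw [← e5] at e; simpa using MulAction.injective g e
      have h := moved_ok
      rw [movedOK] at h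
      have h' := forallLt_elim h (ix_lt (g • (none : GolayPt)))
      rw [← hx0] at h'
      simp only [Bool.or_eq_true, Nat.beq_eq, List.any_eq_true, rep_packImage _ _] at h'
      rcases h' with (h' | h') | ⟨v, hv, e⟩
      · exact absurd ((mem_iff_bitAt _ _).2 (by rwa [maskOf_setOfMask (by decide)])) hout
      · exact absurd (ix_injective h') hne
      · refine Finset.mem_coe.2 (Finset.mem_image.2 ⟨v, List.mem_toFinset.2 hv, ?_⟩)
        rw [← e, pair_mask, smul_pair, e5, ← setOfMask_maskOf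
          ({g • none, x0 • g • none} : Finset GolayPt), Finset.insert_eq, maskOf_union,
          maskOf_singleton, maskOf_singleton]
        rfl)
    fun y hy => by
      obtain ⟨v, hv, rfl⟩ := Finset.mem_image.1 (Finset.mem_coe.1 hy)
      obtain ⟨g, hg, e⟩ := walk_mask (centGens_in hx0) m11CentPairOps stdPair v
        (moved_orbit v (List.mem_toFinset.1 hv)).2
      exact ⟨g, hg, e⟩
  rw [Set.ncard_coe_finset, Finset.card_image_of_injOn, List.toFinset_card_of_nodup moved_nodup.1,
    moved_nodup.2] at this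
  swap
  · intro a ha b hb e
    rw [Finset.mem_coe, List.mem_toFinset] at ha hb
    exact setOfMask_inj (moved_orbit a ha).1 (moved_orbit b hb).1 e
  rw [card_cent_pair hx0] at this
  omega

abbrev Code3 : Type := ℕ × ℕ × ℕ × ℕ

noncomputable def mul3 (x y : Code3) : Code3 :=
  ((x.1 * y.1 + x.2.1 * y.2.2.1) % 3, (x.1 * y.2.1 + x.2.1 * y.2.2.2) % 3,
    (x.2.2.1 * y.1 + x.2.2.2 * y.2.2.1) % 3, (x.2.2.1 * y.2.1 + x.2.2.2 * y.2.2.2) % 3)

theorem gl3_inv : ∀ a b c e : ZMod 3, a * e - b * c ≠ 0 →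
    !![a, b; c, e] * ((a * e - b * c) • !![e, -b; -c, a]) = 1 ∧
      ((a * e - b * c) • !![e, -b; -c, a]) * !![a, b; c, e] = 1 := by decide +kernel

def dec3 (x : Code3) : GL (Fin 2) (ZMod 3) :=
  if h : ((x.1 : ZMod 3) * x.2.2.2 - x.2.1 * x.2.2.1) ≠ 0 then
    ⟨_, _, (gl3_inv _ _ _ _ h).1, (gl3_inv _ _ _ _ h).2⟩
  else 1

noncomputable def centWalk : List (ℕ × Code3) :=
  walk (stepPair mul3 m11CentGens) m11CentOps (pone, ((1, 0, 0, 1) : Code3))

set_option maxRecDepth 100000 in
theorem centWalk_ok : enumOK mul3 m11CentGens centWalk 48 = true := by decide +kernel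

set_option maxRecDepth 100000 in
theorem centWalk_mul : ∀ x ∈ centWalk, ∀ s ∈ m11CentGens,
    dec3 (mul3 x.2 s.2) = dec3 x.2 * dec3 s.2 := by decide +kernel

set_option maxRecDepth 100000 in
theorem centWalk_inj : ∀ x ∈ centWalk, dec3 x.2 = 1 → x.1 = pone := by decide +kernel

theorem involution_centralizer_iso {d : Finset GolayPt} (hd : d ∈ dodecads) {p : GolayPt} (hp : p ∈ d)
    (x : ↥(stabilizer ↥M24 d ⊓ stabilizer ↥M24 p)) (hx : orderOf x = 2) :
    Nonempty (↥(Subgroup.centralizer ({x} : Set ↥(stabilizer ↥M24 d ⊓ stabilizer ↥M24 p))) ≃*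
      GL (Fin 2) (ZMod 3)) := by
  obtain ⟨x0, h0H, h0, h05, -⟩ := exists_inv
  have h48 := card_stdCent h0 h0H h05
  obtain ⟨φ, hφ⟩ := exists_hom (β := Code3) dec3 (centGens_in h0) h48 centWalk_ok (by decide +kernel) centWalk_mul
  have hbij := bijective_of_enum (centGens_in h0) h48 centWalk_ok φ hφ centWalk_inj (by
    rw [Matrix.card_GL_field]; simp [Fin.prod_univ_two])
  obtain ⟨t, e1, e2⟩ := dodecad_frame hd hp
  have hmem : t⁻¹ * x.1 * t ∈ std11 := by
    have h := x.2
    simp only [Subgroup.mem_inf, mem_stabilizer_iff, mul_smul, inv_smul_eq_iff, e1, e2] at h ⊢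
    exact h
  have h2 : x.1 * x.1 = 1 := by
    have := pow_orderOf_eq_one x
    rw [hx, pow_two] at this
    exact congrArg Subtype.val this
  obtain ⟨c, hc, ec⟩ := exists_conj_inv h0 hmem
    (by calc t⁻¹ * x.1 * t * (t⁻¹ * x.1 * t) = t⁻¹ * (x.1 * x.1) * t := by group
          _ = 1 := by rw [h2]; group)
    (fun e => by
      have : x = 1 := Subtype.ext (by
        calc x.1 = t * (t⁻¹ * x.1 * t) * t⁻¹ := by group
          _ = 1 := by rw [e]; group)
      rw [this, orderOf_one] at hx
      omega)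
  -- conjugation by `t * c` carries `x0` to `x`
  let s := t * c
  have hsx : s * x0 * s⁻¹ = x.1 := by
    calc t * c * x0 * (t * c)⁻¹ = t * (c * x0 * c⁻¹) * t⁻¹ := by group
      _ = x.1 := by rw [ec]; group
  have hiff : ∀ g, g ∈ std11 ↔ s * g * s⁻¹ ∈ stabilizer ↥M24 d ⊓ stabilizer ↥M24 p := by
    intro g
    have hs1 : s • setOfMask stdD = d := by
      rw [mul_smul, mem_stabilizer_iff.1 (Subgroup.mem_inf.1 hc).1, e1]
    have hs2 : s • (some 0 : GolayPt) = p := by
      rw [mul_smul, mem_stabilizer_iff.1 (Subgroup.mem_inf.1 hc).2, e2]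
    rw [← hs1, ← hs2]
    simp only [Subgroup.mem_inf, stab_conj]
  let e : ↥(stdCent x0) ≃*
      ↥(Subgroup.centralizer ({x} : Set ↥(stabilizer ↥M24 d ⊓ stabilizer ↥M24 p))) :=
    { toFun := fun g => ⟨⟨s * g.1 * s⁻¹, (hiff _).1 g.2.1⟩,
        Subgroup.mem_centralizer_singleton_iff.2 (Subtype.ext (by
          show s * g.1 * s⁻¹ * x.1 = x.1 * (s * g.1 * s⁻¹)
          rw [← hsx]
          calc s * g.1 * s⁻¹ * (s * x0 * s⁻¹) = s * (g.1 * x0) * s⁻¹ := by group
            _ = s * (x0 * g.1) * s⁻¹ := by rw [Subgroup.mem_centralizer_singleton_iff.1 g.2.2]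
            _ = _ := by group))⟩
      invFun := fun g => ⟨s⁻¹ * g.1.1 * s, Subgroup.mem_inf.2
        ⟨(hiff _).2 (by
            rw [show s * (s⁻¹ * g.1.1 * s) * s⁻¹ = g.1.1 by group]
            exact g.1.2),
         Subgroup.mem_centralizer_singleton_iff.2 (by
          have h : g.1.1 * x.1 = x.1 * g.1.1 :=
            congrArg Subtype.val (Subgroup.mem_centralizer_singleton_iff.1 g.2)
          rw [← hsx] at h
          calc s⁻¹ * g.1.1 * s * x0 = s⁻¹ * (g.1.1 * (s * x0 * s⁻¹)) * s := by group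
            _ = s⁻¹ * (s * x0 * s⁻¹ * g.1.1) * s := by rw [h]
            _ = _ := by group)⟩⟩
      left_inv := fun g => Subtype.ext (by show s⁻¹ * (s * g.1 * s⁻¹) * s = g.1; group)
      right_inv := fun g => Subtype.ext (Subtype.ext (by show s * (s⁻¹ * g.1.1 * s) * s⁻¹ = g.1.1; group))
      map_mul' := fun a b => Subtype.ext (Subtype.ext (by
        show s * (a.1 * b.1) * s⁻¹ = s * a.1 * s⁻¹ * (s * b.1 * s⁻¹); group)) }
  exact ⟨e.symm.trans (MulEquiv.ofBijective φ hbij)⟩

end CfsgLib.Sporadic
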