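import Mathlib

/-!
# `28 × 28` matrices over `F₂` as numbers

Bit `28a + b` is the entry in row `a`, column `b`; a product takes twenty-eight carry-free
multiplications.
-/

set_option autoImplicit false

namespace CfsgLib.Sporadic.RuMod

noncomputable def colMask : ℕ := 379032738790109751984600990043876906876236904017615069170385537797439146908721113694092486407930634867004300601674179044789968857769211134787291085885427642704288676428761690254896417312506038667911568966027242921612249810337793

/-- The product. -/
noncomputable def mm (A B : ℕ) : ℕ :=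
  Nat.rec 0 (fun k acc => Nat.xor acc (Nat.mul (Nat.land (Nat.shiftRight A k) colMask)
    (Nat.land (Nat.shiftRight B (Nat.mul 28 k)) 268435455))) 28

noncomputable def one : ℕ := 50872912943267814907988324468550451855464618548137281785011950474227679893986696114649032073875737281066883718329642473153775566684172462771350087899150639340200284097138210625579542079333834954767815137022001033162709953494767730950145

noncomputable def mpow (M n : ℕ) : ℕ := Nat.rec one (fun _ acc => mm M acc) n

/-- The sum with the lowest bit of each twenty-eight. -/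
def digits (f : ℕ → Bool) : ℕ → ℕ
  | 0 => 0
  | n + 1 => (f 0).toNat + 268435456 * digits (fun i => f (i + 1)) n

theorem testBit_digits_mul (r : ℕ) (hr : r < 268435456) : ∀ (n : ℕ) (f : ℕ → Bool) (i j : ℕ), j < 28 →
    (digits f n * r).testBit (28 * i + j) = (decide (i < n) && f i && r.testBit j)
  | 0, f, i, j, _ => by simp [digits]
  | n + 1, f, i, j, hj => by
    have e : digits f (n + 1) * r = 2 ^ 28 * (digits (fun i => f (i + 1)) n * r) + (f 0).toNat * r := by
      rw [digits]; ring
    have hb : (f 0).toNat * r < 2 ^ 28 := by cases f 0 <;> simp; omega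
    rw [e, Nat.testBit_two_pow_mul_add _ hb]
    rcases Nat.eq_zero_or_pos i with rfl | hi
    · rw [if_pos (by omega)]
      cases f 0 <;> simp
    · rw [if_neg (by omega), show 28 * i + j - 28 = 28 * (i - 1) + j by omega,
        testBit_digits_mul r hr n _ _ _ hj]
      rw [show i - 1 + 1 = i by omega]
      simp only [show (i < n + 1) = (i - 1 < n) from propext (by omega)]

theorem testBit_digits (n : ℕ) (f : ℕ → Bool) (m : ℕ) :
    (digits f n).testBit m = (decide (m / 28 < n) && f (m / 28) && decide (m % 28 = 0)) := by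
  have h := testBit_digits_mul 1 (by norm_num) n f (m / 28) (m % 28) (Nat.mod_lt _ (by norm_num))
  rw [mul_one, Nat.div_add_mod] at h
  rw [h]
  congr 1
  rcases Nat.eq_zero_or_pos (m % 28) with e | e
  · simp [e]
  · rw [Nat.testBit_lt_two_pow (Nat.one_lt_two_pow (by omega)), eq_comm, decide_eq_false_iff_not]
    omega

theorem col_mask : colMask = digits (fun _ => true) 28 := by decide +kernel

theorem col_eq (A : ℕ) : Nat.land A colMask = digits (fun i => A.testBit (28 * i)) 28 := by
  refine Nat.eq_of_testBit_eq fun m => ?_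
  show (A &&& colMask).testBit m = _
  rw [Nat.testBit_and, col_mask, testBit_digits, testBit_digits]
  by_cases h : m % 28 = 0
  · have : 28 * (m / 28) = m := by omega
    simp [h, this, Bool.and_comm]
  · simp [h]

theorem testBit_term (A B k i j : ℕ) (hi : i < 28) (hj : j < 28) :
    (Nat.mul (Nat.land (Nat.shiftRight A k) colMask)
      (Nat.land (Nat.shiftRight B (Nat.mul 28 k)) 268435455)).testBit (28 * i + j)
      = (A.testBit (28 * i + k) && B.testBit (28 * k + j)) := by
  rw [col_eq]
  show (digits _ 28 * ((B >>> (28 * k)) &&& 268435455)).testBit _ = _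
  rw [testBit_digits_mul _ (lt_of_le_of_lt Nat.and_le_right (by norm_num)) _ _ _ _ hj]
  show (decide (i < 28) && (A >>> k).testBit (28 * i) && ((B >>> (28 * k)) &&& 268435455).testBit j) = _
  rw [Nat.testBit_shiftRight, Nat.testBit_and, Nat.testBit_shiftRight,
    show (268435455 : ℕ) = 2 ^ 28 - 1 by norm_num, Nat.testBit_two_pow_sub_one]
  simp [hi, hj, Nat.add_comm]

theorem term_lt (A B k : ℕ) : Nat.mul (Nat.land (Nat.shiftRight A k) colMask)
    (Nat.land (Nat.shiftRight B (Nat.mul 28 k)) 268435455) < 2 ^ 784 := by
  show ((A >>> k) &&& colMask) * ((B >>> (28 * k)) &&& 268435455) < _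
  refine lt_of_le_of_lt (Nat.mul_le_mul Nat.and_le_right Nat.and_le_right) ?_
  decide +kernel

theorem mm_lt (A B : ℕ) : mm A B < 2 ^ 784 := by
  unfold mm
  suffices ∀ n, (Nat.rec 0 (fun k acc => Nat.xor acc (Nat.mul (Nat.land (Nat.shiftRight A k) colMask)
      (Nat.land (Nat.shiftRight B (Nat.mul 28 k)) 268435455))) n : ℕ) < 2 ^ 784 from this 28
  intro n
  induction n with
  | zero => exact Nat.two_pow_pos _
  | succ n ih => exact Nat.xor_lt_two_pow ih (term_lt _ _ _)

abbrev Mat : Type := Matrix (Fin 28) (Fin 28) (ZMod 2)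

/-- A bit in `F₂`. -/
def bz (b : Bool) : ZMod 2 := if b then 1 else 0

theorem bz_xor (a b : Bool) : bz (a ^^ b) = bz a + bz b := by revert a b; decide

theorem bz_and (a b : Bool) : bz (a && b) = bz a * bz b := by revert a b; decide

theorem bz_inj : ∀ {a b : Bool}, bz a = bz b → a = b := by decide

/-- The matrix of a code. -/
noncomputable def dec (M : ℕ) : Mat := Matrix.of fun a b => bz (M.testBit (28 * a.val + b.val))

theorem dec_mm (M N : ℕ) : dec (mm M N) = dec M * dec N := by
  funext a b
  rw [Matrix.mul_apply]
  show bz ((mm M N).testBit (28 * a.val + b.val)) = _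
  unfold mm
  suffices ∀ n ≤ 28, bz ((Nat.rec 0 (fun k acc => Nat.xor acc
      (Nat.mul (Nat.land (Nat.shiftRight M k) colMask)
        (Nat.land (Nat.shiftRight N (Nat.mul 28 k)) 268435455))) n : ℕ).testBit (28 * a.val + b.val)) =
      ∑ k ∈ Finset.range n, bz (M.testBit (28 * a.val + k)) * bz (N.testBit (28 * k + b.val)) by
    rw [this 28 le_rfl, Finset.sum_range]; rfl
  intro n hn
  induction n with
  | zero => simp [bz]
  | succ n ih =>
    rw [Finset.sum_range_succ, ← ih (by omega), ← bz_and, ← testBit_term M N n a b a.isLt b.isLt, ← bz_xor]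
    congr 1
    exact Nat.testBit_xor _ _ _

theorem dec_one : dec one = 1 := by
  funext a b
  have h : ∀ a b : Fin 28, one.testBit (28 * a.val + b.val) = decide (a = b) := by decide +kernel
  show bz (one.testBit _) = _
  rw [h a b]
  by_cases e : a = b
  · rw [Matrix.one_apply, if_pos e]; simp [bz, e]
  · rw [Matrix.one_apply, if_neg e]; simp [bz, e]

theorem dec_mpow (M : ℕ) : ∀ n, dec (mpow M n) = dec M ^ n
  | 0 => by rw [pow_zero]; exact dec_one
  | n + 1 => by
    rw [pow_succ', ← dec_mpow M n]
    exact dec_mm _ _

theorem dec_xor (M N : ℕ) : dec (Nat.xor M N) = dec M + dec N := by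
  funext a b
  show bz ((M ^^^ N).testBit _) = _
  rw [Nat.testBit_xor, bz_xor]
  rfl

theorem dec_inj {M N : ℕ} (hM : M < 2 ^ 784) (hN : N < 2 ^ 784) (h : dec M = dec N) : M = N := by
  refine Nat.eq_of_testBit_eq fun m => ?_
  by_cases hm : m < 784
  · have h1 := congrFun (congrFun h ⟨m / 28, by omega⟩) ⟨m % 28, by omega⟩
    have h2 := bz_inj h1
    rwa [Nat.div_add_mod] at h2
  · rw [Nat.testBit_lt_two_pow (hM.trans_le (Nat.pow_le_pow_right (by norm_num) (by omega))),
      Nat.testBit_lt_two_pow (hN.trans_le (Nat.pow_le_pow_right (by norm_num) (by omega)))]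

theorem one_lt : one < 2 ^ 784 := by
  decide +kernel

end CfsgLib.Sporadic.RuMod
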