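import Cfsg.Agent.Lib.Sporadic.ConwaySmallSimple

/-!
# A fixed point free involution on the hundred points
-/

set_option autoImplicit false

namespace CfsgLib.Sporadic.Conway

open Cfsg Finset CfsgLib.ThreeTrans.Leech CfsgLib.Sporadic.Lattice MulAction

attribute [local irreducible] OTree.entries hsHundredTree

/-- The word of the involution. -/
noncomputable def invWord : List (ℕ × ℕ) :=
  hsHundredGens.getD 2 [] ++ hsHundredGens.getD 2 [] ++ hsHundredGens.getD 2 []

/-- The involution moves a point and moves the image back. -/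
noncomputable def movesBack (a : ℕ) : Bool :=
  match evalWord invWord a with
  | some b => decide (pv b ≠ pv a) && decide (evalWord invWord b = some a)
  | none => false

theorem invWord_spec : (invWord.all stepValid = true) ∧ evalWord invWord kFive = some kFive ∧
    evalWord invWord kHs = some kHs ∧ (hsHundredTree.entries.all fun e => movesBack e.1) = true := by
  decide +kernel

/-- The elements fixing all hundred points. -/
def pointKernel : Subgroup ↥Co0 where
  carrier := {a | a ∈ fixGroup [fiveElt, hsElt] ∧ ∀ x ∈ DS [(fiveElt, (24 : ℤ)), (hsElt, -24)], a • x = x}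
  one_mem' := ⟨one_mem _, fun x _ => one_smul _ x⟩
  mul_mem' := fun {a b} ha hb => ⟨mul_mem ha.1 hb.1, fun x hx => by rw [mul_smul, hb.2 x hx, ha.2 x hx]⟩
  inv_mem' := fun {a} ha => ⟨inv_mem ha.1, fun x hx => by rw [inv_smul_eq_iff]; exact (ha.2 x hx).symm⟩

theorem pointKernel_normIn : NormIn pointKernel [fiveElt, hsElt] :=
  ⟨fun _ h => h.1, fun g hg n hn => ⟨mul_mem (mul_mem hg hn.1) (inv_mem hg), fun x hx => by
    rw [mul_smul, mul_smul, hn.2 _ (smul_mem_DS (fun p hp => mem_fixGroup.1 (inv_mem hg) p.1 (by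
      simp at hp ⊢; rcases hp with rfl | rfl <;> simp)) hx), smul_inv_smul]⟩⟩

theorem free_involution : ∃ g : ↥Co0, g • fiveElt = fiveElt ∧ g • hsElt = hsElt ∧ orderOf g = 2 ∧
    ∀ x ∈ DS [(fiveElt, (24 : ℤ)), (hsElt, -24)], g • x ≠ x := by
  obtain ⟨hv, h5, hh, hall⟩ := invWord_spec
  obtain ⟨g, hg⟩ := packElt invWord hv
  have g5 : g • fiveElt = fiveElt := Subtype.ext (hg _ _ h5 fiveElt rfl)
  have gh : g • hsElt = hsElt := Subtype.ext (hg _ _ hh hsElt rfl)
  have hpts : ∀ x ∈ DS [(fiveElt, (24 : ℤ)), (hsElt, -24)], g • x ≠ x ∧ g • g • x = x := by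
    intro x hx
    obtain ⟨e, he, ev⟩ := hundred_set.2.2 x hx
    have h := List.all_eq_true.1 hall e he
    rw [movesBack] at h
    cases hb : evalWord invWord e.1 with
    | none => rw [hb] at h; simp at h
    | some b =>
      rw [hb] at h
      simp only [Bool.and_eq_true, decide_eq_true_eq] at h
      have h1 := hg _ _ hb x ev
      refine ⟨fun e' => h.1 ?_, Subtype.ext ((hg _ _ h.2 _ h1).trans ev.symm)⟩
      rw [← h1, e', ev]
  refine ⟨g, g5, gh, orderOf_eq_prime ?_ (fun e => (hpts hsPt hsPt_mem).1 (by rw [e, one_smul])),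
    fun x hx => (hpts x hx).1⟩
  have hgf : g ∈ fixGroup [fiveElt, hsElt] := mem_fixGroup.2 fun v hv => by
    simp at hv
    rcases hv with rfl | rfl
    · exact g5
    · exact gh
  have hmem : g ^ 2 ∈ pointKernel :=
    ⟨pow_mem hgf 2, fun x hx => by rw [pow_two, mul_smul]; exact (hpts x hx).2⟩
  rcases hs_normIn pointKernel_normIn with e | e
  · rw [e, Subgroup.mem_bot] at hmem; exact hmem
  · rw [← e] at hgf
    exact absurd (hgf.2 hsPt hsPt_mem) (hpts hsPt hsPt_mem).1

theorem free_involution_general (v w : ↥leechLattice) (hv : sqNorm (v : Vec) = 48) (hw : sqNorm (w : Vec) = 48)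
    (hvw : dotInt (v : Vec) (w : Vec) = -32) : ∃ g : ↥Co0, g • v = v ∧ g • w = w ∧ orderOf g = 2 ∧
      ∀ x ∈ DS [(v, (24 : ℤ)), (w, -24)], g • x ≠ x := by
  obtain ⟨c, hc1, hc2⟩ := to_hs hv hw hvw
  obtain ⟨g, g5, gh, hord, hfree⟩ := free_involution
  refine ⟨c⁻¹ * g * c, by rw [mul_smul, mul_smul, hc1, g5, inv_smul_eq_iff, hc1],
    by rw [mul_smul, mul_smul, hc2, gh, inv_smul_eq_iff, hc2], ?_, fun x hx e => ?_⟩
  · rw [← hord, ← (MulAut.conj c⁻¹).orderOf_eq g]
    simp [MulAut.conj_apply]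
  · refine hfree (c • x) ?_ ?_
    · have := (smul_mem_map (g := c)).2 hx
      simpa [hc1, hc2] using this
    · rwa [mul_smul, mul_smul, inv_smul_eq_iff] at e

end CfsgLib.Sporadic.Conway
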