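import Cfsg.Agent.Lib.Sporadic.Steiner22Aut
import Mathlib.Combinatorics.SimpleGraph.StronglyRegular

/-!
# The strongly regular graph on 100 points

Around any vertex the graph is the point-block graph of an `S(3,6,22)`: the far vertices give sixty
nonadjacent partners to each, and the mean and the square mean of their common neighbours leave no
variance.
-/

set_option autoImplicit false

namespace CfsgLib.Sporadic.HsGraph

open Cfsg Finset CfsgLib.Sporadic.Design CfsgLib.Sporadic.Hexad22

variable {V : Type*} [Fintype V] [DecidableEq V] (G : SimpleGraph V) [DecidableRel G.Adj]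

/-- The neighbours. -/
def nb (v : V) : Finset V := univ.filter (G.Adj v)

variable {G}

omit [DecidableEq V] in
theorem mem_nb {v w : V} : w ∈ nb G v ↔ G.Adj v w := by simp [nb]

variable (hG : G.IsSRGWith 100 22 0 6)

include hG

theorem nb_card (v : V) : (nb G v).card = 22 := by
  rw [← hG.regular v, ← SimpleGraph.card_neighborFinset_eq_degree]
  congr 1
  ext w; simp [mem_nb]

theorem common_adj {v w : V} (h : G.Adj v w) : nb G v ∩ nb G w = ∅ := by
  have := hG.of_adj v w h
  rw [Fintype.card_eq_zero_iff] at this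
  refine Finset.eq_empty_of_forall_notMem fun z hz => ?_
  rw [Finset.mem_inter, mem_nb, mem_nb] at hz
  exact this.elim ⟨z, hz⟩

theorem common_nonadj {v w : V} (hne : v ≠ w) (h : ¬ G.Adj v w) : (nb G v ∩ nb G w).card = 6 := by
  have hc : Fintype.card (G.commonNeighbors v w) = 6 := hG.of_not_adj hne h
  rw [← hc, ← Set.toFinset_card]
  congr 1
  ext z
  simp only [Finset.mem_inter, mem_nb, Set.mem_toFinset]
  rfl

/-- The trace of a vertex among the neighbours of the base. -/
def trace (x w : V) : Finset {y // G.Adj x y} := (nb G w).subtype _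

omit hG [DecidableEq V] in
theorem mem_trace {x w : V} {y : {y // G.Adj x y}} : y ∈ trace (G := G) x w ↔ G.Adj w y := by
  simp [trace, mem_nb]

omit hG in
theorem card_trace_inter (x u w : V) :
    (trace (G := G) x u ∩ trace x w).card = (nb G x ∩ nb G u ∩ nb G w).card := by
  rw [← Finset.card_map (Function.Embedding.subtype _)]
  congr 1
  ext z
  simp [trace, mem_nb, and_assoc, and_left_comm, and_comm]

/-- The far vertices. -/
def far (x : V) : Finset V := univ.filter fun w => w ≠ x ∧ ¬ G.Adj x w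

omit hG in
theorem mem_far {x w : V} : w ∈ far (G := G) x ↔ w ≠ x ∧ ¬ G.Adj x w := by simp [far]

theorem trace_card {x w : V} (hw : w ∈ far (G := G) x) : (trace (G := G) x w).card = 6 := by
  have h := card_trace_inter (G := G) x w w
  rw [Finset.inter_self, Finset.inter_assoc, Finset.inter_self,
    common_nonadj hG (mem_far.1 hw).1.symm (mem_far.1 hw).2] at h
  exact h

theorem card_far (x : V) : (far (G := G) x).card = 77 := by
  have e : far (G := G) x = (univ \ nb G x).erase x := by
    ext w; simp [mem_far, mem_nb, and_comm]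
  rw [e, Finset.card_erase_of_mem (by simp [mem_nb]), Finset.card_sdiff_of_subset (Finset.subset_univ _),
    Finset.card_univ, hG.card, nb_card hG]

theorem trace_values {x u w : V} (hu : u ∈ far (G := G) x) (hw : w ∈ far (G := G) x) (hne : u ≠ w) :
    (G.Adj u w ∧ (trace (G := G) x u ∩ trace x w).card = 0) ∨
      (¬ G.Adj u w ∧ (trace (G := G) x u ∩ trace x w).card = 2) := by
  by_cases hadj : G.Adj u w
  · refine Or.inl ⟨hadj, ?_⟩
    rw [card_trace_inter, Finset.inter_assoc, common_adj hG hadj, Finset.inter_empty, Finset.card_empty]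
  refine Or.inr ⟨hadj, ?_⟩
  obtain ⟨hux, hxu⟩ := mem_far.1 hu
  set T := nb G x ∩ nb G u with hT
  have hT6 : T.card = 6 := common_nonadj hG hux.symm hxu
  let U := (far (G := G) x).filter fun v => v ≠ u ∧ ¬ G.Adj u v
  have hU : U.card = 60 := by
    have e : U = ((far (G := G) x) \ nb G u).erase u := by
      ext v; simp [U, mem_nb, and_assoc, and_left_comm, and_comm]
    have e2 : (far (G := G) x) ∩ nb G u = nb G u \ T := by
      ext v
      simp only [hT, Finset.mem_inter, Finset.mem_sdiff, mem_far, mem_nb]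
      exact ⟨fun h => ⟨h.2, fun h' => h.1.2 h'.1⟩,
        fun h => ⟨⟨fun e => hxu (e ▸ h.1).symm, fun h' => h.2 ⟨h', h.1⟩⟩, h.1⟩⟩
    have h16 : ((far (G := G) x) ∩ nb G u).card = 16 := by
      rw [e2, Finset.card_sdiff_of_subset Finset.inter_subset_right, nb_card hG, hT6]
    have := Finset.card_sdiff_add_card_inter (far (G := G) x) (nb G u)
    rw [card_far hG, h16] at this
    rw [e, Finset.card_erase_of_mem (Finset.mem_sdiff.2 ⟨hu, by simp [mem_nb]⟩)]
    omega
  have hone : ∀ y ∈ T, (U.filter fun v => G.Adj y v).card = 20 := by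
    intro y hy
    rw [hT, Finset.mem_inter, mem_nb, mem_nb] at hy
    have e : (U.filter fun v => G.Adj y v) = ((nb G y).erase x).erase u := by
      ext v
      simp only [U, Finset.mem_filter, mem_far, Finset.mem_erase, mem_nb]
      refine ⟨fun h => ⟨h.1.2.1, h.1.1.1, h.2⟩, fun ⟨h1, h2, h3⟩ => ⟨⟨⟨h2, fun hxv => ?_⟩, h1, fun huv => ?_⟩, h3⟩⟩
      · exact Finset.eq_empty_iff_forall_notMem.1 (common_adj hG hy.1) v
          (Finset.mem_inter.2 ⟨mem_nb.2 hxv, mem_nb.2 h3⟩)
      · exact Finset.eq_empty_iff_forall_notMem.1 (common_adj hG hy.2) v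
          (Finset.mem_inter.2 ⟨mem_nb.2 huv, mem_nb.2 h3⟩)
    rw [e, Finset.card_erase_of_mem (Finset.mem_erase.2 ⟨hux, mem_nb.2 hy.2.symm⟩),
      Finset.card_erase_of_mem (mem_nb.2 hy.1.symm), nb_card hG]
  have htwo : ∀ y ∈ T, ∀ z ∈ T, y ≠ z → (U.filter fun v => G.Adj y v ∧ G.Adj z v).card = 4 := by
    intro y hy z hz hyz
    rw [hT, Finset.mem_inter, mem_nb, mem_nb] at hy hz
    have hnadj : ¬ G.Adj y z := fun h => Finset.eq_empty_iff_forall_notMem.1 (common_adj hG h) x
      (Finset.mem_inter.2 ⟨mem_nb.2 hy.1.symm, mem_nb.2 hz.1.symm⟩)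
    have e : (U.filter fun v => G.Adj y v ∧ G.Adj z v) = ((nb G y ∩ nb G z).erase x).erase u := by
      ext v
      simp only [U, Finset.mem_filter, mem_far, Finset.mem_erase, Finset.mem_inter, mem_nb]
      refine ⟨fun h => ⟨h.1.2.1, h.1.1.1, h.2⟩, fun ⟨h1, h2, h3⟩ => ⟨⟨⟨h2, fun hxv => ?_⟩, h1, fun huv => ?_⟩, h3⟩⟩
      · exact Finset.eq_empty_iff_forall_notMem.1 (common_adj hG hy.1) v
          (Finset.mem_inter.2 ⟨mem_nb.2 hxv, mem_nb.2 h3.1⟩)
      · exact Finset.eq_empty_iff_forall_notMem.1 (common_adj hG hy.2) v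
          (Finset.mem_inter.2 ⟨mem_nb.2 huv, mem_nb.2 h3.1⟩)
    rw [e, Finset.card_erase_of_mem (Finset.mem_erase.2 ⟨hux, Finset.mem_inter.2
        ⟨mem_nb.2 hy.2.symm, mem_nb.2 hz.2.symm⟩⟩),
      Finset.card_erase_of_mem (Finset.mem_inter.2 ⟨mem_nb.2 hy.1.symm, mem_nb.2 hz.1.symm⟩),
      common_nonadj hG hyz hnadj]
  let d : V → ℕ := fun v => (T.filter fun y => G.Adj y v).card
  have hd1 : ∑ v ∈ U, d v = 120 := by
    simp only [d, Finset.card_filter]
    rw [Finset.sum_comm, Finset.sum_congr rfl (g := fun _ => 20) fun y hy => by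
      rw [← Finset.card_filter]; exact hone y hy, Finset.sum_const, hT6]
    rfl
  have hd2 : ∑ v ∈ U, d v * d v = 240 := by
    have e : ∀ v, d v * d v = ∑ y ∈ T, ∑ z ∈ T, if G.Adj y v ∧ G.Adj z v then 1 else 0 := fun v => by
      simp only [d, Finset.card_filter, Finset.sum_mul_sum]
      exact Finset.sum_congr rfl fun y _ => Finset.sum_congr rfl fun z _ => by
        by_cases a : G.Adj y v <;> by_cases b : G.Adj z v <;> simp [a, b]
    rw [Finset.sum_congr rfl fun v _ => e v, Finset.sum_comm,
      Finset.sum_congr rfl (g := fun _ => 40) fun y hy => ?_, Finset.sum_const, hT6]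
    · rfl
    have h4 : ∀ z ∈ T.erase y, (∑ v ∈ U, if G.Adj y v ∧ G.Adj z v then 1 else 0) = 4 := fun z hz => by
      rw [← Finset.card_filter]
      exact htwo y hy z (Finset.mem_of_mem_erase hz) (Finset.ne_of_mem_erase hz).symm
    have h20 : (∑ v ∈ U, if G.Adj y v ∧ G.Adj y v then 1 else 0) = 20 := by
      simp only [and_self]
      rw [← Finset.card_filter]
      exact hone y hy
    rw [Finset.sum_comm, ← Finset.add_sum_erase _ _ hy, h20, Finset.sum_congr rfl h4, Finset.sum_const,
      Finset.card_erase_of_mem hy, hT6]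
    rfl
  have hzero : ∑ v ∈ U, ((d v : ℤ) - 2) ^ 2 = 0 := by
    have e : ∀ v, ((d v : ℤ) - 2) ^ 2 = ((d v * d v : ℕ) : ℤ) - 4 * (d v : ℤ) + 4 := fun v => by push_cast; ring
    rw [Finset.sum_congr rfl fun v _ => e v, Finset.sum_add_distrib, Finset.sum_sub_distrib, ← Nat.cast_sum,
      ← Finset.mul_sum, ← Nat.cast_sum, hd1, hd2, Finset.sum_const, hU]
    norm_num
  have hwU : w ∈ U := Finset.mem_filter.2 ⟨hw, hne.symm, hadj⟩
  have hw2 := (Finset.sum_eq_zero_iff_of_nonneg fun v _ => sq_nonneg _).1 hzero w hwU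
  rw [sq_eq_zero_iff, sub_eq_zero] at hw2
  rw [card_trace_inter]
  have e : nb G x ∩ nb G u ∩ nb G w = T.filter fun y => G.Adj y w := by
    ext y; simp only [hT, Finset.mem_inter, Finset.mem_filter, mem_nb, G.adj_comm w y]
  rw [e]
  exact_mod_cast hw2

/-- The blocks seen from a vertex. -/
def blocksAt (x : V) : Set (Finset {y // G.Adj x y}) := trace x '' ↑(far (G := G) x)

theorem trace_injOn (x : V) : Set.InjOn (trace (G := G) x) ↑(far (G := G) x) := fun u hu w hw e => by
  by_contra hne
  have h6 := trace_card hG (x := x) hw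
  rcases trace_values hG hu hw hne with ⟨-, h⟩ | ⟨-, h⟩ <;> rw [e, Finset.inter_self] at h <;> omega

theorem card_points (x : V) : Fintype.card {y // G.Adj x y} = 22 := by
  rw [Fintype.card_subtype]; exact nb_card hG x

theorem steiner_at (x : V) : IsSteinerSystem 3 6 (blocksAt (G := G) x) := by
  refine ⟨?_, fun s hs => ?_⟩
  · rintro _ ⟨w, hw, rfl⟩; exact trace_card hG hw
  let F : V → Finset (Finset {y // G.Adj x y}) := fun w => (trace x w).powersetCard 3
  have hdisj : (↑(far (G := G) x) : Set V).PairwiseDisjoint F := fun u hu w hw hne => by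
    refine Finset.disjoint_left.2 fun t ht ht' => ?_
    rw [Finset.mem_powersetCard] at ht ht'
    have h3 := Finset.card_le_card (Finset.subset_inter ht.1 ht'.1)
    rcases trace_values hG hu hw hne with ⟨-, h⟩ | ⟨-, h⟩ <;> omega
  have hall : (far (G := G) x).biUnion F = (univ : Finset {y // G.Adj x y}).powersetCard 3 := by
    refine Finset.eq_of_subset_of_card_le (fun t ht => ?_) ?_
    · obtain ⟨w, -, ht⟩ := Finset.mem_biUnion.1 ht
      exact Finset.mem_powersetCard.2 ⟨Finset.subset_univ _, (Finset.mem_powersetCard.1 ht).2⟩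
    · rw [Finset.card_biUnion hdisj, Finset.sum_congr rfl (g := fun _ => 20) fun w hw => by
        rw [Finset.card_powersetCard, trace_card hG hw]; rfl,
        Finset.sum_const, card_far hG, Finset.card_powersetCard, Finset.card_univ, card_points hG]
      decide
  have hmem : s ∈ (far (G := G) x).biUnion F :=
    hall ▸ Finset.mem_powersetCard.2 ⟨Finset.subset_univ _, hs⟩
  obtain ⟨w, hw, hsw⟩ := Finset.mem_biUnion.1 hmem
  rw [Finset.mem_powersetCard] at hsw
  refine ⟨trace x w, ⟨⟨w, hw, rfl⟩, hsw.1⟩, ?_⟩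
  rintro b ⟨⟨u, hu, rfl⟩, hsu⟩
  by_contra hne
  exact Finset.disjoint_left.1 (hdisj hu hw fun e => hne (by rw [e])) (Finset.mem_powersetCard.2 ⟨hsu, hs⟩)
    (Finset.mem_powersetCard.2 hsw)

/-- The graph is the point-block graph seen from any vertex. -/
theorem iso_at (x : V) : ∃ φ : pointBlockGraph (blocksAt (G := G) x) ≃g G, φ none = x := by
  classical
  have hex : ∀ b : ↥(blocksAt (G := G) x), ∃ w ∈ far (G := G) x, trace x w = b.1 := fun b => by
    obtain ⟨w, hw, e⟩ := b.2; exact ⟨w, hw, e⟩
  choose r hr hre using hex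
  let f : Option ({y // G.Adj x y} ⊕ ↥(blocksAt (G := G) x)) → V := fun o =>
    match o with
    | none => x
    | some (Sum.inl y) => y.1
    | some (Sum.inr b) => r b
  have hrx : ∀ b, r b ≠ x := fun b => (mem_far.1 (hr b)).1
  have hrn : ∀ b, ¬ G.Adj x (r b) := fun b => (mem_far.1 (hr b)).2
  have hinj : Function.Injective f := by
    rintro (_ | y | b) (_ | z | c) h <;> simp only [f] at h
    · rfl
    · exact absurd h z.2.ne
    · exact absurd h.symm (hrx c)
    · exact absurd h.symm y.2.ne
    · rw [Subtype.ext h]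
    · exact absurd (h ▸ y.2) (hrn c)
    · exact absurd h (hrx b)
    · exact absurd (h.symm ▸ z.2) (hrn b)
    · rw [show b = c from Subtype.ext (by rw [← hre b, ← hre c, h])]
  haveI : Fintype ↥(blocksAt (G := G) x) := Fintype.ofFinite _
  have hcard : Fintype.card ↥(blocksAt (G := G) x) = 77 := by
    rw [Fintype.card_eq_nat_card, Nat.card_coe_set_eq, blocksAt, (trace_injOn hG x).ncard_image,
      Set.ncard_coe_finset, card_far hG]
  let e := Equiv.ofBijective f ((Fintype.bijective_iff_injective_and_card f).2 ⟨hinj, by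
    rw [Fintype.card_option, Fintype.card_sum, card_points hG, hcard, hG.card]⟩)
  have app : ∀ y z : {y // G.Adj x y}, ¬ G.Adj y.1 z.1 := fun y z h =>
    Finset.eq_empty_iff_forall_notMem.1 (common_adj hG h) x
      (Finset.mem_inter.2 ⟨mem_nb.2 y.2.symm, mem_nb.2 z.2.symm⟩)
  have apb : ∀ (y : {y // G.Adj x y}) b, G.Adj y.1 (r b) ↔ y ∈ (b.1 : Finset _) := fun y b => by
    rw [← hre b, mem_trace, G.adj_comm]
  have abb : ∀ b c, b ≠ c → (G.Adj (r b) (r c) ↔ Disjoint b.1 c.1) := fun b c hbc => by
    have hne : r b ≠ r c := fun h => hbc (Subtype.ext (by rw [← hre b, ← hre c, h]))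
    rw [← hre b, ← hre c, Finset.disjoint_iff_inter_eq_empty, ← Finset.card_eq_zero]
    rcases trace_values hG (hr b) (hr c) hne with ⟨h, h'⟩ | ⟨h, h'⟩ <;> simp [h, h']
  refine ⟨⟨e, ?_⟩, rfl⟩
  intro o o'
  show G.Adj (f o) (f o') ↔ _
  rcases o with _ | y | b <;> rcases o' with _ | z | c <;>
    simp only [pointBlockGraph, SimpleGraph.fromRel_adj, pointBlockRel, f, ne_eq, reduceCtorEq, not_false_eq_true,
      Option.some.injEq, Sum.inl.injEq, Sum.inr.injEq, true_and, false_or, or_false, or_true, and_false, not_true,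
      false_and, iff_false, iff_true]
  · exact fun h => h.ne rfl
  · exact z.2
  · exact hrn c
  · exact y.2.symm
  · simp [app]
  · exact apb y c
  · exact fun h => hrn b h.symm
  · rw [G.adj_comm]; exact apb z b
  · by_cases hbc : b = c
    · subst hbc; simp
    · rw [abb b c hbc]
      simp only [hbc, not_false_iff, true_and]
      exact ⟨Or.inl, fun h => h.elim id fun h' => h'.symm⟩

omit hG in
/-- An isomorphism of systems gives one of the graphs. -/
theorem graph_of_systems {α β : Type*} [DecidableEq β] {B : Set (Finset α)} {B' : Set (Finset β)}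
    (e : α ≃ β) (h : (fun b => b.image e) '' B = B') :
    ∃ φ : pointBlockGraph B ≃g pointBlockGraph B', φ none = none ∧
      ∀ a, φ (some (Sum.inl a)) = some (Sum.inl (e a)) := by
  have hinj : Function.Injective fun b : Finset α => b.image e := Finset.image_injective e.injective
  let eb : ↥B ≃ ↥B' := (Equiv.Set.image _ B hinj).trans (Equiv.setCongr h)
  have heb : ∀ b : ↥B, (eb b).1 = b.1.image e := fun b => rfl
  have hd : ∀ b c : Finset α, Disjoint (b.image e) (c.image e) ↔ Disjoint b c := fun b c =>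
    Finset.disjoint_image e.injective
  refine ⟨⟨(Equiv.sumCongr e eb).optionCongr, ?_⟩, rfl, fun a => rfl⟩
  intro o o'
  rcases o with _ | y | b <;> rcases o' with _ | z | c <;>
    simp [pointBlockGraph, SimpleGraph.fromRel_adj, pointBlockRel, heb, hd,
      Finset.mem_image, e.injective.eq_iff, eb.injective.eq_iff]

theorem iso_pointBlock {α : Type*} [Fintype α] [DecidableEq α] (hα : Fintype.card α = 22) {B : Set (Finset α)}
    (hB : IsSteinerSystem 3 6 B) (x : V) : ∃ φ : pointBlockGraph B ≃g G, φ none = x := by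
  obtain ⟨e, he⟩ := steiner22 hα (card_points hG x) hB (steiner_at hG x)
  obtain ⟨ψ, h0, -⟩ := graph_of_systems e he
  obtain ⟨φ, hφ⟩ := iso_at hG x
  exact ⟨ψ.trans φ, by show φ (ψ none) = x; rw [h0, hφ]⟩

theorem srg100_unique {W : Type*} [Fintype W] [DecidableEq W] {H : SimpleGraph W} [DecidableRel H.Adj]
    (hH : H.IsSRGWith 100 22 0 6) : Nonempty (G ≃g H) := by
  classical
  obtain ⟨x⟩ : Nonempty V := Fintype.card_pos_iff.1 (by rw [hG.card]; norm_num)
  obtain ⟨y⟩ : Nonempty W := Fintype.card_pos_iff.1 (by rw [hH.card]; norm_num)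
  obtain ⟨φ, -⟩ := iso_pointBlock hG (card_points hG x) (steiner_at hG x) x
  obtain ⟨ψ, -⟩ := iso_pointBlock hH (card_points hG x) (steiner_at hG x) y
  exact ⟨φ.symm.trans ψ⟩

end CfsgLib.Sporadic.HsGraph
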