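import Cfsg.Agent.Lib.Sporadic.HsGraph
import Cfsg.Agent.Lib.Sporadic.ConwayHsInvolution
import Cfsg.Agent.S0428

/-!
# Automorphisms of the graph on 100 points
-/

set_option autoImplicit false

namespace CfsgLib.Sporadic.HsGraph

open Cfsg Finset CfsgLib.Sporadic.Design CfsgLib.Sporadic.Hexad22
open scoped Pointwise

/-! ### the automorphism group -/

section Aut

variable {α : Type*} {B : Set (Finset α)}

theorem adj_none_iff {v : Option (α ⊕ ↥B)} :
    (pointBlockGraph B).Adj none v ↔ ∃ a, v = some (Sum.inl a) := by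
  rcases v with _ | a | b <;> simp [pointBlockGraph, SimpleGraph.fromRel_adj, pointBlockRel]

theorem adj_point_block {a : α} {b : ↥B} :
    (pointBlockGraph B).Adj (some (Sum.inl a)) (some (Sum.inr b)) ↔ a ∈ b.1 := by
  simp [pointBlockGraph, SimpleGraph.fromRel_adj, pointBlockRel]

theorem iso_ext {φ ψ : pointBlockGraph B ≃g pointBlockGraph B} (h0 : φ none = none) (h0' : ψ none = none)
    (hl : ∀ a, φ (some (Sum.inl a)) = ψ (some (Sum.inl a))) : φ = ψ := by
  refine RelIso.ext fun v => ?_
  rcases v with _ | a | b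
  · rw [h0, h0']
  · exact hl a
  · have key : ∀ χ : pointBlockGraph B ≃g pointBlockGraph B, χ none = none →
        ∃ c : ↥B, χ (some (Sum.inr b)) = some (Sum.inr c) := by
      intro χ hχ
      rcases h : χ (some (Sum.inr b)) with _ | a | c
      · exact absurd (χ.injective (h.trans hχ.symm)) (by simp)
      · exfalso
        have h' : (pointBlockGraph B).Adj (χ none) (χ (some (Sum.inr b))) := by
          rw [hχ, h]; exact adj_none_iff.2 ⟨a, rfl⟩
        obtain ⟨x, hx⟩ := adj_none_iff.1 (χ.map_rel_iff.1 h')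
        simp at hx
      · exact ⟨c, rfl⟩
    obtain ⟨c, hc⟩ := key φ h0
    obtain ⟨d, hd⟩ := key ψ h0'
    rw [hc, hd]
    have hmem : ∀ x, x ∈ c.1 ↔ x ∈ d.1 := by
      intro x
      obtain ⟨a, ha⟩ : ∃ a, φ (some (Sum.inl a)) = some (Sum.inl x) := by
        obtain ⟨v, hv⟩ := φ.surjective (some (Sum.inl x))
        have h' : (pointBlockGraph B).Adj (φ none) (φ v) := by rw [h0, hv]; exact adj_none_iff.2 ⟨x, rfl⟩
        obtain ⟨a, rfl⟩ := adj_none_iff.1 (φ.map_rel_iff.1 h')
        exact ⟨a, hv⟩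
      rw [← adj_point_block (b := c), ← adj_point_block (b := d), ← hc, ← hd, ← ha, φ.map_rel_iff,
        hl a, ψ.map_rel_iff]
    rw [show c = d from Subtype.ext (Finset.ext hmem)]

theorem perm_of_fix [Fintype α] [DecidableEq α] (φ : pointBlockGraph B ≃g pointBlockGraph B)
    (h0 : φ none = none) : ∃ σ ∈ setSystemAut B, ∀ a, φ (some (Sum.inl a)) = some (Sum.inl (σ a)) := by
  have hout : ∀ a, ∃ a', φ (some (Sum.inl a)) = some (Sum.inl a') := fun a =>
    adj_none_iff.1 (by rw [← h0]; exact φ.map_rel_iff.2 (adj_none_iff.2 ⟨a, rfl⟩))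
  choose f hf using hout
  have hinj : Function.Injective f := fun a b h => by
    have := φ.injective ((hf a).trans (h ▸ (hf b).symm))
    simpa using this
  refine ⟨Equiv.ofBijective f (Finite.injective_iff_bijective.1 hinj), ?_, hf⟩
  set σ := Equiv.ofBijective f (Finite.injective_iff_bijective.1 hinj) with hσ
  show σ • B = B
  refine Set.eq_of_subset_of_ncard_le ?_
    (by rw [← Set.image_smul, Set.ncard_image_of_injective _ (MulAction.injective σ)]) (Set.toFinite _)
  rintro _ ⟨b, hb, rfl⟩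
  show σ • b ∈ B
  rcases h : φ (some (Sum.inr ⟨b, hb⟩)) with _ | a | c
  · exact absurd (φ.injective (h.trans h0.symm)) (by simp)
  · exfalso
    have h' : (pointBlockGraph B).Adj (φ none) (φ (some (Sum.inr ⟨b, hb⟩))) := by
      rw [h0, h]; exact adj_none_iff.2 ⟨a, rfl⟩
    obtain ⟨x, hx⟩ := adj_none_iff.1 (φ.map_rel_iff.1 h')
    simp at hx
  · suffices σ • b = c.1 from this ▸ c.2
    ext x
    obtain ⟨a, rfl⟩ := σ.surjective x
    rw [show σ a = σ • a from rfl, Finset.smul_mem_smul_finset_iff, ← adj_point_block (b := ⟨b, hb⟩),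
      ← φ.map_rel_iff, h, hf a, adj_point_block]
    rfl

theorem graph_aut_card [Fintype α] [DecidableEq α] (hα : Fintype.card α = 22) (hB : IsSteinerSystem 3 6 B) :
    Nat.card (pointBlockGraph B ≃g pointBlockGraph B) = 88704000 := by
  classical
  haveI : Fintype ↥B := Fintype.ofFinite _
  have hG : (pointBlockGraph B).IsSRGWith 100 22 0 6 := Cfsg.Agent.S0428.result hα hB
  have hmove : ∀ x, ∃ φ : pointBlockGraph B ≃g pointBlockGraph B, φ none = x := fun x => iso_pointBlock hG hα hB x
  choose t ht using hmove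
  let S := {φ : pointBlockGraph B ≃g pointBlockGraph B // φ none = none}
  let e : (pointBlockGraph B ≃g pointBlockGraph B) ≃ Option (α ⊕ ↥B) × S :=
    { toFun := fun φ => (φ none, ⟨φ.trans (t (φ none)).symm, by
        show (t (φ none)).symm (φ none) = none
        conv_lhs => arg 2; rw [← ht (φ none)]
        exact (t (φ none)).symm_apply_apply none⟩)
      invFun := fun p => p.2.1.trans (t p.1)
      left_inv := fun φ => RelIso.ext fun v => (t (φ none)).apply_symm_apply (φ v)
      right_inv := fun p => by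
        have h : (p.2.1.trans (t p.1)) none = p.1 := by
          show t p.1 (p.2.1 none) = p.1
          rw [p.2.2, ht]
        refine Prod.ext h (Subtype.ext (RelIso.ext fun v => ?_))
        show (t ((p.2.1.trans (t p.1)) none)).symm (t p.1 (p.2.1 v)) = p.2.1 v
        rw [h]
        exact (t p.1).symm_apply_apply _ }
  have hex : ∀ σ : ↥(setSystemAut B), ∃ φ : S, ∀ a, φ.1 (some (Sum.inl a)) = some (Sum.inl (σ.1 a)) := fun σ => by
    obtain ⟨φ, h0, hl⟩ := graph_of_systems (B := B) (B' := B) σ.1 (by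
      conv_rhs => rw [← MulAction.mem_stabilizer_iff.1 σ.2]
      exact Set.image_congr fun b _ => rfl)
    exact ⟨⟨φ, h0⟩, hl⟩
  choose F hF using hex
  have hbij : Function.Bijective F := by
    refine ⟨fun σ τ h => Subtype.ext (Equiv.ext fun a => ?_), fun φ => ?_⟩
    · have := (hF σ a).symm.trans ((congrArg (fun φ : S => φ.1 (some (Sum.inl a))) h).trans (hF τ a))
      simpa using this
    · obtain ⟨σ, hσ, hl⟩ := perm_of_fix φ.1 φ.2
      exact ⟨⟨σ, hσ⟩, Subtype.ext (iso_ext (F _).2 φ.2 fun a => (hF _ a).trans (hl a).symm)⟩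
  rw [Nat.card_congr e, Nat.card_prod, ← Nat.card_eq_of_bijective F hbij, (aut22 hα hB).1,
    Nat.card_eq_fintype_card, hG.card]

end Aut

/-! ### the simple subgroup -/

open CfsgLib.Sporadic.Conway CfsgLib.ThreeTrans.Leech

attribute [local irreducible] OTree.entries hsHundredTree

/-- The hundred vectors. -/
def Pts : Type := {x : ↥leechLattice // x ∈ DS [(fiveElt, (24 : ℤ)), (hsElt, -24)]}

theorem dot_self' (x : ↥leechLattice) : dotInt (x : Vec) (x : Vec) = sqNorm (x : Vec) :=
  Finset.sum_congr rfl fun i _ => (sq _).symm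

/-- Joined when the inner product is 8. -/
def ptsGraph : SimpleGraph Pts where
  Adj x y := dotInt (x.1 : Vec) (y.1 : Vec) = 8
  symm := ⟨fun x y (h : dotInt (x.1 : Vec) (y.1 : Vec) = 8) => by
    show dotInt (y.1 : Vec) (x.1 : Vec) = 8
    rw [← h]; exact Finset.sum_congr rfl fun i _ => mul_comm _ _⟩
  loopless := ⟨fun x h => by
    rw [dot_self', x.2.1] at h
    exact absurd h (by norm_num)⟩

theorem pts_fixed {g : ↥Co0} (hg : g ∈ fixGroup [fiveElt, hsElt]) {x : ↥leechLattice}
    (hx : x ∈ DS [(fiveElt, (24 : ℤ)), (hsElt, -24)]) : g • x ∈ DS [(fiveElt, (24 : ℤ)), (hsElt, -24)] :=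
  smul_mem_DS (fun p hp => mem_fixGroup.1 hg p.1 (by simp at hp ⊢; rcases hp with rfl | rfl <;> simp)) hx

theorem pointKernel_bot : pointKernel = ⊥ := by
  rcases hs_normIn pointKernel_normIn with e | e
  · exact e
  exfalso
  obtain ⟨g, g5, gh, -, hfree⟩ := free_involution
  have hg : g ∈ pointKernel := e ▸ mem_fixGroup.2 fun v hv => by
    simp at hv
    rcases hv with rfl | rfl
    · exact g5
    · exact gh
  exact hfree hsPt hsPt_mem (hg.2 hsPt hsPt_mem)

/-- The action on the hundred vectors. -/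
noncomputable def ptsPerm (g : ↥(fixGroup [fiveElt, hsElt])) : ptsGraph ≃g ptsGraph where
  toFun x := ⟨g.1 • x.1, pts_fixed g.2 x.2⟩
  invFun x := ⟨g.1⁻¹ • x.1, pts_fixed (inv_mem g.2) x.2⟩
  left_inv x := Subtype.ext (inv_smul_smul g.1 x.1)
  right_inv x := Subtype.ext (smul_inv_smul g.1 x.1)
  map_rel_iff' {x y} := by
    show dotInt ((g.1 • x.1 : ↥leechLattice) : Vec) ((g.1 • y.1 : ↥leechLattice) : Vec) = 8 ↔ _
    rw [dot_smul']
    rfl

/-- The same, as a homomorphism. -/
noncomputable def ptsHom : ↥(fixGroup [fiveElt, hsElt]) →* (ptsGraph ≃g ptsGraph) :=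
  MonoidHom.mk' ptsPerm fun a b => RelIso.ext fun x => Subtype.ext (mul_smul a.1 b.1 x.1)

theorem ptsHom_injective : Function.Injective ptsHom := by
  refine (injective_iff_map_eq_one ptsHom).2 fun g hg => ?_
  have hk : (g : ↥Co0) ∈ pointKernel := ⟨g.2, fun x hx => congrArg Subtype.val
    (congrArg (fun φ : ptsGraph ≃g ptsGraph => φ ⟨x, hx⟩) hg)⟩
  rw [pointKernel_bot, Subgroup.mem_bot] at hk
  exact Subtype.ext hk

/-- The vertices listed by the certificate. -/
noncomputable def ptVecs : Finset Vec := (hsHundredTree.entries.map fun e => pv e.1).toFinset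

theorem nonnb_root : (DS [(fiveElt, (24 : ℤ)), (hsElt, -24), (hsPt, 8)]).Nonempty ∧
    (DS [(fiveElt, (24 : ℤ)), (hsElt, -24), (hsPt, 16)]).Nonempty := ⟨hs_sub8.2.2, hs_sub16.2.2⟩

theorem common_check : ∀ A ∈ ptVecs, (dotInt (pv 62062060636173731114942761100) A = 8 →
      (ptVecs.filter fun z => dotInt (pv 62062060636173731114942761100) z = 8 ∧ dotInt A z = 8).card = 0) ∧
    (dotInt (pv 62062060636173731114942761100) A = 16 →
      (ptVecs.filter fun z => dotInt (pv 62062060636173731114942761100) z = 8 ∧ dotInt A z = 8).card = 6) := by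
  decide +kernel

theorem pts_srg : ∀ [Fintype Pts] [DecidableRel ptsGraph.Adj], ptsGraph.IsSRGWith 100 22 0 6 := by
  intro _ _
  classical
  have hcard : Fintype.card Pts = 100 := by
    rw [Fintype.card_eq_nat_card, show Nat.card Pts = Nat.card ↥(DS [(fiveElt, (24 : ℤ)), (hsElt, -24)]) from rfl,
      Nat.card_coe_set_eq, hundred_set.1]
  let val : Pts ↪ Vec := ⟨fun x => (x.1 : Vec), fun x y h => Subtype.ext (Subtype.ext h)⟩
  have hmap : (Finset.univ : Finset Pts).map val = ptVecs := by
    refine Finset.eq_of_subset_of_card_le (fun v hv => ?_) ?_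
    · obtain ⟨x, -, rfl⟩ := Finset.mem_map.1 hv
      obtain ⟨e, he, ev⟩ := hundred_set.2.2 x.1 x.2
      exact List.mem_toFinset.2 (List.mem_map.2 ⟨e, he, ev.symm⟩)
    · rw [Finset.card_map, Finset.card_univ, hcard]
      have : ptVecs.card = 100 := by decide +kernel
      omega
  have move : ∀ x : Pts, ∃ g : ↥(fixGroup [fiveElt, hsElt]), (ptsHom g x).1 = hsPt := fun x => by
    obtain ⟨g, hg, hgf⟩ := hundred_set.2.1 x.1 x.2 hsPt hsPt_mem
    exact ⟨⟨g, mem_fixGroup.2 hgf⟩, hg⟩
  have hcommon : ∀ x y : Pts, Fintype.card (ptsGraph.commonNeighbors x y) =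
      (Finset.univ.filter fun z => ptsGraph.Adj x z ∧ ptsGraph.Adj y z).card := fun x y => by
    rw [← Set.toFinset_card]
    congr 1
    ext z
    simp only [Set.mem_toFinset, Finset.mem_filter, Finset.mem_univ, true_and]
    rfl
  have htrans : ∀ (φ : ptsGraph ≃g ptsGraph) (x y : Pts),
      (Finset.univ.filter fun z => ptsGraph.Adj x z ∧ ptsGraph.Adj y z).card =
        (Finset.univ.filter fun z => ptsGraph.Adj (φ x) z ∧ ptsGraph.Adj (φ y) z).card := fun φ x y =>
    Finset.card_equiv φ.toEquiv fun z => by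
      simp only [Finset.mem_filter, Finset.mem_univ, true_and]
      exact (and_congr φ.map_rel_iff φ.map_rel_iff).symm
  have hroot : ∀ y : Pts, (Finset.univ.filter fun z => ptsGraph.Adj ⟨hsPt, hsPt_mem⟩ z ∧ ptsGraph.Adj y z).card =
      (ptVecs.filter fun z => dotInt (pv 62062060636173731114942761100) z = 8 ∧ dotInt (y.1 : Vec) z = 8).card := by
    intro y
    rw [← hmap, Finset.filter_map, Finset.card_map]
    congr 1
    ext z
    simp only [Finset.mem_filter, Function.comp_apply, Finset.mem_univ, true_and]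
    rfl
  refine ⟨hcard, fun x => ?_, fun x y h => ?_, fun x y hne h => ?_⟩
  · obtain ⟨g, hg⟩ := move x
    rw [← SimpleGraph.card_neighborFinset_eq_degree,
      Finset.card_equiv (t := ptsGraph.neighborFinset (ptsHom g x)) (ptsHom g).toEquiv fun z => by
        rw [SimpleGraph.mem_neighborFinset, SimpleGraph.mem_neighborFinset]
        exact (ptsHom g).map_rel_iff.symm,
      ← Finset.card_map val, show 22 = (DS [(fiveElt, (24 : ℤ)), (hsElt, -24), (hsPt, 8)]).ncard from hs_sub8.1.symm,
      ← Set.ncard_coe_finset, ← Set.ncard_image_of_injective (DS [(fiveElt, (24 : ℤ)), (hsElt, -24), (hsPt, 8)])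
        Subtype.val_injective]
    congr 1
    ext v
    simp only [Finset.coe_map, Set.mem_image, Finset.mem_coe, SimpleGraph.mem_neighborFinset]
    constructor
    · rintro ⟨z, hz, rfl⟩
      have hz' : dotInt ((ptsHom g x).1 : Vec) (z.1 : Vec) = 8 := hz
      rw [hg] at hz'
      refine ⟨z.1, ⟨z.2.1, ?_⟩, rfl⟩
      simp only [List.forall_mem_cons]
      exact ⟨z.2.2 _ List.mem_cons_self, z.2.2 (hsElt, -24) (by simp), hz', by simp⟩
    · rintro ⟨z, hz, rfl⟩
      refine ⟨⟨z, hz.1, fun p hp => hz.2 p (by simp at hp ⊢; tauto)⟩, ?_, rfl⟩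
      show dotInt ((ptsHom g x).1 : Vec) (z : Vec) = 8
      rw [hg]
      exact hz.2 (hsPt, 8) (by simp)
  · obtain ⟨g, hg⟩ := move x
    have h' : ptsGraph.Adj (ptsHom g x) (ptsHom g y) := (ptsHom g).map_rel_iff.2 h
    rw [hcommon, htrans (ptsHom g)]
    rw [show ptsHom g x = ⟨hsPt, hsPt_mem⟩ from Subtype.ext hg] at h' ⊢
    refine (Eq.trans (by congr!) (hroot (ptsHom g y))).trans ?_
    exact (common_check _ (hmap ▸ Finset.mem_map_of_mem val (Finset.mem_univ _))).1 h'
  · change Fintype.card (ptsGraph.commonNeighbors x y) = 6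
    obtain ⟨g, hg⟩ := move x
    have h' : ¬ ptsGraph.Adj (ptsHom g x) (ptsHom g y) := fun e => h ((ptsHom g).map_rel_iff.1 e)
    have hx : ptsHom g x = ⟨hsPt, hsPt_mem⟩ := Subtype.ext hg
    have hne' : (ptsHom g y).1 ≠ hsPt := fun e => hne ((ptsHom g).injective (Subtype.ext (hg.trans e.symm)))
    rw [hcommon, htrans (ptsHom g), hx]
    refine (Eq.trans (by congr!) (hroot (ptsHom g y))).trans ?_
    rw [hx] at h'
    refine (common_check _ (hmap ▸ Finset.mem_map_of_mem val (Finset.mem_univ _))).2 ?_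
    rcases ds_values hundred_set.2.2 (r := hsPt) (root := 62062060636173731114942761100) rfl [8, 16]
      (by decide +kernel) (ptsHom g y).2 with e | e
    · exact absurd e hne'
    · simp only [List.mem_cons, List.not_mem_nil, or_false] at e
      exact e.resolve_left h'

theorem exists_simple {α : Type*} [Fintype α] [DecidableEq α] (hα : Fintype.card α = 22) {B : Set (Finset α)}
    (hB : IsSteinerSystem 3 6 B) :
    ∃ H : Subgroup (pointBlockGraph B ≃g pointBlockGraph B), IsHS H := by
  classical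
  haveI : Finite Pts := (DS_finite (ks := [(fiveElt, (24 : ℤ)), (hsElt, -24)]) List.mem_cons_self).to_subtype
  haveI : Fintype Pts := Fintype.ofFinite _
  haveI : Fintype ↥B := Fintype.ofFinite _
  haveI : DecidableEq Pts := Classical.decEq _
  obtain ⟨ψ⟩ := srg100_unique pts_srg (H := pointBlockGraph B) (Cfsg.Agent.S0428.result hα hB)
  let conj : (ptsGraph ≃g ptsGraph) →* (pointBlockGraph B ≃g pointBlockGraph B) :=
    MonoidHom.mk' (fun φ => (ψ.symm.trans φ).trans ψ) fun a b => RelIso.ext fun v => by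
      show ψ (a (b (ψ.symm v))) = ψ (a (ψ.symm (ψ (b (ψ.symm v)))))
      rw [ψ.symm_apply_apply]
  have hinj : Function.Injective (conj.comp ptsHom) := fun a b h => ptsHom_injective (RelIso.ext fun x => by
    have := congrArg (fun φ : pointBlockGraph B ≃g pointBlockGraph B => φ (ψ x)) h
    simpa [conj] using this)
  let E := MonoidHom.ofInjective hinj
  refine ⟨(conj.comp ptsHom).range, isSimple_congr E simple_hs, ?_⟩
  rw [← Nat.card_congr E.toEquiv, card_fix_hs]

end CfsgLib.Sporadic.HsGraph
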