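import Cfsg.Agent.Lib.Sporadic.J3Simple
import Cfsg.Prelude.Def_Sporadic

/-!
# J3 as a permutation group of degree 6156

The listed subgroup of order 8160 has index 6156; the action on its cosets is faithful.
-/

set_option autoImplicit false

namespace CfsgLib.Sporadic.J3

open Cfsg Cfsg.Spor Data Matrix
open scoped MatrixGroups

theorem exists_field_four : ∃ (F : Type) (_ : Field F) (_ : Fintype F) (ω : F),
    Fintype.card F = 4 ∧ ω ^ 2 + ω + 1 = 0 := by
  classical
  let F := GaloisField 2 2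
  letI : Fintype F := Fintype.ofFinite F
  have hF : Fintype.card F = 4 := by
    rw [← Nat.card_eq_fintype_card, GaloisField.card 2 2 (by norm_num)]; norm_num
  obtain ⟨w, hw⟩ : ∃ w : F, w ∉ ({0, 1} : Finset F) := by
    by_contra h
    push Not at h
    have := Finset.card_le_card (fun x (_ : x ∈ (Finset.univ : Finset F)) => h x)
    rw [Finset.card_univ, hF, Finset.card_pair zero_ne_one] at this
    omega
  simp only [Finset.mem_insert, Finset.mem_singleton, not_or] at hw
  have h3 := FiniteField.pow_card_sub_one_eq_one w hw.1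
  rw [hF] at h3
  refine ⟨F, inferInstance, inferInstance, w, hF, ?_⟩
  refine (mul_eq_zero.1 (show (w - 1) * (w ^ 2 + w + 1) = 0 by linear_combination h3)).resolve_left ?_
  exact sub_ne_zero.2 hw.2

variable {F : Type*} [Field F] [CharP F 2] {ω : F} (hω : ω ^ 2 + ω + 1 = 0) [Fintype F]
include hω

/-- The listed elements, in the triple cover. -/
noncomputable def kElts : Submonoid (threeJ3 F ω) where
  carrier := {g | ∃ i < 8160, ((g : GL F9 F) : Matrix F9 F9 F) = dec ω (get2 kel i)}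
  one_mem' := ⟨0, by norm_num, by rw [(base hω).1.1, dec_one]; rfl⟩
  mul_mem' := by
    rintro a b ⟨i, hi, ea⟩ ⟨m, hm, eb⟩
    obtain ⟨q, hq, e⟩ := kel_mul hω hi hm
    exact ⟨q, hq, by rw [Subgroup.coe_mul, Units.val_mul, ea, eb, e]⟩

/-- The listed subgroup. -/
noncomputable def kSub : Subgroup (threeJ3 F ω) where
  toSubmonoid := kElts hω
  inv_mem' {u} hu := by
    have h : u⁻¹ = u ^ (orderOf u - 1) := inv_eq_of_mul_eq_one_right (by
      rw [← pow_succ', Nat.sub_add_cancel (orderOf_pos u), pow_orderOf_eq_one])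
    rw [h]
    exact pow_mem (S := kElts hω) hu _

/-- Its image in J3. -/
noncomputable def kBar : Subgroup (J3 F ω) := (kSub hω).map (QuotientGroup.mk' _)

theorem kBar_card_le : Nat.card (kBar hω) ≤ 8160 := by
  have h1 : Nat.card (kBar hω) ≤ Nat.card (kSub hω) :=
    Nat.le_of_dvd Nat.card_pos (Subgroup.card_map_dvd _ _)
  have h2 : ∀ g : kSub hω, ∃ i : Fin 8160,
      (((g : threeJ3 F ω) : GL F9 F) : Matrix F9 F9 F) = dec ω (get2 kel i) := fun g => by
    obtain ⟨i, hi, e⟩ := g.2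
    exact ⟨⟨i, hi⟩, e⟩
  choose f hf using h2
  refine h1.trans ((Nat.card_le_card_of_injective f fun g h e => ?_).trans_eq (Nat.card_fin _))
  exact Subtype.ext (Subtype.ext (Units.ext (by rw [hf g, hf h, e])))

theorem kBar_index_le : (kBar hω).index ≤ 6156 := by
  have hrel : ∀ j : Fin 6156, ∃ y : threeJ3 F ω,
      ((y : GL F9 F) : Matrix F9 F9 F) = dec ω (get2 rel j) := fun j => by
    obtain ⟨g, hg, eg⟩ := in_rel hω j.isLt
    exact ⟨⟨g, by rw [threeJ3_eq hω]; exact hg⟩, eg⟩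
  choose r hr using hrel
  refine (Nat.card_le_card_of_surjective
    (fun j => (QuotientGroup.mk (QuotientGroup.mk (r j) : J3 F ω) : J3 F ω ⧸ kBar hω)) ?_).trans_eq (Nat.card_fin _)
  intro q
  obtain ⟨q, rfl⟩ := QuotientGroup.mk_surjective q
  obtain ⟨g, rfl⟩ := QuotientGroup.mk_surjective q
  have hgX : (g : GL F9 F) ∈ X hω := by rw [← threeJ3_eq hω]; exact g.2
  obtain ⟨j, c, m, e⟩ := mem_listed hω hgX
  obtain ⟨y, hy, ey⟩ := in_sc hω c.isLt
  obtain ⟨k, hk, ek⟩ := in_kel hω m.isLt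
  have hy' : y ∈ threeJ3 F ω := by rw [threeJ3_eq hω]; exact hy
  have hk' : k ∈ threeJ3 F ω := by rw [threeJ3_eq hω]; exact hk
  have hg : g = r j * (⟨y, hy'⟩ * ⟨k, hk'⟩) := Subtype.ext (Units.ext (by
    simp only [Subgroup.coe_mul, Units.val_mul]; rw [hr, ey, ek, e]))
  refine ⟨j, QuotientGroup.eq.2 ?_⟩
  rw [hg, QuotientGroup.mk_mul, inv_mul_cancel_left, QuotientGroup.mk_mul,
    (QuotientGroup.eq_one_iff (⟨y, hy'⟩ : threeJ3 F ω)).2 ((mem_center_iff hω _).2 ⟨_, by rw [ey, dec_sc c.isLt]⟩),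
    one_mul]
  exact ⟨⟨k, hk'⟩, ⟨m, m.isLt, ek⟩, rfl⟩

theorem kBar_spec (hF : Fintype.card F = 4) : Nat.card (kBar hω) = 8160 ∧ (kBar hω).index = 6156 := by
  have h := (kBar hω).card_mul_index
  rw [card_J3 hω hF] at h
  have h1 := kBar_card_le hω
  have h2 := kBar_index_le hω
  have e : Nat.card (kBar hω) = 8160 := by
    by_contra hne
    have : Nat.card (kBar hω) * (kBar hω).index ≤ 8159 * 6156 := Nat.mul_le_mul (by omega) h2
    omega
  refine ⟨e, ?_⟩
  rw [e] at h
  omega

end CfsgLib.Sporadic.J3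

namespace CfsgLib.Sporadic.J3

open Cfsg

/-- A transitive group isomorphic to a simple group with a subgroup of the given index. -/
theorem exists_transitive {G : Type*} [Group G] [Finite G] [IsSimpleGroup G] (K : Subgroup G) {n : ℕ}
    (hn : K.index = n + 2) : ∃ H : Subgroup (Equiv.Perm (Fin (n + 2))), Nonempty (G ≃* H) ∧
      MulAction.IsPretransitive H (Fin (n + 2)) ∧
      Nat.card (MulAction.stabilizer H (0 : Fin (n + 2))) = Nat.card K := by
  classical
  obtain ⟨e0⟩ : Nonempty (G ⧸ K ≃ Fin (n + 2)) := ⟨Finite.equivFinOfCardEq hn⟩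
  let e := e0.trans (Equiv.swap (e0 ((1 : G) : G ⧸ K)) 0)
  let φ : G →* Equiv.Perm (Fin (n + 2)) :=
    e.permCongrHom.toMonoidHom.comp (MulAction.toPermHom G (G ⧸ K))
  have hφ : ∀ (g : G) (i : Fin (n + 2)), φ g i = e (g • e.symm i) := fun g i => rfl
  have hinj : Function.Injective φ := by
    rw [← MonoidHom.ker_eq_bot_iff]
    rcases φ.normal_ker.eq_bot_or_eq_top with h | h
    · exact h
    · exfalso
      have hK : ∀ g : G, g ∈ K := fun g => by
        have h1 : φ g = 1 := MonoidHom.mem_ker.1 (h ▸ Subgroup.mem_top g)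
        have h2 := congrArg (fun π : Equiv.Perm (Fin (n + 2)) => e.symm (π (e ((1 : G) : G ⧸ K)))) h1
        simp only [hφ, Equiv.symm_apply_apply, Equiv.Perm.one_apply, MulAction.Quotient.smul_coe, smul_eq_mul,
          mul_one] at h2
        have h3 := QuotientGroup.eq.1 h2
        simpa using h3
      have := Subgroup.index_eq_one.2 (eq_top_iff.2 fun g _ => hK g)
      omega
  refine ⟨φ.range, ⟨MonoidHom.ofInjective hinj⟩, ⟨fun i j => ?_⟩, ?_⟩
  · obtain ⟨g, hg⟩ := MulAction.exists_smul_eq G (e.symm i) (e.symm j)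
    exact ⟨⟨φ g, g, rfl⟩, (hφ g i).trans (by rw [hg, Equiv.apply_symm_apply])⟩
  · have he : e ((1 : G) : G ⧸ K) = 0 := by simp [e]
    have hfix : ∀ k : K, φ k 0 = 0 := fun k => by
      rw [hφ, ← he, Equiv.symm_apply_apply]
      congr 1
      rw [MulAction.Quotient.smul_coe, smul_eq_mul, mul_one, QuotientGroup.eq]
      simpa using k.2
    let f : K → MulAction.stabilizer φ.range (0 : Fin (n + 2)) := fun k => ⟨⟨φ k, k, rfl⟩, hfix k⟩
    refine (Nat.card_eq_of_bijective f ⟨fun a b h => ?_, ?_⟩).symm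
    · exact Subtype.ext (hinj (congrArg (fun x : MulAction.stabilizer φ.range (0 : Fin (n + 2)) =>
        ((x : φ.range) : Equiv.Perm (Fin (n + 2)))) h))
    · rintro ⟨⟨_, g, rfl⟩, hg⟩
      have hg' : φ g 0 = 0 := hg
      rw [hφ, ← he, Equiv.symm_apply_apply] at hg'
      have := e.injective hg'
      rw [MulAction.Quotient.smul_coe, smul_eq_mul, mul_one, QuotientGroup.eq] at this
      exact ⟨⟨g, by simpa using this⟩, rfl⟩

theorem perm_realization : ∃ H : Subgroup (Equiv.Perm (Fin 6156)), Cfsg.IsJ3 H ∧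
    MulAction.IsPretransitive H (Fin 6156) ∧ Nat.card (MulAction.stabilizer H (0 : Fin 6156)) = 8160 := by
  obtain ⟨F, _, _, ω, hF, hω⟩ := exists_field_four
  haveI := charTwo hF
  haveI := isSimple_J3 hω hF
  obtain ⟨hc, hi⟩ := kBar_spec hω hF
  obtain ⟨H, ⟨e⟩, ht, hs⟩ := exists_transitive (kBar hω) (n := 6154) hi
  exact ⟨H, ⟨e.symm.isSimpleGroup, by rw [← Nat.card_congr e.toEquiv, card_J3 hω hF]⟩, ht, hs.trans hc⟩

end CfsgLib.Sporadic.J3
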