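import Cfsg.Agent.Lib.Sporadic.J3OutChecks

/-!
# The outer automorphism group of the third Janko group has order 2

An automorphism can be moved to fix an involution and to send an element of order five of its
centraliser to itself or to its square; if it fixes both, a scan of the centralisers of two
commuting involutions shows it to be inner.  Field conjugation followed by a change of basis
realises the other case.
-/

set_option autoImplicit false
set_option maxRecDepth 20000

namespace CfsgLib.Sporadic.J3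

open Cfsg Cfsg.Spor Data MultData OutData Matrix CfsgLib.Sporadic.Mult
open scoped MatrixGroups

theorem mm_lt (M N : ℕ) : mm M N < 2 ^ 162 := by
  have h1 : Nat.xor (m2 (p0 M) (p0 N)) (m2 (p1 M) (p1 N)) < 2 ^ 81 :=
    Nat.xor_lt_two_pow (m2_lt _ _) (m2_lt _ _)
  have h2 : Nat.xor (Nat.xor (m2 (p0 M) (p1 N)) (m2 (p1 M) (p0 N))) (m2 (p1 M) (p1 N)) < 2 ^ 81 :=
    Nat.xor_lt_two_pow (Nat.xor_lt_two_pow (m2_lt _ _) (m2_lt _ _)) (m2_lt _ _)
  unfold mm
  dsimp only
  generalize Nat.xor (m2 (p0 M) (p0 N)) (m2 (p1 M) (p1 N)) = lo at h1 ⊢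
  generalize Nat.xor (Nat.xor (m2 (p0 M) (p1 N)) (m2 (p1 M) (p0 N))) (m2 (p1 M) (p1 N)) = hi at h2 ⊢
  show lo ||| hi <<< 81 < _
  refine Nat.or_lt_two_pow (h1.trans (Nat.pow_lt_pow_right (by norm_num) (by norm_num))) ?_
  rw [Nat.shiftLeft_eq]
  calc hi * 2 ^ 81 < 2 ^ 81 * 2 ^ 81 := by omega
    _ = 2 ^ 162 := by rw [← pow_add]

theorem tprod_lt : ∀ l : List ℕ, tprod l < 2 ^ 162
  | [] => by show one < _; norm_num [one]
  | _ :: _ => mm_lt _ _

theorem chkEq_ok {l r : List ℕ} (h : chkEq l r = true) : l.all tripleOK = true ∧ r.all tripleOK = true := by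
  simp only [chkEq, Bool.and_eq_true] at h
  exact h.1

theorem all_pair {f : ℕ → Bool} {x y : ℕ} (hx : f x = true) (hy : f y = true) :
    [x, y].all f = true := by
  rw [List.all_cons, List.all_cons, List.all_nil, hx, hy]; rfl

theorem two_rels_check : ∀ W ∈ twoRels, chkEq (W.map twoGenAt) [] = true := by decide +kernel

theorem all_subW {gs : List (List ℕ)} (h : ∀ l ∈ gs, l.all tripleOK = true) (w : List ℕ) (n : ℕ) :
    (repW n (subW gs w)).all tripleOK = true := by
  rw [List.all_eq_true]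
  intro x hx
  rw [repW, List.mem_flatten] at hx
  obtain ⟨m, hm, hx⟩ := hx
  obtain rfl := List.eq_of_mem_replicate hm
  rw [subW, List.mem_flatten] at hx
  obtain ⟨m', hm', hx⟩ := hx
  obtain ⟨i, -, rfl⟩ := List.mem_map.1 hm'
  by_cases hi : i < gs.length
  · rw [List.getD_eq_getElem _ _ hi] at hx
    exact List.all_eq_true.1 (h _ (List.getElem_mem hi)) x hx
  · rw [List.getD_eq_default _ _ (by omega)] at hx
    simp at hx

variable {F : Type*} [Field F] [Fintype F] [CharP F 2] {ω : F} (hω : ω ^ 2 + ω + 1 = 0)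
include hω

theorem rep_unique' {g h : J3 F ω} {M N : ℕ} (hg : Rep g M) (hh : Rep h N)
    (e : dec ω M = dec ω N) : g = h := by
  obtain ⟨u, eu, hu⟩ := hg
  exact rep_unique hω (⟨u, eu, hu.trans e⟩ : Rep g N) hh

theorem code_eq (hF : Fintype.card F = 4) {g : J3 F ω} {M N : ℕ} (hM : Rep g M) (hN : Rep g N)
    (bM : M < 2 ^ 162) (bN : N < 2 ^ 162) : N = M ∨ N = mm (sc 1) M ∨ N = mm (sc 2) M := by
  obtain ⟨c, hc, e⟩ := code_of_eq hω hF hM hN
  interval_cases c
  · left
    refine dec_inj hω bN bM ?_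
    rw [e, dec_mm hω, show sc 0 = one from rfl, dec_one, one_mul]
  · exact .inr (.inl (dec_inj hω bN (mm_lt _ _) e))
  · exact .inr (.inr (dec_inj hω bN (mm_lt _ _) e))

theorem chkEq_of_eq (hF : Fintype.card F = 4) {l r : List ℕ} (hl : l.all tripleOK = true)
    (hr : r.all tripleOK = true) (h : (l.map (el hω)).prod = (r.map (el hω)).prod) :
    chkEq l r = true := by
  simp only [chkEq, eqv, Bool.and_eq_true, Bool.or_eq_true, Nat.beq_eq]
  refine ⟨⟨hl, hr⟩, ?_⟩
  rcases code_eq hω hF (rep_prod hω hl) (h ▸ rep_prod hω hr) (tprod_lt _) (tprod_lt _) with e | e | e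
  · exact .inl (.inl e.symm)
  · exact .inl (.inr e.symm)
  · exact .inr e.symm

theorem chkEq_false (hF : Fintype.card F = 4) {l r : List ℕ} (hl : l.all tripleOK = true)
    (hr : r.all tripleOK = true) (h : chkEq l r = false) :
    (l.map (el hω)).prod ≠ (r.map (el hω)).prod := fun e => by
  rw [chkEq_of_eq hω hF hl hr e] at h
  exact Bool.noConfusion h

theorem key_eq (hF : Fintype.card F = 4) {g : J3 F ω} {M N : ℕ} (hM : Rep g M) (hN : Rep g N) :
    key M = key N := by
  obtain ⟨c, hc, e⟩ := code_of_eq hω hF hM hN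
  have h : ∀ d : Fin 3, mm (sc d) N = mm (sc ((d.val + c) % 3)) M := fun d => by
    refine dec_inj hω (mm_lt _ _) (mm_lt _ _) ?_
    have := sc_mul hω d ⟨c, hc⟩
    rw [dec_mm hω, e, dec_mm hω, dec_mm hω, ← mul_assoc, this]
  have h0 : mm (sc 0) N = mm (sc ((0 + c) % 3)) M := h 0
  have h1 : mm (sc 1) N = mm (sc ((1 + c) % 3)) M := h 1
  have h2 : mm (sc 2) N = mm (sc ((2 + c) % 3)) M := h 2
  have hb : ∀ a b : ℕ, cond (Nat.ble a b) a b = min a b := fun a b => by
    rcases Nat.le_total a b with hab | hab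
    · rw [Nat.ble_eq_true_of_le hab, min_eq_left hab]; rfl
    · rcases eq_or_lt_of_le hab with rfl | hab'
      · simp
      · have : Nat.ble a b = false := by
          rw [Bool.eq_false_iff]; exact fun hh => absurd (Nat.le_of_ble_eq_true hh) (by omega)
        rw [this, min_eq_right hab]; rfl
  simp only [key, hb, h0, h1, h2]
  interval_cases c <;> simp [min_comm, min_left_comm]

/-! ## Products of coordinate lists -/

/-- The product of a coordinate list. -/
noncomputable def lp (l : List ℕ) : J3 F ω := (l.map (el hω)).prod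

theorem lp_nil : lp hω [] = (1 : J3 F ω) := rfl

theorem lp_single (x : ℕ) : lp hω [x] = el hω x := by simp [lp]

theorem lp_append (l r : List ℕ) : lp hω (l ++ r) = lp hω l * lp hω r := by simp [lp]

theorem lp_cons (x : ℕ) (l : List ℕ) : lp hω (x :: l) = el hω x * lp hω l := by simp [lp]

theorem lp_repW (n : ℕ) (l : List ℕ) : lp hω (repW n l) = lp hω l ^ n := by
  induction n with
  | zero => rw [pow_zero]; rfl
  | succ n ih =>
    rw [repW, List.replicate_succ, List.flatten_cons, lp_append, pow_succ']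
    exact congrArg _ ih

theorem lp_subW (gs : List (List ℕ)) : ∀ w : List ℕ,
    lp hω (subW gs w) = wprod (fun i => lp hω (gs.getD i [])) w
  | [] => rfl
  | i :: w => by
    rw [subW, List.map_cons, List.flatten_cons, lp_append, wprod_cons]
    exact congrArg _ (lp_subW gs w)

theorem conds_transfer (hF : Fintype.card F = 4) (θ : MulAut (J3 F ω)) {gs gs' : List (List ℕ)}
    {cs : List (List ℕ × ℕ)} (hgs' : ∀ l ∈ gs', l.all tripleOK = true)
    (h : ∀ i, θ (lp hω (gs.getD i [])) = lp hω (gs'.getD i []))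
    (hok : condsOK gs cs = true) : condsOK gs' cs = true := by
  simp only [condsOK, List.all_eq_true] at hok ⊢
  intro c hc
  refine chkEq_of_eq hω hF (all_subW hgs' _ _) rfl ?_
  have e : lp hω (repW c.2 (subW gs c.1)) = lp hω [] := eq_of_chkEq hω (hok c hc)
  show lp hω (repW c.2 (subW gs' c.1)) = lp hω []
  have e2 : θ (lp hω (subW gs c.1)) = lp hω (subW gs' c.1) := by
    rw [lp_subW, lp_subW]
    exact (map_wprod θ.toMonoidHom _ _).trans (congrArg (fun T => wprod T c.1) (funext h))
  rw [lp_repW, ← e2, ← map_pow, ← lp_repW, e, lp_nil, map_one]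

/-! ## The coset decomposition -/

/-- A coset representative. -/
noncomputable def Rj (j : ℕ) : J3 F ω := el hω j

/-- An element of the point stabiliser. -/
noncomputable def Kq (m : ℕ) : J3 F ω := el hω (Nat.mul m 32768)

theorem rep_Rj {j : ℕ} (hj : j < 6156) : tripleOK j = true ∧ ∃ M, Rep (Rj hω j) M ∧
    dec ω M = dec ω (get2 rel j) := by
  have e1 : Nat.land j 8191 = j := by
    show j &&& 2 ^ 13 - 1 = j
    rw [Nat.and_two_pow_sub_one_eq_mod]; omega
  have e2 : Nat.shiftRight j 13 = 0 := by show j >>> 13 = 0; rw [Nat.shiftRight_eq_div_pow]; omega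
  have e3 : Nat.shiftRight j 15 = 0 := by show j >>> 15 = 0; rw [Nat.shiftRight_eq_div_pow]; omega
  have hok : tripleOK j = true := by
    simp only [tripleOK, e1, e2, e3, Bool.and_eq_true, Nat.blt_eq]
    exact ⟨⟨hj, by decide⟩, by norm_num⟩
  refine ⟨hok, _, rep_el hω hok, ?_⟩
  rw [triple, e1, e2, e3, dec_mm hω, dec_mm hω, (base hω).1.1, show sc (Nat.land 0 3) = one from rfl,
    dec_one, mul_one, mul_one]

theorem rep_Kq {m : ℕ} (hm : m < 8160) : tripleOK (Nat.mul m 32768) = true ∧ ∃ M, Rep (Kq hω m) M ∧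
    dec ω M = dec ω (get2 kel m) := by
  have e1 : Nat.land (Nat.mul m 32768) 8191 = 0 := by
    show (m * 32768) &&& 2 ^ 13 - 1 = 0
    rw [Nat.and_two_pow_sub_one_eq_mod]; omega
  have e2 : Nat.land (Nat.shiftRight (Nat.mul m 32768) 13) 3 = 0 := by
    show ((m * 32768) >>> 13) &&& 2 ^ 2 - 1 = 0
    rw [Nat.and_two_pow_sub_one_eq_mod, Nat.shiftRight_eq_div_pow]; omega
  have e3 : Nat.shiftRight (Nat.mul m 32768) 15 = m := by
    show (m * 32768) >>> 15 = m
    rw [Nat.shiftRight_eq_div_pow]; omega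
  have hok : tripleOK (Nat.mul m 32768) = true := by
    simp only [tripleOK, e1, e2, e3, Bool.and_eq_true, Nat.blt_eq]
    exact ⟨⟨by norm_num, by norm_num⟩, hm⟩
  refine ⟨hok, _, rep_el hω hok, ?_⟩
  rw [triple, e1, e2, e3, dec_mm hω, dec_mm hω, (base hω).1.2, show sc 0 = one from rfl,
    dec_one, one_mul, one_mul]

theorem eq_mul_of_code {g : J3 F ω} {j c m M : ℕ} (hj : j < 6156) (hc : c < 3) (hm : m < 8160)
    (hg : Rep g M) (e : dec ω M = dec ω (get2 rel j) * (dec ω (sc c) * dec ω (get2 kel m))) :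
    g = Rj hω j * Kq hω m := by
  obtain ⟨-, A, hA, eA⟩ := rep_Rj hω hj
  obtain ⟨-, B, hB, eB⟩ := rep_Kq hω hm
  refine rep_unique' hω hg (rep_scalar hω hc (rep_mul hω hA hB)) ?_
  rw [e, dec_mm hω, dec_mm hω, eA, eB, ← mul_assoc, sc_comm hω ⟨c, hc⟩, mul_assoc]

theorem el_split {e : ℕ} (he : tripleOK e = true) : ∃ j < 6156, ∃ m < 8160,
    j = Nat.land e 8191 ∧ el hω e = Rj hω j * Kq hω m := by
  have h := rep_el hω he
  simp only [tripleOK, Bool.and_eq_true, Nat.blt_eq] at he
  exact ⟨_, he.1.1, _, he.2, rfl, eq_mul_of_code hω he.1.1 he.1.2 he.2 h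
    (by rw [triple, dec_mm hω, dec_mm hω])⟩

theorem split_surj (g : J3 F ω) : ∃ (j : Fin 6156) (m : Fin 8160), g = Rj hω j * Kq hω m := by
  obtain ⟨u, rfl⟩ := QuotientGroup.mk_surjective g
  obtain ⟨j, c, m, e⟩ := mem_listed hω ((SetLike.ext_iff.1 (threeJ3_eq hω) _).1 u.2)
  refine ⟨j, m, eq_mul_of_code hω j.2 c.2 m.2 (M := mm (get2 rel j) (mm (sc c) (get2 kel m)))
    ⟨u, rfl, by rw [e, dec_mm hω, dec_mm hω]⟩ (by rw [dec_mm hω, dec_mm hω])⟩

theorem split_inj (hF : Fintype.card F = 4) :
    Function.Injective fun p : Fin 6156 × Fin 8160 => Rj hω p.1 * Kq hω p.2 := by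
  haveI : Finite (J3 F ω) := Nat.finite_of_card_ne_zero (by rw [card_J3 hω hF]; norm_num)
  refine ((Nat.bijective_iff_surjective_and_card _).2 ⟨fun g => ?_, ?_⟩).1
  · obtain ⟨j, m, e⟩ := split_surj hω g
    exact ⟨(j, m), e.symm⟩
  · rw [card_J3 hω hF, Nat.card_prod, Nat.card_fin, Nat.card_fin]

theorem Kq_mul {i m : ℕ} (hi : i < 8160) (hm : m < 8160) :
    ∃ q : Fin 8160, Kq hω i * Kq hω m = Kq hω q := by
  obtain ⟨q, hq, e⟩ := kel_mul hω hi hm
  obtain ⟨-, A, hA, eA⟩ := rep_Kq hω hi
  obtain ⟨-, B, hB, eB⟩ := rep_Kq hω hm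
  obtain ⟨-, C, hC, eC⟩ := rep_Kq hω hq
  exact ⟨⟨q, hq⟩, rep_unique' hω (rep_mul hω hA hB) hC (by rw [dec_mm hω, eA, eB, e, eC])⟩

theorem Kq_solve (hF : Fintype.card F = 4) (m m' : Fin 8160) :
    ∃ n : Fin 8160, Kq hω m * Kq hω n = Kq hω m' := by
  choose f hf using fun n : Fin 8160 => Kq_mul hω m.2 n.2
  have hi : Function.Injective f := fun a b e => by
    have h : Kq hω (a : ℕ) = Kq hω (b : ℕ) := mul_left_cancel ((hf a).trans (e ▸ (hf b).symm))
    have := split_inj hω hF (a₁ := (⟨0, by norm_num⟩, a)) (a₂ := (⟨0, by norm_num⟩, b))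
      (by simp only; rw [h])
    simpa using this
  obtain ⟨n, hn⟩ := (Finite.injective_iff_surjective.1 hi) m'
  exact ⟨n, (hf n).trans (by rw [hn])⟩

/-! ## The centraliser of the involution -/

theorem card_commute_invK (hF : Fintype.card F = 4) :
    Nat.card {g : J3 F ω // g * el hω invK = el hω invK * g} ≤ 2432 := by
  classical
  obtain ⟨l1, l2, hk⟩ := lengths
  set a0 := el hω invK with ha0
  have hkq : a0 = Kq hω kInvo := rfl
  choose j m hjm using fun g : J3 F ω => split_surj hω g
  -- the coset is fixed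
  have hfix : ∀ g : J3 F ω, g * a0 = a0 * g → (j g).val ∈ fixed := by
    intro g hg
    have h := forallLt_elim invEdge_all (j g).2
    simp only [invEdgeOK, Bool.and_eq_true, Bool.or_eq_true, Bool.not_eq_true'] at h
    obtain ⟨⟨he, hch⟩, hmem⟩ := h
    obtain ⟨j', hj', m', hm', ej', esplit⟩ := el_split hω he
    have e1 : a0 * Rj hω (j g) = Rj hω j' * Kq hω m' := by
      rw [← esplit]
      simpa [Rj, ha0] using eq_of_chkEq hω hch
    obtain ⟨q1, hq1⟩ := Kq_mul hω hm' (m g).2
    obtain ⟨q2, hq2⟩ := Kq_mul hω (m g).2 hk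
    have e2 : Rj hω j' * Kq hω q1 = Rj hω (j g) * Kq hω q2 := by
      rw [← hq1, ← hq2, ← mul_assoc, ← mul_assoc, ← e1, mul_assoc, ← hjm g, ← hkq]
      exact hg.symm
    have := split_inj hω hF (a₁ := (⟨j', hj'⟩, q1)) (a₂ := (j g, q2)) e2
    have ej : j' = (j g).val := congrArg (fun p : Fin 6156 × Fin 8160 => (p.1 : ℕ)) this
    rcases hmem with hmem | hmem
    · exfalso
      rw [← ej', ej] at hmem
      simp at hmem
    · exact List.elem_iff.1 hmem
  have ok0 : tripleOK invK = true := by
    delta invK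
    exact (rep_Kq hω hk).1
  -- the fibre
  have hfib : ∀ g g' : J3 F ω, g * a0 = a0 * g → g' * a0 = a0 * g' → j g = j g' →
      ∃ n ∈ kCen, g' = g * Kq hω n := by
    intro g g' hg hg' e
    obtain ⟨n, hn⟩ := Kq_solve hω hF (m g) (m g')
    have e' : g' = g * Kq hω n := by rw [hjm g, hjm g', e, mul_assoc, hn]
    refine ⟨n, ?_, e'⟩
    have hc : Kq hω n * a0 = a0 * Kq hω n := by
      apply mul_left_cancel (a := g)
      rw [← mul_assoc, ← e', hg', e', ← mul_assoc, ← mul_assoc, hg]
    have h := forallLt_elim kCen_all n.2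
    simp only [kCenOK, Bool.or_eq_true, Bool.not_eq_true'] at h
    rcases h with h | h
    · exfalso
      refine chkEq_false hω hF ?_ ?_ h
        (show lp hω [Nat.mul n 32768, invK] = lp hω [invK, Nat.mul n 32768] by
          simp only [lp, List.map_cons, List.map_nil, List.prod_cons, List.prod_nil, mul_one]; exact hc)
      · exact all_pair (x := Nat.mul n 32768) (y := invK) (rep_Kq hω n.2).1 ok0
      · exact all_pair (x := invK) (y := Nat.mul n 32768) ok0 (rep_Kq hω n.2).1
    · exact List.elem_iff.1 h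
  haveI : Finite (J3 F ω) := Nat.finite_of_card_ne_zero (by rw [card_J3 hω hF]; norm_num)
  have hrep : ∀ jj : Fin 6156, ∃ g0 : J3 F ω,
      ∀ g, g * a0 = a0 * g → j g = jj → g0 * a0 = a0 * g0 ∧ j g0 = jj := fun jj => by
    by_cases h : ∃ g, g * a0 = a0 * g ∧ j g = jj
    · obtain ⟨g0, h1, h2⟩ := h; exact ⟨g0, fun _ _ _ => ⟨h1, h2⟩⟩
    · exact ⟨1, fun g h1 h2 => absurd ⟨g, h1, h2⟩ h⟩
  choose g0 hg0 using hrep
  have hn : ∀ g : {g : J3 F ω // g * a0 = a0 * g},
      ∃ n ∈ kCen, g.1 = g0 (j g.1) * Kq hω n := fun g => by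
    obtain ⟨h1, h2⟩ := hg0 _ g.1 g.2 rfl
    exact hfib _ _ h1 g.2 h2
  choose n hn1 hn2 using hn
  have hinj : Function.Injective fun g : {g : J3 F ω // g * a0 = a0 * g} =>
      ((⟨(j g.1).val, List.mem_toFinset.2 (hfix g.1 g.2)⟩ : fixed.toFinset),
        (⟨n g, List.mem_toFinset.2 (hn1 g)⟩ : kCen.toFinset)) := by
    intro g h e
    simp only [Prod.mk.injEq, Subtype.mk.injEq] at e
    exact Subtype.ext (by rw [hn2 g, hn2 h, Fin.ext e.1, e.2])
  refine (Nat.card_le_card_of_injective _ hinj).trans ?_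
  rw [Nat.card_prod, Nat.card_eq_fintype_card, Nat.card_eq_fintype_card, Fintype.card_coe,
    Fintype.card_coe]
  have c1 := List.toFinset_card_le fixed
  have c2 := List.toFinset_card_le kCen
  rw [l1] at c1
  rw [l2] at c2
  calc _ ≤ 76 * 32 := Nat.mul_le_mul c1 c2
    _ = 2432 := by norm_num

/-- The Sylow subgroup. -/
noncomputable def Ptwo : Subgroup (J3 F ω) :=
  Subgroup.closure ((fun i => el hω (twoGenAt i)) '' {i | i < 7})

theorem ptwo_spec (hF : Fintype.card F = 4) : Nat.card (Ptwo hω) = 128 ∧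
    ∀ g ∈ Ptwo hω, ∃ p < 128, g = lp hω (twoWd p) := by
  haveI : Finite (J3 F ω) := Nat.finite_of_card_ne_zero (by rw [card_J3 hω hF]; norm_num)
  let t : ℕ → J3 F ω := fun i => el hω (twoGenAt i)
  obtain ⟨hok, hlt, hsep⟩ := two_table_data
  have hlt' : ∀ p < twoTable.N, ∀ i ∈ twoTable.wd p, i < twoTable.k := fun p hp => hlt ⟨p, hp⟩
  have hinj : Set.InjOn (fun p => wprod t (twoTable.wd p)) {p | p < twoTable.N} := by
    intro p (hp : p < 128) q (hq : q < 128) e
    refine injOn_of_sepOK hω hF hsep (by simpa using hp) (by simpa using hq) ?_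
    simpa [wprod, t, List.getD_eq_getElem?_getD, List.map_map, Function.comp_def, hp, hq] using e
  have hrels : ∀ W ∈ twoTable.rels, wprod t W = 1 := fun W hW => by
    have := eq_of_chkEq hω (two_rels_check W hW)
    rw [List.map_map] at this
    exact this
  obtain ⟨hcard, -⟩ := complement_of_table (MonoidHom.id (J3 F ω)) Function.surjective_id
    (by rw [(MonoidHom.ker_eq_bot_iff _).2 Function.injective_id]; exact bot_le) hok t hrels t
    (fun _ _ => rfl) hlt' hinj
  refine ⟨hcard, fun g hg => ?_⟩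
  have hw : ∀ p, lp hω (twoWd p) = wprod t (twoTable.wd p) := fun p => by
    rw [lp, twoWd, List.map_map]; rfl
  have hsub : (fun p => wprod t (twoTable.wd p)) '' {p | p < twoTable.N} ⊆ (Ptwo hω : Set (J3 F ω)) := by
    rintro _ ⟨p, hp, rfl⟩
    refine Subgroup.list_prod_mem _ fun x hx => ?_
    obtain ⟨i, hi, rfl⟩ := List.mem_map.1 hx
    exact Subgroup.subset_closure ⟨i, hlt' p hp i hi, rfl⟩
  have heq := Set.eq_of_subset_of_ncard_le hsub (by
    rw [Set.InjOn.ncard_image hinj, show {p | p < twoTable.N} = Set.Iio twoTable.N from rfl,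
      Set.ncard_Iio_nat, ← Nat.card_coe_set_eq]
    exact hcard.le)
  rw [← SetLike.mem_coe, ← heq] at hg
  obtain ⟨p, hp, e⟩ := hg
  exact ⟨p, hp, by rw [hw]; exact e.symm⟩

/-- The involution. -/
noncomputable def invA : J3 F ω := el hω baseA

theorem cen_tripleOK {i : ℕ} (hi : i < 1920) : tripleOK (cenAt i) = true := by
  have h := forallLt_elim cen_all hi
  simp only [cenOK, Bool.and_eq_true] at h
  exact h.1.1

theorem cen_list (hF : Fintype.card F = 4) (g : J3 F ω) :
    g * invA hω = invA hω * g ↔ ∃ i < 1920, g = el hω (cenAt i) := by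
  haveI : Finite (J3 F ω) := Nat.finite_of_card_ne_zero (by rw [card_J3 hω hF]; norm_num)
  obtain ⟨-, -, -, -, hca, -, hc5, hc1, htr, -, -, hoa, ho3, ho1, hP, -, -, -⟩ := pair_checks
  set a := invA hω
  let C : Subgroup (J3 F ω) :=
    { carrier := {g | g * a = a * g}
      mul_mem' := fun {x y} hx hy => (Commute.mul_left (show Commute x a from hx) (show Commute y a from hy)).eq
      one_mem' := (Commute.one_left a).eq
      inv_mem' := fun {x} hx => (Commute.inv_left (show Commute x a from hx)).eq }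
  -- the upper bound
  have hup : Nat.card C ≤ 2432 := by
    set h := el hω toInvo
    have eh : h * el hω invK = a * h := by simpa [h, a, invA] using eq_of_chkEq hω htr
    let f : C → {g : J3 F ω // g * el hω invK = el hω invK * g} := fun x => ⟨h⁻¹ * x.1 * h, by
      have hx : x.1 * a = a * x.1 := x.2
      have e0 : el hω invK = h⁻¹ * a * h := by rw [mul_assoc, ← eh, inv_mul_cancel_left]
      rw [e0]
      calc h⁻¹ * x.1 * h * (h⁻¹ * a * h) = h⁻¹ * (x.1 * a) * h := by group
        _ = h⁻¹ * (a * x.1) * h := by rw [hx]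
        _ = h⁻¹ * a * h * (h⁻¹ * x.1 * h) := by group⟩
    refine (Nat.card_le_card_of_injective f fun x y e => Subtype.ext ?_).trans (card_commute_invK hω hF)
    simpa [f] using congrArg Subtype.val e
  -- divisors
  have d2 : 128 ∣ Nat.card C := by
    rw [← (ptwo_spec hω hF).1]
    refine Subgroup.card_dvd_of_le ((Subgroup.closure_le _).2 ?_)
    rintro _ ⟨i, hi, rfl⟩
    show el hω (twoGenAt i) * a = a * el hω (twoGenAt i)
    simpa [a, invA] using eq_of_chkEq hω (hP ⟨i, hi⟩)
  have dp : ∀ (x p : ℕ), p.Prime → chkEq [x, baseA] [baseA, x] = true →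
      chkEq (repW p [x]) [] = true → chkEq [x] [] = false → p ∣ Nat.card C := by
    intro x p hp h1 h2 h3
    haveI := Fact.mk hp
    have hx : el hω x ∈ C := by
      show el hω x * a = a * el hω x
      simpa [a, invA] using eq_of_chkEq hω h1
    have hord : orderOf (el hω x) = p := by
      refine orderOf_eq_prime ?_ ?_
      · rw [← lp_single hω x, ← lp_repW]; exact eq_of_chkEq hω h2
      · have hok : [x].all tripleOK = true := by
          have := (chkEq_ok h1).1
          simp only [List.all_cons, List.all_nil, Bool.and_eq_true] at this ⊢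
          exact ⟨this.1, trivial⟩
        have := chkEq_false hω hF hok rfl h3
        simpa using this
    rw [← hord, ← Subgroup.orderOf_mk (el hω x) hx]
    exact orderOf_dvd_natCard _
  have hcard : Nat.card C = 1920 := by
    have d3 := dp elO 3 (by norm_num) hoa ho3 ho1
    have d5 := dp elC 5 (by norm_num) hca hc5 hc1
    have d : 1920 ∣ Nat.card C :=
      Nat.Coprime.mul_dvd_of_dvd_of_dvd (m := 384) (n := 5) (by norm_num)
        (Nat.Coprime.mul_dvd_of_dvd_of_dvd (m := 128) (n := 3) (by norm_num) d2 d3) d5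
    obtain ⟨k, hk⟩ := d
    have : 0 < Nat.card C := Nat.card_pos
    omega
  let f : Fin 1920 → C := fun i => ⟨el hω (cenAt i), by
    have h := forallLt_elim cen_all i.2
    simp only [cenOK, Bool.and_eq_true] at h
    show el hω (cenAt i) * a = a * el hω (cenAt i)
    simpa [a, invA] using eq_of_chkEq hω h.1.2⟩
  have hmono : ∀ d i, i + d + 1 < 1920 → key (triple (cenAt i)) < key (triple (cenAt (i + d + 1))) := by
    intro d
    induction d with
    | zero =>
      intro i hi
      have h := forallLt_elim cen_all (show i < 1920 by omega)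
      simp only [cenOK, Bool.and_eq_true, Bool.or_eq_true, Nat.beq_eq, Nat.blt_eq] at h
      rcases h.2 with h2 | h2
      · omega
      · exact h2
    | succ d ih =>
      intro i hi
      have h1 := ih (i + 1) (by omega)
      rw [show i + 1 + d + 1 = i + (d + 1) + 1 by omega] at h1
      have h := forallLt_elim cen_all (show i < 1920 by omega)
      simp only [cenOK, Bool.and_eq_true, Bool.or_eq_true, Nat.beq_eq, Nat.blt_eq] at h
      rcases h.2 with h2 | h2
      · omega
      · omega
  have hf : Function.Bijective f := by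
    refine (Nat.bijective_iff_injective_and_card f).2 ⟨fun i k e => ?_, by rw [hcard, Nat.card_fin]⟩
    have e' : el hω (cenAt i) = el hω (cenAt k) := congrArg Subtype.val e
    have hk := key_eq hω hF (rep_el hω (cen_tripleOK hω i.2)) (e' ▸ rep_el hω (cen_tripleOK hω k.2))
    refine Fin.ext ?_
    rcases lt_trichotomy i.val k.val with hlt | heq | hlt
    · have := hmono (k.val - i.val - 1) i.val (by omega)
      rw [show i.val + (k.val - i.val - 1) + 1 = k.val by omega] at this
      omega
    · exact heq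
    · have := hmono (i.val - k.val - 1) k.val (by omega)
      rw [show k.val + (i.val - k.val - 1) + 1 = i.val by omega] at this
      omega
  constructor
  · intro hg
    obtain ⟨i, hi⟩ := hf.2 ⟨g, hg⟩
    exact ⟨i, i.2, (congrArg Subtype.val hi).symm⟩
  · rintro ⟨i, hi, rfl⟩
    exact (f ⟨i, hi⟩).2

theorem invA_order (hF : Fintype.card F = 4) : invA hω * invA hω = 1 ∧ invA hω ≠ 1 := by
  obtain ⟨-, -, -, -, -, -, -, -, -, haa, ha1, -⟩ := pair_checks
  have hok : [baseA].all tripleOK = true := by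
    have := (chkEq_ok haa).1
    simp only [List.all_cons, List.all_nil, Bool.and_eq_true] at this ⊢
    exact ⟨this.1, trivial⟩
  refine ⟨by simpa [invA] using eq_of_chkEq hω haa, ?_⟩
  simpa [invA] using chkEq_false hω hF hok rfl ha1

/-- Every involution is conjugate to the listed one. -/
theorem involution_conj (hF : Fintype.card F = 4) {x : J3 F ω} (hx : x * x = 1) (hx1 : x ≠ 1) :
    ∃ g, g * x * g⁻¹ = invA hω := by
  haveI : Finite (J3 F ω) := Nat.finite_of_card_ne_zero (by rw [card_J3 hω hF]; norm_num)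
  haveI : Fact (Nat.Prime 2) := ⟨Nat.prime_two⟩
  obtain ⟨hP, hPl⟩ := ptwo_spec hω hF
  let S : Sylow 2 (J3 F ω) := Sylow.ofCard (Ptwo hω) (by
    rw [hP, card_J3 hω hF,
      show (50232960 : ℕ).factorization 2 = 7 by
        rw [show (50232960 : ℕ) = 2 ^ 7 * 392445 by norm_num,
          Nat.factorization_mul (by norm_num) (by norm_num), Finsupp.add_apply,
          Nat.factorization_eq_zero_of_not_dvd (show ¬ 2 ∣ 392445 by norm_num)]
        rw [Nat.Prime.factorization_pow Nat.prime_two]; simp]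
    norm_num)
  have hZ : IsPGroup 2 (Subgroup.zpowers x) := by
    refine IsPGroup.of_card (n := 1) ?_
    rw [Nat.card_zpowers, orderOf_eq_prime (by rw [sq]; exact hx) hx1, pow_one]
  obtain ⟨Q, hQ⟩ := hZ.exists_le_sylow
  obtain ⟨g, hg⟩ := MulAction.exists_smul_eq (J3 F ω) Q S
  have hmem : g * x * g⁻¹ ∈ Ptwo hω := by
    have h1 : g * x * g⁻¹ ∈ ((g • Q : Sylow 2 (J3 F ω)) : Subgroup (J3 F ω)) := by
      rw [Sylow.coe_subgroup_smul]
      exact ⟨x, hQ (Subgroup.mem_zpowers x), rfl⟩
    rw [hg] at h1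
    exact h1
  obtain ⟨p, hp, e⟩ := hPl _ hmem
  have hokp : (twoWd p).all tripleOK = true := by
    obtain ⟨-, -, hsep⟩ := two_table_data
    simp only [sepOK, Bool.and_eq_true, List.all_eq_true] at hsep
    exact List.all_eq_true.2 (hsep.1 (twoWd p) (List.mem_map.2 ⟨p, List.mem_range.2 hp, rfl⟩)).1.1.1
  have h := forallLt_elim syl_all hp
  simp only [sylOK, Bool.or_eq_true, Bool.not_eq_true'] at h
  rcases h with (h | h) | h
  · exfalso
    refine chkEq_false hω hF (by rw [List.all_append, hokp]; rfl) rfl h ?_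
    show lp hω (twoWd p ++ twoWd p) = lp hω []
    rw [lp_append, ← e, lp_nil]
    calc g * x * g⁻¹ * (g * x * g⁻¹) = g * (x * x) * g⁻¹ := by group
      _ = 1 := by rw [hx, mul_one, mul_inv_cancel]
  · exfalso
    have e2 : lp hω (twoWd p) = lp hω [] := eq_of_chkEq hω h
    rw [← e, lp_nil] at e2
    exact hx1 (by simpa using e2)
  · have e2 : lp hω [get2 sylConj p, baseA] = lp hω (twoWd p ++ [get2 sylConj p]) :=
      eq_of_chkEq hω h
    rw [lp_append, ← e, lp_cons, lp_single, lp_single] at e2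
    refine ⟨(el hω (get2 sylConj p))⁻¹ * g, ?_⟩
    rw [_root_.mul_inv_rev, inv_inv]
    calc (el hω (get2 sylConj p))⁻¹ * g * x * (g⁻¹ * el hω (get2 sylConj p))
        = (el hω (get2 sylConj p))⁻¹ * (g * x * g⁻¹ * el hω (get2 sylConj p)) := by group
      _ = (el hω (get2 sylConj p))⁻¹ * (el hω (get2 sylConj p) * el hω baseA) := by rw [← e2]
      _ = invA hω := by rw [inv_mul_cancel_left]; rfl

/-! ## Automorphisms fixing the pair -/

theorem closure_top : Subgroup.closure ({el hω elC, el hω elE, el hω elD} : Set (J3 F ω)) = ⊤ := by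
  set H := Subgroup.closure ({el hω elC, el hω elE, el hω elD} : Set (J3 F ω)) with hH
  obtain ⟨-, -, -, -, -, -, -, -, o0, q0, o1, q1⟩ := gen_checks
  have hlp : ∀ w : List ℕ, lp hω (subW [[elC], [elE], [elD]] w) ∈ H := fun w => by
    rw [lp_subW]
    refine Subgroup.list_prod_mem _ fun x hx => ?_
    obtain ⟨i, -, rfl⟩ := List.mem_map.1 hx
    match i with
    | 0 => exact Subgroup.subset_closure (by simp [lp_single])
    | 1 => exact Subgroup.subset_closure (by simp [lp_single])
    | 2 => exact Subgroup.subset_closure (by simp [lp_single])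
    | n + 3 => simp [lp, one_mem]
  have key : ∀ (w : List ℕ) (M : ℕ) (u : threeJ3 F ω), (subW [[elC], [elE], [elD]] w).all tripleOK = true →
      eqv (tprod (subW [[elC], [elE], [elD]] w)) M = true →
      ((u : GL F9 F) : Matrix F9 F9 F) = dec ω M → (QuotientGroup.mk u : J3 F ω) ∈ H := by
    intro w M u hok hq hu
    have hr : Rep (QuotientGroup.mk u : J3 F ω) M := ⟨u, rfl, hu⟩
    simp only [eqv, Bool.or_eq_true, Nat.beq_eq] at hq
    have : (QuotientGroup.mk u : J3 F ω) = lp hω (subW [[elC], [elE], [elD]] w) := by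
      rcases hq with (e | e) | e
      · exact rep_unique hω hr (e ▸ rep_prod hω hok)
      · exact rep_unique hω hr (e ▸ rep_scalar hω (by norm_num) (rep_prod hω hok))
      · exact rep_unique hω hr (e ▸ rep_scalar hω (by norm_num) (rep_prod hω hok))
    rw [this]
    exact hlp w
  rw [Subgroup.eq_top_iff']
  intro g
  obtain ⟨u, rfl⟩ := QuotientGroup.mk_surjective g
  have hle : X hω ≤ (H.comap (QuotientGroup.mk' (Subgroup.center (threeJ3 F ω)))).map
      (threeJ3 F ω).subtype := by
    rw [X, Subgroup.closure_le]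
    rintro _ ⟨x, rfl⟩
    refine ⟨⟨sUnit hω x, (SetLike.ext_iff.1 (threeJ3_eq hω) _).2 (Subgroup.subset_closure ⟨x, rfl⟩)⟩, ?_, rfl⟩
    fin_cases x
    · exact key genWord0 _ _ o0 q0 rfl
    · exact key genWord1 _ _ o1 q1 rfl
  obtain ⟨v, hv, e⟩ := hle ((SetLike.ext_iff.1 (threeJ3_eq hω) _).1 u.2)
  rw [← Subtype.ext e]
  exact hv

theorem fix_both (hF : Fintype.card F = 4) (θ : MulAut (J3 F ω)) (ha : θ (invA hω) = invA hω)
    (hc : θ (el hω elC) = el hω elC) : θ ∈ Cfsg.Inn (J3 F ω) := by
  obtain ⟨hBa, hbw, hbd, hsi, hca, hea, hc5, -, -, -, -, -, -, -, -, heC, hdC, heN⟩ := pair_checks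
  have okC : [elC].all tripleOK = true := by
    have := (chkEq_ok hca).1
    simp only [List.all_cons, List.all_nil, Bool.and_eq_true] at this ⊢
    exact ⟨this.1, trivial⟩
  have okE : [elE].all tripleOK = true := by
    have := (chkEq_ok hea).1
    simp only [List.all_cons, List.all_nil, Bool.and_eq_true] at this ⊢
    exact ⟨this.1, trivial⟩
  set a := invA hω
  set c := el hω elC
  set e := el hω elE
  set d := el hω elD
  have eca : c * a = a * c := by simpa [c, a, invA] using eq_of_chkEq hω hca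
  have eea : e * a = a * e := by simpa [e, a, invA] using eq_of_chkEq hω hea
  have c5 : c ^ 5 = 1 := by
    rw [show c = lp hω [elC] from (lp_single hω elC).symm, ← lp_repW]
    exact eq_of_chkEq hω hc5
  -- the image of the second generator of the centraliser
  obtain ⟨i, hi, hei⟩ := (cen_list hω hF (θ e)).1 (by
    show θ e * a = a * θ e
    rw [← ha, ← map_mul, eea, map_mul])
  have oki : [cenAt i].all tripleOK = true := by simp [cen_tripleOK hω hi]
  have h := forallLt_elim eSurv_all hi
  simp only [eSurvOK, Bool.or_eq_true, Bool.not_eq_true', List.any_eq_true, List.mem_range] at h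
  obtain ⟨k, hk, hke⟩ : ∃ k < 5, θ e = c ^ k * e * (c ^ k)⁻¹ := by
    rcases h with (h | h) | ⟨k, hk, h⟩
    · exfalso
      refine Bool.noConfusion (h.symm.trans (conds_transfer hω hF θ ?_ ?_ heC))
      · intro l hl
        simp only [List.mem_cons, List.not_mem_nil, or_false] at hl
        rcases hl with rfl | rfl
        exacts [okC, oki]
      · intro j
        match j with
        | 0 => simpa [lp_single] using hc
        | 1 => simpa [lp_single] using hei
        | n + 2 => simp [lp]
    · exfalso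
      have h1 : lp hω (repW 3 [elC, elC, cenAt i]) = lp hω [] := eq_of_chkEq hω h
      rw [lp_repW, lp_nil, lp_cons, lp_cons, lp_single] at h1
      have h1' : θ ((c * (c * e)) ^ 3) = 1 := by rw [map_pow, map_mul, map_mul, hc, hei]; exact h1
      have h1'' := θ.injective (h1'.trans (map_one θ).symm)
      refine chkEq_false hω hF ?_ rfl heN ?_
      · simp only [repW, List.all_eq_true, List.mem_flatten, List.mem_replicate]
        rintro x ⟨_, ⟨-, rfl⟩, hx⟩
        simp only [List.mem_cons, List.not_mem_nil, or_false] at hx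
        simp only [List.all_cons, List.all_nil, Bool.and_eq_true] at okC okE
        rcases hx with rfl | rfl | rfl
        exacts [okC.1, okC.1, okE.1]
      · show lp hω (repW 3 [elC, elC, elE]) = lp hω []
        rw [lp_repW, lp_nil, lp_cons, lp_cons, lp_single]
        exact h1''
    · refine ⟨k, hk, ?_⟩
      have h1 : lp hω [cenAt i] =
          lp hω (List.replicate k elC ++ [elE] ++ List.replicate (5 - k) elC) := eq_of_chkEq hω h
      have hrep : ∀ n, lp hω (List.replicate n elC) = c ^ n := fun n => by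
        simp [lp, c, List.map_replicate, List.prod_replicate]
      rw [lp_single, ← hei, lp_append, lp_append, hrep, hrep, lp_single] at h1
      rw [h1, inv_eq_of_mul_eq_one_right (a := c ^ k) (b := c ^ (5 - k))]
      rw [← pow_add, show k + (5 - k) = 5 by omega, c5]
  set θ' := MulAut.conj ((c ^ k)⁻¹) * θ with hθ'
  have ca : θ' a = a := by
    show (c ^ k)⁻¹ * θ a * ((c ^ k)⁻¹)⁻¹ = a
    rw [ha, inv_inv, mul_assoc, ← ((show Commute c a from eca).pow_left k).eq, inv_mul_cancel_left]
  have cc : θ' c = c := by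
    show (c ^ k)⁻¹ * θ c * ((c ^ k)⁻¹)⁻¹ = c
    rw [hc, inv_inv, mul_assoc, ← ((Commute.refl c).pow_left k).eq, inv_mul_cancel_left]
  have ce : θ' e = e := by
    show (c ^ k)⁻¹ * θ e * ((c ^ k)⁻¹)⁻¹ = e
    rw [hke, inv_inv]; group
  -- the commuting involution is fixed
  set b := el hω elB
  have cb : θ' b = b := by
    have e1 : lp hω (subW [[elC], [elE]] bWord) = b :=
      (eq_of_chkEq hω hbw).trans (lp_single hω elB)
    rw [← e1, lp_subW]
    refine (map_wprod θ'.toMonoidHom _ _).trans (congrArg (fun T => wprod T bWord) (funext fun j => ?_))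
    match j with
    | 0 => simpa [lp_single] using cc
    | 1 => simpa [lp_single] using ce
    | n + 2 => simp [lp]
  set g := el hω shiftB
  have egi : el hω fromB = g⁻¹ :=
    (inv_eq_of_mul_eq_one_right (by simpa [g] using eq_of_chkEq hω hsi)).symm
  have egb : g * a = b * g := by simpa [g, b, a, invA] using eq_of_chkEq hω hBa
  have ebd : b * d = d * b := by simpa [b, d] using eq_of_chkEq hω hbd
  have e3 : b * θ' d = θ' d * b := by
    calc b * θ' d = θ' b * θ' d := by rw [cb]
      _ = θ' (b * d) := (map_mul _ _ _).symm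
      _ = θ' (d * b) := by rw [ebd]
      _ = θ' d * θ' b := map_mul _ _ _
      _ = θ' d * b := by rw [cb]
  obtain ⟨l, hl, hdl⟩ := (cen_list hω hF (g⁻¹ * θ' d * g)).1 (by
    have eb : b = g * a * g⁻¹ := by rw [egb, mul_inv_cancel_right]
    rw [eb] at e3
    calc g⁻¹ * θ' d * g * a = g⁻¹ * (θ' d * (g * a * g⁻¹)) * g := by group
      _ = g⁻¹ * ((g * a * g⁻¹) * θ' d) * g := by rw [e3]
      _ = a * (g⁻¹ * θ' d * g) := by group)
  have hd' : θ' d = lp hω [shiftB, cenAt l, fromB] := by
    rw [lp_cons, lp_cons, lp_single, egi, ← hdl]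
    show θ' d = g * (g⁻¹ * θ' d * g * g⁻¹)
    group
  have h2 := forallLt_elim dSurv_all hl
  simp only [dSurvOK, Bool.or_eq_true, Bool.not_eq_true'] at h2
  have hfin : ∀ φ : MulAut (J3 F ω), φ c = c → φ e = e → φ d = d → φ = 1 := fun φ h1 h2 h3 => by
    have : Set.EqOn φ.toMonoidHom (MonoidHom.id (J3 F ω)) ({c, e, d} : Set (J3 F ω)) := by
      rintro x (rfl | rfl | rfl) <;> assumption
    exact MulEquiv.ext fun x => by
      exact DFunLike.congr_fun (MonoidHom.eq_of_eqOn_dense (closure_top hω) this) x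
  have hinn : θ' ∈ Cfsg.Inn (J3 F ω) := by
    rcases h2 with (h2 | h2) | h2
    · exfalso
      refine Bool.noConfusion (h2.symm.trans (conds_transfer hω hF θ' ?_ ?_ hdC))
      · intro m hm
        simp only [List.mem_cons, List.not_mem_nil, or_false] at hm
        rcases hm with rfl | rfl | rfl
        · exact okC
        · exact okE
        · have a1 := (chkEq_ok hsi).1
          simp only [List.all_cons, List.all_nil, Bool.and_eq_true] at a1 ⊢
          exact ⟨a1.1, cen_tripleOK hω hl, a1.2.1, trivial⟩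
      · intro j
        match j with
        | 0 => simpa [lp_single] using cc
        | 1 => simpa [lp_single] using ce
        | 2 => simpa [lp_single] using hd'
        | n + 3 => simp [lp]
    · have h3 : lp hω [shiftB, cenAt l, fromB] = lp hω [elD] := eq_of_chkEq hω h2
      rw [← hd', lp_single] at h3
      rw [hfin θ' cc ce h3]
      exact one_mem _
    · have h3 : lp hω [shiftB, cenAt l, fromB] = lp hω [baseA, elD, baseA] := eq_of_chkEq hω h2
      rw [← hd', lp_cons, lp_cons, lp_single] at h3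
      have haa : a * a = 1 := (invA_order hω hF).1
      have hai : a⁻¹ = a := inv_eq_of_mul_eq_one_right haa
      have : MulAut.conj a * θ' = 1 := by
        refine hfin _ ?_ ?_ ?_
        · show a * θ' c * a⁻¹ = c
          rw [cc, ← eca, mul_inv_cancel_right]
        · show a * θ' e * a⁻¹ = e
          rw [ce, ← eea, mul_inv_cancel_right]
        · show a * θ' d * a⁻¹ = d
          rw [h3, hai]
          calc a * (a * (d * a)) * a = (a * a) * d * (a * a) := by group
            _ = d := by rw [haa, one_mul, mul_one]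
      rw [mul_eq_one_iff_eq_inv.1 (mul_eq_one_comm.1 this)]
      exact inv_mem ⟨a, rfl⟩
  have : θ = MulAut.conj (c ^ k) * θ' := by
    rw [hθ', ← mul_assoc, ← map_mul, mul_inv_cancel, map_one, one_mul]
  rw [this]
  exact mul_mem ⟨_, rfl⟩ hinn

/-! ## The outer automorphism -/

omit hω [Fintype F] in
theorem val_sq (hω : ω ^ 2 + ω + 1 = 0) (a b : Bool) : val ω a b ^ 2 = val ω (a ^^ b) b := by
  have hs := omega_sq hω
  cases a <;> cases b <;> simp [val, bF, pow_two, hs, CharTwo.add_self_eq_zero, add_comm]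
  rw [← CharTwo.add_eq_zero]
  linear_combination hs + (2 * ω + 1) * (CharTwo.two_eq_zero : (2 : F) = 0)

theorem dec_fswap {M : ℕ} (hM : M < 2 ^ 162) (r s : F9) :
    dec ω (Nat.lor (Nat.xor (p0 M) (p1 M)) (Nat.shiftLeft (p1 M) 81)) r s = dec ω M r s ^ 2 := by
  have hm : planeMask = 2 ^ 81 - 1 := by norm_num [planeMask]
  have h1 : p1 M < 2 ^ 81 := by
    show M >>> 81 < _
    rw [Nat.shiftRight_eq_div_pow]
    exact Nat.div_lt_of_lt_mul (by rw [← pow_add]; exact hM)
  have h0 : p0 M < 2 ^ 81 := by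
    show M &&& planeMask < _
    exact lt_of_le_of_lt Nat.and_le_right (by norm_num [planeMask])
  have hx : (p0 M ^^^ p1 M) < 2 ^ 81 := Nat.xor_lt_two_pow h0 h1
  have hb : ∀ m < 81, (p0 (Nat.lor (Nat.xor (p0 M) (p1 M)) (Nat.shiftLeft (p1 M) 81))).testBit m =
        ((p0 M).testBit m ^^ (p1 M).testBit m) ∧
      (p1 (Nat.lor (Nat.xor (p0 M) (p1 M)) (Nat.shiftLeft (p1 M) 81))).testBit m = (p1 M).testBit m := by
    intro m hm'
    generalize p1 M = B at h1 hx ⊢
    generalize p0 M = A at h0 hx ⊢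
    constructor
    · show (((A ^^^ B) ||| B <<< 81) &&& planeMask).testBit m = _
      rw [Nat.testBit_and, Nat.testBit_or, Nat.testBit_shiftLeft, hm, Nat.testBit_two_pow_sub_one,
        Nat.testBit_xor]
      simp [hm', show ¬ 81 ≤ m by omega]
    · show (((A ^^^ B) ||| B <<< 81) >>> 81).testBit m = _
      rw [Nat.testBit_shiftRight, Nat.testBit_or, Nat.testBit_shiftLeft,
        Nat.testBit_lt_two_pow (lt_of_lt_of_le hx (Nat.pow_le_pow_right (by norm_num) (by omega : 81 ≤ 81 + m)))]
      simp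
  have hlt : 9 * ix r + ix s < 81 := by have := ix_lt r; have := ix_lt s; omega
  rw [dec_apply, dec_apply, (hb _ hlt).1, (hb _ hlt).2, val_sq hω]

theorem exists_outer (hF : Fintype.card F = 4) : ∃ ψ : MulAut (J3 F ω),
    ψ (invA hω) = invA hω ∧ ψ (el hω elC) = el hω elC * el hω elC := by
  haveI : Finite (threeJ3 F ω) := inferInstance
  obtain ⟨hPP, hPP', g0, h0, g1, h1, hAa, hCc, -⟩ := gen_checks
  let U : GL F9 F := ⟨dec ω matP, dec ω matPInv,
    by rw [← dec_mm hω, hPP, dec_one], by rw [← dec_mm hω, hPP', dec_one]⟩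
  haveI : Fact (Nat.Prime 2) := ⟨Nat.prime_two⟩
  let Φ : GL F9 F →* GL F9 F := (MulAut.conj U).toMonoidHom.comp
    (Units.map ((frobenius F 2).mapMatrix : Matrix F9 F9 F →+* Matrix F9 F9 F).toMonoidHom)
  have hΦ : ∀ (u : GL F9 F) (M : ℕ), M < 2 ^ 162 → (u : Matrix F9 F9 F) = dec ω M →
      ((Φ u : GL F9 F) : Matrix F9 F9 F) = dec ω (outImg M) := by
    intro u M hM hu
    show dec ω matP * ((u : Matrix F9 F9 F).map (frobenius F 2)) * dec ω matPInv = _
    rw [outImg, dec_mm hω, dec_mm hω, hu]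
    congr 2
    funext r s
    rw [Matrix.map_apply, frobenius_def, dec_fswap hω hM]
  have hinj : Function.Injective Φ := fun u v h => by
    have h' := (MulAut.conj U).injective h
    refine Units.ext (Matrix.ext fun r s => ?_)
    have e : frobenius F 2 ((u : Matrix F9 F9 F) r s) = frobenius F 2 ((v : Matrix F9 F9 F) r s) :=
      congrFun (congrFun (congrArg (fun w : GL F9 F => (w : Matrix F9 F9 F)) h') r) s
    exact (frobenius F 2).injective e
  have hmem : ∀ u ∈ threeJ3 F ω, Φ u ∈ threeJ3 F ω := by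
    have hsg : ∀ x : Fin 2, sgen.getD x.val 0 < 2 ^ 162 := by decide +kernel
    have hle : threeJ3 F ω ≤ (threeJ3 F ω).comap Φ := by
      conv_lhs => rw [threeJ3_eq hω, X]
      rw [Subgroup.closure_le]
      rintro _ ⟨x, rfl⟩
      show Φ (sUnit hω x) ∈ threeJ3 F ω
      have hval := hΦ (sUnit hω x) _ (hsg x) rfl
      obtain rfl | rfl : x = 0 ∨ x = 1 := by fin_cases x <;> simp
      · obtain ⟨y, hy, ey⟩ := in_triple hω g0
        rw [show Φ (sUnit hω 0) = y from Units.ext (hval.trans (by rw [ey]; exact congrArg _ h0))]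
        exact (SetLike.ext_iff.1 (threeJ3_eq hω) _).2 hy
      · obtain ⟨y, hy, ey⟩ := in_triple hω g1
        rw [show Φ (sUnit hω 1) = y from Units.ext (hval.trans (by rw [ey]; exact congrArg _ h1))]
        exact (SetLike.ext_iff.1 (threeJ3_eq hω) _).2 hy
    exact fun u hu => hle hu
  let φ : threeJ3 F ω →* threeJ3 F ω := (Φ.comp (threeJ3 F ω).subtype).codRestrict _ fun u => hmem u.1 u.2
  have hφi : Function.Injective φ := fun u v h => Subtype.ext (hinj (congrArg Subtype.val h))
  let φ' : threeJ3 F ω ≃* threeJ3 F ω :=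
    MulEquiv.ofBijective φ ⟨hφi, Finite.injective_iff_surjective.1 hφi⟩
  have hcen : (Subgroup.center (threeJ3 F ω)).map φ'.toMonoidHom = Subgroup.center (threeJ3 F ω) := by
    ext z
    simp only [Subgroup.mem_map, Subgroup.mem_center_iff]
    constructor
    · rintro ⟨y, hy, rfl⟩ u
      obtain ⟨v, rfl⟩ := φ'.surjective u
      show φ' v * φ' y = φ' y * φ' v
      rw [← map_mul, hy, map_mul]
    · intro hz
      obtain ⟨y, rfl⟩ := φ'.surjective z
      refine ⟨y, fun u => φ'.injective ?_, rfl⟩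
      rw [map_mul, map_mul]
      exact hz _
  let ψ : MulAut (J3 F ω) := QuotientGroup.congr _ _ φ' hcen
  have hψ : ∀ (g : J3 F ω) (M : ℕ), M < 2 ^ 162 → Rep g M → Rep (ψ g) (outImg M) := by
    rintro g M hM ⟨u, rfl, hu⟩
    exact ⟨φ' u, (QuotientGroup.congr_mk _ _ φ' hcen u).symm, hΦ _ M hM hu⟩
  have hfin : ∀ (x : ℕ) (l : List ℕ), tripleOK x = true → l.all tripleOK = true →
      eqv (outImg (triple x)) (tprod l) = true → ψ (el hω x) = lp hω l := by
    intro x l hx hl hq
    have hr := hψ _ _ (show triple x < 2 ^ 162 from mm_lt _ _) (rep_el hω hx)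
    have hr2 := rep_prod hω hl
    simp only [eqv, Bool.or_eq_true, Nat.beq_eq] at hq
    rcases hq with (e | e) | e
    · exact rep_unique hω (e ▸ hr) hr2
    · exact rep_unique hω (e ▸ rep_scalar hω (by norm_num) hr) hr2
    · exact rep_unique hω (e ▸ rep_scalar hω (by norm_num) hr) hr2
  obtain ⟨-, -, -, -, hca, -⟩ := pair_checks
  have okk := (chkEq_ok hca).1
  simp only [List.all_cons, List.all_nil, Bool.and_eq_true] at okk
  refine ⟨ψ, ?_, ?_⟩
  · have := rep_el hω okk.2.1
    have hr := hψ _ _ (show triple baseA < 2 ^ 162 from mm_lt _ _) this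
    simp only [eqv, Bool.or_eq_true, Nat.beq_eq] at hAa
    rcases hAa with (e | e) | e
    · exact rep_unique hω (e ▸ hr) this
    · exact rep_unique hω (e ▸ rep_scalar hω (by norm_num) hr) this
    · exact rep_unique hω (e ▸ rep_scalar hω (by norm_num) hr) this
  · rw [hfin elC [elC, elC] okk.1 (by simp [okk.1]) hCc, lp_cons, lp_single]

theorem card_out (hF : Fintype.card F = 4) : Nat.card (Cfsg.Out (J3 F ω)) = 2 := by
  obtain ⟨ψ, hψa, hψc⟩ := exists_outer hω hF
  obtain ⟨ha2, ha1⟩ := invA_order hω hF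
  obtain ⟨-, -, -, -, hca, -, hc5, hc1, -⟩ := pair_checks
  set a := invA hω
  set c := el hω elC
  have hok : [elC].all tripleOK = true := by
    have := (chkEq_ok hca).1
    simp only [List.all_cons, List.all_nil, Bool.and_eq_true] at this ⊢
    exact ⟨this.1, trivial⟩
  have eca : c * a = a * c := by simpa [c, a, invA] using eq_of_chkEq hω hca
  have hnot : ψ ∉ Cfsg.Inn (J3 F ω) := by
    rintro ⟨g, rfl⟩
    have e1 : g * a * g⁻¹ = a := hψa
    obtain ⟨i, hi, rfl⟩ := (cen_list hω hF g).1 (mul_inv_eq_iff_eq_mul.1 e1)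
    have e2 : el hω (cenAt i) * c * (el hω (cenAt i))⁻¹ = c * c := hψc
    have h := forallLt_elim notInner_all hi
    simp only [notInnerOK, Bool.not_eq_true'] at h
    have okc : tripleOK elC = true := by
      simp only [List.all_cons, List.all_nil, Bool.and_eq_true] at hok; exact hok.1
    refine chkEq_false hω hF (by simp [okc, cen_tripleOK hω hi]) (by simp [okc, cen_tripleOK hω hi]) h ?_
    simpa [c, mul_assoc] using mul_inv_eq_iff_eq_mul.1 e2
  have hall : ∀ θ : MulAut (J3 F ω), θ ∈ Cfsg.Inn (J3 F ω) ∨ ψ⁻¹ * θ ∈ Cfsg.Inn (J3 F ω) := by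
    intro θ
    have h1 : θ a * θ a = 1 := by rw [← map_mul, ha2, map_one]
    have h2 : θ a ≠ 1 := fun e => ha1 (θ.injective (e.trans (map_one θ).symm))
    obtain ⟨g, hg⟩ := involution_conj hω hF h1 h2
    set θ1 := MulAut.conj g * θ with hθ1
    have e1 : θ1 a = a := hg
    obtain ⟨i, hi, hci⟩ := (cen_list hω hF (θ1 c)).1 (by
      show θ1 c * a = a * θ1 c
      rw [← e1, ← map_mul, eca, map_mul])
    have hcp : c ^ 5 = 1 := by
      rw [show c = lp hω [elC] from (lp_single hω elC).symm, ← lp_repW]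
      exact eq_of_chkEq hω hc5
    have hcne : c ≠ 1 := by simpa [c] using chkEq_false hω hF hok rfl hc1
    have h := forallLt_elim five_all hi
    simp only [fiveOK, Bool.or_eq_true, Bool.and_eq_true, Bool.not_eq_true', Nat.blt_eq] at h
    rcases h with (h | h) | ⟨hlt, h⟩
    · exfalso
      refine chkEq_false hω hF ?_ rfl h ?_
      · simp only [repW, List.all_eq_true, List.mem_flatten, List.mem_replicate]
        rintro x ⟨_, ⟨-, rfl⟩, hx⟩
        simp only [List.mem_singleton] at hx
        subst hx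
        exact cen_tripleOK hω hi
      · show lp hω (repW 5 [cenAt i]) = lp hω []
        rw [lp_repW, lp_single, ← hci, ← map_pow, hcp, map_one, lp_nil]
    · exfalso
      have e : el hω (cenAt i) = 1 := by simpa using eq_of_chkEq hω h
      rw [← hci] at e
      exact hcne (θ1.injective (e.trans (map_one θ1).symm))
    set k := Nat.div (get2 cenFive i) 2 - 1
    set x := el hω (cenAt k)
    have exa : x * a = a * x := (cen_list hω hF x).2 ⟨k, hlt, rfl⟩
    set θ2 := MulAut.conj x⁻¹ * θ1 with hθ2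
    have e2 : θ2 a = a := by
      show x⁻¹ * θ1 a * x⁻¹⁻¹ = a
      rw [e1, inv_inv, mul_assoc, ← exa, inv_mul_cancel_left]
    have hθ : θ = MulAut.conj (g⁻¹ * x) * θ2 := by
      rw [hθ2, hθ1, ← mul_assoc, ← map_mul, ← mul_assoc, ← map_mul]
      simp
    rcases h with h | h
    · left
      have ex : x * c = el hω (cenAt i) * x := by simpa [x, c] using eq_of_chkEq hω h
      have e3 : θ2 c = c := by
        show x⁻¹ * θ1 c * x⁻¹⁻¹ = c
        rw [hci, inv_inv, mul_assoc, ← ex, inv_mul_cancel_left]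
      rw [hθ]
      exact mul_mem ⟨_, rfl⟩ (fix_both hω hF θ2 e2 e3)
    · right
      have ex : x * (c * c) = el hω (cenAt i) * x := by simpa [x, c] using eq_of_chkEq hω h
      have e3 : θ2 c = ψ c := by
        show x⁻¹ * θ1 c * x⁻¹⁻¹ = _
        rw [hci, inv_inv, mul_assoc, ← ex, inv_mul_cancel_left, hψc]
      have h3 := fix_both hω hF (ψ⁻¹ * θ2)
        (show ψ.symm (θ2 a) = a by rw [e2]; exact ψ.symm_apply_eq.2 hψa.symm)
        (show ψ.symm (θ2 c) = c by rw [e3]; exact ψ.symm_apply_apply c)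
      rw [hθ, show ψ⁻¹ * (MulAut.conj (g⁻¹ * x) * θ2) =
        (ψ⁻¹ * MulAut.conj (g⁻¹ * x) * ψ) * (ψ⁻¹ * θ2) by group]
      refine mul_mem ?_ h3
      have := (Cfsg.innNormal (J3 F ω)).conj_mem _ ⟨g⁻¹ * x, rfl⟩ ψ⁻¹
      rwa [inv_inv] at this
  show Nat.card (MulAut (J3 F ω) ⧸ Cfsg.Inn (J3 F ω)) = 2
  rw [Nat.card_eq_two_iff]
  refine ⟨QuotientGroup.mk 1, QuotientGroup.mk ψ, fun e => hnot ?_, Set.eq_univ_of_forall fun q => ?_⟩
  · simpa using QuotientGroup.eq.1 e
  · obtain ⟨θ, rfl⟩ := QuotientGroup.mk_surjective q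
    rcases hall θ with h | h
    · left; exact QuotientGroup.eq.2 (by simpa using inv_mem h)
    · right; exact (QuotientGroup.eq.2 h).symm

end CfsgLib.Sporadic.J3
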