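import Cfsg.Agent.Lib.Sporadic.MclOutFixed
import Cfsg.Prelude.Def_Spor_Conway

/-!
# The outer automorphism group of McL

The two kinds of copies of M22 are exchanged by an element of the stabiliser in the lattice group
that swaps the split pair; an automorphism preserving the stabiliser of a vector of the first kind
is inner, because each suborbit of the 2025 vectors has a representative pinned by its stabiliser.
-/

set_option autoImplicit false

namespace CfsgLib.Sporadic.MclOut

open Cfsg MulAction CfsgLib.Sporadic CfsgLib.Sporadic.Conway CfsgLib.ThreeTrans.Leech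
open CfsgLib.Sporadic.IndexTwoTwo (M22pt card_M22pt exists_elt)
open scoped Pointwise

attribute [local irreducible] OTree.entries mclTwentyTree

set_option maxHeartbeats 1000000

/-- The 2025 vectors. -/
def T2025 : Type := {x : ↥leechLattice // x ∈ DS [(fiveElt, (16 : ℤ)), (pairElt, 0)]}

theorem card_T2025 : Nat.card T2025 = 2025 := by
  rw [show Nat.card T2025 = Nat.card ↥(DS [(fiveElt, (16 : ℤ)), (pairElt, 0)]) from rfl, Nat.card_coe_set_eq,
    twenty_set.1]

noncomputable local instance actT : MulAction ↥G T2025 where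
  smul g x := ⟨g.1 • x.1, smul_mem_DS (fun p hp => mem_fixGroup.1 g.2 p.1 (by
    simp at hp ⊢; rcases hp with rfl | rfl <;> simp)) x.2⟩
  one_smul x := Subtype.ext (one_smul _ x.1)
  mul_smul a b x := Subtype.ext (mul_smul a.1 b.1 x.1)

theorem t_val (g : ↥G) (x : T2025) : (g • x).1 = g.1 • x.1 := rfl

/-- The base point. -/
noncomputable def base : T2025 := ⟨twentyPt, twentyPt_mem⟩

theorem finite_G : Finite ↥G := Nat.finite_of_card_ne_zero (by rw [card_fix_mcl]; norm_num)

theorem trans_T : IsPretransitive ↥G T2025 := ⟨fun x y => by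
  obtain ⟨g, hg, hgf⟩ := twenty_set.2.1 x.1 x.2 y.1 y.2
  exact ⟨⟨g, mem_fixGroup.2 hgf⟩, Subtype.ext hg⟩⟩

theorem card_stab_base : Nat.card ↥(stabilizer ↥G base) = 443520 := by
  haveI := trans_T
  have h := (stabilizer ↥G base).card_mul_index
  rw [index_stabilizer_of_transitive, card_T2025, card_fix_mcl] at h
  exact Nat.eq_of_mul_eq_mul_right (m := 2025) (by norm_num) (h.trans (by norm_num))

theorem perm_mem_G (u : ↥M22pt) : permHom u.1 ∈ G := mem_fixGroup.2 fun v hv => by
  simp only [List.mem_cons, List.not_mem_nil, or_false] at hv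
  rcases hv with rfl | rfl
  · exact perm_fix_five u.2.1
  · exact perm_fix_pair (mem_twoPt.2 ⟨u.2.1, u.2.2⟩)

/-- The standard copy of M22. -/
noncomputable def iota : ↥M22pt →* ↥G where
  toFun u := ⟨permHom u.1, perm_mem_G u⟩
  map_one' := Subtype.ext (map_one permHom)
  map_mul' a b := Subtype.ext (map_mul permHom a.1 b.1)

theorem iota_val (u : ↥M22pt) : (iota u).1 = permHom u.1 := rfl

theorem iota_injective : Function.Injective iota := fun _ _ h =>
  Subtype.ext (permHom_injective (congrArg Subtype.val h))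

theorem iota_mem (u : ↥M22pt) : iota u ∈ stabilizer ↥G base :=
  Subtype.ext (perm_fix_z (mem_twoPt.2 ⟨u.2.1, u.2.2⟩))

theorem iota_range : iota.range = stabilizer ↥G base := by
  haveI := finite_G
  refine Subgroup.eq_of_le_of_card_ge (by rintro _ ⟨u, rfl⟩; exact iota_mem u) ?_
  rw [card_stab_base, ← Nat.card_congr (MonoidHom.ofInjective iota_injective).toEquiv, card_M22pt]

/-! ### the exchange of the two kinds -/

theorem partner_mem : fiveElt - splitPt ∈ DS [(fiveElt, (24 : ℤ))] :=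
  ⟨show sqNorm (pv kFive - pv kPair) = 32 by decide +kernel, by
    simp only [List.forall_mem_cons]
    exact ⟨show dotInt (pv kFive) (pv kFive - pv kPair) = 24 by decide +kernel, by simp⟩⟩

theorem exists_exchange : ∃ g : ↥Co0, g • fiveElt = fiveElt ∧ g • pairElt = fiveElt - pairElt ∧
    g • (fiveElt - pairElt) = pairElt := by
  obtain ⟨g, hg, hgf⟩ := split_set.2.1 splitPt splitPt_mem _ partner_mem
  have h5 := hgf fiveElt List.mem_cons_self
  rw [splitPt_eq] at hg
  exact ⟨g, h5, hg, by rw [smul_sub', h5, hg, sub_sub_cancel]⟩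

theorem conj_mem {g x : ↥Co0} (h5 : g • fiveElt = fiveElt) (hp : g • pairElt = fiveElt - pairElt)
    (hp' : g • (fiveElt - pairElt) = pairElt) (hx : x ∈ G) : g * x * g⁻¹ ∈ G ∧ g⁻¹ * x * g ∈ G := by
  have f5 : x • fiveElt = fiveElt := mem_fixGroup.1 hx _ (by simp)
  have fp : x • pairElt = pairElt := mem_fixGroup.1 hx _ (by simp)
  have fp' : x • (fiveElt - pairElt) = fiveElt - pairElt := by rw [smul_sub', f5, fp]
  have i5 : g⁻¹ • fiveElt = fiveElt := inv_smul_eq_iff.2 h5.symm
  have ip : g⁻¹ • pairElt = fiveElt - pairElt := inv_smul_eq_iff.2 hp'.symm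
  have ip' : g⁻¹ • (fiveElt - pairElt) = pairElt := inv_smul_eq_iff.2 hp.symm
  constructor <;> refine mem_fixGroup.2 fun v hv => ?_ <;>
    simp only [List.mem_cons, List.not_mem_nil, or_false] at hv <;> rcases hv with rfl | rfl <;>
    simp only [mul_smul]
  · rw [i5, f5, h5]
  · rw [ip, fp', hp']
  · rw [h5, f5, i5]
  · rw [hp, fp', ip']

theorem no_middle_vector (v : ↥leechLattice) (hn : sqNorm (v : Vec) = 32)
    (h5 : dotInt (fiveElt : Vec) (v : Vec) = 16) (hp : dotInt (fiveElt : Vec) (v : Vec) - dotInt (pairElt : Vec) (v : Vec) = 0)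
    (hfix : ∀ u, (iota u).1 • v = v) : False := by
  classical
  have hconst : ∀ i : GolayPt, i ≠ none → i ≠ some 0 → (v : Vec) i = (v : Vec) (some 1) := by
    intro i hi hi0
    obtain ⟨π, hπ⟩ := exists_map_list (xs := [none, some 0, some 1]) (ys := [none, some 0, i])
      (by decide) (by simp [Ne.symm hi, Ne.symm hi0]) rfl (by simp)
    simp only [List.map_cons, List.map_nil, List.cons.injEq, and_true] at hπ
    have e := congrArg (fun z : ↥leechLattice => (z : Vec) i) (hfix ⟨π, hπ.1, hπ.2.1⟩)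
    change (v : Vec) (π.1.symm i) = (v : Vec) i at e
    rw [show π.1.symm i = some 1 from π.1.symm_apply_eq.2 hπ.2.2.symm] at e
    exact e.symm
  set a := (v : Vec) none
  set b := (v : Vec) (some 0)
  set c := (v : Vec) (some 1)
  set R := (Finset.univ : Finset GolayPt) \ {none, some 0} with hR
  have hsplit : ∀ F : GolayPt → ℤ → ℤ,
      ∑ i, F i ((v : Vec) i) = F none a + F (some 0) b + ∑ i ∈ R, F i c := by
    intro F
    rw [← Finset.sum_sdiff (f := fun i => F i ((v : Vec) i)) (Finset.subset_univ ({none, some 0} : Finset GolayPt)),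
      Finset.sum_pair (by simp), add_comm]
    refine congrArg _ (Finset.sum_congr rfl fun i hi => ?_)
    simp only [hR, Finset.mem_sdiff, Finset.mem_insert, Finset.mem_singleton, not_or] at hi
    rw [hconst i hi.2.1 hi.2.2]
  have hRc : R.card = 22 := by rw [hR]; decide
  have hn' : a ^ 2 + b ^ 2 + 22 * c ^ 2 = 32 := by
    rw [← hn, sqNorm, hsplit fun _ t => t ^ 2, Finset.sum_const, hRc]
    simp
  have hf' : 5 * a + b + 22 * c = 16 := by
    rw [← h5, dotInt, hsplit fun i t => (fiveElt : Vec) i * t,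
      show (fiveElt : Vec) = pv kFive from rfl,
      Finset.sum_congr rfl (g := fun _ => c) fun i hi => by
        simp only [hR, Finset.mem_sdiff, Finset.mem_insert, Finset.mem_singleton, not_or] at hi
        rw [five_shape, if_neg hi.2.1, one_mul],
      Finset.sum_const, hRc, five_shape, five_shape]
    simp
  have hp' : 4 * a + 4 * b = 16 := by
    have e : dotInt (pairElt : Vec) (v : Vec) = 16 := by linarith
    rw [← e, dotInt, hsplit fun i t => (pairElt : Vec) i * t,
      show (pairElt : Vec) = pv kPair from rfl,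
      Finset.sum_congr rfl (g := fun _ => (0 : ℤ)) fun i hi => by
        simp only [hR, Finset.mem_sdiff, Finset.mem_insert, Finset.mem_singleton, not_or] at hi
        rw [pair_shape, if_neg hi.2.1, if_neg hi.2.2, zero_mul],
      Finset.sum_const_zero, pair_shape, pair_shape]
    simp
  have hc1 : -1 ≤ c ∧ c ≤ 1 := ⟨by nlinarith [sq_nonneg a, sq_nonneg b], by nlinarith [sq_nonneg a, sq_nonneg b]⟩
  obtain ⟨hc2, hc3⟩ := hc1
  interval_cases c
  · omega
  · have ha : a = 3 := by omega
    have hb : b = 1 := by omega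
    rw [ha, hb] at hn'
    norm_num at hn'
  · omega

/-! ### pinned representatives -/

/-- The packed permutation fixes the packed vector. -/
noncomputable def fixKey (p k : ℕ) : Bool := forallLt 24 fun i => Nat.beq (nib k (pget p i)) (nib k i)

theorem fixKey_of_fix {u : ↥M22pt} {p k : ℕ} (hu : Rep (((u : ↥M22pt) : ↥M24) : Equiv.Perm GolayPt) p)
    {x : ↥leechLattice} (hx : (x : Vec) = pv k) (h : (iota u).1 • x = x) : fixKey p k = true := by
  rw [fixKey, forallLt_iff]
  intro i hi
  rw [Nat.beq_eq]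
  have e := congrArg (fun z : ↥leechLattice => (z : Vec) (u.1.1 (pt i))) h
  change (x : Vec) (u.1.1.symm (u.1.1 (pt i))) = (x : Vec) (u.1.1 (pt i)) at e
  rw [Equiv.symm_apply_apply, hx] at e
  simp only [pv, ix_pt hi, ← hu (pt i)] at e
  omega

theorem fix_of_fixKey {u : ↥M22pt} {p k : ℕ} (hu : Rep (((u : ↥M22pt) : ↥M24) : Equiv.Perm GolayPt) p)
    {x : ↥leechLattice} (hx : (x : Vec) = pv k) (h : fixKey p k = true) : (iota u).1 • x = x := by
  refine Subtype.ext (funext fun i => ?_)
  show (x : Vec) (u.1.1.symm i) = (x : Vec) i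
  obtain ⟨j, rfl⟩ := u.1.1.surjective i
  rw [Equiv.symm_apply_apply, hx]
  have h' := forallLt_elim h (ix_lt j)
  rw [Nat.beq_eq, hu j] at h'
  simp only [pv, h']

theorem reps_ok :
    ((LTest (pv rep462) ∧ sqNorm (pv rep462) = 32 ∧ dotInt (pv kFive) (pv rep462) = 16 ∧
      dotInt (pv kPair) (pv rep462) = 0 ∧ dotInt (pv 62062060636173731114942761092) (pv rep462) = 16)) ∧
    ((LTest (pv rep1232) ∧ sqNorm (pv rep1232) = 32 ∧ dotInt (pv kFive) (pv rep1232) = 16 ∧
      dotInt (pv kPair) (pv rep1232) = 0 ∧ dotInt (pv 62062060636173731114942761092) (pv rep1232) = 8)) ∧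
    ((LTest (pv rep330) ∧ sqNorm (pv rep330) = 32 ∧ dotInt (pv kFive) (pv rep330) = 16 ∧
      dotInt (pv kPair) (pv rep330) = 0 ∧ dotInt (pv 62062060636173731114942761092) (pv rep330) = 0)) := by
  decide +kernel

/-- The generators are elements of the two-point stabiliser fixing the representative. -/
noncomputable def gensOK (gs : List ℕ) (r : ℕ) : Bool :=
  gs.all fun p => isAut p && Nat.beq (pget p 23) 23 && Nat.beq (pget p 0) 0 && fixKey p r

/-- Only the base and the given vector pass. -/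
noncomputable def pinOK (gs : List ℕ) (r : ℕ) : Bool :=
  mclTwentyTree.entries.all fun e =>
    ! (gs.all fun p => fixKey p e.1) || Nat.beq e.1 62062060636173731114942761092 || Nat.beq e.1 r

theorem gens_ok : gensOK gens462 rep462 = true ∧ gensOK gens1232 rep1232 = true ∧ gensOK gens330 rep330 = true := by
  decide +kernel

theorem pins_ok : pinOK gens462 rep462 = true ∧ pinOK gens1232 rep1232 = true ∧ pinOK gens330 rep330 = true := by
  decide +kernel

theorem swap_ok : (isAut pSwap && Nat.beq (pget pSwap 23) 0 && Nat.beq (pget pSwap 0) 23 &&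
    Nat.beq (pmul pSwap pSwapInv) pone && isAut pSwapInv) = true := by
  decide +kernel

theorem swap_pin : pinOK (gens1232.map fun p => pmul (pmul pSwap p) pSwapInv) 62062060636173731114942761092 = true := by
  decide +kernel

/-- A vector fixed like the representative is the base or the representative. -/
theorem pin {gs : List ℕ} {r : ℕ} (h : pinOK gs r = true) (x : T2025)
    (hfix : ∀ p ∈ gs, ∃ u : ↥M22pt, Rep (((u : ↥M22pt) : ↥M24) : Equiv.Perm GolayPt) p ∧ (iota u) • x = x) :
    x = base ∨ (x.1 : Vec) = pv r := by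
  obtain ⟨e, he, ev⟩ := twenty_set.2.2 x.1 x.2
  have h' := List.all_eq_true.1 h e he
  have hall : (gs.all fun p => fixKey p e.1) = true := List.all_eq_true.2 fun p hp => by
    obtain ⟨u, hu, hux⟩ := hfix p hp
    exact fixKey_of_fix hu ev (congrArg Subtype.val hux)
  rw [hall] at h'
  simp only [Bool.not_true, Bool.or_eq_true, Bool.false_eq_true, false_or, Nat.beq_eq] at h'
  rcases h' with h' | h'
  · left
    exact Subtype.ext (Subtype.ext (show (x.1 : Vec) = pv 62062060636173731114942761092 by rw [ev, h']))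
  · right
    rw [ev, h']

/-- The point map of an automorphism keeping the base stabiliser. -/
theorem exists_point_map (φ : MulAut ↥G) (hkeep : ∀ a, φ a ∈ stabilizer ↥G base ↔ a ∈ stabilizer ↥G base) :
    ∃ π : T2025 → T2025, Function.Injective π ∧ π base = base ∧ ∀ a x, π (a • x) = φ a • π x := by
  haveI := trans_T
  choose t ht using fun x : T2025 => exists_smul_eq ↥G base x
  have key : ∀ a : ↥G, φ a • base = φ (t (a • base)) • base := by
    intro a
    have h : (t (a • base))⁻¹ * a ∈ stabilizer ↥G base := by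
      show ((t (a • base))⁻¹ * a) • base = base
      rw [mul_smul, inv_smul_eq_iff, ht]
    have h' : φ ((t (a • base))⁻¹ * a) • base = base := (hkeep _).2 h
    rwa [map_mul, map_inv, mul_smul, inv_smul_eq_iff] at h'
  refine ⟨fun x => φ (t x) • base, fun x y h => ?_, ?_, fun a x => ?_⟩
  · have h' : φ ((t y)⁻¹ * t x) ∈ stabilizer ↥G base := by
      show φ ((t y)⁻¹ * t x) • base = base
      rw [map_mul, map_inv, mul_smul, inv_smul_eq_iff]
      exact h
    have h'' : ((t y)⁻¹ * t x) • base = base := (hkeep _).1 h'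
    rwa [mul_smul, inv_smul_eq_iff, ht, ht] at h''
  · have h := key 1
    rw [map_one, one_smul] at h
    exact h.symm
  · show φ (t (a • x)) • base = φ a • φ (t x) • base
    rw [← mul_smul, ← map_mul, key (a * t x), mul_smul, ht]

theorem keep_of_map (φ : MulAut ↥G) (β : MulAut ↥M22pt) (h : ∀ u, φ (iota u) = iota (β u)) :
    ∀ a, φ a ∈ stabilizer ↥G base ↔ a ∈ stabilizer ↥G base := by
  intro a
  rw [← iota_range]
  constructor
  · rintro ⟨u, hu⟩
    refine ⟨β.symm u, φ.injective ?_⟩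
    rw [h, β.apply_symm_apply, hu]
  · rintro ⟨u, rfl⟩
    exact ⟨β u, (h u).symm⟩

/-- A representative as a point. -/
noncomputable def repPt (r : ℕ) (h : LTest (pv r) ∧ sqNorm (pv r) = 32 ∧ dotInt (pv kFive) (pv r) = 16 ∧
    dotInt (pv kPair) (pv r) = 0) : T2025 :=
  ⟨⟨pv r, pv_mem h.1⟩, h.2.1, by simp only [List.forall_mem_cons]; exact ⟨h.2.2.1, h.2.2.2, by simp⟩⟩

theorem gens_elt {gs : List ℕ} {r : ℕ} (h : gensOK gs r = true) {p : ℕ} (hp : p ∈ gs) :
    ∃ u : ↥M22pt, Rep (((u : ↥M22pt) : ↥M24) : Equiv.Perm GolayPt) p ∧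
      ∀ x : T2025, (x.1 : Vec) = pv r → iota u • x = x := by
  have h' := List.all_eq_true.1 h p hp
  simp only [Bool.and_eq_true] at h'
  obtain ⟨u, hu⟩ := exists_elt (p := p) (by simp only [Bool.and_eq_true]; exact h'.1)
  exact ⟨u, hu, fun x hx => Subtype.ext (fix_of_fixKey hu hx h'.2)⟩

/-- An automorphism fixing the base copy of M22 pointwise is trivial. -/
theorem eq_one_of_fix (φ : MulAut ↥G) (h : ∀ u, φ (iota u) = iota u) : φ = 1 := by
  haveI := trans_T
  haveI := finite_G
  obtain ⟨π, hπi, hπb, hπ⟩ := exists_point_map φ (keep_of_map φ 1 h)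
  have hrep : ∀ (r : ℕ) (gs : List ℕ) (hr : LTest (pv r) ∧ sqNorm (pv r) = 32 ∧ dotInt (pv kFive) (pv r) = 16 ∧
      dotInt (pv kPair) (pv r) = 0), gensOK gs r = true → pinOK gs r = true →
      π (repPt r hr) = repPt r hr := by
    intro r gs hr hg hp
    rcases pin hp (π (repPt r hr)) (fun p hp' => by
      obtain ⟨u, hu, hux⟩ := gens_elt hg hp'
      refine ⟨u, hu, ?_⟩
      rw [← h u, ← hπ, hux (repPt r hr) rfl]) with e | e
    · rw [← hπb] at e
      rw [hπi e, hπb]
    · exact Subtype.ext (Subtype.ext e)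
  have horb : ∀ (y : T2025) (k : ℤ), π y = y → dotInt (twentyPt : Vec) (y.1 : Vec) = k →
      Trans [fiveElt, pairElt, twentyPt] (DS [(fiveElt, 16), (pairElt, 0), (twentyPt, k)]) →
      ∀ x : T2025, dotInt (twentyPt : Vec) (x.1 : Vec) = k → π x = x := by
    intro y k hy hk ht x hx
    have hmem : ∀ z : T2025, dotInt (twentyPt : Vec) (z.1 : Vec) = k →
        z.1 ∈ DS [(fiveElt, 16), (pairElt, 0), (twentyPt, k)] := fun z hz => ⟨z.2.1, by
      simp only [List.forall_mem_cons]
      exact ⟨z.2.2 _ List.mem_cons_self, z.2.2 (pairElt, 0) (by simp), hz, by simp⟩⟩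
    obtain ⟨g, hg, hgf⟩ := ht y.1 (hmem y hk) x.1 (hmem x hx)
    have hgG : g ∈ G := mem_fixGroup.2 fun v hv => hgf v (by simp at hv ⊢; tauto)
    have hgs : (⟨g, hgG⟩ : ↥G) ∈ stabilizer ↥G base := Subtype.ext (hgf twentyPt (by simp))
    rw [← iota_range] at hgs
    obtain ⟨u, hu⟩ := hgs
    have e : iota u • y = x := by rw [hu]; exact Subtype.ext hg
    rw [← e, hπ, h, hy]
  obtain ⟨h462, h1232, h330⟩ := reps_ok
  have hall : ∀ x, π x = x := by
    intro x
    rcases ds_values twenty_set.2.2 (r := twentyPt) (root := 62062060636173731114942761092) rfl [0, 8, 16]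
      (by decide +kernel) x.2 with e | e
    · rw [show x = base from Subtype.ext e, hπb]
    simp only [List.mem_cons, List.not_mem_nil, or_false] at e
    rcases e with e | e | e
    · exact horb _ 0 (hrep rep330 gens330 ⟨h330.1, h330.2.1, h330.2.2.1, h330.2.2.2.1⟩ gens_ok.2.2 pins_ok.2.2)
        h330.2.2.2.2 twenty_sub0.2.1 x e
    · exact horb _ 8 (hrep rep1232 gens1232 ⟨h1232.1, h1232.2.1, h1232.2.2.1, h1232.2.2.2.1⟩ gens_ok.2.1 pins_ok.2.1)
        h1232.2.2.2.2 twenty_sub8.2.1 x e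
    · exact horb _ 16 (hrep rep462 gens462 ⟨h462.1, h462.2.1, h462.2.2.1, h462.2.2.2.1⟩ gens_ok.1 pins_ok.1)
        h462.2.2.2.2 twenty_sub16.2.1 x e
  have hact : ∀ a (x : T2025), φ a • x = a • x := fun a x => by
    have := hπ a x
    rw [hall, hall] at this
    exact this.symm
  let K : Subgroup ↥G := (MulAction.toPermHom ↥G T2025).ker
  haveI := simple_mcl
  have hK : K = ⊥ := by
    refine (Subgroup.Normal.eq_bot_or_eq_top (H := K) inferInstance).resolve_right fun htop => ?_
    have hone : ∀ x : T2025, x = base := fun x => by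
      obtain ⟨a, rfl⟩ := exists_smul_eq ↥G base x
      have ha : a ∈ K := htop ▸ Subgroup.mem_top a
      exact congrArg (fun e : Equiv.Perm T2025 => e base) (MonoidHom.mem_ker.1 ha)
    have : Subsingleton T2025 := ⟨fun x y => (hone x).trans (hone y).symm⟩
    have hc := Nat.card_of_subsingleton (α := T2025) base
    rw [card_T2025] at hc
    omega
  refine MulEquiv.ext fun a => ?_
  have hm : a⁻¹ * φ a ∈ K := MonoidHom.mem_ker.2 (Equiv.ext fun x => by
    show (a⁻¹ * φ a) • x = x
    rw [mul_smul, hact, inv_smul_smul])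
  rw [hK, Subgroup.mem_bot, inv_mul_eq_one] at hm
  exact hm.symm

/-- No automorphism extends the outer automorphism of the base copy of M22. -/
theorem false_of_swap (φ : MulAut ↥G) {τ : ↥M24} (hτ : Rep (τ : Equiv.Perm GolayPt) pSwap)
    (β : MulAut ↥M22pt) (hβ : ∀ u, ((β u : ↥M22pt) : ↥M24) = τ * u.1 * τ⁻¹)
    (h : ∀ u, φ (iota u) = iota (β u)) : False := by
  obtain ⟨π, hπi, hπb, hπ⟩ := exists_point_map φ (keep_of_map φ β h)
  obtain ⟨-, h1232, -⟩ := reps_ok
  let y : T2025 := repPt rep1232 ⟨h1232.1, h1232.2.1, h1232.2.2.1, h1232.2.2.2.1⟩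
  have hsw := swap_ok
  simp only [Bool.and_eq_true, Nat.beq_eq] at hsw
  obtain ⟨σ, hσ⟩ := exists_M24_elt hsw.2
  have hinv : τ⁻¹ = σ := by
    refine inv_eq_of_mul_eq_one_right (Subtype.ext ?_)
    rw [Subgroup.coe_mul, Subgroup.coe_one]
    exact ((hsw.1.2 : pmul pSwap pSwapInv = pone) ▸ hτ.mul hσ).unique Rep.one
  have hfix : ∀ p ∈ gens1232.map (fun p => pmul (pmul pSwap p) pSwapInv), ∃ u : ↥M22pt,
      Rep (((u : ↥M22pt) : ↥M24) : Equiv.Perm GolayPt) p ∧ iota u • π y = π y := by
    intro p hp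
    obtain ⟨q, hq, rfl⟩ := List.mem_map.1 hp
    obtain ⟨u, hu, hux⟩ := gens_elt gens_ok.2.1 hq
    refine ⟨β u, ?_, ?_⟩
    · rw [hβ, hinv]
      exact (hτ.mul hu).mul hσ
    · rw [← h, ← hπ, hux y rfl]
  have hb : π y = base := (pin swap_pin (π y) hfix).elim id fun e => Subtype.ext (Subtype.ext e)
  have hy : y = base := hπi (hb.trans hπb.symm)
  have e := congrArg (fun z : T2025 => dotInt (twentyPt : Vec) (z.1 : Vec)) hy
  rw [show dotInt (twentyPt : Vec) (y.1 : Vec) = 8 from h1232.2.2.2.2,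
    show dotInt (twentyPt : Vec) (base.1 : Vec) = 32 from show dotInt (pv 62062060636173731114942761092)
      (pv 62062060636173731114942761092) = 32 by decide +kernel] at e
  norm_num at e

theorem mem_sporM22 (u : ↥M22pt) : (u.1 : Equiv.Perm GolayPt) ∈ Spor.M22 :=
  M22Aut.mem_M22.2 ⟨u.1.2, u.2.1, u.2.2⟩

/-- The two descriptions of M22. -/
noncomputable def ptEquiv : ↥M22pt ≃* ↥Spor.M22 where
  toFun u := ⟨u.1.1, mem_sporM22 u⟩
  invFun x := ⟨⟨x.1, (M22Aut.mem_M22.1 x.2).1⟩, (M22Aut.mem_M22.1 x.2).2.1, (M22Aut.mem_M22.1 x.2).2.2⟩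
  left_inv u := rfl
  right_inv x := rfl
  map_mul' a b := rfl

/-- An automorphism is inner after composing with a fixed outer one, if necessary. -/
theorem exists_inner (g : ↥Co0) (h5 : g • fiveElt = fiveElt) (hp : g • pairElt = fiveElt - pairElt)
    (hp' : g • (fiveElt - pairElt) = pairElt) (σ : MulAut ↥G) (hσ : ∀ x, (σ x).1 = g * x.1 * g⁻¹)
    (φ : MulAut ↥G) : φ ∈ Cfsg.Inn ↥G ∨ σ * φ ∈ Cfsg.Inn ↥G := by
  haveI := trans_T
  haveI := finite_G
  have hψ : Function.Injective (φ.toMonoidHom.comp iota) := φ.injective.comp iota_injective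
  obtain ⟨z, hz, hzfix⟩ := exists_fixed_vector (φ.toMonoidHom.comp iota) hψ
  -- make the automorphism fix the base
  obtain ⟨δ, hδ, z₁, hz₁⟩ : ∃ δ : MulAut ↥G, (δ = φ ∨ δ = σ * φ) ∧ ∃ z₁ : T2025, ∀ u, δ (iota u) • z₁ = z₁ := by
    rcases hz with hz | hz
    · exact ⟨φ, Or.inl rfl, ⟨z, hz⟩, fun u => Subtype.ext (hzfix u)⟩
    · refine ⟨σ * φ, Or.inr rfl, ⟨g • z, ?_, ?_⟩, fun u => Subtype.ext ?_⟩
      · rw [norm_smul']; exact hz.1
      · have e5 : dotInt (fiveElt : Vec) (z : Vec) = 16 := hz.2 _ List.mem_cons_self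
        have ep : dotInt (pairElt : Vec) (z : Vec) = 16 := hz.2 (pairElt, 16) (by simp)
        simp only [List.forall_mem_cons]
        refine ⟨?_, ?_, by simp⟩
        · conv_lhs => rw [← h5]
          rw [dot_smul', e5]
        · conv_lhs => rw [← hp']
          rw [dot_smul', AddSubgroup.coe_sub,
            show dotInt ((fiveElt : Vec) - (pairElt : Vec)) (z : Vec) =
              dotInt (fiveElt : Vec) (z : Vec) - dotInt (pairElt : Vec) (z : Vec) by
              simp only [dotInt, Pi.sub_apply, sub_mul, Finset.sum_sub_distrib],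
            e5, ep]
          norm_num
      · show (σ (φ (iota u))).1 • g • z = g • z
        rw [hσ, mul_smul, mul_smul, inv_smul_smul]
        exact congrArg (g • ·) (hzfix u)
  obtain ⟨k, hk⟩ := exists_smul_eq ↥G z₁ base
  let θ : MulAut ↥G := MulAut.conj k * δ
  have hθ : ∀ u, θ (iota u) ∈ stabilizer ↥G base := fun u => by
    show (k * δ (iota u) * k⁻¹) • base = base
    rw [mul_smul, mul_smul, ← hk, inv_smul_smul, hz₁]
  have hmap : (stabilizer ↥G base).map θ.toMonoidHom = stabilizer ↥G base := by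
    refine Subgroup.eq_of_le_of_card_ge ?_ (le_of_eq (Subgroup.card_map_of_injective θ.injective).symm)
    rintro _ ⟨a, ha, rfl⟩
    rw [SetLike.mem_coe, ← iota_range] at ha
    obtain ⟨u, rfl⟩ := ha
    exact hθ u
  let e : ↥M22pt ≃* ↥(stabilizer ↥G base) :=
    (MonoidHom.ofInjective iota_injective).trans (MulEquiv.subgroupCongr iota_range)
  let α : MulAut ↥M22pt :=
    (e.trans ((θ.subgroupMap (stabilizer ↥G base)).trans (MulEquiv.subgroupCongr hmap))).trans e.symm
  have hα : ∀ u, θ (iota u) = iota (α u) := fun u => by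
    have : (e (α u)).1 = θ (iota u) := by
      simp only [α, MulEquiv.trans_apply, MulEquiv.apply_symm_apply]
      rfl
    exact this.symm
  obtain ⟨h, hM, hcases, hh⟩ := M22Aut.aut_conj ((ptEquiv.symm.trans α).trans ptEquiv)
  have hαh : ∀ u : ↥M22pt, ((α u).1 : Equiv.Perm GolayPt) = h * (u.1 : Equiv.Perm GolayPt) * h⁻¹ := fun u => by
    have := hh (ptEquiv u)
    simpa [ptEquiv] using this
  obtain ⟨τ, hτ⟩ := exists_M24_elt (p := pSwap) (by
    have := swap_ok; simp only [Bool.and_eq_true] at this; exact this.1.1.1.1)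
  have hτ0 : τ.1 none = some 0 ∧ τ.1 (some 0) = none := by
    have hs := swap_ok
    simp only [Bool.and_eq_true, Nat.beq_eq] at hs
    exact ⟨ix_injective (by rw [← hτ none]; exact hs.1.1.1.2), ix_injective (by rw [← hτ (some 0)]; exact hs.1.1.2)⟩
  rcases hcases with ⟨ha, hb⟩ | ⟨ha, hb⟩
  · -- inner
    let m : ↥M22pt := ⟨⟨h, hM⟩, ha, hb⟩
    have h1 : MulAut.conj (iota m)⁻¹ * θ = 1 := eq_one_of_fix _ fun u => by
      show (iota m)⁻¹ * θ (iota u) * (iota m)⁻¹⁻¹ = iota u
      rw [hα, inv_inv, ← map_inv, ← map_mul, ← map_mul]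
      refine congrArg iota (Subtype.ext (Subtype.ext ?_))
      show h⁻¹ * ((α u).1 : Equiv.Perm GolayPt) * h = _
      rw [hαh]
      group
    have hmem : δ ∈ Cfsg.Inn ↥G := by
      refine ⟨k⁻¹ * iota m, ?_⟩
      rw [map_mul, map_inv]
      calc (MulAut.conj k)⁻¹ * MulAut.conj (iota m)
          = (MulAut.conj k)⁻¹ * MulAut.conj (iota m) * (MulAut.conj (iota m)⁻¹ * θ) := by rw [h1, mul_one]
        _ = δ := by rw [map_inv]; simp only [θ]; group
    rcases hδ with rfl | rfl
    · exact Or.inl hmem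
    · exact Or.inr hmem
  · exfalso
    have hmn : (h * (τ : Equiv.Perm GolayPt)⁻¹) none = none := by
      rw [Equiv.Perm.mul_apply, Equiv.Perm.inv_eq_iff_eq.2 hτ0.2.symm, hb]
    have hm0 : (h * (τ : Equiv.Perm GolayPt)⁻¹) (some 0) = some 0 := by
      rw [Equiv.Perm.mul_apply, Equiv.Perm.inv_eq_iff_eq.2 hτ0.1.symm, ha]
    let m : ↥M22pt := ⟨⟨_, mul_mem hM (inv_mem τ.2)⟩, hmn, hm0⟩
    refine false_of_swap (MulAut.conj (iota m)⁻¹ * θ) hτ (MulAut.conj m⁻¹ * α) (fun u => ?_) fun u => ?_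
    · refine Subtype.ext ?_
      show (h * (τ : Equiv.Perm GolayPt)⁻¹)⁻¹ * ((α u).1 : Equiv.Perm GolayPt) * (h * (τ : Equiv.Perm GolayPt)⁻¹)⁻¹⁻¹ = _
      rw [hαh]
      show _ = (τ : Equiv.Perm GolayPt) * (u.1 : Equiv.Perm GolayPt) * (τ : Equiv.Perm GolayPt)⁻¹
      group
    · show (iota m)⁻¹ * θ (iota u) * (iota m)⁻¹⁻¹ = iota (m⁻¹ * α u * m⁻¹⁻¹)
      rw [hα]
      simp only [map_mul, map_inv]

theorem card_out : Nat.card (Cfsg.Out ↥G) = 2 := by
  haveI := finite_G
  obtain ⟨g, h5, hp, hp'⟩ := exists_exchange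
  let σ : MulAut ↥G :=
    { toFun := fun x => ⟨g * x.1 * g⁻¹, (conj_mem h5 hp hp' x.2).1⟩
      invFun := fun x => ⟨g⁻¹ * x.1 * g, (conj_mem h5 hp hp' x.2).2⟩
      left_inv := fun x => Subtype.ext (by group)
      right_inv := fun x => Subtype.ext (by group)
      map_mul' := fun x y => Subtype.ext (by simp [mul_assoc]) }
  have hσ : σ ∉ Cfsg.Inn ↥G := by
    rintro ⟨k, hk⟩
    have hcomm : ∀ x : ↥G, (k.1⁻¹ * g) * x.1 = x.1 * (k.1⁻¹ * g) := fun x => by
      have e : k.1 * x.1 * k.1⁻¹ = g * x.1 * g⁻¹ :=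
        congrArg (fun f : MulAut ↥G => (f x).1) hk
      calc (k.1⁻¹ * g) * x.1 = k.1⁻¹ * (g * x.1 * g⁻¹) * g := by group
        _ = k.1⁻¹ * (k.1 * x.1 * k.1⁻¹) * g := by rw [e]
        _ = _ := by group
    have k5 : k.1⁻¹ • fiveElt = fiveElt := mem_fixGroup.1 (inv_mem k.2) _ (by simp)
    have kp : k.1⁻¹ • pairElt = pairElt := mem_fixGroup.1 (inv_mem k.2) _ (by simp)
    have c5 : (k.1⁻¹ * g) • fiveElt = fiveElt := by rw [mul_smul, h5, k5]
    have cp : (k.1⁻¹ * g) • pairElt = fiveElt - pairElt := by rw [mul_smul, hp, smul_sub', k5, kp]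
    refine no_middle_vector ((k.1⁻¹ * g) • twentyPt) ?_ ?_ ?_ fun u => ?_
    · rw [norm_smul']; exact twentyPt_mem.1
    · conv_lhs => rw [← c5]
      rw [dot_smul']
      exact twentyPt_mem.2 _ List.mem_cons_self
    · rw [← show dotInt ((fiveElt : Vec) - (pairElt : Vec)) (((k.1⁻¹ * g) • twentyPt : ↥leechLattice) : Vec) =
          dotInt (fiveElt : Vec) (((k.1⁻¹ * g) • twentyPt : ↥leechLattice) : Vec) -
          dotInt (pairElt : Vec) (((k.1⁻¹ * g) • twentyPt : ↥leechLattice) : Vec) by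
          simp only [dotInt, Pi.sub_apply, sub_mul, Finset.sum_sub_distrib],
        ← AddSubgroup.coe_sub, ← cp, dot_smul']
      exact twentyPt_mem.2 (pairElt, 0) (by simp)
    · rw [← mul_smul, ← hcomm, mul_smul]
      exact congrArg ((k.1⁻¹ * g) • ·) (congrArg Subtype.val (show iota u • base = base from iota_mem u))
  have hkey := exists_inner g h5 hp hp' σ (fun x => rfl)
  have hσσ : σ * σ ∈ Cfsg.Inn ↥G := (hkey σ).resolve_left hσ
  refine Nat.card_eq_two_iff.2 ⟨1, QuotientGroup.mk σ, fun e => hσ ((QuotientGroup.eq_one_iff σ).1 e.symm),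
    Set.eq_univ_of_forall fun a => ?_⟩
  induction a using QuotientGroup.induction_on with | H φ =>
  rcases hkey φ with h | h
  · exact Or.inl ((QuotientGroup.eq_one_iff φ).2 h)
  · refine Or.inr (Set.mem_singleton_iff.2 ?_)
    have e1 : (QuotientGroup.mk σ : Cfsg.Out ↥G) * QuotientGroup.mk φ = 1 :=
      (QuotientGroup.eq_one_iff (σ * φ)).2 h
    have e2 : (QuotientGroup.mk σ : Cfsg.Out ↥G) * QuotientGroup.mk σ = 1 :=
      (QuotientGroup.eq_one_iff (σ * σ)).2 hσσ
    exact mul_left_cancel (e1.trans e2.symm)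

theorem map_fixGroup_mcl : G.map (Cfsg.Co0).subtype = Spor.McL := by
  have hV : Spor.leechV = -fiveElt := by
    refine Subtype.ext (funext fun i => ?_)
    show Spor.vecV i = -(pv kFive i)
    rw [five_shape i]
    unfold Spor.vecV
    split_ifs <;> rfl
  have hU : Spor.leechU = pairElt := by
    refine Subtype.ext (funext fun i => ?_)
    show Spor.vecU i = pv kPair i
    rw [pair_shape i]
    unfold Spor.vecU
    by_cases h0 : i = none <;> by_cases h1 : i = some 0 <;> simp [h0, h1]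
  ext g
  constructor
  · rintro ⟨a, ha, rfl⟩
    have h := mem_fixGroup.1 ha
    refine ⟨⟨a.2, ?_⟩, ?_⟩
    · show a • Spor.leechV = Spor.leechV
      rw [hV, smul_neg', h _ (by simp)]
    · show a • Spor.leechU = Spor.leechU
      rw [hU, h _ (by simp)]
  · rintro ⟨⟨hg, hgV⟩, hgU⟩
    refine ⟨⟨g, hg⟩, mem_fixGroup.2 fun v hv => ?_, rfl⟩
    simp only [List.mem_cons, List.not_mem_nil, or_false] at hv
    rcases hv with rfl | rfl
    · have h : (⟨g, hg⟩ : ↥Cfsg.Co0) • Spor.leechV = Spor.leechV := hgV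
      rwa [hV, smul_neg', neg_inj] at h
    · have h : (⟨g, hg⟩ : ↥Cfsg.Co0) • Spor.leechU = Spor.leechU := hgU
      rwa [hU] at h

/-- The McL carrier is the stabiliser of the two vectors. -/
noncomputable def equivMcL : ↥Spor.McL ≃* ↥G :=
  (MulEquiv.subgroupCongr map_fixGroup_mcl.symm).trans
    (Subgroup.equivMapOfInjective _ _ (Cfsg.Co0).subtype_injective).symm

theorem card_out_McL : Nat.card (Cfsg.Out ↥Spor.McL) = 2 := by
  rw [← card_out]
  refine Nat.card_congr (QuotientGroup.congr (Cfsg.Inn ↥Spor.McL) (Cfsg.Inn ↥G) (MulAut.congr equivMcL) ?_).toEquiv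
  ext ψ
  constructor
  · rintro ⟨_, ⟨g, rfl⟩, rfl⟩
    exact ⟨equivMcL g, MulEquiv.ext fun x => by simp [MulAut.congr]⟩
  · rintro ⟨h, rfl⟩
    exact ⟨MulAut.conj (equivMcL.symm h), ⟨_, rfl⟩, MulEquiv.ext fun x => by simp [MulAut.congr]⟩

end CfsgLib.Sporadic.MclOut
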