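import Cfsg.Agent.Lib.Sporadic.ConwayMax

/-!
# Packed vectors and orbit certificates

A short vector is packed four bits a coordinate, offset by eight.  A search tree of packed vectors, each
carrying its depth and the word that moves it to a shallower one, certifies an orbit.
-/

set_option autoImplicit false

namespace CfsgLib.Sporadic.Conway

open Cfsg Finset CfsgLib.ThreeTrans.Leech CfsgLib.Sporadic.Lattice

/-- One packed coordinate. -/
noncomputable def nib (V i : ℕ) : ℕ := Nat.land (Nat.shiftRight V (Nat.mul 4 i)) 15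

/-- The vector of a packed number. -/
noncomputable def pv (V : ℕ) : Vec := fun i => (nib V (ix i) : ℤ) - 8

/-- The tetrads, position by position. -/
def tetPacked : ℕ := 763724803669980205166108763688241184

/-- The `j`-th point of tetrad `k`. -/
noncomputable def tpos (k j : ℕ) : ℕ := pget tetPacked (Nat.add (Nat.mul 4 k) j)

/-- The sum over a tetrad. -/
noncomputable def tsum (V k : ℕ) : ℕ :=
  Nat.add (Nat.add (Nat.add (nib V (tpos k 0)) (nib V (tpos k 1))) (nib V (tpos k 2))) (nib V (tpos k 3))

/-- One coordinate of the involution, checked. -/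
noncomputable def xiOK (a b k j : ℕ) : Bool :=
  cond (Nat.beq k 0)
    (Nat.beq (Nat.add (Nat.mul 2 (nib b (tpos k j))) (tsum a k)) (Nat.add 32 (Nat.mul 2 (nib a (tpos k j)))))
    (Nat.beq (Nat.mul 2 (Nat.add (nib b (tpos k j)) (nib a (tpos k j)))) (tsum a k))

/-- Whether a step carries `a` to `b`. -/
noncomputable def packOK (k p a b : ℕ) : Bool :=
  match k with
  | 0 => forallLt 6 fun t => forallLt 4 fun j => xiOK a b t j
  | 1 => forallLt 24 fun i => Nat.beq (nib b (pget p i)) (nib a i)
  | _ => forallLt 24 fun i => Nat.beq (cond (Nat.beq (bitAt p i) 1) (Nat.add (nib b i) (nib a i)) (nib b i))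
      (cond (Nat.beq (bitAt p i) 1) 16 (nib a i))

/-- The candidate image of a packed vector. -/
noncomputable def packImage (k p a : ℕ) : ℕ :=
  match k with
  | 0 => Nat.rec 0 (fun t acc => Nat.rec acc (fun j acc' => Nat.add acc' (Nat.shiftLeft
      (cond (Nat.beq t 0) (Nat.sub (Nat.add 16 (nib a (tpos t j))) (Nat.div (tsum a t) 2))
        (Nat.sub (Nat.div (tsum a t) 2) (nib a (tpos t j))))
      (Nat.mul 4 (tpos t j)))) 4) 6
  | 1 => Nat.rec 0 (fun i acc => Nat.add acc (Nat.shiftLeft (nib a i) (Nat.mul 4 (pget p i)))) 24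
  | _ => Nat.rec 0 (fun i acc => Nat.add acc (Nat.shiftLeft
      (cond (Nat.beq (bitAt p i) 1) (Nat.sub 16 (nib a i)) (nib a i)) (Nat.mul 4 i))) 24

/-- A step's parameter is that of an automorphism. -/
noncomputable def stepValid (s : ℕ × ℕ) : Bool :=
  match s.1 with
  | 0 => true
  | 1 => isAut s.2
  | _ => inCode s.2

/-- Run a word, checking every step. -/
noncomputable def evalWord : List (ℕ × ℕ) → ℕ → Option ℕ
  | [], a => some a
  | (k, p) :: rest, a => cond (packOK k p a (packImage k p a)) (evalWord rest (packImage k p a)) none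

theorem tpos_spec : ∀ i : GolayPt, ∃ k : Fin 6, ∃ j : Fin 4,
    ix i = tpos k.val j.val ∧ (k.val = 0 ↔ tetIx i = 0) ∧
      tet i = [pt (tpos k.val 0), pt (tpos k.val 1), pt (tpos k.val 2), pt (tpos k.val 3)].toFinset ∧
      [pt (tpos k.val 0), pt (tpos k.val 1), pt (tpos k.val 2), pt (tpos k.val 3)].Nodup ∧
      ∀ j' : Fin 4, ix (pt (tpos k.val j'.val)) = tpos k.val j'.val := by
  decide +kernel

theorem pack_xi {a b : ℕ} (h : packOK 0 0 a b = true) : xi (pv a) = pv b := by
  funext i
  obtain ⟨k, j, hi, hk0, htet, hnd, hpos⟩ := tpos_spec i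
  have h' : (forallLt 6 fun t => forallLt 4 fun j => xiOK a b t j) = true := h
  have hc := forallLt_elim (forallLt_elim h' k.2) j.2
  rw [xiOK] at hc
  have hs : ∑ x ∈ tet i, pv a x = (tsum a k.val : ℤ) - 32 := by
    rw [htet, List.sum_toFinset _ hnd]
    have p0 := hpos 0; have p1 := hpos 1; have p2 := hpos 2; have p3 := hpos 3
    simp only [Fin.val_zero, Fin.val_one] at p0 p1
    simp only [show ((2 : Fin 4) : ℕ) = 2 from rfl] at p2
    simp only [show ((3 : Fin 4) : ℕ) = 3 from rfl] at p3
    simp only [List.map_cons, List.map_nil, List.sum_cons, List.sum_nil, pv, p0, p1, p2, p3]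
    show _ = ((nib a (tpos k.val 0) + nib a (tpos k.val 1) + nib a (tpos k.val 2) + nib a (tpos k.val 3) : ℕ) : ℤ) - 32
    push_cast; ring
  rw [xi, hs]
  simp only [tetSign, pv, hi]
  by_cases h0 : k.val = 0
  · rw [if_pos (hk0.1 h0)]
    rw [h0, show Nat.beq 0 0 = true from rfl, cond_true, Nat.beq_eq] at hc
    rw [h0]
    have : nib a (tpos 0 j.val) ≤ 15 := Nat.and_le_right
    have : tsum a 0 ≤ 60 := by
      have hn : ∀ x, nib a x ≤ 15 := fun x => Nat.and_le_right
      have := hn (tpos 0 0); have := hn (tpos 0 1); have := hn (tpos 0 2); have := hn (tpos 0 3)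
      show nib a (tpos 0 0) + nib a (tpos 0 1) + nib a (tpos 0 2) + nib a (tpos 0 3) ≤ 60
      omega
    simp only [Nat.mul_eq, Nat.add_eq] at hc
    omega
  · rw [if_neg (fun e => h0 (hk0.2 e))]
    have hb : Nat.beq k.val 0 = false := by
      rw [← Bool.not_eq_true, Nat.beq_eq]; exact h0
    rw [hb, cond_false, Nat.beq_eq] at hc
    simp only [Nat.mul_eq, Nat.add_eq] at hc
    omega

theorem pack_perm {g : ↥M24} {p : ℕ} (hg : ∀ j, pget p (ix j) = ix (g.1 j)) {a b : ℕ}
    (h : packOK 1 p a b = true) : permVec g.1 (pv a) = pv b := by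
  have h' : (forallLt 24 fun i => Nat.beq (nib b (pget p i)) (nib a i)) = true := h
  funext i
  obtain ⟨j, rfl⟩ := g.1.surjective i
  show pv a (g.1.symm (g.1 j)) = pv b (g.1 j)
  have hc := forallLt_elim h' (ix_lt j)
  rw [Nat.beq_eq] at hc
  rw [Equiv.symm_apply_apply, pv, pv, ← hg j, hc]

theorem pack_flip {k p a b : ℕ} (h : packOK (k + 2) p a b = true) :
    flipVec (setOfMask p) (pv a) = pv b := by
  have h' : (forallLt 24 fun i => Nat.beq (cond (Nat.beq (bitAt p i) 1) (Nat.add (nib b i) (nib a i)) (nib b i))
      (cond (Nat.beq (bitAt p i) 1) 16 (nib a i))) = true := h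
  funext i
  have hc := forallLt_elim h' (ix_lt i)
  rw [Nat.beq_eq] at hc
  simp only [flipVec, pv, mem_setOfMask]
  rw [bitAt_eq] at hc
  cases hb : p.testBit (ix i)
  · rw [hb] at hc
    simp only [Bool.false_eq_true, if_false] at hc ⊢
    rw [show Nat.beq 0 1 = false from rfl, cond_false, cond_false] at hc
    rw [hc]
  · rw [hb] at hc
    simp only [if_true] at hc ⊢
    rw [show Nat.beq 1 1 = true from rfl, cond_true, cond_true] at hc
    simp only [Nat.add_eq] at hc
    omega

/-- A valid word is one fixed automorphism. -/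
theorem packElt : ∀ w : List (ℕ × ℕ), w.all stepValid = true → ∃ g : ↥Co0,
    ∀ a b, evalWord w a = some b → ∀ v : ↥leechLattice, (v : Vec) = pv a →
      ((g • v : ↥leechLattice) : Vec) = pv b := by
  intro w
  induction w with
  | nil =>
    intro _
    refine ⟨1, fun a b h v hv => ?_⟩
    rw [show evalWord [] a = some a from rfl, Option.some.injEq] at h
    rw [one_smul, hv, h]
  | cons s rest ih =>
    intro hw
    rw [List.all_cons, Bool.and_eq_true] at hw
    obtain ⟨g2, e2⟩ := ih hw.2
    obtain ⟨k, p⟩ := s
    obtain ⟨g1, e1⟩ : ∃ g : ↥Co0, ∀ a b, packOK k p a b = true → ∀ v : ↥leechLattice, (v : Vec) = pv a →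
        ((g • v : ↥leechLattice) : Vec) = pv b := by
      rcases k with - | - | k
      · exact ⟨xiElt, fun a b h v hv => by rw [xiElt_apply, hv]; exact pack_xi h⟩
      · obtain ⟨g, hg⟩ := exists_M24_elt (show isAut p = true from hw.1)
        exact ⟨permElt g.2, fun a b h v hv => by rw [permElt_apply, hv]; exact pack_perm hg h⟩
      · have hp : inCode p = true := hw.1
        have hs : setOfMask p ∈ supports (golayCode : Set (GolayPt → ZMod 2)) := by
          rw [mem_supports_iff, maskOf_setOfMask (inCode_lt hp)]; exact hp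
        exact ⟨flipElt hs, fun a b h v hv => by rw [flipElt_apply, hv]; exact pack_flip h⟩
    refine ⟨g2 * g1, fun a b h v hv => ?_⟩
    rw [show evalWord ((k, p) :: rest) a =
      cond (packOK k p a (packImage k p a)) (evalWord rest (packImage k p a)) none from rfl] at h
    cases hc : packOK k p a (packImage k p a) <;> rw [hc] at h
    · exact absurd h (by simp)
    · rw [mul_smul]; exact e2 _ b h _ (e1 a _ hc v hv)

/-! ### search trees -/

/-- A search tree of packed vectors.  Beside a key: sixteen times its depth plus the index of a word,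
and the shallower key that this word carries to it. -/
inductive OTree where
  | leaf : OTree
  | node : OTree → ℕ → ℕ → ℕ → OTree → OTree

/-- Its entries. -/
def OTree.entries : OTree → List (ℕ × ℕ × ℕ)
  | .leaf => []
  | .node l k d u r => l.entries ++ (k, d, u) :: r.entries

/-- Its size. -/
noncomputable def OTree.size : OTree → ℕ
  | .leaf => 0
  | .node l _ _ _ r => Nat.succ (Nat.add l.size r.size)

/-- Keys increase and lie in `[lo, hi)`. -/
noncomputable def OTree.sorted : OTree → ℕ → ℕ → Bool
  | .leaf, _, _ => true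
  | .node l k _ _ r, lo, hi => Nat.ble lo k && (Nat.blt k hi && (l.sorted lo k && r.sorted (Nat.succ k) hi))

/-- Look a key up. -/
noncomputable def OTree.find : OTree → ℕ → Option ℕ
  | .leaf, _ => none
  | .node l k d u r, q => cond (Nat.beq q k) (some d) (cond (Nat.blt q k) (l.find q) (r.find q))

/-- One entry moves to a shallower one. -/
noncomputable def entryOK (gens : List (List (ℕ × ℕ))) (root : ℕ) (T : OTree) (k d u : ℕ) : Bool :=
  cond (Nat.beq k root) true
    (match T.find u with
     | none => false
     | some d' => Nat.blt (Nat.div d' 16) (Nat.div d 16) &&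
       (match evalWord (gens.getD (Nat.mod d 16) []) u with
        | none => false
        | some w => Nat.beq w k))

/-- Every entry moves to a shallower one. -/
noncomputable def OTree.descends (gens : List (List (ℕ × ℕ))) (root : ℕ) (T : OTree) : OTree → Bool
  | .leaf => true
  | .node l k d u r => entryOK gens root T k d u && (OTree.descends gens root T l && OTree.descends gens root T r)

theorem OTree.size_eq : ∀ T : OTree, T.size = T.entries.length
  | .leaf => rfl
  | .node l k d u r => by
    show Nat.succ (l.size + r.size) = _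
    rw [l.size_eq, r.size_eq, OTree.entries, List.length_append, List.length_cons]
    omega

theorem OTree.find_mem : ∀ {T : OTree} {q d : ℕ}, T.find q = some d → ∃ u, (q, d, u) ∈ T.entries
  | .leaf, q, d, h => by simp [OTree.find] at h
  | .node l k d' u r, q, d, h => by
    rw [OTree.find] at h
    simp only [OTree.entries, List.mem_append, List.mem_cons]
    cases hb : Nat.beq q k <;> rw [hb] at h
    · rw [cond_false] at h
      cases hl : Nat.blt q k <;> rw [hl] at h
      · obtain ⟨v, hv⟩ := OTree.find_mem (T := r) h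
        exact ⟨v, Or.inr (Or.inr hv)⟩
      · obtain ⟨v, hv⟩ := OTree.find_mem (T := l) h
        exact ⟨v, Or.inl hv⟩
    · rw [cond_true, Option.some.injEq] at h
      exact ⟨u, Or.inr (Or.inl (by rw [Nat.beq_eq] at hb; rw [hb, h]))⟩

theorem OTree.sorted_spec : ∀ {T : OTree} {lo hi : ℕ}, T.sorted lo hi = true →
    (T.entries.map Prod.fst).Pairwise (· < ·) ∧ ∀ e ∈ T.entries, lo ≤ e.1 ∧ e.1 < hi
  | .leaf, lo, hi, _ => ⟨List.Pairwise.nil, fun e he => absurd he List.not_mem_nil⟩
  | .node l k d u r, lo, hi, h => by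
    simp only [OTree.sorted, Bool.and_eq_true, Nat.ble_eq, Nat.blt_eq] at h
    obtain ⟨h1, h2, hl, hr⟩ := h
    obtain ⟨pl, bl⟩ := OTree.sorted_spec hl
    obtain ⟨pr, br⟩ := OTree.sorted_spec hr
    refine ⟨?_, fun e he => ?_⟩
    · simp only [OTree.entries, List.map_append, List.map_cons]
      rw [List.pairwise_append]
      refine ⟨pl, List.pairwise_cons.2 ⟨fun x hx => ?_, pr⟩, fun x hx y hy => ?_⟩
      · obtain ⟨e, he, rfl⟩ := List.mem_map.1 hx
        have := (br e he).1; omega
      · obtain ⟨e, he, rfl⟩ := List.mem_map.1 hx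
        rcases List.mem_cons.1 hy with rfl | hy
        · exact (bl e he).2
        · obtain ⟨e', he', rfl⟩ := List.mem_map.1 hy
          have := (bl e he).2; have := (br e' he').1; omega
    · simp only [OTree.entries, List.mem_append, List.mem_cons] at he
      rcases he with he | rfl | he
      · have := bl e he; omega
      · exact ⟨h1, h2⟩
      · have := br e he; omega

theorem OTree.descends_spec {gens : List (List (ℕ × ℕ))} {root : ℕ} {T : OTree} : ∀ {S : OTree},
    OTree.descends gens root T S = true → ∀ e ∈ S.entries, entryOK gens root T e.1 e.2.1 e.2.2 = true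
  | .leaf, _, e, he => absurd he List.not_mem_nil
  | .node l k d u r, h, e, he => by
    simp only [OTree.descends, Bool.and_eq_true] at h
    simp only [OTree.entries, List.mem_append, List.mem_cons] at he
    rcases he with he | rfl | he
    · exact OTree.descends_spec h.2.1 e he
    · exact h.1
    · exact OTree.descends_spec h.2.2 e he

theorem pv_inj {a b : ℕ} (ha : a < 2 ^ 96) (hb : b < 2 ^ 96) (h : pv a = pv b) : a = b := by
  refine Nat.eq_of_testBit_eq fun n => ?_
  by_cases hn : n < 96
  · have := congrFun h (pt (n / 4))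
    simp only [pv, ix_pt (show n / 4 < 24 by omega)] at this
    have e : nib a (n / 4) = nib b (n / 4) := by omega
    have e' := congrArg (fun x => Nat.testBit x (n % 4)) e
    have h15 : Nat.testBit 15 (n % 4) = true := by
      have : n % 4 < 4 := Nat.mod_lt _ (by norm_num)
      interval_cases (n % 4) <;> rfl
    simp only [nib, Nat.land, Nat.shiftRight] at e'
    change Nat.testBit ((a >>> (4 * (n / 4))) &&& 15) _ = Nat.testBit ((b >>> (4 * (n / 4))) &&& 15) _ at e'
    rw [Nat.testBit_and, Nat.testBit_and, Nat.testBit_shiftRight, Nat.testBit_shiftRight, h15, Bool.and_true,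
      Bool.and_true, Nat.div_add_mod] at e'
    exact e'
  · have hle : 2 ^ 96 ≤ 2 ^ n := Nat.pow_le_pow_right (by norm_num) (by omega)
    rw [Nat.testBit_lt_two_pow (lt_of_lt_of_le ha hle), Nat.testBit_lt_two_pow (lt_of_lt_of_le hb hle)]

/-- All checks of one certificate. -/
noncomputable def orbitOK (gens : List (List (ℕ × ℕ))) (fixed : List ℕ) (root : ℕ) (T : OTree) (n : ℕ) : Bool :=
  (gens.all fun w => w.all stepValid && fixed.all fun f => decide (evalWord w f = some f)) &&
    (Nat.beq T.size n && (T.sorted 0 (2 ^ 96) && OTree.descends gens root T T))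

theorem descends_node {gens : List (List (ℕ × ℕ))} {root : ℕ} {T l r : OTree} {k d u : ℕ}
    (h1 : entryOK gens root T k d u = true) (h2 : OTree.descends gens root T l = true)
    (h3 : OTree.descends gens root T r = true) : OTree.descends gens root T (.node l k d u r) = true := by
  rw [OTree.descends, h1, h2, h3]; rfl

theorem orbitOK_of {gens : List (List (ℕ × ℕ))} {fixed : List ℕ} {root : ℕ} {T : OTree} {n : ℕ}
    (h1 : (gens.all fun w => w.all stepValid && fixed.all fun f => decide (evalWord w f = some f)) = true)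
    (h2 : Nat.beq T.size n = true) (h3 : T.sorted 0 (2 ^ 96) = true)
    (h4 : OTree.descends gens root T T = true) : orbitOK gens fixed root T n = true := by
  rw [orbitOK, h1, h2, h3, h4]; rfl

/-- A certified orbit of the common stabiliser: a set of that size containing the root is one orbit. -/
theorem orbit_of_cert {gens : List (List (ℕ × ℕ))} {fixed : List ℕ} {root : ℕ} {T : OTree} {n : ℕ}
    (h : orbitOK gens fixed root T n = true)
    (S : Set ↥leechLattice) (K : Subgroup ↥Co0)
    (hK : ∀ g : ↥Co0, (∀ f ∈ fixed, ∀ v : ↥leechLattice, (v : Vec) = pv f → g • v = v) → g ∈ K)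
    (hS : ∀ g ∈ K, ∀ x ∈ S, g • x ∈ S)
    (hcard : S.ncard ≤ n) (hfin : S.Finite) (r : ↥leechLattice) (hr : (r : Vec) = pv root) (hrS : r ∈ S) :
    S.ncard = n ∧ (∀ x ∈ S, ∃ g ∈ K, g • r = x) ∧ ∀ x ∈ S, ∃ e ∈ T.entries, (x : Vec) = pv e.1 := by
  simp only [orbitOK, Bool.and_eq_true, List.all_eq_true, decide_eq_true_eq, Nat.beq_eq] at h
  obtain ⟨hgen, hsize, hsort, hdesc⟩ := h
  have hw : ∀ w ∈ gens, ∃ g ∈ K, ∀ a b, evalWord w a = some b → ∀ v : ↥leechLattice, (v : Vec) = pv a →
      ((g • v : ↥leechLattice) : Vec) = pv b := by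
    intro w hw
    obtain ⟨g, hg⟩ := packElt w (List.all_eq_true.2 (hgen w hw).1)
    exact ⟨g, hK g fun f hf v hv => Subtype.ext ((hg f f ((hgen w hw).2 f hf) v hv).trans hv.symm), hg⟩
  have hentry := OTree.descends_spec hdesc
  obtain ⟨hpair, hbound⟩ := OTree.sorted_spec hsort
  have reach : ∀ N, ∀ e ∈ T.entries, e.2.1 / 16 < N →
      ∃ g ∈ K, ((g • r : ↥leechLattice) : Vec) = pv e.1 := by
    intro N
    induction N with
    | zero => intro e _ h; omega
    | succ N ih =>
      intro e he hlt
      have h1 := hentry e he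
      rw [entryOK] at h1
      cases hb : Nat.beq e.1 root <;> rw [hb] at h1
      · rw [cond_false] at h1
        cases hf : T.find e.2.2 with
        | none => rw [hf] at h1; simp at h1
        | some d' =>
          rw [hf] at h1
          simp only [Bool.and_eq_true, Nat.blt_eq] at h1
          obtain ⟨hdep, h1⟩ := h1
          change d' / 16 < e.2.1 / 16 at hdep
          obtain ⟨v, hv⟩ := OTree.find_mem hf
          obtain ⟨g, hg, hgv⟩ := ih _ hv (by simp only; omega)
          cases hev : evalWord (gens.getD (Nat.mod e.2.1 16) []) e.2.2 with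
          | none => rw [hev] at h1; simp at h1
          | some w =>
            rw [hev] at h1
            simp only [Nat.beq_eq] at h1
            subst h1
            by_cases hidx : e.2.1 % 16 < gens.length
            · obtain ⟨u, hu, huv⟩ := hw _ (show gens.getD (Nat.mod e.2.1 16) [] ∈ gens by
                rw [show Nat.mod e.2.1 16 = e.2.1 % 16 from rfl, List.getD_eq_getElem _ _ hidx]
                exact List.getElem_mem hidx)
              refine ⟨u * g, mul_mem hu hg, ?_⟩
              rw [mul_smul]
              exact huv _ _ hev _ hgv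
            · rw [show Nat.mod e.2.1 16 = e.2.1 % 16 from rfl,
                List.getD_eq_default _ _ (Nat.le_of_not_lt hidx),
                show evalWord [] e.2.2 = some e.2.2 from rfl, Option.some.injEq] at hev
              exact ⟨g, hg, hgv.trans (by rw [hev])⟩
      · rw [Nat.beq_eq] at hb
        exact ⟨1, one_mem K, by rw [one_smul, hr, hb]⟩
  have hreach : ∀ k ∈ T.entries.map Prod.fst, ∃ x ∈ S, (∃ g ∈ K, g • r = x) ∧ (x : Vec) = pv k := by
    intro k hk
    obtain ⟨e, he, rfl⟩ := List.mem_map.1 hk
    obtain ⟨g, hg, hgv⟩ := reach (e.2.1 / 16 + 1) e he (by omega)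
    exact ⟨g • r, hS g hg r hrS, ⟨g, hg, rfl⟩, hgv⟩
  let f : {k // k ∈ T.entries.map Prod.fst} → ↥leechLattice := fun k => (hreach k.1 k.2).choose
  have hf : ∀ k, f k ∈ S ∧ (∃ g ∈ K, g • r = f k) ∧ (f k : Vec) = pv k.1 := fun k => (hreach k.1 k.2).choose_spec
  have hlt : ∀ k : {k // k ∈ T.entries.map Prod.fst}, k.1 < 2 ^ 96 := fun k => by
    obtain ⟨e, he, e'⟩ := List.mem_map.1 k.2
    exact e' ▸ (hbound e he).2
  have hinj : Function.Injective f := fun a b e => Subtype.ext (pv_inj (hlt a) (hlt b) (by
    rw [← (hf a).2.2, e]; exact (hf b).2.2))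
  have hrange : (Set.range f).ncard = n := by
    rw [Set.ncard_range_of_injective hinj]
    have hnd : (T.entries.map Prod.fst).Nodup := hpair.imp fun hab => Nat.ne_of_lt hab
    rw [Nat.card_eq_fintype_card, Fintype.card_of_subtype (T.entries.map Prod.fst).toFinset
      (fun x => List.mem_toFinset), List.toFinset_card_of_nodup hnd, List.length_map, ← OTree.size_eq, hsize]
  have hsub : Set.range f ⊆ S := by rintro _ ⟨k, rfl⟩; exact (hf k).1
  have heq : Set.range f = S := Set.eq_of_subset_of_ncard_le hsub (by rw [hrange]; exact hcard) hfin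
  refine ⟨heq ▸ hrange, fun x hx => ?_, fun x hx => ?_⟩
  · obtain ⟨k, rfl⟩ := heq.symm ▸ hx
    exact (hf k).2.1
  · obtain ⟨k, rfl⟩ := heq.symm ▸ hx
    obtain ⟨e, he, e'⟩ := List.mem_map.1 k.2
    exact ⟨e, he, by rw [e']; exact (hf k).2.2⟩

end CfsgLib.Sporadic.Conway
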