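import Cfsg.Agent.Lib.Sporadic.ConwayBasic
import Cfsg.Agent.Lib.Sporadic.ConwayPack
import Cfsg.Agent.Lib.ThreeTrans.Co0Mod13

/-!
# Elements of Co₀ given by matrices, and products of them modulo 13

A matrix is a list of 24 packed rows, row `i` being the image of the vector with entry 8 at `i`.
-/

set_option autoImplicit false

namespace CfsgLib.Sporadic.CoMat

open Cfsg Finset Matrix CfsgLib.ThreeTrans.Leech CfsgLib.Sporadic CfsgLib.Sporadic.Conway

variable (M : List ℕ)

/-- A row of the matrix. -/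
noncomputable def row (i : GolayPt) : Vec := pv (M.getD (ix i) 0)

/-- Eight times the image. -/
noncomputable def raw (x : Vec) : Vec := fun k => ∑ i, x i * row M i k

/-- The image. -/
noncomputable def img (x : Vec) : Vec := fun k => raw M x k / 8

/-- The generators go into the lattice. -/
def Keeps : Prop :=
  ((∀ k, raw M omegaVec k % 8 = 0) ∧ LTest (img M omegaVec)) ∧
    (∀ i, (∀ k, raw M (pairVec i none) k % 8 = 0) ∧ LTest (img M (pairVec i none))) ∧
      ∀ b < 12, (∀ k, raw M (octVec (setOfMask (basisMask b))) k % 8 = 0) ∧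
        LTest (img M (octVec (setOfMask (basisMask b))))

/-- The rows are orthogonal of length eight. -/
def Orth : Prop := ∀ i j, ∑ k, row M i k * row M j k = if i = j then 64 else 0

theorem raw_add (x y : Vec) : raw M (x + y) = raw M x + raw M y := by
  funext k; simp only [raw, Pi.add_apply, add_mul, Finset.sum_add_distrib]

theorem raw_zero : raw M 0 = 0 := by funext k; simp [raw]

variable {M}

theorem keeps_all (h : Keeps M) (v : ↥leechLattice) :
    (∀ k, 8 * img M v k = raw M v k) ∧ img M v ∈ leechLattice := by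
  let S : AddSubgroup Vec :=
    { carrier := {x | (∀ k, 8 ∣ raw M x k) ∧ img M x ∈ leechLattice}
      zero_mem' := ⟨fun k => by rw [raw_zero]; exact dvd_zero _, by
        rw [show img M 0 = 0 from funext fun k => by simp [img, raw]]; exact zero_mem _⟩
      add_mem' := fun {a b} ha hb => ⟨fun k => by rw [raw_add]; exact dvd_add (ha.1 k) (hb.1 k), by
        rw [show img M (a + b) = img M a + img M b from funext fun k => by
          simp only [img, raw_add, Pi.add_apply]; exact Int.add_ediv_of_dvd_left (ha.1 k)]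
        exact add_mem ha.2 hb.2⟩
      neg_mem' := fun {a} ha => by
        have e : raw M (-a) = -raw M a := funext fun k => by simp [raw]
        refine ⟨fun k => by rw [e]; exact (ha.1 k).neg_right, ?_⟩
        rw [show img M (-a) = -img M a from funext fun k => by
          simp only [img, e, Pi.neg_apply]; exact Int.neg_ediv_of_dvd (ha.1 k)]
        exact neg_mem ha.2 }
  have hle : leechLattice ≤ S := le_of_gen fun x hx => by
    obtain ⟨h1, h2⟩ : (∀ k, raw M x k % 8 = 0) ∧ LTest (img M x) := by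
      rcases hx with rfl | ⟨i, rfl⟩ | ⟨b, hb, rfl⟩
      · exact h.1
      · exact h.2.1 i
      · exact h.2.2 b hb
    exact ⟨fun k => Int.dvd_of_emod_eq_zero (h1 k), mem_iff.2 (isL_of_test h2)⟩
  exact ⟨fun k => Int.mul_ediv_cancel' ((hle v.2).1 k), (hle v.2).2⟩

theorem norm_raw (h : Orth M) (x : Vec) : sqNorm (raw M x) = 64 * sqNorm x := by
  simp only [sqNorm, raw, sq, Finset.sum_mul_sum]
  rw [Finset.sum_comm, Finset.mul_sum]
  refine Finset.sum_congr rfl fun i _ => ?_
  rw [Finset.sum_comm,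
    Finset.sum_congr rfl fun j _ => show (∑ k, x i * row M i k * (x j * row M j k)) = x i * x j * (if i = j then 64 else 0) by
      rw [← h i j, Finset.mul_sum]; exact Finset.sum_congr rfl fun k _ => by ring]
  simp only [mul_ite, mul_zero, Finset.sum_ite_eq, Finset.mem_univ, if_true]
  ring

theorem norm_img (hk : Keeps M) (ho : Orth M) (v : ↥leechLattice) : sqNorm (img M v) = sqNorm (v : Vec) := by
  have h := norm_raw ho (v : Vec)
  rw [← (funext (keeps_all hk v).1 : (fun k => 8 * img M v k) = raw M v)] at h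
  have e : sqNorm (fun k => 8 * img M v k) = 64 * sqNorm (img M v) := by
    simp only [sqNorm, Finset.mul_sum]
    exact Finset.sum_congr rfl fun k _ => by ring
  omega

/-- The homomorphism of the lattice. -/
noncomputable def hom (hk : Keeps M) : ↥leechLattice →+ ↥leechLattice :=
  AddMonoidHom.mk' (fun v => ⟨img M v, (keeps_all hk v).2⟩) fun v w => Subtype.ext (funext fun k => by
    show img M ((v : Vec) + (w : Vec)) k = img M v k + img M w k
    have h1 := (keeps_all hk v).1 k
    have h2 := (keeps_all hk w).1 k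
    have h3 := (keeps_all hk (v + w)).1 k
    rw [show ((v + w : ↥leechLattice) : Vec) = (v : Vec) + w from rfl, raw_add, Pi.add_apply] at h3
    omega)

theorem hom_bijective (hk : Keeps M) (ho : Orth M) : Function.Bijective (hom hk) := by
  have hn : ∀ v, sqNorm (hom hk v : Vec) = sqNorm (v : Vec) := norm_img hk ho
  have hinj : Function.Injective (hom hk) := by
    refine (injective_iff_map_eq_zero _).2 fun v hv => Subtype.ext (funext fun k => ?_)
    have h := hn v
    rw [hv, show sqNorm ((0 : ↥leechLattice) : Vec) = 0 by simp [sqNorm], eq_comm] at h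
    exact pow_eq_zero_iff two_ne_zero |>.1
      ((Finset.sum_eq_zero_iff_of_nonneg fun i _ => sq_nonneg _).1 h k (Finset.mem_univ k))
  refine ⟨hinj, ?_⟩
  let S : Set ↥leechLattice := {v | sqNorm (v : Vec) = 32}
  have hfin : S.Finite := by
    refine Set.Finite.of_finite_image ((Set.Finite.pi fun _ : GolayPt => Set.finite_Icc (-5 : ℤ) 5).subset ?_)
      Subtype.val_injective.injOn
    rintro _ ⟨v, hv, rfl⟩ k -
    have h : (v : Vec) k ^ 2 ≤ 32 := by
      rw [← show sqNorm (v : Vec) = 32 from hv]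
      exact Finset.single_le_sum (fun i _ => sq_nonneg ((v : Vec) i)) (Finset.mem_univ k)
    exact ⟨by nlinarith, by nlinarith⟩
  have hsur : Set.SurjOn (hom hk) S S :=
    hfin.surjOn_iff_bijOn_of_mapsTo (fun v hv => (hn v).trans hv) |>.2
      ⟨fun v hv => (hn v).trans hv, hinj.injOn, (hfin.injOn_iff_bijOn_of_mapsTo (fun v hv => (hn v).trans hv)).1
        hinj.injOn |>.surjOn⟩
  intro y
  have hle : AddSubgroup.closure {x : GolayPt → ℤ | x ∈ leechLattice ∧ sqNorm x = 32} ≤
      (hom hk).range.map (AddSubgroup.subtype leechLattice) := by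
    refine (AddSubgroup.closure_le _).2 fun x hx => ?_
    obtain ⟨u, -, hu⟩ := hsur (show (⟨x, hx.1⟩ : ↥leechLattice) ∈ S from hx.2)
    exact ⟨_, ⟨u, rfl⟩, congrArg Subtype.val hu⟩
  rw [closure_min] at hle
  obtain ⟨u, ⟨z, hz⟩, e⟩ := hle y.2
  exact ⟨z, hz.trans (Subtype.ext e)⟩

/-- The element of Co₀. -/
noncomputable def elt (hk : Keeps M) (ho : Orth M) : ↥Co0 :=
  ⟨Equiv.ofBijective (hom hk) (hom_bijective hk ho), fun v w => map_add (hom hk) v w, norm_img hk ho⟩

theorem mat13_elt (hk : Keeps M) (ho : Orth M) (k i : GolayPt) :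
    mat13 (elt hk ho).1 k i = 5 * (row M i k : ZMod 13) := by
  show 5 * ((img M (eight i) k : ℤ) : ZMod 13) = _
  have e : raw M (eight i) k = 8 * row M i k := by
    simp [raw, eight]
  rw [show img M (eight i) k = row M i k by rw [img, e, Int.mul_ediv_cancel_left _ (by norm_num)]]

/-! ### packed columns -/

/-- A field of twelve bits. -/
noncomputable def fld (V n : ℕ) : ℕ := Nat.land (Nat.shiftRight V (Nat.mul 12 n)) 4095

/-- Packing. -/
noncomputable def pk (f : ℕ → ℕ) (n : ℕ) : ℕ :=
  Nat.rec (motive := fun _ => (ℕ → ℕ) → ℕ) (fun _ => 0)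
    (fun _ ih f => Nat.add (f 0) (Nat.mul 4096 (ih fun j => f (Nat.succ j)))) n f

theorem pk_succ (f : ℕ → ℕ) (n : ℕ) : pk f (n + 1) = f 0 + 4096 * pk (fun j => f (j + 1)) n := rfl

theorem fld_eq (V n : ℕ) : fld V n = V / 4096 ^ n % 4096 := by
  show (V >>> (12 * n)) &&& 4095 = _
  rw [show 4095 = 2 ^ 12 - 1 from rfl, Nat.and_two_pow_sub_one_eq_mod, Nat.shiftRight_eq_div_pow, pow_mul]
  norm_num

theorem fld_pk : ∀ (n : ℕ) {f : ℕ → ℕ}, (∀ j < n, f j < 4096) → ∀ k < n, fld (pk f n) k = f k
  | 0, _, _, k, hk => absurd hk (Nat.not_lt_zero k)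
  | n + 1, f, hf, k, hk => by
    rw [fld_eq, pk_succ]
    have h0 := hf 0 (Nat.succ_pos n)
    cases k with
    | zero => rw [pow_zero, Nat.div_one, Nat.add_mul_mod_self_left, Nat.mod_eq_of_lt h0]
    | succ k =>
      rw [pow_succ', ← Nat.div_div_eq_div_mul, Nat.add_mul_div_left _ _ (by norm_num), Nat.div_eq_of_lt h0,
        Nat.zero_add, ← fld_eq]
      exact fld_pk n (fun j hj => hf (j + 1) (by omega)) k (by omega)

theorem pk_fld : ∀ (n V : ℕ), V < 4096 ^ n → pk (fld V) n = V
  | 0, V, h => by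
    rw [show pk (fld V) 0 = 0 from rfl]
    simp at h
    omega
  | n + 1, V, h => by
    rw [pk_succ, show (fun j => fld V (j + 1)) = fld (V / 4096) from funext fun j => by
      rw [fld_eq, fld_eq, pow_succ', Nat.div_div_eq_div_mul],
      pk_fld n _ ((Nat.div_lt_iff_lt_mul (by norm_num)).2 (by rw [← pow_succ]; exact h)), fld_eq, pow_zero,
      Nat.div_one]
    exact Nat.mod_add_div V 4096

theorem pk_linear : ∀ (n a : ℕ) (f g : ℕ → ℕ), pk (fun j => a * f j + g j) n = a * pk f n + pk g n
  | 0, a, f, g => by simp [pk]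
  | n + 1, a, f, g => by rw [pk_succ, pk_linear n, pk_succ, pk_succ]; ring

theorem pk_zero : ∀ n, pk (fun _ => 0) n = 0
  | 0 => rfl
  | n + 1 => by rw [pk_succ, pk_zero n]

/-- A linear combination of the columns of a matrix. -/
noncomputable def comb (R : List ℕ) (v : ℕ) : ℕ → ℕ :=
  Nat.rec 0 fun n ih => Nat.add (Nat.mul (fld v n) (R.getD n 0)) ih

/-- A matrix applied to a column, reduced. -/
noncomputable def step (R : List ℕ) (v : ℕ) : ℕ :=
  let X := comb R v 24
  pk (fun k => Nat.mod (fld X k) 13) 24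

/-- The product of a word applied to a unit column. -/
noncomputable def col (Rs : List (List ℕ)) (w : List ℕ) (i : ℕ) : ℕ :=
  List.rec (Nat.pow 4096 i) (fun x _ ih => step (Rs.getD x []) ih) w

/-- A packed matrix is small. -/
noncomputable def Small (R : List ℕ) : Bool :=
  (List.range 24).all fun n => Nat.blt (R.getD n 0) (Nat.pow 4096 24) &&
    (List.range 24).all fun k => Nat.blt (fld (R.getD n 0) k) 13

theorem comb_eq {R : List ℕ} (hR : Small R = true) (v : ℕ) : ∀ n ≤ 24,
    comb R v n = pk (fun k => ∑ j ∈ Finset.range n, fld v j * fld (R.getD j 0) k) 24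
  | 0, _ => by simp only [Finset.range_zero, Finset.sum_empty, pk_zero]; rfl
  | n + 1, hn => by
    show fld v n * R.getD n 0 + comb R v n = _
    rw [comb_eq hR v n (by omega)]
    have h := List.all_eq_true.1 hR n (List.mem_range.2 (by omega))
    rw [Bool.and_eq_true, Nat.blt_eq] at h
    conv_lhs => rw [← pk_fld 24 (R.getD n 0) h.1]
    rw [← pk_linear]
    congr 1
    funext k
    rw [Finset.sum_range_succ, add_comm]

theorem fld_step {R : List ℕ} (hR : Small R = true) {v : ℕ} (hv : ∀ j < 24, fld v j < 13) {k : ℕ} (hk : k < 24) :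
    fld (step R v) k = (∑ j ∈ Finset.range 24, fld v j * fld (R.getD j 0) k) % 13 := by
  rw [step, fld_pk 24 (f := fun j => Nat.mod (fld (comb R v 24) j) 13)
    (fun j _ => show fld (comb R v 24) j % 13 < 4096 by omega) k hk]
  show fld (comb R v 24) k % 13 = _
  rw [comb_eq hR v 24 le_rfl, fld_pk 24 (fun j hj => ?_) k hk]
  refine lt_of_le_of_lt (Finset.sum_le_sum (g := fun _ => 144) fun l hl => ?_) (by simp)
  have h := List.all_eq_true.1 hR l (List.mem_range.2 (Finset.mem_range.1 hl))
  rw [Bool.and_eq_true, List.all_eq_true] at h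
  have h2 := h.2 j (List.mem_range.2 hj)
  rw [Nat.blt_eq] at h2
  exact Nat.mul_le_mul (Nat.le_of_lt_succ (hv l (Finset.mem_range.1 hl))) (Nat.le_of_lt_succ h2)

/-- A packed matrix represents an element. -/
def Rep (R : List ℕ) (g : ↥Co0) : Prop :=
  Small R = true ∧ ∀ k i : GolayPt, (fld (R.getD (ix i) 0) (ix k) : ZMod 13) = mat13 g.1 k i

theorem rep_elt (hk : Keeps M) (ho : Orth M) {R : List ℕ} (hs : Small R = true)
    (h : (List.range 24).all (fun n => (List.range 24).all fun k =>
      Nat.beq (Nat.mod (Nat.mul 5 (Nat.add (nib (M.getD n 0) k) 5)) 13) (fld (R.getD n 0) k)) = true) :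
    Rep R (elt hk ho) := by
  refine ⟨hs, fun k i => ?_⟩
  have h' := Nat.eq_of_beq_eq_true
    (List.all_eq_true.1 (List.all_eq_true.1 h (ix i) (List.mem_range.2 (ix_lt i))) (ix k)
      (List.mem_range.2 (ix_lt k)))
  rw [mat13_elt, ← h', row, pv]
  show ((5 * (nib (M.getD (ix i) 0) (ix k) + 5) % 13 : ℕ) : ZMod 13) = _
  rw [ZMod.natCast_mod]
  push_cast
  have h13 : ((13 : ℕ) : ZMod 13) = 0 := ZMod.natCast_self 13
  push_cast at h13
  linear_combination (5 : ZMod 13) * h13

theorem sum_ix (f : ℕ → ZMod 13) : ∑ j : GolayPt, f (ix j) = ∑ n ∈ Finset.range 24, f n := by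
  rw [← image_ix_univ, Finset.sum_image fun x _ y _ h => ix_injective h]

theorem fld_unit {i : ℕ} (hi : i < 24) : ∀ k < 24, fld (Nat.pow 4096 i) k = if k = i then 1 else 0 := by
  revert hi; revert i; decide +kernel

theorem col_spec {Rs : List (List ℕ)} {t : ℕ → ↥Co0} : ∀ {w : List ℕ}, (∀ x ∈ w, Rep (Rs.getD x []) (t x)) →
    ∀ {i : GolayPt}, (∀ k < 24, fld (col Rs w (ix i)) k < 13) ∧
      ∀ k, (fld (col Rs w (ix i)) (ix k) : ZMod 13) = mat13 (w.map t).prod.1 k i
  | [], _, i => by
    constructor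
    · intro k hk
      show fld (Nat.pow 4096 (ix i)) k < 13
      rw [fld_unit (ix_lt i) k hk]; split_ifs <;> omega
    · intro k
      show (fld (Nat.pow 4096 (ix i)) (ix k) : ZMod 13) = _
      rw [fld_unit (ix_lt i) _ (ix_lt k), List.map_nil, List.prod_nil]
      show _ = mat13 1 k i
      rw [mat13_one, one_apply]
      simp only [ix_inj, Nat.cast_ite, Nat.cast_one, Nat.cast_zero]
  | x :: w, h, i => by
    obtain ⟨hb, hv⟩ := col_spec (fun y hy => h y (List.mem_cons_of_mem _ hy)) (i := i)
    obtain ⟨hs, hR⟩ := h x List.mem_cons_self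
    have hc : col Rs (x :: w) (ix i) = step (Rs.getD x []) (col Rs w (ix i)) := rfl
    refine ⟨fun k hk => ?_, fun k => ?_⟩
    · rw [hc, fld_step hs hb hk]
      exact Nat.mod_lt _ (by norm_num)
    · rw [hc, fld_step hs hb (ix_lt k), ZMod.natCast_mod, Nat.cast_sum, List.map_cons, List.prod_cons]
      rw [← sum_ix fun n => ((fld (col Rs w (ix i)) n * fld ((Rs.getD x []).getD n 0) (ix k) : ℕ) : ZMod 13)]
      show _ = mat13 ((t x).1 * (w.map t).prod.1) k i
      rw [mat13_mul (t x).2, Matrix.mul_apply]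
      exact Finset.sum_congr rfl fun j _ => by rw [Nat.cast_mul, hv, hR, mul_comm]

/-- Two words with the same value. -/
noncomputable def same (Rs : List (List ℕ)) (u w : List ℕ) : Bool :=
  (List.range 24).all fun i => Nat.beq (col Rs u i) (col Rs w i)

theorem eq_of_same {Rs : List (List ℕ)} {t : ℕ → ↥Co0} {u w : List ℕ} (hu : ∀ x ∈ u, Rep (Rs.getD x []) (t x))
    (hw : ∀ x ∈ w, Rep (Rs.getD x []) (t x)) (h : same Rs u w = true) : (u.map t).prod = (w.map t).prod := by
  have e : mat13 (u.map t).prod.1 = mat13 (w.map t).prod.1 := by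
    ext k i
    rw [← (col_spec hu (i := i)).2 k, ← (col_spec hw (i := i)).2 k,
      Nat.eq_of_beq_eq_true (List.all_eq_true.1 h (ix i) (List.mem_range.2 (ix_lt i)))]
  set g := (u.map t).prod
  set g' := (w.map t).prod
  have h1 : mat13 (g⁻¹ * g').1 = 1 := by
    rw [Subgroup.coe_mul, mat13_mul (g⁻¹).2, ← e, ← mat13_mul (g⁻¹).2, ← Subgroup.coe_mul, inv_mul_cancel,
      Subgroup.coe_one, mat13_one]
  exact inv_mul_eq_one.1 (Subtype.ext (mat13_injective (g⁻¹ * g').2 h1))

theorem ne_of_not_same {Rs : List (List ℕ)} {t : ℕ → ↥Co0} {u w : List ℕ} (hu : ∀ x ∈ u, Rep (Rs.getD x []) (t x))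
    (hw : ∀ x ∈ w, Rep (Rs.getD x []) (t x))
    (h : (List.range 24).any (fun i => (List.range 24).any fun k =>
      !Nat.beq (fld (col Rs u i) k) (fld (col Rs w i) k)) = true) : (u.map t).prod ≠ (w.map t).prod := by
  intro e
  obtain ⟨i, hi, h⟩ := List.any_eq_true.1 h
  obtain ⟨k, hk, h⟩ := List.any_eq_true.1 h
  have hi' := List.mem_range.1 hi
  have hk' := List.mem_range.1 hk
  obtain ⟨hb1, hv1⟩ := col_spec hu (i := pt i)
  obtain ⟨hb2, hv2⟩ := col_spec hw (i := pt i)
  have := (hv1 (pt k)).trans ((congrArg (fun g : ↥Co0 => mat13 g.1 (pt k) (pt i)) e).trans (hv2 (pt k)).symm)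
  rw [ix_pt hi', ix_pt hk', ZMod.natCast_eq_natCast_iff'] at this
  rw [ix_pt hi'] at hb1 hb2
  rw [Nat.mod_eq_of_lt (hb1 k hk'), Nat.mod_eq_of_lt (hb2 k hk')] at this
  rw [this, Nat.beq_refl] at h
  simp at h

end CfsgLib.Sporadic.CoMat
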