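import Cfsg.Agent.Lib.Sporadic.CoOneMultData
import Cfsg.Agent.Lib.Sporadic.ConwayTwoSimple
import Cfsg.Agent.Lib.Sporadic.ConwayMidOrth
import Cfsg.Agent.Lib.Sporadic.M23FixedVector
import Cfsg.Agent.Lib.Sporadic.M24Gen

/-!
# Configurations of minimal vectors, for the multiplier of Co1

Minimal vectors are joined when their inner product is `-16` or `16`.  Triangles are transitive by type,
and three vectors, two of them joined, have a common neighbour.
-/

set_option autoImplicit false

namespace CfsgLib.Sporadic.CoOneMult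

open Cfsg MulAction CfsgLib.Sporadic CfsgLib.Sporadic.Conway CfsgLib.ThreeTrans.Leech CfsgLib.Sporadic.Lattice
open CfsgLib.Sporadic.CoTwoOut (norm_gap norm_nonneg dot_self dot_symm eight_dvd)

attribute [local irreducible] OTree.entries coTwoNearTree

set_option maxHeartbeats 1000000

/-- The inner product of two lattice vectors. -/
noncomputable abbrev ip (a b : ↥leechLattice) : ℤ := dotInt (a : Vec) (b : Vec)

/-- A minimal vector. -/
noncomputable abbrev Min (a : ↥leechLattice) : Prop := sqNorm (a : Vec) = 32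

theorem ip_comm (a b : ↥leechLattice) : ip a b = ip b a := dot_symm _ _

theorem ip_smul (g : ↥Co0) (a b : ↥leechLattice) : ip (g • a) (g • b) = ip a b := dot_smul' g a b

theorem ip_neg_right (a b : ↥leechLattice) : ip a (-b) = -ip a b := dot_neg_right _ _

theorem ip_neg_left (a b : ↥leechLattice) : ip (-a) b = -ip a b := by
  rw [ip_comm, ip_neg_right, ip_comm]

theorem ip_sub_right (a b c : ↥leechLattice) : ip a (b - c) = ip a b - ip a c := dot_sub_right' _ _ _

theorem min_neg {a : ↥leechLattice} (ha : Min a) : Min (-a) := by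
  rw [Min, ← ha, AddSubgroup.coe_neg]
  simp [sqNorm]

theorem min_smul (g : ↥Co0) {a : ↥leechLattice} (ha : Min a) : Min (g • a) := (norm_smul' g a).trans ha

theorem ip_self {a : ↥leechLattice} (ha : Min a) : ip a a = 32 := (dot_self _).trans ha

theorem ip_cases {a b : ↥leechLattice} (ha : Min a) (hb : Min b) :
    (ip a b = 32 ∧ b = a) ∨ (ip a b = -32 ∧ b = -a) ∨ (ip a b = 0 ∨ ip a b = 8 ∨ ip a b = -8) ∨
      (ip a b = 16 ∨ ip a b = -16) := by
  obtain ⟨k, hk⟩ := eight_dvd a b
  have h1 : sqNorm ((a - b : ↥leechLattice) : Vec) = 64 - 2 * ip a b := by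
    rw [AddSubgroup.coe_sub, sq_sub_dot, ha, hb]; ring
  have h2 : sqNorm ((a + b : ↥leechLattice) : Vec) = 64 + 2 * ip a b := by
    rw [AddSubgroup.coe_add, sq_add_dot, ha, hb]; ring
  rw [show ip a b = 8 * k from hk] at h1 h2 ⊢
  rcases norm_gap (a - b) with h | h
  · left
    refine ⟨?_, (sub_eq_zero.1 h).symm⟩
    rw [h] at h1
    simp [sqNorm] at h1
    omega
  rcases norm_gap (a + b) with h' | h'
  · right; left
    refine ⟨?_, eq_neg_of_add_eq_zero_right h'⟩
    rw [h'] at h2
    simp [sqNorm] at h2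
    omega
  · right; right
    omega

/-- Joined. -/
def Near (a b : ↥leechLattice) : Prop := ip a b = 16 ∨ ip a b = -16

/-- At distance two. -/
def Far (a b : ↥leechLattice) : Prop := ip a b = 0 ∨ ip a b = 8 ∨ ip a b = -8

theorem Near.symm {a b : ↥leechLattice} (h : Near a b) : Near b a := by
  rwa [Near, ip_comm]

theorem Far.symm {a b : ↥leechLattice} (h : Far a b) : Far b a := by
  rwa [Far, ip_comm]

theorem Near.neg_right {a b : ↥leechLattice} (h : Near a b) : Near a (-b) := by
  rw [Near, ip_neg_right]; rcases h with h | h <;> omega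

theorem Near.smul {a b : ↥leechLattice} (g : ↥Co0) (h : Near a b) : Near (g • a) (g • b) := by
  rwa [Near, ip_smul]

theorem Far.smul {a b : ↥leechLattice} (g : ↥Co0) (h : Far a b) : Far (g • a) (g • b) := by
  rwa [Far, ip_smul]

theorem Far.neg_left {a b : ↥leechLattice} (h : Far a b) : Far (-a) b := by
  rw [Far, ip_neg_left]; rcases h with h | h | h <;> omega

theorem Far.ne_neg {a b : ↥leechLattice} (ha : Min a) (h : Far a b) : b ≠ a ∧ b ≠ -a := by
  constructor <;> rintro rfl <;> simp only [Far, ip_neg_right, ip_self ha] at h <;> omega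

theorem pair_min : Min pairElt := pairElt_norm

theorem near_min : Min nearPt := nearPt_mem.1

theorem near_ip : ip pairElt nearPt = -16 := nearPt_mem.2 _ List.mem_cons_self

theorem edge_trans {a b a' b' : ↥leechLattice} (ha : Min a) (hb : Min b) (h : ip a b = -16) (ha' : Min a')
    (hb' : Min b') (h' : ip a' b' = -16) : ∃ g : ↥Co0, g • a = a' ∧ g • b = b' := by
  obtain ⟨g, hg⟩ := to_pair ha
  obtain ⟨g', hg'⟩ := to_pair ha'
  have hd : dotInt (pairElt : Vec) ((g • b : ↥leechLattice) : Vec) = -16 := by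
    rw [← hg]; exact (dot_smul' g a b).trans h
  have hd' : dotInt (pairElt : Vec) ((g' • b' : ↥leechLattice) : Vec) = -16 := by
    rw [← hg']; exact (dot_smul' g' a' b').trans h'
  obtain ⟨s, hs, hs'⟩ := near_std (min_smul g hb) hd (min_smul g' hb') hd'
  refine ⟨g'⁻¹ * s * g, ?_, ?_⟩
  · rw [mul_smul, mul_smul, hg, hs', inv_smul_eq_iff, hg']
  · rw [mul_smul, mul_smul, hs, inv_smul_smul]

theorem tri_values {m a b : ↥leechLattice} (hm : Min m) (ha : Min a) (hb : Min b) (h1 : ip m a = -16)
    (h2 : ip m b = -16) : b = a ∨ ip a b ∈ ({-16, 0, 16, 8} : Finset ℤ) := by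
  obtain ⟨g, g1, g2⟩ := edge_trans hm ha h1 pair_min near_min near_ip
  have hx : g • b ∈ DS [(pairElt, (-16 : ℤ))] := ⟨min_smul g hb, by
    simp only [List.forall_mem_cons]
    exact ⟨by rw [← g1]; exact (dot_smul' g m b).trans h2, by simp⟩⟩
  rcases near_values hx with e | e
  · exact Or.inl (smul_left_cancel g (e.trans g2.symm))
  · right
    rw [← g2] at e
    rwa [dot_smul'] at e

/-- Triangles of one type are conjugate. -/
theorem tri_trans {m a b m' a' b' : ↥leechLattice} (hm : Min m) (ha : Min a) (hb : Min b) (h1 : ip m a = -16)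
    (h2 : ip m b = -16) (hm' : Min m') (ha' : Min a') (hb' : Min b') (h1' : ip m' a' = -16) (h2' : ip m' b' = -16)
    (hab : ip a b = ip a' b') (hne : b ≠ a) : ∃ g : ↥Co0, g • m = m' ∧ g • a = a' ∧ g • b = b' := by
  obtain ⟨g, g1, g2⟩ := edge_trans hm ha h1 pair_min near_min near_ip
  obtain ⟨g', g1', g2'⟩ := edge_trans hm' ha' h1' pair_min near_min near_ip
  have hk := (tri_values hm ha hb h1 h2).resolve_left hne
  have hmem : ∀ (g : ↥Co0) (m a b : ↥leechLattice), Min b → g • m = pairElt → g • a = nearPt → ip m b = -16 →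
      g • b ∈ DS [(pairElt, (-16 : ℤ)), (nearPt, ip a b)] := fun g m a b hb e1 e2 h2 => ⟨min_smul g hb, by
    simp only [List.forall_mem_cons]
    exact ⟨by rw [← e1]; exact (dot_smul' g m b).trans h2, by rw [← e2]; exact dot_smul' g a b, by simp⟩⟩
  have hx := hmem g m a b hb g1 g2 h2
  have hy := hmem g' m' a' b' hb' g1' g2' h2'
  rw [← hab] at hy
  obtain ⟨s, hs, hsf⟩ := (near_subs _ hk).2 _ hx _ hy
  refine ⟨g'⁻¹ * s * g, ?_, ?_, ?_⟩
  · rw [mul_smul, mul_smul, g1, hsf pairElt (by simp), inv_smul_eq_iff, g1']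
  · rw [mul_smul, mul_smul, g2, hsf nearPt (by simp), inv_smul_eq_iff, g2']
  · rw [mul_smul, mul_smul, hs, inv_smul_smul]

/-- Swapping the base vector with an orthogonal one's negative, fixed standard case. -/
theorem orth_neg_std : ∃ e : ↥Co0, e • pairElt = pairElt ∧ e • twentyPt = -twentyPt ∧ e * e = 1 := by
  have hp : ∀ i : GolayPt, pv kPair (projInv.symm i) = pv kPair i ∧
      pv 62062060636173731114942761092 (projInv.symm i) = -pv 62062060636173731114942761092 i := by
    decide +kernel
  refine ⟨permHom ⟨projInv, projInv_mem⟩, ?_, ?_, ?_⟩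
  · exact Subtype.ext (funext fun i => (hp i).1)
  · exact Subtype.ext (funext fun i => (hp i).2)
  · rw [← map_mul, show (⟨projInv, projInv_mem⟩ : ↥M24) * ⟨projInv, projInv_mem⟩ = 1 from
      Subtype.ext (Equiv.ext fun x => projInv.left_inv x), map_one]

theorem orth_neg {a d : ↥leechLattice} (ha : Min a) (hd : Min d) (h : ip a d = 0) :
    ∃ e : ↥Co0, e • a = a ∧ e • d = -d ∧ e * e = 1 := by
  obtain ⟨e, e1, e2, e3⟩ := orth_neg_std
  obtain ⟨g, hg⟩ := to_pair ha
  have hd0 : dotInt (pairElt : Vec) ((g • d : ↥leechLattice) : Vec) = 0 := by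
    rw [← hg]; exact (dot_smul' g a d).trans h
  obtain ⟨s, hs, hs'⟩ := orth_std (min_smul g hd) hd0 z_mem.1 (z_mem.2 _ List.mem_cons_self)
  refine ⟨(s * g)⁻¹ * e * (s * g), ?_, ?_, ?_⟩
  · rw [mul_smul, mul_smul, mul_smul s g, hg, hs', e1, inv_smul_eq_iff, mul_smul, hg, hs']
  · rw [mul_smul, mul_smul, mul_smul s g, hs, e2, inv_smul_eq_iff, mul_smul, smul_neg', smul_neg', hs]
  · calc (s * g)⁻¹ * e * (s * g) * ((s * g)⁻¹ * e * (s * g)) = (s * g)⁻¹ * (e * e) * (s * g) := by group
      _ = 1 := by rw [e3]; group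

/-! ### common neighbours -/

/-- The sum of the nibbles. -/
noncomputable def nsum (a : ℕ) : ℕ := Nat.rec 0 (fun i acc => Nat.add acc (nib a i)) 24

/-- The sum of their products. -/
noncomputable def ndot (a b : ℕ) : ℕ := Nat.rec 0 (fun i acc => Nat.add acc (Nat.mul (nib a i) (nib b i))) 24

/-- An absolute inner product of 16 of packed vectors. -/
noncomputable def jn (a b : ℕ) : Bool :=
  Nat.beq (Nat.add (ndot a b) 1536) (Nat.add (Nat.mul 8 (Nat.add (nsum a) (nsum b))) 16) ||
    Nat.beq (Nat.add (ndot a b) 1552) (Nat.mul 8 (Nat.add (nsum a) (nsum b)))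

/-- An inner product of `-8` of packed vectors. -/
noncomputable def en (a b : ℕ) : Bool :=
  Nat.beq (Nat.add (ndot a b) 1544) (Nat.mul 8 (Nat.add (nsum a) (nsum b)))

theorem rec_sum (f : ℕ → ℕ) : ∀ n, (Nat.rec 0 (fun i acc => Nat.add acc (f i)) n : ℕ) = ∑ i ∈ Finset.range n, f i
  | 0 => rfl
  | n + 1 => by rw [Finset.sum_range_succ, ← rec_sum f n]; rfl

theorem sum_ix (f : ℕ → ℤ) : ∑ i : GolayPt, f (ix i) = ∑ k ∈ Finset.range 24, f k :=
  Finset.sum_bij' (fun i _ => ix i) (fun k _ => pt k) (fun i _ => Finset.mem_range.2 (ix_lt i))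
    (fun k _ => Finset.mem_univ _) (fun i _ => pt_ix i) (fun k hk => ix_pt (Finset.mem_range.1 hk)) fun i _ => rfl

theorem dot_pv (a b : ℕ) :
    dotInt (pv a) (pv b) = (ndot a b : ℤ) - 8 * ((nsum a : ℤ) + nsum b) + 1536 := by
  rw [ndot, nsum, nsum, rec_sum (fun i => nib a i), rec_sum (fun i => nib b i),
    rec_sum (fun i => Nat.mul (nib a i) (nib b i)), dotInt]
  simp only [pv]
  rw [sum_ix fun k => ((nib a k : ℤ) - 8) * ((nib b k : ℤ) - 8)]
  simp only [Nat.mul_eq]
  push_cast
  rw [← Finset.sum_add_distrib, Finset.mul_sum, ← Finset.sum_sub_distrib,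
    show (1536 : ℤ) = ∑ _k ∈ Finset.range 24, (64 : ℤ) by simp, ← Finset.sum_add_distrib]
  exact Finset.sum_congr rfl fun k _ => by ring

theorem jn_spec {a b : ℕ} (h : jn a b = true) : dotInt (pv a) (pv b) = 16 ∨ dotInt (pv a) (pv b) = -16 := by
  simp only [jn, Bool.or_eq_true, Nat.beq_eq, Nat.add_eq, Nat.mul_eq] at h
  rw [dot_pv]
  rcases h with h | h
  · left; omega
  · right; omega

theorem en_spec {a b : ℕ} (h : en a b = true) : dotInt (pv a) (pv b) = -8 := by
  simp only [en, Nat.beq_eq, Nat.add_eq, Nat.mul_eq] at h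
  rw [dot_pv]
  omega

/-- The second base vector at inner product `-8`. -/
noncomputable def midPt : ↥leechLattice := fiveElt - pairElt

theorem midPt_min : Min midPt := by
  show sqNorm (pv kFive - pv kPair) = 32
  decide +kernel

theorem midPt_ip : ip pairElt midPt = -8 := by
  show dotInt (pv kPair) (pv kFive - pv kPair) = -8
  decide +kernel

/-- Its packed form. -/
def midKey : ℕ := 47536897508558602556126370197

theorem midKey_eq : (midPt : Vec) = pv midKey := by
  show pv kFive - pv kPair = pv midKey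
  decide +kernel

theorem hubs_ok :
    ((midHubs ++ orthHubs).all fun b => decide (LTest (pv b)) && decide (sqNorm (pv b) = 32) && jn kPair b) =
      true ∧
    (midHubs.all fun b => jn midKey b) = true ∧
    (orthHubs.all fun b => jn 62062060636173731114942761092 b) = true ∧
    midHubs.isEmpty = false ∧ orthHubs.isEmpty = false := by
  decide +kernel

theorem mid_cover : (coTwoNearTree.entries.all fun e => jn midKey e.1 || en midKey e.1 ||
    midHubs.any fun b => jn b e.1) = true := by
  decide +kernel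

theorem orth_cover : (coTwoNearTree.entries.all fun e => jn 62062060636173731114942761092 e.1 ||
    orthHubs.any fun b => jn b e.1) = true := by
  decide +kernel

theorem near_of_jn {x y : ↥leechLattice} {a b : ℕ} (hx : (x : Vec) = pv a) (hy : (y : Vec) = pv b)
    (h : jn a b = true) : Near x y := by
  rw [Near, ip, hx, hy]; exact jn_spec h

theorem common_std (r : ↥leechLattice) (key : ℕ) (hkey : (r : Vec) = pv key) (hubs : List ℕ)
    (hsub : hubs ⊆ midHubs ++ orthHubs) (hr : (hubs.all fun b => jn key b) = true)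
    {d : ↥leechLattice} (hd : Min d) (hcd : ip pairElt d = -16) (hfar : Far r d)
    {e : ℕ} (hde : (d : Vec) = pv e)
    (h : jn key e = true ∨ (ip pairElt r = -8 ∧ en key e = true) ∨ ∃ b ∈ hubs, jn b e = true) :
    ∃ b, Min b ∧ Near b r ∧ Near b pairElt ∧ Near b d := by
  rcases h with h | ⟨hpr, h⟩ | ⟨k, hk, h⟩
  · exfalso
    rcases near_of_jn hkey hde h with e' | e' <;> rcases hfar with f | f | f <;> omega
  · have e8 : ip r d = -8 := by rw [ip, hkey, hde]; exact en_spec h
    have hadd : ∀ x y z : ↥leechLattice, ip (x + y) z = ip x z + ip y z := fun x y z => dot_add_left' _ _ _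
    refine ⟨-(pairElt + d), min_neg ?_, Or.inl ?_, Or.inr ?_, Or.inr ?_⟩
    · show sqNorm ((pairElt : Vec) + (d : Vec)) = 32
      rw [sq_add_dot, pairElt_norm, hd, show dotInt (pairElt : Vec) (d : Vec) = -16 from hcd]
      norm_num
    · rw [ip_neg_left, hadd, hpr, ip_comm d r, e8]; norm_num
    · rw [ip_neg_left, hadd, ip_self pair_min, ip_comm d pairElt, hcd]; norm_num
    · rw [ip_neg_left, hadd, ip_self hd, hcd]; norm_num
  · obtain ⟨h0, -⟩ := hubs_ok
    have h0' := List.all_eq_true.1 h0 k (hsub hk)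
    simp only [Bool.and_eq_true, decide_eq_true_eq] at h0'
    refine ⟨⟨pv k, pv_mem h0'.1.1⟩, h0'.1.2, (near_of_jn hkey rfl (List.all_eq_true.1 hr k hk)).symm,
      (near_of_jn (a := kPair) rfl rfl h0'.2).symm, near_of_jn rfl hde h⟩

theorem common_mid {d : ↥leechLattice} (hd : Min d) (hcd : ip pairElt d = -16) (hfar : Far midPt d) :
    ∃ b, Min b ∧ Near b midPt ∧ Near b pairElt ∧ Near b d := by
  obtain ⟨e, he, hde⟩ := near_set.2.2 d ⟨hd, by simp only [List.forall_mem_cons]; exact ⟨hcd, by simp⟩⟩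
  refine common_std midPt midKey midKey_eq midHubs (List.subset_append_left _ _) hubs_ok.2.1 hd hcd hfar hde ?_
  have h := List.all_eq_true.1 mid_cover e he
  rw [Bool.or_eq_true, Bool.or_eq_true, List.any_eq_true] at h
  rcases h with (h | h) | h
  · exact Or.inl h
  · exact Or.inr (Or.inl ⟨midPt_ip, h⟩)
  · exact Or.inr (Or.inr h)

theorem common_orth {d : ↥leechLattice} (hd : Min d) (hcd : ip pairElt d = -16) (hfar : Far twentyPt d) :
    ∃ b, Min b ∧ Near b twentyPt ∧ Near b pairElt ∧ Near b d := by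
  obtain ⟨e, he, hde⟩ := near_set.2.2 d ⟨hd, by simp only [List.forall_mem_cons]; exact ⟨hcd, by simp⟩⟩
  refine common_std twentyPt _ rfl orthHubs (List.subset_append_right _ _) hubs_ok.2.2.1 hd hcd hfar hde ?_
  have h := List.all_eq_true.1 orth_cover e he
  rw [Bool.or_eq_true, List.any_eq_true] at h
  rcases h with h | h
  · exact Or.inl h
  · exact Or.inr (Or.inr h)

/-- Reduction to the standard second vector. -/
theorem far_std {a c : ↥leechLattice} (ha : Min a) (hc : Min c) (h : Far a c) : ∃ g : ↥Co0, g • c = pairElt ∧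
    ((g • a = midPt ∨ g • a = -midPt) ∨ g • a = twentyPt) := by
  obtain ⟨g, hg⟩ := to_pair hc
  have hk : ip pairElt (g • a) = ip c a := by rw [← hg]; exact ip_smul g c a
  rcases h.symm with h | h | h
  · obtain ⟨s, hs, hs'⟩ := orth_std (min_smul g ha) (hk.trans h) z_mem.1 (z_mem.2 _ List.mem_cons_self)
    exact ⟨s * g, by rw [mul_smul, hg, hs'], Or.inr (by rw [mul_smul, hs])⟩
  · obtain ⟨s, hs, hs'⟩ := mid_std (x := -(g • a)) (x' := midPt) (min_neg (min_smul g ha))
      (show ip pairElt (-(g • a)) = -8 by rw [ip_neg_right, hk, h]) midPt_min midPt_ip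
    refine ⟨s * g, by rw [mul_smul, hg, hs'], Or.inl (Or.inr ?_)⟩
    rw [mul_smul, ← hs, smul_neg', neg_neg]
  · obtain ⟨s, hs, hs'⟩ := mid_std (min_smul g ha) (hk.trans h) midPt_min midPt_ip
    exact ⟨s * g, by rw [mul_smul, hg, hs'], Or.inl (Or.inl (by rw [mul_smul, hs]))⟩

theorem Near.of_smul {a b : ↥leechLattice} (g : ↥Co0) (h : Near (g • a) (g • b)) : Near a b := by
  rwa [Near, ip_smul] at h

/-- A common neighbour of three. -/
theorem common_near {a c d : ↥leechLattice} (ha : Min a) (hc : Min c) (hd : Min d) (hac : Far a c)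
    (hcd : Near c d) (had : Far a d) : ∃ b, Min b ∧ Near b a ∧ Near b c ∧ Near b d := by
  obtain ⟨g, g1, g2⟩ := far_std ha hc hac
  have key : ∀ d', Min d' → ip c d' = -16 → Far a d' → ∃ b, Min b ∧ Near b a ∧ Near b c ∧ Near b d' := by
    intro d' hd' hcd' had'
    have e1 : ip pairElt (g • d') = -16 := by rw [← g1, ip_smul]; exact hcd'
    have back : ∀ r, (g • a = r ∨ g • a = -r) → (Far r (g • d') → ∃ b, Min b ∧ Near b r ∧ Near b pairElt ∧ Near b (g • d')) →
        ∃ b, Min b ∧ Near b a ∧ Near b c ∧ Near b d' := by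
      intro r hr hex
      have hf : Far r (g • d') := by
        rcases hr with e | e
        · rw [← e]; exact had'.smul g
        · rw [← neg_neg r, ← e]; exact (had'.smul g).neg_left
      obtain ⟨b, hb, b1, b2, b3⟩ := hex hf
      refine ⟨g⁻¹ • b, min_smul _ hb, Near.of_smul g ?_, Near.of_smul g ?_, Near.of_smul g ?_⟩ <;> rw [smul_inv_smul]
      · rcases hr with e | e
        · rwa [e]
        · rw [e]; exact b1.neg_right
      · rwa [g1]
      · exact b3
    rcases g2 with e | e
    · exact back midPt e (common_mid (min_smul g hd') e1)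
    · exact back twentyPt (Or.inl e) (common_orth (min_smul g hd') e1)
  rcases hcd with h | h
  · obtain ⟨b, hb, b1, b2, b3⟩ := key (-d) (min_neg hd) (by rw [ip_neg_right, h])
      (by rw [Far, ip_neg_right]; rcases had with f | f | f <;> omega)
    exact ⟨b, hb, b1, b2, by simpa using b3.neg_right⟩
  · exact key d hd h had

/-- A common neighbour of two. -/
theorem exists_common {a c : ↥leechLattice} (ha : Min a) (hc : Min c) (h : Far a c) :
    ∃ b, Min b ∧ Near b a ∧ Near b c := by
  obtain ⟨g, g1, g2⟩ := far_std ha hc h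
  obtain ⟨h0, h1, h2, h3, h4⟩ := hubs_ok
  have back : ∀ (r : ↥leechLattice) (key : ℕ), (r : Vec) = pv key → ∀ hubs : List ℕ, hubs ⊆ midHubs ++ orthHubs →
      (hubs.all fun b => jn key b) = true → hubs.isEmpty = false → (g • a = r ∨ g • a = -r) →
      ∃ b, Min b ∧ Near b a ∧ Near b c := by
    intro r key hkey hubs hsub hall hne hr
    obtain ⟨k, hk⟩ := List.exists_mem_of_ne_nil hubs (by rintro rfl; simp at hne)
    have h0' := List.all_eq_true.1 h0 k (hsub hk)
    simp only [Bool.and_eq_true, decide_eq_true_eq] at h0'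
    let b : ↥leechLattice := ⟨pv k, pv_mem h0'.1.1⟩
    have hb' : Near b r := (near_of_jn hkey rfl (List.all_eq_true.1 hall k hk)).symm
    refine ⟨g⁻¹ • b, min_smul _ h0'.1.2, Near.of_smul g ?_, Near.of_smul g ?_⟩ <;> rw [smul_inv_smul]
    · rcases hr with e | e
      · rwa [e]
      · rw [e]; exact hb'.neg_right
    · rw [g1]; exact (near_of_jn (a := kPair) rfl rfl h0'.2).symm
  rcases g2 with e | e
  · exact back midPt midKey midKey_eq midHubs (List.subset_append_left _ _) h1 h3 e
  · exact back twentyPt _ rfl orthHubs (List.subset_append_right _ _) h2 h4 (Or.inl e)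

end CfsgLib.Sporadic.CoOneMult
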