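import Cfsg.Agent.Lib.Sporadic.CoOneMultSheets
import Cfsg.Agent.Lib.Sporadic.M21
import Cfsg.Agent.Lib.Sporadic.ThreePointPSL

/-!
# The stabilisers of pairs fix any points over them

For joined vectors the suborbit certificate is generated by two-elements, up to factors already settled, and
the stabiliser of a further point is monomial: sign changes and the perfect three-point stabiliser in M24.
-/

set_option autoImplicit false

namespace CfsgLib.Sporadic.CoOneMult

open Cfsg MulAction CfsgLib.Sporadic CfsgLib.Sporadic.Conway CfsgLib.ThreeTrans.Leech CfsgLib.Sporadic.Lattice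
open CfsgLib.ThreeTrans.Golay (Word)

set_option maxHeartbeats 1000000

/-- An element effecting a word. -/
def Acts (g : ↥Co0) (w : List (ℕ × ℕ)) : Prop :=
  ∀ a b, evalWord w a = some b → ∀ v : ↥leechLattice, (v : Vec) = pv a → ((g • v : ↥leechLattice) : Vec) = pv b

theorem evalWord_split : ∀ (w w' : List (ℕ × ℕ)) (a b : ℕ), evalWord (w ++ w') a = some b →
    ∃ c, evalWord w a = some c ∧ evalWord w' c = some b
  | [], w', a, b, h => ⟨a, rfl, h⟩
  | (k, p) :: rest, w', a, b, h => by
    rw [List.cons_append, show evalWord ((k, p) :: (rest ++ w')) a =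
      cond (packOK k p a (Conway.packImage k p a)) (evalWord (rest ++ w') (Conway.packImage k p a)) none from rfl] at h
    cases hc : packOK k p a (Conway.packImage k p a) <;> rw [hc] at h
    · exact absurd h (by simp)
    · obtain ⟨c, h1, h2⟩ := evalWord_split rest w' _ _ h
      refine ⟨c, ?_, h2⟩
      rw [show evalWord ((k, p) :: rest) a =
        cond (packOK k p a (Conway.packImage k p a)) (evalWord rest (Conway.packImage k p a)) none from rfl, hc]
      exact h1

theorem Acts.mul {g h : ↥Co0} {w w' : List (ℕ × ℕ)} (hg : Acts g w) (hh : Acts h w') : Acts (h * g) (w ++ w') := by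
  intro a b e v hv
  obtain ⟨c, h1, h2⟩ := evalWord_split w w' a b e
  rw [mul_smul]
  exact hh c b h2 _ (hg a c h1 v hv)

theorem acts_one : Acts 1 [] := by
  intro a b e v hv
  rw [show evalWord [] a = some a from rfl, Option.some.injEq] at e
  rw [one_smul, hv, e]

/-- A word repeated. -/
def rep : List (ℕ × ℕ) → ℕ → List (ℕ × ℕ)
  | _, 0 => []
  | w, n + 1 => w ++ rep w n

theorem Acts.pow {g : ↥Co0} {w : List (ℕ × ℕ)} (hg : Acts g w) : ∀ n, Acts (g ^ n) (rep w n)
  | 0 => by rw [pow_zero]; exact acts_one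
  | n + 1 => by rw [pow_succ]; exact hg.mul (hg.pow n)

/-- The zero vector, packed. -/
def zeroKey : ℕ := 42255020007607646716556773512

/-- The packed vector `4 e_∞ + 4 e_j`. -/
noncomputable def sumKey (j : ℕ) : ℕ :=
  Nat.add (Nat.add zeroKey (Nat.shiftLeft 4 92)) (Nat.shiftLeft 4 (Nat.mul 4 j))

/-- The packed vector `4 e_∞ - 4 e_j`. -/
noncomputable def difKey (j : ℕ) : ℕ :=
  Nat.sub (Nat.add zeroKey (Nat.shiftLeft 4 92)) (Nat.shiftLeft 4 (Nat.mul 4 j))

/-- The word fixes those vectors. -/
noncomputable def trivWord (w : List (ℕ × ℕ)) : Bool :=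
  forallLt 23 fun j => decide (evalWord w (sumKey j) = some (sumKey j)) && decide (evalWord w (difKey j) = some (difKey j))

theorem keys_ok : ∀ j : Fin 23, LTest (pv (sumKey j)) ∧ LTest (pv (difKey j)) ∧
    (∀ i : GolayPt, pv (sumKey j) i + pv (difKey j) i = eightVec none i) ∧
    (∀ i : GolayPt, pv (sumKey j) i - pv (difKey j) i = eightVec (pt j.val) i) := by
  decide +kernel

theorem eq_one_of_triv {g : ↥Co0} {w : List (ℕ × ℕ)} (hg : Acts g w) (h : trivWord w = true) : g = 1 := by
  have hfix : ∀ i, g • eightAt i = eightAt i := by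
    have key : ∀ j : Fin 23, g • eightAt none = eightAt none ∧ g • eightAt (pt j.val) = eightAt (pt j.val) := by
      intro j
      have h' := forallLt_elim h j.2
      simp only [Bool.and_eq_true, decide_eq_true_eq] at h'
      obtain ⟨l1, l2, l3, l4⟩ := keys_ok j
      let P : ↥leechLattice := ⟨pv (sumKey j), pv_mem l1⟩
      let Q : ↥leechLattice := ⟨pv (difKey j), pv_mem l2⟩
      have hP : g • P = P := Subtype.ext (hg _ _ h'.1 P rfl)
      have hQ : g • Q = Q := Subtype.ext (hg _ _ h'.2 Q rfl)
      have e1 : eightAt none = P + Q := Subtype.ext (funext fun i => (l3 i).symm)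
      have e2 : eightAt (pt j.val) = P - Q := Subtype.ext (funext fun i => (l4 i).symm)
      refine ⟨?_, ?_⟩
      · rw [e1, show g • (P + Q) = g • P + g • Q from map_add (linOf g) _ _, hP, hQ]
      · rw [e2, smul_sub', hP, hQ]
    intro i
    by_cases hi : ix i < 23
    · rw [← pt_ix i]; exact (key ⟨ix i, hi⟩).2
    · rw [show i = none from ix_injective (by
        have := ix_lt i
        show ix i = 23
        omega)]
      exact (key 0).1
  obtain ⟨σ, hσ, w, hw, rfl⟩ := mono_of_eight (hfix none)
  have hσ1 : σ = 1 := Equiv.ext fun i => (mono_fix hσ hw (hfix i)).1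
  have hw0 : w = 0 := funext fun i => (mono_fix hσ hw (hfix i)).2
  subst hw0 hσ1
  rw [fl_zero, one_mul]
  exact co0_ext fun v => by rw [permElt_apply, one_smul]; rfl

/-- A certified orbit is swept out by any subgroup containing the generators. -/
theorem orbit_in {gens : List (List (ℕ × ℕ))} {fixed : List ℕ} {root : ℕ} {T : OTree} {n : ℕ}
    (h : orbitOK gens fixed root T n = true) (K : Subgroup ↥Co0)
    (hK : ∀ i < gens.length, ∃ g ∈ K, Acts g (gens.getD i []))
    (r : ↥leechLattice) (hr : (r : Vec) = pv root) :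
    ∀ e ∈ T.entries, ∃ g ∈ K, ((g • r : ↥leechLattice) : Vec) = pv e.1 := by
  simp only [orbitOK, Bool.and_eq_true] at h
  obtain ⟨-, -, -, hdesc⟩ := h
  have hentry := OTree.descends_spec hdesc
  have reach : ∀ N, ∀ e ∈ T.entries, e.2.1 / 16 < N → ∃ g ∈ K, ((g • r : ↥leechLattice) : Vec) = pv e.1 := by
    intro N
    induction N with
    | zero => intro e _ h; omega
    | succ N ih =>
      intro e he hlt
      have h1 := hentry e he
      rw [entryOK] at h1
      cases hb : Nat.beq e.1 root <;> rw [hb] at h1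
      · rw [cond_false] at h1
        cases hf : T.find e.2.2 with
        | none => rw [hf] at h1; simp at h1
        | some d' =>
          rw [hf] at h1
          simp only [Bool.and_eq_true, Nat.blt_eq] at h1
          obtain ⟨hdep, h1⟩ := h1
          change d' / 16 < e.2.1 / 16 at hdep
          obtain ⟨v, hv⟩ := OTree.find_mem hf
          obtain ⟨g, hg, hgv⟩ := ih _ hv (by simp only; omega)
          cases hev : evalWord (gens.getD (Nat.mod e.2.1 16) []) e.2.2 with
          | none => rw [hev] at h1; simp at h1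
          | some w =>
            rw [hev] at h1
            simp only [Nat.beq_eq] at h1
            subst h1
            by_cases hidx : e.2.1 % 16 < gens.length
            · obtain ⟨u, hu, huv⟩ := hK _ hidx
              refine ⟨u * g, mul_mem hu hg, ?_⟩
              rw [mul_smul]
              exact huv _ _ hev _ hgv
            · rw [show Nat.mod e.2.1 16 = e.2.1 % 16 from rfl, List.getD_eq_default _ _ (Nat.le_of_not_lt hidx),
                show evalWord [] e.2.2 = some e.2.2 from rfl, Option.some.injEq] at hev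
              exact ⟨g, hg, hgv.trans (by rw [hev])⟩
      · rw [Nat.beq_eq] at hb
        exact ⟨1, one_mem K, by rw [one_smul, hr, hb]⟩
  exact fun e he => reach _ e he (Nat.lt_succ_self _)

/-- The root of the suborbit. -/
def rootKey : ℕ := 42255020007607646716556773444

noncomputable def rootPt : ↥leechLattice := elt rootKey (by decide +kernel)

theorem eight_eqs : (∀ i : GolayPt, -(pv 42255020007607646716556773572 i + pv rootKey i) = eightVec (some 0) i) ∧
    (∀ i : GolayPt, pv kPair i + pv kPair i - eightVec (some 0) i = eightVec none i) ∧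
    (∀ i : GolayPt, pv 42255020007607646716556773572 i + pv 42255020007607646716556773572 i + eightVec (some 0) i =
      eightVec (some 1) i) := by
  decide +kernel

theorem edge_words_ok :
    coTwoSubP0Gens.length = 7 ∧ evalWord (coTwoSubP0Gens.getD 0 []) rootKey = some rootKey ∧
    trivWord (rep (coTwoSubP0Gens.getD 1 []) 8) = true ∧ trivWord (rep (coTwoSubP0Gens.getD 2 []) 8) = true ∧
    trivWord (rep (coTwoSubP0Gens.getD 3 []) 8) = true ∧
    (edgeFix.all fun c => decide (c.2.1.all fun i => decide (i < 4)) &&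
      trivWord (rep (coTwoSubP0Gens.getD c.1 [] ++ (c.2.1.map fun i => coTwoSubP0Gens.getD i []).flatten)
        (2 ^ c.2.2))) = true ∧
    edgeFix.map Prod.fst = [4, 5, 6] := by
  decide +kernel

theorem m21_pair : m21Gens.length = 2 ∧ (m21Gens.all fun p =>
      isAut p && Nat.beq (pget p 23) 23 && Nat.beq (pget p 0) 0 && Nat.beq (pget p 1) 1) = true ∧
    ∃ i : Fin 24, pget (m21Gens.getD 0 0) (pget (m21Gens.getD 1 0) i.val) ≠
      pget (m21Gens.getD 1 0) (pget (m21Gens.getD 0 0) i.val) := by
  decide +kernel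

theorem M21_noncomm : ∃ p q : ↥M21, p * q ≠ q * p := by
  obtain ⟨hl, hok, i, hi⟩ := m21_pair
  have hmem : ∀ k < 2, ∃ g : ↥M24, g ∈ M21 ∧ Rep (g : Equiv.Perm GolayPt) (m21Gens.getD k 0) := fun k hk =>
    stabGens_M21 hok _ (by rw [List.getD_eq_getElem _ _ (by omega)]; exact List.getElem_mem _)
  obtain ⟨a, ha, ra⟩ := hmem 0 (by norm_num)
  obtain ⟨b, hb, rb⟩ := hmem 1 (by norm_num)
  refine ⟨⟨a, ha⟩, ⟨b, hb⟩, fun e => hi ?_⟩
  have e' := congrArg (fun z : ↥M21 => ix (z.1.1 (pt i.val))) e
  simp only [Subgroup.coe_mul, Equiv.Perm.coe_mul, Function.comp_apply] at e'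
  rwa [← ra, ← rb, ← rb, ← ra, ix_pt i.2] at e'

variable {Γ : Type} [Group Γ] [Finite Γ] (C : Sheets Γ)

theorem fullAt_edge : C.FullAt pairElt nearPt := by
  intro x y hx hy g hg
  set K := C.T x y with hKdef
  have hfix : ∀ g : ↥Co0, g • pairElt = pairElt → g • nearPt = nearPt → g ∈ fixGroup [C.vec x, C.vec y] :=
    fun g h1 h2 => mem_fixGroup.2 fun v hv => by
      simp only [List.mem_cons, List.not_mem_nil, or_false] at hv
      rcases hv with rfl | rfl
      · rwa [hx]
      · rwa [hy]
  have hpow : ∀ g : ↥Co0, g • pairElt = pairElt → g • nearPt = nearPt → ∀ k : ℕ, g ^ 2 ^ k = 1 → g ∈ K :=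
    fun g h1 h2 k hk => C.mem_T_of_pow (by rwa [hx]) (by rwa [hy]) hk
  -- the stabiliser of the third point
  have h3 : ∀ g : ↥Co0, g • pairElt = pairElt → g • nearPt = nearPt → g • rootPt = rootPt → g ∈ K := by
    intro g h1 h2 h3
    have e0 : eightAt (some 0) = -(nearPt + rootPt) := Subtype.ext (funext fun i => (eight_eqs.1 i).symm)
    have en : eightAt none = pairElt + pairElt - eightAt (some 0) :=
      Subtype.ext (funext fun i => (eight_eqs.2.1 i).symm)
    have e1 : eightAt (some 1) = nearPt + nearPt + eightAt (some 0) :=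
      Subtype.ext (funext fun i => (eight_eqs.2.2 i).symm)
    have hadd : ∀ u v : ↥leechLattice, g • (u + v) = g • u + g • v := map_add (linOf g)
    have f0 : g • eightAt (some 0) = eightAt (some 0) := by rw [e0, smul_neg', hadd, h2, h3]
    have fn : g • eightAt none = eightAt none := by rw [en, smul_sub', hadd, h1, f0]
    have f1 : g • eightAt (some 1) = eightAt (some 1) := by rw [e1, hadd, hadd, h2, f0]
    obtain ⟨σ, hσ, w, hw, rfl⟩ := mono_of_eight fn
    obtain ⟨a1, a2⟩ := mono_fix hσ hw fn
    obtain ⟨b1, b2⟩ := mono_fix hσ hw f0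
    obtain ⟨c1, c2⟩ := mono_fix hσ hw f1
    have hπ : (⟨σ, hσ⟩ : ↥M24) ∈ M21 := mem_M21.2 ⟨a1, b1, c1⟩
    have hM : M21.map permHom ≤ fixGroup [C.vec x, C.vec y] := by
      rintro _ ⟨π, hπ, rfl⟩
      obtain ⟨p1, p2, p3⟩ := mem_M21.1 hπ
      have hperm : ∀ i, permHom π • eightAt i = eightAt (π.1 i) := fun i =>
        Subtype.ext (funext fun k => by
          show eightVec i (π.1.symm k) = eightVec (π.1 i) k
          simp [eightVec, Equiv.symm_apply_eq])
      have hp : π ∈ twoPt := mem_twoPt.2 ⟨p1, p2⟩
      refine hfix _ (perm_fix_pair hp) ?_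
      have hc : ∀ i : GolayPt, pv 42255020007607646716556773572 i ≠ 0 → i = some 0 ∨ i = some 1 := by decide +kernel
      refine Subtype.ext (funext fun i => ?_)
      show pv 42255020007607646716556773572 (π.1.symm i) = pv 42255020007607646716556773572 i
      have p2' : π.1.symm (some 0) = some 0 := π.1.symm_apply_eq.2 (Eq.symm p2)
      have p3' : π.1.symm (some 1) = some 1 := π.1.symm_apply_eq.2 (Eq.symm p3)
      by_cases hi : i = some 0
      · rw [hi, p2']
      by_cases hi' : i = some 1
      · rw [hi', p3']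
      rw [not_not.1 fun hne => (hc i hne).elim hi hi']
      by_contra hne
      rcases hc _ hne with e | e
      · exact hi (by rw [← π.1.apply_symm_apply i, e]; exact p2)
      · exact hi' (by rw [← π.1.apply_symm_apply i, e]; exact p3)
    haveI := M21_isSimple
    haveI : Finite ↥M21 := inferInstance
    have hperf : commutator ↥(M21.map permHom) = ⊤ := by
      haveI : IsSimpleGroup ↥(M21.map permHom) :=
        (M21.equivMapOfInjective _ permHom_injective).symm.isSimpleGroup
      refine ((inferInstance : (commutator ↥(M21.map permHom)).Normal).eq_bot_or_eq_top).resolve_left fun e => ?_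
      obtain ⟨p, q, hpq⟩ : ∃ p q : ↥M21, p * q ≠ q * p := M21_noncomm
      have h := Subgroup.commutator_mem_commutator (Subgroup.mem_top (M21.equivMapOfInjective _ permHom_injective p))
        (Subgroup.mem_top (M21.equivMapOfInjective _ permHom_injective q))
      rw [← commutator_def, e, Subgroup.mem_bot, commutatorElement_eq_one_iff_mul_comm, ← map_mul, ← map_mul] at h
      exact hpq ((M21.equivMapOfInjective _ permHom_injective).injective h)
    have hp : permElt hσ ∈ K := C.le_T_of_perfect _ hM hperf ⟨⟨σ, hσ⟩, hπ, rfl⟩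
    have hp' := mem_fixGroup.1 (hM ⟨⟨σ, hσ⟩, hπ, rfl⟩)
    refine mul_mem (hpow _ ?_ ?_ 1 ?_) hp
    · have := h1
      rwa [mul_smul, show permElt hσ • pairElt = pairElt from by rw [← hx]; exact hp' _ (by simp)] at this
    · have := h2
      rwa [mul_smul, show permElt hσ • nearPt = nearPt from by rw [← hy]; exact hp' _ (by simp)] at this
    · rw [pow_one, pow_two, ← fl_add hw hw]
      simp only [ThreeTrans.Golay.add_self]
      exact fl_zero
  -- the generators
  have hgens : ∀ i < coTwoSubP0Gens.length, ∃ g ∈ K, Acts g (coTwoSubP0Gens.getD i []) := by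
    obtain ⟨hlen, w0, p1, p2, p3, hfixes, hidx⟩ := edge_words_ok
    have hok := coTwoSubP0_ok
    simp only [orbitOK, Bool.and_eq_true, List.all_eq_true, decide_eq_true_eq] at hok
    have hex : ∀ i, ∃ g : ↥Co0, i < 7 →
        Acts g (coTwoSubP0Gens.getD i []) ∧ g • pairElt = pairElt ∧ g • nearPt = nearPt := by
      intro i
      by_cases hi : i < 7
      · have hw : coTwoSubP0Gens.getD i [] ∈ coTwoSubP0Gens := by
          rw [List.getD_eq_getElem _ _ (by omega)]; exact List.getElem_mem _
        obtain ⟨g, hg⟩ := packElt _ (List.all_eq_true.2 (hok.1 _ hw).1)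
        refine ⟨g, fun _ => ⟨hg, Subtype.ext ?_, Subtype.ext ?_⟩⟩
        · exact hg _ _ ((hok.1 _ hw).2 kPair (by simp [kPair])) pairElt rfl
        · exact hg _ _ ((hok.1 _ hw).2 42255020007607646716556773572 (by simp)) nearPt rfl
      · exact ⟨1, fun h => absurd h hi⟩
    choose G hG using hex
    have low : ∀ i < 4, G i ∈ K := by
      intro i hi
      obtain ⟨ha, f1, f2⟩ := hG i (by omega)
      interval_cases i
      · exact h3 _ f1 f2 (Subtype.ext (ha _ _ w0 rootPt rfl))
      · exact hpow _ f1 f2 3 (eq_one_of_triv (ha.pow _) p1)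
      · exact hpow _ f1 f2 3 (eq_one_of_triv (ha.pow _) p2)
      · exact hpow _ f1 f2 3 (eq_one_of_triv (ha.pow _) p3)
    intro i hi
    rw [hlen] at hi
    refine ⟨G i, ?_, (hG i hi).1⟩
    by_cases h4 : i < 4
    · exact low i h4
    have hmem : i ∈ edgeFix.map Prod.fst := by
      rw [hidx]; simp only [List.mem_cons, List.not_mem_nil, or_false]; omega
    obtain ⟨c, hc, rfl⟩ := List.mem_map.1 hmem
    have h' := List.all_eq_true.1 hfixes c hc
    simp only [Bool.and_eq_true, decide_eq_true_eq, List.all_eq_true] at h'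
    have prod : ∀ l : List ℕ, (∀ j ∈ l, j < 4) → ∃ h ∈ K, Acts h (l.map fun i => coTwoSubP0Gens.getD i []).flatten ∧
        h • pairElt = pairElt ∧ h • nearPt = nearPt := by
      intro l
      induction l with
      | nil => exact fun _ => ⟨1, one_mem _, acts_one, one_smul _ _, one_smul _ _⟩
      | cons j l ih =>
        intro hl
        obtain ⟨h, hh, ha, e1, e2⟩ := ih fun k hk => hl k (List.mem_cons_of_mem _ hk)
        obtain ⟨ga, g1, g2⟩ := hG j (by have := hl j List.mem_cons_self; omega)
        refine ⟨h * G j, mul_mem hh (low j (hl j List.mem_cons_self)), ?_, by rw [mul_smul, g1, e1],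
          by rw [mul_smul, g2, e2]⟩
        rw [List.map_cons, List.flatten_cons]
        exact ga.mul ha
    obtain ⟨h, hh, ha, e1, e2⟩ := prod c.2.1 h'.1
    obtain ⟨ga, g1, g2⟩ := hG c.1 hi
    have := hpow (h * G c.1) (by rw [mul_smul, g1, e1]) (by rw [mul_smul, g2, e2]) c.2.2
      (eq_one_of_triv ((ga.mul ha).pow _) h'.2)
    simpa using mul_mem (inv_mem hh) this
  -- transitivity
  have hsub := near_subs 0 (by simp)
  have hg1 : g • pairElt = pairElt := mem_fixGroup.1 hg _ (by simp)
  have hg2 : g • nearPt = nearPt := mem_fixGroup.1 hg _ (by simp)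
  have hroot : rootPt ∈ DS [(pairElt, (-16 : ℤ)), (nearPt, 0)] := ⟨by
      show sqNorm (pv rootKey) = 32
      decide +kernel, by
      simp only [List.forall_mem_cons]
      exact ⟨show dotInt (pv kPair) (pv rootKey) = -16 by decide +kernel,
        show dotInt (pv 42255020007607646716556773572) (pv rootKey) = 0 by decide +kernel, by simp⟩⟩
  have hgr : g • rootPt ∈ DS [(pairElt, (-16 : ℤ)), (nearPt, 0)] :=
    smul_mem_DS (fun p hp => by
      simp only [List.mem_cons, List.not_mem_nil, or_false] at hp
      rcases hp with rfl | rfl <;> assumption) hroot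
  have hall : ∀ v ∈ DS [(pairElt, (-16 : ℤ)), (nearPt, 0)], ∃ e ∈ coTwoSubP0Tree.entries, (v : Vec) = pv e.1 :=
    (ds_cert coTwoSubP0_ok [pairElt, nearPt] rfl _ (by simp) rootPt rfl hroot
      (DS_finite List.mem_cons_self) (by rw [hsub.1]; simp)).2.2
  obtain ⟨e, he, hev⟩ := hall _ hgr
  obtain ⟨k, hk, hkr⟩ := orbit_in coTwoSubP0_ok K hgens rootPt rfl e he
  have hkfix : k • pairElt = pairElt ∧ k • nearPt = nearPt := by
    obtain ⟨γ, rfl, g1, g2⟩ := C.mem_T.1 hk
    exact ⟨by rw [← hx, ← C.vec_smul, g1], by rw [← hy, ← C.vec_smul, g2]⟩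
  have hkg : k⁻¹ * g ∈ K := by
    refine h3 _ ?_ ?_ ?_ <;> rw [mul_smul, inv_smul_eq_iff]
    · rw [hg1, hkfix.1]
    · rw [hg2, hkfix.2]
    · exact Subtype.ext (hev.trans hkr.symm)
  simpa using mul_mem hk hkg

end CfsgLib.Sporadic.CoOneMult
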