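import Cfsg.Agent.Lib.Sporadic.CoOneMultEdge
import Cfsg.Agent.Lib.Schur.CentralLift

/-!
# An odd central extension of Co0 with a complement over Co2 splits

Lifted edges close up around triangles, so the points reached from the base by two of them form a sheet,
stable under a subgroup covering Co0.
-/

set_option autoImplicit false

namespace CfsgLib.Sporadic.CoOneMult

open Cfsg MulAction CfsgLib.Sporadic CfsgLib.Sporadic.Conway CfsgLib.ThreeTrans.Leech CfsgLib.Sporadic.Lattice
open CfsgLib.ThreeTrans.Golay (Word)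
open scoped commutatorElement

set_option maxHeartbeats 1000000

/-- A simple group with two elements that do not commute is perfect. -/
theorem perfect_of_simple {H : Type*} [Group H] [IsSimpleGroup H] {a b : H} (h : a * b ≠ b * a) :
    commutator H = ⊤ := by
  refine ((inferInstance : (commutator H).Normal).eq_bot_or_eq_top).resolve_left fun e => h ?_
  have hm := Subgroup.commutator_mem_commutator (Subgroup.mem_top a) (Subgroup.mem_top b)
  rwa [← commutator_def, e, Subgroup.mem_bot, commutatorElement_eq_one_iff_mul_comm] at hm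

/-- A simple group whose order is not prime is perfect. -/
theorem perfect_of_card {H : Type*} [Group H] [IsSimpleGroup H] (h : ¬ (Nat.card H).Prime) :
    commutator H = ⊤ := by
  by_cases hc : ∀ a b : H, a * b = b * a
  · letI : CommGroup H := { ‹Group H› with mul_comm := hc }
    exact absurd IsSimpleGroup.prime_card h
  · push Not at hc
    obtain ⟨a, b, hab⟩ := hc
    exact perfect_of_simple hab

variable {Γ : Type} [Group Γ] [Finite Γ] (C : Sheets Γ)

theorem fix_pair_mid : fixGroup [fiveElt, pairElt] = fixGroup [pairElt, midPt] := by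
  have hadd : ∀ (g : ↥Co0) (u v : ↥leechLattice), g • (u + v) = g • u + g • v := fun g => map_add (linOf g)
  ext g
  simp only [mem_fixGroup, List.forall_mem_cons, List.not_mem_nil, false_imp_iff, implies_true, and_true]
  constructor
  · rintro ⟨h5, hp⟩
    exact ⟨hp, by rw [midPt, smul_sub', h5, hp]⟩
  · rintro ⟨hp, hm⟩
    refine ⟨?_, hp⟩
    rw [show fiveElt = midPt + pairElt from (sub_add_cancel _ _).symm, hadd, hm, hp]

theorem fullAt_mid : C.FullAt pairElt midPt := by
  intro x y hx hy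
  refine C.le_T_of_perfect _ (by rw [hx, hy]) ?_
  rw [← fix_pair_mid]
  haveI := simple_mcl
  exact perfect_of_card (by rw [card_fix_mcl]; norm_num)

theorem fullAt_twenty : C.FullAt pairElt twentyPt := by
  intro x y hx hy g hg
  have hg' : g ∈ fixGroup [twentyPt, pairElt] := mem_fixGroup.2 fun v hv => mem_fixGroup.1 hg v (by
    simp only [List.mem_cons, List.not_mem_nil, or_false] at hv ⊢; tauto)
  obtain ⟨π, w, hw, hπ, hw1, hw2, rfl, -⟩ := orth_shape hg'
  have hfl := mem_fixGroup.1 (fl_mem_orth hw hw1 hw2)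
  have h1 : fl w hw ∈ C.T x y := C.mem_T_of_pow (by rw [hx]; exact hfl _ (by simp)) (by rw [hy]; exact hfl _ (by simp))
    (k := 1) (by rw [pow_one, pow_two, ← fl_add hw hw]; simp only [ThreeTrans.Golay.add_self]; exact fl_zero)
  refine mul_mem h1 ?_
  haveI : IsSimpleGroup ↥twoPt := M22_isSimple (by simp)
  haveI : IsSimpleGroup ↥(twoPt.map permHom) :=
    (twoPt.equivMapOfInjective _ permHom_injective).symm.isSimpleGroup
  refine C.le_T_of_perfect (twoPt.map permHom) ?_ ?_ ⟨π, hπ, rfl⟩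
  · rintro _ ⟨ρ, hρ, rfl⟩
    refine mem_fixGroup.2 fun v hv => mem_fixGroup.1 (perm_mem_orth hρ) v ?_
    rw [hx, hy] at hv
    simp only [List.mem_cons, List.not_mem_nil, or_false] at hv ⊢; tauto
  · obtain ⟨p, q, hpq⟩ := M21_noncomm
    have hp : p.1 ∈ twoPt := mem_twoPt.2 ⟨(mem_M21.1 p.2).1, (mem_M21.1 p.2).2.1⟩
    have hq : q.1 ∈ twoPt := mem_twoPt.2 ⟨(mem_M21.1 q.2).1, (mem_M21.1 q.2).2.1⟩
    refine perfect_of_simple (a := twoPt.equivMapOfInjective _ permHom_injective ⟨p.1, hp⟩)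
      (b := twoPt.equivMapOfInjective _ permHom_injective ⟨q.1, hq⟩) fun e => hpq ?_
    rw [← map_mul, ← map_mul] at e
    exact Subtype.ext (congrArg (fun z : ↥twoPt => (z : ↥M24)) ((twoPt.equivMapOfInjective _ permHom_injective).injective e))

theorem fullAt_neg {a b : ↥leechLattice} {j : Γ} (hj : C.σ j = negElt) (hjc : ∀ γ, γ * j = j * γ)
    (h : C.FullAt a b) : C.FullAt a (-b) := by
  intro x y hx hy g hg
  have hg' : g ∈ fixGroup [a, b] := mem_fixGroup.2 fun v hv => by
    simp only [List.mem_cons, List.not_mem_nil, or_false] at hv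
    rcases hv with rfl | rfl
    · exact mem_fixGroup.1 hg _ (by simp)
    · have e := mem_fixGroup.1 hg (-v) (by simp)
      rw [smul_neg'] at e
      exact neg_inj.1 e
  obtain ⟨γ, rfl, h1, h2⟩ := C.mem_T.1 (h x (j • y) hx (by rw [C.vec_smul, hj, negElt_smul, hy, neg_neg]) hg')
  refine C.mem_T.2 ⟨γ, rfl, h1, smul_left_cancel j ?_⟩
  rw [← mul_smul, ← hjc, mul_smul, h2]

/-- Any two vectors at distance two. -/
theorem fullAt_far {a d : ↥leechLattice} (ha : Min a) (hd : Min d) (h : Far a d) : C.FullAt a d := by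
  obtain ⟨j, hj, -, hjc⟩ := C.exists_neg
  obtain ⟨g, g1, g2⟩ := far_std hd ha h.symm
  have e : a = g⁻¹ • pairElt := by rw [← g1, inv_smul_smul]
  rcases g2 with (e' | e') | e'
  · rw [e, show d = g⁻¹ • midPt by rw [← e', inv_smul_smul]]
    exact (fullAt_mid C).smul C g⁻¹
  · rw [e, show d = g⁻¹ • (-midPt) by rw [← e', inv_smul_smul]]
    exact (fullAt_neg C hj hjc (fullAt_mid C)).smul C g⁻¹
  · rw [e, show d = g⁻¹ • twentyPt by rw [← e', inv_smul_smul]]
    exact (fullAt_twenty C).smul C g⁻¹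

/-- A symmetric invariant lifting of the edges. -/
structure Link where
  j : Γ
  hj : C.σ j = negElt
  hjj : j * j = 1
  hjc : ∀ γ, γ * j = j * γ
  x₁ : C.X
  hx₁ : C.vec x₁ = nearPt
  τ : Γ
  hτ₀ : τ • C.base = x₁
  hτ₁ : τ • x₁ = C.base

theorem exists_link : Nonempty (Link C) := by
  obtain ⟨j, hj, hjj, hjc⟩ := C.exists_neg
  obtain ⟨g, g1, g2⟩ := edge_trans pair_min near_min near_ip near_min pair_min (by rw [ip_comm, near_ip])
  obtain ⟨y, hy⟩ := C.exists_over near_min
  obtain ⟨γ, hγ, e⟩ := C.lift_to g (x := C.base) (y := y) (by rw [C.vec_base, g1, hy])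
  obtain ⟨z, hz, e'⟩ := C.fibre (x := C.base) (y := γ • y) (by rw [C.vec_smul, hγ, hy, g2, C.vec_base])
  obtain ⟨w, hw, hw2⟩ := C.exists_root hz
  refine ⟨⟨j, hj, hjj, hjc, w • y, by rw [C.vec_ker hw, hy], w * γ, by rw [mul_smul, e], ?_⟩⟩
  rw [← mul_smul, mul_assoc, C.mem_center hw γ, ← mul_assoc, mul_smul, ← e', ← mul_smul, hw2, one_smul]

variable {C}

namespace Link

variable (E : Link C)

/-- A lifted edge. -/
def R (x y : C.X) : Prop := ∃ γ : Γ, γ • C.base = x ∧ γ • E.x₁ = y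

theorem R_symm {x y : C.X} (h : E.R x y) : E.R y x := by
  obtain ⟨γ, h1, h2⟩ := h
  exact ⟨γ * E.τ, by rw [mul_smul, E.hτ₀, h2], by rw [mul_smul, E.hτ₁, h1]⟩

theorem R_smul (γ : Γ) {x y : C.X} (h : E.R x y) : E.R (γ • x) (γ • y) := by
  obtain ⟨δ, h1, h2⟩ := h
  exact ⟨γ * δ, by rw [mul_smul, h1], by rw [mul_smul, h2]⟩

theorem R_ip {x y : C.X} (h : E.R x y) : ip (C.vec x) (C.vec y) = -16 := by
  obtain ⟨γ, rfl, rfl⟩ := h
  rw [C.vec_smul, C.vec_smul, C.vec_base, E.hx₁, ip_smul, near_ip]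

theorem R_exists (x : C.X) {b : ↥leechLattice} (hb : Min b) (h : ip (C.vec x) b = -16) :
    ∃ y, E.R x y ∧ C.vec y = b := by
  obtain ⟨g, g1, g2⟩ := edge_trans pair_min near_min near_ip (C.vec_min x) hb h
  obtain ⟨γ, hγ, e⟩ := C.lift_to g (x := C.base) (y := x) (by rw [C.vec_base, g1])
  exact ⟨γ • E.x₁, ⟨γ, e, rfl⟩, by rw [C.vec_smul, hγ, E.hx₁, g2]⟩

theorem R_uniq {x y y' : C.X} (h : E.R x y) (h' : E.R x y') (hv : C.vec y = C.vec y') : y = y' := by
  obtain ⟨γ, h1, rfl⟩ := h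
  obtain ⟨δ, h1', rfl⟩ := h'
  set ε := γ⁻¹ * δ with hε
  have he : ε • C.base = C.base := by rw [hε, mul_smul, h1', ← h1, inv_smul_smul]
  have hg : C.σ ε ∈ fixGroup [pairElt, nearPt] := mem_fixGroup.2 fun v hv' => by
    simp only [List.mem_cons, List.not_mem_nil, or_false] at hv'
    rcases hv' with rfl | rfl
    · rw [← C.vec_base, ← C.vec_smul, he]
    · rw [← E.hx₁, ← C.vec_smul, hε, mul_smul, C.vec_smul, ← hv, map_inv, C.vec_smul, inv_smul_smul]
  obtain ⟨η, hη, e1, e2⟩ := C.mem_T.1 (fullAt_edge C C.base E.x₁ C.vec_base E.hx₁ hg)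
  have hz : C.σ (η⁻¹ * ε) = 1 := by rw [map_mul, map_inv, hη, inv_mul_cancel]
  have := C.ker_free hz (x := C.base) (by rw [mul_smul, he, inv_smul_eq_iff, e1])
  rw [inv_mul_eq_one] at this
  rw [this, hε, mul_smul, inv_smul_eq_iff] at e2
  exact e2.symm

theorem j_j (x : C.X) : E.j • E.j • x = x := by rw [← mul_smul, E.hjj, one_smul]

theorem vec_j (x : C.X) : C.vec (E.j • x) = -C.vec x := by rw [C.vec_smul, E.hj, negElt_smul]

theorem smul_j (γ : Γ) (x : C.X) : γ • E.j • x = E.j • γ • x := by rw [← mul_smul, E.hjc, mul_smul]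

/-- An edge up to sign. -/
def A (x y : C.X) : Prop := E.R x y ∨ E.R x (E.j • y)

theorem A_symm {x y : C.X} (h : E.A x y) : E.A y x := by
  rcases h with h | h
  · exact Or.inl (E.R_symm h)
  · refine Or.inr ?_
    have := E.R_symm (E.R_smul E.j h)
    rwa [E.j_j] at this

theorem A_j {x y : C.X} (h : E.A x y) : E.A x (E.j • y) := by
  rcases h with h | h
  · exact Or.inr (by rwa [E.j_j])
  · exact Or.inl h

theorem A_smul (γ : Γ) {x y : C.X} (h : E.A x y) : E.A (γ • x) (γ • y) := by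
  rcases h with h | h
  · exact Or.inl (E.R_smul γ h)
  · exact Or.inr (E.smul_j γ y ▸ E.R_smul γ h)

theorem A_near {x y : C.X} (h : E.A x y) : Near (C.vec x) (C.vec y) := by
  rcases h with h | h
  · exact Or.inr (E.R_ip h)
  · have := E.R_ip h
    rw [E.vec_j, ip_neg_right] at this
    exact Or.inl (by omega)

theorem A_exists (x : C.X) {b : ↥leechLattice} (hb : Min b) (h : Near (C.vec x) b) :
    ∃ y, E.A x y ∧ C.vec y = b := by
  rcases h with h | h
  · obtain ⟨y, hy, hv⟩ := E.R_exists x (min_neg hb) (by rw [ip_neg_right, h])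
    exact ⟨E.j • y, Or.inr (by rwa [E.j_j]), by rw [E.vec_j, hv, neg_neg]⟩
  · obtain ⟨y, hy, hv⟩ := E.R_exists x hb h
    exact ⟨y, Or.inl hy, hv⟩

theorem A_uniq {x y y' : C.X} (h : E.A x y) (h' : E.A x y') (hv : C.vec y = C.vec y') : y = y' := by
  rcases h with h | h <;> rcases h' with h' | h'
  · exact E.R_uniq h h' hv
  · exfalso
    have e1 := E.R_ip h
    have e2 := E.R_ip h'
    rw [E.vec_j, ip_neg_right, ← hv] at e2
    omega
  · exfalso
    have e1 := E.R_ip h'
    have e2 := E.R_ip h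
    rw [E.vec_j, ip_neg_right, hv] at e2
    omega
  · exact smul_left_cancel E.j (E.R_uniq h h' (by rw [E.vec_j, E.vec_j, hv]))

theorem near_of_neg {x y : C.X} (h : Near (C.vec x) (C.vec y)) : Near (C.vec x) (C.vec (E.j • y)) := by
  rw [E.vec_j]; exact h.neg_right

/-- Lifted triangles close. -/
theorem tri {x m y : C.X} (h1 : E.A x m) (h2 : E.A m y) (h : Near (C.vec x) (C.vec y)) : E.A x y := by
  have core : ∀ x y, E.R m x → E.R m y → Near (C.vec x) (C.vec y) → E.A x y := by
    intro x y hx hy hxy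
    obtain ⟨y', hxy', hv⟩ := E.A_exists x (C.vec_min y) hxy
    obtain ⟨z, hz, rfl⟩ := C.fibre (x := y) (y := y') hv.symm
    have hne : C.vec y ≠ C.vec x := fun e => by
      rw [e] at hxy
      rcases hxy with q | q <;> rw [ip_self (C.vec_min x)] at q <;> omega
    obtain ⟨g, g1, g2, g3⟩ := tri_trans (C.vec_min m) (C.vec_min x) (C.vec_min y) (E.R_ip hx) (E.R_ip hy)
      (C.vec_min m) (C.vec_min y) (C.vec_min x) (E.R_ip hy) (E.R_ip hx) (ip_comm _ _) hne
    obtain ⟨γ, rfl, e⟩ := C.lift_to g (x := m) (y := m) g1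
    have gx : γ • x = y := E.R_uniq (by simpa [e] using E.R_smul γ hx) hy (by rw [C.vec_smul, g2])
    have gy : γ • y = x := E.R_uniq (by simpa [e] using E.R_smul γ hy) hx (by rw [C.vec_smul, g3])
    have h3 := E.A_smul γ hxy'
    rw [gx, ← mul_smul, C.mem_center hz γ, mul_smul, gy] at h3
    have h4 := E.A_smul z⁻¹ (E.A_symm h3)
    rw [inv_smul_smul] at h4
    have e2 := E.A_uniq hxy' h4 (by rw [C.vec_ker hz, C.vec_ker (by rw [map_inv, hz, inv_one])])
    have hz2 : z * z = 1 := by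
      have := congrArg (z • ·) e2
      simp only [smul_inv_smul] at this
      rw [← mul_smul] at this
      exact C.ker_free (by rw [map_mul, hz, one_mul]) this
    rwa [C.sq_one hz hz2, one_smul] at hxy'
  have mx := E.A_symm h1
  have key : ∀ x, E.R m x → Near (C.vec x) (C.vec y) → E.A x y := by
    intro x hx hxy
    rcases h2 with hy | hy
    · exact core x y hx hy hxy
    · have := E.A_j (core x _ hx hy (E.near_of_neg hxy))
      rwa [E.j_j] at this
  rcases mx with hx | hx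
  · exact key x hx h
  · have := E.A_symm (E.A_j (E.A_symm (key _ hx (by rw [E.vec_j]; exact (h.symm.neg_right).symm))))
    rwa [E.j_j] at this

/-- Two lifted paths to one vector at distance two agree. -/
theorem square {x m y m' y' : C.X} (h1 : E.A x m) (h2 : E.A m y) (h1' : E.A x m') (h2' : E.A m' y')
    (hv : C.vec y' = C.vec y) (hf : Far (C.vec x) (C.vec y)) : y' = y := by
  have pick : ∀ m : C.X, E.A x m → ∀ y, E.A m y → ∃ m₁, E.R m₁ x ∧ E.A m₁ y := by
    intro m h1 y h2
    rcases E.A_symm h1 with h | h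
    · exact ⟨m, h, h2⟩
    · refine ⟨E.j • m, ?_, E.A_symm (E.A_j (E.A_symm h2))⟩
      have := E.R_smul E.j h
      rwa [E.j_j] at this
  obtain ⟨m₁, r1, a1⟩ := pick m h1 y h2
  obtain ⟨m₂, r2, a2⟩ := pick m' h1' y' h2'
  have main : ∀ y y', E.R m₁ y → E.A m₂ y' → C.vec y' = C.vec y → Far (C.vec x) (C.vec y) → y' = y := by
    intro y y' r3 a2 hv hf
    have hne : C.vec y ≠ C.vec x := (hf.ne_neg (C.vec_min x)).1
    have hk := (tri_values (C.vec_min m₁) (C.vec_min x) (C.vec_min y) (E.R_ip r1) (E.R_ip r3)).resolve_left hne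
    simp only [Finset.mem_insert, Finset.mem_singleton] at hk
    have hfull := fullAt_far C (C.vec_min x) (C.vec_min y) hf x y rfl rfl
    have fix : ∀ γ : Γ, γ • x = x → C.σ γ • C.vec y = C.vec y → γ • y = y := by
      intro γ hx hy
      obtain ⟨η, hη, e1, e2⟩ := C.mem_T.1 (hfull (mem_fixGroup.2 fun v hv' => by
        simp only [List.mem_cons, List.not_mem_nil, or_false] at hv'
        rcases hv' with rfl | rfl
        · rw [← C.vec_smul, hx]
        · exact hy) : C.σ γ ∈ C.T x y)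
      have hz : C.σ (η⁻¹ * γ) = 1 := by rw [map_mul, map_inv, hη, inv_mul_cancel]
      have := C.ker_free hz (x := x) (by rw [mul_smul, hx, inv_smul_eq_iff, e1])
      rw [inv_mul_eq_one] at this
      rwa [this] at e2
    rcases a2 with r4 | r4
    · obtain ⟨g, g1, g2, g3⟩ := tri_trans (C.vec_min m₁) (C.vec_min x) (C.vec_min y) (E.R_ip r1) (E.R_ip r3)
        (C.vec_min m₂) (C.vec_min x) (C.vec_min y') (E.R_ip r2) (E.R_ip r4) (by rw [hv]) hne
      obtain ⟨γ, rfl, e⟩ := C.lift_to g (x := x) (y := x) g2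
      have gm : γ • m₁ = m₂ := E.R_uniq (by simpa [e] using E.R_smul γ (E.R_symm r1)) (E.R_symm r2)
        (by rw [C.vec_smul, g1])
      have gy : γ • y = y' := E.R_uniq (by simpa [gm] using E.R_smul γ r3) r4 (by rw [C.vec_smul, g3])
      rw [← gy]
      exact fix γ e (g3.trans hv)
    · have e4 := E.R_ip r4
      have hne' : C.vec (E.j • y') ≠ C.vec x := by
        rw [E.vec_j, hv]
        intro q
        exact (hf.ne_neg (C.vec_min x)).2 (by rw [← q, neg_neg])
      have hk' := (tri_values (C.vec_min m₂) (C.vec_min x) (C.vec_min (E.j • y')) (E.R_ip r2) e4).resolve_left hne'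
      simp only [Finset.mem_insert, Finset.mem_singleton, E.vec_j, ip_neg_right, hv] at hk'
      have h0 : ip (C.vec x) (C.vec y) = 0 := by rcases hf with q | q | q <;> omega
      obtain ⟨g, g1, g2, g3⟩ := tri_trans (C.vec_min m₁) (C.vec_min x) (C.vec_min y) (E.R_ip r1) (E.R_ip r3)
        (C.vec_min m₂) (C.vec_min x) (C.vec_min (E.j • y')) (E.R_ip r2) e4
        (by rw [E.vec_j, ip_neg_right, hv, h0, neg_zero]) hne
      obtain ⟨γ, rfl, e⟩ := C.lift_to g (x := x) (y := x) g2
      have gm : γ • m₁ = m₂ := E.R_uniq (by simpa [e] using E.R_smul γ (E.R_symm r1)) (E.R_symm r2)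
        (by rw [C.vec_smul, g1])
      have gy : γ • y = E.j • y' := E.R_uniq (by simpa [gm] using E.R_smul γ r3) r4 (by rw [C.vec_smul, g3])
      obtain ⟨g', f1, f2, f3⟩ := orth_neg (C.vec_min x) (C.vec_min y) h0
      obtain ⟨ε, hε, eε⟩ := C.lift_to g' (x := x) (y := x) f1
      obtain ⟨z, hz, ez⟩ := C.fibre (x := E.j • y) (y := ε • y) (by rw [E.vec_j, C.vec_smul, hε, f2])
      have hεz : ε • y = z • E.j • y := ez.symm
      have hsq : ε * ε = 1 := C.ker_free (by rw [map_mul, hε, f3]) (x := x) (by rw [mul_smul, eε, eε])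
      have hz1 : z = 1 := by
        refine C.sq_one hz (C.ker_free (by rw [map_mul, hz, one_mul]) (x := y) ?_)
        have : ε • ε • y = ε • z • E.j • y := congrArg (ε • ·) hεz
        rw [← mul_smul ε ε, hsq, one_smul, ← mul_smul ε z, C.mem_center hz ε, mul_smul, E.smul_j, hεz,
          ← mul_smul E.j z, ← E.hjc z, mul_smul, E.j_j, ← mul_smul] at this
        exact this.symm
      rw [hz1, one_smul] at hεz
      obtain ⟨w, hw, ew⟩ := C.fibre (x := y) (y := y') hv.symm
      have h5 := fix (ε * γ) (by rw [mul_smul, e, eε])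
        (by rw [map_mul, hε, mul_smul, g3, E.vec_j, hv, smul_neg', f2, neg_neg])
      rw [mul_smul, gy, E.smul_j, ← ew, ← mul_smul ε w, C.mem_center hw ε, mul_smul, hεz, ← mul_smul E.j w,
        ← E.hjc w, mul_smul, E.j_j, ew] at h5
      exact h5
  rcases a1 with r3 | r3
  · exact main y y' r3 a2 hv hf
  · refine smul_left_cancel E.j (main _ _ r3 (E.A_j a2) (by rw [E.vec_j, E.vec_j, hv]) ?_)
    rw [E.vec_j, Far, ip_neg_right]
    rcases hf with q | q | q <;> omega

/-- The sheet through the base point. -/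
def Reach (y : C.X) : Prop :=
  y = C.base ∨ y = E.j • C.base ∨ E.A C.base y ∨ ∃ m, E.A C.base m ∧ E.A m y ∧ Far (C.vec C.base) (C.vec y)

theorem reach_closed {y y' : C.X} (hy : E.Reach y) (h : E.A y y') : E.Reach y' := by
  rcases hy with rfl | rfl | h1 | ⟨m, h1, h2, hf⟩
  · exact Or.inr (Or.inr (Or.inl h))
  · refine Or.inr (Or.inr (Or.inl ?_))
    have := E.A_symm (E.A_j (E.A_symm h))
    rwa [E.j_j] at this
  · rcases ip_cases (C.vec_min C.base) (C.vec_min y') with ⟨-, e⟩ | ⟨-, e⟩ | hf | hn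
    · exact Or.inl (E.A_uniq h (E.A_symm h1) e)
    · exact Or.inr (Or.inl (E.A_uniq h (E.A_j (E.A_symm h1)) (by rw [E.vec_j]; exact e)))
    · exact Or.inr (Or.inr (Or.inr ⟨y, h1, h, hf⟩))
    · exact Or.inr (Or.inr (Or.inl (E.tri h1 h hn)))
  · rcases ip_cases (C.vec_min C.base) (C.vec_min y') with ⟨-, e⟩ | ⟨-, e⟩ | hf' | hn
    · exfalso
      have hn := (E.A_near h).symm
      rw [e] at hn
      rcases hn with q | q <;> rcases hf with p | p | p <;> omega
    · exfalso
      have hn := (E.A_near h).symm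
      rw [e, Near, ip_neg_left] at hn
      rcases hn with q | q <;> rcases hf with p | p | p <;> omega
    · obtain ⟨b, hb, b1, b2, b3⟩ := common_near (C.vec_min C.base) (C.vec_min y) (C.vec_min y') hf (E.A_near h) hf'
      obtain ⟨mb, a1, rfl⟩ := E.A_exists C.base hb b1.symm
      obtain ⟨y₂, a2, hv⟩ := E.A_exists mb (C.vec_min y) b2
      obtain rfl := E.square h1 h2 a1 a2 hv hf
      obtain ⟨yd, a3, hv'⟩ := E.A_exists mb (C.vec_min y') b3
      have a4 : E.A y₂ yd := E.tri (E.A_symm a2) a3 (by rw [hv']; exact E.A_near h)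
      exact Or.inr (Or.inr (Or.inr ⟨mb, a1, by rwa [E.A_uniq h a4 hv'.symm], hf'⟩))
    · obtain ⟨y₁, a1, hv⟩ := E.A_exists C.base (C.vec_min y') hn
      obtain ⟨y₂, a2, hv2⟩ := E.A_exists y₁ (C.vec_min y) (by rw [hv]; exact (E.A_near h).symm)
      obtain rfl := E.square h1 h2 a1 a2 hv2 hf
      exact Or.inr (Or.inr (Or.inl (by rwa [E.A_uniq h (E.A_symm a2) hv.symm])))

theorem reach_inj {y y' : C.X} (hy : E.Reach y) (hy' : E.Reach y') (hv : C.vec y = C.vec y') : y = y' := by
  have hsep : ∀ y, E.Reach y → (y = C.base ∧ ip (C.vec C.base) (C.vec y) = 32) ∨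
      (y = E.j • C.base ∧ ip (C.vec C.base) (C.vec y) = -32) ∨ (E.A C.base y ∧ Near (C.vec C.base) (C.vec y)) ∨
      ∃ m, E.A C.base m ∧ E.A m y ∧ Far (C.vec C.base) (C.vec y) := by
    rintro y (rfl | rfl | h | h)
    · exact Or.inl ⟨rfl, ip_self (C.vec_min _)⟩
    · exact Or.inr (Or.inl ⟨rfl, by rw [E.vec_j, ip_neg_right, ip_self (C.vec_min _)]⟩)
    · exact Or.inr (Or.inr (Or.inl ⟨h, E.A_near h⟩))
    · exact Or.inr (Or.inr (Or.inr h))
  rcases hsep y hy with ⟨e, q⟩ | ⟨e, q⟩ | ⟨a, q⟩ | ⟨m, a1, a2, q⟩ <;>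
    rcases hsep y' hy' with ⟨e', q'⟩ | ⟨e', q'⟩ | ⟨a', q'⟩ | ⟨m', a1', a2', q'⟩ <;>
    (try simp only [Near, Far, hv] at q) <;> (try simp only [Near, Far] at q') <;>
    first
      | (exfalso; omega)
      | exact e.trans e'.symm
      | exact E.A_uniq a a' hv
      | exact E.square a1' a2' a1 a2 hv (by simpa only [Far] using q')

theorem exists_reach {a : ↥leechLattice} (ha : Min a) : ∃ y, E.Reach y ∧ C.vec y = a := by
  rcases ip_cases (C.vec_min C.base) ha with ⟨-, e⟩ | ⟨-, e⟩ | hf | hn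
  · exact ⟨C.base, Or.inl rfl, e.symm⟩
  · exact ⟨E.j • C.base, Or.inr (Or.inl rfl), by rw [E.vec_j]; exact e.symm⟩
  · obtain ⟨b, hb, b1, b2⟩ := exists_common (C.vec_min C.base) ha hf
    obtain ⟨m, a1, rfl⟩ := E.A_exists C.base hb b1.symm
    obtain ⟨y, a2, hv⟩ := E.A_exists m ha b2
    exact ⟨y, Or.inr (Or.inr (Or.inr ⟨m, a1, a2, by rwa [hv]⟩)), hv⟩
  · obtain ⟨y, a1, hv⟩ := E.A_exists C.base ha hn
    exact ⟨y, Or.inr (Or.inr (Or.inl a1)), hv⟩

theorem reach_smul {γ : Γ} (h : E.Reach (γ • C.base)) {y : C.X} (hy : E.Reach y) : E.Reach (γ • y) := by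
  have hj : ∀ y, E.Reach y → E.Reach (E.j • y) := by
    rintro y (rfl | rfl | h | ⟨m, h1, h2, hf⟩)
    · exact Or.inr (Or.inl rfl)
    · exact Or.inl (E.j_j _)
    · exact Or.inr (Or.inr (Or.inl (E.A_j h)))
    · exact Or.inr (Or.inr (Or.inr ⟨m, h1, E.A_j h2, by
        rw [E.vec_j, Far, ip_neg_right]; rcases hf with q | q | q <;> omega⟩))
  rcases hy with rfl | rfl | h1 | ⟨m, h1, h2, -⟩
  · exact h
  · rw [E.smul_j]; exact hj _ h
  · exact E.reach_closed h (E.A_smul γ h1)
  · exact E.reach_closed (E.reach_closed h (E.A_smul γ h1)) (E.A_smul γ h2)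

/-- The stabiliser of the sheet. -/
def sheet : Subgroup Γ where
  carrier := {γ | E.Reach (γ • C.base)}
  one_mem' := show E.Reach _ by rw [one_smul]; exact Or.inl rfl
  mul_mem' := fun {a b} ha hb => show E.Reach _ by rw [mul_smul]; exact E.reach_smul ha hb
  inv_mem' := fun {a} ha => by
    have key : ∀ n : ℕ, E.Reach (a ^ n • C.base) := by
      intro n
      induction n with
      | zero => rw [pow_zero, one_smul]; exact Or.inl rfl
      | succ n ih => rw [pow_succ', mul_smul]; exact E.reach_smul ha ih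
    show E.Reach _
    have e : a⁻¹ = a ^ (orderOf a - 1) := by
      refine inv_eq_of_mul_eq_one_right ?_
      rw [← pow_succ', Nat.sub_add_cancel (orderOf_pos a), pow_orderOf_eq_one]
    rw [e]
    exact key _

theorem map_sheet : E.sheet.map C.σ = ⊤ := by
  refine eq_top_iff.2 fun g _ => ?_
  obtain ⟨y, hy, hv⟩ := E.exists_reach (min_smul g (C.vec_min C.base))
  obtain ⟨γ, rfl, e⟩ := C.lift_to g (x := C.base) (y := y) hv.symm
  exact Subgroup.mem_map_of_mem _ (show E.Reach _ by rwa [e])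

end Link

theorem ker_eq_bot (C : Sheets Γ) (hstem : C.σ.ker ≤ commutator Γ) : C.σ.ker = ⊥ := by
  obtain ⟨E⟩ := exists_link C
  have htop : E.sheet = ⊤ := CfsgLib.Schur.eq_top_of_stem C.σ ⟨C.surj, C.cent, hstem⟩ _ E.map_sheet
  rw [Subgroup.eq_bot_iff_forall]
  intro z hz
  refine C.ker_free hz (x := C.base) ?_
  have h : E.Reach (z • C.base) := (htop ▸ Subgroup.mem_top z : z ∈ E.sheet)
  exact E.reach_inj h (Or.inl rfl) (C.vec_ker hz _)

end CfsgLib.Sporadic.CoOneMult
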