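import Cfsg.Agent.Lib.Sporadic.CoOneMultBase
import Cfsg.Prelude.Def_KGroupFacts

/-!
# Points over the minimal vectors

In a central extension of Co0 with odd kernel, cosets of a complement of the stabiliser of a minimal vector
lie over the minimal vectors, the kernel permuting each fibre regularly.
-/

set_option autoImplicit false

namespace CfsgLib.Sporadic.CoOneMult

open Cfsg MulAction CfsgLib.Sporadic CfsgLib.Sporadic.Conway CfsgLib.ThreeTrans.Leech CfsgLib.Sporadic.Lattice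

/-- A central extension with odd kernel, and a complement over the stabiliser of the base vector. -/
structure Sheets (Γ : Type) [Group Γ] where
  σ : Γ →* ↥Co0
  surj : Function.Surjective σ
  cent : σ.ker ≤ Subgroup.center Γ
  odd : Odd (Nat.card σ.ker)
  L : Subgroup Γ
  map_L : L.map σ = fixGroup [pairElt]
  inf_L : L ⊓ σ.ker = ⊥

variable {Γ : Type} [Group Γ] (C : Sheets Γ)

namespace Sheets

/-- The points. -/
abbrev X : Type := Γ ⧸ C.L

/-- The base point. -/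
def base : C.X := ((1 : Γ) : Γ ⧸ C.L)

theorem exists_out (x : C.X) : ∃ γ : Γ, γ • C.base = x := by
  induction x using QuotientGroup.induction_on with
  | H γ => exact ⟨γ, by rw [base, MulAction.Quotient.smul_mk, smul_eq_mul, mul_one]⟩

theorem fix_base {γ : Γ} : γ • C.base = C.base ↔ γ ∈ C.L := by
  rw [base, MulAction.Quotient.smul_mk, smul_eq_mul, mul_one, eq_comm, QuotientGroup.eq, inv_one, one_mul]

theorem L_fix {γ : Γ} (h : γ ∈ C.L) : C.σ γ • pairElt = pairElt := by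
  have : C.σ γ ∈ fixGroup [pairElt] := C.map_L ▸ Subgroup.mem_map_of_mem _ h
  exact mem_fixGroup.1 this _ List.mem_cons_self

/-- The vector under a point. -/
noncomputable def vec (x : C.X) : ↥leechLattice := C.σ (C.exists_out x).choose • pairElt

theorem vec_smul_base (γ : Γ) : C.vec (γ • C.base) = C.σ γ • pairElt := by
  set δ := (C.exists_out (γ • C.base)).choose with hδ
  have h : δ • C.base = γ • C.base := (C.exists_out (γ • C.base)).choose_spec
  have h' : γ⁻¹ * δ ∈ C.L := by rw [← C.fix_base, mul_smul, h, inv_smul_smul]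
  have e := C.L_fix h'
  rw [map_mul, map_inv, mul_smul, inv_smul_eq_iff] at e
  exact e

theorem vec_base : C.vec C.base = pairElt := by
  rw [← one_smul Γ C.base, C.vec_smul_base, map_one, one_smul]

theorem vec_smul (γ : Γ) (x : C.X) : C.vec (γ • x) = C.σ γ • C.vec x := by
  obtain ⟨δ, rfl⟩ := C.exists_out x
  rw [← mul_smul, C.vec_smul_base, C.vec_smul_base, map_mul, mul_smul]

theorem vec_min (x : C.X) : Min (C.vec x) := by
  obtain ⟨δ, rfl⟩ := C.exists_out x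
  rw [C.vec_smul_base]
  exact min_smul _ pair_min

theorem mem_center {z : Γ} (hz : C.σ z = 1) (γ : Γ) : γ * z = z * γ :=
  Subgroup.mem_center_iff.1 (C.cent hz) γ

theorem vec_ker {z : Γ} (hz : C.σ z = 1) (x : C.X) : C.vec (z • x) = C.vec x := by
  rw [C.vec_smul, hz, one_smul]

theorem ker_free {z : Γ} (hz : C.σ z = 1) {x : C.X} (h : z • x = x) : z = 1 := by
  obtain ⟨δ, rfl⟩ := C.exists_out x
  rw [← mul_smul, ← C.mem_center hz δ, mul_smul, smul_left_cancel_iff, C.fix_base] at h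
  have : z ∈ C.L ⊓ C.σ.ker := ⟨h, hz⟩
  rwa [C.inf_L, Subgroup.mem_bot] at this

theorem fibre {x y : C.X} (h : C.vec x = C.vec y) : ∃ z, C.σ z = 1 ∧ z • x = y := by
  obtain ⟨δ, rfl⟩ := C.exists_out x
  obtain ⟨ε, rfl⟩ := C.exists_out y
  rw [C.vec_smul_base, C.vec_smul_base] at h
  have hm : C.σ (δ⁻¹ * ε) ∈ C.L.map C.σ := by
    rw [C.map_L]
    refine mem_fixGroup.2 fun v hv => ?_
    simp only [List.mem_cons, List.not_mem_nil, or_false] at hv
    rw [hv, map_mul, map_inv, mul_smul, ← h, inv_smul_smul]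
  obtain ⟨l, hl, e⟩ := hm
  have hz : C.σ (δ⁻¹ * ε * l⁻¹) = 1 := by rw [map_mul, map_inv, e, mul_inv_cancel]
  refine ⟨δ⁻¹ * ε * l⁻¹, hz, ?_⟩
  rw [← mul_smul, ← C.mem_center hz δ, ← mul_assoc, ← mul_assoc, mul_inv_cancel, one_mul, mul_smul,
    C.fix_base.2 (inv_mem hl)]

theorem exists_over {a : ↥leechLattice} (ha : Min a) : ∃ x : C.X, C.vec x = a := by
  obtain ⟨g, hg⟩ := to_pair ha
  obtain ⟨γ, hγ⟩ := C.surj g⁻¹
  exact ⟨γ • C.base, by rw [C.vec_smul_base, hγ, ← hg, inv_smul_smul]⟩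

/-- Lifts with a prescribed image of one point. -/
theorem lift_to (g : ↥Co0) {x y : C.X} (h : g • C.vec x = C.vec y) : ∃ γ, C.σ γ = g ∧ γ • x = y := by
  obtain ⟨γ, rfl⟩ := C.surj g
  obtain ⟨z, hz, e⟩ := C.fibre (x := γ • x) (y := y) (by rw [C.vec_smul, h])
  exact ⟨z * γ, by rw [map_mul, hz, one_mul], by rw [mul_smul, e]⟩

theorem odd_one [Finite Γ] {z : Γ} (hz : C.σ z = 1) {k : ℕ} (h : z ^ 2 ^ k = 1) : z = 1 := by
  rw [← orderOf_eq_one_iff]
  obtain ⟨j, -, hj⟩ := (Nat.dvd_prime_pow Nat.prime_two).1 (orderOf_dvd_of_pow_eq_one h)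
  rcases j with - | j
  · rw [hj, pow_zero]
  · exfalso
    have hd : orderOf z ∣ Nat.card C.σ.ker := by
      have := orderOf_dvd_natCard (⟨z, MonoidHom.mem_ker.2 hz⟩ : C.σ.ker)
      rwa [← Subgroup.orderOf_coe] at this
    have h2 : 2 ∣ Nat.card C.σ.ker := dvd_trans (by rw [hj, pow_succ]; exact Dvd.intro_left _ rfl) hd
    exact (Nat.not_even_iff_odd.2 C.odd) (even_iff_two_dvd.2 h2)

theorem sq_one [Finite Γ] {z : Γ} (hz : C.σ z = 1) (h : z * z = 1) : z = 1 :=
  C.odd_one hz (k := 1) (by rw [pow_one, pow_two, h])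

/-- Every kernel element has a square root. -/
theorem exists_root [Finite Γ] {z : Γ} (hz : C.σ z = 1) : ∃ w, C.σ w = 1 ∧ w * w * z = 1 := by
  obtain ⟨m, hm⟩ := C.odd
  refine ⟨z ^ m, by rw [map_pow, hz, one_pow], ?_⟩
  have h := congrArg Subtype.val (pow_card_eq_one' (G := C.σ.ker) (x := ⟨z, hz⟩))
  rw [SubgroupClass.coe_pow, hm, OneMemClass.coe_one] at h
  rw [← pow_add, ← pow_succ, ← h]
  congr 1
  omega

/-- The central involution over minus one. -/
theorem exists_neg [Finite Γ] : ∃ j : Γ, C.σ j = negElt ∧ j * j = 1 ∧ ∀ γ, γ * j = j * γ := by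
  obtain ⟨γ₀, hγ₀⟩ := C.surj negElt
  have hneg : negElt * negElt = 1 := by
    refine co0_ext fun v => ?_
    rw [mul_smul, negElt_smul, negElt_smul, neg_neg, one_smul]
  have hz : C.σ (γ₀ * γ₀) = 1 := by rw [map_mul, hγ₀, hneg]
  obtain ⟨w, hw, hw2⟩ := C.exists_root hz
  have hj : γ₀ * w * (γ₀ * w) = 1 := by
    calc γ₀ * w * (γ₀ * w) = γ₀ * (w * γ₀) * w := by group
      _ = γ₀ * (γ₀ * w) * w := by rw [C.mem_center hw γ₀]
      _ = γ₀ * γ₀ * (w * w) := by group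
      _ = w * w * (γ₀ * γ₀) := by rw [C.mem_center (by rw [map_mul, hw, mul_one]) (γ₀ * γ₀)]
      _ = 1 := hw2
  have hσj : C.σ (γ₀ * w) = negElt := by rw [map_mul, hγ₀, hw, mul_one]
  refine ⟨γ₀ * w, hσj, hj, fun γ => ?_⟩
  set j := γ₀ * w
  have hc : C.σ (γ * j * γ⁻¹ * j) = 1 := by
    have hcomm : C.σ γ * negElt = negElt * C.σ γ := by
      refine co0_ext fun v => ?_
      rw [mul_smul, mul_smul, negElt_smul, negElt_smul, smul_neg']
    simp only [map_mul, map_inv, hσj]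
    rw [hcomm, mul_inv_cancel_right, hneg]
  set c := γ * j * γ⁻¹ * j with hcdef
  have e : γ * j * γ⁻¹ = c * j := by rw [hcdef, mul_assoc _ j j, hj, mul_one]
  have hcc : c * c = 1 := by
    calc c * c = c * c * (j * j) := by rw [hj, mul_one]
      _ = c * (c * j) * j := by group
      _ = c * (j * c) * j := by rw [C.mem_center hc j]
      _ = (γ * j * γ⁻¹) * (γ * j * γ⁻¹) := by rw [e]; group
      _ = γ * (j * j) * γ⁻¹ := by group
      _ = 1 := by rw [hj]; group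
  rw [C.sq_one hc hcc, one_mul, mul_inv_eq_iff_eq_mul] at e
  exact e

/-! ### elements fixing a pair of points -/

/-- The elements of Co0 with a lift fixing both points. -/
def T (x y : C.X) : Subgroup ↥Co0 := (stabilizer Γ x ⊓ stabilizer Γ y).map C.σ

theorem mem_T {x y : C.X} {g : ↥Co0} : g ∈ C.T x y ↔ ∃ γ, C.σ γ = g ∧ γ • x = x ∧ γ • y = y :=
  ⟨fun ⟨γ, hγ, e⟩ => ⟨γ, e, hγ.1, hγ.2⟩, fun ⟨γ, e, h1, h2⟩ => ⟨γ, ⟨h1, h2⟩, e⟩⟩

/-- Every element fixing two vectors has a lift fixing any points over them. -/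
def FullAt (a b : ↥leechLattice) : Prop :=
  ∀ x y : C.X, C.vec x = a → C.vec y = b → fixGroup [a, b] ≤ C.T x y

theorem FullAt.smul {a b : ↥leechLattice} (h : C.FullAt a b) (g : ↥Co0) : C.FullAt (g • a) (g • b) := by
  intro x y hx hy k hk
  obtain ⟨γ, rfl⟩ := C.surj g
  have hk' : (C.σ γ)⁻¹ * k * C.σ γ ∈ fixGroup [a, b] := by
    refine mem_fixGroup.2 fun v hv => ?_
    rw [mul_smul, mul_smul, inv_smul_eq_iff]
    simp only [List.mem_cons, List.not_mem_nil, or_false] at hv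
    rcases hv with rfl | rfl <;> exact mem_fixGroup.1 hk _ (by simp)
  obtain ⟨δ, hδ, h1, h2⟩ := C.mem_T.1 (h (γ⁻¹ • x) (γ⁻¹ • y) (by rw [C.vec_smul, map_inv, hx, inv_smul_smul])
    (by rw [C.vec_smul, map_inv, hy, inv_smul_smul]) hk')
  refine C.mem_T.2 ⟨γ * δ * γ⁻¹, by rw [map_mul, map_mul, map_inv, hδ]; group, ?_, ?_⟩
  · rw [mul_smul, mul_smul, h1, smul_inv_smul]
  · rw [mul_smul, mul_smul, h2, smul_inv_smul]

/-- An element of two power order fixing both vectors. -/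
theorem mem_T_of_pow [Finite Γ] {x y : C.X} {g : ↥Co0} (hx : g • C.vec x = C.vec x) (hy : g • C.vec y = C.vec y)
    {k : ℕ} (hg : g ^ 2 ^ k = 1) : g ∈ C.T x y := by
  obtain ⟨γ, rfl, hγ⟩ := C.lift_to g hx
  obtain ⟨z, hz, e⟩ := C.fibre (x := y) (y := γ • y) (by rw [C.vec_smul, hy])
  have hpow : ∀ n : ℕ, γ ^ n • y = z ^ n • y := by
    intro n
    induction n with
    | zero => simp
    | succ n ih =>
      have hz' : C.σ (z ^ n) = 1 := by rw [map_pow, hz, one_pow]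
      rw [pow_succ' γ, mul_smul, ih, ← mul_smul, C.mem_center hz' γ, mul_smul, ← e, ← mul_smul, ← pow_succ]
  have hfix : ∀ n : ℕ, γ ^ n • x = x := by
    intro n
    induction n with
    | zero => simp
    | succ n ih => rw [pow_succ, mul_smul, hγ, ih]
  have hσ : C.σ (γ ^ 2 ^ k) = 1 := by rw [map_pow, hg]
  have h1 : γ ^ 2 ^ k = 1 := C.ker_free hσ (hfix _)
  have h2 := hpow (2 ^ k)
  rw [h1, one_smul] at h2
  have hz1 := C.odd_one hz (C.ker_free (by rw [map_pow, hz, one_pow]) h2.symm)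
  exact C.mem_T.2 ⟨γ, rfl, hγ, by rw [← e, hz1, one_smul]⟩

open scoped commutatorElement in
/-- Commutators of elements fixing both vectors. -/
theorem commutator_mem_T {x y : C.X} {g h : ↥Co0} (hg : g ∈ fixGroup [C.vec x, C.vec y])
    (hh : h ∈ fixGroup [C.vec x, C.vec y]) : ⁅g, h⁆ ∈ C.T x y := by
  have lift : ∀ g ∈ fixGroup [C.vec x, C.vec y], ∃ γ z, C.σ γ = g ∧ C.σ z = 1 ∧ γ • x = x ∧ γ • y = z • y := by
    intro g hg
    obtain ⟨γ, rfl, hγ⟩ := C.lift_to g (mem_fixGroup.1 hg _ List.mem_cons_self)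
    obtain ⟨z, hz, e⟩ := C.fibre (x := y) (y := γ • y) (by
      rw [C.vec_smul, mem_fixGroup.1 hg _ (List.mem_cons_of_mem _ List.mem_cons_self)])
    exact ⟨γ, z, rfl, hz, hγ, e.symm⟩
  obtain ⟨γ, z, rfl, hz, g1, g2⟩ := lift g hg
  obtain ⟨δ, w, rfl, hw, h1, h2⟩ := lift h hh
  refine C.mem_T.2 ⟨⁅γ, δ⁆, map_commutatorElement _ _ _, ?_, ?_⟩
  · rw [commutatorElement_def, mul_smul, mul_smul, mul_smul, inv_smul_eq_iff.2 h1.symm, inv_smul_eq_iff.2 g1.symm,
      h1, g1]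
  · have e1 : γ⁻¹ • y = z⁻¹ • y := by
      have hz' : C.σ z⁻¹ = 1 := by rw [map_inv, hz, inv_one]
      rw [inv_smul_eq_iff, ← mul_smul, C.mem_center hz' γ, mul_smul, g2, inv_smul_smul]
    have e2 : δ⁻¹ • y = w⁻¹ • y := by
      have hw' : C.σ w⁻¹ = 1 := by rw [map_inv, hw, inv_one]
      rw [inv_smul_eq_iff, ← mul_smul, C.mem_center hw' δ, mul_smul, h2, inv_smul_smul]
    have hz' : C.σ z⁻¹ = 1 := by rw [map_inv, hz, inv_one]
    have hw' : C.σ w⁻¹ = 1 := by rw [map_inv, hw, inv_one]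
    have tr : ∀ (ε c : Γ), C.σ c = 1 → ∀ p : C.X, ε • c • p = c • ε • p := fun ε c hc p => by
      rw [← mul_smul, C.mem_center hc ε, mul_smul]
    rw [commutatorElement_def, mul_smul, mul_smul, mul_smul, e2, tr γ⁻¹ w⁻¹ hw', e1, tr δ w⁻¹ hw', tr δ z⁻¹ hz', h2,
      tr γ w⁻¹ hw', tr γ z⁻¹ hz', tr γ w hw, g2, ← mul_smul, ← mul_smul, ← mul_smul,
      show w⁻¹ * z⁻¹ * w * z = 1 by rw [mul_assoc w⁻¹, ← C.mem_center hz' w]; group, one_smul]

/-- A perfect subgroup. -/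
theorem le_T_of_perfect {x y : C.X} (H : Subgroup ↥Co0) (hH : H ≤ fixGroup [C.vec x, C.vec y])
    (hperf : commutator ↥H = ⊤) : H ≤ C.T x y := by
  have hle : commutator ↥H ≤ (C.T x y).comap H.subtype :=
    Subgroup.commutator_le.2 fun a _ b _ => by
      rw [Subgroup.mem_comap, map_commutatorElement]
      exact C.commutator_mem_T (hH a.2) (hH b.2)
  intro h hh
  exact hle (hperf ▸ Subgroup.mem_top (⟨h, hh⟩ : ↥H))

end Sheets

end CfsgLib.Sporadic.CoOneMult
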