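import Cfsg.Agent.Lib.Sporadic.CoOneMultOdd
import Cfsg.Agent.Lib.Sporadic.MathieuTwentyFourMultiplier
import Cfsg.Agent.Lib.Sporadic.OctadStab

/-!
# The monomial group has no even multiplier

In a central extension of the monomial group with kernel of exponent two, the copy of M24 carries one
normalised lift of a sign change on an octad to a commutative set of involutions, which span a complement.
-/

set_option autoImplicit false

namespace CfsgLib.Sporadic.CoOneMult

open Cfsg MulAction CfsgLib.Sporadic CfsgLib.Sporadic.Conway CfsgLib.ThreeTrans.Leech CfsgLib.Sporadic.Lattice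
open CfsgLib.ThreeTrans.Golay (act mk Word)
open scoped Pointwise commutatorElement

set_option maxHeartbeats 1000000

/-! ### certificates -/

/-- The first octad of the chain. -/
def baseKey : ℕ := 13062145

theorem baseKey_ok : inCode baseKey = true ∧ popc baseKey = 8 ∧ baseKey < 16777216 := by decide +kernel

theorem fixer_ok : fixerCommutators.all (fun e => isAut e.1 && isAut e.2.1 && isAut e.2.2 &&
    Nat.beq (mimg e.2.1 baseKey) baseKey && Nat.beq (mimg e.2.2 baseKey) baseKey &&
    Nat.beq (pmul e.1 (pmul e.2.2 e.2.1)) (pmul e.2.1 e.2.2) &&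
    forallLt 24 (fun i => Nat.beq (bitAt baseKey i) 0 || Nat.beq (pget e.1 i) i)) = true := by decide +kernel

theorem fixer_cover : forallLt 24 (fun i => Nat.beq (bitAt baseKey i) 1 ||
    fixerCommutators.any (fun e => Nat.beq (pget e.1 1) i)) = true ∧ bitAt baseKey 1 = 0 := by decide +kernel

theorem diff_ok : (octOdd.all fun h => isAut h && Nat.beq (mimg h baseKey) baseKey) = true ∧
    forallLt 12 (fun k => (diffSums.getD k []).all (fun e => Nat.blt e.1 12 && Nat.blt e.2 3) &&
      Nat.beq (((diffSums.getD k []).map fun e =>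
        Nat.xor (mimg (octOdd.getD e.2 0) (basisMask e.1)) (basisMask e.1)).foldr Nat.xor 0)
        (basisMask k)) = true := by
  decide +kernel

theorem triple_ok : (isAut tripleOne && isAut tripleTwo && Nat.beq
    (Nat.xor baseKey (Nat.xor (mimg tripleOne baseKey) (mimg tripleTwo baseKey))) 0) = true := by decide +kernel

theorem chain_ok : forallLt 12 (fun i => Nat.beq (chainOctads.getD i 0) (basisMask i)) = true ∧
    chainOctads.length = 75 ∧
    forallLt 63 (fun k => Nat.blt (chainSteps.getD k (0, 0, 0)).1 (k + 12) &&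
      Nat.blt (chainSteps.getD k (0, 0, 0)).2.1 (k + 12) && isAut (chainSteps.getD k (0, 0, 0)).2.2 &&
      Nat.beq (mimg (chainSteps.getD k (0, 0, 0)).2.2 baseKey)
        (chainOctads.getD (chainSteps.getD k (0, 0, 0)).1 0) &&
      Nat.beq (mimg (chainSteps.getD k (0, 0, 0)).2.2 (mimg tripleOne baseKey))
        (chainOctads.getD (chainSteps.getD k (0, 0, 0)).2.1 0) &&
      Nat.beq (mimg (chainSteps.getD k (0, 0, 0)).2.2 (mimg tripleTwo baseKey))
        (chainOctads.getD (k + 12) 0)) = true ∧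
    (genList.all fun g => forallLt 12 fun i => chainOctads.contains (mimg g (basisMask i))) = true := by
  decide +kernel

/-! ### words -/

/-- The sign changes on the first octad. -/
def baseWord : Word := wordOf baseKey

theorem code_wordOf {m : ℕ} (h : inCode m = true) (hm : m < 16777216) : wordOf m ∈ golayCode :=
  mem_golayCode.2 (by rw [support₂_wordOf, maskOf_setOfMask hm]; exact h)

theorem baseWord_code : baseWord ∈ golayCode := code_wordOf baseKey_ok.1 baseKey_ok.2.2

theorem enc_two_pow : forallLt 12 (fun i => Nat.beq (enc (2 ^ i)) (basisMask i) &&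
    Nat.blt (basisMask i) 16777216) = true := by decide +kernel

theorem basisWord_code {i : ℕ} (hi : i < 12) : wordOf (basisMask i) ∈ golayCode := by
  have h := forallLt_elim enc_two_pow hi
  simp only [Bool.and_eq_true, Nat.beq_eq] at h
  rw [← h.1]
  exact mem_golayCode_iff.2 ⟨2 ^ i, by
    calc 2 ^ i < 2 ^ 12 := Nat.pow_lt_pow_right (by norm_num) hi
      _ = 4096 := by norm_num, rfl⟩

theorem act_wordOf {g : ↥M24} {p m : ℕ} (hg : Rep (g : Equiv.Perm GolayPt) p) (hm : m < 16777216) :
    act g.1 (wordOf m) = wordOf (mimg p m) := by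
  rw [← ThreeTrans.Golay.wordOf_mk (act g.1 _), ThreeTrans.Golay.mk_act hg, ThreeTrans.Golay.mk_wordOf hm]

theorem fl_congr {v w : Word} {hv : v ∈ golayCode} {hw : w ∈ golayCode} (h : v = w) : fl v hv = fl w hw := by
  subst h; rfl

theorem fl_self {w : Word} (hw : w ∈ golayCode) : fl w hw * fl w hw = 1 := by
  rw [← fl_add hw hw, ← fl_zero]
  exact fl_congr (ThreeTrans.Golay.add_self w)

theorem fl_eq_one' {w : Word} (hw : w ∈ golayCode) (h : fl w hw = 1) : w = 0 := by
  funext i
  have e := congrArg (fun g : ↥Co0 => ((g • eightAt i : ↥leechLattice) : Vec) i) h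
  simp only [fl_apply, one_smul] at e
  by_contra hi
  replace hi : w i ≠ 0 := hi
  rw [if_pos hi] at e
  change -(eightVec i i) = eightVec i i at e
  simp [eightVec] at e

theorem permHom_fl (g : ↥M24) {w : Word} (hw : w ∈ golayCode) :
    permHom g * fl w hw * (permHom g)⁻¹ = fl (act g.1 w) (ThreeTrans.Golay.act_code g.2 hw) := by
  simp only [permHom_apply]
  exact fl_conj g.2 hw

/-! ### the stabiliser of the octad is perfect -/

/-- The first octad. -/
def baseSet : Finset GolayPt := setOfMask baseKey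

theorem baseSet_mem : baseSet ∈ octads :=
  mem_octads_iff.2 (by rw [baseSet, maskOf_setOfMask baseKey_ok.2.2]; exact ⟨baseKey_ok.1, baseKey_ok.2.1⟩)

theorem mem_stab_of_mimg {g : ↥M24} {p : ℕ} (hg : Rep (g : Equiv.Perm GolayPt) p)
    (h : mimg p baseKey = baseKey) : g ∈ stabilizer ↥M24 baseSet := by
  rw [mem_stabilizer_iff]
  show (g : Equiv.Perm GolayPt) • setOfMask baseKey = setOfMask baseKey
  rw [smul_setOfMask hg, h]

theorem mem_baseSet {i : GolayPt} : i ∈ baseSet ↔ bitAt baseKey (ix i) = 1 := by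
  rw [baseSet, mem_setOfMask, bitAt_eq]
  cases baseKey.testBit (ix i) <;> simp

theorem stab_perfect : commutator ↥(stabilizer ↥M24 baseSet) = ⊤ := by
  set H := stabilizer ↥M24 baseSet with hH
  have hp : pt 1 ∉ baseSet := by rw [mem_baseSet, ix_pt (by norm_num), fixer_cover.2]; norm_num
  have hker : (octRestrict baseSet).ker ≤ commutator ↥H := by
    intro g hg
    have hfix := fixes_of_ker hg
    have hq : (g : ↥M24) • pt 1 ∉ baseSet := by rw [stab_mem_iff g.2]; exact hp
    have hc := forallLt_elim fixer_cover.1 (ix_lt ((g : ↥M24) • pt 1))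
    rw [Bool.or_eq_true, Nat.beq_eq, List.any_eq_true] at hc
    rcases hc with hc | ⟨⟨c, a, b⟩, hmem, hc⟩
    · exact absurd (mem_baseSet.2 hc) hq
    rw [Nat.beq_eq] at hc
    have h := List.all_eq_true.1 fixer_ok _ hmem
    simp only [Bool.and_eq_true, Nat.beq_eq] at h
    obtain ⟨⟨⟨⟨⟨⟨hc', ha'⟩, hb'⟩, haO⟩, hbO⟩, hrel⟩, hfixc⟩ := h
    obtain ⟨gc, rc⟩ := exists_M24_elt hc'
    obtain ⟨ga, ra⟩ := exists_M24_elt ha'
    obtain ⟨gb, rb⟩ := exists_M24_elt hb'
    have e1 : gc * (gb * ga) = ga * gb := by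
      refine Subtype.ext (Rep.unique (rc.mul (rb.mul ra)) ?_)
      rw [hrel]
      exact ra.mul rb
    have e2 : gc = ⁅ga, gb⁆ := by rw [commutatorElement_def, ← e1]; group
    have e3 : (g : ↥M24) = gc := by
      have hcfix : ∀ x ∈ baseSet, gc • x = x := by
        intro x hx
        have hb := forallLt_elim hfixc (ix_lt x)
        rw [Bool.or_eq_true, Nat.beq_eq, Nat.beq_eq, mem_baseSet.1 hx] at hb
        exact ix_injective ((rc x).symm.trans (hb.resolve_left one_ne_zero))
      have hc1 : gc • pt 1 = (g : ↥M24) • pt 1 :=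
        ix_injective ((rc _).symm.trans (by rw [ix_pt (by norm_num), hc]))
      have := (fix_regular baseSet_mem hp).1 (gc⁻¹ * (g : ↥M24))
        (fun x hx => by rw [mul_smul, hfix x hx, inv_smul_eq_iff, hcfix x hx])
        (by rw [mul_smul, ← hc1, inv_smul_smul])
      exact (inv_mul_eq_one.1 this).symm
    have e4 : g = ⁅(⟨ga, mem_stab_of_mimg ra haO⟩ : ↥H), (⟨gb, mem_stab_of_mimg rb hbO⟩ : ↥H)⁆ := by
      refine Subtype.ext ?_
      rw [e3, e2]
      rfl
    rw [e4]
    exact Subgroup.commutator_mem_commutator (Subgroup.mem_top _) (Subgroup.mem_top _)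
  have hmap : (commutator ↥H).map (octRestrict baseSet) = (octRestrict baseSet).range := by
    rw [commutator_def, Subgroup.map_commutator, ← MonoidHom.range_eq_map, range_restrict baseSet_mem]
    exact commutator_alternatingGroup_eq_self (by
      rw [Nat.card_eq_fintype_card, Fintype.card_coe, baseSet_mem.2]; norm_num)
  rw [eq_top_iff]
  intro x _
  obtain ⟨d, hd, e⟩ : octRestrict baseSet x ∈ (commutator ↥H).map (octRestrict baseSet) := hmap ▸ ⟨x, rfl⟩
  have : d⁻¹ * x ∈ (octRestrict baseSet).ker := by rw [MonoidHom.mem_ker, map_mul, map_inv, e, inv_mul_cancel]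
  simpa using mul_mem hd (hker this)

/-! ### a frame of lifts -/

/-- A central extension with kernel of exponent two and a copy of M24 over the permutations. -/
structure Frame (Γ : Type) [Group Γ] where
  σ : Γ →* ↥Co0
  surj : Function.Surjective σ
  cent : σ.ker ≤ Subgroup.center Γ
  exp2 : ∀ z, σ z = 1 → z * z = 1
  s : ↥M24 →* Γ
  hs : ∀ g, σ (s g) = permHom g

variable {Γ : Type} [Group Γ] (F : Frame Γ)

namespace Frame

theorem comm_ker {z : Γ} (hz : F.σ z = 1) (γ : Γ) : γ * z = z * γ := Subgroup.mem_center_iff.1 (F.cent hz) γ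

/-- A sign change of code word `w` below `u`. -/
def Over (u : Γ) (w : Word) : Prop := ∃ hw : w ∈ golayCode, F.σ u = fl w hw

theorem over_mul {u v : Γ} {a b : Word} (ha : F.Over u a) (hb : F.Over v b) : F.Over (u * v) (a + b) :=
  ⟨add_mem ha.1 hb.1, by rw [map_mul, ha.2, hb.2, fl_add]⟩

theorem over_inv {u : Γ} {a : Word} (ha : F.Over u a) : F.Over u⁻¹ a :=
  ⟨ha.1, by rw [map_inv, ha.2, inv_eq_iff_mul_eq_one, fl_self]⟩

theorem over_one : F.Over 1 0 := ⟨zero_mem _, by rw [map_one, fl_zero]⟩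

theorem over_conj (g : ↥M24) {u : Γ} {a : Word} (ha : F.Over u a) : F.Over (F.s g * u * (F.s g)⁻¹) (act g.1 a) :=
  ⟨ThreeTrans.Golay.act_code g.2 ha.1, by rw [map_mul, map_mul, map_inv, F.hs, ha.2, permHom_fl]⟩

theorem over_diff {u v : Γ} {a : Word} (hu : F.Over u a) (hv : F.Over v a) : F.σ (u⁻¹ * v) = 1 := by
  rw [map_mul, map_inv, hu.2, hv.2, inv_mul_cancel]

theorem exists_over {a : Word} (ha : a ∈ golayCode) : ∃ u, F.Over u a := by
  obtain ⟨u, hu⟩ := F.surj (fl a ha)
  exact ⟨u, ha, hu⟩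

/-- The conjugates of a lift. -/
def X (x : Γ) (g : ↥M24) : Γ := F.s g * x * (F.s g)⁻¹

variable {x : Γ} (hx : F.Over x baseWord)

theorem conj_X (x : Γ) (g h : ↥M24) : F.s g * F.X x h * (F.s g)⁻¹ = F.X x (g * h) := by
  simp only [X, map_mul]; group

theorem X_one (x : Γ) : F.X x 1 = x := by simp [X]

include hx in
theorem over_X (g : ↥M24) : F.Over (F.X x g) (act g.1 baseWord) := F.over_conj g hx

include hx in
theorem stab_comm {k : ↥M24} (hk : k ∈ stabilizer ↥M24 baseSet) : Commute (F.s k) x := by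
  set H := stabilizer ↥M24 baseSet with hH
  have hfix : ∀ a : ↥H, act (a : ↥M24).1 baseWord = baseWord := fun a =>
    ThreeTrans.Golay.mk_injective (by
      show maskOf (support₂ _) = maskOf (support₂ _)
      rw [ThreeTrans.Golay.support_act, baseWord, support₂_wordOf]
      exact congrArg maskOf a.2)
  have hz : ∀ a : ↥H, F.σ (F.s a * x * (F.s a)⁻¹ * x⁻¹) = 1 := fun a => by
    obtain ⟨h1, e1⟩ := F.over_conj (a : ↥M24) hx
    rw [map_mul, e1, fl_congr (hw := hx.1) (hfix a), ← hx.2, ← map_mul, mul_inv_cancel, map_one]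
  let θ : ↥H →* Subgroup.center Γ := MonoidHom.mk' (fun a => ⟨F.s a * x * (F.s a)⁻¹ * x⁻¹, F.cent (hz a)⟩)
    fun a b => Subtype.ext (by
      set za := F.s a * x * (F.s a)⁻¹ * x⁻¹ with hza
      set zb := F.s b * x * (F.s b)⁻¹ * x⁻¹ with hzb
      show F.s ((a * b : ↥H) : ↥M24) * x * (F.s ((a * b : ↥H) : ↥M24))⁻¹ * x⁻¹ = za * zb
      have e : F.s b * x * (F.s b)⁻¹ = zb * x := by rw [hzb]; group
      calc F.s ((a * b : ↥H) : ↥M24) * x * (F.s ((a * b : ↥H) : ↥M24))⁻¹ * x⁻¹
          = F.s a * (F.s b * x * (F.s b)⁻¹) * (F.s a)⁻¹ * x⁻¹ := by rw [Subgroup.coe_mul, map_mul]; group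
        _ = (F.s a * zb) * x * (F.s a)⁻¹ * x⁻¹ := by rw [e]; group
        _ = zb * za := by
            rw [F.comm_ker (show F.σ zb = 1 from hz b) (F.s a), hza]; group
        _ = za * zb := (F.comm_ker (hz b) za).symm)
  have hθ : commutator ↥H ≤ θ.ker := Subgroup.commutator_le.2 fun a _ b _ => by
    rw [MonoidHom.mem_ker, map_commutatorElement, commutatorElement_eq_one_iff_mul_comm]
    exact Subtype.ext (F.comm_ker (hz b) _)
  rw [stab_perfect] at hθ
  have h1 : F.s k * x * (F.s k)⁻¹ * x⁻¹ = 1 := congrArg Subtype.val (hθ (Subgroup.mem_top (⟨k, hk⟩ : ↥H)))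
  rw [mul_inv_eq_one, mul_inv_eq_iff_eq_mul] at h1
  exact h1

include hx in
theorem X_congr {g h : ↥M24} (e : act g.1 baseWord = act h.1 baseWord) : F.X x g = F.X x h := by
  have hk : h⁻¹ * g ∈ stabilizer ↥M24 baseSet := by
    have e' := congrArg support₂ e
    rw [ThreeTrans.Golay.support_act, ThreeTrans.Golay.support_act, baseWord, support₂_wordOf] at e'
    rw [mem_stabilizer_iff, mul_smul, inv_smul_eq_iff]
    exact e'
  have hc := F.stab_comm hx hk
  calc F.X x g = F.X x (h * (h⁻¹ * g)) := by rw [mul_inv_cancel_left]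
    _ = F.s h * F.X x (h⁻¹ * g) * (F.s h)⁻¹ := (F.conj_X x _ _).symm
    _ = F.X x h := by rw [show F.X x (h⁻¹ * g) = x by rw [X, hc.eq, mul_inv_cancel_right]]; rfl

include hx in
theorem comm_code {u : Γ} {w : Word} (hu : F.Over u w) : Commute x u := by
  have hswap : ∀ {u v : Γ} {a : Word}, F.Over u a → F.Over v a → Commute x u → Commute x v := by
    intro u v a ha hb hc
    have h := F.over_diff ha hb
    have : Commute x (u⁻¹ * v) := F.comm_ker h x
    simpa using hc.mul_right this
  have hdiff : ∀ e : ℕ × ℕ, e.1 < 12 → e.2 < 3 →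
      ∃ u, F.Over u (wordOf (Nat.xor (mimg (octOdd.getD e.2 0) (basisMask e.1)) (basisMask e.1))) ∧
        Commute x u := by
    rintro ⟨i, h⟩ hi hh
    have hh' : octOdd.getD h 0 ∈ octOdd := by
      rw [List.getD_eq_getElem _ _ (show h < octOdd.length from hh)]
      exact List.getElem_mem _
    have hd := List.all_eq_true.1 diff_ok.1 _ hh'
    rw [Bool.and_eq_true, Nat.beq_eq] at hd
    obtain ⟨g, hg⟩ := exists_M24_elt hd.1
    have hc := F.stab_comm hx (mem_stab_of_mimg hg hd.2)
    obtain ⟨u, hu⟩ := F.exists_over (basisWord_code hi)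
    have hb := forallLt_elim enc_two_pow hi
    rw [Bool.and_eq_true, Nat.blt_eq] at hb
    refine ⟨F.s g * u * (F.s g)⁻¹ * u⁻¹, ?_, ?_⟩
    · have h2 := F.over_mul (F.over_conj g hu) (F.over_inv hu)
      rwa [act_wordOf hg hb.2, ← wordOf_xor] at h2
    · set z := x * u * x⁻¹ * u⁻¹ with hz
      have hz1 : F.σ z = 1 := by
        rw [hz]; simp only [map_mul, map_inv, hx.2, hu.2]
        have hcomm : fl baseWord hx.1 * fl _ hu.1 = fl _ hu.1 * fl baseWord hx.1 := by
          rw [← fl_add, ← fl_add]; exact fl_congr (add_comm _ _)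
        rw [hcomm]; group
      have e : x * u * x⁻¹ = z * u := by rw [hz]; group
      have hcz : ∀ γ : Γ, γ * z = z * γ := F.comm_ker hz1
      show x * _ = _ * x
      rw [← mul_inv_eq_iff_eq_mul]
      calc x * (F.s g * u * (F.s g)⁻¹ * u⁻¹) * x⁻¹
          = (x * F.s g) * u * (x * F.s g)⁻¹ * (x * u * x⁻¹)⁻¹ := by group
        _ = (F.s g * x) * u * (F.s g * x)⁻¹ * (x * u * x⁻¹)⁻¹ := by rw [hc.eq]
        _ = F.s g * (x * u * x⁻¹) * (F.s g)⁻¹ * (x * u * x⁻¹)⁻¹ := by group
        _ = (F.s g * z) * u * (F.s g)⁻¹ * (z * u)⁻¹ := by rw [e]; group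
        _ = z * (F.s g * u * (F.s g)⁻¹ * u⁻¹) * z⁻¹ := by rw [hcz]; group
        _ = F.s g * u * (F.s g)⁻¹ * u⁻¹ := by rw [← hcz, mul_inv_cancel_right]
  have hbasis : ∀ k < 12, ∃ u, F.Over u (wordOf (basisMask k)) ∧ Commute x u := by
    intro k hk
    have h := forallLt_elim diff_ok.2 hk
    rw [Bool.and_eq_true, Nat.beq_eq, List.all_eq_true] at h
    rw [← h.2]
    have hl := h.1
    revert hl
    induction diffSums.getD k [] with
    | nil => intro _; exact ⟨1, by rw [List.map_nil, List.foldr_nil, wordOf_zero]; exact F.over_one, Commute.one_right x⟩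
    | cons e l ih =>
      intro hl
      have he := hl e List.mem_cons_self
      rw [Bool.and_eq_true, Nat.blt_eq, Nat.blt_eq] at he
      obtain ⟨u, hu, cu⟩ := hdiff e he.1 he.2
      obtain ⟨v, hv, cv⟩ := ih fun a ha => hl a (List.mem_cons_of_mem _ ha)
      refine ⟨u * v, ?_, cu.mul_right cv⟩
      rw [List.map_cons, List.foldr_cons]
      have := F.over_mul hu hv
      rwa [← wordOf_xor] at this
  have hall : ∀ k n, n ≤ 12 → ∃ u, F.Over u (wordOf (xorComb basisMask k n)) ∧ Commute x u := by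
    intro k n
    induction n with
    | zero => intro _; exact ⟨1, by rw [show xorComb basisMask k 0 = 0 from rfl, wordOf_zero]; exact F.over_one,
        Commute.one_right x⟩
    | succ n ih =>
      intro hn
      obtain ⟨u, hu, cu⟩ := ih (by omega)
      obtain ⟨v, hv, cv⟩ := hbasis n (by omega)
      rw [xorComb_succ, bitAt_eq]
      split
      · exact ⟨u * v, by rw [one_mul, wordOf_xor]; exact F.over_mul hu hv, cu.mul_right cv⟩
      · exact ⟨u, by rw [zero_mul, Nat.xor_zero]; exact hu, cu⟩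
  obtain ⟨k, -, rfl⟩ := mem_golayCode_iff.1 hu.1
  obtain ⟨v, hv, cv⟩ := hall k 12 le_rfl
  exact hswap hv hu cv

include hx in
theorem X_comm (g h : ↥M24) : Commute (F.X x g) (F.X x h) := by
  have h1 := F.comm_code hx (F.over_X hx (g⁻¹ * h))
  have h2 := h1.map (MulAut.conj (F.s g)).toMonoidHom
  change Commute (F.s g * x * (F.s g)⁻¹) (F.s g * F.X x (g⁻¹ * h) * (F.s g)⁻¹) at h2
  rwa [F.conj_X, mul_inv_cancel_left] at h2

theorem X_sq {x : Γ} (h : F.σ (x * x) = 1) (g : ↥M24) : F.X x g * F.X x g = x * x := by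
  calc F.X x g * F.X x g = F.s g * (x * x) * (F.s g)⁻¹ := by simp only [X]; group
    _ = x * x := by rw [F.comm_ker h, mul_inv_cancel_right]

/-- A lift fit for a basis. -/
def Good (x : Γ) : Prop := F.Over x baseWord ∧ x * x = 1 ∧ ∀ g₁ g₂ : ↥M24, Rep (g₁ : Equiv.Perm GolayPt) tripleOne →
  Rep (g₂ : Equiv.Perm GolayPt) tripleTwo → F.X x 1 * F.X x g₁ * F.X x g₂ = 1

theorem exists_good : ∃ x, F.Good x := by
  obtain ⟨x, hx⟩ := F.exists_over baseWord_code
  have ht := triple_ok
  simp only [Bool.and_eq_true, Nat.beq_eq] at ht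
  obtain ⟨⟨h1, h2⟩, h3⟩ := ht
  obtain ⟨c₁, r₁⟩ := exists_M24_elt h1
  obtain ⟨c₂, r₂⟩ := exists_M24_elt h2
  have h0 := F.over_mul (F.over_mul (F.over_X hx 1) (F.over_X hx c₁)) (F.over_X hx c₂)
  have hsum : act (1 : ↥M24).1 baseWord + act c₁.1 baseWord + act c₂.1 baseWord = 0 := by
    rw [show act (1 : ↥M24).1 baseWord = baseWord from rfl, baseWord, act_wordOf r₁ baseKey_ok.2.2,
      act_wordOf r₂ baseKey_ok.2.2, ← wordOf_xor, ← wordOf_xor, Nat.xor_assoc]
    exact (congrArg wordOf h3).trans wordOf_zero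
  rw [hsum] at h0
  set y := F.X x 1 * F.X x c₁ * F.X x c₂ with hy
  have hy1 : F.σ y = 1 := h0.2.trans fl_zero
  have hxx : F.σ (x * x) = 1 := by rw [map_mul, hx.2, fl_self]
  have hyy := F.exp2 y hy1
  have hc : ∀ a b : ↥M24, Commute (F.X x a) (F.X x b) := F.X_comm hx
  have e : y * y = x * x * (x * x) * (x * x) := by
    rw [hy, (((hc c₂ 1).symm.mul_left (hc c₂ c₁).symm).symm).mul_mul_mul_comm,
      ((hc c₁ 1)).mul_mul_mul_comm, F.X_sq hxx, F.X_sq hxx, F.X_sq hxx]
  rw [hyy, F.exp2 _ hxx, one_mul] at e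
  have hX : ∀ g, F.X (y * x) g = y * F.X x g := fun g => by
    simp only [X]
    rw [← mul_assoc, F.comm_ker hy1]; group
  refine ⟨y * x, ⟨hx.1, by rw [map_mul, hy1, hx.2, one_mul]⟩, ?_, fun g₁ g₂ q₁ q₂ => ?_⟩
  · rw [(show Commute x y from F.comm_ker hy1 x).mul_mul_mul_comm y x, hyy, one_mul, ← e]
  · obtain rfl : g₁ = c₁ := Subtype.ext (q₁.unique r₁)
    obtain rfl : g₂ = c₂ := Subtype.ext (q₂.unique r₂)
    rw [hX, hX, hX]
    calc y * F.X x 1 * (y * F.X x g₁) * (y * F.X x g₂)
        = y * (F.X x 1 * y) * (F.X x g₁ * y) * F.X x g₂ := by group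
      _ = y * (y * F.X x 1) * (y * F.X x g₁) * F.X x g₂ := by
          rw [F.comm_ker hy1 (F.X x 1), F.comm_ker hy1 (F.X x g₁)]
      _ = y * y * (F.X x 1 * y) * F.X x g₁ * F.X x g₂ := by group
      _ = y * y * (y * F.X x 1) * F.X x g₁ * F.X x g₂ := by rw [F.comm_ker hy1 (F.X x 1)]
      _ = y * y * y * (F.X x 1 * F.X x g₁ * F.X x g₂) := by group
      _ = 1 := by rw [← hy, hyy, one_mul, hyy]

/-! ### the complement -/

theorem basis_carriers : ∀ i, ∃ g : ↥M24, i < 12 → act g.1 baseWord = wordOf (basisMask i) := by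
  intro i
  by_cases hi : i < 12
  · have h1 := baseSet_mem
    have hb := forallLt_elim enc_two_pow hi
    rw [Bool.and_eq_true, Nat.blt_eq, Nat.beq_eq] at hb
    have h2 : setOfMask (basisMask i) ∈ octads := mem_octads_iff.2 (by
      rw [maskOf_setOfMask hb.2]
      refine ⟨?_, hb.1 ▸ ThreeTrans.Golay.basis_octad i hi⟩
      have := (mem_golayCode).1 (basisWord_code hi)
      rwa [support₂_wordOf, maskOf_setOfMask hb.2] at this)
    obtain ⟨g, hg, e⟩ := exists_smul_octad h1 h2
    refine ⟨⟨g, hg⟩, fun _ => ThreeTrans.Golay.mk_injective ?_⟩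
    show maskOf (support₂ _) = maskOf (support₂ _)
    rw [ThreeTrans.Golay.support_act, baseWord, support₂_wordOf, support₂_wordOf]
    exact congrArg maskOf e
  · exact ⟨1, fun h => absurd h hi⟩

/-- The carriers of the basis. -/
noncomputable def carrier (i : ℕ) : ↥M24 := (basis_carriers i).choose

theorem carrier_spec {i : ℕ} (hi : i < 12) : act (carrier i).1 baseWord = wordOf (basisMask i) :=
  (basis_carriers i).choose_spec hi

/-- The product over the bits of `k` below `n`. -/
noncomputable def comb (x : Γ) (k : ℕ) : ℕ → Γ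
  | 0 => 1
  | n + 1 => comb x k n * (if k.testBit n then F.X x (carrier n) else 1)

theorem over_comb {x : Γ} (hx : F.Over x baseWord) (k : ℕ) :
    ∀ n, n ≤ 12 → F.Over (F.comb x k n) (wordOf (xorComb basisMask k n)) := by
  intro n
  induction n with
  | zero => intro _; rw [show xorComb basisMask k 0 = 0 from rfl, wordOf_zero]; exact F.over_one
  | succ n ih =>
    intro hn
    rw [xorComb_succ, bitAt_eq, wordOf_xor]
    refine F.over_mul (ih (by omega)) ?_
    split
    · rw [one_mul, ← carrier_spec (show n < 12 by omega)]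
      exact F.over_X hx _
    · rw [zero_mul, wordOf_zero]; exact F.over_one

variable {F}

theorem comb_comm {x : Γ} (hx : F.Good x) (k m : ℕ) :
    ∀ n, Commute (F.comb x k n) (F.X x (carrier m)) := by
  intro n
  induction n with
  | zero => exact Commute.one_left _
  | succ n ih =>
    refine ih.mul_left ?_
    split
    · exact F.X_comm hx.1 _ _
    · exact Commute.one_left _

theorem comb_xor {x : Γ} (hx : F.Good x) (k l : ℕ) :
    ∀ n, F.comb x (k ^^^ l) n = F.comb x k n * F.comb x l n := by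
  intro n
  induction n with
  | zero => simp [comb]
  | succ n ih =>
    have hsq : F.X x (carrier n) * F.X x (carrier n) = 1 := by
      rw [F.X_sq (by rw [hx.2.1, map_one]), hx.2.1]
    have hc : Commute (if k.testBit n then F.X x (carrier n) else 1) (F.comb x l n) := by
      split
      · exact (comb_comm hx l n n).symm
      · exact Commute.one_left _
    simp only [comb, ih, Nat.testBit_xor]
    rw [hc.mul_mul_mul_comm]
    congr 1
    cases k.testBit n <;> cases l.testBit n <;> simp [hsq]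

theorem comb_two_pow (x : Γ) (i : ℕ) :
    ∀ n, F.comb x (2 ^ i) n = if i < n then F.X x (carrier i) else 1 := by
  intro n
  induction n with
  | zero => simp [comb]
  | succ n ih =>
    simp only [comb, ih, Nat.testBit_two_pow]
    rcases lt_trichotomy i n with h | h | h
    · simp [h, h.ne, Nat.lt_succ_of_lt h]
    · simp [h]
    · simp [h.ne', not_lt_of_ge h.le, show ¬ i < n + 1 by omega]

/-- The elementary abelian complement of the kernel over the sign changes. -/
noncomputable def code {x : Γ} (hx : F.Good x) : Subgroup Γ where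
  carrier := {a | ∃ k < 4096, F.comb x k 12 = a}
  one_mem' := ⟨0, by norm_num, by
    have h := comb_xor hx 0 0 12
    rw [Nat.xor_self] at h
    exact mul_left_cancel (a := F.comb x 0 12) (by rw [← h, mul_one])⟩
  mul_mem' := by
    rintro _ _ ⟨k, hk, rfl⟩ ⟨l, hl, rfl⟩
    exact ⟨k ^^^ l, Nat.xor_lt_two_pow (n := 12) hk hl, comb_xor hx k l 12⟩
  inv_mem' := by
    rintro _ ⟨k, hk, rfl⟩
    have h := comb_xor hx k k 12
    have h0 := comb_xor hx 0 0 12
    rw [Nat.xor_self] at h h0
    have h1 : F.comb x 0 12 = 1 := mul_left_cancel (a := F.comb x 0 12) (by rw [← h0, mul_one])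
    exact ⟨k, hk, (inv_eq_of_mul_eq_one_right (h.symm.trans h1)).symm⟩

theorem carrier_mem {x : Γ} (hx : F.Good x) {i : ℕ} (hi : i < 12) : F.X x (carrier i) ∈ code hx :=
  ⟨2 ^ i, (Nat.pow_lt_pow_right (by norm_num) hi).trans_le (by norm_num),
    (comb_two_pow x i 12).trans (if_pos hi)⟩

theorem code_inf {x : Γ} (hx : F.Good x) {a : Γ} (ha : a ∈ code hx) (h : F.σ a = 1) : a = 1 := by
  obtain ⟨k, hk, rfl⟩ := ha
  obtain ⟨hw, e⟩ := F.over_comb hx.1 k 12 le_rfl
  rw [h] at e
  have h0 : wordOf (enc k) = 0 := fl_eq_one' hw e.symm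
  have h1 : enc k = 0 := by rw [← ThreeTrans.Golay.mk_wordOf (enc_lt hk), h0, ThreeTrans.Golay.mk_zero]
  obtain rfl : k = 0 := enc_inj hk (by norm_num) (h1.trans (by decide +kernel))
  have h2 := comb_xor hx 0 0 12
  rw [Nat.xor_self] at h2
  exact mul_left_cancel (a := F.comb x 0 12) (by rw [← h2, mul_one])

theorem chain_mem {x : Γ} (hx : F.Good x) : ∀ k, k < 75 → ∀ g : ↥M24,
    act g.1 baseWord = wordOf (chainOctads.getD k 0) → F.X x g ∈ code hx := by
  intro k
  induction k using Nat.strong_induction_on with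
  | _ k ih =>
    intro hk g hg
    by_cases h12 : k < 12
    · have h := forallLt_elim chain_ok.1 h12
      rw [Nat.beq_eq] at h
      rw [h, ← carrier_spec h12] at hg
      rw [F.X_congr hx.1 hg]
      exact carrier_mem hx h12
    obtain ⟨j, rfl⟩ : ∃ j, k = j + 12 := ⟨k - 12, by omega⟩
    have h := forallLt_elim chain_ok.2.2.1 (show j < 63 by omega)
    set e := chainSteps.getD j (0, 0, 0) with he
    simp only [Bool.and_eq_true, Nat.blt_eq, Nat.beq_eq] at h
    obtain ⟨⟨⟨⟨⟨hi, hj'⟩, hτ⟩, hA⟩, hB⟩, hC⟩ := h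
    obtain ⟨t, rt⟩ := exists_M24_elt hτ
    have htr := triple_ok
    simp only [Bool.and_eq_true, Nat.beq_eq] at htr
    obtain ⟨c₁, r₁⟩ := exists_M24_elt htr.1.1
    obtain ⟨c₂, r₂⟩ := exists_M24_elt htr.1.2
    have hb := baseKey_ok.2.2
    have eA : act t.1 baseWord = wordOf (chainOctads.getD e.1 0) := by rw [baseWord, act_wordOf rt hb, hA]
    have eB : act (t * c₁).1 baseWord = wordOf (chainOctads.getD e.2.1 0) := by
      rw [Subgroup.coe_mul, ThreeTrans.Golay.act_mul, baseWord, act_wordOf r₁ hb, act_wordOf rt (mimg_lt r₁ _), hB]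
    have eC : act (t * c₂).1 baseWord = wordOf (chainOctads.getD (j + 12) 0) := by
      rw [Subgroup.coe_mul, ThreeTrans.Golay.act_mul, baseWord, act_wordOf r₂ hb, act_wordOf rt (mimg_lt r₂ _), hC]
    rw [F.X_congr hx.1 (hg.trans eC.symm)]
    have h3 := congrArg (fun γ => F.s t * γ * (F.s t)⁻¹) (hx.2.2 c₁ c₂ r₁ r₂)
    have e3 : F.X x (t * 1) * F.X x (t * c₁) * F.X x (t * c₂) = 1 := by
      rw [← F.conj_X, ← F.conj_X, ← F.conj_X]
      simp only [mul_one, mul_inv_cancel] at h3
      rw [← h3]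
      group
    rw [mul_one, mul_eq_one_iff_inv_eq] at e3
    rw [← e3]
    exact inv_mem (mul_mem (ih _ hi (by omega) t eA) (ih _ hj' (by omega) _ eB))

theorem code_normal [Finite Γ] {x : Γ} (hx : F.Good x) (g : ↥M24) :
    ∀ a ∈ code hx, F.s g * a * (F.s g)⁻¹ ∈ code hx := by
  let N : Subgroup ↥M24 := (Subgroup.normalizer (code hx : Set Γ)).comap F.s
  have hgen : ∀ (σ : ↥M24) (p : ℕ), Rep (σ : Equiv.Perm GolayPt) p → p ∈ genList → σ ∈ N := by
    intro σ p hσ hp
    have himg : ∀ a ∈ code hx, F.s σ * a * (F.s σ)⁻¹ ∈ code hx := by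
      rintro _ ⟨k, -, rfl⟩
      have : ∀ n, n ≤ 12 → F.s σ * F.comb x k n * (F.s σ)⁻¹ ∈ code hx := by
        intro n
        induction n with
        | zero => intro _; simp [comb, one_mem]
        | succ n ih =>
          intro hn
          have key : F.s σ * F.X x (carrier n) * (F.s σ)⁻¹ ∈ code hx := by
            rw [F.conj_X]
            have hc := forallLt_elim (List.all_eq_true.1 chain_ok.2.2.2 p hp) (show n < 12 by omega)
            rw [List.contains_iff_mem, List.mem_iff_getElem] at hc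
            obtain ⟨m, hm, em⟩ := hc
            have hb := forallLt_elim enc_two_pow (show n < 12 by omega)
            rw [Bool.and_eq_true, Nat.blt_eq] at hb
            refine chain_mem hx m (chain_ok.2.1 ▸ hm) _ ?_
            rw [Subgroup.coe_mul, ThreeTrans.Golay.act_mul, carrier_spec (show n < 12 by omega),
              act_wordOf hσ hb.2, List.getD_eq_getElem _ _ hm, em]
          simp only [comb]
          split
          · have := mul_mem (ih (by omega)) key
            simpa [mul_assoc] using this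
          · simpa using ih (by omega)
      exact this 12 le_rfl
    have hmap : (code hx).map (MulAut.conj (F.s σ)).toMonoidHom = code hx := by
      refine Subgroup.eq_of_le_of_card_ge ?_ (le_of_eq ?_)
      · rintro _ ⟨a, ha, rfl⟩; exact himg a ha
      · exact (Subgroup.card_map_of_injective (MulAut.conj (F.s σ)).injective).symm
    show F.s σ ∈ Subgroup.normalizer _
    refine Subgroup.mem_normalizer_iff.2 fun a => ⟨himg a, fun ha => ?_⟩
    obtain ⟨b, hb, e⟩ := (hmap.symm ▸ ha : F.s σ * a * (F.s σ)⁻¹ ∈ (code hx).map (MulAut.conj (F.s σ)).toMonoidHom)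
    rwa [← (MulAut.conj (F.s σ)).injective (e : (MulAut.conj (F.s σ)) b = (MulAut.conj (F.s σ)) a)]
  have hN : N = ⊤ := by
    refine Subgroup.map_injective M24.subtype_injective ?_
    rw [← MonoidHom.range_eq_map, Subgroup.range_subtype]
    refine le_antisymm (Subgroup.map_subtype_le N) ?_
    conv_lhs => rw [← M24_generated]
    rw [Subgroup.closure_le]
    rintro π (rfl | rfl | rfl)
    · refine ⟨⟨_, shift_mem⟩, hgen _ 956302485175575353788796878166559809 ?_ (by simp [genList]), rfl⟩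
      have e : packOf (Equiv.optionCongr (Equiv.addRight (1 : ZMod 23))) =
          956302485175575353788796878166559809 := by decide +kernel
      exact e ▸ rep_packOf _
    · refine ⟨⟨_, projInv_mem⟩, hgen _ 1795248432537898728475572672376535 ?_ (by simp [genList]), rfl⟩
      have e : packOf projInv = 1795248432537898728475572672376535 := by decide +kernel
      exact e ▸ rep_packOf _
    · refine ⟨⟨_, cubeTwist_mem⟩, hgen _ 974380510768821363662145534143076928 ?_ (by simp [genList]), rfl⟩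
      have e : packOf cubeTwist = 974380510768821363662145534143076928 := by
        rw [packOf_cubeTwist]; decide +kernel
      exact e ▸ rep_packOf _
  intro a ha
  have hg : F.s g ∈ Subgroup.normalizer (code hx : Set Γ) := (hN ▸ Subgroup.mem_top g : g ∈ N)
  exact (Subgroup.mem_normalizer_iff.1 hg a).1 ha

theorem commutator_inf [Finite Γ] (z : Γ) (h : z ∈ crossStab.comap F.σ) (hz : z ∈ F.σ.ker)
    (hcom : (⟨z, h⟩ : crossStab.comap F.σ) ∈ commutator (crossStab.comap F.σ)) : z = 1 := by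
  obtain ⟨x, hx⟩ := F.exists_good
  let L : Subgroup Γ :=
    { carrier := {γ | ∃ a ∈ code hx, ∃ g, γ = a * F.s g}
      one_mem' := ⟨1, one_mem _, 1, by simp⟩
      mul_mem' := by
        rintro _ _ ⟨a, ha, g, rfl⟩ ⟨b, hb, k, rfl⟩
        exact ⟨a * (F.s g * b * (F.s g)⁻¹), mul_mem ha (code_normal hx g b hb), g * k, by rw [map_mul]; group⟩
      inv_mem' := by
        rintro _ ⟨a, ha, g, rfl⟩
        exact ⟨F.s g⁻¹ * a⁻¹ * (F.s g⁻¹)⁻¹, code_normal hx _ _ (inv_mem ha), g⁻¹, by rw [map_inv]; group⟩ }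
  have hdec : ∀ u ∈ crossStab.comap F.σ, ∃ l ∈ L, ∃ c, F.σ c = 1 ∧ u = l * c := by
    intro u hu
    obtain ⟨τ, hτ, c, hc, e⟩ := exists_mono (mem_crossStab.1 hu)
    obtain ⟨-, hτ', w, hw, e'⟩ := (permOf_mono hτ hc).mono
    obtain ⟨k, hk, rfl⟩ := mem_golayCode_iff.1 hw
    refine ⟨F.comb x k 12 * F.s ⟨τ, hτ⟩, ⟨_, ⟨k, hk, rfl⟩, _, rfl⟩, _, ?_, (mul_inv_cancel_left _ u).symm⟩
    obtain ⟨hw2, e2⟩ := F.over_comb hx.1 k 12 le_rfl
    rw [map_mul, map_inv, map_mul, e2, F.hs, permHom_apply, e, e']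
    exact inv_mul_cancel _
  have hle : commutator (crossStab.comap F.σ) ≤ L.comap (crossStab.comap F.σ).subtype := by
    refine Subgroup.commutator_le.2 fun a _ b _ => ?_
    obtain ⟨l, hl, c, hc, ea⟩ := hdec a a.2
    obtain ⟨m, hm, d, hd, eb⟩ := hdec b b.2
    rw [Subgroup.mem_comap, map_commutatorElement]
    show ⁅(a : Γ), (b : Γ)⁆ ∈ L
    have key : ⁅l * c, m * d⁆ = ⁅l, m⁆ := by
      have hc' : F.σ c⁻¹ = 1 := by rw [map_inv, hc, inv_one]
      calc ⁅l * c, m * d⁆ = l * (c * (m * d)) * c⁻¹ * l⁻¹ * d⁻¹ * m⁻¹ := by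
            rw [commutatorElement_def]; group
        _ = l * ((m * d) * c) * c⁻¹ * l⁻¹ * d⁻¹ * m⁻¹ := by rw [F.comm_ker hc]
        _ = l * m * (d * l⁻¹) * d⁻¹ * m⁻¹ := by group
        _ = l * m * (l⁻¹ * d) * d⁻¹ * m⁻¹ := by rw [F.comm_ker hd]
        _ = ⁅l, m⁆ := by rw [commutatorElement_def]; group
    rw [ea, eb, key]
    exact mul_mem (mul_mem (mul_mem hl hm) (inv_mem hl)) (inv_mem hm)
  obtain ⟨a, ha, g, e⟩ := hle hcom
  change z = a * F.s g at e
  have hg : g = 1 := by
    obtain ⟨k, -, rfl⟩ := ha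
    obtain ⟨hw, e2⟩ := F.over_comb hx.1 k 12 le_rfl
    have h1 := MonoidHom.mem_ker.1 hz
    rw [e, map_mul, e2, F.hs, permHom_apply] at h1
    have hp := (permOf_fl hw).mul (permOf_perm g.2)
    rw [h1, one_mul] at hp
    exact Subtype.ext (hp.eq permOf_one)
  subst hg
  rw [map_one, mul_one] at e
  subst e
  exact code_inf hx ha hz

end Frame

/-- The monomial group has no even multiplier. -/
theorem crossStab_two [Finite Γ] (σ : Γ →* ↥Co0) (hs : Function.Surjective σ) (hc : σ.ker ≤ Subgroup.center Γ)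
    (he : ∀ z, σ z = 1 → z * z = 1) (z : Γ) (h : z ∈ crossStab.comap σ) (hz : z ∈ σ.ker)
    (hcom : (⟨z, h⟩ : crossStab.comap σ) ∈ commutator (crossStab.comap σ)) : z = 1 := by
  haveI : IsSimpleGroup ↥M24 := M24_isSimple
  haveI : Finite ↥M24 := inferInstance
  obtain ⟨s, hs'⟩ := CfsgLib.Schur.exists_lift_of_perfect σ hs hc
    (perfect_of_card (H := ↥M24) (by rw [M24_card]; norm_num)) MTwentyFourMult.multiplier_trivial permHom
  exact Frame.commutator_inf (F := ⟨σ, hs, hc, he, s, DFunLike.congr_fun hs'⟩) z h hz hcom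

end CfsgLib.Sporadic.CoOneMult
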