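import Cfsg.Prelude.Def_Spor_Conway
import Cfsg.Prelude.Def_KGroupFacts
import Cfsg.Agent.Lib.Sporadic.ConwayKeys
import Cfsg.Agent.Lib.Sporadic.ConwaySmallSimple
import Cfsg.Agent.Lib.Sporadic.MultCoPoints.Data
import Cfsg.Agent.Lib.Sporadic.MultCoPoints.GenWords
import Cfsg.Agent.Lib.Sporadic.MultCoTwoPart.Checks
import Cfsg.Agent.Lib.Sporadic.MultCoThreePart.Checks
import Cfsg.Agent.Lib.Sporadic.MultCoFivePart.Checks
import Cfsg.Agent.Lib.Schur.PermChainLocal
import Cfsg.Agent.Lib.Schur.TwoGen

/-!
# The Schur multiplier of the third Conway group is trivial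

Three subgroups, containing Sylow subgroups for 2, 3 and 5, have multipliers of order at most two, bounded by
chains of coset tables; with a subgroup of order 23 their indices leave nothing for the kernel.
-/

set_option autoImplicit false
set_option maxRecDepth 100000

namespace CfsgLib.Sporadic.CoThreeMult

open Cfsg CfsgLib.ThreeTrans.Leech CfsgLib.Sporadic.Lattice CfsgLib.Sporadic.Conway
open CfsgLib.Schur.Cert (pgetN RepN wordImgN wval Word LinCert)
open scoped Pointwise

attribute [local irreducible] OTree.entries coThreeSplitsTree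

local notation "G₃" => Subtype fun g : ↥Co0 => g ∈ fixGroup [fiveElt]

theorem keys_eq : coThreeSplitsTree.entries.map Prod.fst = MultCoPoints.keys := by decide +kernel

theorem keys_len : MultCoPoints.keys.length = 552 := by decide +kernel

theorem exists_numbered_co : Nonempty (Numbered [fiveElt] [(fiveElt, (24 : ℤ))] MultCoPoints.keys 552) := by
  have h := exists_numbered (f := [fiveElt]) (ks := [(fiveElt, (24 : ℤ))]) (by simp) split_set.2.2 keys_eq
    (split_set.1.trans keys_len.symm)
  rwa [keys_len] at h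

noncomputable def num : Numbered [fiveElt] [(fiveElt, (24 : ℤ))] MultCoPoints.keys 552 := exists_numbered_co.some

/-- The action on the 552 numbers. -/
noncomputable def act : G₃ →* Equiv.Perm (Fin 552) := num.toPermN

theorem gens_check : (forallLt 6 fun j => Numbered.wordOK [kFive] MultCoPoints.keys 552 (coThreeSplitsGens.getD j [])
      (MultCoPoints.perms.getD j 0)) = true ∧
    (forallLt 6 fun j => forallLt 552 fun x =>
      Nat.beq (pgetN (MultCoPoints.pinvs.getD j 0) (pgetN (MultCoPoints.perms.getD j 0) x)) x) = true ∧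
    Nat.beq (pgetN (MultCoPoints.perms.getD 0 0) 0) 0 = false := by
  refine ⟨(forallLt_iff _ _).2 fun j hj => ?_, gen_inv, by decide +kernel⟩
  interval_cases j
  exacts [gen_word0, gen_word1, gen_word2, gen_word3, gen_word4, gen_word5]

theorem exists_gen (j : ℕ) (hj : j < 6) : ∃ g : G₃, RepN (act g) (MultCoPoints.perms.getD j 0) :=
  num.exists_repN rfl (forallLt_elim gens_check.1 hj)

/-- The elements fixing all 552 points. -/
def pointKernel : Subgroup ↥Co0 where
  carrier := {a | a ∈ fixGroup [fiveElt] ∧ ∀ x ∈ DS [(fiveElt, (24 : ℤ))], a • x = x}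
  one_mem' := ⟨one_mem _, fun x _ => one_smul _ x⟩
  mul_mem' := fun {a b} ha hb => ⟨mul_mem ha.1 hb.1, fun x hx => by rw [mul_smul, hb.2 x hx, ha.2 x hx]⟩
  inv_mem' := fun {a} ha => ⟨inv_mem ha.1, fun x hx => by rw [inv_smul_eq_iff]; exact (ha.2 x hx).symm⟩

theorem pointKernel_normIn : NormIn pointKernel [fiveElt] :=
  ⟨fun _ h => h.1, fun g hg n hn => ⟨mul_mem (mul_mem hg hn.1) (inv_mem hg), fun x hx => by
    rw [mul_smul, mul_smul, hn.2 _ (smul_mem_DS (fun p hp => mem_fixGroup.1 (inv_mem hg) p.1 (by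
      simp at hp ⊢; subst hp; rfl)) hx), smul_inv_smul]⟩⟩

theorem act_injective : Function.Injective act := num.injective_of fun g hg h => by
  have hm : g ∈ pointKernel := ⟨hg, h⟩
  rcases coThree_normIn pointKernel_normIn with e | e
  · rwa [e, Subgroup.mem_bot] at hm
  · exfalso
    obtain ⟨a, ha⟩ := exists_gen 0 (by norm_num)
    have hk : (a : ↥Co0) ∈ pointKernel := by rw [e]; exact a.2
    have hfix : num.toPermN a ⟨0, by norm_num⟩ = ⟨0, by norm_num⟩ :=
      num.inj (by rw [num.toPermN_spec]; exact hk.2 _ (num.mem _))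
    have h1 : pgetN (MultCoPoints.perms.getD 0 0) 0 = 0 := by
      have h2 := ha ⟨0, by norm_num⟩
      rw [show act = num.toPermN from rfl, hfix] at h2
      exact h2
    exact absurd gens_check.2.2 (by rw [h1, Nat.beq_refl]; simp)

/-- A word gives the packed permutation. -/
noncomputable def wordPermOK (w : Word) (p : ℕ) : Bool :=
  (w.all fun l => Nat.blt l.1 6) &&
    forallLt 552 fun x => Nat.beq (wordImgN MultCoPoints.perms MultCoPoints.pinvs w x) (pgetN p x)

theorem exists_word_elt {w : Word} {p : ℕ} (h : wordPermOK w p = true) : ∃ g : G₃, RepN (act g) p := by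
  simp only [wordPermOK, Bool.and_eq_true, List.all_eq_true, Nat.blt_eq] at h
  choose b hb using exists_gen
  let b' : ℕ → G₃ := fun j => if h : j < 6 then b j h else 1
  have hrep : ∀ j < 6, RepN (act (b' j)) (MultCoPoints.perms.getD j 0) := fun j hj => by
    simp only [b', dif_pos hj]; exact hb j hj
  refine ⟨wval b' w, fun x => ?_⟩
  rw [← CfsgLib.Schur.Cert.wordImgN_spec act (m := 6) (b := b') hrep
    (fun j hj => CfsgLib.Schur.Cert.RepN.inv (hrep j hj) (forallLt_elim gens_check.2.1 hj)) w h.1 x]
  exact (Nat.eq_of_beq_eq_true (forallLt_elim h.2 x.2)).symm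

theorem top_two0 : wordPermOK (MultCoPoints.twoWords.getD 0 []) ((chainPerm MultCoTwoPart.chain).getD 0 0) = true := by
  decide +kernel

theorem top_two1 : wordPermOK (MultCoPoints.twoWords.getD 1 []) ((chainPerm MultCoTwoPart.chain).getD 1 0) = true := by
  decide +kernel

theorem top_three0 : wordPermOK (MultCoPoints.threeWords.getD 0 []) ((chainPerm MultCoThreePart.chain).getD 0 0) = true := by
  decide +kernel

theorem top_three1 : wordPermOK (MultCoPoints.threeWords.getD 1 []) ((chainPerm MultCoThreePart.chain).getD 1 0) = true := by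
  decide +kernel

theorem top_five0 : wordPermOK (MultCoPoints.fiveWords.getD 0 []) ((chainPerm MultCoFivePart.chain).getD 0 0) = true := by
  decide +kernel

theorem top_five1 : wordPermOK (MultCoPoints.fiveWords.getD 1 []) ((chainPerm MultCoFivePart.chain).getD 1 0) = true := by
  decide +kernel

theorem top_check :
    (forallLt 2 fun j => wordPermOK (MultCoPoints.twoWords.getD j []) ((chainPerm MultCoTwoPart.chain).getD j 0)) = true ∧
    (forallLt 2 fun j => wordPermOK (MultCoPoints.threeWords.getD j []) ((chainPerm MultCoThreePart.chain).getD j 0)) = true ∧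
    (forallLt 2 fun j => wordPermOK (MultCoPoints.fiveWords.getD j []) ((chainPerm MultCoFivePart.chain).getD j 0)) = true := by
  refine ⟨(forallLt_iff _ _).2 fun j hj => ?_, (forallLt_iff _ _).2 fun j hj => ?_, (forallLt_iff _ _).2 fun j hj => ?_⟩ <;>
    interval_cases j
  exacts [top_two0, top_two1, top_three0, top_three1, top_five0, top_five1]

theorem size_check : ((chainPerm MultCoTwoPart.chain).length = 2 ∧ chainGen MultCoTwoPart.chain = 2 ∧
      chainSize MultCoTwoPart.chain = 2903040 ∧ MultCoTwoPart.lin.bound = 1) ∧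
    ((chainPerm MultCoThreePart.chain).length = 2 ∧ chainGen MultCoThreePart.chain = 2 ∧
      chainSize MultCoThreePart.chain = 699840 ∧ MultCoThreePart.lin.bound = 2) ∧
    ((chainPerm MultCoFivePart.chain).length = 2 ∧ chainGen MultCoFivePart.chain = 2 ∧
      chainSize MultCoFivePart.chain = 1500 ∧ MultCoFivePart.lin.bound = 1) := by
  decide +kernel

theorem multiplier_fix : Cfsg.HasCyclicSchurMultiplier G₃ 1 := by
  have : Finite G₃ := Nat.finite_of_card_ne_zero (by rw [card_fix_five]; norm_num)
  refine CfsgLib.Schur.hasCyclicSchurMultiplier_one_of_forall fun Γ _ _ σ hσ =>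
    (Subgroup.eq_bot_iff_forall _).2 fun z hz => ?_
  obtain ⟨⟨l2, g2, s2, b2⟩, ⟨l3, g3, s3, b3⟩, ⟨l5, g5, s5, b5⟩⟩ := size_check
  obtain ⟨U2, hU2, k2⟩ := CfsgLib.Schur.Cert.pow_eq_one_of_chain act act_injective MultCoTwoPart.chain MultCoTwoPart.lin MultCoTwoPart.rows 2
    (fun j hj => exists_word_elt (forallLt_elim top_check.1 hj)) l2 g2 MultCoTwoPart.perms_check
    MultCoTwoPart.rows_check.1 MultCoTwoPart.tables_check (MultCoTwoPart.rows_check.2.trans (by decide +kernel))
    MultCoTwoPart.lin_check σ hσ z hz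
  obtain ⟨U3, hU3, k3⟩ := CfsgLib.Schur.Cert.pow_eq_one_of_chain act act_injective MultCoThreePart.chain MultCoThreePart.lin MultCoThreePart.rows 2
    (fun j hj => exists_word_elt (forallLt_elim top_check.2.1 hj)) l3 g3 MultCoThreePart.perms_check
    MultCoThreePart.rows_check.1 MultCoThreePart.tables_check (MultCoThreePart.rows_check.2.trans (by decide +kernel))
    MultCoThreePart.lin_check σ hσ z hz
  obtain ⟨U5, hU5, k5⟩ := CfsgLib.Schur.Cert.pow_eq_one_of_chain act act_injective MultCoFivePart.chain MultCoFivePart.lin MultCoFivePart.rows 2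
    (fun j hj => exists_word_elt (forallLt_elim top_check.2.2 hj)) l5 g5 MultCoFivePart.perms_check
    MultCoFivePart.rows_check.1 MultCoFivePart.tables_check (MultCoFivePart.rows_check.2.trans (by decide +kernel))
    MultCoFivePart.lin_check σ hσ z hz
  have i2 : U2.index = 170775 := by
    have h := Subgroup.card_mul_index U2; rw [hU2, s2, card_fix_five] at h; omega
  have i3 : U3.index = 708400 := by
    have h := Subgroup.card_mul_index U3; rw [hU3, s3, card_fix_five] at h; omega
  have i5 : U5.index = 330511104 := by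
    have h := Subgroup.card_mul_index U5; rw [hU5, s5, card_fix_five] at h; omega
  rw [i2, b2] at k2
  rw [i3, b3] at k3
  rw [i5, b5] at k5
  haveI : Fact (Nat.Prime 23) := ⟨by norm_num⟩
  obtain ⟨x, hx⟩ := exists_prime_orderOf_dvd_card' (G := G₃) 23 (by rw [card_fix_five]; norm_num)
  have k23 : z ^ (Subgroup.zpowers x).index = 1 :=
    CfsgLib.Known.SL2Mult.pow_index_eq_one σ hσ (Subgroup.zpowers x) (fun y h hy hcom =>
      CfsgLib.Known.SL2Mult.trivial_of_mult σ hσ _
        (CfsgLib.Schur.hasCyclicSchurMultiplier_one_of_isCyclic _) y h hy hcom) hz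
  have i23 : (Subgroup.zpowers x).index = 21555072000 := by
    have h := Subgroup.card_mul_index (Subgroup.zpowers x)
    rw [Nat.card_zpowers, hx, card_fix_five] at h; omega
  rw [i23] at k23
  haveI : Fact (Nat.Prime 11) := ⟨by norm_num⟩
  obtain ⟨y, hy⟩ := exists_prime_orderOf_dvd_card' (G := G₃) 11 (by rw [card_fix_five]; norm_num)
  have k11 : z ^ (Subgroup.zpowers y).index = 1 :=
    CfsgLib.Known.SL2Mult.pow_index_eq_one σ hσ (Subgroup.zpowers y) (fun w h hw hcom =>
      CfsgLib.Known.SL2Mult.trivial_of_mult σ hσ _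
        (CfsgLib.Schur.hasCyclicSchurMultiplier_one_of_isCyclic _) w h hw hcom) hz
  have i11 : (Subgroup.zpowers y).index = 45069696000 := by
    have h := Subgroup.card_mul_index (Subgroup.zpowers y)
    rw [Nat.card_zpowers, hy, card_fix_five] at h; omega
  rw [i11] at k11
  have h : z ^ Nat.gcd (Nat.gcd 170775 (708400 * 2)) (Nat.gcd (Nat.gcd 330511104 21555072000) 45069696000) = 1 :=
    pow_gcd_eq_one.2 ⟨pow_gcd_eq_one.2 ⟨by simpa using k2, by simpa [Nat.factorial] using k3⟩,
      pow_gcd_eq_one.2 ⟨pow_gcd_eq_one.2 ⟨by simpa using k5, k23⟩, k11⟩⟩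
  rwa [show Nat.gcd (Nat.gcd 170775 (708400 * 2)) (Nat.gcd (Nat.gcd 330511104 21555072000) 45069696000) = 1
    by decide +kernel, pow_one] at h

theorem leechV_eq : Spor.leechV = -fiveElt := by
  refine Subtype.ext ?_
  rw [NegMemClass.coe_neg]
  show Spor.vecV = -pv kFive
  decide +kernel

theorem fix_iff (g : ↥Co0) : g ∈ fixGroup [fiveElt] ↔ g • Spor.leechV = Spor.leechV := by
  have hn : ∀ x : ↥leechLattice, g • (-x) = -(g • x) := smul_neg' g
  rw [mem_fixGroup, leechV_eq, hn, neg_inj]
  simp

/-- The group as defined is the stabiliser. -/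
def sporEquiv : ↥(fixGroup [fiveElt]) ≃* ↥Spor.Co3 where
  toFun g := ⟨g.1.1, g.1.2, (fix_iff g.1).1 g.2⟩
  invFun g := ⟨⟨g.1, g.2.1⟩, (fix_iff _).2 g.2.2⟩
  left_inv _ := rfl
  right_inv _ := rfl
  map_mul' _ _ := rfl

end CfsgLib.Sporadic.CoThreeMult
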