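import Cfsg.Agent.Lib.Sporadic.CoOneMultTwo
import Cfsg.Agent.Lib.Sporadic.CoThreeMultiplier
import Cfsg.Agent.Lib.Known.SL2Multiplier
import Cfsg.Prelude.Def_Spor_Conway

/-!
# The multiplier of Co1

A stem extension of Co0 has odd kernel by its monomial subgroup, and an odd kernel has a complement over Co2
by the smallest Conway group, so the cover of the minimal vectors splits it.
-/

set_option autoImplicit false

namespace CfsgLib.Sporadic.CoOneMult

open Cfsg MulAction CfsgLib.Sporadic CfsgLib.Sporadic.Conway CfsgLib.ThreeTrans.Leech CfsgLib.Sporadic.Lattice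
open CfsgLib.ThreeTrans.Golay (act mk Word)
open scoped commutatorElement

set_option maxHeartbeats 1000000

theorem finite_co0 : Finite ↥Co0 := Nat.finite_of_card_ne_zero (by rw [card_Co0]; norm_num)

theorem co0_perfect : commutator ↥Co0 = ⊤ := by
  set N := commutator ↥Co0 with hN
  have hdiff : ∀ (g : ↥M24) (w : Word) (hw : w ∈ golayCode),
      fl (act g.1 w + w) (add_mem (ThreeTrans.Golay.act_code g.2 hw) hw) ∈ N := by
    intro g w hw
    have hinv : (fl w hw)⁻¹ = fl w hw := inv_eq_of_mul_eq_one_right (fl_self hw)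
    have h := Subgroup.commutator_mem_commutator (Subgroup.mem_top (permHom g)) (Subgroup.mem_top (fl w hw))
    rwa [← commutator_def, commutatorElement_def, permHom_fl, hinv, ← fl_add] at h
  have hadd : ∀ a b : Word, (∃ h : a ∈ golayCode, fl a h ∈ N) → (∃ h : b ∈ golayCode, fl b h ∈ N) →
      ∃ h : a + b ∈ golayCode, fl (a + b) h ∈ N := fun a b ⟨ha, h1⟩ ⟨hb, h2⟩ =>
    ⟨add_mem ha hb, fl_add ha hb ▸ mul_mem h1 h2⟩
  have hzero : ∃ h : (0 : Word) ∈ golayCode, fl 0 h ∈ N := ⟨zero_mem _, fl_zero ▸ one_mem N⟩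
  have hbasis : ∀ k < 12, ∃ h : wordOf (basisMask k) ∈ golayCode, fl _ h ∈ N := by
    intro k hk
    have h := forallLt_elim diff_ok.2 hk
    rw [Bool.and_eq_true, Nat.beq_eq, List.all_eq_true] at h
    rw [← h.2]
    have hl := h.1
    revert hl
    induction diffSums.getD k [] with
    | nil => intro _; rw [List.map_nil, List.foldr_nil, wordOf_zero]; exact hzero
    | cons e l ih =>
      intro hl
      have he := hl e List.mem_cons_self
      rw [Bool.and_eq_true, Nat.blt_eq, Nat.blt_eq] at he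
      have hmem : octOdd.getD e.2 0 ∈ octOdd := by
        rw [List.getD_eq_getElem _ _ (show e.2 < octOdd.length from he.2)]
        exact List.getElem_mem _
      have hd := List.all_eq_true.1 diff_ok.1 _ hmem
      rw [Bool.and_eq_true] at hd
      obtain ⟨g, hg⟩ := exists_M24_elt hd.1
      have hb := forallLt_elim enc_two_pow he.1
      rw [Bool.and_eq_true, Nat.blt_eq] at hb
      have h1 : ∃ h : wordOf (Nat.xor (mimg (octOdd.getD e.2 0) (basisMask e.1)) (basisMask e.1)) ∈ golayCode,
          fl _ h ∈ N := by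
        have e' : act g.1 (wordOf (basisMask e.1)) + wordOf (basisMask e.1) =
            wordOf (Nat.xor (mimg (octOdd.getD e.2 0) (basisMask e.1)) (basisMask e.1)) := by
          rw [act_wordOf hg hb.2, ← wordOf_xor]; rfl
        rw [← e']
        exact ⟨_, hdiff g _ (basisWord_code he.1)⟩
      have h2 := hadd _ _ h1 (ih fun a ha => hl a (List.mem_cons_of_mem _ ha))
      rw [← wordOf_xor] at h2
      exact h2
  have hall : ∀ (w : Word) (hw : w ∈ golayCode), fl w hw ∈ N := by
    intro w hw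
    obtain ⟨k, -, rfl⟩ := mem_golayCode_iff.1 hw
    have : ∀ n, n ≤ 12 → ∃ h : wordOf (xorComb basisMask k n) ∈ golayCode, fl _ h ∈ N := by
      intro n
      induction n with
      | zero => intro _; rw [show xorComb basisMask k 0 = 0 from rfl, wordOf_zero]; exact hzero
      | succ n ih =>
        intro hn
        by_cases hb : k.testBit n = true
        · simp only [xorComb_succ, bitAt_eq, hb, if_true, one_mul, wordOf_xor]
          exact hadd _ _ (ih (by omega)) (hbasis n (by omega))
        · simp only [xorComb_succ, bitAt_eq, hb, if_false, zero_mul, Nat.xor_zero, Bool.false_eq_true]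
          exact ih (by omega)
    obtain ⟨_, h⟩ := this 12 le_rfl
    exact h
  refine normal_eq_top inferInstance ?_ ?_
  · intro z hz
    rw [← SetLike.mem_coe, center_eq] at hz
    rcases hz with rfl | rfl
    · exact one_mem N
    · exact fl_one ▸ hall 1 one_mem_code
  · intro hle
    have hmem := normal_le_center inferInstance hle (hall baseWord baseWord_code)
    rw [← SetLike.mem_coe, center_eq] at hmem
    rcases hmem with e | e
    · exact (by decide +kernel : baseWord ≠ 0) (fl_eq_one' _ e)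
    · have h1 : fl (baseWord + 1) (add_mem baseWord_code one_mem_code) = 1 := by
        rw [fl_add baseWord_code one_mem_code, e, ← fl_one, fl_self]
      exact (by decide +kernel : baseWord + 1 ≠ 0) (fl_eq_one' _ h1)

/-- A stem extension of Co0 has kernel of odd order. -/
theorem ker_odd {Γ : Type} [Group Γ] [Finite Γ] (σ : Γ →* ↥Co0) (hσ : IsStemExtension σ) :
    Odd (Nat.card σ.ker) := by
  obtain ⟨hs, hc, hd⟩ := hσ
  let S : Subgroup Γ :=
    { carrier := {a | ∃ z, σ z = 1 ∧ z * z = a}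
      one_mem' := ⟨1, map_one σ, mul_one 1⟩
      mul_mem' := by
        rintro _ _ ⟨z, hz, rfl⟩ ⟨w, hw, rfl⟩
        exact ⟨z * w, by rw [map_mul, hz, hw, one_mul],
          (show Commute w z from (Subgroup.mem_center_iff.1 (hc hw) z).symm).mul_mul_mul_comm z w⟩
      inv_mem' := by
        rintro _ ⟨z, hz, rfl⟩
        exact ⟨z⁻¹, by rw [map_inv, hz, inv_one], (mul_inv_rev z z).symm⟩ }
  have hS : S ≤ σ.ker := by
    rintro _ ⟨z, hz, rfl⟩
    rw [MonoidHom.mem_ker, map_mul, hz, one_mul]
  have hnormal : S.Normal := ⟨fun a ha γ => by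
    rw [Subgroup.mem_center_iff.1 (hc (hS ha)) γ, mul_inv_cancel_right]; exact ha⟩
  let τ : Γ ⧸ S →* ↥Co0 := QuotientGroup.lift S σ hS
  have hτk : ∀ q, τ q = 1 → ∃ γ, σ γ = 1 ∧ (γ : Γ ⧸ S) = q := by
    intro q hq
    induction q using QuotientGroup.induction_on with
    | H γ => exact ⟨γ, hq, rfl⟩
  have hτ : IsStemExtension τ := by
    refine ⟨fun g => ?_, fun q hq => ?_, fun q hq => ?_⟩
    · obtain ⟨γ, rfl⟩ := hs g
      exact ⟨γ, rfl⟩
    · obtain ⟨γ, hγ, rfl⟩ := hτk q hq
      refine Subgroup.mem_center_iff.2 fun p => ?_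
      induction p using QuotientGroup.induction_on with
      | H δ => rw [← QuotientGroup.mk_mul, ← QuotientGroup.mk_mul, Subgroup.mem_center_iff.1 (hc hγ) δ]
    · obtain ⟨γ, hγ, rfl⟩ := hτk q hq
      have := Subgroup.mem_map_of_mem (QuotientGroup.mk' S) (hd hγ)
      rw [commutator_def, Subgroup.map_commutator,
        Subgroup.map_top_of_surjective _ (QuotientGroup.mk'_surjective S)] at this
      exact this
  have hexp : ∀ q, τ q = 1 → q * q = 1 := by
    intro q hq
    obtain ⟨γ, hγ, rfl⟩ := hτk q hq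
    rw [← QuotientGroup.mk_mul, QuotientGroup.eq_one_iff]
    exact ⟨γ, hγ, rfl⟩
  have hsquare : ∀ z, σ z = 1 → z ∈ S := by
    intro z hz
    have hq : (z : Γ ⧸ S) ∈ τ.ker := hz
    have h := CfsgLib.Known.SL2Mult.pow_index_eq_one τ hτ crossStab
      (crossStab_two τ hτ.1 hτ.2.1 hexp) hq
    rw [index_crossStab, show (8292375 : ℕ) = 2 * 4146187 + 1 from rfl, pow_succ, pow_mul, pow_two, hexp _ hq,
      one_pow, one_mul] at h
    exact (QuotientGroup.eq_one_iff z).1 h
  let f : ↥σ.ker → ↥σ.ker := fun z => z * z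
  have hf : Function.Surjective f := fun z => by
    obtain ⟨w, hw, e⟩ := hsquare z z.2
    exact ⟨⟨w, hw⟩, Subtype.ext e⟩
  rw [← Nat.not_even_iff_odd, even_iff_two_dvd]
  intro hev
  haveI := Fact.mk Nat.prime_two
  obtain ⟨x, hx⟩ := exists_prime_orderOf_dvd_card' 2 hev
  have h2 : x * x = 1 := by rw [← pow_two, ← hx, pow_orderOf_eq_one]
  have h1 : x = 1 := (Finite.injective_iff_surjective.2 hf) (h2.trans (mul_one (1 : ↥σ.ker)).symm)
  rw [h1, orderOf_one] at hx
  exact absurd hx (by norm_num)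

/-- A stem extension of Co0 is trivial. -/
theorem co0_multiplier : Cfsg.HasCyclicSchurMultiplier ↥Co0 1 := by
  haveI := finite_co0
  refine CfsgLib.Schur.hasCyclicSchurMultiplier_one_of_forall fun Γ _ _ σ hσ => ?_
  have hodd := ker_odd σ hσ
  obtain ⟨hs, hc, hd⟩ := hσ
  haveI := simple_coTwo
  have hperf : commutator ↥(fixGroup [pairElt]) = ⊤ := perfect_of_card (by rw [card_fix_pair]; norm_num)
  let P : Subgroup Γ := (fixGroup [pairElt]).comap σ
  let ξ : ↥P →* ↥(fixGroup [pairElt]) := (σ.comp P.subtype).codRestrict _ fun x => x.2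
  have hξ : Function.Surjective ξ := fun u => by
    obtain ⟨g, hg⟩ := hs u
    exact ⟨⟨g, by rw [Subgroup.mem_comap, hg]; exact u.2⟩, Subtype.ext hg⟩
  have hξc : ξ.ker ≤ Subgroup.center ↥P := fun x hx => Subgroup.mem_center_iff.2 fun y =>
    Subtype.ext (Subgroup.mem_center_iff.1 (hc (congrArg Subtype.val (MonoidHom.mem_ker.1 hx))) _)
  let τ : ↥(commutator ↥P) →* ↥(fixGroup [pairElt]) := ξ.comp (commutator ↥P).subtype
  have hτs : Function.Surjective τ := fun u => by
    have : u ∈ (commutator ↥P).map ξ := by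
      rw [commutator_def, Subgroup.map_commutator, Subgroup.map_top_of_surjective _ hξ, ← commutator_def, hperf]
      exact Subgroup.mem_top u
    obtain ⟨x, hx, e⟩ := this
    exact ⟨⟨x, hx⟩, e⟩
  have hsup : (commutator ↥P).subtype.range ⊔ ξ.ker = ⊤ := by
    rw [Subgroup.range_subtype, eq_top_iff]
    intro x _
    obtain ⟨d, hd'⟩ := hτs (ξ x)
    rw [show x = (d : ↥P) * ((d : ↥P)⁻¹ * x) by group]
    exact Subgroup.mul_mem_sup d.2 (by rw [MonoidHom.mem_ker, map_mul, map_inv, show ξ d = ξ x from hd',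
      inv_mul_cancel])
  have hτ : IsStemExtension τ := by
    refine ⟨hτs, fun x hx => Subgroup.mem_center_iff.2 fun y =>
      Subtype.ext (Subgroup.mem_center_iff.1 (hξc hx) _), fun x _ => ?_⟩
    obtain ⟨d, hd', e⟩ := (CfsgLib.Schur.commutator_eq_map_of_range_sup _ _ hξc hsup).le x.2
    rwa [← Subtype.ext e]
  have hτker : ∀ x ∈ τ.ker, x = 1 := by
    intro x hx
    set U := (fixGroup [fiveElt, pairElt]).subgroupOf (fixGroup [pairElt]) with hU
    have hle : fixGroup [fiveElt, pairElt] ≤ fixGroup [pairElt] := fun g hg =>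
      mem_fixGroup.2 fun v hv => mem_fixGroup.1 hg v (List.mem_cons_of_mem _ hv)
    have hUi : U.index = 47104 := by
      have h := Subgroup.card_mul_index U
      rw [Nat.card_congr (Subgroup.subgroupOfEquivOfLe hle).toEquiv, card_fix_mcl, card_fix_pair] at h
      omega
    have hU1 : ∀ (z : ↥(commutator ↥P)) (h : z ∈ U.comap τ), z ∈ τ.ker →
        (⟨z, h⟩ : U.comap τ) ∈ commutator (U.comap τ) → z = 1 := by
      intro z h hz hcom
      let ι : ↥(U.comap τ) →* ↥((fixGroup [fiveElt]).comap σ) :=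
        (P.subtype.comp ((commutator ↥P).subtype.comp (U.comap τ).subtype)).codRestrict _ fun y =>
          mem_fixGroup.2 fun v hv => mem_fixGroup.1 (Subgroup.mem_subgroupOf.1 y.2) v (by
            simp only [List.mem_cons, List.not_mem_nil, or_false] at hv ⊢; exact Or.inl hv)
      have hm : ι ⟨z, h⟩ ∈ commutator ↥((fixGroup [fiveElt]).comap σ) :=
        (Subgroup.map_commutator _ _ ι).le.trans (Subgroup.commutator_mono le_top le_top)
          (Subgroup.mem_map_of_mem ι hcom)
      exact Subtype.ext (Subtype.ext (CfsgLib.Known.SL2Mult.trivial_of_mult σ ⟨hs, hc, hd⟩ _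
        CoThreeMult.multiplier_fix _ _ (congrArg Subtype.val (MonoidHom.mem_ker.1 hz)) hm))
    have e1 := CfsgLib.Known.SL2Mult.pow_index_eq_one τ hτ U hU1 hx
    rw [hUi] at e1
    haveI := Fact.mk (by norm_num : Nat.Prime 23)
    obtain ⟨g, hg⟩ := exists_prime_orderOf_dvd_card' (G := ↥(fixGroup [pairElt])) 23
      (by rw [card_fix_pair]; norm_num)
    have hgi : (Subgroup.zpowers g).index = 1839366144000 := by
      have h := Subgroup.card_mul_index (Subgroup.zpowers g)
      rw [Nat.card_zpowers, hg, card_fix_pair] at h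
      omega
    have e2 := CfsgLib.Known.SL2Mult.pow_index_eq_one τ hτ (Subgroup.zpowers g)
      (fun z h hk hcom => CfsgLib.Known.SL2Mult.trivial_of_mult τ hτ _
        (CfsgLib.Schur.hasCyclicSchurMultiplier_one_of_isCyclic _) z h hk hcom) hx
    rw [hgi] at e2
    rw [← orderOf_eq_one_iff]
    have hxk : ((x : ↥P) : Γ) ∈ σ.ker := congrArg Subtype.val (MonoidHom.mem_ker.1 hx)
    have h3 : orderOf x ∣ Nat.card σ.ker := by
      have h' := orderOf_dvd_natCard (⟨((x : ↥P) : Γ), hxk⟩ : σ.ker)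
      rwa [← Subgroup.orderOf_coe, Subgroup.orderOf_coe (x : ↥P), Subgroup.orderOf_coe x] at h'
    have h4 : orderOf x ∣ 2 ^ 11 := by
      have := Nat.dvd_gcd (orderOf_dvd_of_pow_eq_one e1) (orderOf_dvd_of_pow_eq_one e2)
      exact this.trans (by norm_num)
    exact Nat.eq_one_of_dvd_coprimes (Nat.Coprime.pow_left 11 (Nat.coprime_two_left.2 hodd)) h4 h3
  let L : Subgroup Γ := (commutator ↥P).map P.subtype
  have hL : L ⊓ σ.ker = ⊥ := by
    rw [Subgroup.eq_bot_iff_forall]
    rintro _ ⟨⟨x, hx, rfl⟩, hk⟩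
    exact congrArg (fun y : ↥(commutator ↥P) => ((y : ↥P) : Γ))
      (hτker ⟨x, hx⟩ (Subtype.ext (MonoidHom.mem_ker.1 hk) : τ ⟨x, hx⟩ = 1))
  have hLm : L.map σ = fixGroup [pairElt] := by
    refine le_antisymm ?_ fun u hu => ?_
    · rintro _ ⟨_, ⟨x, -, rfl⟩, rfl⟩; exact x.2
    · obtain ⟨x, hx⟩ := hτs ⟨u, hu⟩
      exact ⟨_, ⟨_, x.2, rfl⟩, congrArg Subtype.val hx⟩
  exact ker_eq_bot ⟨σ, hs, hc, hodd, L, hLm, hL⟩ hd

/-- The multiplier of Co1 has order two. -/
theorem multiplier : Cfsg.HasCyclicSchurMultiplier Spor.Co1 2 := by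
  haveI := finite_co0
  haveI := Fact.mk Nat.prime_two
  let π : ↥Co0 →* Spor.Co1 := QuotientGroup.mk' (Subgroup.center ↥Co0)
  have hk : π.ker = Subgroup.center ↥Co0 := QuotientGroup.ker_mk' _
  have hπ : IsStemExtension π :=
    ⟨QuotientGroup.mk'_surjective _, hk.le, by rw [co0_perfect]; exact le_top⟩
  have hcard : Nat.card π.ker = 2 := by rw [hk, card_center]
  refine CfsgLib.Schur.hasSchurMultiplier_of_witness π hπ
    (mulEquivOfPrimeCardEq (p := 2) hcard (by rw [Nat.card_eq_fintype_card]; rfl)) fun Γ _ _ σ hσ => ?_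
  obtain ⟨χ, hχ⟩ := CfsgLib.Schur.exists_lift_of_perfect σ hσ.1 hσ.2.1 co0_perfect co0_multiplier π
  have hsurj : χ.range = ⊤ := CfsgLib.Schur.eq_top_of_stem σ hσ _ (by
    rw [MonoidHom.map_range, hχ]
    exact MonoidHom.range_eq_top.2 (QuotientGroup.mk'_surjective _))
  let f : ↥π.ker →* ↥σ.ker := (χ.comp π.ker.subtype).codRestrict _ fun x =>
    (DFunLike.congr_fun hχ x.1).trans x.2
  have hf : Function.Surjective f := fun y => by
    obtain ⟨x, hx⟩ := (hsurj ▸ Subgroup.mem_top (y : Γ) : (y : Γ) ∈ χ.range)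
    exact ⟨⟨x, by rw [MonoidHom.mem_ker, ← DFunLike.congr_fun hχ x]; exact (congrArg σ hx).trans y.2⟩,
      Subtype.ext hx⟩
  refine (Nat.card_le_card_of_surjective f hf).trans (le_of_eq ?_)
  rw [hcard, Nat.card_eq_fintype_card]
  rfl

end CfsgLib.Sporadic.CoOneMult
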