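import Cfsg.Agent.Lib.Sporadic.Bits

/-!
# Certificates for the automorphisms of Co1
-/

set_option autoImplicit false

namespace CfsgLib.Sporadic.CoOneOut

/-- An octad. -/
def octKey : ℕ := 13062145

/-- A point inside and a point outside. -/
def inPt : ℕ := 0

/-- The point outside. -/
def outPt : ℕ := 1

/-- Odd order elements fixing the octad, carrying those points through the octad and its complement. -/
def octCarriers : List ℕ :=
  [727014920139683662635376570751628396,
    664777904534629771525795431850691854,
    605771223051995657333970970446301808,
    748123272146558446459547276027248241,
    16026181667509774472113821423305874,
    603733310060278748707071196742816438,
    499280889395362929071537174118249687,
    694935112127429476646191070535142476,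
    727014920139683662635376570751628396,
    16026181667509774472113821423305874,
    734857902820307581129141866029331616,
    499280889395362929071537174118249687,
    984105465876623467970620892248056050,
    664777904534629771525795431850691854,
    735243983972913323871684805408164128,
    914398384442305875496952794693403982,
    977556425717899819564834440661509486,
    527814595205311167648035859698224567,
    22158037884536417919114171099763186,
    748123272146558446459547276027248241,
    527352297602568390418913032313061015,
    930046429266181872606766379261042353]

/-- Those fixing the inside point. -/
def inFix : List ℕ :=
  [610510976531463390499847893647726624,
    979578488963588089251383548221629024]

/-- Those fixing the outside point. -/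
def outFix : List ℕ :=
  [935065017746050124537225178906905646,
    735134807564628768210963727428867104]

/-- Odd order elements fixing the first tetrad. -/
def xiPerms : List ℕ :=
  [65291160136630183618351965139372055,
    977905307269688198352812213261697089]

/-- Words whose sign changes are carried to monomial elements, with the position of a permutation. -/
def xiFlips : List (ℕ × ℕ) :=
  [(12255961, 0),
    (12255961, 1),
    (5225909, 0),
    (5225909, 1),
    (15049556, 0),
    (15049556, 1),
    (15066551, 0)]

/-- The cycle of length 23. -/
def cyclePerm : ℕ := 956302485175575353788796878166559809

/-- Two elements of M24 without common fixed class of words. -/
def cocodePerms : List ℕ :=
  [938047714225605859625511757300483296,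
    137008250913171412891251394079002817]

/-- Elements carrying the octad to the basis words. -/
def basisCarriers : List ℕ :=
  [984818244535754528103549039458486304,
    810187326562465629324731320163804417,
    109250265396215992631429394957703311,
    775903918219960115831919821658064173,
    192544342707140605432587421733043287,
    902416870168305943607037364058299762,
    755859705571862642503515274234732567,
    811542722316870024742271680062464711,
    854421044761544730319813842223571976,
    858112277587886909740295667260462286,
    983088606976316984928354210261748783,
    983478296959358443554250846857397270]

end CfsgLib.Sporadic.CoOneOut
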