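import Cfsg.Agent.Lib.Sporadic.CoThreeOutData
import Cfsg.Agent.Lib.Sporadic.CoThreeOutFixed
import Cfsg.Prelude.Def_Spor_Conway
import Cfsg.Prelude.Def_Spor_Mathieu

/-!
# The outer automorphism group of Co3

An automorphism may be assumed to fix the standard M23 pointwise; then the third generating word is
sent to itself times an element commuting with the stabiliser of a second vector, hence fixed.
-/

set_option autoImplicit false

namespace CfsgLib.Sporadic.CoThreeOut

open Cfsg MulAction CfsgLib.Sporadic CfsgLib.Sporadic.Conway CfsgLib.ThreeTrans.Leech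
open scoped Pointwise

attribute [local irreducible] OTree.entries coThreeEightTree

set_option maxHeartbeats 1000000

/-- The 48600 vectors. -/
def T486 : Type := {x : ↥leechLattice // x ∈ DS [(fiveElt, (8 : ℤ))]}

noncomputable local instance actD : MulAction ↥G3 T486 where
  smul g x := ⟨g.1 • x.1, smul_mem_DS (fun p hp => mem_fixGroup.1 g.2 p.1 (by
    simp at hp ⊢; rw [hp])) x.2⟩
  one_smul x := Subtype.ext (one_smul _ x.1)
  mul_smul a b x := Subtype.ext (mul_smul a.1 b.1 x.1)

theorem d_val (g : ↥G3) (x : T486) : (g • x).1 = g.1 • x.1 := rfl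

/-- The base point. -/
noncomputable def base : T486 := ⟨omegaElt, omega_mem⟩

theorem trans_D : IsPretransitive ↥G3 T486 := ⟨fun x y => by
  obtain ⟨g, hg, hgf⟩ := eight_set.2.1 x.1 x.2 y.1 y.2
  exact ⟨⟨g, mem_fixGroup.2 hgf⟩, Subtype.ext hg⟩⟩

/-- The standard copy of M23. -/
noncomputable def iota : ↥M23pt →* ↥G3 where
  toFun u := ⟨permHom u.1, mem_fixGroup.2 fun v hv => by
    simp only [List.mem_cons, List.not_mem_nil, or_false] at hv
    rw [hv]
    exact perm_fix_five u.2⟩
  map_one' := Subtype.ext (map_one permHom)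
  map_mul' a b := Subtype.ext (map_mul permHom a.1 b.1)

theorem iota_injective : Function.Injective iota := fun _ _ h =>
  Subtype.ext (permHom_injective (congrArg Subtype.val h))

theorem iota_mem (u : ↥M23pt) : iota u ∈ stabilizer ↥G3 base := Subtype.ext (perm_fix_omega u.2)

theorem iota_range : iota.range = stabilizer ↥G3 base := by
  refine le_antisymm (by rintro _ ⟨u, rfl⟩; exact iota_mem u) fun a ha => ?_
  have h : a.1 ∈ fixGroup [omegaElt, fiveElt] := mem_fixGroup.2 fun v hv => by
    simp only [List.mem_cons, List.not_mem_nil, or_false] at hv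
    rcases hv with rfl | rfl
    · exact congrArg Subtype.val (show a • base = base from ha)
    · exact mem_fixGroup.1 a.2 _ List.mem_cons_self
  rw [fix_omega_five] at h
  obtain ⟨π, hπ, e⟩ := h
  exact ⟨⟨π, hπ⟩, Subtype.ext e⟩

/-! ### vectors fixed by the stabiliser of the second vector -/

/-- All the certified elements. -/
def farGens : List ℕ := carriers ++ fixZero ++ fixOne

/-- The packed permutation fixes the packed vector. -/
noncomputable def keyFix (p k : ℕ) : Bool := forallLt 24 fun i => Nat.beq (nib k (pget p i)) (nib k i)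

/-- Point `9` and infinity are fixed, and the far vector is fixed. -/
noncomputable def farGensOK : Bool :=
  farGens.all fun p => isAut p && Nat.beq (pget p 23) 23 && keyFix p farKey

/-- The class of a point: infinity, the point `9`, the hexad, the rest. -/
noncomputable def cls (i : GolayPt) : Fin 4 :=
  if ix i = 23 then 0 else if ix i = 9 then 1 else if ix i ∈ [0, 12, 18, 19, 20, 21] then 2 else 3

theorem farGens_ok : farGensOK = true := by decide +kernel

theorem carry_ok : ∀ i < 23, i = 9 ∨ i = 0 ∨ i = 1 ∨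
    ∃ p ∈ carriers, pget p (if i ∈ [0, 12, 18, 19, 20, 21] then 0 else 1) = i := by
  decide +kernel

theorem common_ok : (∀ i < 24, (∀ p ∈ fixZero, pget p i = i) → i = 0 ∨ i = 9 ∨ i = 23) ∧
    (∀ i < 24, (∀ p ∈ fixOne, pget p i = i) → i = 1 ∨ i = 9 ∨ i = 23) ∧
    (∀ p ∈ fixZero, pget p 0 = 0) ∧ (∀ p ∈ fixOne, pget p 1 = 1) := by
  decide +kernel

theorem shapes_ok : (∀ i : GolayPt, pv 27729856879992518157740382617 i = ![(-3 : ℤ), 1, 1, 1] (cls i)) ∧
    (∀ i : GolayPt, pv farKey i = ![(-1 : ℤ), 3, -1, 1] (cls i)) ∧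
    (∀ i : GolayPt, pv kFive i = ![(5 : ℤ), 1, 1, 1] (cls i)) ∧
    (∀ i : GolayPt, pv farKey i = 3 → ix i = 9) ∧
    (∀ k : Fin 4, ((Finset.univ : Finset GolayPt).filter fun i => cls i = k).card = ![1, 1, 6, 16] k) := by
  decide +kernel

theorem solve_shape : ∀ a ∈ Finset.Icc (-5 : ℤ) 5, ∀ b ∈ Finset.Icc (-5 : ℤ) 5, ∀ c ∈ Finset.Icc (-2 : ℤ) 2,
    ∀ e ∈ Finset.Icc (-1 : ℤ) 1, a ^ 2 + b ^ 2 + 6 * c ^ 2 + 16 * e ^ 2 = 32 → 5 * a + b + 6 * c + 16 * e = 8 →
      (a = -3 ∧ b = 1 ∧ c = 1 ∧ e = 1) ∨ (a = -1 ∧ b = 3 ∧ c = -1 ∧ e = 1) := by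
  decide +kernel

theorem far_elt {p : ℕ} (hp : p ∈ farGens) :
    ∃ u : ↥M23pt, Rep (((u : ↥M23pt) : ↥M24) : Equiv.Perm GolayPt) p ∧
      ∀ x : ↥leechLattice, (x : Vec) = pv farKey → (iota u).1 • x = x := by
  have h' := List.all_eq_true.1 farGens_ok p hp
  simp only [Bool.and_eq_true, Nat.beq_eq] at h'
  obtain ⟨u, hu⟩ := exists_M24_elt h'.1.1
  refine ⟨⟨u, fixes_of_pget (i := 23) hu (by norm_num) h'.1.2⟩, hu, fun x hx => ?_⟩
  refine Subtype.ext (funext fun i => ?_)
  show (x : Vec) (u.1.symm i) = (x : Vec) i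
  obtain ⟨j, rfl⟩ := u.1.surjective i
  rw [Equiv.symm_apply_apply, hx]
  have h2 := forallLt_elim h'.2 (ix_lt j)
  rw [Nat.beq_eq, hu j] at h2
  simp only [pv, h2]

/-- A vector with the same stabiliser is one of the two. -/
theorem fixed_cases {x : ↥leechLattice} (hx : x ∈ DS [(fiveElt, (8 : ℤ))])
    (h : ∀ p ∈ farGens, ∀ u : ↥M23pt, Rep (((u : ↥M23pt) : ↥M24) : Equiv.Perm GolayPt) p →
      (∀ y : ↥leechLattice, (y : Vec) = pv farKey → (iota u).1 • y = y) → (iota u).1 • x = x) :
    x = omegaElt ∨ (x : Vec) = pv farKey := by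
  obtain ⟨hω, hy, hf, -, hcard⟩ := shapes_ok
  set a := (x : Vec) (pt 23)
  set b := (x : Vec) (pt 9)
  set c := (x : Vec) (pt 0)
  set e := (x : Vec) (pt 1)
  have hval : ∀ i : GolayPt, (x : Vec) i = ![a, b, c, e] (cls i) := by
    intro i
    have hi : pt (ix i) = i := pt_ix i
    rcases (show ix i = 23 ∨ ix i < 23 by have := ix_lt i; omega) with h23 | h23
    · rw [show cls i = 0 by simp [cls, h23], ← hi, h23]; rfl
    by_cases h9 : ix i = 9
    · rw [show cls i = 1 by simp [cls, h9], ← hi, h9]; rfl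
    have hmove : ∀ p ∈ carriers, ∀ s < 24, pget p s = ix i → (x : Vec) i = (x : Vec) (pt s) := by
      intro p hp s hs hps
      have hp' : p ∈ farGens := List.mem_append_left _ (List.mem_append_left _ hp)
      obtain ⟨u, hu, hux⟩ := far_elt hp'
      have e1 := congrArg (fun z : ↥leechLattice => (z : Vec) i) (h p hp' u hu hux)
      change (x : Vec) (u.1.1.symm i) = (x : Vec) i at e1
      have e2 : u.1.1 (pt s) = i := ix_injective (by rw [← hu (pt s), ix_pt hs, hps])
      rw [show u.1.1.symm i = pt s from u.1.1.symm_apply_eq.2 e2.symm] at e1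
      exact e1.symm
    by_cases hhex : ix i ∈ [0, 12, 18, 19, 20, 21]
    · rw [show cls i = 2 by simp [cls, h23.ne, h9, hhex]]
      show (x : Vec) i = c
      rcases carry_ok (ix i) h23 with h' | h' | h' | ⟨p, hp, hps⟩
      · exact absurd h' h9
      · rw [← hi, h']
      · rw [h'] at hhex; simp at hhex
      · rw [if_pos hhex] at hps
        exact hmove p hp 0 (by norm_num) hps
    · rw [show cls i = 3 by simp [cls, h23.ne, h9, hhex]]
      show (x : Vec) i = e
      rcases carry_ok (ix i) h23 with h' | h' | h' | ⟨p, hp, hps⟩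
      · exact absurd h' h9
      · rw [h'] at hhex; simp at hhex
      · rw [← hi, h']
      · rw [if_neg hhex] at hps
        exact hmove p hp 1 (by norm_num) hps
  have hsum : ∀ F : Fin 4 → ℤ, ∑ i : GolayPt, F (cls i) = F 0 + F 1 + 6 * F 2 + 16 * F 3 := by
    intro F
    rw [← Finset.sum_fiberwise (Finset.univ : Finset GolayPt) cls (fun i => F (cls i)),
      Finset.sum_congr rfl (g := fun k => ((![1, 1, 6, 16] : Fin 4 → ℕ) k : ℤ) * F k) fun k _ => by
        rw [Finset.sum_congr rfl (g := fun _ => F k) fun i hi => by rw [(Finset.mem_filter.1 hi).2],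
          Finset.sum_const, hcard, nsmul_eq_mul]]
    simp [Fin.sum_univ_four]
  have hn : a ^ 2 + b ^ 2 + 6 * c ^ 2 + 16 * e ^ 2 = 32 := by
    rw [← hx.1, sqNorm, Finset.sum_congr rfl (g := fun i => (![a, b, c, e] (cls i)) ^ 2) fun i _ => by rw [hval],
      hsum fun k => (![a, b, c, e] k) ^ 2]
    simp
  have hd : 5 * a + b + 6 * c + 16 * e = 8 := by
    rw [← (show dotInt (fiveElt : Vec) (x : Vec) = 8 from hx.2 _ List.mem_cons_self), dotInt,
      Finset.sum_congr rfl (g := fun i => ![(5 : ℤ), 1, 1, 1] (cls i) * ![a, b, c, e] (cls i)) fun i _ => by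
        rw [hval, show (fiveElt : Vec) = pv kFive from rfl, hf],
      hsum fun k => ![(5 : ℤ), 1, 1, 1] k * ![a, b, c, e] k]
    simp
  have hb : a ∈ Finset.Icc (-5 : ℤ) 5 ∧ b ∈ Finset.Icc (-5 : ℤ) 5 ∧ c ∈ Finset.Icc (-2 : ℤ) 2 ∧
      e ∈ Finset.Icc (-1 : ℤ) 1 := by
    simp only [Finset.mem_Icc]
    have h1 := sq_nonneg a
    have h2 := sq_nonneg b
    have h3 := sq_nonneg c
    have h4 := sq_nonneg e
    refine ⟨⟨?_, ?_⟩, ⟨?_, ?_⟩, ⟨?_, ?_⟩, ⟨?_, ?_⟩⟩ <;> nlinarith
  rcases solve_shape a hb.1 b hb.2.1 c hb.2.2.1 e hb.2.2.2 hn hd with ⟨ea, eb, ec, ee⟩ | ⟨ea, eb, ec, ee⟩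
  · left
    refine Subtype.ext (funext fun i => ?_)
    show (x : Vec) i = pv 27729856879992518157740382617 i
    rw [hval, hω, ea, eb, ec, ee]
  · right
    funext i
    rw [hval, hy, ea, eb, ec, ee]

/-- An element commuting with those elements and fixing the two vectors is trivial. -/
theorem central_trivial (q : ↥M23pt) {y : ↥leechLattice} (hy : (y : Vec) = pv farKey)
    (hqy : (iota q).1 • y = y)
    (hcomm : ∀ p ∈ farGens, ∀ u : ↥M23pt, Rep (((u : ↥M23pt) : ↥M24) : Equiv.Perm GolayPt) p →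
      (∀ z : ↥leechLattice, (z : Vec) = pv farKey → (iota u).1 • z = z) → q * u = u * q) : q = 1 := by
  set σ : Equiv.Perm GolayPt := ((q : ↥M24) : Equiv.Perm GolayPt) with hσ
  have h23 : σ (pt 23) = pt 23 := (show σ none = none from q.2)
  have h9 : σ (pt 9) = pt 9 := by
    have e := congrArg (fun z : ↥leechLattice => (z : Vec) (σ (pt 9))) hqy
    change (y : Vec) (σ.symm (σ (pt 9))) = (y : Vec) (σ (pt 9)) at e
    rw [Equiv.symm_apply_apply, hy, show pv farKey (pt 9) = 3 by decide +kernel] at e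
    exact ix_injective ((shapes_ok.2.2.2.1 _ e.symm).trans (ix_pt (i := 9) (by norm_num)).symm)
  have hfix : ∀ (s : ℕ) (L : List ℕ), s < 24 → s ≠ 9 → s ≠ 23 → (∀ p ∈ L, p ∈ farGens) → (∀ p ∈ L, pget p s = s) →
      (∀ i < 24, (∀ p ∈ L, pget p i = i) → i = s ∨ i = 9 ∨ i = 23) → σ (pt s) = pt s := by
    intro s L hs hs9 hs23 hL hfixs hcommon
    have hall : ∀ p ∈ L, pget p (ix (σ (pt s))) = ix (σ (pt s)) := by
      intro p hp
      obtain ⟨u, hu, hux⟩ := far_elt (hL p hp)
      have e0 : u.1.1 (pt s) = pt s := ix_injective (by rw [← hu (pt s), ix_pt hs, hfixs p hp])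
      have e1 := congrArg (fun r : ↥M23pt => ((r : ↥M24) : Equiv.Perm GolayPt) (pt s)) (hcomm p (hL p hp) u hu hux)
      change σ (u.1.1 (pt s)) = u.1.1 (σ (pt s)) at e1
      rw [e0] at e1
      rw [hu, ← e1]
    rcases hcommon _ (ix_lt _) hall with e | e | e
    · exact ix_injective (by rw [e, ix_pt hs])
    · exact absurd (congrArg ix (σ.injective ((ix_injective (e.trans (ix_pt (i := 9) (by norm_num)).symm)).trans h9.symm)))
        (by rw [ix_pt hs, ix_pt (by norm_num)]; exact hs9)
    · exact absurd (congrArg ix (σ.injective ((ix_injective (e.trans (ix_pt (i := 23) (by norm_num)).symm)).trans h23.symm)))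
        (by rw [ix_pt hs, ix_pt (by norm_num)]; exact hs23)
  obtain ⟨c0, c1, d0, d1⟩ := common_ok
  have h0 := hfix 0 fixZero (by norm_num) (by norm_num) (by norm_num)
    (fun p hp => List.mem_append_left _ (List.mem_append_right _ hp)) d0 c0
  have h1 := hfix 1 fixOne (by norm_num) (by norm_num) (by norm_num)
    (fun p hp => List.mem_append_right _ hp) d1 c1
  refine Subtype.ext (Subtype.ext (Equiv.ext fun i => ?_))
  show σ i = i
  have hi : pt (ix i) = i := pt_ix i
  rcases (show ix i = 23 ∨ ix i < 23 by have := ix_lt i; omega) with h' | h'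
  · rw [← hi, h']; exact h23
  rcases carry_ok (ix i) h' with e | e | e | ⟨p, hp, hps⟩
  · rw [← hi, e]; exact h9
  · rw [← hi, e]; exact h0
  · rw [← hi, e]; exact h1
  obtain ⟨s, hs, hsσ, hps⟩ : ∃ s < 24, σ (pt s) = pt s ∧ pget p s = ix i := by
    by_cases hh : ix i ∈ [0, 12, 18, 19, 20, 21]
    · exact ⟨0, by norm_num, h0, by rwa [if_pos hh] at hps⟩
    · exact ⟨1, by norm_num, h1, by rwa [if_neg hh] at hps⟩
  have hp' : p ∈ farGens := List.mem_append_left _ (List.mem_append_left _ hp)
  obtain ⟨u, hu, hux⟩ := far_elt hp'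
  have e2 : u.1.1 (pt s) = i := ix_injective (by rw [← hu (pt s), ix_pt hs, hps])
  have e1 := congrArg (fun r : ↥M23pt => ((r : ↥M24) : Equiv.Perm GolayPt) (pt s)) (hcomm p hp' u hu hux)
  change σ (u.1.1 (pt s)) = u.1.1 (σ (pt s)) at e1
  rwa [hsσ, e2] at e1

/-! ### automorphisms -/

theorem words_ok : coThreeEightGens.length = 3 ∧
    evalWord (coThreeEightGens.getD 0 []) 27729856879992518157740382617 = some 27729856879992518157740382617 ∧
    evalWord (coThreeEightGens.getD 1 []) 27729856879992518157740382617 = some 27729856879992518157740382617 ∧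
    evalWord (coThreeEightGens.getD 2 []) 27729856879992518157740382617 = some farKey := by
  decide +kernel

/-- An automorphism fixing the standard M23 pointwise fixes every element. -/
theorem eq_one_of_fix (θ : MulAut ↥G3) (h : ∀ u, θ (iota u) = iota u) : θ = 1 := by
  have hok := coThreeEight_ok
  simp only [orbitOK, Bool.and_eq_true, List.all_eq_true, decide_eq_true_eq, Nat.beq_eq] at hok
  obtain ⟨hgen, -, -, hdesc⟩ := hok
  have hstab : ∀ a ∈ stabilizer ↥G3 base, θ a = a := fun a ha => by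
    rw [← iota_range] at ha
    obtain ⟨u, rfl⟩ := ha
    exact h u
  have hword : ∀ i, i < 3 → ∃ g : ↥G3, ∀ a b, evalWord (coThreeEightGens.getD i []) a = some b →
      ∀ v : ↥leechLattice, (v : Vec) = pv a → ((g.1 • v : ↥leechLattice) : Vec) = pv b := by
    intro i hi
    have hmem : coThreeEightGens.getD i [] ∈ coThreeEightGens := by
      rw [List.getD_eq_getElem _ _ (by rw [words_ok.1]; exact hi)]; exact List.getElem_mem _
    obtain ⟨g, hg⟩ := packElt _ (List.all_eq_true.2 (hgen _ hmem).1)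
    refine ⟨⟨g, mem_fixGroup.2 fun v hv => ?_⟩, hg⟩
    simp only [List.mem_cons, List.not_mem_nil, or_false] at hv
    rw [hv]
    exact Subtype.ext (hg kFive kFive ((hgen _ hmem).2 kFive (by simp [kFive])) fiveElt rfl)
  choose w hw using hword
  set g := w 2 (by norm_num) with hg
  have hy : (((g • base : T486).1 : ↥leechLattice) : Vec) = pv farKey := hw 2 (by norm_num) _ _ words_ok.2.2.2 omegaElt rfl
  have hne : g • base ≠ base := fun e => by
    have e' := congrArg (fun t : T486 => (t.1 : Vec) none) e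
    rw [hy] at e'
    exact absurd e' (show ¬ pv farKey none = pv 27729856879992518157740382617 none by decide +kernel)
  have hconj : ∀ u : ↥M23pt, iota u • g • base = g • base → (θ g * g⁻¹) * iota u = iota u * (θ g * g⁻¹) ∧
      iota u • θ g • base = θ g • base := by
    intro u hu
    have hs : g⁻¹ * iota u * g ∈ stabilizer ↥G3 base := by
      show (g⁻¹ * iota u * g) • base = base
      rw [mul_smul, mul_smul, hu, inv_smul_smul]
    have e := hstab _ hs
    rw [map_mul, map_mul, map_inv, h] at e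
    constructor
    · calc θ g * g⁻¹ * iota u = θ g * (g⁻¹ * iota u * g) * g⁻¹ := by group
        _ = θ g * ((θ g)⁻¹ * iota u * θ g) * g⁻¹ := by rw [e]
        _ = _ := by group
    · rw [← mul_smul, show iota u * θ g = θ g * (g⁻¹ * iota u * g) by rw [← e]; group, mul_smul]
      exact congrArg (θ g • ·) hs
  have hfar : ∀ u : ↥M23pt, (∀ y : ↥leechLattice, (y : Vec) = pv farKey → (iota u).1 • y = y) →
      iota u • g • base = g • base := fun u hu => Subtype.ext (hu _ hy)
  have hθy : θ g • base = g • base := by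
    rcases fixed_cases (θ g • base).2 (fun p _ u _ hux => congrArg Subtype.val (hconj u (hfar u hux)).2) with e | e
    · exfalso
      have hs : θ g ∈ stabilizer ↥G3 base := Subtype.ext e
      have e2 := θ.injective (hstab _ hs)
      rw [e2] at hs
      exact hne hs
    · exact Subtype.ext (Subtype.ext (e.trans hy.symm))
  set c := θ g * g⁻¹ with hc
  have hcy : c • g • base = g • base := by rw [hc, mul_smul, inv_smul_smul, hθy]
  have hcb : c ∈ stabilizer ↥G3 base := by
    rcases fixed_cases (c • base).2 (fun p _ u _ hux => by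
      refine congrArg Subtype.val (show iota u • c • base = c • base from ?_)
      rw [← mul_smul, ← (hconj u (hfar u hux)).1, mul_smul]
      exact congrArg (c • ·) (iota_mem u)) with e | e
    · exact Subtype.ext e
    · have e' : c • base = g • base := Subtype.ext (Subtype.ext (e.trans hy.symm))
      exact absurd (smul_left_cancel c (hcy.trans e'.symm)) hne
  rw [← iota_range] at hcb
  obtain ⟨q, hq⟩ := hcb
  have hq1 : q = 1 := central_trivial q hy
    (congrArg Subtype.val (show iota q • g • base = g • base by rw [hq]; exact hcy))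
    fun p _ u _ hux => iota_injective (by rw [map_mul, map_mul, hq]; exact (hconj u (hfar u hux)).1)
  have hgfix : θ g = g := by
    rw [hq1, map_one] at hq
    rwa [← mul_inv_eq_one, eq_comm]
  have hwfix : ∀ i (hi : i < 3), θ (w i hi) = w i hi := by
    intro i hi
    have hroot : i < 2 → θ (w i hi) = w i hi := fun h2 => hstab _ (Subtype.ext (Subtype.ext (hw i hi _ _ (by
      obtain rfl | rfl : i = 0 ∨ i = 1 := by omega
      · exact words_ok.2.1
      · exact words_ok.2.2.1) omegaElt rfl)))
    rcases (show i < 2 ∨ i = 2 by omega) with h2 | rfl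
    · exact hroot h2
    · exact hgfix
  have hentry := OTree.descends_spec hdesc
  have reach : ∀ N, ∀ e ∈ coThreeEightTree.entries, e.2.1 / 16 < N →
      ∃ a : ↥G3, θ a = a ∧ ((a.1 • omegaElt : ↥leechLattice) : Vec) = pv e.1 := by
    intro N
    induction N with
    | zero => intro e _ h; omega
    | succ N ih =>
      intro e he hlt
      have h1 := hentry e he
      rw [entryOK] at h1
      cases hb : Nat.beq e.1 27729856879992518157740382617 <;> rw [hb] at h1
      · rw [cond_false] at h1
        cases hf : coThreeEightTree.find e.2.2 with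
        | none => rw [hf] at h1; simp at h1
        | some d' =>
          rw [hf] at h1
          simp only [Bool.and_eq_true, Nat.blt_eq] at h1
          obtain ⟨hdep, h1⟩ := h1
          change d' / 16 < e.2.1 / 16 at hdep
          obtain ⟨v, hv⟩ := OTree.find_mem hf
          obtain ⟨a, ha, hav⟩ := ih _ hv (by simp only; omega)
          cases hev : evalWord (coThreeEightGens.getD (Nat.mod e.2.1 16) []) e.2.2 with
          | none => rw [hev] at h1; simp at h1
          | some b =>
            rw [hev] at h1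
            simp only [Nat.beq_eq] at h1
            subst h1
            by_cases hidx : e.2.1 % 16 < 3
            · refine ⟨w _ hidx * a, by rw [map_mul, hwfix, ha], ?_⟩
              rw [Subgroup.coe_mul, mul_smul]
              exact hw _ hidx _ _ hev _ hav
            · rw [show Nat.mod e.2.1 16 = e.2.1 % 16 from rfl,
                List.getD_eq_default _ _ (by rw [words_ok.1]; omega),
                show evalWord [] e.2.2 = some e.2.2 from rfl, Option.some.injEq] at hev
              exact ⟨a, ha, hav.trans (by rw [hev])⟩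
      · rw [Nat.beq_eq] at hb
        exact ⟨1, map_one θ, by rw [Subgroup.coe_one, one_smul, hb]; rfl⟩
  refine MulEquiv.ext fun a => ?_
  obtain ⟨e, he, ev⟩ := eight_set.2.2 _ (a • base).2
  obtain ⟨b, hb, hbv⟩ := reach _ e he (Nat.lt_succ_self _)
  have hs : b⁻¹ * a ∈ stabilizer ↥G3 base := by
    show (b⁻¹ * a) • base = base
    rw [mul_smul, inv_smul_eq_iff]
    exact Subtype.ext (Subtype.ext (ev.trans hbv.symm))
  have e2 := hstab _ hs
  rw [map_mul, map_inv, hb] at e2
  exact mul_left_cancel e2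

/-- The two descriptions of M23. -/
noncomputable def ptEquiv : ↥M23pt ≃* ↥Spor.M23 where
  toFun u := ⟨u.1.1, u.1.2, u.2⟩
  invFun x := ⟨⟨x.1, x.2.1⟩, x.2.2⟩
  left_inv _ := rfl
  right_inv _ := rfl
  map_mul' _ _ := rfl

theorem aut_inner (φ : MulAut ↥G3) : φ ∈ Cfsg.Inn ↥G3 := by
  haveI := trans_D
  haveI := finite_G3
  obtain ⟨z, hz, hzfix⟩ := exists_fixed_vector (φ.toMonoidHom.comp iota) (φ.injective.comp iota_injective)
  obtain ⟨z₁, rfl⟩ : ∃ z₁ : T486, z₁.1 = z := ⟨⟨z, hz⟩, rfl⟩
  obtain ⟨k, hk⟩ := exists_smul_eq ↥G3 z₁ base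
  let θ : MulAut ↥G3 := MulAut.conj k * φ
  have hθ : ∀ u, θ (iota u) ∈ stabilizer ↥G3 base := fun u => by
    show (k * φ (iota u) * k⁻¹) • base = base
    rw [mul_smul, mul_smul, ← hk, inv_smul_smul]
    exact congrArg (k • ·) (Subtype.ext (hzfix u))
  have hmap : (stabilizer ↥G3 base).map θ.toMonoidHom = stabilizer ↥G3 base := by
    refine Subgroup.eq_of_le_of_card_ge ?_ (le_of_eq (Subgroup.card_map_of_injective θ.injective).symm)
    rintro _ ⟨a, ha, rfl⟩
    rw [SetLike.mem_coe, ← iota_range] at ha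
    obtain ⟨u, rfl⟩ := ha
    exact hθ u
  let e : ↥M23pt ≃* ↥(stabilizer ↥G3 base) :=
    (MonoidHom.ofInjective iota_injective).trans (MulEquiv.subgroupCongr iota_range)
  let α : MulAut ↥M23pt :=
    (e.trans ((θ.subgroupMap (stabilizer ↥G3 base)).trans (MulEquiv.subgroupCongr hmap))).trans e.symm
  have hα : ∀ u, θ (iota u) = iota (α u) := fun u => by
    have : (e (α u)).1 = θ (iota u) := by
      simp only [α, MulEquiv.trans_apply, MulEquiv.apply_symm_apply]
      rfl
    exact this.symm
  obtain ⟨m, hm⟩ := MathieuAut.M23_aut_inner ((ptEquiv.symm.trans α).trans ptEquiv)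
  let m₀ : ↥M23pt := ptEquiv.symm m
  have hαm : ∀ u, α u = m₀ * u * m₀⁻¹ := fun u => by
    have := congrArg (fun f : MulAut ↥Spor.M23 => ptEquiv.symm (f (ptEquiv u))) hm
    simp only [MulEquiv.trans_apply, MulEquiv.symm_apply_apply, MulAut.conj_apply, map_mul, map_inv] at this
    exact this.symm
  have h1 : MulAut.conj (iota m₀)⁻¹ * θ = 1 := eq_one_of_fix _ fun u => by
    show (iota m₀)⁻¹ * θ (iota u) * (iota m₀)⁻¹⁻¹ = iota u
    rw [hα, hαm, inv_inv, map_mul, map_mul, map_inv]
    group
  refine ⟨k⁻¹ * iota m₀, ?_⟩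
  rw [map_mul, map_inv]
  calc (MulAut.conj k)⁻¹ * MulAut.conj (iota m₀)
      = (MulAut.conj k)⁻¹ * MulAut.conj (iota m₀) * (MulAut.conj (iota m₀)⁻¹ * θ) := by rw [h1, mul_one]
    _ = φ := by rw [map_inv]; simp only [θ]; group

theorem map_fixGroup_coThree : G3.map (Cfsg.Co0).subtype = Spor.Co3 := by
  have hV : Spor.leechV = -fiveElt := by
    refine Subtype.ext (funext fun i => ?_)
    show Spor.vecV i = -(pv kFive i)
    rw [five_shape i]
    unfold Spor.vecV
    split_ifs <;> rfl
  ext g
  constructor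
  · rintro ⟨a, ha, rfl⟩
    refine ⟨a.2, ?_⟩
    show a • Spor.leechV = Spor.leechV
    rw [hV, smul_neg', mem_fixGroup.1 ha _ List.mem_cons_self]
  · rintro ⟨hg, hgV⟩
    refine ⟨⟨g, hg⟩, mem_fixGroup.2 fun v hv => ?_, rfl⟩
    simp only [List.mem_cons, List.not_mem_nil, or_false] at hv
    subst hv
    have h : (⟨g, hg⟩ : ↥Cfsg.Co0) • Spor.leechV = Spor.leechV := hgV
    rwa [hV, smul_neg', neg_inj] at h

/-- The Co3 carrier is the stabiliser of the vector. -/
noncomputable def equivCo3 : ↥Spor.Co3 ≃* ↥G3 :=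
  (MulEquiv.subgroupCongr map_fixGroup_coThree.symm).trans
    (Subgroup.equivMapOfInjective _ _ (Cfsg.Co0).subtype_injective).symm

theorem card_out_Co3 : Nat.card (Cfsg.Out ↥Spor.Co3) = 1 := by
  refine MathieuAut.card_out_eq_one fun φ => ?_
  obtain ⟨a, ha⟩ := aut_inner ((equivCo3.symm.trans φ).trans equivCo3)
  refine ⟨equivCo3.symm a, MulEquiv.ext fun x => ?_⟩
  have := congrArg (fun f : MulAut ↥G3 => equivCo3.symm (f (equivCo3 x))) ha
  simpa [MulAut.conj_apply] using this

end CfsgLib.Sporadic.CoThreeOut
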