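import Cfsg.Agent.Lib.Sporadic.Bits

/-!
# Certificates for the automorphisms of Co3
-/

set_option autoImplicit false

namespace CfsgLib.Sporadic.CoThreeOut

/-- The image of the base vector under the third generating word. -/
def farKey : ℕ := 37592113155947682584541632919

/-- Elements fixing that vector and carrying point 0 or 1 through its orbit. -/
def carriers : List ℕ :=
  [957466664605044262894808365564970165,
    975651585396371397348520363618404596,
    960129483294878562634863863355644370,
    978277105721201815080812984808223859,
    977476011896480547518879971390068044,
    957466664605044262894808365564970165,
    975651585396371397348520363618404596,
    960129483294878562634863863355644370,
    965347123605645692774017562532578578,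
    960074222008478990071034521833677330,
    978277105721201815080812984808223859,
    969687646121868683405883032044212947,
    976661431143426790939111951076593203,
    962360507893355679290228255980822677,
    961896658360397725487519356712033363,
    977476011896480547518879971390068044,
    976985949600858292197650613677465004,
    969686024093228360194172623756828885,
    958724965033755203709722613620318688,
    966564582983723991530861816699359604]

/-- Elements fixing that vector and point 0. -/
def fixZero : List ℕ := [963998314547291211569686884253208000, 984738422120770244021131687893341600]

/-- Elements fixing that vector and point 1. -/
def fixOne : List ℕ := [974408260134198747241675541056952364, 963685179479925186418372502420197427]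

end CfsgLib.Sporadic.CoThreeOut
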