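import Cfsg.Agent.Lib.Sporadic.MclOutCount

/-!
# M23 acting on 552 points

Orbit lengths allowed by the Sylow counts for 11 and 23 and by the point stabiliser; without a fixed
point there is an orbit of length 23, which is the natural one.
-/

set_option autoImplicit false

namespace CfsgLib.Sporadic.CoThreeOut

open Cfsg MulAction CfsgLib.Sporadic CfsgLib.Sporadic.MathieuAut
open CfsgLib.Sporadic.IndexTwoTwo (M22pt card_M22pt)
open CfsgLib.Sporadic.MclOut (sub_sylow_count sylTest lengths feas)
open scoped Pointwise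

/-- The one-point stabiliser. -/
abbrev M23pt : Subgroup ↥M24 := stabilizer ↥M24 (none : GolayPt)

theorem card_M23pt : Nat.card ↥M23pt = 10200960 := card_stab_point none

theorem sylow_count_eleven : Nat.card (Sylow 11 ↥M24) = 2225664 := by
  have : Fact (Nat.Prime 11) := ⟨by norm_num⟩
  obtain ⟨x, hx, -, hN⟩ := exists_x11
  have hS : Nat.card (Subgroup.zpowers x) = 11 ^ (Nat.card ↥M24).factorization 11 := by
    rw [Nat.card_zpowers, hx, M24_card,
      show Nat.factorization 244823040 11 = 1 by
        rw [show (244823040 : ℕ) = 11 ^ 1 * 22256640 from rfl, Nat.factorization_mul (by norm_num) (by norm_num),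
          Finsupp.add_apply, Nat.factorization_pow, Finsupp.smul_apply,
          Nat.Prime.factorization_self (by norm_num), Nat.factorization_eq_zero_of_not_dvd (by norm_num)]
        rfl, pow_one]
  have hcount : Nat.card (Sylow 11 ↥M24) =
      (Subgroup.normalizer (Subgroup.zpowers x : Set ↥M24)).index :=
    (Sylow.ofCard _ hS).card_eq_index_normalizer
  have hmod := card_sylow_modEq_one 11 ↥M24
  rw [Nat.ModEq] at hmod
  have hdvd : 11 ∣ Nat.card (Subgroup.normalizer (Subgroup.zpowers x : Set ↥M24)) := by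
    have h := Subgroup.orderOf_dvd_natCard (Subgroup.normalizer (Subgroup.zpowers x : Set ↥M24))
      (Subgroup.le_normalizer (Subgroup.mem_zpowers x))
    rwa [hx] at h
  obtain ⟨j, hj⟩ := hdvd
  have hmul := (Subgroup.normalizer (Subgroup.zpowers x : Set ↥M24)).card_mul_index
  rw [hj, M24_card, ← hcount] at hmul
  rw [hj] at hN
  have hj' : j ≤ 10 := by omega
  interval_cases j <;> omega

theorem sylow_count_twenty_three : Nat.card (Sylow 23 ↥M24) = 967680 := by
  have : Fact (Nat.Prime 23) := ⟨by norm_num⟩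
  obtain ⟨x, hx, -, hN⟩ := exists_x23
  have hS : Nat.card (Subgroup.zpowers x) = 23 ^ (Nat.card ↥M24).factorization 23 := by
    rw [Nat.card_zpowers, hx, M24_card,
      show Nat.factorization 244823040 23 = 1 by
        rw [show (244823040 : ℕ) = 23 ^ 1 * 10644480 from rfl, Nat.factorization_mul (by norm_num) (by norm_num),
          Finsupp.add_apply, Nat.factorization_pow, Finsupp.smul_apply,
          Nat.Prime.factorization_self (by norm_num), Nat.factorization_eq_zero_of_not_dvd (by norm_num)]
        rfl, pow_one]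
  have hcount : Nat.card (Sylow 23 ↥M24) =
      (Subgroup.normalizer (Subgroup.zpowers x : Set ↥M24)).index :=
    (Sylow.ofCard _ hS).card_eq_index_normalizer
  have hmod := card_sylow_modEq_one 23 ↥M24
  rw [Nat.ModEq] at hmod
  have hdvd : 23 ∣ Nat.card (Subgroup.normalizer (Subgroup.zpowers x : Set ↥M24)) := by
    have h := Subgroup.orderOf_dvd_natCard (Subgroup.normalizer (Subgroup.zpowers x : Set ↥M24))
      (Subgroup.le_normalizer (Subgroup.mem_zpowers x))
    rwa [hx] at h
  obtain ⟨j, hj⟩ := hdvd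
  have hmul := (Subgroup.normalizer (Subgroup.zpowers x : Set ↥M24)).card_mul_index
  rw [hj, M24_card, ← hcount] at hmul
  rw [hj] at hN
  have hj' : j ≤ 11 := by omega
  interval_cases j <;> omega

/-- The condition coming from the intersection with a two-point stabiliser. -/
def pointTest (o : ℕ) : Bool :=
  ! Nat.beq (o % 11) 0 || ([1, 12, 23] : List ℕ).any fun e =>
    Nat.beq (o % e) 0 && Nat.beq (443520 % (o / e)) 0 && Nat.beq ((o / e) % 11) 0 &&
      (Nat.blt 275 (443520 / (o / e)) || Nat.beq (443520 / (o / e)) 1 || lengths.contains (443520 / (o / e)))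

/-- The test for an orbit length. -/
def lenTest (d : ℕ) : Bool :=
  ! Nat.beq d 0 && Nat.beq (10200960 % d) 0 && sylTest (10200960 / d) 11 [11, 22, 55, 110] &&
    sylTest (10200960 / d) 23 [23, 253] && pointTest (10200960 / d)

/-- The orbit lengths apart from 1 and 23. -/
def others : List ℕ :=
  (List.range 553).filter fun d => lenTest d && ! Nat.beq d 1 && ! Nat.beq d 23

theorem feas_others : feas (others.map fun r => (r, 0)) 552 0 0 = false := by decide +kernel

theorem dvd_hundred_ten : ∀ m < 111, m ∣ 110 → 11 ∣ m → m ∈ ([11, 22, 55, 110] : List ℕ) := by decide +kernel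

theorem dvd_two_fifty_three : ∀ m < 254, m ∣ 253 → 23 ∣ m → m ∈ ([23, 253] : List ℕ) := by decide +kernel

theorem syl_ok (H : Subgroup ↥M24) (q r N a : ℕ) [Fact q.Prime] (hqr : 244823040 = q * r) (hr : ¬ q ∣ r)
    (hN : Nat.card (Sylow q ↥M24) = N) (haN : a * N = 244823040) (hN0 : 0 < N) (ms : List ℕ)
    (hms : ∀ m < a + 1, m ∣ a → q ∣ m → m ∈ ms) (ha : 0 < a) : sylTest (Nat.card H) q ms = true := by
  by_cases hd : q ∣ Nat.card H
  · obtain ⟨m, hm, hqm, hmd, hn⟩ := sub_sylow_count H (q := q) (r := r) (M24_card.trans hqr) hr hd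
    rw [hN, M24_card, ← haN] at hmd
    have hma : m ∣ a := Nat.dvd_of_mul_dvd_mul_right hN0 hmd
    have hm0 : 0 < m := Nat.pos_of_dvd_of_pos hma ha
    simp only [sylTest, Bool.or_eq_true, List.any_eq_true, Bool.and_eq_true, Nat.beq_eq]
    refine Or.inr ⟨m, hms m (Nat.lt_succ_of_le (Nat.le_of_dvd ha hma)) hma hqm, ?_, ?_⟩
    · rw [hm]; exact Nat.mul_mod_right m _
    · rw [hm, Nat.mul_div_cancel_left _ hm0]; exact hn
  · simp only [sylTest, Bool.or_eq_true, Bool.not_eq_true', Bool.eq_false_iff, ne_eq, Nat.beq_eq]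
    exact Or.inl fun e => hd (Nat.dvd_of_mod_eq_zero e)

theorem point_ok (H : Subgroup ↥M24) (hH : H ≤ M23pt) : pointTest (Nat.card H) = true := by
  classical
  simp only [pointTest, Bool.or_eq_true, Bool.not_eq_true', Bool.eq_false_iff, ne_eq, Nat.beq_eq]
  by_cases h11 : Nat.card H % 11 = 0
  swap
  · exact Or.inl h11
  right
  have : Fact (Nat.Prime 11) := ⟨by norm_num⟩
  obtain ⟨y, hy⟩ := exists_prime_orderOf_dvd_card' (G := ↥H) 11 (Nat.dvd_of_mod_eq_zero h11)
  have hy' : orderOf (y : ↥M24) = 11 := by rw [Subgroup.orderOf_coe, hy]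
  have hf := fixed_eleven hy'
  have hnone : (none : GolayPt) ∈ Finset.univ.filter fun z : GolayPt => (y : ↥M24) • z = z :=
    Finset.mem_filter.2 ⟨Finset.mem_univ _, hH y.2⟩
  obtain ⟨a, ha, hane⟩ := Finset.exists_mem_ne (by rw [hf]; norm_num) (none : GolayPt)
  have hpair : (Finset.univ.filter fun z : GolayPt => (y : ↥M24) • z = z) = {none, a} :=
    (Finset.eq_of_subset_of_card_le (by
      intro z hz
      simp only [Finset.mem_insert, Finset.mem_singleton] at hz
      rcases hz with rfl | rfl
      · exact hnone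
      · exact ha) (by rw [hf, Finset.card_pair hane.symm])).symm
  set O := (orbit ↥H a).toFinset with hO
  have hOinv : ∀ z ∈ O, (y : ↥M24) • z ∈ O := fun z hz => by
    rw [hO, Set.mem_toFinset] at hz ⊢
    exact mem_orbit_of_mem_orbit y hz
  have hOn : (none : GolayPt) ∉ O := by
    rw [hO, Set.mem_toFinset]
    rintro ⟨g, hg⟩
    exact hane (smul_left_cancel (g : ↥M24) (hg.trans (hH g.2).symm))
  have hOc := fixed_modEq hy' O hOinv
  have hf1 : (O.filter fun z => (y : ↥M24) • z = z).card = 1 := by
    rw [Finset.card_eq_one]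
    refine ⟨a, Finset.eq_singleton_iff_unique_mem.2 ⟨?_, fun z hz => ?_⟩⟩
    · simpa [hO] using (Finset.mem_filter.1 ha).2
    · obtain ⟨hzO, hz'⟩ := Finset.mem_filter.1 hz
      have : z ∈ ({none, a} : Finset GolayPt) := hpair ▸ Finset.mem_filter.2 ⟨Finset.mem_univ _, hz'⟩
      simp only [Finset.mem_insert, Finset.mem_singleton] at this
      rcases this with rfl | rfl
      · exact absurd hzO hOn
      · rfl
  have hle23 : O.card < 24 := Finset.card_lt_univ_of_notMem hOn
  have hmul := orbit_card H a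
  rw [Set.ncard_eq_toFinset_card', ← hO] at hmul
  rw [hf1, Nat.ModEq] at hOc
  set e := O.card with he
  have he3 : e = 1 ∨ e = 12 ∨ e = 23 := by omega
  -- move the fixed pair to the standard one
  obtain ⟨g, hg1, hg2⟩ := exists_map_two (p := (none : GolayPt)) (q := a) (p' := none) (q' := some 0) hane.symm
    (by simp)
  set S := H ⊓ stabilizer ↥M24 a with hS
  let K : Subgroup ↥M22pt := (S.map (MulAut.conj g).toMonoidHom).subgroupOf M22pt
  have hle : S.map (MulAut.conj g).toMonoidHom ≤ M22pt := by
    rintro _ ⟨u, hu, rfl⟩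
    refine ⟨?_, ?_⟩
    · show (g * u * g⁻¹) • (none : GolayPt) = none
      rw [mul_smul, mul_smul, show g⁻¹ • (none : GolayPt) = none from inv_smul_eq_iff.2 hg1.symm,
        show u • (none : GolayPt) = none from hH hu.1]
      exact hg1
    · show (g * u * g⁻¹) • (some 0 : GolayPt) = some 0
      rw [mul_smul, mul_smul, show g⁻¹ • (some 0 : GolayPt) = a from inv_smul_eq_iff.2 hg2.symm,
        show u • a = a from hu.2]
      exact hg2
  have hK : Nat.card K = Nat.card S := by
    rw [Nat.card_congr (Subgroup.subgroupOfEquivOfLe hle).toEquiv,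
      Subgroup.card_map_of_injective (MulAut.conj g).injective]
  have hKmul := K.card_mul_index
  rw [hK, card_M22pt] at hKmul
  have hS11 : 11 ∣ Nat.card S := by
    rw [← hy']
    exact Subgroup.orderOf_dvd_natCard S ⟨y.2, (Finset.mem_filter.1 ha).2⟩
  have hS0 : 0 < Nat.card S := Nat.card_pos
  have he0 : 0 < e := by omega
  have hdiv : Nat.card H / e = Nat.card S := by
    rw [← hmul, Nat.mul_div_cancel_left _ he0]
  simp only [List.any_eq_true, Bool.and_eq_true, Bool.or_eq_true, Nat.beq_eq, Nat.blt_eq, List.contains_iff_mem]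
  refine ⟨e, by simp only [List.mem_cons, List.not_mem_nil, or_false]; exact he3, ?_⟩
  rw [hdiv]
  refine ⟨⟨⟨by rw [← hmul]; exact Nat.mul_mod_right _ _,
    by rw [← hKmul]; exact Nat.mul_mod_right _ _⟩, Nat.mod_eq_zero_of_dvd hS11⟩, ?_⟩
  rw [← hKmul, Nat.mul_div_cancel_left _ hS0]
  rcases Nat.lt_or_ge 275 K.index with h | h
  · exact Or.inl (Or.inl h)
  · rcases MclOut.index_le K h with h1 | h1
    · exact Or.inl (Or.inr h1)
    · exact Or.inr h1

theorem index_ok (H : Subgroup ↥M23pt) (h : H.index ≤ 552) :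
    H.index = 1 ∨ H.index = 23 ∨ H.index ∈ others := by
  classical
  have : Fact (Nat.Prime 11) := ⟨by norm_num⟩
  have : Fact (Nat.Prime 23) := ⟨by norm_num⟩
  have hmul := H.card_mul_index
  rw [card_M23pt] at hmul
  have hd0 : H.index ≠ 0 := fun e => by simp [e] at hmul
  have hcardH : 10200960 / H.index = Nat.card H := by
    rw [← hmul, Nat.mul_div_cancel _ (Nat.pos_of_ne_zero hd0)]
  have hc : Nat.card (H.map M23pt.subtype) = Nat.card H :=
    Subgroup.card_map_of_injective M23pt.subtype_injective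
  by_cases h1 : H.index = 1
  · exact Or.inl h1
  by_cases h23 : H.index = 23
  · exact Or.inr (Or.inl h23)
  right; right
  refine List.mem_filter.2 ⟨List.mem_range.2 (Nat.lt_succ_of_le h), ?_⟩
  simp only [lenTest, Bool.and_eq_true, Bool.not_eq_true', Bool.eq_false_iff, ne_eq, Nat.beq_eq]
  rw [hcardH, ← hc]
  exact ⟨⟨⟨⟨⟨⟨hd0, by rw [← hmul]; exact Nat.mul_mod_left _ _⟩,
    syl_ok _ 11 22256640 2225664 110 (by norm_num) (by norm_num) sylow_count_eleven (by norm_num) (by norm_num) _
      dvd_hundred_ten (by norm_num)⟩,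
    syl_ok _ 23 10644480 967680 253 (by norm_num) (by norm_num) sylow_count_twenty_three (by norm_num) (by norm_num) _
      dvd_two_fifty_three (by norm_num)⟩,
    point_ok _ (Subgroup.map_subtype_le _)⟩, h1⟩, h23⟩

/-- Some orbit has length 23. -/
theorem exists_orbit {α : Type*} [Finite α] [MulAction ↥M23pt α] (hα : Nat.card α = 552)
    (hfix : ∀ a : α, (MulAction.orbit ↥M23pt a).ncard ≠ 1) :
    ∃ a : α, (MulAction.orbit ↥M23pt a).ncard = 23 := by
  classical
  by_contra hcon
  push Not at hcon
  letI : Fintype α := Fintype.ofFinite α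
  have hmem : ∀ x : α, (MulAction.orbit ↥M23pt x).ncard ∈ others := fun x => by
    have hle : (stabilizer ↥M23pt x).index ≤ 552 := by
      rw [index_stabilizer, ← hα, ← Nat.card_coe_set_eq]
      exact Finite.card_subtype_le _
    have h := index_ok _ hle
    rw [index_stabilizer] at h
    rcases h with h | h | h
    · exact absurd h (hfix x)
    · exact absurd h (hcon x)
    · exact h
  have hpos : ∀ d ∈ others, 0 < d := fun d hd => by
    have h := (List.mem_filter.1 hd).2
    simp only [lenTest, Bool.and_eq_true, Bool.not_eq_true', Bool.eq_false_iff, ne_eq, Nat.beq_eq] at h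
    omega
  have h := MclOut.feas_of_invariant (G := ↥M23pt) (fun _ : α => 0) (fun _ _ => rfl)
    (others.map fun r => (r, 0))
    (fun p hp => by
      obtain ⟨d, hd, rfl⟩ := List.mem_map.1 hp
      exact hpos d hd)
    Finset.univ (fun g x _ => Finset.mem_univ _) (fun x _ => List.mem_map.2 ⟨_, hmem x, rfl⟩)
  simp only [mul_zero, Finset.sum_const_zero] at h
  rw [Finset.card_univ, ← Nat.card_eq_fintype_card, hα, feas_others] at h
  exact Bool.false_ne_true h

/-- The points other than the fixed one. -/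
def Pt23 : Type := {z : GolayPt // z ≠ none}

theorem card_pt23 : Nat.card Pt23 = 23 := by
  show Nat.card {z : GolayPt // z ≠ none} = 23
  rw [Nat.card_eq_fintype_card]; decide

/-- An orbit of length 23 is the natural one. -/
theorem exists_natural {α : Type*} [Finite α] [MulAction ↥M23pt α] {a : α}
    (ha : (MulAction.orbit ↥M23pt a).ncard = 23) :
    ∃ o : Pt23 → α, Function.Injective o ∧
      ∀ (u : ↥M23pt) (b b' : Pt23), u.1.1 b.1 = b'.1 → u • o b = o b' := by
  classical
  haveI : Finite Pt23 := Nat.finite_of_card_ne_zero (by rw [card_pt23]; norm_num)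
  have hidx : (stabilizer ↥M23pt a).index = 23 := by rw [index_stabilizer, ha]
  have hmul := (stabilizer ↥M23pt a).card_mul_index
  rw [hidx, card_M23pt] at hmul
  obtain ⟨b₀, hb0, hb⟩ := eq_stabilizer_of_card_M23 ((stabilizer ↥M23pt a).map M23pt.subtype)
    (Subgroup.map_subtype_le _) (by rw [Subgroup.card_map_of_injective M23pt.subtype_injective]; omega)
  have hmem : ∀ u : ↥M23pt, u • a = a ↔ u.1.1 b₀ = b₀ := by
    intro u
    constructor
    · intro h
      have : u.1 ∈ (stabilizer ↥M23pt a).map M23pt.subtype := ⟨u, h, rfl⟩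
      rw [hb] at this
      exact this.2
    · intro h
      have : u.1 ∈ (stabilizer ↥M23pt a).map M23pt.subtype := by
        rw [hb]; exact ⟨u.2, h⟩
      obtain ⟨v, hv, e⟩ := this
      rw [show u = v from Subtype.ext e.symm]
      exact hv
  have htrans : ∀ b : Pt23, ∃ u : ↥M23pt, u.1.1 b₀ = b.1 := by
    intro b
    obtain ⟨g, hg⟩ := exists_map_list (xs := [none, b₀]) (ys := [none, b.1])
      (by simp [Ne.symm hb0]) (by simp [b.2.symm]) rfl (by simp)
    simp only [List.map_cons, List.map_nil, List.cons.injEq, and_true] at hg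
    exact ⟨⟨g, hg.1⟩, hg.2⟩
  choose t ht using htrans
  have key : ∀ (u v : ↥M23pt), u.1.1 b₀ = v.1.1 b₀ → u • a = v • a := by
    intro u v h
    have hm : (v⁻¹ * u) • a = a := (hmem _).2 (by
      show (v.1⁻¹ * u.1) • b₀ = b₀
      rw [mul_smul, show u.1 • b₀ = v.1 • b₀ from h, inv_smul_smul])
    rwa [mul_smul, inv_smul_eq_iff] at hm
  refine ⟨fun b => t b • a, fun b b' h => ?_, fun u b b' h => ?_⟩
  · have hm : ((t b')⁻¹ * t b) • a = a := by
      rw [mul_smul, show t b • a = t b' • a from h, inv_smul_smul]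
    have hm' : ((t b').1⁻¹ * (t b).1) • b₀ = b₀ := (hmem _).1 hm
    rw [mul_smul, inv_smul_eq_iff] at hm'
    exact Subtype.ext ((ht b).symm.trans (hm'.trans (ht b')))
  · show u • t b • a = t b' • a
    rw [← mul_smul]
    refine key _ _ ?_
    show u.1.1 ((t b).1.1 b₀) = (t b').1.1 b₀
    rw [ht, ht, h]

end CfsgLib.Sporadic.CoThreeOut
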