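import Cfsg.Agent.Lib.Sporadic.ConwayKeys
import Cfsg.Agent.Lib.Schur.CheckParts
import Cfsg.Agent.Lib.Schur.TrieFast

/-!
# Word checks on listed vectors, cut into parts

The list of keys is copied into a trie, so that a lookup costs a logarithmic number of steps.
-/

set_option autoImplicit false

namespace CfsgLib.Sporadic.Conway

open CfsgLib.Schur.Cert (pgetN Trie allFrom)

/-- a trie holds the entries of a list from a position on -/
noncomputable def listTrieOK (T : Trie ℕ) (L : List ℕ) : ℕ → Bool :=
  List.rec (motive := fun _ => ℕ → Bool) (fun _ => true) (fun x _ ih i => Nat.beq (T.getK i) x && ih (Nat.add i 1)) L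

theorem listTrieOK_spec {T : Trie ℕ} : ∀ {L : List ℕ} {i : ℕ}, listTrieOK T L i = true →
    ∀ j < L.length, T.getK (i + j) = L.getD j 0
  | [], _, _, j, hj => absurd hj (Nat.not_lt_zero _)
  | x :: L, i, h, j, hj => by
    replace h : (Nat.beq (T.getK i) x && listTrieOK T L (i + 1)) = true := h
    rw [Bool.and_eq_true, Nat.beq_eq] at h
    cases j with
    | zero => simpa using h.1
    | succ j =>
      have := listTrieOK_spec h.2 j (by simpa using hj)
      rw [show i + (j + 1) = i + 1 + j by omega]
      simpa using this

/-- the side conditions of a word check -/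
noncomputable def wordHead (fixed : List ℕ) (w : List (ℕ × ℕ)) : Bool :=
  w.all stepValid && fixed.all fun c => decide (evalWord w c = some c)

/-- a word check at a point -/
noncomputable def wordPtN (T : Trie ℕ) (n : ℕ) (w : List (ℕ × ℕ)) (p i : ℕ) : Bool :=
  Nat.blt (pgetN p i) n && decide (evalWord w (T.getK i) = some (T.getK (pgetN p i)))

theorem wordOK_of_parts {T : Trie ℕ} {fixed keys : List ℕ} {n : ℕ} {w : List (ℕ × ℕ)} {p : ℕ}
    (hT : listTrieOK T keys 0 = true) (hn : keys.length = n) (h1 : wordHead fixed w = true)
    (h2 : allFrom (wordPtN T n w p) 0 n = true) : Numbered.wordOK fixed keys n w p = true := by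
  have hk : ∀ i < n, T.getK i = keys.getD i 0 := fun i hi => by simpa using listTrieOK_spec hT i (by omega)
  have h2' := CfsgLib.Schur.Cert.all_range_of_allFrom h2
  simp only [wordHead, Bool.and_eq_true] at h1
  simp only [Numbered.wordOK, Bool.and_eq_true]
  refine ⟨h1, (forallLt_iff _ _).2 fun i hi => ?_⟩
  have := List.all_eq_true.1 h2' i (List.mem_range.2 hi)
  simp only [wordPtN, Bool.and_eq_true, Nat.blt_eq, decide_eq_true_eq] at this ⊢
  rw [← hk i hi, ← hk _ this.1]
  exact this

end CfsgLib.Sporadic.Conway
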