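import Cfsg.Agent.Lib.Sporadic.ConwayKeysWide
import Cfsg.Agent.Lib.Sporadic.ConwayKeysParts

/-!
# Word checks on listed vectors, cut into parts, for wide packing
-/

set_option autoImplicit false

namespace CfsgLib.Sporadic.Conway

open CfsgLib.Schur.Cert (pgetW Trie allFrom)

/-- a word check at a point, wide packing -/
noncomputable def wordPtW (T : Trie ℕ) (n : ℕ) (w : List (ℕ × ℕ)) (p i : ℕ) : Bool :=
  Nat.blt (pgetW p i) n && decide (evalWord w (T.getK i) = some (T.getK (pgetW p i)))

theorem wordOKW_of_parts {T : Trie ℕ} {fixed keys : List ℕ} {n : ℕ} {w : List (ℕ × ℕ)} {p : ℕ}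
    (hT : listTrieOK T keys 0 = true) (hn : keys.length = n) (h1 : wordHead fixed w = true)
    (h2 : allFrom (wordPtW T n w p) 0 n = true) : Numbered.wordOKW fixed keys n w p = true := by
  have hk : ∀ i < n, T.getK i = keys.getD i 0 := fun i hi => by simpa using listTrieOK_spec hT i (by omega)
  have h2' := CfsgLib.Schur.Cert.all_range_of_allFrom h2
  simp only [wordHead, Bool.and_eq_true] at h1
  simp only [Numbered.wordOKW, Bool.and_eq_true]
  refine ⟨h1, (forallLt_iff _ _).2 fun i hi => ?_⟩
  have := List.all_eq_true.1 h2' i (List.mem_range.2 hi)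
  simp only [wordPtW, Bool.and_eq_true, Nat.blt_eq, decide_eq_true_eq] at this ⊢
  rw [← hk i hi, ← hk _ this.1]
  exact this

/-- a word of packed permutations at a point -/
noncomputable def wordPermPt (P Pi : List ℕ) (w : CfsgLib.Schur.Cert.Word) (p x : ℕ) : Bool :=
  Nat.beq (CfsgLib.Schur.Cert.wordImgW P Pi w x) (pgetW p x)

theorem wordPermW_of_parts {n k : ℕ} {P Pi : List ℕ} {w : CfsgLib.Schur.Cert.Word} {p : ℕ}
    (h1 : (w.all fun l => Nat.blt l.1 k) = true) (h2 : allFrom (wordPermPt P Pi w p) 0 n = true) :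
    wordPermW n P Pi k w p = true := by
  simp only [wordPermW, Bool.and_eq_true]
  exact ⟨h1, (forallLt_iff _ _).2 fun x hx =>
    List.all_eq_true.1 (CfsgLib.Schur.Cert.all_range_of_allFrom h2) x (List.mem_range.2 hx)⟩

end CfsgLib.Sporadic.Conway
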