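import Cfsg.Agent.Lib.Sporadic.ConwayKeys
import Cfsg.Agent.Lib.Schur.PermWide

/-!
# A common stabiliser on up to 8192 listed vectors
-/

set_option autoImplicit false

namespace CfsgLib.Sporadic.Conway

open Cfsg CfsgLib.ThreeTrans.Leech CfsgLib.Sporadic.Lattice
open CfsgLib.Schur.Cert (pgetW RepW wordImgW wval Word)

variable {f : List ↥leechLattice} {ks : List (↥leechLattice × ℤ)} {keys : List ℕ} {n : ℕ}

/-- A word fixing the base vectors acts by a packed permutation. -/
noncomputable def Numbered.wordOKW (fixed : List ℕ) (keys : List ℕ) (n : ℕ) (w : List (ℕ × ℕ)) (p : ℕ) : Bool :=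
  w.all stepValid && (fixed.all fun c => decide (evalWord w c = some c)) &&
    forallLt n fun i => Nat.blt (pgetW p i) n &&
      decide (evalWord w (keys.getD i 0) = some (keys.getD (pgetW p i) 0))

theorem Numbered.exists_repW (N : Numbered f ks keys n) {fixed : List ℕ}
    (hf : f.map (fun v : ↥leechLattice => (v : Vec)) = fixed.map pv)
    {w : List (ℕ × ℕ)} {p : ℕ} (h : Numbered.wordOKW fixed keys n w p = true) :
    ∃ g : ↥(fixGroup f), RepW (N.toPermN g) p := by
  simp only [Numbered.wordOKW, Bool.and_eq_true] at h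
  obtain ⟨⟨hv, hfx⟩, hpts⟩ := h
  obtain ⟨g, hg⟩ := packElt w hv
  have hgf : g ∈ fixGroup f := fix_le hf g fun c hc v hv' => by
    have := List.all_eq_true.1 hfx c hc
    rw [decide_eq_true_eq] at this
    exact Subtype.ext ((hg _ _ this v hv').trans hv'.symm)
  refine ⟨⟨g, hgf⟩, fun i => ?_⟩
  have := forallLt_elim hpts i.2
  simp only [Bool.and_eq_true, Nat.blt_eq, decide_eq_true_eq] at this
  have e : N.toPermN ⟨g, hgf⟩ i = ⟨pgetW p i.1, this.1⟩ := N.inj (Subtype.ext (by
    rw [N.toPermN_spec, N.val]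
    exact hg _ _ this.2 _ (N.val i)))
  rw [e]

section Words

variable {G : Type*} [Group G] (φ : G →* Equiv.Perm (Fin n))

/-- A word in packed generators gives a packed permutation. -/
noncomputable def wordPermW (n : ℕ) (P Pi : List ℕ) (k : ℕ) (w : Word) (p : ℕ) : Bool :=
  (w.all fun l => Nat.blt l.1 k) && forallLt n fun x => Nat.beq (wordImgW P Pi w x) (pgetW p x)

/-- The packed inverses are inverse. -/
noncomputable def invsOKW (n : ℕ) (P Pi : List ℕ) (k : ℕ) : Bool :=
  forallLt k fun j => forallLt n fun x => Nat.beq (pgetW (Pi.getD j 0) (pgetW (P.getD j 0) x)) x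

theorem exists_word_repW {P Pi : List ℕ} {k : ℕ} (hP : ∀ j < k, ∃ g : G, RepW (φ g) (P.getD j 0))
    (hinv : invsOKW n P Pi k = true) {w : Word} {p : ℕ} (h : wordPermW n P Pi k w p = true) :
    ∃ g : G, RepW (φ g) p := by
  simp only [wordPermW, Bool.and_eq_true, List.all_eq_true, Nat.blt_eq] at h
  choose b hb using hP
  let b' : ℕ → G := fun j => if h : j < k then b j h else 1
  have hrep : ∀ j < k, RepW (φ (b' j)) (P.getD j 0) := fun j hj => by
    simp only [b', dif_pos hj]; exact hb j hj
  refine ⟨wval b' w, fun x => ?_⟩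
  rw [← CfsgLib.Schur.Cert.wordImgW_spec φ (m := k) (b := b') hrep
    (fun j hj => CfsgLib.Schur.Cert.RepW.inv (hrep j hj) (forallLt_elim hinv hj)) w h.1 x]
  exact (Nat.eq_of_beq_eq_true (forallLt_elim h.2 x.2)).symm

theorem eq_of_repW (hφ : Function.Injective φ) {g g' : G} {p : ℕ} (h : RepW (φ g) p) (h' : RepW (φ g') p) : g = g' :=
  hφ (Equiv.ext fun x => Fin.ext ((h x).symm.trans (h' x)))

end Words

end CfsgLib.Sporadic.Conway
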