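import Cfsg.Agent.Lib.Sporadic.ConwayKeysWide
import Cfsg.Agent.Lib.Schur.CheckParts
import Cfsg.Agent.Lib.Sporadic.ConwayOrder

/-!
# A stabiliser acting on some of the listed vectors

The elements preserving a set of the listed vectors act faithfully on it when the set spans.
-/

set_option autoImplicit false

namespace CfsgLib.Sporadic.Conway

open Cfsg CfsgLib.ThreeTrans.Leech CfsgLib.Sporadic.Lattice
open CfsgLib.Schur.Cert (pgetW RepW pgetN RepN KeyTree distinctOK distinctOK_spec)

variable {f : List ↥leechLattice} {ks : List (↥leechLattice × ℤ)} {keys : List ℕ} {n : ℕ}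

namespace Numbered

variable (N : Numbered f ks keys n) {k : ℕ} (e : Fin k → Fin n) (he : Function.Injective e)

/-- The elements preserving a set of numbers. -/
def subStab : Subgroup ↥(fixGroup f) where
  carrier := {g | ∀ i, ∃ j, e j = N.toPermN g (e i)}
  one_mem' i := ⟨i, by simp⟩
  mul_mem' {a b} ha hb i := by
    obtain ⟨j, hj⟩ := hb i
    obtain ⟨l, hl⟩ := ha j
    exact ⟨l, by rw [hl, hj, map_mul, Equiv.Perm.mul_apply]⟩
  inv_mem' {a} ha i := by
    choose π hπ using ha
    have hinj : Function.Injective π := fun i j h => he ((N.toPermN a).injective (by rw [← hπ, ← hπ, h]))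
    obtain ⟨j, rfl⟩ := Finite.injective_iff_surjective.1 hinj i
    exact ⟨j, by rw [hπ, map_inv, Equiv.Perm.inv_def, Equiv.symm_apply_apply]⟩

/-- The permutation of the set. -/
noncomputable def subPerm : N.subStab e he →* Equiv.Perm (Fin k) :=
  MonoidHom.mk'
    (fun g =>
      { toFun := fun i => (g.2 i).choose
        invFun := fun i => (g⁻¹.2 i).choose
        left_inv := fun i => he (by
          rw [(g⁻¹.2 _).choose_spec, (g.2 i).choose_spec, InvMemClass.coe_inv, map_inv, Equiv.Perm.inv_def,
            Equiv.symm_apply_apply])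
        right_inv := fun i => he (by
          rw [(g.2 _).choose_spec, (g⁻¹.2 i).choose_spec, InvMemClass.coe_inv, map_inv, Equiv.Perm.inv_def,
            Equiv.apply_symm_apply]) })
    fun g h => Equiv.ext fun i => he (by
      show e ((g * h).2 i).choose = e (g.2 (h.2 i).choose).choose
      rw [((g * h).2 i).choose_spec, (g.2 _).choose_spec, (h.2 i).choose_spec, Subgroup.coe_mul, map_mul,
        Equiv.Perm.mul_apply])

theorem subPerm_spec (g : N.subStab e he) (i : Fin k) : e (N.subPerm e he g i) = N.toPermN g.1 (e i) :=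
  (g.2 i).choose_spec

/-- A packed permutation restricts. -/
noncomputable def restrOK (sub : List ℕ) (k p q : ℕ) : Bool :=
  forallLt k fun i => Nat.blt (pgetN q i) k && Nat.beq (pgetW p (sub.getD i 0)) (sub.getD (pgetN q i) 0)

theorem restrOK_of_parts {sub : List ℕ} {k p q : ℕ}
    (h : CfsgLib.Schur.Cert.allFrom (fun i => Nat.blt (pgetN q i) k && Nat.beq (pgetW p (sub.getD i 0)) (sub.getD (pgetN q i) 0)) 0 k = true) :
    restrOK sub k p q = true :=
  (forallLt_iff _ _).2 fun i hi => List.all_eq_true.1 (CfsgLib.Schur.Cert.all_range_of_allFrom h) i (List.mem_range.2 hi)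

theorem exists_sub_repN {sub : List ℕ} (hsub : ∀ i, (e i : ℕ) = sub.getD i.1 0) {g : ↥(fixGroup f)} {p q : ℕ}
    (hg : RepW (N.toPermN g) p) (h : restrOK sub k p q = true) :
    ∃ v : N.subStab e he, v.1 = g ∧ RepN (N.subPerm e he v) q := by
  have key : ∀ i : Fin k, ∃ hi : pgetN q i < k, N.toPermN g (e i) = e ⟨pgetN q i, hi⟩ := fun i => by
    have hh := forallLt_elim h i.2
    simp only [Bool.and_eq_true, Nat.blt_eq, Nat.beq_eq] at hh
    exact ⟨hh.1, Fin.ext (by rw [← hg, hsub, hsub]; exact hh.2)⟩
  have hmem : g ∈ N.subStab e he := fun i => by obtain ⟨hi, h'⟩ := key i; exact ⟨_, h'.symm⟩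
  refine ⟨⟨g, hmem⟩, rfl, fun i => ?_⟩
  · obtain ⟨hi, h'⟩ := key i
    have := he ((N.subPerm_spec e he ⟨g, hmem⟩ i).trans h')
    rw [this]

/-- Multiples of the coordinate vectors are combinations of the chosen points. -/
def spanOK (keys sub sel : List ℕ) (k : ℕ) (coef : List (List ℤ)) (D : ℤ) : Prop :=
  D ≠ 0 ∧ (∀ t : Fin 24, sel.getD t.1 0 < k) ∧ ∀ x y : GolayPt,
    (∑ t : Fin 24, (coef.getD (ix x) []).getD t.1 0 * pv (keys.getD (sub.getD (sel.getD t.1 0) 0) 0) y) =
      if x = y then D else 0

noncomputable instance (keys sub sel : List ℕ) (k : ℕ) (coef : List (List ℤ)) (D : ℤ) : Decidable (spanOK keys sub sel k coef D) :=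
  inferInstanceAs (Decidable (_ ∧ _ ∧ _))

theorem subPerm_injective {sub sel : List ℕ} (hsub : ∀ i, (e i : ℕ) = sub.getD i.1 0) {coef : List (List ℤ)} {D : ℤ}
    (h : spanOK keys sub sel k coef D) : Function.Injective (N.subPerm e he) := by
  classical
  obtain ⟨hD, hsel, hspan⟩ := h
  refine (injective_iff_map_eq_one _).2 fun g hg => Subtype.ext (Subtype.ext ?_)
  let P : Fin 24 → ↥leechLattice := fun t => N.pt (e ⟨sel.getD t.1 0, hsel t⟩)
  have hP : ∀ t, g.1.1 • P t = P t := fun t => by
    have h1 := N.subPerm_spec e he g ⟨sel.getD t.1 0, hsel t⟩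
    rw [hg, Equiv.Perm.one_apply] at h1
    show g.1.1 • N.pt _ = _
    rw [← N.toPermN_spec, ← h1]
  have key : ∀ v : ↥leechLattice, g.1.1 • v = v := fun v => by
    let w : ↥leechLattice := ∑ t, (∑ x, (v : Vec) x * (coef.getD (ix x) []).getD t.1 0) • P t
    have hw : w = D • v := by
      refine Subtype.ext (funext fun y => ?_)
      simp only [w, AddSubgroup.val_finsetSum, AddSubgroupClass.coe_zsmul, Finset.sum_apply, Pi.smul_apply,
        smul_eq_mul, P, N.val, hsub]
      calc ∑ t : Fin 24, (∑ x, (v : Vec) x * (coef.getD (ix x) []).getD t.1 0) *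
            pv (keys.getD (sub.getD (sel.getD t.1 0) 0) 0) y
          = ∑ x, (v : Vec) x * ∑ t : Fin 24, (coef.getD (ix x) []).getD t.1 0 *
            pv (keys.getD (sub.getD (sel.getD t.1 0) 0) 0) y := by
            simp only [Finset.sum_mul, Finset.mul_sum, mul_assoc]
            rw [Finset.sum_comm]
        _ = D * (v : Vec) y := by
            simp only [hspan]
            rw [Finset.sum_eq_single y (fun x _ hxy => by rw [if_neg hxy, mul_zero]) (by simp), if_pos rfl]
            ring
    have hgw : linOf g.1.1 w = w := by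
      simp only [w, map_sum, map_zsmul]
      exact Finset.sum_congr rfl fun t _ => by rw [show linOf g.1.1 (P t) = g.1.1 • P t from rfl, hP t]
    rw [hw, map_zsmul] at hgw
    refine Subtype.ext (funext fun y => mul_left_cancel₀ hD ?_)
    have := congrFun (congrArg Subtype.val hgw) y
    simp only [AddSubgroupClass.coe_zsmul, Pi.smul_apply, smul_eq_mul] at this
    exact this
  exact Subtype.ext (Equiv.ext key)

end Numbered

/-- A list increases, with all entries at least a bound. -/
noncomputable def increasingFrom (L : List ℕ) : ℕ → Bool :=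
  List.rec (motive := fun _ => ℕ → Bool) (fun _ => true) (fun x _ ih b => Nat.ble b x && ih (Nat.add x 1)) L

theorem increasingFrom_spec : ∀ {L : List ℕ} {b : ℕ}, increasingFrom L b = true → L.Nodup ∧ ∀ x ∈ L, b ≤ x
  | [], _, _ => ⟨List.nodup_nil, by simp⟩
  | x :: L, b, h => by
    replace h : (Nat.ble b x && increasingFrom L (x + 1)) = true := h
    rw [Bool.and_eq_true, Nat.ble_eq] at h
    obtain ⟨h1, h2⟩ := increasingFrom_spec h.2
    refine ⟨List.nodup_cons.2 ⟨fun hx => by have := h2 x hx; omega, h1⟩, fun y hy => ?_⟩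
    rcases List.mem_cons.1 hy with rfl | hy
    · exact h.1
    · have := h2 y hy; omega

/-- A list of numbers as an injection. -/
theorem exists_sub_fun {n k : ℕ} {sub : List ℕ} (hlen : sub.length = k) (hlt : sub.all (fun x => Nat.blt x n) = true)
    (hd : increasingFrom sub 0 = true) :
    ∃ e : Fin k → Fin n, Function.Injective e ∧ ∀ i, (e i : ℕ) = sub.getD i.1 0 := by
  subst hlen
  simp only [List.all_eq_true, Nat.blt_eq] at hlt
  have hnd := (increasingFrom_spec hd).1
  refine ⟨fun i => ⟨sub.getD i.1 0, hlt _ (by rw [List.getD_eq_getElem _ _ i.2]; exact List.getElem_mem _)⟩,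
    fun i j h => ?_, fun i => rfl⟩
  have h' := congrArg Fin.val h
  simp only [List.getD_eq_getElem _ _ i.2, List.getD_eq_getElem _ _ j.2] at h'
  exact Fin.ext ((hnd.getElem_inj_iff).1 h')

end CfsgLib.Sporadic.Conway
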