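import Cfsg.Prelude.Def_Spor_Conway
import Cfsg.Prelude.Def_KGroupFacts
import Cfsg.Agent.Lib.Sporadic.ConwayKeysWide
import Cfsg.Agent.Lib.Sporadic.ConwayTwoSimple
import Cfsg.Agent.Lib.Sporadic.ConwaySubPoints
import Cfsg.Agent.Lib.Sporadic.CoTwoMult.GenChecks
import Cfsg.Agent.Lib.Sporadic.CoTwoMult.WordChecks
import Cfsg.Agent.Lib.Sporadic.CoTwoMult.SetChecks
import Cfsg.Agent.Lib.Sporadic.CoTwoMult.RelCheck
import Cfsg.Agent.Lib.Sporadic.CoTwoMult.ExtraCheck
import Cfsg.Agent.Lib.Sporadic.MultTwoMono.Checks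
import Cfsg.Agent.Lib.Sporadic.MultTwoCent.Checks
import Cfsg.Agent.Lib.Sporadic.MultTwoMcl.Checks
import Cfsg.Agent.Lib.Sporadic.MultTwoUnit.Checks
import Cfsg.Agent.Lib.Schur.LocalExact
import Cfsg.Agent.Lib.Schur.TwoGen

/-!
# The Schur multiplier of the second Conway group is trivial

The monomial subgroup and an involution centraliser both hold a Sylow 2-subgroup and allow a double cover,
but a relation between two common elements is non-trivial in one cover and trivial in the other.
The McLaughlin group, a 3-element centraliser and a group of order 23 take care of the odd primes.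
-/

set_option autoImplicit false
set_option maxRecDepth 100000

namespace CfsgLib.Sporadic.CoTwoMult

open Cfsg CfsgLib.ThreeTrans.Leech CfsgLib.Sporadic.Lattice CfsgLib.Sporadic.Conway
open CfsgLib.Schur.Cert (pgetW RepW RepN wordImgW wval Word Vec LinCert wsub mrun veq wexp vunit dot extraOK permsOKN relRows)
open scoped Pointwise

attribute [local irreducible] OTree.entries coTwoNearTree

local notation "G₂" => Subtype fun g : ↥Co0 => g ∈ fixGroup [pairElt]

theorem keys_eq : coTwoNearTree.entries.map Prod.fst = MultTwoPoints.keys := by decide +kernel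

theorem keys_len : MultTwoPoints.keys.length = 4600 := by decide +kernel

theorem exists_numbered_co : Nonempty (Numbered [pairElt] [(pairElt, (-16 : ℤ))] MultTwoPoints.keys 4600) := by
  have h := exists_numbered (f := [pairElt]) (ks := [(pairElt, (-16 : ℤ))]) (by simp) near_set.2.2 keys_eq
    (near_set.1.trans keys_len.symm)
  rwa [keys_len] at h

noncomputable def num : Numbered [pairElt] [(pairElt, (-16 : ℤ))] MultTwoPoints.keys 4600 := exists_numbered_co.some

/-- The action on the 4600 numbers. -/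
noncomputable def act : G₂ →* Equiv.Perm (Fin 4600) := num.toPermN

theorem inv_le {k : ℕ} (hk : k ≤ 10) : invsOKW 4600 MultTwoPoints.perms MultTwoPoints.pinvs k = true :=
  (forallLt_iff _ _).2 fun _ hj => forallLt_elim inv_check (lt_of_lt_of_le hj hk)

theorem exists_gen : ∀ j < 10, ∃ g : G₂, RepW (act g) (MultTwoPoints.perms.getD j 0) := by
  have h6 : ∀ j < 6, ∃ g : G₂, RepW (act g) (MultTwoPoints.perms.getD j 0) := fun j hj => by
    interval_cases j
    exacts [num.exists_repW rfl gen_check0, num.exists_repW rfl gen_check1, num.exists_repW rfl gen_check2,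
      num.exists_repW rfl gen_check3, num.exists_repW rfl gen_check4, num.exists_repW rfl gen_check5]
  have h8 : ∀ j < 8, ∃ g : G₂, RepW (act g) (MultTwoPoints.perms.getD j 0) := fun j hj => by
    by_cases h : j < 6
    · exact h6 j h
    · interval_cases j
      exacts [exists_word_repW act h6 (inv_le (by norm_num)) derived_check0,
        exists_word_repW act h6 (inv_le (by norm_num)) derived_check1]
  intro j hj
  by_cases h : j < 8
  · exact h8 j h
  · interval_cases j
    exacts [exists_word_repW act h8 (inv_le (by norm_num)) derived_check2,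
      exists_word_repW act h8 (inv_le (by norm_num)) derived_check3]

/-- The elements fixing all the points. -/
def pointKernel : Subgroup ↥Co0 where
  carrier := {a | a ∈ fixGroup [pairElt] ∧ ∀ x ∈ DS [(pairElt, (-16 : ℤ))], a • x = x}
  one_mem' := ⟨one_mem _, fun x _ => one_smul _ x⟩
  mul_mem' := fun {a b} ha hb => ⟨mul_mem ha.1 hb.1, fun x hx => by rw [mul_smul, hb.2 x hx, ha.2 x hx]⟩
  inv_mem' := fun {a} ha => ⟨inv_mem ha.1, fun x hx => by rw [inv_smul_eq_iff]; exact (ha.2 x hx).symm⟩

theorem pointKernel_normIn : NormIn pointKernel [pairElt] :=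
  ⟨fun _ h => h.1, fun g hg n hn => ⟨mul_mem (mul_mem hg hn.1) (inv_mem hg), fun x hx => by
    rw [mul_smul, mul_smul, hn.2 _ (smul_mem_DS (fun p hp => mem_fixGroup.1 (inv_mem hg) p.1 (by
      simp at hp ⊢; subst hp; rfl)) hx), smul_inv_smul]⟩⟩

theorem act_injective : Function.Injective act := num.injective_of fun g hg h => by
  have hm : g ∈ pointKernel := ⟨hg, h⟩
  rcases coTwo_normIn pointKernel_normIn with e | e
  · rwa [e, Subgroup.mem_bot] at hm
  · exfalso
    obtain ⟨a, ha⟩ := exists_gen 0 (by norm_num)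
    have hk : (a : ↥Co0) ∈ pointKernel := by rw [e]; exact a.2
    have hfix : num.toPermN a ⟨0, by norm_num⟩ = ⟨0, by norm_num⟩ :=
      num.inj (by rw [num.toPermN_spec]; exact hk.2 _ (num.mem _))
    have h1 : pgetW (MultTwoPoints.perms.getD 0 0) 0 = 0 := by
      have h2 := ha ⟨0, by norm_num⟩
      rw [show act = num.toPermN from rfl, hfix] at h2
      exact h2
    exact absurd moved_check (by rw [h1, Nat.beq_refl]; simp)

theorem exists_tops {ws : List Word} {ps : List ℕ}
    (h0 : wordPermW 4600 MultTwoPoints.perms MultTwoPoints.pinvs 10 (ws.getD 0 []) (ps.getD 0 0) = true)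
    (h1 : wordPermW 4600 MultTwoPoints.perms MultTwoPoints.pinvs 10 (ws.getD 1 []) (ps.getD 1 0) = true) :
    ∃ a : ℕ → G₂, ∀ j < 2, RepW (act (a j)) (ps.getD j 0) := by
  obtain ⟨a0, e0⟩ := exists_word_repW act exists_gen inv_check h0
  obtain ⟨a1, e1⟩ := exists_word_repW act exists_gen inv_check h1
  exact ⟨fun j => if j = 0 then a0 else a1, fun j hj => by interval_cases j <;> assumption⟩

/-- a chain on a spanning set of points gives the kernel over its subgroup -/
theorem exists_over {k : ℕ} {sub sel : List ℕ} {coef : List (List ℤ)} {D : ℤ}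
    (hs : sub.length = k ∧ sub.all (fun x => Nat.blt x 4600) = true ∧
      increasingFrom sub 0 = true)
    (hspan : Numbered.spanOK MultTwoPoints.keys sub sel k coef D) {ps : List ℕ} (a : ℕ → G₂)
    (ha : ∀ j < 2, RepW (act (a j)) (ps.getD j 0)) {ls : List ChainLevel}
    (r0 : Numbered.restrOK sub k (ps.getD 0 0) ((chainPerm ls).getD 0 0) = true)
    (r1 : Numbered.restrOK sub k (ps.getD 1 0) ((chainPerm ls).getD 1 0) = true)
    (C : LinCert) (rows : List CfsgLib.Schur.Cert.Vec) (ex : List (ℕ × ℕ × CfsgLib.Schur.Cert.Vec))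
    (hlen : (chainPerm ls).length = 2) (hgenlen : chainGen ls = 2) (hperm : permsOKN k ls = true)
    (hrows : rows = relRows (chainRels ls ((List.range 2).map fun j => [(j, true)])) ∧
      chainExp ls = ((List.range 2).map fun j => [(j, true)]).map (wexp vunit))
    (hexp : ((List.range 2).map fun j => [(j, true)]).map (wexp vunit) =
      (List.range 2).map fun j => wexp vunit [(j, true)])
    (htab : tablesOK (chainRels ls ((List.range 2).map fun j => [(j, true)])) rows ls
      ((List.range 2).map fun j => [(j, true)]) = true)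
    (hex : ex.all (extraOK ls (chainRels ls ((List.range 2).map fun j => [(j, true)])) 2) = true)
    (hlin : C.ok rows 2 (chainEqns ls ++ ex.map fun e => e.2.2) = true)
    {Γ : Type} [Group Γ] [Finite Γ] (σ : Γ →* G₂) (hσ : Cfsg.IsStemExtension σ) :
    ∃ (U : Subgroup G₂) (ζ : Γ), Nat.card U = chainSize ls ∧ ζ ^ C.bound = 1 ∧
      (∀ z ∈ σ.ker, ∃ i : ℤ, z ^ U.index = ζ ^ i) ∧
      ∀ b : ℕ → Γ, (∀ j < 2, σ (b j) = a j) → ∀ w : Word, (∀ l ∈ w, l.1 < 2) → veq (wexp vunit w) [] = true →
        (mrun (chainMachine ls) w 0).1 = 0 →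
          wval b w = ζ ^ dot (C.dual.getD C.tor []) (mrun (chainMachine ls) w 0).2 := by
  have : Finite G₂ := Nat.finite_of_card_ne_zero (by rw [card_fix_pair]; norm_num)
  obtain ⟨e, he, hsub⟩ := exists_sub_fun hs.1 hs.2.1 hs.2.2
  have key : ∀ j < 2, ∃ v : num.subStab e he, v.1 = a j ∧ RepN (num.subPerm e he v) ((chainPerm ls).getD j 0) :=
    fun j hj => by
      interval_cases j
      exacts [num.exists_sub_repN e he hsub (ha 0 hj) r0, num.exists_sub_repN e he hsub (ha 1 hj) r1]
  have haV : ∀ j < 2, a j ∈ num.subStab e he := fun j hj => by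
    obtain ⟨v, hv, -⟩ := key j hj
    exact hv ▸ v.2
  refine CfsgLib.Schur.Cert.exists_local_exact (num.subPerm e he) (num.subPerm_injective e he hsub hspan) a ls C
    rows 2 ex haV (fun j hj => ?_) hlen hgenlen hperm hrows.1 htab (hrows.2.trans hexp) hex hlin σ hσ
  obtain ⟨v, hv, hr⟩ := key j hj
  rwa [show (⟨a j, haV j hj⟩ : num.subStab e he) = v from Subtype.ext hv.symm]

theorem size_check : ((chainPerm MultTwoMono.chain).length = 2 ∧ chainGen MultTwoMono.chain = 2 ∧
      chainSize MultTwoMono.chain = 908328960 ∧ MultTwoMono.lin.bound = 2) ∧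
    ((chainPerm MultTwoCent.chain).length = 2 ∧ chainGen MultTwoCent.chain = 2 ∧ MultTwoCent.lin.bound = 2) ∧
    ((chainPerm MultTwoMcl.chain).length = 2 ∧ chainGen MultTwoMcl.chain = 2 ∧
      chainSize MultTwoMcl.chain = 898128000 ∧ MultTwoMcl.lin.bound = 3) ∧
    ((chainPerm MultTwoUnit.chain).length = 2 ∧ chainGen MultTwoUnit.chain = 2 ∧
      chainSize MultTwoUnit.chain = 6531840 ∧ MultTwoUnit.lin.bound = 4) := by
  decide +kernel

set_option maxHeartbeats 2000000 in
theorem multiplier_fix : Cfsg.HasCyclicSchurMultiplier G₂ 1 := by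
  have : Finite G₂ := Nat.finite_of_card_ne_zero (by rw [card_fix_pair]; norm_num)
  refine CfsgLib.Schur.hasCyclicSchurMultiplier_one_of_forall fun Γ _ _ σ hσ =>
    (Subgroup.eq_bot_iff_forall _).2 fun z hz => ?_
  obtain ⟨⟨lA, gA, sA, bA⟩, ⟨lB, gB, bB⟩, ⟨lM, gM, sM, bM⟩, ⟨lT, gT, sT, bT⟩⟩ := size_check
  obtain ⟨aA, hA⟩ := exists_tops mono_word0 mono_word1
  obtain ⟨aB, hB⟩ := exists_tops cent_word0 cent_word1
  obtain ⟨aM, hM⟩ := exists_tops mcl_word0 mcl_word1
  obtain ⟨aT, hT⟩ := exists_tops unit_word0 unit_word1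
  obtain ⟨UA, ζA, cA, pA, kA, wA⟩ := exists_over mono_sub mono_span aA hA mono_restr0 mono_restr1
    MultTwoMono.lin MultTwoMono.rows MultTwoMono.extra lA gA MultTwoMono.perms_check MultTwoMono.rows_check
    (by decide +kernel) MultTwoMono.tables_check mono_extra MultTwoMono.lin_check σ hσ
  obtain ⟨UB, ζB, -, pB, -, wB⟩ := exists_over cent_sub cent_span aB hB cent_restr0 cent_restr1
    MultTwoCent.lin MultTwoCent.rows MultTwoCent.extra lB gB MultTwoCent.perms_check MultTwoCent.rows_check
    (by decide +kernel) MultTwoCent.tables_check cent_extra MultTwoCent.lin_check σ hσ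
  obtain ⟨UM, ζM, cM, pM, kM, -⟩ := exists_over mcl_sub mcl_span aM hM mcl_restr0 mcl_restr1
    MultTwoMcl.lin MultTwoMcl.rows MultTwoMcl.extra lM gM MultTwoMcl.perms_check MultTwoMcl.rows_check
    (by decide +kernel) MultTwoMcl.tables_check mcl_extra MultTwoMcl.lin_check σ hσ
  obtain ⟨UT, ζT, cT, pT, kT, -⟩ := exists_over unit_sub unit_span aT hT unit_restr0 unit_restr1
    MultTwoUnit.lin MultTwoUnit.rows MultTwoUnit.extra lT gT MultTwoUnit.perms_check MultTwoUnit.rows_check
    (by decide +kernel) MultTwoUnit.tables_check unit_extra MultTwoUnit.lin_check σ hσ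
  rw [bA] at pA
  rw [bB] at pB
  rw [bM] at pM
  rw [bT] at pT
  -- the double cover of the monomial subgroup does not extend
  have hζ : ζA = 1 := by
    have hA1 := rel_mono
    have hB1 := rel_cent
    obtain ⟨hrel, hrel0⟩ := rel_zero
    simp only [relOK, Bool.and_eq_true, List.all_eq_true, decide_eq_true_eq, beq_iff_eq] at hA1 hB1 hrel
    obtain ⟨⟨vA, eA⟩, qA, dA⟩ := hA1
    obtain ⟨⟨vB, eB⟩, qB, dB⟩ := hB1
    have img : ∀ {P Pi : List ℕ} {ws : List Word} {a : ℕ → G₂}, (∀ j < 2, RepW (act (a j)) (P.getD j 0)) →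
        invsOKW 4600 P Pi 2 = true → ∀ j < 2,
        wordPermW 4600 P Pi 2 (ws.getD j []) (MultTwoPoints.commons.getD j 0) = true →
        RepW (act (wval a (ws.getD j []))) (MultTwoPoints.commons.getD j 0) := by
      intro P Pi ws a ha hi j hj h x
      simp only [wordPermW, Bool.and_eq_true, List.all_eq_true, Nat.blt_eq] at h
      rw [← CfsgLib.Schur.Cert.wordImgW_spec act (m := 2) (b := a) ha
        (fun i hi2 => CfsgLib.Schur.Cert.RepW.inv (ha i hi2) (forallLt_elim hi hi2)) _ h.1 x]
      exact (Nat.eq_of_beq_eq_true (forallLt_elim h.2 x.2)).symm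
    let b : (ℕ → G₂) → ℕ → Γ := fun a j => Function.surjInv hσ.1 (a j)
    have hb : ∀ a j, σ (b a j) = a j := fun a j => Function.surjInv_eq hσ.1 _
    let lA' : ℕ → Γ := fun j => wval (b aA) (MultTwoPoints.inMono.getD j [])
    let lB' : ℕ → Γ := fun j => wval (b aB) (MultTwoPoints.inCent.getD j [])
    have hsame : wval lA' MultTwoPoints.rel = wval lB' MultTwoPoints.rel := by
      refine CfsgLib.Schur.Cert.wval_lift_eq hσ.2.1 lA' lB' _ (fun l hl => ?_) hrel0
      have hl2 := hrel l hl
      simp only [lA', lB']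
      rw [CfsgLib.Schur.Cert.map_wval, CfsgLib.Schur.Cert.map_wval, show σ ∘ b aA = aA from funext (hb aA),
        show σ ∘ b aB = aB from funext (hb aB)]
      generalize l.1 = j at hl2 ⊢
      interval_cases j
      exacts [eq_of_repW act act_injective (img hA mono_inv _ hl2 mono_common0) (img hB cent_inv _ hl2 cent_common0),
        eq_of_repW act act_injective (img hA mono_inv _ hl2 mono_common1) (img hB cent_inv _ hl2 cent_common1)]
    simp only [lA', lB'] at hsame
    rw [← CfsgLib.Schur.Cert.wval_wsub, ← CfsgLib.Schur.Cert.wval_wsub, wA _ (fun j _ => hb aA j) _ vA eA qA,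
      wB _ (fun j _ => hb aB j) _ vB eB qB] at hsame
    obtain ⟨u, hu⟩ : ∃ u : ℤ, dot (MultTwoMono.lin.dual.getD MultTwoMono.lin.tor [])
        (mrun (chainMachine MultTwoMono.chain) (wsub (fun j => MultTwoPoints.inMono.getD j []) MultTwoPoints.rel) 0).2
        = 2 * u + 1 := ⟨_, (dA ▸ (Int.mul_ediv_add_emod _ 2).symm)⟩
    obtain ⟨v, hv⟩ : ∃ v : ℤ, dot (MultTwoCent.lin.dual.getD MultTwoCent.lin.tor [])
        (mrun (chainMachine MultTwoCent.chain) (wsub (fun j => MultTwoPoints.inCent.getD j []) MultTwoPoints.rel) 0).2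
        = 2 * v := ⟨_, (Int.mul_ediv_cancel' (Int.dvd_of_emod_eq_zero dB)).symm⟩
    rwa [hu, hv, zpow_add, zpow_mul, zpow_mul, show (ζA : Γ) ^ (2 : ℤ) = 1 from (zpow_ofNat ζA 2).trans pA,
      show (ζB : Γ) ^ (2 : ℤ) = 1 from (zpow_ofNat ζB 2).trans pB, one_zpow, one_zpow, one_mul, zpow_one] at hsame
  have eA : z ^ UA.index = 1 := by
    obtain ⟨k, hk⟩ := kA z hz; rw [hk, hζ, one_zpow]
  have eM : z ^ (UM.index * 3) = 1 := by
    obtain ⟨k, hk⟩ := kM z hz
    rw [pow_mul, hk, ← zpow_natCast, ← zpow_mul, mul_comm, zpow_mul, zpow_natCast, pM, one_zpow]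
  have eT : z ^ (UT.index * 4) = 1 := by
    obtain ⟨k, hk⟩ := kT z hz
    rw [pow_mul, hk, ← zpow_natCast, ← zpow_mul, mul_comm, zpow_mul, zpow_natCast, pT, one_zpow]
  have iA : UA.index = 46575 := by
    have h := Subgroup.card_mul_index UA; rw [cA, sA, card_fix_pair] at h; omega
  have iM : UM.index = 47104 := by
    have h := Subgroup.card_mul_index UM; rw [cM, sM, card_fix_pair] at h; omega
  have iT : UT.index = 6476800 := by
    have h := Subgroup.card_mul_index UT; rw [cT, sT, card_fix_pair] at h; omega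
  rw [iA] at eA
  rw [iM] at eM
  rw [iT] at eT
  haveI : Fact (Nat.Prime 23) := ⟨by norm_num⟩
  obtain ⟨x, hx⟩ := exists_prime_orderOf_dvd_card' (G := G₂) 23 (by rw [card_fix_pair]; norm_num)
  have k23 : z ^ (Subgroup.zpowers x).index = 1 :=
    CfsgLib.Known.SL2Mult.pow_index_eq_one σ hσ (Subgroup.zpowers x) (fun y h hy hcom =>
      CfsgLib.Known.SL2Mult.trivial_of_mult σ hσ _
        (CfsgLib.Schur.hasCyclicSchurMultiplier_one_of_isCyclic _) y h hy hcom) hz
  have i23 : (Subgroup.zpowers x).index = 1839366144000 := by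
    have h := Subgroup.card_mul_index (Subgroup.zpowers x)
    rw [Nat.card_zpowers, hx, card_fix_pair] at h; omega
  rw [i23] at k23
  have h : z ^ Nat.gcd (Nat.gcd 46575 (47104 * 3)) (Nat.gcd (6476800 * 4) 1839366144000) = 1 :=
    pow_gcd_eq_one.2 ⟨pow_gcd_eq_one.2 ⟨eA, eM⟩, pow_gcd_eq_one.2 ⟨eT, k23⟩⟩
  rwa [show Nat.gcd (Nat.gcd 46575 (47104 * 3)) (Nat.gcd (6476800 * 4) 1839366144000) = 1
    by decide +kernel, pow_one] at h

theorem leechU_eq : Spor.leechU = pairElt := by
  refine Subtype.ext ?_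
  show Spor.vecU = pv kPair
  decide +kernel

theorem fix_iff (g : ↥Co0) : g ∈ fixGroup [pairElt] ↔ g • Spor.leechU = Spor.leechU := by
  rw [mem_fixGroup, leechU_eq]
  simp

/-- The group as defined is the stabiliser. -/
def sporEquiv : ↥(fixGroup [pairElt]) ≃* ↥Spor.Co2 where
  toFun g := ⟨g.1.1, g.1.2, (fix_iff g.1).1 g.2⟩
  invFun g := ⟨⟨g.1, g.2.1⟩, (fix_iff _).2 g.2.2⟩
  left_inv _ := rfl
  right_inv _ := rfl
  map_mul' _ _ := rfl

end CfsgLib.Sporadic.CoTwoMult
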