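import Cfsg.Agent.Lib.Sporadic.CoTwoOutData
import Cfsg.Agent.Lib.Sporadic.M23FixedVector
import Cfsg.Agent.Lib.Sporadic.MclOut
import Cfsg.Prelude.Def_Spor_Conway
import Cfsg.Prelude.Def_Spor_Mathieu

/-!
# The outer automorphism group of Co2

An automorphism may be assumed to fix the standard M23 pointwise.  It then fixes an element moving the base
among the 2025 vectors of McL, hence all of that McL, hence a transitive set on the 47104 vectors.
-/

set_option autoImplicit false

namespace CfsgLib.Sporadic.CoTwoOut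

open Cfsg MulAction CfsgLib.Sporadic CfsgLib.Sporadic.Conway CfsgLib.ThreeTrans.Leech CfsgLib.Sporadic.Lattice
open CfsgLib.Sporadic.CoThreeOut (M23pt)
open CfsgLib.Sporadic.MclOut (T2025 base card_T2025 rep462 reps_ok repPt)
open scoped Pointwise

attribute [local irreducible] OTree.entries coTwoMidTree mclTwentyTree
attribute [local instance] MclOut.actT

set_option maxHeartbeats 1000000

/-- The minimal vector. -/
noncomputable def omegaZero : ↥leechLattice := fiveElt - pairElt

/-- The second base vector. -/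
noncomputable def fiveZero : ↥leechLattice := fiveElt - twentyPt

/-- The group Co2 as a stabiliser. -/
noncomputable abbrev G2 : Subgroup ↥Co0 := fixGroup [omegaZero]

theorem finite_G2 : Finite ↥G2 := by
  obtain ⟨a, ha⟩ := to_pair (v := omegaZero) (show sqNorm (pv kFive - pv kPair) = 32 by decide +kernel)
  refine Nat.finite_of_card_ne_zero ?_
  rw [← card_fix_map [omegaZero] a, List.map_cons, List.map_nil, ha, card_fix_pair]
  norm_num

/-- The vectors of squared length 48 and inner product 8. -/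
def Y48 : Type := {y : ↥leechLattice // sqNorm (y : Vec) = 48 ∧ dotInt (y : Vec) (omegaZero : Vec) = 8}

noncomputable local instance actY : MulAction ↥G2 Y48 where
  smul g y := ⟨g.1 • y.1, (norm_smul' g.1 y.1).trans y.2.1, by
    have h := dot_smul' g.1 y.1 omegaZero
    rw [mem_fixGroup.1 g.2 omegaZero List.mem_cons_self, y.2.2] at h
    exact h⟩
  one_smul y := Subtype.ext (one_smul _ y.1)
  mul_smul a b y := Subtype.ext (mul_smul a.1 b.1 y.1)

theorem y_val (g : ↥G2) (y : Y48) : (g • y).1 = g.1 • y.1 := rfl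

/-- The base point. -/
noncomputable def baseY : Y48 :=
  ⟨fiveZero, show sqNorm (pv kFive - pv 62062060636173731114942761092) = 48 by decide +kernel,
    show dotInt (pv kFive - pv 62062060636173731114942761092) (pv kFive - pv kPair) = 8 by decide +kernel⟩

theorem mem_G2 {g : ↥Co0} : g ∈ G2 ↔ g • omegaZero = omegaZero := by
  simp [mem_fixGroup]

theorem mem_of_G {g : ↥Co0} (hg : g ∈ MclOut.G) : g ∈ G2 := by
  rw [mem_G2, omegaZero, smul_sub', mem_fixGroup.1 hg _ (by simp), mem_fixGroup.1 hg _ (by simp)]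

theorem shapes_ok : (∀ i : GolayPt, pv kFive i - pv kPair i = if ix i = 0 then -3 else 1) ∧
    (∀ i : GolayPt, pv kFive i - pv 62062060636173731114942761092 i = if ix i = 0 then 5 else 1) := by
  decide +kernel

theorem perm_fix_both {π : ↥M24} (h : π.1 (some 0) = some 0) :
    permHom π • omegaZero = omegaZero ∧ permHom π • fiveZero = fiveZero := by
  have hs : ∀ i, (ix (π.1.symm i) = 0) ↔ ix i = 0 := by
    intro i
    have h' : π.1.symm (some 0) = some 0 := π.1.symm_apply_eq.2 h.symm
    constructor <;> intro e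
    · have e' : π.1.symm i = some 0 := ix_injective (by rw [e]; rfl)
      rw [π.1.symm_apply_eq, h] at e'
      rw [e']; rfl
    · rw [show i = some 0 from ix_injective (by rw [e]; rfl), h']; rfl
  constructor <;> refine Subtype.ext (funext fun i => ?_)
  · show pv kFive (π.1.symm i) - pv kPair (π.1.symm i) = pv kFive i - pv kPair i
    simp only [shapes_ok.1, hs]
  · show pv kFive (π.1.symm i) - pv 62062060636173731114942761092 (π.1.symm i) =
      pv kFive i - pv 62062060636173731114942761092 i
    simp only [shapes_ok.2, hs]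

theorem exists_swap : ∃ τ : ↥M24, τ.1 none = some 0 ∧ τ.1 (some 0) = none ∧
    permHom τ • omegaZero = omegaElt ∧ permHom τ • fiveZero = fiveElt := by
  have hs := MclOut.swap_ok
  simp only [Bool.and_eq_true, Nat.beq_eq] at hs
  obtain ⟨τ, hτ⟩ := exists_M24_elt (p := MclOut.pSwap) hs.1.1.1.1
  have a1 : τ.1 none = some 0 := ix_injective (by rw [← hτ none]; exact hs.1.1.1.2)
  have a2 : τ.1 (some 0) = none := ix_injective (by rw [← hτ (some 0)]; exact hs.1.1.2)
  have hi : ∀ i, ix (τ.1.symm i) = 0 ↔ i = none := by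
    intro i
    constructor
    · intro e
      have e' : τ.1.symm i = some 0 := ix_injective (by rw [e]; rfl)
      rw [τ.1.symm_apply_eq, a2] at e'
      exact e'
    · rintro rfl
      rw [τ.1.symm_apply_eq.2 a2.symm]; rfl
  refine ⟨τ, a1, a2, Subtype.ext (funext fun i => ?_), Subtype.ext (funext fun i => ?_)⟩
  · show pv kFive (τ.1.symm i) - pv kPair (τ.1.symm i) = pv 27729856879992518157740382617 i
    rw [shapes_ok.1, omega_shape]
    simp only [hi]
  · show pv kFive (τ.1.symm i) - pv 62062060636173731114942761092 (τ.1.symm i) = pv kFive i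
    rw [shapes_ok.2, five_shape]
    simp only [hi]

/-- The chosen exchange. -/
noncomputable def swapPt : ↥M24 := exists_swap.choose

theorem swapPt_spec : swapPt.1 none = some 0 ∧ swapPt.1 (some 0) = none ∧
    permHom swapPt • omegaZero = omegaElt ∧ permHom swapPt • fiveZero = fiveElt := exists_swap.choose_spec

/-- A permutation fixing the point 0, as an element of the group. -/
noncomputable def permG (π : ↥M24) (h : π.1 (some 0) = some 0) : ↥G2 :=
  ⟨permHom π, mem_G2.2 (perm_fix_both h).1⟩

theorem conj_fix (u : ↥M23pt) : (swapPt⁻¹ * u.1 * swapPt).1 (some 0) = some 0 := by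
  show swapPt.1.symm (u.1.1 (swapPt.1 (some 0))) = some 0
  rw [swapPt_spec.2.1, show u.1.1 none = none from u.2]
  exact swapPt.1.symm_apply_eq.2 swapPt_spec.2.1.symm

/-- The standard copy of M23. -/
noncomputable def iota : ↥M23pt →* ↥G2 where
  toFun u := permG _ (conj_fix u)
  map_one' := Subtype.ext (by simp [permG])
  map_mul' a b := Subtype.ext (by simp [permG, mul_assoc])

theorem iota_val (u : ↥M23pt) : (iota u).1 = permHom (swapPt⁻¹ * u.1 * swapPt) := rfl

theorem iota_injective : Function.Injective iota := fun a b h => by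
  have e := permHom_injective (congrArg Subtype.val h)
  exact Subtype.ext (mul_right_cancel (mul_left_cancel ((mul_assoc _ _ _).symm.trans (e.trans (mul_assoc _ _ _)))))

theorem permG_mem (π : ↥M24) (h : π.1 (some 0) = some 0) : permG π h ∈ iota.range := by
  refine ⟨⟨swapPt * π * swapPt⁻¹, ?_⟩, Subtype.ext ?_⟩
  · show swapPt.1 (π.1 (swapPt.1.symm none)) = none
    rw [swapPt.1.symm_apply_eq.2 swapPt_spec.2.1.symm, h, swapPt_spec.2.1]
  · rw [iota_val]
    show permHom _ = permHom π
    congr 1
    group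

theorem iota_range : iota.range = stabilizer ↥G2 baseY := by
  refine le_antisymm (by rintro _ ⟨u, rfl⟩; exact Subtype.ext (perm_fix_both (conj_fix u)).2) fun a ha => ?_
  obtain ⟨-, -, hw, hf⟩ := swapPt_spec
  have h : permHom swapPt * a.1 * (permHom swapPt)⁻¹ ∈ fixGroup [omegaElt, fiveElt] :=
    mem_fixGroup.2 fun v hv => by
      simp only [List.mem_cons, List.not_mem_nil, or_false] at hv
      rcases hv with rfl | rfl
      · rw [mul_smul, mul_smul, ← hw, inv_smul_smul, mem_G2.1 a.2]
      · rw [mul_smul, mul_smul, ← hf, inv_smul_smul]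
        exact congrArg (permHom swapPt • ·) (congrArg Subtype.val (show a • baseY = baseY from ha))
  rw [fix_omega_five] at h
  obtain ⟨π, hπ, e⟩ := h
  refine ⟨⟨π, hπ⟩, Subtype.ext ?_⟩
  rw [iota_val, map_mul, map_mul, map_inv, e]
  group

theorem trans_Y : IsPretransitive ↥G2 Y48 := by
  obtain ⟨-, -, hw, hf⟩ := swapPt_spec
  have key : ∀ y : Y48, ∃ g : ↥G2, g • y = baseY := by
    intro y
    obtain ⟨a, ha⟩ := to_five y.2.1
    have hmem : a • omegaZero ∈ DS [(fiveElt, (8 : ℤ))] := ⟨(norm_smul' a omegaZero).trans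
      (show sqNorm (pv kFive - pv kPair) = 32 by decide +kernel), by
      simp only [List.forall_mem_cons]
      exact ⟨by rw [← ha, dot_smul']; exact y.2.2, by simp⟩⟩
    obtain ⟨b, hb, hbf⟩ := eight_set.2.1 _ hmem omegaElt omega_mem
    refine ⟨⟨(permHom swapPt)⁻¹ * b * a, mem_G2.2 ?_⟩, Subtype.ext ?_⟩
    · rw [mul_smul, mul_smul, hb, inv_smul_eq_iff, hw]
    · rw [y_val]
      show ((permHom swapPt)⁻¹ * b * a) • y.1 = fiveZero
      rw [mul_smul, mul_smul, ha, hbf _ List.mem_cons_self, inv_smul_eq_iff, hf]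
  refine ⟨fun x y => ?_⟩
  obtain ⟨g, hg⟩ := key x
  obtain ⟨g', hg'⟩ := key y
  exact ⟨g'⁻¹ * g, by rw [mul_smul, hg, inv_smul_eq_iff, hg']⟩

/-! ### vectors fixed by the stabiliser of the moved base vector -/

/-- All the certified elements. -/
def secGens : List ℕ := carriers ++ fixTwo ++ fixThirteen

/-- The packed permutation fixes the packed vector. -/
noncomputable def keyFix (p k : ℕ) : Bool := forallLt 24 fun i => Nat.beq (nib k (pget p i)) (nib k i)

/-- They fix point 0 and the vector. -/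
noncomputable def secGensOK : Bool :=
  secGens.all fun p => isAut p && Nat.beq (pget p 0) 0 && keyFix p secondKey

/-- The class of a point. -/
noncomputable def cls (i : GolayPt) : Fin 4 :=
  if ix i = 0 then 0 else if ix i ∈ [1, 23] then 1 else if ix i ∈ [13, 15, 17, 18, 19] then 3 else 2

theorem secGens_ok : secGensOK = true := by decide +kernel

theorem carry_ok : ∀ i < 24, i = 0 ∨ i = 1 ∨ i = 2 ∨ i = 13 ∨
    ∃ p ∈ carriers, pget p (if i ∈ [1, 23] then 1 else if i ∈ [13, 15, 17, 18, 19] then 13 else 2) = i := by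
  decide +kernel

theorem common_ok : (∀ i < 24, (∀ p ∈ fixTwo, pget p i = i) → i = 0 ∨ i = 2) ∧
    (∀ i < 24, (∀ p ∈ fixThirteen, pget p i = i) → i = 0 ∨ i = 13) ∧
    (∀ p ∈ fixTwo, pget p 2 = 2) ∧ (∀ p ∈ fixThirteen, pget p 13 = 13) := by
  decide +kernel

theorem sec_shapes : (∀ i : GolayPt, pv secondKey i = ![(3 : ℤ), 3, 1, -1] (cls i)) ∧
    (∀ i : GolayPt, pv kFive i - pv kPair i = ![(-3 : ℤ), 1, 1, 1] (cls i)) ∧
    (∀ i : GolayPt, pv kFive i - pv 62062060636173731114942761092 i = ![(5 : ℤ), 1, 1, 1] (cls i)) ∧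
    (∀ k : Fin 4, ((Finset.univ : Finset GolayPt).filter fun i => cls i = k).card = ![1, 2, 16, 5] k) := by
  decide +kernel

theorem solve_sec : ∀ a ∈ Finset.Icc (-7 : ℤ) 7, ∀ b ∈ Finset.Icc (-5 : ℤ) 5, ∀ c ∈ Finset.Icc (-2 : ℤ) 2,
    ∀ e ∈ Finset.Icc (-3 : ℤ) 3, a ^ 2 + 2 * b ^ 2 + 16 * c ^ 2 + 5 * e ^ 2 = 48 →
      -3 * a + 2 * b + 16 * c + 5 * e = 8 → (a - c) % 2 = 0 →
      (a = 5 ∧ b = 1 ∧ c = 1 ∧ e = 1) ∨ (a = 3 ∧ b = 3 ∧ c = 1 ∧ e = -1) := by
  decide +kernel

theorem sec_elt {p : ℕ} (hp : p ∈ secGens) :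
    ∃ π : ↥M24, Rep (π : Equiv.Perm GolayPt) p ∧ ∃ h : π.1 (some 0) = some 0,
      ∀ x : ↥leechLattice, (x : Vec) = pv secondKey → (permG π h).1 • x = x := by
  have h' := List.all_eq_true.1 secGens_ok p hp
  simp only [Bool.and_eq_true, Nat.beq_eq] at h'
  obtain ⟨u, hu⟩ := exists_M24_elt h'.1.1
  refine ⟨u, hu, ix_injective (by rw [← hu (some 0)]; exact h'.1.2), fun x hx => ?_⟩
  refine Subtype.ext (funext fun i => ?_)
  show (x : Vec) (u.1.symm i) = (x : Vec) i
  obtain ⟨j, rfl⟩ := u.1.surjective i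
  rw [Equiv.symm_apply_apply, hx]
  have h2 := forallLt_elim h'.2 (ix_lt j)
  rw [Nat.beq_eq, hu j] at h2
  simp only [pv, h2]

/-- A point with the same stabiliser is one of the two. -/
theorem fixed_cases (x : Y48)
    (h : ∀ p ∈ secGens, ∀ (π : ↥M24) (hπ : π.1 (some 0) = some 0), Rep (π : Equiv.Perm GolayPt) p →
      (∀ y : ↥leechLattice, (y : Vec) = pv secondKey → (permG π hπ).1 • y = y) → permG π hπ • x = x) :
    x = baseY ∨ (x.1 : Vec) = pv secondKey := by
  obtain ⟨hy, hw, hb, hcard⟩ := sec_shapes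
  set a := (x.1 : Vec) (pt 0)
  set b := (x.1 : Vec) (pt 1)
  set c := (x.1 : Vec) (pt 2)
  set e := (x.1 : Vec) (pt 13)
  have hval : ∀ i : GolayPt, (x.1 : Vec) i = ![a, b, c, e] (cls i) := by
    intro i
    have hi : pt (ix i) = i := pt_ix i
    have hmove : ∀ p ∈ carriers, ∀ s < 24, pget p s = ix i → (x.1 : Vec) i = (x.1 : Vec) (pt s) := by
      intro p hp s hs hps
      have hp' : p ∈ secGens := List.mem_append_left _ (List.mem_append_left _ hp)
      obtain ⟨π, hu, hπ, hux⟩ := sec_elt hp'
      have e1 := congrArg (fun z : Y48 => (z.1 : Vec) i) (h p hp' π hπ hu hux)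
      change (x.1 : Vec) (π.1.symm i) = (x.1 : Vec) i at e1
      have e2 : π.1 (pt s) = i := ix_injective (by rw [← hu (pt s), ix_pt hs, hps])
      rw [show π.1.symm i = pt s from π.1.symm_apply_eq.2 e2.symm] at e1
      exact e1.symm
    rcases carry_ok (ix i) (ix_lt i) with h' | h' | h' | h' | ⟨p, hp, hps⟩
    · rw [← hi, show cls (pt (ix i)) = 0 by rw [hi]; simp [cls, h'], h']; rfl
    · rw [← hi, show cls (pt (ix i)) = 1 by rw [hi]; simp [cls, h'], h']; rfl
    · rw [← hi, show cls (pt (ix i)) = 2 by rw [hi]; simp [cls, h'], h']; rfl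
    · rw [← hi, show cls (pt (ix i)) = 3 by rw [hi]; simp [cls, h'], h']; rfl
    · by_cases h0 : ix i = 0
      · rw [show cls i = 0 by simp [cls, h0], ← hi, h0]; rfl
      by_cases h1 : ix i ∈ [1, 23]
      · rw [show cls i = 1 by simp only [cls, if_neg h0, if_pos h1]]
        rw [if_pos h1] at hps
        exact hmove p hp 1 (by norm_num) hps
      by_cases h3 : ix i ∈ [13, 15, 17, 18, 19]
      · rw [show cls i = 3 by simp only [cls, if_neg h0, if_neg h1, if_pos h3]]
        rw [if_neg h1, if_pos h3] at hps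
        exact hmove p hp 13 (by norm_num) hps
      · rw [show cls i = 2 by simp only [cls, if_neg h0, if_neg h1, if_neg h3]]
        rw [if_neg h1, if_neg h3] at hps
        exact hmove p hp 2 (by norm_num) hps
  have hsum : ∀ F : Fin 4 → ℤ, ∑ i : GolayPt, F (cls i) = F 0 + 2 * F 1 + 16 * F 2 + 5 * F 3 := by
    intro F
    rw [← Finset.sum_fiberwise (Finset.univ : Finset GolayPt) cls (fun i => F (cls i)),
      Finset.sum_congr rfl (g := fun k => ((![1, 2, 16, 5] : Fin 4 → ℕ) k : ℤ) * F k) fun k _ => by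
        rw [Finset.sum_congr rfl (g := fun _ => F k) fun i hi => by rw [(Finset.mem_filter.1 hi).2],
          Finset.sum_const, hcard, nsmul_eq_mul]]
    simp [Fin.sum_univ_four]
  have hn : a ^ 2 + 2 * b ^ 2 + 16 * c ^ 2 + 5 * e ^ 2 = 48 := by
    rw [← x.2.1, sqNorm, Finset.sum_congr rfl (g := fun i => (![a, b, c, e] (cls i)) ^ 2) fun i _ => by rw [hval],
      hsum fun k => (![a, b, c, e] k) ^ 2]
    simp
  have hd : -3 * a + 2 * b + 16 * c + 5 * e = 8 := by
    rw [← x.2.2, dotInt,
      Finset.sum_congr rfl (g := fun i => ![a, b, c, e] (cls i) * ![(-3 : ℤ), 1, 1, 1] (cls i)) fun i _ => by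
        rw [hval, show (omegaZero : Vec) i = pv kFive i - pv kPair i from rfl, hw],
      hsum fun k => ![a, b, c, e] k * ![(-3 : ℤ), 1, 1, 1] k]
    simp; ring
  have hpar : (a - c) % 2 = 0 := by
    obtain ⟨m, d, h1, -, -⟩ := mem_iff.1 x.1.2
    have e1 : a = m + 2 * d (pt 0) := h1 _
    have e2 : c = m + 2 * d (pt 2) := h1 _
    omega
  have hbd : a ∈ Finset.Icc (-7 : ℤ) 7 ∧ b ∈ Finset.Icc (-5 : ℤ) 5 ∧ c ∈ Finset.Icc (-2 : ℤ) 2 ∧
      e ∈ Finset.Icc (-3 : ℤ) 3 := by
    simp only [Finset.mem_Icc]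
    have h1 := sq_nonneg a
    have h2 := sq_nonneg b
    have h3 := sq_nonneg c
    have h4 := sq_nonneg e
    refine ⟨⟨?_, ?_⟩, ⟨?_, ?_⟩, ⟨?_, ?_⟩, ⟨?_, ?_⟩⟩ <;> nlinarith
  rcases solve_sec a hbd.1 b hbd.2.1 c hbd.2.2.1 e hbd.2.2.2 hn hd hpar with
    ⟨ea, eb, ec, ee⟩ | ⟨ea, eb, ec, ee⟩
  · left
    refine Subtype.ext (Subtype.ext (funext fun i => ?_))
    show (x.1 : Vec) i = pv kFive i - pv 62062060636173731114942761092 i
    rw [hval, hb, ea, eb, ec, ee]
  · right
    funext i
    rw [hval, hy, ea, eb, ec, ee]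

theorem oct_ok : inCode octOne = true ∧ bitAt octOne 1 = 1 ∧ bitAt octOne 23 = 0 ∧
    inCode (Nat.xor (Nat.xor octOne (2 ^ 1)) (2 ^ 23)) = false := by decide +kernel

theorem swapped_mask : setOfMask (Nat.xor (Nat.xor octOne (2 ^ 1)) (2 ^ 23)) =
      (Finset.univ : Finset GolayPt).filter (fun i =>
        bitAt octOne (if ix i = 1 then 23 else if ix i = 23 then 1 else ix i) = 1) ∧
    setOfMask octOne = (Finset.univ : Finset GolayPt).filter (fun i => bitAt octOne (ix i) = 1) ∧
    Nat.xor (Nat.xor octOne (2 ^ 1)) (2 ^ 23) < 2 ^ 24 ∧ octOne < 2 ^ 24 := by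
  decide +kernel

/-- An element fixing point 0 and commuting with those elements is trivial. -/
theorem central_trivial (q : ↥M24) (hq0 : q.1 (some 0) = some 0)
    (hcomm : ∀ p ∈ secGens, ∀ (π : ↥M24) (hπ : π.1 (some 0) = some 0), Rep (π : Equiv.Perm GolayPt) p →
      (∀ y : ↥leechLattice, (y : Vec) = pv secondKey → (permG π hπ).1 • y = y) → q * π = π * q) : q = 1 := by
  set σ : Equiv.Perm GolayPt := q.1 with hσ
  have hfix : ∀ (s : ℕ) (L : List ℕ), s < 24 → s ≠ 0 → (∀ p ∈ L, p ∈ secGens) → (∀ p ∈ L, pget p s = s) →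
      (∀ i < 24, (∀ p ∈ L, pget p i = i) → i = 0 ∨ i = s) → σ (pt s) = pt s := by
    intro s L hs hs0 hL hfixs hcommon
    have hall : ∀ p ∈ L, pget p (ix (σ (pt s))) = ix (σ (pt s)) := by
      intro p hp
      obtain ⟨π, hu, hπ, hux⟩ := sec_elt (hL p hp)
      have e0 : π.1 (pt s) = pt s := ix_injective (by rw [← hu (pt s), ix_pt hs, hfixs p hp])
      have e1 := congrArg (fun r : ↥M24 => r.1 (pt s)) (hcomm p (hL p hp) π hπ hu hux)
      change σ (π.1 (pt s)) = π.1 (σ (pt s)) at e1
      rw [e0] at e1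
      rw [hu, ← e1]
    rcases hcommon _ (ix_lt _) hall with e | e
    · exfalso
      have e1 : σ (pt s) = σ (some 0) := by rw [hσ, hq0]; exact ix_injective (by rw [e]; rfl)
      exact hs0 (by have := congrArg ix (σ.injective e1); rwa [ix_pt hs] at this)
    · exact ix_injective (by rw [e, ix_pt hs])
  obtain ⟨c2, c13, d2, d13⟩ := common_ok
  have h2 := hfix 2 fixTwo (by norm_num) (by norm_num)
    (fun p hp => List.mem_append_left _ (List.mem_append_right _ hp)) d2 c2
  have h13 := hfix 13 fixThirteen (by norm_num) (by norm_num) (fun p hp => List.mem_append_right _ hp) d13 c13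
  have hrest : ∀ i : GolayPt, ix i ≠ 1 → ix i ≠ 23 → σ i = i := by
    intro i n1 n23
    have hi : pt (ix i) = i := pt_ix i
    rcases carry_ok (ix i) (ix_lt i) with e | e | e | e | ⟨p, hp, hps⟩
    · rw [show i = some 0 from ix_injective (by rw [e]; rfl)]; exact hq0
    · exact absurd e n1
    · rw [← hi, e]; exact h2
    · rw [← hi, e]; exact h13
    have hn : ix i ∉ [1, 23] := by simp [n1, n23]
    rw [if_neg hn] at hps
    obtain ⟨s, hs, hsσ, hps'⟩ : ∃ s < 24, σ (pt s) = pt s ∧ pget p s = ix i := by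
      by_cases hh : ix i ∈ [13, 15, 17, 18, 19]
      · exact ⟨13, by norm_num, h13, by rwa [if_pos hh] at hps⟩
      · exact ⟨2, by norm_num, h2, by rwa [if_neg hh] at hps⟩
    have hp' : p ∈ secGens := List.mem_append_left _ (List.mem_append_left _ hp)
    obtain ⟨π, hu, hπ, hux⟩ := sec_elt hp'
    have e2 : π.1 (pt s) = i := ix_injective (by rw [← hu (pt s), ix_pt hs, hps'])
    have e1 := congrArg (fun r : ↥M24 => r.1 (pt s)) (hcomm p hp' π hπ hu hux)
    change σ (π.1 (pt s)) = π.1 (σ (pt s)) at e1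
    rwa [hsσ, e2] at e1
  have hpair : ∀ i : GolayPt, ix i = 1 ∨ ix i = 23 → ix (σ i) = 1 ∨ ix (σ i) = 23 := by
    intro i hi
    by_contra hc
    push Not at hc
    have := hrest (σ i) hc.1 hc.2
    rw [σ.injective this] at hc
    omega
  by_cases h1 : σ (pt 1) = pt 1
  · refine Subtype.ext (Equiv.ext fun i => ?_)
    show σ i = i
    by_cases n1 : ix i = 1
    · rw [show i = pt 1 from ix_injective (by rw [n1, ix_pt (by norm_num)])]; exact h1
    by_cases n23 : ix i = 23
    · rcases hpair i (Or.inr n23) with e | e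
      · have e' : σ i = σ (pt 1) := by rw [h1]; exact ix_injective (by rw [e, ix_pt (by norm_num)])
        exact absurd (by rw [σ.injective e', ix_pt (by norm_num)]) n1
      · exact ix_injective (e.trans n23.symm)
    exact hrest i n1 n23
  · exfalso
    have e1 : ix (σ (pt 1)) = 23 := (hpair (pt 1) (Or.inl (ix_pt (by norm_num)))).resolve_left fun e =>
      h1 (ix_injective (e.trans (ix_pt (by norm_num)).symm))
    have e23 : ix (σ (pt 23)) = 1 := (hpair (pt 23) (Or.inr (ix_pt (by norm_num)))).resolve_right fun e => by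
      have := congrArg ix (σ.injective (ix_injective (e.trans e1.symm)))
      rw [ix_pt (by norm_num), ix_pt (by norm_num)] at this
      omega
    have hcode : wordOf octOne ∈ golayCode :=
      mem_golayCode.2 (by rw [support₂_wordOf, maskOf_setOfMask swapped_mask.2.2.2]; exact oct_ok.1)
    have h := mem_golayCode.1 (comp_mem_code (σ := σ) q.2 hcode)
    have hsupp : support₂ (fun i => wordOf octOne (σ i)) =
        setOfMask (Nat.xor (Nat.xor octOne (2 ^ 1)) (2 ^ 23)) := by
      rw [swapped_mask.1]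
      have hw : ∀ j : GolayPt, wordOf octOne j ≠ 0 ↔ bitAt octOne (ix j) = 1 := fun j => by
        have : j ∈ support₂ (wordOf octOne) ↔ j ∈ setOfMask octOne := by rw [support₂_wordOf]
        rw [swapped_mask.2.1] at this
        simpa [support₂] using this
      ext i
      simp only [support₂, Finset.mem_filter, Finset.mem_univ, true_and, hw]
      by_cases n1 : ix i = 1
      · rw [if_pos n1, show i = pt 1 from ix_injective (by rw [n1, ix_pt (by norm_num)]), e1]
      by_cases n23 : ix i = 23
      · rw [if_neg n1, if_pos n23, show i = pt 23 from ix_injective (by rw [n23, ix_pt (by norm_num)]), e23]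
      rw [if_neg n1, if_neg n23, hrest i n1 n23]
    rw [hsupp, maskOf_setOfMask swapped_mask.2.2.1, oct_ok.2.2.2] at h
    exact Bool.false_ne_true h

/-! ### automorphisms -/

/-- The elements moving the base point. -/
def tGens : List (List (ℕ × ℕ)) := mclTwentyGens ++ permGens.map fun p => [(1, p)]

/-- A path reaches the image under the generator. -/
noncomputable def pathOK2 (i : ℕ) : Bool :=
  match evalSeq tGens (paths.getD i []) kPair, evalWord toPairWord kPair with
  | some q, some x =>
    (match evalWord toPairWord q, evalWord (coTwoMidGens.getD i []) x with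
     | some r, some r' => Nat.beq r r'
     | _, _ => false)
  | _, _ => false

theorem words_ok : toPairWord.all stepValid = true ∧
    coTwoMidGens.length = 6 ∧ tGens.length = 5 ∧ mclTwentyGens.length = 3 ∧
    (permGens.all fun p => isAut p && Nat.beq (pget p 0) 0) = true := by
  decide +kernel

theorem paths_ok : ∀ i < 6, pathOK2 i = true := by decide +kernel

/-- The packed minimal vector and its image. -/
def omegaKey : ℕ := 47536897508558602556126370197

theorem omega_key : pv kFive - pv kPair = pv omegaKey ∧ evalWord toPairWord omegaKey = some kPair ∧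
    pv kFive - pv rep462 = pv secondKey ∧
    pv secondKey (pt 1) ≠ pv kFive (pt 1) - pv 62062060636173731114942761092 (pt 1) := by
  decide +kernel

theorem eq_one_of_fix (θ : MulAut ↥G2) (h : ∀ u, θ (iota u) = iota u) : θ = 1 := by
  classical
  haveI := MclOut.trans_T
  haveI := MclOut.finite_G
  have hstab : ∀ a ∈ stabilizer ↥G2 baseY, θ a = a := fun a ha => by
    rw [← iota_range] at ha
    obtain ⟨u, rfl⟩ := ha
    exact h u
  have hperm : ∀ π hπ, θ (permG π hπ) = permG π hπ := fun π hπ => by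
    obtain ⟨u, hu⟩ := permG_mem π hπ
    rw [← hu]; exact h u
  -- one element moving the base
  obtain ⟨h462, -, -⟩ := reps_ok
  set r : T2025 := repPt rep462 ⟨h462.1, h462.2.1, h462.2.2.1, h462.2.2.2.1⟩ with hr
  obtain ⟨w, hw⟩ := exists_smul_eq ↥MclOut.G base r
  set g : ↥G2 := ⟨w.1, mem_of_G w.2⟩ with hg
  have hy : (((g • baseY : Y48).1 : ↥leechLattice) : Vec) = pv secondKey := by
    rw [y_val]
    show ((w.1 • (fiveElt - twentyPt) : ↥leechLattice) : Vec) = _
    rw [smul_sub', mem_fixGroup.1 w.2 fiveElt (by simp), show w.1 • twentyPt = r.1 from congrArg Subtype.val hw,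
      ← omega_key.2.2.1]
    rfl
  have hne : g • baseY ≠ baseY := fun e => omega_key.2.2.2 (by
    have e' := congrArg (fun t : Y48 => (t.1 : Vec) (pt 1)) e
    rw [hy] at e'
    exact e')
  have hconj : ∀ a : ↥G2, θ a = a → a • g • baseY = g • baseY →
      (θ g * g⁻¹) * a = a * (θ g * g⁻¹) ∧ a • θ g • baseY = θ g • baseY := by
    intro a ha hu
    have hs : g⁻¹ * a * g ∈ stabilizer ↥G2 baseY := by
      show (g⁻¹ * a * g) • baseY = baseY
      rw [mul_smul, mul_smul, hu, inv_smul_smul]
    have e := hstab _ hs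
    rw [map_mul, map_mul, map_inv, ha] at e
    constructor
    · calc θ g * g⁻¹ * a = θ g * (g⁻¹ * a * g) * g⁻¹ := by group
        _ = θ g * ((θ g)⁻¹ * a * θ g) * g⁻¹ := by rw [e]
        _ = _ := by group
    · rw [← mul_smul, show a * θ g = θ g * (g⁻¹ * a * g) by rw [← e]; group, mul_smul]
      exact congrArg (θ g • ·) hs
  have hfar : ∀ (π : ↥M24) (hπ : π.1 (some 0) = some 0),
      (∀ y : ↥leechLattice, (y : Vec) = pv secondKey → (permG π hπ).1 • y = y) →
      permG π hπ • g • baseY = g • baseY := fun π hπ hu => Subtype.ext (hu _ hy)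
  have hθy : θ g • baseY = g • baseY := by
    rcases fixed_cases (θ g • baseY) (fun p _ π hπ _ hux => (hconj _ (hperm π hπ) (hfar π hπ hux)).2) with e | e
    · exfalso
      have hs : θ g ∈ stabilizer ↥G2 baseY := e
      have e2 := θ.injective (hstab _ hs)
      rw [e2] at hs
      exact hne hs
    · exact Subtype.ext (Subtype.ext (e.trans hy.symm))
  set c := θ g * g⁻¹ with hc
  have hcy : c • g • baseY = g • baseY := by rw [hc, mul_smul, inv_smul_smul, hθy]
  have hcb : c • baseY = baseY := by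
    rcases fixed_cases (c • baseY) (fun p _ π hπ _ hux => by
      rw [← mul_smul, ← (hconj _ (hperm π hπ) (hfar π hπ hux)).1, mul_smul,
        show permG π hπ • baseY = baseY from Subtype.ext (perm_fix_both hπ).2]) with e | e
    · exact e
    · have e' : c • baseY = g • baseY := Subtype.ext (Subtype.ext (e.trans hy.symm))
      exact absurd (smul_left_cancel c (hcy.trans e'.symm)) hne
  have hgfix : θ g = g := by
    have hcs : c ∈ iota.range := by rw [iota_range]; exact hcb
    obtain ⟨u, hu⟩ := hcs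
    have hq : swapPt⁻¹ * u.1 * swapPt = 1 := central_trivial _ (conj_fix u) fun p _ π hπ _ hux =>
      permHom_injective (by
        have e := congrArg Subtype.val (hconj _ (hperm π hπ) (hfar π hπ hux)).1
        rw [← hu] at e
        simpa [iota_val, permG] using e)
    have hc1 : c = 1 := by
      rw [← hu]; exact Subtype.ext (by rw [iota_val, hq, map_one]; rfl)
    exact mul_inv_eq_one.1 hc1
  -- all of McL is fixed
  let T0 : Subgroup ↥MclOut.G :=
    { carrier := {a | θ ⟨a.1, mem_of_G a.2⟩ = ⟨a.1, mem_of_G a.2⟩}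
      one_mem' := map_one θ
      mul_mem' := fun {a b} (ha : θ _ = _) (hb : θ _ = _) => by
        show θ (⟨a.1, mem_of_G a.2⟩ * ⟨b.1, mem_of_G b.2⟩) = _
        rw [map_mul, ha, hb]
        rfl
      inv_mem' := fun {a} (ha : θ _ = _) => by
        show θ (⟨a.1, mem_of_G a.2⟩⁻¹) = _
        rw [map_inv, ha]
        rfl }
  have hT0s : stabilizer ↥MclOut.G base ≤ T0 := by
    rw [← MclOut.iota_range]
    rintro _ ⟨u, rfl⟩
    exact hperm u.1 u.2.2
  have hwT0 : w ∈ T0 := hgfix
  have hTtop : T0 = ⊤ := by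
    haveI : Fintype T2025 := @Fintype.ofFinite _ (Nat.finite_of_card_ne_zero (by rw [card_T2025]; norm_num))
    set O := (orbit ↥T0 base).toFinset with hO
    let dv : T2025 → ℤ := fun x => dotInt (twentyPt : Vec) (x.1 : Vec)
    have hsub : ∀ k : ℤ, ∀ n, (DS [(fiveElt, 16), (pairElt, 0), (twentyPt, k)]).ncard = n →
        Trans [fiveElt, pairElt, twentyPt] (DS [(fiveElt, 16), (pairElt, 0), (twentyPt, k)]) →
        (O.filter fun x => dv x = k).card = 0 ∨ (O.filter fun x => dv x = k).card = n := by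
      intro k n hn ht
      have hmem : ∀ z : T2025, dv z = k → z.1 ∈ DS [(fiveElt, 16), (pairElt, 0), (twentyPt, k)] := fun z hz =>
        ⟨z.2.1, by
          simp only [List.forall_mem_cons]
          exact ⟨z.2.2 _ List.mem_cons_self, z.2.2 (pairElt, 0) (by simp), hz, by simp⟩⟩
      by_cases hne' : (O.filter fun x => dv x = k) = ∅
      · left; rw [hne', Finset.card_empty]
      right
      obtain ⟨y, hy'⟩ := Finset.nonempty_iff_ne_empty.2 hne'
      rw [Finset.mem_filter, hO, Set.mem_toFinset] at hy'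
      rw [← hn, ← Set.ncard_coe_finset, ← Set.ncard_image_of_injective (f := fun x : T2025 => x.1) _
        (fun a b h => Subtype.ext h)]
      congr 1
      ext v
      constructor
      · rintro ⟨z, hz, rfl⟩
        exact hmem z (Finset.mem_filter.1 hz).2
      · intro hv
        obtain ⟨a, ha, haf⟩ := ht y.1 (hmem y hy'.2) v hv
        have haG : a ∈ MclOut.G := mem_fixGroup.2 fun u hu => haf u (by simp at hu ⊢; tauto)
        have has : (⟨a, haG⟩ : ↥MclOut.G) ∈ stabilizer ↥MclOut.G base := Subtype.ext (haf twentyPt (by simp))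
        refine ⟨(⟨a, haG⟩ : ↥MclOut.G) • y, ?_, ha⟩
        rw [Finset.mem_coe, Finset.mem_filter, hO, Set.mem_toFinset]
        refine ⟨?_, ?_⟩
        · obtain ⟨t, rfl⟩ := hy'.1
          exact ⟨⟨_, mul_mem (hT0s has) t.2⟩, mul_smul _ t.1 base⟩
        · show dotInt (twentyPt : Vec) ((a • y.1 : ↥leechLattice) : Vec) = k
          conv_lhs => rw [← haf twentyPt (by simp)]
          rw [dot_smul']
          exact hy'.2
    have hroot : ∀ x : T2025, dv x = 32 ↔ x = base := by
      intro x
      constructor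
      · intro hx
        refine Subtype.ext (sub_eq_zero.1 ((norm_gap (x.1 - twentyPt)).resolve_right ?_))
        rw [AddSubgroup.coe_sub, sq_sub_dot, x.2.1, show sqNorm (twentyPt : Vec) = 32 from twentyPt_mem.1, dot_symm,
          show dotInt (twentyPt : Vec) (x.1 : Vec) = 32 from hx]
        norm_num
      · rintro rfl
        show dotInt (twentyPt : Vec) (twentyPt : Vec) = 32
        rw [dot_self, twentyPt_mem.1]
    have hvals : ∀ x : T2025, dv x ∈ ({32, 16, 8, 0} : Finset ℤ) := by
      intro x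
      rcases ds_values twenty_set.2.2 (r := twentyPt) (root := 62062060636173731114942761092) rfl [0, 8, 16]
        (by decide +kernel) x.2 with e | e
      · rw [(hroot x).2 (Subtype.ext e)]; simp
      · simp only [List.mem_cons, List.not_mem_nil, or_false] at e
        rcases e with e | e | e <;> simp [dv, e]
    have hcard : O.card = (O.filter fun x => dv x = 32).card + (O.filter fun x => dv x = 16).card +
        (O.filter fun x => dv x = 8).card + (O.filter fun x => dv x = 0).card := by
      rw [Finset.card_eq_sum_card_fiberwise (f := dv) (t := ({32, 16, 8, 0} : Finset ℤ)) fun x _ => hvals x]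
      simp [add_assoc]
    have h32 : (O.filter fun x => dv x = 32).card = 1 := by
      rw [Finset.card_eq_one]
      refine ⟨base, Finset.ext fun x => ?_⟩
      simp only [Finset.mem_filter, hroot, Finset.mem_singleton]
      exact ⟨fun h => h.2, fun h => ⟨h ▸ Set.mem_toFinset.2 (mem_orbit_self _), h⟩⟩
    have h16 : (O.filter fun x => dv x = 16).card = 462 := by
      refine (hsub 16 462 twenty_sub16.1 twenty_sub16.2.1).resolve_left ?_
      refine Finset.card_ne_zero.2 ⟨r, Finset.mem_filter.2 ⟨?_, h462.2.2.2.2⟩⟩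
      rw [hO, Set.mem_toFinset]
      exact ⟨⟨w, hwT0⟩, hw⟩
    have hdvd : O.card ∣ 2025 := by
      have h1 := Set.ncard_eq_toFinset_card' (orbit ↥T0 base)
      rw [← index_stabilizer] at h1
      have hmul := (stabilizer ↥T0 base).card_mul_index
      have hs : Nat.card ↥(stabilizer ↥T0 base) = 443520 := by
        rw [← MclOut.card_stab_base]
        exact Nat.card_congr
          { toFun := fun a => ⟨a.1.1, a.2⟩
            invFun := fun a => ⟨⟨a.1, hT0s a.2⟩, a.2⟩
            left_inv := fun _ => rfl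
            right_inv := fun _ => rfl }
      have hd := Subgroup.card_subgroup_dvd_card T0
      rw [← hmul, hs, card_fix_mcl] at hd
      rw [hO, ← h1]
      exact Nat.dvd_of_mul_dvd_mul_left (by norm_num : 0 < 443520) (dvd_trans hd (by norm_num))
    have hfull : O.card = 2025 := by
      rw [hcard, h32, h16] at hdvd ⊢
      rcases hsub 8 1232 twenty_sub8.1 twenty_sub8.2.1 with a | a <;>
        rcases hsub 0 330 twenty_sub0.1 twenty_sub0.2.1 with b | b
      all_goals rw [a, b] at hdvd ⊢
      all_goals norm_num at hdvd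
    refine eq_top_iff.2 fun a _ => ?_
    have hall : O = Finset.univ := Finset.eq_univ_of_card _ (by
      rw [hfull, Fintype.card_eq_nat_card, card_T2025])
    obtain ⟨t, ht⟩ : a • base ∈ orbit ↥T0 base := Set.mem_toFinset.1 (hO ▸ hall ▸ Finset.mem_univ _)
    have ht' : t.1 • base = a • base := ht
    have hs : t.1⁻¹ * a ∈ stabilizer ↥MclOut.G base := by
      show (t.1⁻¹ * a) • base = base
      rw [mul_smul, inv_smul_eq_iff, ht']
    have := mul_mem t.2 (hT0s hs)
    rwa [mul_inv_cancel_left] at this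
  have hG : ∀ a : ↥Co0, a ∈ MclOut.G → ∃ h' : a ∈ G2, θ ⟨a, h'⟩ = ⟨a, h'⟩ := fun a ha =>
    ⟨mem_of_G ha, (hTtop ▸ Subgroup.mem_top (⟨a, ha⟩ : ↥MclOut.G) : (⟨a, ha⟩ : ↥MclOut.G) ∈ T0)⟩
  -- the fixed subgroup, inside the lattice group
  let T : Subgroup ↥Co0 := (θ.toMonoidHom.eqLocus (MonoidHom.id ↥G2)).map G2.subtype
  have memT : ∀ a : ↥Co0, a ∈ T ↔ ∃ h' : a ∈ G2, θ ⟨a, h'⟩ = ⟨a, h'⟩ := fun a =>
    ⟨fun ⟨b, hb, e⟩ => by subst e; exact ⟨b.2, hb⟩, fun ⟨h', e⟩ => ⟨⟨a, h'⟩, e, rfl⟩⟩
  have hfix : ∀ a ∈ T, a • omegaZero = omegaZero := fun a ha => mem_G2.1 ((memT a).1 ha).1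
  have hstep : ∀ i, ∃ b ∈ T, ∀ s t, evalWord (tGens.getD i []) s = some t → ∀ v : ↥leechLattice,
      (v : Vec) = pv s → ((b • v : ↥leechLattice) : Vec) = pv t := by
    intro i
    by_cases hi : i < tGens.length
    · rw [List.getD_eq_getElem _ _ hi]
      have hm := List.getElem_mem (l := tGens) hi
      rcases List.mem_append.1 hm with hm | hm
      · have hok := mclTwenty_ok
        simp only [orbitOK, Bool.and_eq_true, List.all_eq_true, decide_eq_true_eq, Nat.beq_eq] at hok
        obtain ⟨hgen, -, -, -⟩ := hok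
        obtain ⟨b, hb⟩ := packElt _ (List.all_eq_true.2 (hgen _ hm).1)
        refine ⟨b, (memT b).2 (hG b (mem_fixGroup.2 fun v hv => ?_)), hb⟩
        simp only [List.mem_cons, List.not_mem_nil, or_false] at hv
        rcases hv with rfl | rfl
        · exact Subtype.ext (hb kFive kFive ((hgen _ hm).2 kFive (by simp [kFive])) fiveElt rfl)
        · exact Subtype.ext (hb kPair kPair ((hgen _ hm).2 kPair (by simp [kPair])) pairElt rfl)
      · obtain ⟨p, hp, e⟩ := List.mem_map.1 hm
        have hp' := List.all_eq_true.1 words_ok.2.2.2.2 p hp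
        simp only [Bool.and_eq_true, Nat.beq_eq] at hp'
        obtain ⟨π, hπ⟩ := exists_M24_elt hp'.1
        have h0 : π.1 (some 0) = some 0 := ix_injective (by rw [← hπ (some 0)]; exact hp'.2)
        refine ⟨permHom π, (memT _).2 ⟨(permG π h0).2, hperm π h0⟩, fun s t hst v hv => ?_⟩
        rw [← e, evalWord] at hst
        cases hpk : packOK 1 p s (CfsgLib.Sporadic.Conway.packImage 1 p s) <;> rw [hpk] at hst
        · simp at hst
        · rw [cond_true, evalWord, Option.some.injEq] at hst
          rw [permHom_apply, permElt_apply, hv, ← hst]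
          exact pack_perm hπ hpk
    · refine ⟨1, one_mem T, fun s t hst v hv => ?_⟩
      rw [List.getD_eq_default _ _ (Nat.le_of_not_lt hi), evalWord, Option.some.injEq] at hst
      rw [one_smul, hv, hst]
  have hseq : ∀ (L : List ℕ) s t, evalSeq tGens L s = some t → ∃ b ∈ T, ∀ v : ↥leechLattice,
      (v : Vec) = pv s → ((b • v : ↥leechLattice) : Vec) = pv t := by
    intro L
    induction L with
    | nil =>
      intro s t e
      rw [evalSeq, Option.some.injEq] at e
      exact ⟨1, one_mem T, fun v hv => by rw [one_smul, hv, e]⟩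
    | cons i rest ih =>
      intro s t e
      rw [evalSeq] at e
      cases hev : evalWord (tGens.getD i []) s with
      | none => rw [hev] at e; simp at e
      | some b =>
        rw [hev] at e
        obtain ⟨x, hx, hxv⟩ := hstep i
        obtain ⟨y, hy', hyv⟩ := ih b t e
        exact ⟨y * x, mul_mem hy' hx, fun v hv => by rw [mul_smul]; exact hyv _ (hxv s b hev v hv)⟩
  obtain ⟨A, hA⟩ := packElt toPairWord words_ok.1
  have hAw : A • omegaZero = pairElt :=
    Subtype.ext (hA omegaKey kPair omega_key.2.1 omegaZero omega_key.1)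
  have hok := coTwoMid_ok
  simp only [orbitOK, Bool.and_eq_true, List.all_eq_true, decide_eq_true_eq, Nat.beq_eq] at hok
  obtain ⟨hgen, -, -, hdesc⟩ := hok
  have hgenT : ∀ i, i < 6 → ∃ b : ↥Co0, A⁻¹ * b * A ∈ T ∧
      ∀ s t, evalWord (coTwoMidGens.getD i []) s = some t → ∀ v : ↥leechLattice,
        (v : Vec) = pv s → ((b • v : ↥leechLattice) : Vec) = pv t := by
    intro i hi
    have hmem : coTwoMidGens.getD i [] ∈ coTwoMidGens := by
      rw [List.getD_eq_getElem _ _ (by rw [words_ok.2.1]; exact hi)]; exact List.getElem_mem _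
    obtain ⟨b, hb⟩ := packElt _ (List.all_eq_true.2 (hgen _ hmem).1)
    refine ⟨b, ?_, hb⟩
    have hbp : b • pairElt = pairElt := Subtype.ext (hb kPair kPair ((hgen _ hmem).2 kPair (by simp [kPair])) pairElt rfl)
    have hp := paths_ok i hi
    rw [pathOK2] at hp
    cases h1 : evalSeq tGens (paths.getD i []) kPair with
    | none => rw [h1] at hp; simp at hp
    | some q =>
    cases h2 : evalWord toPairWord kPair with
    | none => rw [h1, h2] at hp; simp at hp
    | some x =>
    rw [h1, h2] at hp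
    simp only at hp
    cases h3 : evalWord toPairWord q with
    | none => rw [h3] at hp; simp at hp
    | some rq =>
    cases h4 : evalWord (coTwoMidGens.getD i []) x with
    | none => rw [h3, h4] at hp; simp at hp
    | some rq' =>
    rw [h3, h4] at hp
    simp only [Nat.beq_eq] at hp
    obtain ⟨P, hP, hPv⟩ := hseq _ _ _ h1
    have e1 : A • P • pairElt = b • A • pairElt := Subtype.ext (by
      rw [hA q rq h3 _ (hPv pairElt rfl), hp, hb x rq' h4 _ (hA kPair x h2 pairElt rfl)])
    have hin : P⁻¹ * (A⁻¹ * b * A) ∈ MclOut.G := by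
      have hw0 : (A⁻¹ * b * A) • omegaZero = omegaZero := by
        rw [mul_smul, mul_smul, hAw, hbp, inv_smul_eq_iff, hAw]
      have f1 : (P⁻¹ * (A⁻¹ * b * A)) • omegaZero = omegaZero := by
        rw [mul_smul, hw0, inv_smul_eq_iff, hfix P hP]
      have f2 : (P⁻¹ * (A⁻¹ * b * A)) • pairElt = pairElt := by
        rw [mul_smul, mul_smul, mul_smul, ← e1, inv_smul_smul, inv_smul_smul]
      refine mem_fixGroup.2 fun v hv => ?_
      simp only [List.mem_cons, List.not_mem_nil, or_false] at hv
      rcases hv with rfl | rfl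
      · rw [show fiveElt = omegaZero + pairElt by rw [omegaZero, sub_add_cancel], smul_add', f1, f2]
      · exact f2
    have := mul_mem hP ((memT _).2 (hG _ hin))
    rwa [mul_inv_cancel_left] at this
  choose W hWT hWv using hgenT
  have hentry := OTree.descends_spec hdesc
  have reach : ∀ M, ∀ e ∈ coTwoMidTree.entries, e.2.1 / 16 < M →
      ∃ b : ↥Co0, A⁻¹ * b * A ∈ T ∧ ∀ v : ↥leechLattice, (v : Vec) = pv 47536897508558602556126370197 →
        ((b • v : ↥leechLattice) : Vec) = pv e.1 := by
    intro M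
    induction M with
    | zero => intro e _ h; omega
    | succ M ih =>
      intro e he hlt
      have h1 := hentry e he
      rw [entryOK] at h1
      cases hb : Nat.beq e.1 47536897508558602556126370197 <;> rw [hb] at h1
      · rw [cond_false] at h1
        cases hf : coTwoMidTree.find e.2.2 with
        | none => rw [hf] at h1; simp at h1
        | some d' =>
          rw [hf] at h1
          simp only [Bool.and_eq_true, Nat.blt_eq] at h1
          obtain ⟨hdep, h1⟩ := h1
          change d' / 16 < e.2.1 / 16 at hdep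
          obtain ⟨v, hv⟩ := OTree.find_mem hf
          obtain ⟨a, ha, hav⟩ := ih _ hv (by simp only; omega)
          cases hev : evalWord (coTwoMidGens.getD (Nat.mod e.2.1 16) []) e.2.2 with
          | none => rw [hev] at h1; simp at h1
          | some b =>
            rw [hev] at h1
            simp only [Nat.beq_eq] at h1
            subst h1
            by_cases hidx : e.2.1 % 16 < 6
            · refine ⟨W _ hidx * a, ?_, fun z hz => ?_⟩
              · have := mul_mem (hWT _ hidx) ha
                convert this using 1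
                group
              · rw [mul_smul]
                exact hWv _ hidx _ _ hev _ (hav z hz)
            · rw [show Nat.mod e.2.1 16 = e.2.1 % 16 from rfl,
                List.getD_eq_default _ _ (by rw [words_ok.2.1]; omega),
                show evalWord [] e.2.2 = some e.2.2 from rfl, Option.some.injEq] at hev
              exact ⟨a, ha, fun z hz => (hav z hz).trans (by rw [hev])⟩
      · rw [Nat.beq_eq] at hb
        exact ⟨1, by rw [mul_one, inv_mul_cancel]; exact one_mem T, fun z hz => by rw [one_smul, hz, hb]⟩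
  obtain ⟨mid, hmid⟩ : ∃ mid : ↥leechLattice, (mid : Vec) = pv 47536897508558602556126370197 :=
    ⟨⟨_, pv_mem (by decide +kernel)⟩, rfl⟩
  have hmidmem : mid ∈ DS [(pairElt, (-8 : ℤ))] := ⟨by rw [hmid]; decide +kernel, by
    simp only [List.forall_mem_cons]
    exact ⟨by rw [hmid]; decide +kernel, by simp⟩⟩
  have hkeys : ∀ x ∈ DS [(pairElt, (-8 : ℤ))], ∃ e ∈ coTwoMidTree.entries, (x : Vec) = pv e.1 :=
    (ds_cert coTwoMid_ok [pairElt] rfl _ (by simp) mid hmid hmidmem (DS_finite List.mem_cons_self)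
      (by rw [DS_one, (census (mem_shell.2 ⟨pairElt.2, pairElt_norm⟩)).2.1])).2.2
  refine MulEquiv.ext fun gg => ?_
  set z := A • pairElt with hz
  have hzmem : z ∈ DS [(pairElt, (-8 : ℤ))] := ⟨(norm_smul' A pairElt).trans pairElt_norm, by
    simp only [List.forall_mem_cons]
    exact ⟨by rw [← hAw, hz, dot_smul']; exact (show dotInt (pv kFive - pv kPair) (pv kPair) = -8 by decide +kernel),
      by simp⟩⟩
  have hz' : (A * gg.1 * A⁻¹) • z ∈ DS [(pairElt, (-8 : ℤ))] := smul_mem_DS (fun p hp => by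
    simp only [List.mem_cons, List.not_mem_nil, or_false] at hp
    rw [hp, mul_smul, mul_smul, show A⁻¹ • pairElt = omegaZero from inv_smul_eq_iff.2 hAw.symm, mem_G2.1 gg.2,
      hAw]) hzmem
  obtain ⟨e1, he1, ev1⟩ := hkeys _ hzmem
  obtain ⟨e2, he2, ev2⟩ := hkeys _ hz'
  obtain ⟨b1, hb1, hb1v⟩ := reach _ e1 he1 (Nat.lt_succ_self _)
  obtain ⟨b2, hb2, hb2v⟩ := reach _ e2 he2 (Nat.lt_succ_self _)
  have q1 : b1 • mid = z := Subtype.ext ((hb1v mid hmid).trans ev1.symm)
  have q2 : b2 • mid = (A * gg.1 * A⁻¹) • z := Subtype.ext ((hb2v mid hmid).trans ev2.symm)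
  set m := (A⁻¹ * b1 * A) * (A⁻¹ * b2 * A)⁻¹ * gg.1 with hm
  have hmG : m ∈ MclOut.G := by
    have f1 : m • omegaZero = omegaZero := by
      rw [hm, mul_smul, mul_smul, mem_G2.1 gg.2, inv_smul_eq_iff.2 (hfix _ hb2).symm, hfix _ hb1]
    have f2 : m • pairElt = pairElt := by
      rw [show m = A⁻¹ * (b1 * b2⁻¹ * (A * gg.1 * A⁻¹)) * A by rw [hm]; group, mul_smul, mul_smul, ← hz, mul_smul,
        ← q2, mul_smul, inv_smul_smul, q1, hz, inv_smul_smul]
    refine mem_fixGroup.2 fun v hv => ?_
    simp only [List.mem_cons, List.not_mem_nil, or_false] at hv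
    rcases hv with rfl | rfl
    · rw [show fiveElt = omegaZero + pairElt by rw [omegaZero, sub_add_cancel], smul_add', f1, f2]
    · exact f2
  have hgg : gg.1 ∈ T := by
    have := mul_mem (mul_mem hb2 (inv_mem hb1)) ((memT _).2 (hG _ hmG))
    convert this using 1
    rw [hm]; group
  obtain ⟨h', e⟩ := (memT _).1 hgg
  exact e

/-- The two descriptions of M23. -/
noncomputable def ptEquiv : ↥M23pt ≃* ↥Spor.M23 where
  toFun u := ⟨u.1.1, u.1.2, u.2⟩
  invFun x := ⟨⟨x.1, x.2.1⟩, x.2.2⟩
  left_inv _ := rfl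
  right_inv _ := rfl
  map_mul' _ _ := rfl

theorem aut_inner (φ : MulAut ↥G2) : φ ∈ Cfsg.Inn ↥G2 := by
  haveI := trans_Y
  haveI := finite_G2
  obtain ⟨z, hzn, hzd, hzfix⟩ := exists_fixed_vector ((G2.subtype.comp φ.toMonoidHom).comp iota)
    (G2.subtype_injective.comp (φ.injective.comp iota_injective))
    (show sqNorm (omegaZero : Vec) = 32 from show sqNorm (pv kFive - pv kPair) = 32 by decide +kernel)
    (fun u => mem_G2.1 (φ (iota u)).2)
  obtain ⟨z₁, rfl⟩ : ∃ z₁ : Y48, z₁.1 = z := ⟨⟨z, hzn, hzd⟩, rfl⟩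
  obtain ⟨k, hk⟩ := exists_smul_eq ↥G2 z₁ baseY
  let θ : MulAut ↥G2 := MulAut.conj k * φ
  have hθ : ∀ u, θ (iota u) ∈ stabilizer ↥G2 baseY := fun u => by
    show (k * φ (iota u) * k⁻¹) • baseY = baseY
    rw [mul_smul, mul_smul, ← hk, inv_smul_smul]
    exact congrArg (k • ·) (Subtype.ext (hzfix u))
  have hmap : (stabilizer ↥G2 baseY).map θ.toMonoidHom = stabilizer ↥G2 baseY := by
    refine Subgroup.eq_of_le_of_card_ge ?_ (le_of_eq (Subgroup.card_map_of_injective θ.injective).symm)
    rintro _ ⟨a, ha, rfl⟩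
    rw [SetLike.mem_coe, ← iota_range] at ha
    obtain ⟨u, rfl⟩ := ha
    exact hθ u
  let e : ↥M23pt ≃* ↥(stabilizer ↥G2 baseY) :=
    (MonoidHom.ofInjective iota_injective).trans (MulEquiv.subgroupCongr iota_range)
  let α : MulAut ↥M23pt :=
    (e.trans ((θ.subgroupMap (stabilizer ↥G2 baseY)).trans (MulEquiv.subgroupCongr hmap))).trans e.symm
  have hα : ∀ u, θ (iota u) = iota (α u) := fun u => by
    have : (e (α u)).1 = θ (iota u) := by
      simp only [α, MulEquiv.trans_apply, MulEquiv.apply_symm_apply]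
      rfl
    exact this.symm
  obtain ⟨m, hm⟩ := MathieuAut.M23_aut_inner ((ptEquiv.symm.trans α).trans ptEquiv)
  let m₀ : ↥M23pt := ptEquiv.symm m
  have hαm : ∀ u, α u = m₀ * u * m₀⁻¹ := fun u => by
    have := congrArg (fun f : MulAut ↥Spor.M23 => ptEquiv.symm (f (ptEquiv u))) hm
    simp only [MulEquiv.trans_apply, MulEquiv.symm_apply_apply, MulAut.conj_apply, map_mul, map_inv] at this
    exact this.symm
  have h1 : MulAut.conj (iota m₀)⁻¹ * θ = 1 := eq_one_of_fix _ fun u => by
    show (iota m₀)⁻¹ * θ (iota u) * (iota m₀)⁻¹⁻¹ = iota u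
    rw [hα, hαm, inv_inv, map_mul, map_mul, map_inv]
    group
  refine ⟨k⁻¹ * iota m₀, ?_⟩
  rw [map_mul, map_inv]
  calc (MulAut.conj k)⁻¹ * MulAut.conj (iota m₀)
      = (MulAut.conj k)⁻¹ * MulAut.conj (iota m₀) * (MulAut.conj (iota m₀)⁻¹ * θ) := by rw [h1, mul_one]
    _ = φ := by rw [map_inv]; simp only [θ]; group

theorem map_fixGroup_coTwo : (fixGroup [pairElt]).map (Cfsg.Co0).subtype = Spor.Co2 := by
  have hU : Spor.leechU = pairElt := by
    refine Subtype.ext (funext fun i => ?_)
    show Spor.vecU i = pv kPair i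
    rw [pair_shape i]
    unfold Spor.vecU
    by_cases h0 : i = none <;> by_cases h1 : i = some 0 <;> simp [h0, h1]
  ext g
  constructor
  · rintro ⟨a, ha, rfl⟩
    refine ⟨a.2, ?_⟩
    show a • Spor.leechU = Spor.leechU
    rw [hU, mem_fixGroup.1 ha _ List.mem_cons_self]
  · rintro ⟨hg, hgU⟩
    refine ⟨⟨g, hg⟩, mem_fixGroup.2 fun v hv => ?_, rfl⟩
    simp only [List.mem_cons, List.not_mem_nil, or_false] at hv
    subst hv
    have h : (⟨g, hg⟩ : ↥Cfsg.Co0) • Spor.leechU = Spor.leechU := hgU
    rwa [hU] at h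

theorem card_out_Co2 : Nat.card (Cfsg.Out ↥Spor.Co2) = 1 := by
  obtain ⟨a, ha⟩ := to_pair (v := omegaZero) (show sqNorm (pv kFive - pv kPair) = 32 by decide +kernel)
  let e1 : ↥G2 ≃* ↥(fixGroup [pairElt]) :=
    (fixConj [omegaZero] a).trans (MulEquiv.subgroupCongr (by rw [List.map_cons, List.map_nil, ha]))
  let E : ↥Spor.Co2 ≃* ↥G2 :=
    ((MulEquiv.subgroupCongr map_fixGroup_coTwo.symm).trans
      (Subgroup.equivMapOfInjective _ _ (Cfsg.Co0).subtype_injective).symm).trans e1.symm
  refine MathieuAut.card_out_eq_one fun φ => ?_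
  obtain ⟨b, hb⟩ := aut_inner ((E.symm.trans φ).trans E)
  refine ⟨E.symm b, MulEquiv.ext fun x => ?_⟩
  have := congrArg (fun f : MulAut ↥G2 => E.symm (f (E x))) hb
  simpa [MulAut.conj_apply] using this

end CfsgLib.Sporadic.CoTwoOut
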