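import Cfsg.Agent.Lib.Sporadic.Bits

/-!
# Certificates for the automorphisms of Co2
-/

set_option autoImplicit false

namespace CfsgLib.Sporadic.CoTwoOut

/-- The image of the second base vector under an element moving the first representative. -/
def secondKey : ℕ := 57440256669770566620208011707

/-- Elements fixing point 0 and that vector, carrying representatives through their orbits. -/
def carriers : List ℕ :=
  [48602258273993711130721634798875360,
    969030844643031985482671837076955168,
    971539444871710237497293871669455904,
    48602258273993711130721634798875360,
    983028320673176889470265167171475488,
    60629803915278350652543533968559840,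
    56127235070511730376753970005361376,
    49667166472411405423189272955035360,
    56389638888552593757654008527869664,
    51463429827040020911103700609935072,
    70232182992256742238387907520535264,
    976242509062247459314054516096841760,
    958330528025708117916865828009414688,
    960095095211994048882261784994654240,
    69702498145502685236494329171792608,
    58013496690124316067498333441791712,
    971539444871710237497293871669455904,
    48602258273993711130721634798875360,
    983028320673176889470265167171475488,
    60629803915278350652543533968559840]

/-- Those fixing point 2 too. -/
def fixTwo : List ℕ := [53357371706701377387589624823778016]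

/-- Those fixing point 13 too. -/
def fixThirteen : List ℕ := [57446819800222802137719860554191584]

/-- An octad through point 1 avoiding infinity. -/
def octOne : ℕ := 2605066

/-- The word carrying the vector to the pair vector. -/
def toPairWord : List (ℕ × ℕ) :=
  [(1, 21159163873795149579542675899648055), (1, 126213879621837531433782851115832785), (2, 1707735), (0, 0), (1, 235652889680836660009526017891807856), (2, 6134150), (0, 0), (1, 935081485716938785976877535293636774)]

/-- Permutations fixing point 0. -/
def permGens : List ℕ := [735038619703025313412793372229734592, 362341536579952913342983788641663168]

/-- Paths to the images of the base point under the six generators. -/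
def paths : List (List ℕ) :=
  [[3, 2, 1, 1, 3, 2, 0, 4, 3, 2, 2, 4],
    [3, 2, 3, 0, 0, 1, 2, 1, 2, 4, 2],
    [4, 2, 4, 2, 1, 2, 2, 3, 0, 4],
    [3, 2, 1, 3, 3, 0, 2, 2, 3],
    [4, 0, 0, 2, 3, 4, 2, 4, 3],
    [3, 2, 2, 2, 4, 0, 2, 4]]

end CfsgLib.Sporadic.CoTwoOut
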