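import Cfsg.Agent.Lib.Sporadic.Bits

/-!
# `Cfsg.golayCode` as an explicit list of 4096 masks

`enc k` (for `k < 4096`) runs through the code, and its low twelve bits are those of `k`.
-/

set_option autoImplicit false

namespace CfsgLib.Sporadic

open Cfsg

/-- A packed list of twelve masks forming a basis of the code. -/
def basisPacked : ℕ :=
  442260735586854603400310301966068718139105568065225220732275176312862510561626593644545

noncomputable def basisMask (i : ℕ) : ℕ :=
  Nat.land (Nat.shiftRight basisPacked (Nat.mul 24 i)) 16777215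

/-- Exclusive or of the `f i`, over the bits `i < n` of `c`. -/
noncomputable def xorComb (f : ℕ → ℕ) (c n : ℕ) : ℕ :=
  Nat.rec 0 (fun i acc => Nat.xor acc (Nat.mul (bitAt c i) (f i))) n

/-- The code word whose low twelve bits are those of `k`. -/
noncomputable def enc (k : ℕ) : ℕ := xorComb basisMask k 12

theorem xorComb_succ (f : ℕ → ℕ) (c n : ℕ) :
    xorComb f c (n + 1) = xorComb f c n ^^^ (bitAt c n * f n) := rfl

theorem xorComb_xor (f : ℕ → ℕ) (a b n : ℕ) :
    xorComb f (a ^^^ b) n = xorComb f a n ^^^ xorComb f b n := by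
  induction n with
  | zero => simp [xorComb]
  | succ n ih =>
    have : bitAt (a ^^^ b) n * f n = (bitAt a n * f n) ^^^ (bitAt b n * f n) := by
      simp only [bitAt_eq, Nat.testBit_xor]
      cases a.testBit n <;> cases b.testBit n <;> simp
    rw [xorComb_succ, xorComb_succ, xorComb_succ, ih, this]
    ac_rfl

theorem enc_xor (a b : ℕ) : enc (a ^^^ b) = enc a ^^^ enc b := xorComb_xor _ a b 12

theorem enc_table :
    forallLt 4096 (fun k => Nat.beq (Nat.land (enc k) 4095) k && Nat.blt (enc k) 16777216) = true := by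
  decide +kernel

theorem enc_lt {k : ℕ} (hk : k < 4096) : enc k < 2 ^ 24 := by
  have := forallLt_elim enc_table hk
  rw [Bool.and_eq_true, Nat.blt_eq] at this
  exact this.2

theorem enc_land {k : ℕ} (hk : k < 4096) : enc k &&& 4095 = k := by
  have := forallLt_elim enc_table hk
  rw [Bool.and_eq_true] at this
  exact Nat.eq_of_beq_eq_true this.1

theorem enc_inj {a b : ℕ} (ha : a < 4096) (hb : b < 4096) (h : enc a = enc b) : a = b := by
  rw [← enc_land ha, h, enc_land hb]

/-- The syndrome of a mask. -/
noncomputable def syn (m : ℕ) : ℕ := Nat.shiftRight (Nat.xor m (enc (Nat.land m 4095))) 12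

/-- Membership of the code. -/
noncomputable def inCode (m : ℕ) : Bool := Nat.beq m (enc (Nat.land m 4095))

theorem inCode_iff {m : ℕ} : inCode m = true ↔ ∃ k < 4096, enc k = m := by
  constructor
  · intro h
    exact ⟨_, lt_of_le_of_lt Nat.and_le_right (by norm_num), (Nat.eq_of_beq_eq_true h).symm⟩
  · rintro ⟨k, hk, rfl⟩
    show Nat.beq _ (enc (enc k &&& 4095)) = true
    rw [enc_land hk]
    exact Nat.beq_refl _

theorem inCode_enc {k : ℕ} (hk : k < 4096) : inCode (enc k) = true := inCode_iff.2 ⟨k, hk, rfl⟩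

theorem inCode_lt {m : ℕ} (h : inCode m = true) : m < 2 ^ 24 := by
  obtain ⟨k, hk, rfl⟩ := inCode_iff.1 h; exact enc_lt hk

theorem inCode_xor {a b : ℕ} (ha : inCode a = true) (hb : inCode b = true) :
    inCode (a ^^^ b) = true := by
  obtain ⟨i, hi, rfl⟩ := inCode_iff.1 ha
  obtain ⟨j, hj, rfl⟩ := inCode_iff.1 hb
  exact inCode_iff.2 ⟨i ^^^ j, Nat.xor_lt_two_pow (n := 12) hi hj, enc_xor i j⟩

/-! ### the link with the frozen definition -/

/-- The word of a mask. -/
def wordOf (m : ℕ) : GolayPt → ZMod 2 := fun x => if m.testBit (ix x) then 1 else 0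

theorem support₂_wordOf (m : ℕ) : support₂ (wordOf m) = setOfMask m := by
  ext x; simp [support₂, wordOf]

theorem wordOf_xor (a b : ℕ) : wordOf (a ^^^ b) = wordOf a + wordOf b := by
  ext x
  simp only [wordOf, Pi.add_apply, Nat.testBit_xor]
  cases a.testBit (ix x) <;> cases b.testBit (ix x) <;> decide

theorem wordOf_zero : wordOf 0 = 0 := by ext x; simp [wordOf]

theorem eq_one_of_ne_zero {a : ZMod 2} (h : a ≠ 0) : a = 1 := by revert h a; decide

theorem wordOf_maskOf (w : GolayPt → ZMod 2) : wordOf (maskOf (support₂ w)) = w := by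
  ext x
  simp only [wordOf, testBit_maskOf, support₂, Finset.mem_filter, Finset.mem_univ, true_and,
    decide_eq_true_eq]
  split
  · exact (eq_one_of_ne_zero (by assumption)).symm
  · simp_all

theorem wordOf_inj {a b : ℕ} (ha : a < 2 ^ 24) (hb : b < 2 ^ 24) (h : wordOf a = wordOf b) :
    a = b := setOfMask_inj ha hb (by rw [← support₂_wordOf, h, support₂_wordOf])

/-- The masks of the generators of the code: the 23 translates, then the all-one word. -/
noncomputable def genMask (t : ℕ) : ℕ :=
  if t < 23 then maskOf (support₂ (qrWord (t : ZMod 23))) else 16777215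

theorem genMask_mem (t : ℕ) : wordOf (genMask t) ∈ golayCode := by
  unfold genMask
  split
  · rw [wordOf_maskOf]
    exact Submodule.subset_span (Or.inl ⟨_, rfl⟩)
  · have h : wordOf 16777215 = 1 := by decide +kernel
    rw [h]
    exact Submodule.subset_span (Or.inr rfl)

theorem xorComb_gen_mem (c n : ℕ) : wordOf (xorComb genMask c n) ∈ golayCode := by
  induction n with
  | zero => exact wordOf_zero ▸ Submodule.zero_mem _
  | succ n ih =>
    rw [xorComb_succ, wordOf_xor]
    refine Submodule.add_mem _ ih ?_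
    rw [bitAt_eq]
    split
    · simpa using genMask_mem n
    · simp [wordOf_zero]

theorem genMask_inCode : ∀ t < 24, inCode (genMask t) = true := by decide +kernel

theorem basisMask_comb : ∀ i < 12, basisMask i = xorComb genMask
    ([8390313, 280, 8389785, 1400, 8390330, 8390551, 8390093, 2000, 1347, 101, 8390243,
      8390181].getD i 0) 24 := by decide +kernel

theorem enc_mem_aux (k n : ℕ) (hn : n ≤ 12) : wordOf (xorComb basisMask k n) ∈ golayCode := by
  induction n with
  | zero => exact wordOf_zero ▸ Submodule.zero_mem _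
  | succ n ih =>
    rw [xorComb_succ, wordOf_xor]
    refine Submodule.add_mem _ (ih (by omega)) ?_
    rw [bitAt_eq]
    split
    · rw [one_mul, basisMask_comb n (by omega)]
      exact xorComb_gen_mem _ _
    · simp [wordOf_zero]

/-- The words of the code are the `wordOf (enc k)`. -/
theorem mem_golayCode_iff {w : GolayPt → ZMod 2} :
    w ∈ golayCode ↔ ∃ k < 4096, wordOf (enc k) = w := by
  constructor
  · intro hw
    induction hw using Submodule.span_induction with
    | mem x hx =>
      rcases hx with ⟨t, rfl⟩ | hx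
      · obtain ⟨k, hk, e⟩ := inCode_iff.1 (genMask_inCode t.val (by have := ZMod.val_lt t; omega))
        refine ⟨k, hk, ?_⟩
        rw [e, genMask, if_pos (ZMod.val_lt t), ZMod.natCast_zmod_val, wordOf_maskOf]
      · obtain ⟨k, hk, e⟩ := inCode_iff.1 (genMask_inCode 23 (by omega))
        refine ⟨k, hk, ?_⟩
        rw [Set.mem_singleton_iff.1 hx, e]
        decide +kernel
    | zero => exact ⟨0, by norm_num, wordOf_zero⟩
    | add x y _ _ hx hy =>
      obtain ⟨i, hi, rfl⟩ := hx
      obtain ⟨j, hj, rfl⟩ := hy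
      exact ⟨i ^^^ j, Nat.xor_lt_two_pow (n := 12) hi hj, by rw [enc_xor, wordOf_xor]⟩
    | smul a x _ hx =>
      by_cases ha : a = 0
      · exact ⟨0, by norm_num, by rw [ha, zero_smul]; exact wordOf_zero⟩
      · rw [eq_one_of_ne_zero ha, one_smul]; exact hx
  · rintro ⟨k, -, rfl⟩
    exact enc_mem_aux k 12 le_rfl

theorem mem_golayCode {w : GolayPt → ZMod 2} :
    w ∈ golayCode ↔ inCode (maskOf (support₂ w)) = true := by
  rw [mem_golayCode_iff, inCode_iff]
  constructor
  · rintro ⟨k, hk, rfl⟩
    exact ⟨k, hk, by rw [support₂_wordOf, maskOf_setOfMask (enc_lt hk)]⟩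
  · rintro ⟨k, hk, e⟩
    exact ⟨k, hk, by rw [e, wordOf_maskOf]⟩

theorem mem_supports_iff {s : Finset GolayPt} :
    s ∈ supports (golayCode : Set (GolayPt → ZMod 2)) ↔ inCode (maskOf s) = true := by
  constructor
  · rintro ⟨w, hw, rfl⟩
    exact mem_golayCode.1 hw
  · intro h
    refine ⟨wordOf (maskOf s), mem_golayCode.2 ?_, ?_⟩
    · rwa [support₂_wordOf, setOfMask_maskOf]
    · rw [support₂_wordOf, setOfMask_maskOf]

theorem mem_wordsOfWeight_iff {s : Finset GolayPt} {n : ℕ} :
    s ∈ wordsOfWeight (golayCode : Set (GolayPt → ZMod 2)) n ↔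
      inCode (maskOf s) = true ∧ popc (maskOf s) = n := by
  rw [popc_maskOf, ← mem_supports_iff]; rfl

theorem mem_octads_iff {s : Finset GolayPt} :
    s ∈ octads ↔ inCode (maskOf s) = true ∧ popc (maskOf s) = 8 := mem_wordsOfWeight_iff

theorem mem_dodecads_iff {s : Finset GolayPt} :
    s ∈ dodecads ↔ inCode (maskOf s) = true ∧ popc (maskOf s) = 12 := mem_wordsOfWeight_iff

theorem hammingNorm_eq_popc (w : GolayPt → ZMod 2) : hammingNorm w = popc (maskOf (support₂ w)) := by
  rw [popc_maskOf]; rfl

/-! ### counting -/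

/-- To count sets of code words, count the indices below 4096. -/
theorem ncard_eq_countLt {S : Set (Finset GolayPt)} (f : ℕ → Bool)
    (hS : ∀ s, s ∈ S ↔ inCode (maskOf s) = true ∧ f (maskOf s) = true) :
    S.ncard = countLt 4096 (fun k => f (enc k)) := by
  rw [countLt_eq]
  have h : S = ((Finset.range 4096).filter fun k => f (enc k) = true).image
      (fun k => setOfMask (enc k)) := by
    ext s
    simp only [hS, Finset.coe_image, Set.mem_image, Finset.mem_coe, Finset.mem_filter,
      Finset.mem_range]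
    constructor
    · rintro ⟨h1, h2⟩
      obtain ⟨k, hk, e⟩ := inCode_iff.1 h1
      exact ⟨k, ⟨hk, by rwa [e]⟩, by rw [e, setOfMask_maskOf]⟩
    · rintro ⟨k, ⟨hk, hf⟩, rfl⟩
      rw [maskOf_setOfMask (enc_lt hk)]
      exact ⟨inCode_enc hk, hf⟩
  rw [h, Set.ncard_coe_finset, Finset.card_image_of_injOn]
  intro a ha b hb e
  simp only [Finset.coe_filter, Finset.mem_range, Set.mem_ofPred_eq] at ha hb
  exact enc_inj ha.1 hb.1 (setOfMask_inj (enc_lt ha.1) (enc_lt hb.1) e)

/-! ### weights -/

theorem weight_table : forallLt 4096 (fun k => let w := popc (enc k);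
    Nat.beq w 0 || Nat.beq w 8 || Nat.beq w 12 || Nat.beq w 16 || Nat.beq w 24) = true := by
  decide +kernel

theorem popc_inCode {m : ℕ} (h : inCode m = true) :
    popc m = 0 ∨ popc m = 8 ∨ popc m = 12 ∨ popc m = 16 ∨ popc m = 24 := by
  obtain ⟨k, hk, rfl⟩ := inCode_iff.1 h
  have := forallLt_elim weight_table hk
  simpa [or_assoc] using this

theorem card_code_support {s : Finset GolayPt}
    (h : s ∈ supports (golayCode : Set (GolayPt → ZMod 2))) :
    s.card = 0 ∨ s.card = 8 ∨ s.card = 12 ∨ s.card = 16 ∨ s.card = 24 := by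
  rw [← popc_maskOf]; exact popc_inCode (mem_supports_iff.1 h)

theorem symmDiff_mem_supports {s t : Finset GolayPt}
    (hs : s ∈ supports (golayCode : Set (GolayPt → ZMod 2)))
    (ht : t ∈ supports (golayCode : Set (GolayPt → ZMod 2))) :
    symmDiff s t ∈ supports (golayCode : Set (GolayPt → ZMod 2)) := by
  rw [mem_supports_iff, maskOf_symmDiff] at *
  exact inCode_xor hs ht

theorem compl_mem_supports {s : Finset GolayPt}
    (hs : s ∈ supports (golayCode : Set (GolayPt → ZMod 2))) :
    sᶜ ∈ supports (golayCode : Set (GolayPt → ZMod 2)) := by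
  rw [mem_supports_iff, maskOf_compl] at *
  exact inCode_xor (by decide +kernel) hs

end CfsgLib.Sporadic
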