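import Cfsg.Agent.Lib.Sporadic.CodeUniqueData
import Cfsg.Agent.Lib.Sporadic.M12
import Cfsg.Agent.Lib.Sporadic.PermList

/-!
# Uniqueness of the extended binary code of length 24

A dodecad splits the points; eleven five-subsets of eleven points meeting pairwise in two
describe the code, and such a family is unique.
-/

set_option autoImplicit false

namespace CfsgLib.Sporadic.Uniq

open Cfsg Module

local notation "F₂" => ZMod 2

variable {α : Type*}

section Words

variable [Fintype α] [DecidableEq α]

/-- The word with a given support. -/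
def ind (s : Finset α) : α → F₂ := fun x => if x ∈ s then 1 else 0

omit [Fintype α] in
theorem ind_symmDiff (s t : Finset α) : ind (symmDiff s t) = ind s + ind t := by
  funext x
  simp only [ind, Pi.add_apply, Finset.mem_symmDiff]
  by_cases h1 : x ∈ s <;> by_cases h2 : x ∈ t <;> simp [h1, h2] <;> decide

omit [DecidableEq α] in
/-- The support of a word. -/
theorem exists_ind [DecidableEq α] (w : α → F₂) : ∃ s : Finset α, ind s = w := by
  refine ⟨Finset.univ.filter fun x => w x = 1, funext fun x => ?_⟩
  have h01 : w x = 0 ∨ w x = 1 := by generalize w x = v; revert v; decide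
  rcases h01 with h | h <;> simp [ind, h]

theorem sum_ind (s t : Finset α) : ∑ x, ind s x * ind t x = ((s ∩ t).card : F₂) := by
  simp only [ind, mul_ite, mul_one, mul_zero, ← ite_and]
  rw [Finset.sum_boole]
  congr 2
  ext x
  simp [and_comm]

theorem sum_ind_left (s : Finset α) (v : α → F₂) : ∑ x, ind s x * v x = ∑ x ∈ s, v x := by
  simp [ind, Finset.sum_ite_mem]

theorem norm_ind (s : Finset α) : hammingNorm (ind s) = s.card := by
  unfold hammingNorm
  congr 1
  ext x
  simp [ind]

variable (C : Submodule F₂ (α → F₂))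

/-- Doubly even self-dual, of minimum weight at least eight. -/
structure Good : Prop where
  card : Fintype.card α = 24
  dim : finrank F₂ C = 12
  orth : ∀ v ∈ C, ∀ w ∈ C, ∑ i, v i * w i = 0
  four : ∀ w ∈ C, 4 ∣ hammingNorm w
  nofour : ∀ w ∈ C, hammingNorm w ≠ 4

/-- The support predicate. -/
def Sup (s : Finset α) : Prop := ind s ∈ C

variable {C}

theorem mem_of_orth (h : Good C) {v : α → F₂} (hv : ∀ w ∈ C, ∑ i, v i * w i = 0) : v ∈ C := by
  let B : LinearMap.BilinForm F₂ (α → F₂) := Matrix.toBilin' (1 : Matrix α α F₂)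
  have hB : ∀ a b, B a b = ∑ i, a i * b i := fun a b => by
    simp [B, Matrix.toBilin'_apply, Matrix.one_apply]
  have hBnd : B.Nondegenerate :=
    LinearMap.BilinForm.nondegenerate_toBilin'_of_det_ne_zero' _ (by simp)
  have hle : C ≤ B.orthogonal C := fun c hc w hw => by
    show B w c = 0
    rw [hB]; exact h.orth w hw c hc
  have heq : B.orthogonal C = C := (Submodule.eq_of_le_of_finrank_eq hle (by
    rw [LinearMap.BilinForm.finrank_orthogonal hBnd C, finrank_fintype_fun_eq_card, h.card, h.dim])).symm
  rw [← heq]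
  intro w hw
  show B w v = 0
  rw [hB, ← hv w hw]
  exact Finset.sum_congr rfl fun i _ => mul_comm _ _

theorem Sup.symmDiff {s t : Finset α} (hs : Sup C s) (ht : Sup C t) : Sup C (_root_.symmDiff s t) := by
  rw [Sup, ind_symmDiff]; exact C.add_mem hs ht

theorem sup_univ (h : Good C) : Sup C (Finset.univ : Finset α) := by
  refine mem_of_orth h fun w hw => ?_
  obtain ⟨s, rfl⟩ := exists_ind w
  rw [sum_ind, Finset.univ_inter]
  have := h.four _ hw
  rw [norm_ind] at this
  rw [ZMod.natCast_eq_zero_iff_even, even_iff_two_dvd]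
  exact dvd_trans (by norm_num) this

theorem Sup.compl (h : Good C) {s : Finset α} (hs : Sup C s) : Sup C sᶜ := by
  have : sᶜ = _root_.symmDiff Finset.univ s := by ext x; simp [Finset.mem_symmDiff]
  rw [this]; exact (sup_univ h).symmDiff hs

theorem Sup.card_cases (h : Good C) {s : Finset α} (hs : Sup C s) :
    s.card = 0 ∨ s.card = 8 ∨ s.card = 12 ∨ s.card = 16 ∨ s.card = 24 := by
  have h1 := h.four _ hs
  have h2 := h.nofour _ hs
  have h3 := h.nofour _ (hs.compl h)
  rw [norm_ind] at h1 h2 h3
  rw [Finset.card_compl, h.card] at h3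
  have := s.card_le_univ
  rw [h.card] at this
  omega

/-- Projection onto a set is onto what the words inside the set allow. -/
theorem exists_on (h : Good C) (D t : Finset α) (ht : t ⊆ D)
    (hev : ∀ s, Sup C s → s ⊆ D → Even (t ∩ s).card) : ∃ c, Sup C c ∧ c ∩ D = t := by
  let W : Submodule F₂ (α → F₂) :=
    { carrier := {w | ∀ x ∈ D, w x = 0}
      zero_mem' := fun _ _ => rfl
      add_mem' := fun ha hb x hx => by simp [ha x hx, hb x hx]
      smul_mem' := fun c a ha x hx => by simp [ha x hx] }
  by_cases hmem : ind t ∈ C ⊔ W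
  · obtain ⟨c, hc, w, hw, e⟩ := Submodule.mem_sup.1 hmem
    obtain ⟨s, rfl⟩ := exists_ind c
    refine ⟨s, hc, Finset.ext fun x => ?_⟩
    have e' := congrFun e x
    constructor
    · intro hx
      obtain ⟨hxs, hxD⟩ := Finset.mem_inter.1 hx
      simp only [Pi.add_apply, hw x hxD, add_zero, ind, if_pos hxs] at e'
      by_contra hxt
      rw [if_neg hxt] at e'
      exact one_ne_zero e'
    · intro hxt
      simp only [Pi.add_apply, hw x (ht hxt), add_zero, ind, if_pos hxt] at e'
      refine Finset.mem_inter.2 ⟨?_, ht hxt⟩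
      by_contra hxs
      rw [if_neg hxs] at e'
      exact zero_ne_one e'
  · exfalso
    obtain ⟨f, hf1, hf2⟩ := Submodule.exists_dual_map_eq_bot_of_notMem hmem inferInstance
    let a : α → F₂ := fun i => f (Pi.single i 1)
    have hf : ∀ v, f v = ∑ i, a i * v i := fun v => by
      conv_lhs => rw [← Finset.univ_sum_single v]
      rw [map_sum]
      refine Finset.sum_congr rfl fun i _ => ?_
      rw [show Pi.single i (v i) = v i • (Pi.single i 1 : α → F₂) by
        rw [← Pi.single_smul]; simp, map_smul, smul_eq_mul, mul_comm]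
    have hzero : ∀ v ∈ C ⊔ W, f v = 0 := fun v hv => by
      have : f v ∈ (C ⊔ W).map f := Submodule.mem_map_of_mem hv
      rwa [hf2, Submodule.mem_bot] at this
    have haC : a ∈ C := mem_of_orth h fun w hw => by rw [← hf]; exact hzero w (Submodule.mem_sup_left hw)
    obtain ⟨s, hs⟩ := exists_ind a
    have hsD : s ⊆ D := fun x hx => by
      by_contra hxD
      have := hzero (Pi.single x 1) (Submodule.mem_sup_right fun y hy => by
        simp [show y ≠ x from fun e => hxD (e ▸ hy)])
      have e : a x = 1 := by rw [← hs]; simp [ind, hx]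
      exact one_ne_zero (e.symm.trans this)
    apply hf1
    rw [hf, ← hs, sum_ind, ZMod.natCast_eq_zero_iff_even, Finset.inter_comm]
    exact hev s (show Sup C s by rw [Sup, hs]; exact haC) hsD

theorem card_symmDiff' (s t : Finset α) :
    (symmDiff s t).card + 2 * (s ∩ t).card = s.card + t.card := by
  have h1 : (symmDiff s t).card = (s \ t).card + (t \ s).card := Finset.card_union_of_disjoint (disjoint_sdiff_sdiff)
  have h2 := Finset.card_sdiff_add_card_inter s t
  have h3 := Finset.card_sdiff_add_card_inter t s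
  rw [Finset.inter_comm t s] at h3
  omega

theorem exists_dodecad (h : Good C) : ∃ D, Sup C D ∧ D.card = 12 := by
  by_contra hne
  push Not at hne
  have hno : ∀ s, Sup C s → s.card = 0 ∨ s.card = 8 ∨ s.card = 16 ∨ s.card = 24 := fun s hs => by
    have := hs.card_cases h
    have := hne s hs
    omega
  obtain ⟨o, ho, hoc⟩ : ∃ o, Sup C o ∧ o.card = 8 := by
    by_contra h8
    push Not at h8
    have hsub : C ≤ F₂ ∙ ind (Finset.univ : Finset α) := by
      intro w hw
      obtain ⟨s, rfl⟩ := exists_ind w
      have h16 : s.card ≠ 16 := fun e => h8 sᶜ (Sup.compl h hw) (by rw [Finset.card_compl, h.card, e])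
      have := hno s hw
      have := h8 s hw
      rcases (by omega : s.card = 0 ∨ s.card = 24) with e | e
      · rw [Finset.card_eq_zero.1 e]
        convert Submodule.zero_mem _ using 1
        funext x; simp [ind]
      · rw [Finset.eq_univ_of_card s (by rw [e, h.card])]
        exact Submodule.mem_span_singleton_self _
    have h1 : finrank F₂ (F₂ ∙ ind (Finset.univ : Finset α)) ≤ 1 :=
      (finrank_span_le_card ({ind (Finset.univ : Finset α)} : Set (α → F₂))).trans (by simp)
    have := Submodule.finrank_mono hsub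
    rw [h.dim] at this
    omega
  obtain ⟨x, hx, y, hy, hxy⟩ := Finset.one_lt_card.1 (by omega : 1 < o.card)
  have hsubo : ({x, y} : Finset α) ⊆ o := Finset.insert_subset hx (Finset.singleton_subset_iff.2 hy)
  obtain ⟨c, hc, hco⟩ := exists_on h o {x, y} hsubo fun s hs hso => by
    rcases hno s hs with e | e | e | e
    · rw [Finset.card_eq_zero.1 e]; simp
    · rw [Finset.eq_of_subset_of_card_le hso (by omega), Finset.inter_eq_left.2 hsubo, Finset.card_pair hxy]
      exact even_two
    all_goals (have := Finset.card_le_card hso; omega)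
  have hi : (c ∩ o).card = 2 := by rw [hco, Finset.card_pair hxy]
  have hd := card_symmDiff' c o
  have hd' := card_symmDiff' cᶜ o
  have hi' : (cᶜ ∩ o).card = 6 := by
    rw [Finset.inter_comm, ← Finset.sdiff_eq_inter_compl]
    have := Finset.card_sdiff_add_card_inter o c
    rw [Finset.inter_comm o c] at this
    omega
  have := hno _ hc
  have := hno _ (hc.symmDiff ho)
  have := hno _ ((hc.compl h).symmDiff ho)
  have := Finset.card_le_card (Finset.inter_subset_left : c ∩ o ⊆ c)
  have hcc : (cᶜ).card + c.card = 24 := by rw [Finset.card_compl, h.card]; have := c.card_le_univ; rw [h.card] at this; omega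
  omega

end Words

/-! ### families of eleven five-subsets meeting pairwise in two -/

/-- The mask of a set of the eleven points. -/
def emb11 : Fin 11 ↪ GolayPt := ⟨fun i => pt i.val, by decide +kernel⟩

def m11set (s : Finset (Fin 11)) : ℕ := maskOf (s.map emb11)

theorem popc_m11 (s : Finset (Fin 11)) : popc (m11set s) = s.card := by
  rw [m11set, popc_maskOf, Finset.card_map]

theorem land_m11 (s t : Finset (Fin 11)) : m11set s &&& m11set t = m11set (s ∩ t) := by
  rw [m11set, m11set, m11set, Finset.map_inter, maskOf_inter]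

theorem m11set_injective : Function.Injective m11set := fun _ _ e =>
  Finset.map_injective _ (maskOf_injective e)

theorem ix_emb11 (i : Fin 11) : ix (emb11 i) = i.val := by revert i; decide +kernel

noncomputable def meets2 (a b : ℕ) : Bool := Nat.beq (popc (Nat.land a b)) 2

noncomputable def finalOK (l : List ℕ) : Bool :=
  uniqWits.any fun p => (31 :: 227 :: l).all fun b => uniqBlocks.any (Nat.beq (mimg p b))

/-- Every clique of the given size among the candidates finishes well. -/
noncomputable def search : ℕ → List ℕ → List ℕ → Bool :=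
  Nat.rec (fun _ acc => finalOK acc) (fun _ ih cand acc =>
    List.rec true (fun b t loop => ih (t.filter (meets2 b)) (b :: acc) && loop) cand)

set_option maxRecDepth 100000 in
theorem search_ok : search 9 uniqCands [] = true := by decide +kernel

theorem search_spec : ∀ (n : ℕ) (cand acc : List ℕ), search n cand acc = true →
    ∀ T : Finset ℕ, T.card = n → (∀ b ∈ T, b ∈ cand) → (∀ a ∈ T, ∀ b ∈ T, a ≠ b → meets2 a b = true) →
      ∃ p ∈ uniqWits, ∀ b, (b ∈ T ∨ b = 31 ∨ b = 227 ∨ b ∈ acc) → mimg p b ∈ uniqBlocks := by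
  intro n
  induction n with
  | zero =>
    intro cand acc h T hT _ _
    change finalOK acc = true at h
    simp only [finalOK, List.any_eq_true, List.all_eq_true, Nat.beq_eq] at h
    obtain ⟨p, hp, hall⟩ := h
    refine ⟨p, hp, fun b hb => ?_⟩
    rw [Finset.card_eq_zero.1 hT] at hb
    obtain ⟨v, hv, e⟩ := hall b (by simpa using hb)
    exact e ▸ hv
  | succ n ih =>
    intro cand
    induction cand with
    | nil =>
      intro acc _ T hT hsub _
      obtain ⟨b, hb⟩ := Finset.card_pos.1 (by omega : 0 < T.card)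
      exact absurd (hsub b hb) (by simp)
    | cons b t loop =>
      intro acc h T hT hsub hcomp
      change (search n (t.filter (meets2 b)) (b :: acc) && search (n + 1) t acc) = true at h
      rw [Bool.and_eq_true] at h
      by_cases hbT : b ∈ T
      · obtain ⟨p, hp, hall⟩ := ih _ _ h.1 (T.erase b) (by rw [Finset.card_erase_of_mem hbT, hT]; omega)
          (fun c hc => by
            obtain ⟨hne, hcT⟩ := Finset.mem_erase.1 hc
            refine List.mem_filter.2 ⟨?_, hcomp b hbT c hcT (Ne.symm hne)⟩
            exact (List.mem_cons.1 (hsub c hcT)).resolve_left hne)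
          (fun c hc e he => hcomp c (Finset.mem_of_mem_erase hc) e (Finset.mem_of_mem_erase he))
        refine ⟨p, hp, fun c hc => hall c ?_⟩
        by_cases hcb : c = b
        · exact Or.inr (Or.inr (Or.inr (hcb ▸ List.mem_cons_self ..)))
        · rcases hc with h | h | h | h
          · exact Or.inl (Finset.mem_erase.2 ⟨hcb, h⟩)
          · exact Or.inr (Or.inl h)
          · exact Or.inr (Or.inr (Or.inl h))
          · exact Or.inr (Or.inr (Or.inr (List.mem_cons_of_mem _ h)))
      · exact loop acc h.2 T hT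
          (fun c hc => (List.mem_cons.1 (hsub c hc)).resolve_left fun e => hbT (e ▸ hc)) hcomp

noncomputable def candsOK : Bool :=
  forallLt 2048 fun m => !(Nat.beq (popc m) 5 && meets2 m 31 && meets2 m 227) || uniqCands.any (Nat.beq m)

theorem cands_ok : candsOK = true := by decide +kernel

theorem wits_ok : ∀ p ∈ uniqWits, okPerm p = true ∧ ∀ i < 11, pget p i < 11 := by decide +kernel

theorem blocks_lt : ∀ b ∈ uniqBlocks, b < 2048 ∧ popc b = 5 := by decide +kernel

theorem exists_perm_list {L : List (Fin 11)} (hn : L.Nodup) (hl : L.length = 11) :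
    ∃ π : Equiv.Perm (Fin 11), ∀ i : Fin 11, π (L[i.val]'(by rw [hl]; exact i.2)) = i := by
  let f : Fin 11 → Fin 11 := fun i => L[i.val]'(by rw [hl]; exact i.2)
  have hf : Function.Bijective f :=
    (Finite.injective_iff_bijective).1 fun i j e => Fin.ext ((hn.getElem_inj_iff).1 e)
  exact ⟨(Equiv.ofBijective f hf).symm, fun i => (Equiv.ofBijective f hf).symm_apply_apply i⟩

theorem m11_lt (s : Finset (Fin 11)) : m11set s < 2048 := by
  refine Nat.lt_pow_two_of_testBit (n := 11) _ fun i hi => ?_
  by_contra hne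
  rw [Bool.not_eq_false, m11set] at hne
  have h24 : i < 24 := by
    by_contra h24
    rw [Nat.testBit_eq_false_of_lt (lt_of_lt_of_le (maskOf_lt _)
      (Nat.pow_le_pow_right (by norm_num) (by omega)))] at hne
    simp at hne
  have : pt i ∈ s.map emb11 := by rw [mem_iff_bitAt, ix_pt h24, bitAt_eq]; exact if_pos hne
  obtain ⟨j, -, e⟩ := Finset.mem_map.1 this
  have e' := congrArg ix e
  rw [ix_emb11, ix_pt h24] at e'
  omega

theorem biplane_unique (S : Fin 11 → Finset (Fin 11)) (h5 : ∀ i, (S i).card = 5)
    (h2 : ∀ i j, i ≠ j → (S i ∩ S j).card = 2) :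
    ∃ π ρ : Equiv.Perm (Fin 11), ∀ i : Fin 11,
      m11set ((S i).map π.toEmbedding) = uniqBlocks.getD (ρ i).val 0 := by
  -- normalise the first two
  have hA := h5 0
  have hB := h5 1
  have hAB := h2 0 1 (by decide)
  let A := S 0
  let B := S 1
  have d1 : (A \ B).card = 3 := by
    have := Finset.card_sdiff_add_card_inter A B; simp only [A, B] at *; omega
  have d2 : (B \ A).card = 3 := by
    have := Finset.card_sdiff_add_card_inter B A
    simp only [A, B] at *
    rw [Finset.inter_comm] at this; omega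
  have d3 : (A ∪ B)ᶜ.card = 3 := by
    rw [Finset.card_compl, Fintype.card_fin]
    have := Finset.card_union_add_card_inter A B
    simp only [A, B] at *; omega
  let L := (A ∩ B).toList ++ (A \ B).toList ++ (B \ A).toList ++ (A ∪ B)ᶜ.toList
  have hL : L.Nodup := by
    simp only [L, List.nodup_append, Finset.nodup_toList, List.mem_append, Finset.mem_toList,
      Finset.mem_inter, Finset.mem_sdiff, Finset.mem_compl, Finset.mem_union, true_and]
    refine ⟨⟨?_, ?_⟩, ?_⟩
    · rintro a ⟨-, ha⟩ b ⟨-, hb⟩ rfl; exact hb ha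
    · rintro a (⟨ha, -⟩ | ⟨ha, -⟩) b ⟨-, hb⟩ rfl <;> exact hb ha
    · rintro a ((⟨ha, -⟩ | ⟨ha, -⟩) | ⟨ha, -⟩) b hb rfl
      exacts [hb (Or.inl ha), hb (Or.inl ha), hb (Or.inr ha)]
  have l1 : (A ∩ B).toList.length = 2 := by rw [Finset.length_toList]; exact hAB
  have l2 : (A \ B).toList.length = 3 := by rw [Finset.length_toList]; exact d1
  have l3 : (B \ A).toList.length = 3 := by rw [Finset.length_toList]; exact d2
  have hLl : L.length = 11 := by
    simp only [L, List.length_append, l1, l2, l3, Finset.length_toList, d3]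
  obtain ⟨π₀, hπ⟩ := exists_perm_list hL hLl
  have pick : ∀ (i : Fin 11), π₀.symm i = L[i.val]'(by rw [hLl]; exact i.2) := fun i => by
    rw [Equiv.symm_apply_eq, hπ]
  have memA : ∀ i : Fin 11, π₀.symm i ∈ A ↔ i.val < 5 := by
    intro i
    rw [pick]
    have hi := i.2
    simp only [L, List.getElem_append, l1, l2, l3, List.length_append]
    split_ifs with a b c
    · exact iff_of_true (Finset.mem_inter.1 (Finset.mem_toList.1 (List.getElem_mem _))).1 (by omega)
    · exact iff_of_true (Finset.mem_sdiff.1 (Finset.mem_toList.1 (List.getElem_mem _))).1 (by omega)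
    · exact iff_of_false (Finset.mem_sdiff.1 (Finset.mem_toList.1 (List.getElem_mem _))).2 (by omega)
    · refine iff_of_false (fun h => ?_) (by omega)
      exact Finset.mem_compl.1 (Finset.mem_toList.1 (List.getElem_mem (l := (A ∪ B)ᶜ.toList) _)) (Finset.mem_union_left _ h)
  have memB : ∀ i : Fin 11, π₀.symm i ∈ B ↔ i.val < 2 ∨ 5 ≤ i.val ∧ i.val < 8 := by
    intro i
    rw [pick]
    have hi := i.2
    simp only [L, List.getElem_append, l1, l2, l3, List.length_append]
    split_ifs with a b c
    · exact iff_of_true (Finset.mem_inter.1 (Finset.mem_toList.1 (List.getElem_mem _))).2 (by omega)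
    · exact iff_of_false (Finset.mem_sdiff.1 (Finset.mem_toList.1 (List.getElem_mem _))).2 (by omega)
    · exact iff_of_true (Finset.mem_sdiff.1 (Finset.mem_toList.1 (List.getElem_mem _))).1 (by omega)
    · refine iff_of_false (fun h => ?_) (by omega)
      exact Finset.mem_compl.1 (Finset.mem_toList.1 (List.getElem_mem (l := (A ∪ B)ᶜ.toList) _)) (Finset.mem_union_right _ h)
  let M : Fin 11 → ℕ := fun i => m11set ((S i).map π₀.toEmbedding)
  have hM0 : M 0 = 31 := by
    rw [show (31 : ℕ) = m11set {0, 1, 2, 3, 4} by decide +kernel]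
    refine congrArg m11set (Finset.ext fun i => ?_)
    rw [Finset.mem_map_equiv]
    refine (memA i).trans ?_
    revert i; decide
  have hM1 : M 1 = 227 := by
    rw [show (227 : ℕ) = m11set {0, 1, 5, 6, 7} by decide +kernel]
    refine congrArg m11set (Finset.ext fun i => ?_)
    rw [Finset.mem_map_equiv]
    refine (memB i).trans ?_
    revert i; decide
  have hMmeet : ∀ i j, i ≠ j → meets2 (M i) (M j) = true := fun i j hij => by
    show Nat.beq (popc (M i &&& M j)) 2 = true
    rw [Nat.beq_eq, land_m11, ← Finset.map_inter, popc_m11, Finset.card_map, h2 i j hij]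
  have hMinj : Function.Injective M := fun i j e => by
    by_contra hij
    have h' := hMmeet i j hij
    rw [e, meets2, Nat.beq_eq] at h'
    change popc (M j &&& M j) = 2 at h'
    rw [Nat.and_self, popc_m11, Finset.card_map, h5] at h'
    omega
  obtain ⟨p, hp, hall⟩ := search_spec 9 uniqCands [] search_ok (((Finset.univ.erase 0).erase 1).image M)
    (by rw [Finset.card_image_of_injective _ hMinj]; decide)
    (fun b hb => by
      obtain ⟨i, hi, rfl⟩ := Finset.mem_image.1 hb
      simp only [Finset.mem_erase, Finset.mem_univ, and_true] at hi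
      have h := forallLt_elim cands_ok (m11_lt ((S i).map π₀.toEmbedding))
      have e0 := hMmeet i 0 hi.2
      have e1 := hMmeet i 1 hi.1
      rw [hM0] at e0
      rw [hM1] at e1
      have e5 : popc (M i) = 5 := by rw [popc_m11, Finset.card_map, h5]
      simp only [M] at e0 e1 e5 ⊢
      rw [e0, e1, e5] at h
      simpa using h)
    (fun a ha b hb hne => by
      obtain ⟨i, -, rfl⟩ := Finset.mem_image.1 ha
      obtain ⟨j, -, rfl⟩ := Finset.mem_image.1 hb
      exact hMmeet i j fun e => hne (congrArg M e))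
  obtain ⟨hok, hlt⟩ := wits_ok p hp
  obtain ⟨σ, hσ⟩ := exists_rep hok
  let g : Fin 11 → Fin 11 := fun i => ⟨pget p i.val, hlt i.val i.2⟩
  have hg : ∀ i, σ (emb11 i) = emb11 (g i) := fun i => ix_injective (by
    rw [← hσ (emb11 i), ix_emb11, ix_emb11])
  have hginj : Function.Injective g := fun i j e => emb11.injective (σ.injective (by rw [hg, hg, e]))
  let π : Equiv.Perm (Fin 11) := π₀.trans (Equiv.ofBijective g (Finite.injective_iff_bijective.1 hginj))
  have himg : ∀ i, m11set ((S i).map π.toEmbedding) = mimg p (M i) := fun i => by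
    refine setOfMask_inj (maskOf_lt _) (mimg_lt hσ _) ?_
    rw [setOfMask_mimg hσ, m11set, setOfMask_maskOf]
    simp only [M, m11set, setOfMask_maskOf, Finset.map_map]
    rw [Finset.map_eq_image, Finset.map_eq_image, Finset.image_image]
    refine Finset.image_congr fun x _ => ?_
    exact (hg _).symm
  have hmem : ∀ i, m11set ((S i).map π.toEmbedding) ∈ uniqBlocks := fun i => by
    rw [himg]
    refine hall _ ?_
    by_cases h0 : i = 0
    · exact Or.inr (Or.inl (h0 ▸ hM0))
    by_cases h1 : i = 1
    · exact Or.inr (Or.inr (Or.inl (h1 ▸ hM1)))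
    exact Or.inl (Finset.mem_image_of_mem _ (by simp [h0, h1]))
  have hidx : ∀ i, ∃ j : Fin 11, uniqBlocks.getD j.val 0 = m11set ((S i).map π.toEmbedding) := fun i => by
    obtain ⟨k, hk, e⟩ := List.getElem_of_mem (hmem i)
    have hl : uniqBlocks.length = 11 := by decide +kernel
    exact ⟨⟨k, hl ▸ hk⟩, by rw [List.getD_eq_getElem _ _ hk, e]⟩
  choose r hr using hidx
  have hrinj : Function.Injective r := fun i j e => by
    by_contra hij
    have hSS : S i = S j := Finset.map_injective _ (m11set_injective ((hr i).symm.trans (e ▸ hr j)))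
    have h' := h2 i j hij
    rw [hSS, Finset.inter_self, h5] at h'
    omega
  exact ⟨π, Equiv.ofBijective r (Finite.injective_iff_bijective.1 hrinj), fun i => (hr i).symm⟩

/-! ### uniqueness -/

section Main

variable [Fintype α] [DecidableEq α] {C : Submodule F₂ (α → F₂)}

def stdPos : Fin 12 ⊕ Fin 12 → GolayPt
  | .inl i => pt (uniqDPts.getD i.val 0)
  | .inr i => pt (uniqCPts.getD i.val 0)

theorem stdPos_bijective : Function.Bijective stdPos := by
  rw [Fintype.bijective_iff_injective_and_card]
  exact ⟨by decide +kernel, by decide +kernel⟩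

/-- The standard generators, by their position patterns. -/
theorem words_pattern : ∀ k : Fin 11,
    (uniqWords.getD k.val 0 < 2 ^ 24) ∧
    (∀ i : Fin 12, stdPos (.inl i) ∈ setOfMask (uniqWords.getD k.val 0) ↔ (i = 0 ∨ i = k.succ)) ∧
    (stdPos (.inr 0) ∈ setOfMask (uniqWords.getD k.val 0)) ∧
    (∀ j : Fin 11, stdPos (.inr j.succ) ∈ setOfMask (uniqWords.getD k.val 0) ↔
      (uniqBlocks.getD k.val 0).testBit j.val = true) ∧
    (∀ i : Fin 12, stdPos (.inl i) ∈ setOfMask stdD ∧ stdPos (.inr i) ∉ setOfMask stdD) := by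
  decide +kernel

noncomputable def genList : List ℕ := stdD :: uniqWords

theorem basis_from_gens : ∀ i < 12, xorComb (fun k => genList.getD k 0) (uniqBasisCoef.getD i 0) 12 = basisMask i := by
  decide +kernel

theorem code_unique (h : Good C) :
    ∃ e : α ≃ GolayPt, ∀ w : GolayPt → F₂, w ∈ golayCode ↔ (fun i => w (e i)) ∈ C := by
  obtain ⟨D, hD, hDc⟩ := exists_dodecad h
  have hDcc : Dᶜ.card = 12 := by rw [Finset.card_compl, h.card, hDc]
  let σ : Fin 12 ≃ ↥D := (D.equivFinOfCardEq hDc).symm
  let τ : Fin 12 ≃ ↥Dᶜ := (Dᶜ.equivFinOfCardEq hDcc).symm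
  have inD : ∀ s, Sup C s → s ⊆ D → s = ∅ ∨ s = D := fun s hs hsD => by
    have hle := Finset.card_le_card hsD
    rcases hs.card_cases h with e | e | e | e | e
    · exact Or.inl (Finset.card_eq_zero.1 e)
    · exfalso
      have hd := card_symmDiff' s D
      rw [Finset.inter_eq_left.2 hsD] at hd
      have := (hs.symmDiff hD).card_cases h
      omega
    · exact Or.inr (Finset.eq_of_subset_of_card_le hsD (by omega))
    · omega
    · omega
  have hw : ∀ k : Fin 11, ∃ c, Sup C c ∧ c ∩ D = {(σ 0).1, (σ k.succ).1} ∧ (τ 0).1 ∈ c := by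
    intro k
    have hne : (σ 0).1 ≠ (σ k.succ).1 := fun e => (Fin.succ_ne_zero k) (σ.injective (Subtype.ext e)).symm
    have hsub : ({(σ 0).1, (σ k.succ).1} : Finset α) ⊆ D :=
      Finset.insert_subset (σ 0).2 (Finset.singleton_subset_iff.2 (σ k.succ).2)
    obtain ⟨c, hc, e⟩ := exists_on h D _ hsub fun s hs hsD => by
      rcases inD s hs hsD with rfl | rfl
      · simp
      · rw [Finset.inter_eq_left.2 hsub, Finset.card_pair hne]; exact even_two
    by_cases hq : (τ 0).1 ∈ c
    · exact ⟨c, hc, e, hq⟩
    · refine ⟨symmDiff c Dᶜ, hc.symmDiff (hD.compl h), ?_, Finset.mem_symmDiff.2 (Or.inr ⟨(τ 0).2, hq⟩)⟩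
      rw [← e]
      ext x
      simp only [Finset.mem_inter, Finset.mem_symmDiff, Finset.mem_compl]
      tauto
  choose c hc hcD hc0 using hw
  have six : ∀ c, Sup C c → (c ∩ D).card = 2 → (c ∩ Dᶜ).card = 6 := by
    intro c hc h2
    have e := Finset.card_sdiff_add_card_inter c D
    rw [Finset.sdiff_eq_inter_compl, h2] at e
    have h1 := hc.card_cases h
    have h3 := (hc.symmDiff (hD.compl h)).card_cases h
    have hd := card_symmDiff' c Dᶜ
    have hb := Finset.card_le_card (Finset.inter_subset_right : c ∩ Dᶜ ⊆ Dᶜ)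
    omega
  let S : Fin 11 → Finset (Fin 11) := fun k => Finset.univ.filter fun j => (τ j.succ).1 ∈ c k
  have hS : ∀ (s : Finset α), s ⊆ Dᶜ →
      s.card = (Finset.univ.filter fun j : Fin 11 => (τ j.succ).1 ∈ s).card + (if (τ 0).1 ∈ s then 1 else 0) := by
    intro s hs
    have : s.card = (Finset.univ.filter fun i : Fin 12 => (τ i).1 ∈ s).card := by
      refine (Finset.card_bij (fun i _ => (τ i).1) (fun i hi => (Finset.mem_filter.1 hi).2)
        (fun a _ b _ e => τ.injective (Subtype.ext e)) fun y hy => ?_).symm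
      exact ⟨τ.symm ⟨y, hs hy⟩, Finset.mem_filter.2 ⟨Finset.mem_univ _, by simpa using hy⟩, by simp⟩
    rw [this, Finset.card_filter, Finset.card_filter, Fin.sum_univ_succ, add_comm]
  have hS5 : ∀ k, (S k).card = 5 := fun k => by
    have h6 := six (c k) (hc k) (by
      rw [hcD, Finset.card_pair fun e => (Fin.succ_ne_zero k) (σ.injective (Subtype.ext e)).symm])
    have := hS (c k ∩ Dᶜ) Finset.inter_subset_right
    have e : (Finset.univ.filter fun j : Fin 11 => (τ j.succ).1 ∈ c k ∩ Dᶜ) = S k :=
      Finset.filter_congr fun j _ => by simp [(Finset.mem_compl.1 (τ j.succ).2)]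
    rw [e, if_pos (Finset.mem_inter.2 ⟨hc0 k, (τ 0).2⟩)] at this
    omega
  have hS2 : ∀ i j, i ≠ j → (S i ∩ S j).card = 2 := fun i j hij => by
    have hne : (σ i.succ).1 ≠ (σ j.succ).1 := fun e =>
      hij (Fin.succ_injective _ (σ.injective (Subtype.ext e)))
    have hcd : symmDiff (c i) (c j) ∩ D = {(σ i.succ).1, (σ j.succ).1} := by
      rw [Finset.symmDiff_def, Finset.union_inter_distrib_right]
      have a : ∀ x, x ∈ D → (x ∈ c i ↔ x = (σ 0).1 ∨ x = (σ i.succ).1) := fun x hx => by
        have := Finset.ext_iff.1 (hcD i) x; simpa [hx] using this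
      have b : ∀ x, x ∈ D → (x ∈ c j ↔ x = (σ 0).1 ∨ x = (σ j.succ).1) := fun x hx => by
        have := Finset.ext_iff.1 (hcD j) x; simpa [hx] using this
      have n0 : ∀ k : Fin 11, (σ k.succ).1 ≠ (σ 0).1 := fun k e =>
        Fin.succ_ne_zero k (σ.injective (Subtype.ext e))
      ext x
      simp only [Finset.mem_union, Finset.mem_inter, Finset.mem_sdiff, Finset.mem_insert, Finset.mem_singleton]
      constructor
      · rintro (⟨⟨h1, h2⟩, hx⟩ | ⟨⟨h1, h2⟩, hx⟩)
        · rcases (a x hx).1 h1 with rfl | h
          · exact absurd ((b _ hx).2 (Or.inl rfl)) h2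
          · exact Or.inl h
        · rcases (b x hx).1 h1 with rfl | h
          · exact absurd ((a _ hx).2 (Or.inl rfl)) h2
          · exact Or.inr h
      · rintro (rfl | rfl)
        · refine Or.inl ⟨⟨(a _ (σ i.succ).2).2 (Or.inr rfl), fun h => ?_⟩, (σ i.succ).2⟩
          rcases (b _ (σ i.succ).2).1 h with e | e
          exacts [n0 i e, hne e]
        · refine Or.inr ⟨⟨(b _ (σ j.succ).2).2 (Or.inr rfl), fun h => ?_⟩, (σ j.succ).2⟩
          rcases (a _ (σ j.succ).2).1 h with e | e
          exacts [n0 j e, hne e.symm]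
    have h6 := six _ ((hc i).symmDiff (hc j)) (by rw [hcd, Finset.card_pair hne])
    have := hS (symmDiff (c i) (c j) ∩ Dᶜ) Finset.inter_subset_right
    have e : (Finset.univ.filter fun k : Fin 11 => (τ k.succ).1 ∈ symmDiff (c i) (c j) ∩ Dᶜ) =
        symmDiff (S i) (S j) := by
      ext k
      simp [S, Finset.mem_symmDiff, Finset.mem_compl.1 (τ k.succ).2]
    rw [e, if_neg fun hm => by
      have := (Finset.mem_inter.1 hm).1
      rw [Finset.mem_symmDiff] at this
      rcases this with ⟨-, h2⟩ | ⟨-, h2⟩
      exacts [h2 (hc0 j), h2 (hc0 i)]] at this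
    have hd := card_symmDiff' (S i) (S j)
    rw [hS5, hS5] at hd
    omega
  obtain ⟨π, ρ, hπ⟩ := biplane_unique S hS5 hS2
  let π' : Equiv.Perm (Fin 12) := (finSuccEquiv 11).trans (π.optionCongr.trans (finSuccEquiv 11).symm)
  let ρ' : Equiv.Perm (Fin 12) := (finSuccEquiv 11).trans (ρ.optionCongr.trans (finSuccEquiv 11).symm)
  have p0 : π' 0 = 0 ∧ ρ' 0 = 0 := by simp [π', ρ']
  have ps : ∀ k : Fin 11, π' k.succ = (π k).succ ∧ ρ' k.succ = (ρ k).succ := fun k => by simp [π', ρ']
  let split : α ≃ Fin 12 ⊕ Fin 12 :=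
    (Equiv.sumCompl (· ∈ D)).symm.trans (Equiv.sumCongr σ.symm
      ((Equiv.subtypeEquivRight fun x => (Finset.mem_compl (s := D)).symm).trans τ.symm))
  let e : α ≃ GolayPt := split.trans ((Equiv.sumCongr ρ' π').trans (Equiv.ofBijective _ stdPos_bijective))
  have eD : ∀ i, e (σ i).1 = stdPos (.inl (ρ' i)) := fun i => by
    simp [e, split, Equiv.sumCompl_symm_apply_of_pos (σ i).2]
  have eC : ∀ i, e (τ i).1 = stdPos (.inr (π' i)) := fun i => by
    simp [e, split, Equiv.sumCompl_symm_apply_of_neg (Finset.mem_compl.1 (τ i).2)]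
    exact congrArg (fun z => stdPos (Sum.inr (π' z))) (by rw [Equiv.symm_apply_eq]; exact Subtype.ext rfl)
  let L : (GolayPt → F₂) ≃ₗ[F₂] (α → F₂) := LinearEquiv.funCongrLeft F₂ F₂ e
  have pull : ∀ (m : ℕ) (s : Finset α), (∀ x, e x ∈ setOfMask m ↔ x ∈ s) → L (wordOf m) = ind s := by
    intro m s hs
    funext x
    show wordOf m (e x) = ind s x
    simp only [wordOf, ind]
    exact if_congr (by rw [← hs, mem_setOfMask]) rfl rfl
  have hgens : ∀ k < 12, L (wordOf (genList.getD k 0)) ∈ C := by
    intro k hk
    rcases k with - | k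
    · show L (wordOf stdD) ∈ C
      rw [pull stdD D fun x => ?_]
      · exact hD
      obtain ⟨-, -, -, -, hp⟩ := words_pattern 0
      by_cases hx : x ∈ D
      · obtain ⟨i, hi⟩ := σ.surjective ⟨x, hx⟩
        have : x = (σ i).1 := by rw [hi]
        subst this
        exact iff_of_true (eD i ▸ (hp (ρ' i)).1) hx
      · obtain ⟨i, hi⟩ := τ.surjective ⟨x, Finset.mem_compl.2 hx⟩
        have : x = (τ i).1 := by rw [hi]
        subst this
        exact iff_of_false (eC i ▸ (hp (π' i)).2) hx
    · obtain ⟨j, hj⟩ : ∃ j : Fin 11, ρ j = ⟨k, by omega⟩ := ρ.surjective _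
      show L (wordOf (uniqWords.getD k 0)) ∈ C
      have hk' : k = (ρ j).val := by rw [hj]
      rw [hk', pull _ (c j) fun x => ?_]
      · exact hc j
      obtain ⟨-, hw1, hw2, hw3, -⟩ := words_pattern (ρ j)
      by_cases hx : x ∈ D
      · obtain ⟨i, hi⟩ := σ.surjective ⟨x, hx⟩
        have : x = (σ i).1 := by rw [hi]
        subst this
        rw [eD, hw1]
        have := Finset.ext_iff.1 (hcD j) (σ i).1
        simp only [Finset.mem_inter, hx, and_true, Finset.mem_insert, Finset.mem_singleton] at this
        rw [this, ← p0.2, ← (ps j).2, ρ'.injective.eq_iff, ρ'.injective.eq_iff]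
        exact or_congr ⟨fun e => congrArg (fun z => (σ z).1) e, fun e => σ.injective (Subtype.ext e)⟩
          ⟨fun e => congrArg (fun z => (σ z).1) e, fun e => σ.injective (Subtype.ext e)⟩
      · obtain ⟨i, hi⟩ := τ.surjective ⟨x, Finset.mem_compl.2 hx⟩
        have : x = (τ i).1 := by rw [hi]
        subst this
        rw [eC]
        refine Fin.cases ?_ (fun l => ?_) i
        · rw [p0.1]; exact iff_of_true hw2 (hc0 j)
        · rw [(ps l).1, hw3, ← hπ j, ← ix_emb11, m11set, testBit_maskOf, decide_eq_true_eq,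
            Finset.mem_map' emb11, Finset.mem_map_equiv, Equiv.symm_apply_apply]
          simp [S]
  have hcomb : ∀ (d n : ℕ), n ≤ 12 → L (wordOf (xorComb (fun k => genList.getD k 0) d n)) ∈ C := by
    intro d n hn
    induction n with
    | zero => rw [show xorComb (fun k => genList.getD k 0) d 0 = 0 from rfl, wordOf_zero, map_zero]; exact C.zero_mem
    | succ n ih =>
      rw [xorComb_succ, wordOf_xor, map_add]
      refine C.add_mem (ih (by omega)) ?_
      rw [bitAt_eq]
      split
      · rw [one_mul]; exact hgens n (by omega)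
      · rw [zero_mul, wordOf_zero, map_zero]; exact C.zero_mem
  have hbasis : ∀ (d n : ℕ), n ≤ 12 → L (wordOf (xorComb basisMask d n)) ∈ C := by
    intro d n hn
    induction n with
    | zero => rw [show xorComb basisMask d 0 = 0 from rfl, wordOf_zero, map_zero]; exact C.zero_mem
    | succ n ih =>
      rw [xorComb_succ, wordOf_xor, map_add]
      refine C.add_mem (ih (by omega)) ?_
      rw [bitAt_eq]
      split
      · rw [one_mul, ← basis_from_gens n (by omega)]; exact hcomb _ 12 le_rfl
      · rw [zero_mul, wordOf_zero, map_zero]; exact C.zero_mem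
  have hfin : finrank F₂ golayCode = 12 := by
    have hc : Nat.card golayCode = 4096 := by
      refine (Nat.card_eq_of_bijective (fun k : Fin 4096 => (⟨wordOf (enc k),
        mem_golayCode_iff.2 ⟨k, k.2, rfl⟩⟩ : golayCode)) ⟨fun a b h => ?_, fun w => ?_⟩).symm.trans (Nat.card_fin _)
      · exact Fin.ext (enc_inj a.2 b.2 (wordOf_inj (enc_lt a.2) (enc_lt b.2) (congrArg Subtype.val h)))
      · obtain ⟨k, hk, hw⟩ := mem_golayCode_iff.1 w.2
        exact ⟨⟨k, hk⟩, Subtype.ext hw⟩
    rw [Module.natCard_eq_pow_finrank (K := F₂), Nat.card_zmod] at hc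
    exact Nat.pow_right_injective (le_refl 2) (hc.trans (by norm_num : (4096 : ℕ) = 2 ^ 12))
  have heq : golayCode.map (L : (GolayPt → F₂) →ₗ[F₂] (α → F₂)) = C := by
    refine Submodule.eq_of_le_of_finrank_eq ?_ (by rw [LinearEquiv.finrank_map_eq, hfin, h.dim])
    rintro _ ⟨w, hw, rfl⟩
    obtain ⟨k, -, rfl⟩ := mem_golayCode_iff.1 hw
    exact hbasis k 12 le_rfl
  refine ⟨e, fun w => ?_⟩
  show _ ↔ L w ∈ C
  rw [← heq]
  exact ⟨fun hw => ⟨w, hw, rfl⟩, fun ⟨v, hv, ev⟩ => L.injective ev ▸ hv⟩

end Main

end CfsgLib.Sporadic.Uniq
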