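import Cfsg.Agent.Lib.Sporadic.LeechClasses
import Cfsg.Agent.Lib.ThreeTrans.Co0Elts

/-!
# Minimal vectors generate; congruent short vectors
-/

set_option autoImplicit false

namespace CfsgLib.Sporadic.Conway

open Cfsg Finset CfsgLib.ThreeTrans.Leech CfsgLib.Sporadic.Lattice

theorem closure_min :
    AddSubgroup.closure {x : GolayPt → ℤ | x ∈ leechLattice ∧ sqNorm x = 32} = leechLattice := by
  refine le_antisymm ((AddSubgroup.closure_le _).2 fun x hx => hx.1) (le_of_gen fun x hx => ?_)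
  have hL := mem_iff.2 (isL_gen hx)
  have sub : ∀ y, y ∈ leechLattice → sqNorm y = 32 →
      y ∈ AddSubgroup.closure {x : GolayPt → ℤ | x ∈ leechLattice ∧ sqNorm x = 32} :=
    fun y h1 h2 => AddSubgroup.subset_closure ⟨h1, h2⟩
  rcases hx with rfl | ⟨i, rfl⟩ | ⟨b, hb, rfl⟩
  · exact sub _ hL (by decide +kernel)
  · by_cases hi : i = none
    · subst hi
      have h1 := mem_iff.2 (isL_pair (some 0) none)
      rw [← add_sub_cancel (pairVec (some 0) none) (pairVec none none)]
      refine add_mem (sub _ h1 (by decide +kernel)) (sub _ (sub_mem hL h1) (by decide +kernel))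
    · refine sub _ hL ?_
      exact (by decide +kernel : ∀ j : GolayPt, j ≠ none → sqNorm (pairVec j none) = 32) i hi
  · exact sub _ hL ((by decide +kernel :
      ∀ c < 12, sqNorm (octVec (setOfMask (basisMask c))) = 32) b hb)

theorem congr_short {x y : GolayPt → ℤ} (hx : x ∈ leechLattice) (hy : y ∈ leechLattice) (hxy : x ≠ y)
    (hxn : sqNorm x ≤ 64) (hyn : sqNorm y ≤ 64) (hc : ∃ z ∈ leechLattice, x - y = 2 • z) :
    x = -y ∨ (sqNorm x = 64 ∧ sqNorm y = 64 ∧ dotInt x y = 0) := by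
  obtain ⟨z, hz, e⟩ := hc
  obtain ⟨h1, h2⟩ := short_congr (mem_iff.1 hy) (mem_iff.1 hz) hxn hyn e
  by_cases h64 : sqNorm x = 64
  · rcases frame_orth hy hz h64 (h1 ▸ h64) e with h | h | h
    · exact absurd h.symm hxy
    · exact Or.inl (by rw [h, neg_neg])
    · exact Or.inr ⟨h64, h1 ▸ h64, h⟩
  · rcases h2 (lt_of_le_of_ne hxn h64) with h | h
    · exact absurd h.symm hxy
    · exact Or.inl (by rw [h, neg_neg])

end CfsgLib.Sporadic.Conway
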