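import Cfsg.Agent.Lib.Sporadic.ConwayOrder

/-!
# Minimal vectors by inner product with a given one

Sign changes and permutations make the second moment of the minimal vectors a multiple of the
squared length; with the count of orthogonal pairs, read off from the frames, this determines the
census.
-/

set_option autoImplicit false

namespace CfsgLib.Sporadic.Conway

open Cfsg Finset CfsgLib.ThreeTrans.Leech CfsgLib.Sporadic.Lattice
open scoped Pointwise

theorem sq_add_dot (x y : Vec) : sqNorm (x + y) = sqNorm x + sqNorm y + 2 * dotInt x y := by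
  simp only [sqNorm, dotInt, Finset.mul_sum, ← Finset.sum_add_distrib]
  exact Finset.sum_congr rfl fun i _ => by rw [Pi.add_apply]; ring

theorem sq_sub_dot (x y : Vec) : sqNorm (x - y) = sqNorm x + sqNorm y - 2 * dotInt x y := by
  simp only [sqNorm, dotInt, Finset.mul_sum, ← Finset.sum_add_distrib, ← Finset.sum_sub_distrib]
  exact Finset.sum_congr rfl fun i _ => by rw [Pi.sub_apply]; ring

theorem dot_neg_right (x y : Vec) : dotInt x (-y) = -dotInt x y := by
  simp [dotInt]

theorem dot_smul' (g : ↥Co0) (v w : ↥leechLattice) :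
    dotInt ((g • v : ↥leechLattice) : Vec) ((g • w : ↥leechLattice) : Vec) = dotInt (v : Vec) (w : Vec) := by
  have h1 := norm_smul' g (v + w)
  rw [show g • (v + w) = g • v + g • w from map_add (linOf g) v w, AddSubgroup.coe_add, sq_add_dot,
    AddSubgroup.coe_add, sq_add_dot, norm_smul', norm_smul'] at h1
  linarith

/-- Inner products of minimal vectors. -/
theorem dot_cases {v w : Vec} (hv : v ∈ leechLattice) (hw : w ∈ leechLattice) (hvn : sqNorm v = 32)
    (hwn : sqNorm w = 32) :
    w = v ∨ w = -v ∨ dotInt v w = -16 ∨ dotInt v w = -8 ∨ dotInt v w = 0 ∨ dotInt v w = 8 ∨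
      dotInt v w = 16 := by
  by_cases h1 : v - w = 0
  · exact Or.inl (sub_eq_zero.1 h1).symm
  by_cases h2 : v + w = 0
  · exact Or.inr (Or.inl (eq_neg_of_add_eq_zero_right h2))
  have a1 := norm_ge (mem_iff.1 (sub_mem hv hw)) h1
  have a2 := norm_ge (mem_iff.1 (add_mem hv hw)) h2
  have a3 := norm_dvd (mem_iff.1 (add_mem hv hw))
  rw [sq_sub_dot, hvn, hwn] at a1
  rw [sq_add_dot, hvn, hwn] at a2 a3
  omega

/-! ### the second moment -/

/-- Sums of products of coordinates over the minimal vectors. -/
noncomputable def moment (i j : GolayPt) : ℤ := ∑ w ∈ shell 32, w i * w j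

theorem flip_mem_shell {s : Finset GolayPt} (hs : s ∈ supports (golayCode : Set (GolayPt → ZMod 2)))
    {w : Vec} (hw : w ∈ shell 32) : flipVec s w ∈ shell 32 := by
  rw [mem_shell] at hw ⊢
  exact ⟨mem_iff.2 (isL_flip hs (mem_iff.1 hw.1)), (norm_flip s w).trans hw.2⟩

theorem moment_off {i j : GolayPt} (h : i ≠ j) : moment i j = 0 := by
  obtain ⟨c, hc, hi, hj⟩ := exists_avoid h
  have : moment i j = -moment i j := by
    rw [moment, ← Finset.sum_neg_distrib]
    refine Finset.sum_nbij' (flipVec c) (flipVec c) (fun w hw => flip_mem_shell hc hw)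
      (fun w hw => flip_mem_shell hc hw) (fun w _ => ThreeTrans.Leech.flip_flip c w)
      (fun w _ => ThreeTrans.Leech.flip_flip c w) fun w _ => ?_
    simp only [flipVec, if_neg hi, if_pos hj]
    ring
  omega

theorem moment_diag (i : GolayPt) : moment i i = 262080 := by
  have hconst : ∀ j, moment j j = moment i i := fun j => by
    obtain ⟨g, hg⟩ := exists_map_list (xs := [i]) (ys := [j]) (by simp) (by simp) rfl (by simp)
    simp only [List.map_cons, List.map_nil, List.cons.injEq, and_true] at hg
    refine Finset.sum_nbij' (permVec g.1⁻¹) (permVec g.1) (fun w hw => ?_) (fun w hw => ?_)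
      (fun w _ => funext fun k => congrArg w (g.1.apply_symm_apply k))
      (fun w _ => funext fun k => congrArg w (g.1.symm_apply_apply k)) fun w _ => ?_
    · rw [mem_shell] at hw ⊢
      exact ⟨mem_iff.2 (isL_perm (inv_mem g.2) (mem_iff.1 hw.1)), (norm_perm _ w).trans hw.2⟩
    · rw [mem_shell] at hw ⊢
      exact ⟨mem_iff.2 (isL_perm g.2 (mem_iff.1 hw.1)), (norm_perm _ w).trans hw.2⟩
    · show w j * w j = w (g.1⁻¹.symm i) * w (g.1⁻¹.symm i)
      rw [← hg]; rfl
  have htot : ∑ k, moment k k = 32 * (196560 : ℕ) := by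
    simp only [moment]
    rw [Finset.sum_comm, Finset.sum_congr rfl (g := fun _ => (32 : ℤ)) fun w hw => by
        rw [← (mem_shell.1 hw).2]; exact Finset.sum_congr rfl fun k _ => (sq (w k)).symm,
      Finset.sum_const, card_shell, count32, nsmul_eq_mul, mul_comm]
  rw [Finset.sum_congr rfl fun k _ => hconst k, Finset.sum_const, card_pts, nsmul_eq_mul] at htot
  push_cast at htot
  linarith

theorem second_moment (x : Vec) : ∑ w ∈ shell 32, dotInt x w ^ 2 = 262080 * sqNorm x := by
  have e : ∀ w : Vec, dotInt x w ^ 2 = ∑ i, ∑ j, (x i * x j) * (w i * w j) := fun w => by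
    rw [dotInt, sq, Finset.sum_mul_sum]
    exact Finset.sum_congr rfl fun i _ => Finset.sum_congr rfl fun j _ => by ring
  rw [Finset.sum_congr rfl fun w _ => e w, Finset.sum_comm, sqNorm, Finset.mul_sum]
  refine Finset.sum_congr rfl fun i _ => ?_
  rw [Finset.sum_comm]
  simp only [← Finset.mul_sum]
  rw [Finset.sum_eq_single i (fun j _ hj => by
    show x i * x j * moment i j = 0
    rw [moment_off (Ne.symm hj), mul_zero]) (by simp)]
  show x i * x i * moment i i = _
  rw [moment_diag]
  ring

/-! ### orthogonal pairs -/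

/-- The minimal vectors with a given inner product with `v`. -/
noncomputable def dotClass (v : Vec) (k : ℤ) : Finset Vec := (shell 32).filter fun w => dotInt v w = k

/-- The minimal vectors that split `u` into two. -/
noncomputable def splits (u : Vec) : Finset Vec := (shell 32).filter fun v => u - v ∈ shell 32

theorem card_splits_smul (g : ↥Co0) (u : ↥leechLattice) :
    (splits ((g • u : ↥leechLattice) : Vec)).card = (splits (u : Vec)).card := by
  symm
  refine Finset.card_bij (fun v hv => ((g • (⟨v, (mem_shell.1 (Finset.mem_filter.1 hv).1).1⟩ :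
    ↥leechLattice) : ↥leechLattice) : Vec)) (fun v hv => ?_) (fun a ha b hb e => ?_) fun w hw => ?_
  · obtain ⟨h1, h2⟩ := Finset.mem_filter.1 hv
    refine Finset.mem_filter.2 ⟨mem_shell.2 ⟨SetLike.coe_mem _, (norm_smul' g _).trans (mem_shell.1 h1).2⟩,
      mem_shell.2 ⟨sub_mem (SetLike.coe_mem _) (SetLike.coe_mem _), ?_⟩⟩
    rw [← AddSubgroup.coe_sub, ← smul_sub', norm_smul', AddSubgroup.coe_sub]
    exact (mem_shell.1 h2).2
  · exact congrArg Subtype.val (MulAction.injective g (Subtype.ext e))
  · obtain ⟨h1, h2⟩ := Finset.mem_filter.1 hw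
    obtain ⟨z, hz⟩ : ∃ z : ↥leechLattice, g • z = ⟨w, (mem_shell.1 h1).1⟩ := ⟨_, smul_inv_smul g _⟩
    have hz' : ((g • z : ↥leechLattice) : Vec) = w := congrArg Subtype.val hz
    refine ⟨(z : Vec), Finset.mem_filter.2 ⟨mem_shell.2 ⟨z.2, ?_⟩, mem_shell.2 ⟨sub_mem u.2 z.2, ?_⟩⟩, hz'⟩
    · rw [← norm_smul' g, hz']; exact (mem_shell.1 h1).2
    · rw [← AddSubgroup.coe_sub, ← norm_smul' g, smul_sub', AddSubgroup.coe_sub, hz']
      exact (mem_shell.1 h2).2

theorem card_dotClass_smul (g : ↥Co0) (v : ↥leechLattice) (k : ℤ) :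
    (dotClass ((g • v : ↥leechLattice) : Vec) k).card = (dotClass (v : Vec) k).card := by
  symm
  refine Finset.card_bij (fun w hw => ((g • (⟨w, (mem_shell.1 (Finset.mem_filter.1 hw).1).1⟩ :
    ↥leechLattice) : ↥leechLattice) : Vec)) (fun w hw => ?_) (fun a ha b hb e => ?_) fun w hw => ?_
  · obtain ⟨h1, h2⟩ := Finset.mem_filter.1 hw
    exact Finset.mem_filter.2 ⟨mem_shell.2 ⟨SetLike.coe_mem _, (norm_smul' g _).trans (mem_shell.1 h1).2⟩,
      (dot_smul' g v _).trans h2⟩
  · exact congrArg Subtype.val (MulAction.injective g (Subtype.ext e))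
  · obtain ⟨h1, h2⟩ := Finset.mem_filter.1 hw
    obtain ⟨z, hz⟩ : ∃ z : ↥leechLattice, g • z = ⟨w, (mem_shell.1 h1).1⟩ := ⟨_, smul_inv_smul g _⟩
    have hz' : ((g • z : ↥leechLattice) : Vec) = w := congrArg Subtype.val hz
    refine ⟨(z : Vec), Finset.mem_filter.2 ⟨mem_shell.2 ⟨z.2, ?_⟩, ?_⟩, hz'⟩
    · rw [← norm_smul' g, hz']; exact (mem_shell.1 h1).2
    · rw [← dot_smul' g v z, hz']; exact h2

theorem transfer {n : ℤ} {t : Vec} (hn : ∀ x ∈ shell n, Rel x t) (F : Vec → ℕ)
    (hF : ∀ (g : ↥Co0) (v : ↥leechLattice), F ((g • v : ↥leechLattice) : Vec) = F (v : Vec))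
    {x : Vec} (hx : x ∈ shell n) : F x = F t := by
  obtain ⟨h, g, e⟩ := hn x hx
  rw [← e, hF g ⟨x, h⟩]

theorem card_pairs (n : ℤ) (k : ℤ) (hk : 64 + 2 * k = n) (F : ℕ)
    (hF : ∀ u ∈ shell n, (splits u).card = F) (D : ℕ) (hD : ∀ v ∈ shell 32, (dotClass v k).card = D) :
    196560 * D = (shell n).card * F := by
  have h1 : ((shell 32).sigma fun v => dotClass v k).card = 196560 * D := by
    rw [Finset.card_sigma, Finset.sum_congr rfl hD, Finset.sum_const, card_shell, count32, smul_eq_mul]
  have h2 : ((shell n).sigma fun u => splits u).card = (shell n).card * F := by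
    rw [Finset.card_sigma, Finset.sum_congr rfl hF, Finset.sum_const, smul_eq_mul]
  rw [← h1, ← h2]
  refine Finset.card_nbij' (fun p => ⟨p.1 + p.2, p.1⟩) (fun p => ⟨p.2, p.1 - p.2⟩) ?_ ?_ ?_ ?_
  · rintro ⟨v, w⟩ hp
    simp only [Finset.mem_coe, Finset.mem_sigma, dotClass, splits, Finset.mem_filter, mem_shell] at hp ⊢
    refine ⟨⟨add_mem hp.1.1 hp.2.1.1, ?_⟩, hp.1, ?_⟩
    · rw [sq_add_dot, hp.1.2, hp.2.1.2, hp.2.2]; omega
    · rw [add_sub_cancel_left]; exact hp.2.1
  · rintro ⟨u, v⟩ hp
    simp only [Finset.mem_coe, Finset.mem_sigma, dotClass, splits, Finset.mem_filter, mem_shell] at hp ⊢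
    refine ⟨hp.2.1, hp.2.2, ?_⟩
    have := sq_add_dot v (u - v)
    rw [add_sub_cancel, hp.1.2, hp.2.1.2, hp.2.2.2] at this
    omega
  · rintro ⟨v, w⟩ -
    simp
  · rintro ⟨u, v⟩ -
    simp

theorem dot_eightVec (v : Vec) : dotInt (eightVec none) v = 8 * v none := by
  simp [dotInt, eightVec]

theorem splits_eight : (splits (eightVec none)).card = 46 := by
  let T : Finset Vec := ((Finset.univ.erase none) ×ˢ ({4, -4} : Finset ℤ)).image fun p =>
    fun k => if k = none then 4 else if k = p.1 then p.2 else 0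
  have hT : T.card = 46 := by
    rw [Finset.card_image_of_injOn]
    · rfl
    · rintro ⟨i, a⟩ hi ⟨j, b⟩ hj e
      simp only [Finset.coe_product, Finset.coe_erase, Finset.coe_univ, Set.mem_prod, Set.mem_sdiff,
        Set.mem_univ, true_and, Set.mem_singleton_iff, Finset.coe_insert, Finset.coe_singleton,
        Set.mem_insert_iff] at hi hj
      have e' := congrFun e i
      simp only [if_neg hi.1, if_true] at e'
      split_ifs at e' with h
      · subst h; rw [e']
      · omega
  rw [← hT]
  congr 1
  ext v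
  simp only [splits, Finset.mem_filter, mem_shell, T, Finset.mem_image, Finset.mem_product,
    Finset.mem_erase, Finset.mem_univ, and_true, Finset.mem_insert, Finset.mem_singleton, Prod.exists]
  constructor
  · rintro ⟨⟨hv, hn⟩, -, hn'⟩
    rw [sq_sub_dot, norm_eight, hn, dot_eightVec] at hn'
    have h4 : v none = 4 := by omega
    rcases split_family (mem_iff.1 hv) (N := 8) (by norm_num) (by rw [hn]; norm_num) with h | h
    · obtain ⟨e, rfl, hval, hN, hsup, -⟩ := even_reduce h
      have hw := card_code_support hsup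
      have hmem : none ∈ lev e 2 := by
        rw [mem_lev]; show |e none| = 2
        have : 2 * e none = 4 := h4
        rw [show e none = 2 by omega]; rfl
      have hb : 0 < (lev e 2).card := Finset.card_pos.2 ⟨none, hmem⟩
      have hd : Disjoint (lev e 1) (lev e 3) :=
        Finset.disjoint_left.2 fun i h h' => by rw [mem_lev] at h h'; omega
      rw [Finset.card_union_of_disjoint hd] at hw
      have hb2 : (lev e 2).card = 2 := by omega
      obtain ⟨i, hi⟩ : ∃ i, i ∈ (lev e 2).erase none :=
        Finset.card_pos.1 (by rw [Finset.card_erase_of_mem hmem]; omega)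
      obtain ⟨hi0, hi2⟩ := Finset.mem_erase.1 hi
      have heq : lev e 2 = {none, i} := (Finset.eq_of_subset_of_card_le
        (Finset.insert_subset hmem (Finset.singleton_subset_iff.2 hi2))
        (by rw [hb2, Finset.card_pair (Ne.symm hi0)])).symm
      refine ⟨i, 2 * e i, ⟨hi0, ?_⟩, funext fun k => ?_⟩
      · rcases abs_choice (e i) with h' | h' <;> rw [mem_lev] at hi2 <;> omega
      · show (if k = none then 4 else if k = i then 2 * e i else 0) = 2 * e k
        split_ifs with h1 h2
        · subst h1; exact h4.symm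
        · subst h2; rfl
        · have hk : k ∉ lev e 2 := by rw [heq]; simp [h1, h2]
          have n1 : k ∉ lev e 1 := fun h' => by
            have := Finset.card_pos.2 ⟨k, h'⟩; omega
          rw [mem_lev] at hk n1
          have n3 : |e k| ≠ 3 := fun h' => by
            have := Finset.card_pos.2 ⟨k, mem_lev.2 h'⟩; omega
          have n4 : |e k| ≠ 4 := fun h' => by
            have := Finset.card_pos.2 ⟨k, mem_lev.2 h'⟩; omega
          rcases hval k with h' | h' | h' | h' | h' <;> first
            | (rw [abs_eq_zero] at h'; omega)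
            | omega
    · have := h.2.2 none
      simp only [List.mem_cons, List.not_mem_nil, or_false] at this
      omega
  · rintro ⟨i, a, ⟨hi, ha⟩, rfl⟩
    have key : ∀ i : GolayPt, i ≠ none → ∀ a ∈ ({4, -4} : Finset ℤ),
        LTest (fun k => if k = none then 4 else if k = i then a else 0) ∧
        LTest (eightVec none - fun k => if k = none then 4 else if k = i then a else 0) ∧
        sqNorm (fun k : GolayPt => if k = none then 4 else if k = i then a else 0) = 32 ∧
        sqNorm (eightVec none - fun k => if k = none then 4 else if k = i then a else 0) = 32 := by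
      decide +kernel
    obtain ⟨k1, k2, k3, k4⟩ := key i hi a (by simpa using ha)
    exact ⟨⟨mem_iff.2 (isL_of_test k1), k3⟩, mem_iff.2 (isL_of_test k2), k4⟩

theorem rel64 : ∀ x ∈ shell 64, Rel x (vecOf rv_eight) := fun x hx =>
  orbit64 (mem_shell.1 hx).1 (mem_shell.1 hx).2

theorem rel48 : ∀ x ∈ shell 48, Rel x (vecOf rv_five) := fun x hx =>
  orbit48 (mem_shell.1 hx).1 (mem_shell.1 hx).2

theorem rel32 : ∀ x ∈ shell 32, Rel x (vecOf rv_pair) := fun x hx =>
  orbit32 (mem_shell.1 hx).1 (mem_shell.1 hx).2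

theorem card_orth {v : Vec} (hv : v ∈ shell 32) : (dotClass v 0).card = 93150 := by
  have h := card_pairs 64 0 (by norm_num) 46
    (fun u hu => by
      rw [transfer rel64 (fun x => (splits x).card) card_splits_smul hu, rv_eight_eq, splits_eight])
    ((dotClass (vecOf rv_pair) 0).card)
    (fun w hw => transfer rel32 (fun x => (dotClass x 0).card) (fun g z => card_dotClass_smul g z 0) hw)
  rw [card_shell, count64] at h
  rw [transfer rel32 (fun x => (dotClass x 0).card) (fun g z => card_dotClass_smul g z 0) hv]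
  omega

theorem dotClass_neg (v : Vec) (k : ℤ) : (dotClass v (-k)).card = (dotClass v k).card := by
  refine Finset.card_nbij' (fun w => -w) (fun w => -w) ?_ ?_ (fun w _ => neg_neg w) (fun w _ => neg_neg w)
  all_goals
    intro w hw
    simp only [dotClass, Finset.mem_coe, Finset.mem_filter] at hw ⊢
    refine ⟨neg_mem_shell hw.1, ?_⟩
    rw [dot_neg_right, hw.2]
  · exact neg_neg k

theorem census {v : Vec} (hv : v ∈ shell 32) :
    (dotClass v (-16)).card = 4600 ∧ (dotClass v (-8)).card = 47104 ∧ (dotClass v 0).card = 93150 := by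
  obtain ⟨hvL, hvn⟩ := mem_shell.1 hv
  have hvv : dotInt v v = 32 := by
    rw [← hvn]; exact Finset.sum_congr rfl fun i _ => (sq (v i)).symm
  let K : Finset ℤ := {32, -32, 16, -16, 8, -8, 0}
  have hmaps : ∀ w ∈ shell 32, dotInt v w ∈ K := by
    intro w hw
    obtain ⟨hwL, hwn⟩ := mem_shell.1 hw
    simp only [K, Finset.mem_insert, Finset.mem_singleton]
    rcases dot_cases hvL hwL hvn hwn with rfl | rfl | h | h | h | h | h
    · exact Or.inl hvv
    · exact Or.inr (Or.inl (by rw [dot_neg_right, hvv]))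
    all_goals omega
  have hone : (dotClass v 32).card = 1 := by
    rw [Finset.card_eq_one]
    refine ⟨v, Finset.eq_singleton_iff_unique_mem.2 ⟨Finset.mem_filter.2 ⟨hv, hvv⟩, fun w hw => ?_⟩⟩
    obtain ⟨h1, h2⟩ := Finset.mem_filter.1 hw
    obtain ⟨hwL, hwn⟩ := mem_shell.1 h1
    rcases dot_cases hvL hwL hvn hwn with rfl | rfl | h | h | h | h | h
    · rfl
    · rw [dot_neg_right, hvv] at h2; norm_num at h2
    all_goals omega
  have hcount : (shell 32).card = ∑ k ∈ K, (dotClass v k).card := by
    rw [Finset.card_eq_sum_card_fiberwise (f := dotInt v) (t := K) hmaps]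
    exact Finset.sum_congr rfl fun k _ => rfl
  have hmom := second_moment v
  rw [← Finset.sum_fiberwise_of_maps_to hmaps, hvn,
    Finset.sum_congr rfl (g := fun k => ((dotClass v k).card : ℤ) * k ^ 2) fun k _ => by
      rw [dotClass, Finset.sum_congr rfl fun w hw => by rw [(Finset.mem_filter.1 hw).2],
        Finset.sum_const, nsmul_eq_mul]] at hmom
  have e32 := dotClass_neg v 32
  have e16 := dotClass_neg v 16
  have e8 := dotClass_neg v 8
  have h0 := card_orth hv
  simp only [K] at hcount hmom
  rw [card_shell, count32] at hcount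
  rw [Finset.sum_insert (by decide), Finset.sum_insert (by decide), Finset.sum_insert (by decide),
    Finset.sum_insert (by decide), Finset.sum_insert (by decide), Finset.sum_insert (by decide),
    Finset.sum_singleton] at hcount hmom
  norm_num at hmom
  omega

theorem splits48 {u : Vec} (hu : u ∈ shell 48) : (splits u).card = 552 := by
  have h := card_pairs 48 (-8) (by norm_num) ((splits (vecOf rv_five)).card)
    (fun w hw => transfer rel48 (fun x => (splits x).card) card_splits_smul hw)
    47104 fun v hv => (census hv).2.1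
  rw [card_shell, count48] at h
  rw [transfer rel48 (fun x => (splits x).card) card_splits_smul hu]
  omega

theorem inner_product_census {v : Vec} (hv : v ∈ leechLattice) (hvn : sqNorm v = 32) :
    {w : Vec | w ∈ leechLattice ∧ sqNorm w = 32 ∧ dotInt v w = -16}.ncard = 4600 ∧
    {w : Vec | w ∈ leechLattice ∧ sqNorm w = 32 ∧ dotInt v w = -8}.ncard = 47104 ∧
    {w : Vec | w ∈ leechLattice ∧ sqNorm w = 32 ∧ dotInt v w = 0}.ncard = 93150 := by
  have e : ∀ k, {w : Vec | w ∈ leechLattice ∧ sqNorm w = 32 ∧ dotInt v w = k}.ncard = (dotClass v k).card :=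
    fun k => by
      rw [← Set.ncard_coe_finset]
      congr 1
      ext w
      simp [dotClass, mem_shell, and_assoc]
  rw [e, e, e]
  exact census (mem_shell.2 ⟨hv, hvn⟩)

theorem sum_decompositions {u : ↥leechLattice} (hu : sqNorm (u : Vec) = 48) :
    {v : ↥leechLattice | sqNorm (v : Vec) = 32 ∧ sqNorm ((u - v) : Vec) = 32}.ncard = 552 := by
  rw [← splits48 (mem_shell.2 ⟨u.2, hu⟩), ← Set.ncard_coe_finset,
    ← Set.ncard_image_of_injective _ Subtype.val_injective]
  congr 1
  ext w
  simp only [Set.mem_image, Set.mem_ofPred_eq, splits, Finset.coe_filter, mem_shell]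
  constructor
  · rintro ⟨v, ⟨h1, h2⟩, rfl⟩
    exact ⟨⟨v.2, h1⟩, sub_mem u.2 v.2, h2⟩
  · rintro ⟨⟨hw, h1⟩, -, h2⟩
    exact ⟨⟨w, hw⟩, ⟨h1, h2⟩, rfl⟩

end CfsgLib.Sporadic.Conway
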