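import Cfsg.Agent.Lib.Sporadic.ConwayData
import Cfsg.Agent.Lib.Sporadic.ConwayBasic

/-!
# The orbit relation and checked paths
-/

set_option autoImplicit false

namespace CfsgLib.Sporadic.Conway

open Cfsg Finset CfsgLib.ThreeTrans.Leech

/-- Some automorphism carries `x` to `y`. -/
def Rel (x y : Vec) : Prop :=
  ∃ (hx : x ∈ leechLattice) (g : ↥Co0), ((g • (⟨x, hx⟩ : ↥leechLattice) : ↥leechLattice) : Vec) = y

theorem Rel.mem {x y : Vec} (h : Rel x y) : y ∈ leechLattice := by
  obtain ⟨hx, g, rfl⟩ := h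
  exact SetLike.coe_mem _

theorem Rel.left_mem {x y : Vec} (h : Rel x y) : x ∈ leechLattice := h.choose

theorem Rel.refl {x : Vec} (hx : x ∈ leechLattice) : Rel x x := ⟨hx, 1, by rw [one_smul]⟩

theorem Rel.trans {x y z : Vec} (h1 : Rel x y) (h2 : Rel y z) : Rel x z := by
  obtain ⟨hx, g, e1⟩ := h1
  obtain ⟨hy, k, e2⟩ := h2
  refine ⟨hx, k * g, ?_⟩
  rw [mul_smul, show g • (⟨x, hx⟩ : ↥leechLattice) = ⟨y, hy⟩ from Subtype.ext e1]
  exact e2

theorem Rel.symm {x y : Vec} (h : Rel x y) : Rel y x := by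
  obtain ⟨hx, g, e⟩ := h
  have hy : y ∈ leechLattice := e ▸ SetLike.coe_mem _
  refine ⟨hy, g⁻¹, ?_⟩
  rw [show (⟨y, hy⟩ : ↥leechLattice) = g • ⟨x, hx⟩ from Subtype.ext e.symm, inv_smul_smul]

theorem rel_perm {σ : Equiv.Perm GolayPt} (hσ : σ ∈ M24) {x : Vec} (hx : x ∈ leechLattice) :
    Rel x (permVec σ x) := ⟨hx, permElt hσ, permElt_apply hσ _⟩

theorem rel_flip {s : Finset GolayPt} (hs : s ∈ supports (golayCode : Set (GolayPt → ZMod 2)))
    {x : Vec} (hx : x ∈ leechLattice) : Rel x (flipVec s x) := ⟨hx, flipElt hs, flipElt_apply hs _⟩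

theorem rel_xi {x : Vec} (hx : x ∈ leechLattice) : Rel x (xi x) := ⟨hx, xiElt, xiElt_apply _⟩

/-- The monomial automorphisms, as generated by sign changes and permutations. -/
def monoGens : Subgroup ↥Co0 :=
  Subgroup.closure ({g | ∃ (s : Finset GolayPt) (hs : s ∈ supports (golayCode : Set (GolayPt → ZMod 2))),
    g = flipElt hs} ∪ {g | ∃ (σ : Equiv.Perm GolayPt) (hσ : σ ∈ M24), g = permElt hσ})

theorem flipElt_mem_monoGens {s : Finset GolayPt} (hs : s ∈ supports (golayCode : Set (GolayPt → ZMod 2))) :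
    flipElt hs ∈ monoGens := Subgroup.subset_closure (Or.inl ⟨s, hs, rfl⟩)

theorem permElt_mem_monoGens {σ : Equiv.Perm GolayPt} (hσ : σ ∈ M24) : permElt hσ ∈ monoGens :=
  Subgroup.subset_closure (Or.inr ⟨σ, hσ, rfl⟩)

/-- A monomial automorphism carries `x` to `y`. -/
def RelN (x y : Vec) : Prop :=
  ∃ (hx : x ∈ leechLattice) (g : ↥Co0), g ∈ monoGens ∧
    ((g • (⟨x, hx⟩ : ↥leechLattice) : ↥leechLattice) : Vec) = y

theorem RelN.rel {x y : Vec} (h : RelN x y) : Rel x y := by
  obtain ⟨hx, g, -, e⟩ := h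
  exact ⟨hx, g, e⟩

theorem RelN.mem {x y : Vec} (h : RelN x y) : y ∈ leechLattice := h.rel.mem

theorem RelN.trans {x y z : Vec} (h1 : RelN x y) (h2 : RelN y z) : RelN x z := by
  obtain ⟨hx, g, hg, e1⟩ := h1
  obtain ⟨hy, k, hk, e2⟩ := h2
  refine ⟨hx, k * g, mul_mem hk hg, ?_⟩
  rw [mul_smul, show g • (⟨x, hx⟩ : ↥leechLattice) = ⟨y, hy⟩ from Subtype.ext e1]
  exact e2

theorem relN_perm {σ : Equiv.Perm GolayPt} (hσ : σ ∈ M24) {x : Vec} (hx : x ∈ leechLattice) :
    RelN x (permVec σ x) := ⟨hx, permElt hσ, permElt_mem_monoGens hσ, permElt_apply hσ _⟩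

theorem relN_flip {s : Finset GolayPt} (hs : s ∈ supports (golayCode : Set (GolayPt → ZMod 2)))
    {x : Vec} (hx : x ∈ leechLattice) : RelN x (flipVec s x) :=
  ⟨hx, flipElt hs, flipElt_mem_monoGens hs, flipElt_apply hs _⟩

theorem Rel.norm {x y : Vec} (h : Rel x y) : sqNorm y = sqNorm x := by
  obtain ⟨hx, g, rfl⟩ := h
  exact g.2.2 _

/-- The vector with the listed entries. -/
def vecOf (l : List ℤ) : Vec := fun i => l.getD (ix i) 0

/-- A single step. -/
noncomputable def stepRel (kind par : ℕ) (a b : List ℤ) : Bool :=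
  match kind with
  | 0 => decide (∀ i, xi (vecOf a) i = vecOf b i)
  | 1 => isAut par && forallLt 24 fun i => decide (b.getD (pget par i) 0 = a.getD i 0)
  | _ => inCode par && forallLt 24 fun i =>
      decide (b.getD i 0 = cond (Nat.beq (bitAt par i) 1) (-(a.getD i 0)) (a.getD i 0))

/-- A path from `a` to `target`. -/
noncomputable def pathOK (target : List ℤ) : List ℤ → List (ℕ × ℕ × List ℤ) → Bool
  | a, [] => decide (a = target)
  | a, (k, p, b) :: rest => stepRel k p a b && pathOK target b rest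

theorem stepRel_spec {kind par : ℕ} {a b : List ℤ} (h : stepRel kind par a b = true)
    (ha : vecOf a ∈ leechLattice) : Rel (vecOf a) (vecOf b) := by
  unfold stepRel at h
  split at h
  · rw [decide_eq_true_eq] at h
    exact funext h ▸ rel_xi ha
  · simp only [Bool.and_eq_true, forallLt_iff, decide_eq_true_eq] at h
    obtain ⟨g, hg⟩ := exists_M24_elt h.1
    have e : permVec g.1 (vecOf a) = vecOf b := funext fun i => by
      obtain ⟨j, rfl⟩ := g.1.surjective i
      show vecOf a (g.1.symm (g.1 j)) = vecOf b (g.1 j)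
      rw [Equiv.symm_apply_apply, vecOf, vecOf, ← hg j]
      exact (h.2 (ix j) (ix_lt j)).symm
    exact e ▸ rel_perm g.2 ha
  · simp only [Bool.and_eq_true, forallLt_iff, decide_eq_true_eq] at h
    have hs : setOfMask par ∈ supports (golayCode : Set (GolayPt → ZMod 2)) := by
      rw [mem_supports_iff, maskOf_setOfMask (inCode_lt h.1)]; exact h.1
    have e : flipVec (setOfMask par) (vecOf a) = vecOf b := funext fun i => by
      show _ = b.getD (ix i) 0
      rw [h.2 (ix i) (ix_lt i)]
      simp only [flipVec, vecOf, mem_setOfMask, bitAt_eq]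
      cases par.testBit (ix i) <;> rfl
    exact e ▸ rel_flip hs ha

theorem pathOK_spec {target : List ℤ} : ∀ (l : List (ℕ × ℕ × List ℤ)) (a : List ℤ),
    pathOK target a l = true → vecOf a ∈ leechLattice → Rel (vecOf a) (vecOf target) := by
  intro l
  induction l with
  | nil =>
    intro a h ha
    rw [show pathOK target a [] = decide (a = target) from rfl, decide_eq_true_eq] at h
    exact h ▸ Rel.refl ha
  | cons s rest ih =>
    intro a h ha
    obtain ⟨k, p, b⟩ := s
    rw [show pathOK target a ((k, p, b) :: rest) = (stepRel k p a b && pathOK target b rest) from rfl,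
      Bool.and_eq_true] at h
    have h1 := stepRel_spec h.1 ha
    exact h1.trans (ih b h.2 h1.mem)

set_option maxRecDepth 100000 in
theorem paths32 : chains32.all (fun c => pathOK rv_pair c.1 c.2) = true := by decide +kernel

set_option maxRecDepth 100000 in
theorem paths48 : chains48.all (fun c => pathOK rv_five c.1 c.2) = true := by decide +kernel

set_option maxRecDepth 100000 in
theorem paths64 : chains64.all (fun c => pathOK rv_eight c.1 c.2) = true := by decide +kernel

end CfsgLib.Sporadic.Conway
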