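import Mathlib

/-!
# Paths between representative short vectors

Vectors are listed by point index; a step is a kind (0 the sextet involution, 1 a permutation,
2 a sign change), its parameter, and the resulting vector.
-/

set_option autoImplicit false

namespace CfsgLib.Sporadic.Conway

def rv_omega : List ℤ :=
  [1, 1, 1, 1, 1, 1, 1, 1, 1, 1, 1, 1, 1, 1, 1, 1, 1, 1, 1, 1, 1, 1, 1, -3]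

def rv_oct : List ℤ :=
  [2, 2, 2, 2, 0, 2, 0, 0, 0, 0, 0, 0, 0, 0, 2, 0, 0, 2, 0, 0, 0, 0, 0, 2]

def rv_pair : List ℤ :=
  [4, 0, 0, 0, 0, 0, 0, 0, 0, 0, 0, 0, 0, 0, 0, 0, 0, 0, 0, 0, 0, 0, 0, 4]

def rv_dod : List ℤ :=
  [2, 2, 2, 2, 2, 0, 2, 0, 2, 2, 0, 0, 2, 2, 0, 0, 2, 0, 2, 0, 0, 0, 0, 0]

def rv_foct : List ℤ :=
  [2, 2, 2, 2, 4, 2, 0, 0, 0, 0, 0, 0, 0, 0, 2, 0, 0, 2, 0, 0, 0, 0, 0, -2]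

def rv_three : List ℤ :=
  [-3, -3, 1, 1, 1, 1, 1, 1, 1, 1, 1, 1, 1, 1, 1, 1, 1, 1, 1, 1, 1, 1, 1, -3]

def rv_five : List ℤ :=
  [1, 1, 1, 1, 1, 1, 1, 1, 1, 1, 1, 1, 1, 1, 1, 1, 1, 1, 1, 1, 1, 1, 1, 5]

def rv_eight : List ℤ :=
  [0, 0, 0, 0, 0, 0, 0, 0, 0, 0, 0, 0, 0, 0, 0, 0, 0, 0, 0, 0, 0, 0, 0, 8]

def rv_fours : List ℤ :=
  [4, 4, 4, 0, 0, 0, 0, 0, 0, 0, 0, 0, 0, 0, 0, 0, 0, 0, 0, 0, 0, 0, 0, 4]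

def rv_six : List ℤ :=
  [2, 2, 2, 2, 0, 2, 0, 0, 0, 0, 0, 0, 0, 0, 2, 0, 0, 2, 0, 0, 0, 0, 0, -6]

def rv_k6 : List ℤ :=
  [2, 2, 2, 2, 4, 2, 4, 0, 0, 0, 0, 0, 0, 0, 2, 0, 0, 2, 0, 0, 0, 0, 0, 2]

def rv_k7 : List ℤ :=
  [2, 2, 2, 2, 4, 2, 0, 4, 0, 0, 0, 0, 0, 0, 2, 0, 0, 2, 0, 0, 0, 0, 0, 2]

def rv_k8 : List ℤ :=
  [2, 2, 2, 2, 4, 2, 0, 0, 4, 0, 0, 0, 0, 0, 2, 0, 0, 2, 0, 0, 0, 0, 0, 2]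

def rv_k9 : List ℤ :=
  [2, 2, 2, 2, 4, 2, 0, 0, 0, 4, 0, 0, 0, 0, 2, 0, 0, 2, 0, 0, 0, 0, 0, 2]

def rv_k10 : List ℤ :=
  [2, 2, 2, 2, 4, 2, 0, 0, 0, 0, 4, 0, 0, 0, 2, 0, 0, 2, 0, 0, 0, 0, 0, 2]

def rv_k11 : List ℤ :=
  [2, 2, 2, 2, 4, 2, 0, 0, 0, 0, 0, 4, 0, 0, 2, 0, 0, 2, 0, 0, 0, 0, 0, 2]

def rv_k12 : List ℤ :=
  [2, 2, 2, 2, 4, 2, 0, 0, 0, 0, 0, 0, 4, 0, 2, 0, 0, 2, 0, 0, 0, 0, 0, 2]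

def rv_k13 : List ℤ :=
  [2, 2, 2, 2, 4, 2, 0, 0, 0, 0, 0, 0, 0, 4, 2, 0, 0, 2, 0, 0, 0, 0, 0, 2]

def rv_k15 : List ℤ :=
  [2, 2, 2, 2, 4, 2, 0, 0, 0, 0, 0, 0, 0, 0, 2, 4, 0, 2, 0, 0, 0, 0, 0, 2]

def rv_k16 : List ℤ :=
  [2, 2, 2, 2, 4, 2, 0, 0, 0, 0, 0, 0, 0, 0, 2, 0, 4, 2, 0, 0, 0, 0, 0, 2]

def rv_k18 : List ℤ :=
  [2, 2, 2, 2, 4, 2, 0, 0, 0, 0, 0, 0, 0, 0, 2, 0, 0, 2, 4, 0, 0, 0, 0, 2]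

def rv_k19 : List ℤ :=
  [2, 2, 2, 2, 4, 2, 0, 0, 0, 0, 0, 0, 0, 0, 2, 0, 0, 2, 0, 4, 0, 0, 0, 2]

def rv_k20 : List ℤ :=
  [2, 2, 2, 2, 4, 2, 0, 0, 0, 0, 0, 0, 0, 0, 2, 0, 0, 2, 0, 0, 4, 0, 0, 2]

def rv_k21 : List ℤ :=
  [2, 2, 2, 2, 4, 2, 0, 0, 0, 0, 0, 0, 0, 0, 2, 0, 0, 2, 0, 0, 0, 4, 0, 2]

def rv_k22 : List ℤ :=
  [2, 2, 2, 2, 4, 2, 0, 0, 0, 0, 0, 0, 0, 0, 2, 0, 0, 2, 0, 0, 0, 0, 4, 2]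

def rv_ltwelve : List ℤ :=
  [4, 0, 0, 0, 0, -2, 0, 2, 0, 0, 2, 2, 0, 0, 2, 2, 0, 2, 0, 2, 2, 2, 2, 2]

def rv_five33 : List ℤ :=
  [-3, -3, 1, 1, 1, 1, 1, 1, 1, 1, 1, 1, 1, 1, 1, 1, 1, 1, 1, 1, 1, 1, 1, 5]

def rv_threes5 : List ℤ :=
  [-3, -3, -3, -3, 1, 1, 1, 1, 1, 1, 1, 1, 1, 1, 1, 1, 1, 1, 1, 1, 1, 1, 1, -3]

def rv_sx0 : List ℤ :=
  [0, 0, 0, 0, 2, 0, 2, 2, 2, 2, 2, 2, 2, 2, 0, 2, 2, 0, 2, 2, 2, 2, 2, 0]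

def rv_sx1 : List ℤ :=
  [0, 0, 0, 0, -2, 0, -2, 2, 2, 2, 2, 2, 2, 2, 0, 2, 2, 0, 2, 2, 2, 2, 2, 0]

def rv_sx2 : List ℤ :=
  [0, 0, 0, 0, -2, 0, 2, -2, 2, 2, 2, 2, 2, 2, 0, 2, 2, 0, 2, 2, 2, 2, 2, 0]

def rv_sx3 : List ℤ :=
  [0, 0, 0, 0, -2, 0, 2, 2, 2, 2, 2, 2, 2, 2, 0, 2, 2, 0, 2, 2, 2, 2, -2, 0]

def rv_sx4 : List ℤ :=
  [0, 0, 0, 0, -2, 0, 2, 2, 2, 2, 2, 2, 2, -2, 0, 2, 2, 0, 2, 2, 2, 2, 2, 0]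

def rv_sx5 : List ℤ :=
  [0, 0, 0, 0, -2, 0, 2, 2, 2, 2, 2, 2, 2, 2, 0, 2, 2, 0, 2, -2, 2, 2, 2, 0]

def rv_sx6 : List ℤ :=
  [0, 0, 0, 0, -2, 0, 2, 2, 2, 2, 2, 2, 2, 2, 0, 2, 2, 0, 2, 2, 2, -2, 2, 0]

def rv_sx7 : List ℤ :=
  [0, 0, 0, 0, -2, 0, 2, 2, 2, 2, 2, 2, 2, 2, 0, 2, -2, 0, 2, 2, 2, 2, 2, 0]

def rv_sx8 : List ℤ :=
  [0, 0, 0, 0, -2, 0, 2, 2, 2, -2, 2, 2, 2, 2, 0, 2, 2, 0, 2, 2, 2, 2, 2, 0]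

def rv_sx9 : List ℤ :=
  [0, 0, 0, 0, -2, 0, 2, 2, 2, 2, 2, 2, -2, 2, 0, 2, 2, 0, 2, 2, 2, 2, 2, 0]

def rv_sx10 : List ℤ :=
  [0, 0, 0, 0, -2, 0, 2, 2, 2, 2, 2, -2, 2, 2, 0, 2, 2, 0, 2, 2, 2, 2, 2, 0]

def rv_sx11 : List ℤ :=
  [0, 0, 0, 0, -2, 0, 2, 2, 2, 2, -2, 2, 2, 2, 0, 2, 2, 0, 2, 2, 2, 2, 2, 0]

def rv_sx12 : List ℤ :=
  [0, 0, 0, 0, -2, 0, 2, 2, 2, 2, 2, 2, 2, 2, 0, -2, 2, 0, 2, 2, 2, 2, 2, 0]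

def rv_sx13 : List ℤ :=
  [0, 0, 0, 0, -2, 0, 2, 2, 2, 2, 2, 2, 2, 2, 0, 2, 2, 0, -2, 2, 2, 2, 2, 0]

def rv_sx14 : List ℤ :=
  [0, 0, 0, 0, -2, 0, 2, 2, -2, 2, 2, 2, 2, 2, 0, 2, 2, 0, 2, 2, 2, 2, 2, 0]

def rv_sx15 : List ℤ :=
  [0, 0, 0, 0, -2, 0, 2, 2, 2, 2, 2, 2, 2, 2, 0, 2, 2, 0, 2, 2, -2, 2, 2, 0]

def chain_omega : List (ℕ × ℕ × List ℤ) :=
  [(1, 309576320524414893859841007774158252, [1, 1, 1, 1, 1, 1, 1, -3, 1, 1, 1, 1, 1, 1, 1, 1, 1, 1, 1, 1, 1, 1, 1, 1]), (2, 15732454, [1, -1, -1, 1, 1, -1, -1, 3, 1, -1, -1, -1, 1, 1, 1, 1, 1, 1, 1, 1, -1, -1, -1, -1]), (0, 0, [2, 0, 0, 0, 0, 2, 2, -2, 0, 0, 0, 2, 0, 0, 0, -2, 0, 0, 0, 0, 0, 2, 2, 0]), (1, 677600106091456168133248843192347809, [2, 2, 2, 0, 0, 0, 0, 0, 0,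 2, 2, 0, 0, 0, 0, 2, 0, 0, 0, 0, -2, 0, 0, -2]), (2, 13463644, [2, 2, -2, 0, 0, 0, 0, 0, 0, 2, 2, 0, 0, 0, 0, 2, 0, 0, 0, 0, -2, 0, 0, 2]), (0, 0, [0, 0, -4, 0, 0, 0, 0, 0, 0, 0, 0, 0, 0, 0, 0, 0, 0, 0, 0, 0, 4, 0, 0, 0]), (1, 62458675560358444495334235159560905, [-4, 0, 0, 0, 0, 0, 0, 0, 0, 0, 0, 0, 0, 0, 0, 0, 0, 0, 0, 0, 0, 0, 0, 4]), (2, 1302533, [4, 0, 0, 0, 0, 0, 0, 0, 0, 0, 0, 0, 0, 0, 0, 0, 0, 0, 0, 0, 0, 0, 0, 4])]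

def chain_oct : List (ℕ × ℕ × List ℤ) :=
  [(1, 175345976359247401322479018936122701, [0, 0, 0, 0, 2, 0, 0, 0, 0, 2, 2, 0, 0, 2, 0, 2, 2, 0, 0, 0, 2, 0, 2, 0]), (2, 16442782, [0, 0, 0, 0, -2, 0, 0, 0, 0, 2, -2, 0, 0, -2, 0, -2, 2, 0, 0, 0, -2, 0, -2, 0]), (0, 0, [0, 0, 0, 0, 0, 0, 0, 0, 0, -4, 0, 0, 0, 0, 0, 0, -4, 0, 0, 0, 0, 0, 0, 0]), (1, 97497753752405672415458171956154925, [-4, 0, 0, 0, 0, 0, 0, 0, 0, 0, 0, 0, 0, 0, 0, 0, 0, 0, 0, 0, 0, 0, 0, -4]), (2, 13062145, [4, 0, 0, 0, 0, 0, 0, 0, 0, 0, 0, 0, 0, 0, 0, 0, 0, 0, 0, 0, 0, 0, 0, 4])]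

/-- All the paths at squared length 32. -/
def chains32 : List (List ℤ × List (ℕ × ℕ × List ℤ)) :=
  [(rv_omega, chain_omega), (rv_oct, chain_oct)]

def chain_dod : List (ℕ × ℕ × List ℤ) :=
  [(1, 849252590810249558295086135128983812, [2, 2, 2, 0, 2, 0, 2, 0, 2, 2, 0, 2, 0, 2, 0, 2, 0, 0, 0, 2, 0, 0, 0, 2]), (2, 15424862, [2, -2, -2, 0, -2, 0, -2, 0, -2, 2, 0, -2, 0, 2, 0, 2, 0, 0, 0, -2, 0, 0, 0, -2]), (0, 0, [4, 0, 0, 0, 2, 0, 0, -2, 0, 0, 2, 0, -2, -2, 0, 0, 0, 0, -2, 0, 2, -2, 0, 0]), (1, 441357332821096179809597434507839876, [-2, 0, 0, 0, 4, 0, 0, -2, 0, 2, 0, -2, 0, 2, -2, 0, 2, 0, 0, 0, 0, 0, -2, 0]), (2, 15655879, [2, 0, 0, 0, 4, 0, 0, 2, 0, -2, 0, -2, 0, -2, 2, 0, 2, 0, 0, 0, 0, 0, 2, 0]), (0, 0, [1, -1, -1,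 1, -1, 1, 1, -1, -1, 1, -1, 1, -1, 5, -1, -1, 1, 1, -1, 1, -1, 1, 1, -1]), (1, 249778175476785849333719076037773494, [1, 1, 1, 1, -1, -1, -1, 1, -1, 1, 1, -1, -1, 1, 1, -1, -1, -1, -1, -1, -1, 1, 1, 5]), (2, 2070896, [1, 1, 1, 1, 1, 1, 1, 1, 1, 1, 1, 1, 1, 1, 1, 1, 1, 1, 1, 1, 1, 1, 1, 5])]

def chain_foct : List (ℕ × ℕ × List ℤ) :=
  [(1, 713398798005170280736630859909603051, [2, 2, 4, 0, 0, 0, 0, 2, 0, 0, 2, 2, 0, 0, 0, 0, 0, -2, 0, 0, 0, 0, 2, 2]), (2, 16056344, [2, 2, 4, 0, 0, 0, 0, 2, 0, 0, 2, 2, 0, 0, 0, 0, 0, -2, 0, 0, 0, 0, -2, -2]), (0, 0, [-1, -1, 1, -1, -1, -1, 1, -1, 1, 1, -1, -1, 1, -1, -1, 1, -1, 1, 1, 1, 1, 1, 1, -5]), (1, 984818244535754528103549039458486304, [-1, -1, 1, -1, -1, -1, 1, -1, 1, 1, -1,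 -1, 1, -1, -1, 1, -1, 1, 1, 1, 1, 1, 1, -5]), (2, 8481979, [1, 1, 1, 1, 1, 1, 1, 1, 1, 1, 1, 1, 1, 1, 1, 1, 1, 1, 1, 1, 1, 1, 1, 5])]

def chain_three : List (ℕ × ℕ × List ℤ) :=
  [(1, 837343685428942770684693335399575017, [1, 1, 1, 1, 1, 1, 1, 1, 1, -3, 1, 1, 1, 1, 1, -3, 1, 1, 1, 1, -3, 1, 1, 1]), (2, 4282144, [1, 1, 1, 1, 1, -1, 1, 1, -1, 3, -1, 1, -1, 1, -1, -3, -1, 1, 1, 1, -3, 1, -1, 1]), (0, 0, [-1, -1, -1, -1, -1, 1, 1, 1, 1, -5, -1, -1, 1, -1, 1, 1, 1, -1, -1, 1, 1, 1, 1, -1]), (1, 467974103786776826016790683084534080, [-1, 1, 1, -1, -1, 1, -1, -1, 1, 1, -1, -1, -1, -1, 1, 1, 1, -1, 1, 1, -1, 1, 1, -5]), (2, 9583833, [1, 1, 1, 1, 1, 1, 1, 1, 1, 1, 1, 1, 1, 1, 1, 1, 1, 1, 1, 1, 1, 1, 1, 5])]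

/-- All the paths at squared length 48. -/
def chains48 : List (List ℤ × List (ℕ × ℕ × List ℤ)) :=
  [(rv_dod, chain_dod), (rv_foct, chain_foct), (rv_three, chain_three)]

def chain_fours : List (ℕ × ℕ × List ℤ) :=
  [(1, 420721135924762535457572931897435636, [0, 0, 0, 0, 0, 0, 0, 0, 0, 4, 4, 0, 0, 0, 0, 4, 0, 0, 0, 0, 4, 0, 0, 0]), (2, 6588684, [0, 0, 0, 0, 0, 0, 0, 0, 0, 4, 4, 0, 0, 0, 0, -4, 0, 0, 0, 0, 4, 0, 0, 0]), (0, 0, [0, 0, 0, 0, 0, 0, 0, 0, 0, 0, 0, 0, 0, 0, 0, 8, 0, 0, 0, 0, 0, 0, 0, 0]), (1, 22603085893202808013679396404177967, [0, 0, 0, 0, 0, 0, 0, 0, 0, 0, 0, 0, 0, 0, 0, 0, 0, 0, 0, 0, 0, 0, 0, 8])]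

def chain_six : List (ℕ × ℕ × List ℤ) :=
  [(1, 898806266776245448282108433963167346, [0, 0, 0, 0, 0, 0, 2, 2, 2, 0, 0, 2, 2, 0, 0, 0, 0, 0, 2, 2, 0, -6, 0, 0]), (2, 13361136, [0, 0, 0, 0, 0, 0, -2, -2, -2, 0, 0, -2, -2, 0, 0, 0, 0, 0, 2, -2, 0, -6, 0, 0]), (0, 0, [0, 0, 0, 0, 0, 0, -4, -4, 0, 0, 0, 0, 0, 0, 0, 0, 0, 0, -4, -4, 0, 0, 0, 0]), (1, 22381098161107965572080537436202126, [0, 0, 0, 0, 0, 0, 0, 0, -4, 0, 0, -4, -4, 0, 0, 0, 0, 0, -4, 0, 0, 0, 0, 0]), (2, 9333542, [0, 0, 0, 0, 0, 0, 0, 0, 4, 0, 0, 4, -4, 0, 0, 0, 0, 0, 4, 0, 0, 0, 0, 0]), (0, 0, [0, 0, 0, 0, 0, 0, 0, 0, 0, 0, 0, 0, 8, 0, 0, 0, 0, 0, 0, 0, 0, 0, 0, 0]), (1, 477144491347695089491217979027889856, [0, 0, 0, 0, 0, 0, 0, 0, 0, 0, 0, 0, 0, 0, 0, 0,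 0, 0, 0, 0, 0, 0, 0, 8])]

def chain_k6 : List (ℕ × ℕ × List ℤ) :=
  [(1, 877908429860122157069071857872002099, [2, 2, 2, 0, 0, 0, 2, 2, 0, 0, 0, 0, 0, 0, 0, 0, 4, 0, 0, 2, 0, 2, 4, 2]), (2, 1528207, [-2, -2, -2, 0, 0, 0, 2, -2, 0, 0, 0, 0, 0, 0, 0, 0, -4, 0, 0, 2, 0, 2, 4, 2]), (0, 0, [0, 0, 0, 0, 0, 0, 0, 4, 0, 0, 0, 0, 0, 0, 0, 0, 4, 0, 0, 0, 0, 0, -4, 4]), (1, 276819912445459694441628244994721366, [0, 0, 0, 0, 0, 0, 4, 4, 0, 0, 0, 0, 0, 0, 0, 0, 0, 0, 0, 4, 0, -4, 0, 0]), (2, 14676119, [0, 0, 0, 0, 0, 0, 4, -4, 0, 0, 0, 0, 0, 0, 0, 0, 0, 0, 0, -4, 0, -4, 0, 0]), (0, 0, [0, 0, 0, 0, 0, 0, -8, 0, 0, 0, 0, 0, 0, 0, 0, 0, 0, 0, 0, 0, 0, 0, 0, 0]), (1, 921841040779540204408771860564877408, [0, 0, 0, 0, 0, 0, 0, 0, 0,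 0, 0, 0, 0, 0, 0, 0, 0, 0, 0, 0, 0, 0, 0, -8]), (2, 13062145, [0, 0, 0, 0, 0, 0, 0, 0, 0, 0, 0, 0, 0, 0, 0, 0, 0, 0, 0, 0, 0, 0, 0, 8])]

def chain_k7 : List (ℕ × ℕ × List ℤ) :=
  [(1, 565602188570505774797830076361982098, [0, 0, 0, 0, 2, 0, 0, 0, 2, 0, 4, 2, 2, 2, 0, 4, 2, 0, 2, 0, 0, 0, 2, 0]), (2, 9213723, [0, 0, 0, 0, -2, 0, 0, 0, -2, 0, -4, 2, -2, 2, 0, -4, 2, 0, -2, 0, 0, 0, 2, 0]), (0, 0, [0, 0, 0, 0, 4, 0, 0, 0, 0, -4, 0, -4, 0, 0, 0, 0, 0, 0, 0, 0, -4, 0, 0, 0]), (1, 296826766170807535855608560718726478, [0, 0, 0, 0, 0, 0, 0, 0, -4, 0, 0, -4, 4, 0, 0, 0, 0, 0, -4, 0, 0, 0, 0, 0]), (2, 4536592, [0, 0, 0, 0, 0, 0, 0, 0, 4, 0, 0, 4, -4, 0, 0, 0, 0, 0, 4, 0, 0, 0, 0, 0]), (0, 0, [0, 0, 0, 0, 0, 0, 0, 0, 0, 0, 0,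 0, 8, 0, 0, 0, 0, 0, 0, 0, 0, 0, 0, 0]), (1, 477144491347695089491217979027889856, [0, 0, 0, 0, 0, 0, 0, 0, 0, 0, 0, 0, 0, 0, 0, 0, 0, 0, 0, 0, 0, 0, 0, 8])]

def chain_k8 : List (ℕ × ℕ × List ℤ) :=
  [(1, 460825978936538491097908496351517202, [0, 0, 0, 0, 2, 0, 0, 0, 2, 4, 0, 2, 2, 2, 0, 4, 2, 0, 2, 0, 0, 0, 2, 0]), (2, 8126628, [0, 0, 0, 0, 2, 0, 0, 0, 2, 4, 0, 2, 2, 2, 0, 4, 2, 0, -2, 0, 0, 0, -2, 0]), (0, 0, [0, 0, 0, 0, 0, 0, 0, 0, 0, 0, 4, 0, 0, 0, 0, 0, 0, 0, 4, 0, 4, 0, 4, 0]), (1, 229075385349615047413593494650603881, [0, 0, 0, 0, 4, 0, 0, 0, 0, 0, 0, 0, 0, 4, 0, 0, 4, 0, 0, 0, 0, 0, 4, 0]), (2, 6273537, [0, 0, 0, 0, 4, 0, 0, 0, 0, 0, 0, 0, 0, -4, 0, 0, -4, 0, 0, 0, 0, 0, -4, 0]), (0, 0, [0, 0, 0, 0, -8, 0,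 0, 0, 0, 0, 0, 0, 0, 0, 0, 0, 0, 0, 0, 0, 0, 0, 0, 0]), (1, 14686592077638964152258423707707016, [0, 0, 0, 0, 0, 0, 0, 0, 0, 0, 0, 0, 0, 0, 0, 0, 0, 0, 0, 0, 0, 0, 0, -8]), (2, 13062145, [0, 0, 0, 0, 0, 0, 0, 0, 0, 0, 0, 0, 0, 0, 0, 0, 0, 0, 0, 0, 0, 0, 0, 8])]

def chain_k9 : List (ℕ × ℕ × List ℤ) :=
  [(1, 602590457839953006172092904207814188, [0, 0, 0, 2, 0, 2, 0, 0, 2, 0, 4, 2, 2, 0, 2, 0, 0, 2, 2, 0, 4, 0, 0, 0]), (2, 3195897, [0, 0, 0, -2, 0, -2, 0, 0, -2, 0, 4, 2, 2, 0, -2, 0, 0, 2, 2, 0, -4, 0, 0, 0]), (0, 0, [0, 0, 0, 0, 0, 0, 0, 0, 4, 0, -4, 0, 0, 0, 0, 0, 0, -4, 0, 0, 4, 0, 0, 0]), (1, 181757067948754235624710776693597450, [0, 0, 0, 0, 0, 0, 4, -4, 0, 0, 0, 0, 0, 0, 0, 0, 0, 0, 0, -4, 0, 4, 0, 0]), (2, 3891569,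 [0, 0, 0, 0, 0, 0, -4, -4, 0, 0, 0, 0, 0, 0, 0, 0, 0, 0, 0, 4, 0, -4, 0, 0]), (0, 0, [0, 0, 0, 0, 0, 0, 0, 0, 0, 0, 0, 0, 0, 0, 0, 0, 0, 0, 0, -8, 0, 0, 0, 0]), (1, 4384458875472214385511754829968598, [0, 0, 0, 0, 0, 0, 0, 0, 0, 0, 0, 0, 0, 0, 0, 0, 0, 0, 0, 0, 0, 0, 0, -8]), (2, 13062145, [0, 0, 0, 0, 0, 0, 0, 0, 0, 0, 0, 0, 0, 0, 0, 0, 0, 0, 0, 0, 0, 0, 0, 8])]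

def chain_k10 : List (ℕ × ℕ × List ℤ) :=
  [(1, 892245247073079721235953112925701346, [2, 2, 2, 0, 0, 0, 2, 2, 0, 4, 4, 0, 0, 0, 0, 0, 0, 0, 0, 2, 0, 2, 0, 2]), (2, 2263063, [-2, -2, -2, 0, 0, 0, 2, 2, 0, 4, 4, 0, 0, 0, 0, 0, 0, 0, 0, 2, 0, -2, 0, 2]), (0, 0, [0, 0, 0, 0, 0, 0, 0, 0, 0, 0, 0, 0, 0, 0, 0, 4, 0, 0, 0, 0, 4, 4, 0, 4]), (1, 801181920771551453125958376628598859, [0, 0, 0, 0, 0, 0, 4, 4, 0, 0, 0, 0, 0, 0, 0, 0, 0, 0, 0, 4, 0, 4, 0, 0]), (2, 10330653, [0, 0, 0, 0, 0, 0, 4, 4, 0, 0, 0, 0, 0, 0, 0, 0, 0, 0, 0, -4, 0, 4, 0, 0]), (0, 0, [0, 0, 0, 0, 0, 0, 0, 0, 0, 0, 0, 0, 0, 0, 0, 0, 0, 0, 0, 8, 0, 0, 0, 0]), (1, 4384458875472214385511754829968598, [0, 0, 0, 0, 0, 0, 0, 0, 0, 0, 0, 0, 0, 0, 0, 0, 0, 0, 0, 0,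 0, 0, 0, 8])]

def chain_k11 : List (ℕ × ℕ × List ℤ) :=
  [(1, 487484786168456942710622137585180338, [0, 0, 0, 0, 0, 0, 2, 2, 2, 4, 0, 2, 2, 0, 0, 0, 0, 0, 2, 2, 4, 2, 0, 0]), (2, 3354839, [0, 0, 0, 0, 0, 0, -2, -2, 2, 4, 0, 2, -2, 0, 0, 0, 0, 0, 2, 2, -4, -2, 0, 0]), (0, 0, [0, 0, 0, 0, 0, 0, 0, 0, 0, -4, 0, 0, 4, 0, 0, 0, 0, 0, 0, -4, 4, 0, 0, 0]), (1, 67589455201109746646400845060022976, [0, 0, 0, 0, 0, 0, 4, -4, 0, 0, 0, 0, 0, 0, 0, 0, 0, 0, 0, 4, 0, -4, 0, 0]), (2, 2714748, [0, 0, 0, 0, 0, 0, -4, -4, 0, 0, 0, 0, 0, 0, 0, 0, 0, 0, 0, -4, 0, 4, 0, 0]), (0, 0, [0, 0, 0, 0, 0, 0, 0, 0, 0, 0, 0, 0, 0, 0, 0, 0, 0, 0, 0, 0, 0, -8, 0, 0]), (1, 29492376736006929088146330296305131, [0, 0, 0, 0, 0, 0, 0, 0, 0, 0, 0, 0, 0,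 0, 0, 0, 0, 0, 0, 0, 0, 0, 0, -8]), (2, 13062145, [0, 0, 0, 0, 0, 0, 0, 0, 0, 0, 0, 0, 0, 0, 0, 0, 0, 0, 0, 0, 0, 0, 0, 8])]

def chain_k12 : List (ℕ × ℕ × List ℤ) :=
  [(1, 749654514667368327322345615021845839, [4, 0, 0, 0, 0, 0, 0, 0, 2, 2, 2, 2, 2, 0, 0, 2, 0, 0, 2, 0, 2, 0, 0, 4]), (2, 7190628, [4, 0, 0, 0, 0, 0, 0, 0, 2, 2, 2, -2, -2, 0, 0, -2, 0, 0, -2, 0, 2, 0, 0, 4]), (0, 0, [0, -4, -4, 0, 0, 0, 0, 0, -4, 0, 0, 0, 0, 0, 0, 4, 0, 0, 0, 0, 0, 0, 0, 0]), (1, 423986529558479582401949420601229451, [0, 0, 0, 0, -4, 0, 0, 0, 0, 0, 0, 0, 0, 4, 0, 0, -4, 0, 0, 0, 0, 0, -4, 0]), (2, 8817383, [0, 0, 0, 0, -4, 0, 0, 0, 0, 0, 0, 0, 0, 4, 0, 0, -4, 0, 0, 0, 0, 0, -4, 0]), (0, 0, [0, 0, 0, 0, 0, 0, 0, 0, 0, 0, 0, 0, 0, -8,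 0, 0, 0, 0, 0, 0, 0, 0, 0, 0]), (1, 249778175476785849333719076037773494, [0, 0, 0, 0, 0, 0, 0, 0, 0, 0, 0, 0, 0, 0, 0, 0, 0, 0, 0, 0, 0, 0, 0, -8]), (2, 13062145, [0, 0, 0, 0, 0, 0, 0, 0, 0, 0, 0, 0, 0, 0, 0, 0, 0, 0, 0, 0, 0, 0, 0, 8])]

def chain_k13 : List (ℕ × ℕ × List ℤ) :=
  [(1, 15149120448476361878235617252792834, [2, 2, 2, 0, 2, 0, 0, 0, 0, 0, 4, 0, 0, 2, 0, 4, 2, 0, 0, 0, 0, 0, 2, 2]), (2, 15063062, [2, -2, -2, 0, -2, 0, 0, 0, 0, 0, 4, 0, 0, 2, 0, -4, -2, 0, 0, 0, 0, 0, -2, -2]), (0, 0, [4, 0, 0, 0, 0, 0, 0, 0, 0, 0, -4, 0, 0, -4, 0, 4, 0, 0, 0, 0, 0, 0, 0, 0]), (1, 957424157298702360441532897414141188, [0, 0, 0, 0, 4, 0, 0, 0, 0, 0, 0, 0, 0, 4, 0, 0, -4, 0, 0, 0, 0, 0, -4, 0]), (2, 3117484, [0, 0, 0, 0,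 4, 0, 0, 0, 0, 0, 0, 0, 0, 4, 0, 0, 4, 0, 0, 0, 0, 0, -4, 0]), (0, 0, [0, 0, 0, 0, 0, 0, 0, 0, 0, 0, 0, 0, 0, 0, 0, 0, 0, 0, 0, 0, 0, 0, 8, 0]), (1, 29911808450092068199315215539027318, [0, 0, 0, 0, 0, 0, 0, 0, 0, 0, 0, 0, 0, 0, 0, 0, 0, 0, 0, 0, 0, 0, 0, 8])]

def chain_k15 : List (ℕ × ℕ × List ℤ) :=
  [(1, 914725989826237695259533124008677797, [0, 0, 0, 2, 2, 2, 0, 0, 0, 4, 0, 0, 0, 2, 2, 0, 2, 2, 0, 0, 4, 0, 2, 0]), (2, 10164526, [0, 0, 0, -2, 2, -2, 0, 0, 0, 4, 0, 0, 0, 2, 2, 0, -2, -2, 0, 0, -4, 0, 2, 0]), (0, 0, [0, 0, 0, 0, 0, 0, 0, 0, 0, -4, 0, 0, 0, 0, -4, 0, 4, 0, 0, 0, 4, 0, 0, 0]), (1, 735249399646191135855718949814174083, [0, 0, 0, 0, 0, 0, 0, 0, 0, 4, 4, 0, 0, 0, 0, -4, 0, 0, 0, 0, -4, 0, 0, 0]), (2, 4783889,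 [0, 0, 0, 0, 0, 0, 0, 0, 0, -4, -4, 0, 0, 0, 0, 4, 0, 0, 0, 0, -4, 0, 0, 0]), (0, 0, [0, 0, 0, 0, 0, 0, 0, 0, 0, 0, 0, 0, 0, 0, 0, -8, 0, 0, 0, 0, 0, 0, 0, 0]), (1, 22603085893202808013679396404177967, [0, 0, 0, 0, 0, 0, 0, 0, 0, 0, 0, 0, 0, 0, 0, 0, 0, 0, 0, 0, 0, 0, 0, -8]), (2, 13062145, [0, 0, 0, 0, 0, 0, 0, 0, 0, 0, 0, 0, 0, 0, 0, 0, 0, 0, 0, 0, 0, 0, 0, 8])]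

def chain_k16 : List (ℕ × ℕ × List ℤ) :=
  [(1, 962777274339272971947672915131669698, [2, 2, 2, 0, 0, 0, 2, 2, 0, 0, 0, 0, 0, 0, 0, 4, 0, 0, 0, 2, 4, 2, 0, 2]), (2, 11015256, [2, 2, 2, 0, 0, 0, -2, 2, 0, 0, 0, 0, 0, 0, 0, 4, 0, 0, 0, -2, 4, -2, 0, -2]), (0, 0, [0, 0, 0, 0, 0, 0, 0, -4, 0, 4, 4, 0, 0, 0, 0, 0, 0, 0, 0, 0, 0, 0, 0, -4]), (1, 333768008709122611993592914934120133, [0, 0, 0, 0, 0, 0, 0, 0, -4, 0, 0, -4, 4, 0, 0, 0, 0, 0, 4, 0, 0, 0, 0, 0]), (2, 3668511, [0, 0, 0, 0, 0, 0, 0, 0, -4, 0, 0, 4, -4, 0, 0, 0, 0, 0, -4, 0, 0, 0, 0, 0]), (0, 0, [0, 0, 0, 0, 0, 0, 0, 0, 0, 0, 0, -8, 0, 0, 0, 0, 0, 0, 0, 0, 0, 0, 0, 0]), (1, 18279659395866097040989981114936630, [0, 0, 0, 0, 0, 0, 0, 0, 0, 0, 0, 0, 0, 0, 0, 0, 0,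 0, 0, 0, 0, 0, 0, -8]), (2, 13062145, [0, 0, 0, 0, 0, 0, 0, 0, 0, 0, 0, 0, 0, 0, 0, 0, 0, 0, 0, 0, 0, 0, 0, 8])]

def chain_k18 : List (ℕ × ℕ × List ℤ) :=
  [(1, 463456197019740641392433695706134216, [0, 0, 0, 0, 2, 0, 4, 0, 2, 0, 0, 2, 2, 2, 0, 0, 2, 0, 2, 0, 0, 4, 2, 0]), (2, 16719941, [0, 0, 0, 0, 2, 0, -4, 0, 2, 0, 0, 2, 2, -2, 0, 0, -2, 0, -2, 0, 0, -4, -2, 0]), (0, 0, [0, 0, 0, 0, -4, 0, 0, -4, 0, 0, 0, 0, 0, 0, 0, 0, 0, 0, 4, -4, 0, 0, 0, 0]), (1, 348420711295438664508090805058734660, [0, 0, 0, 0, 0, 0, 0, 0, 0, 4, -4, 0, 0, 0, 0, -4, 0, 0, 0, 0, -4, 0, 0, 0]), (2, 2274742, [0, 0, 0, 0, 0, 0, 0, 0, 0, 4, 4, 0, 0, 0, 0, 4, 0, 0, 0, 0, -4, 0, 0, 0]), (0, 0, [0, 0, 0, 0, 0, 0, 0, 0, 0, 0, 0, 0, 0, 0, 0, 0, 0, 0,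 0, 0, 8, 0, 0, 0]), (1, 15200453133970992512463437727114799, [0, 0, 0, 0, 0, 0, 0, 0, 0, 0, 0, 0, 0, 0, 0, 0, 0, 0, 0, 0, 0, 0, 0, 8])]

def chain_k19 : List (ℕ × ℕ × List ℤ) :=
  [(1, 170628552955807437802385255217770866, [0, 0, 0, 0, 2, 0, 4, 0, 2, 0, 0, 2, 2, 2, 0, 0, 2, 0, 2, 0, 0, 4, 2, 0]), (2, 1134148, [0, 0, 0, 0, 2, 0, -4, 0, 2, 0, 0, -2, 2, 2, 0, 0, -2, 0, 2, 0, 0, 4, 2, 0]), (0, 0, [0, 0, 0, 0, 0, 0, 4, 0, 0, 0, 0, 4, 0, 0, 0, 0, 4, 0, 0, 0, 0, -4, 0, 0]), (1, 689752035623002623737103964127298656, [0, 0, 0, 0, 0, 0, 0, 0, 4, 0, 0, -4, 4, 0, 0, 0, 0, 0, 4, 0, 0, 0, 0, 0]), (2, 12903884, [0, 0, 0, 0, 0, 0, 0, 0, -4, 0, 0, -4, 4, 0, 0, 0, 0, 0, -4, 0, 0, 0, 0, 0]), (0, 0, [0, 0, 0, 0, 0, 0, 0, 0, 0, 0, 0, 0,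 -8, 0, 0, 0, 0, 0, 0, 0, 0, 0, 0, 0]), (1, 477144491347695089491217979027889856, [0, 0, 0, 0, 0, 0, 0, 0, 0, 0, 0, 0, 0, 0, 0, 0, 0, 0, 0, 0, 0, 0, 0, -8]), (2, 13062145, [0, 0, 0, 0, 0, 0, 0, 0, 0, 0, 0, 0, 0, 0, 0, 0, 0, 0, 0, 0, 0, 0, 0, 8])]

def chain_k20 : List (ℕ × ℕ × List ℤ) :=
  [(1, 540577162745170812702974585256759786, [0, 0, 0, 0, 2, 0, 0, 0, 4, 2, 2, 0, 4, 2, 0, 2, 2, 0, 0, 0, 2, 0, 2, 0]), (2, 1448063, [0, 0, 0, 0, -2, 0, 0, 0, 4, 2, 2, 0, -4, 2, 0, 2, 2, 0, 0, 0, -2, 0, 2, 0]), (0, 0, [0, 0, 0, 0, 4, 0, 0, 0, -4, 0, 0, 0, 4, 0, 0, 0, 0, 0, 0, 0, 4, 0, 0, 0]), (1, 1647554993253964916374737161470242, [0, 0, 0, 0, 0, 0, -4, 4, 0, 0, 0, 0, 0, 0, 0, 0, 0, 0, 0, 4, 0, 4, 0, 0]), (2, 10350689, [0, 0, 0, 0,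 0, 0, 4, 4, 0, 0, 0, 0, 0, 0, 0, 0, 0, 0, 0, -4, 0, 4, 0, 0]), (0, 0, [0, 0, 0, 0, 0, 0, 0, 0, 0, 0, 0, 0, 0, 0, 0, 0, 0, 0, 0, 8, 0, 0, 0, 0]), (1, 4384458875472214385511754829968598, [0, 0, 0, 0, 0, 0, 0, 0, 0, 0, 0, 0, 0, 0, 0, 0, 0, 0, 0, 0, 0, 0, 0, 8])]

def chain_k21 : List (ℕ × ℕ × List ℤ) :=
  [(1, 304453516666031739237517873132442288, [0, 0, 0, 0, 2, 0, 2, 2, 0, 0, 0, 0, 0, 2, 4, 0, 2, 4, 0, 2, 0, 2, 2, 0]), (2, 165759, [0, 0, 0, 0, -2, 0, -2, 2, 0, 0, 0, 0, 0, 2, 4, 0, 2, -4, 0, 2, 0, 2, 2, 0]), (0, 0, [0, 0, 0, 0, 4, 0, 4, 0, 0, 0, 0, 0, 0, 0, -4, 0, 0, 4, 0, 0, 0, 0, 0, 0]), (1, 293612029082371455421234610904911375, [0, 0, 0, 0, 0, 0, 0, 0, 4, 0, 0, 4, -4, 0, 0, 0, 0, 0, 4, 0, 0, 0, 0, 0]), (2, 11246644,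 [0, 0, 0, 0, 0, 0, 0, 0, 4, 0, 0, -4, 4, 0, 0, 0, 0, 0, 4, 0, 0, 0, 0, 0]), (0, 0, [0, 0, 0, 0, 0, 0, 0, 0, 0, 0, 0, 8, 0, 0, 0, 0, 0, 0, 0, 0, 0, 0, 0, 0]), (1, 18279659395866097040989981114936630, [0, 0, 0, 0, 0, 0, 0, 0, 0, 0, 0, 0, 0, 0, 0, 0, 0, 0, 0, 0, 0, 0, 0, 8])]

def chain_k22 : List (ℕ × ℕ × List ℤ) :=
  [(1, 224959150192452902786519343437498828, [0, 0, 0, 2, 0, 2, 0, 0, 2, 0, 0, 2, 2, 4, 2, 0, 0, 2, 2, 0, 0, 0, 4, 0]), (2, 6795527, [0, 0, 0, 2, 0, 2, 0, 0, -2, 0, 0, 2, -2, -4, 2, 0, 0, -2, -2, 0, 0, 0, -4, 0]), (0, 0, [0, 0, 0, 0, -4, 0, 0, 0, 0, 0, 0, -4, 0, 0, 0, 0, -4, 4, 0, 0, 0, 0, 0, 0]), (1, 926485264675170403783589636893391274, [0, 0, 0, 0, 0, 0, -4, -4, 0, 0, 0, 0, 0, 0, 0, 0, 0, 0, 0, -4, 0, 4,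 0, 0]), (2, 3210840, [0, 0, 0, 0, 0, 0, 4, -4, 0, 0, 0, 0, 0, 0, 0, 0, 0, 0, 0, -4, 0, -4, 0, 0]), (0, 0, [0, 0, 0, 0, 0, 0, -8, 0, 0, 0, 0, 0, 0, 0, 0, 0, 0, 0, 0, 0, 0, 0, 0, 0]), (1, 921841040779540204408771860564877408, [0, 0, 0, 0, 0, 0, 0, 0, 0, 0, 0, 0, 0, 0, 0, 0, 0, 0, 0, 0, 0, 0, 0, -8]), (2, 13062145, [0, 0, 0, 0, 0, 0, 0, 0, 0, 0, 0, 0, 0, 0, 0, 0, 0, 0, 0, 0, 0, 0, 0, 8])]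

def chain_ltwelve : List (ℕ × ℕ × List ℤ) :=
  [(1, 388386213300816235632005359509868079, [0, 0, 0, 0, 0, 2, 2, 2, 0, 2, 2, 2, 0, 0, 2, 4, -2, 0, 2, 2, 0, 2, 2, 0]), (2, 1797657, [0, 0, 0, 0, 0, 2, 2, 2, 0, -2, -2, -2, 0, 0, -2, 4, 2, 0, 2, -2, 0, 2, 2, 0]), (0, 0, [0, 0, 0, 0, 2, -2, 0, 0, 0, 2, 2, 2, 0, 2, 2, -4, 0, 0, -2, 4, 0, 0, 0, 0]), (1, 978099145646062172933227967164984738, [0, 0, 0, -4, 0, 4, 2, 2, 0, 2, -2, 0, 0, 0, 0, 2, 0, 0, 0, 2, 2, -2, 0, 0]), (2, 15945135, [0, 0, 0, 4, 0, -4, 2, -2, 0, 2, 2, 0, 0, 0, 0, 2, 0, 0, 0, 2, -2, 2, 0, 0]), (0, 0, [0, 0, 0, -4, 0, 4, 0, 4, 0, 0, 0, 0, 0, 0, 0, 0, 0, 0, 0, 0, 4, 0, 0, 0]), (1, 901113696754428573639497334770476051, [0, 0, 0, -4, 0, 4, 0, 0, 0, 0, 0, 0, 0, 0,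 4, 0, 0, 4, 0, 0, 0, 0, 0, 0]), (2, 14944447, [0, 0, 0, 4, 0, -4, 0, 0, 0, 0, 0, 0, 0, 0, 4, 0, 0, 4, 0, 0, 0, 0, 0, 0]), (0, 0, [0, 0, 0, 0, 0, 8, 0, 0, 0, 0, 0, 0, 0, 0, 0, 0, 0, 0, 0, 0, 0, 0, 0, 0]), (1, 13048822933382021561585881675256075, [0, 0, 0, 0, 0, 0, 0, 0, 0, 0, 0, 0, 0, 0, 0, 0, 0, 0, 0, 0, 0, 0, 0, 8])]

def chain_five33 : List (ℕ × ℕ × List ℤ) :=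
  [(1, 555011886277538101037898730337686020, [1, 1, 1, 1, -3, 1, 1, 1, 1, 1, 1, 1, 1, 5, 1, 1, -3, 1, 1, 1, 1, 1, 1, 1]), (2, 5329044, [1, 1, -1, 1, 3, 1, 1, -1, 1, 1, 1, 1, -1, 5, -1, 1, 3, 1, 1, 1, -1, 1, -1, 1]), (0, 0, [0, 0, -2, 0, 2, 0, 0, 2, 0, 0, 0, 0, 2, 0, 2, 0, 2, 0, 0, 0, 2, 0, 6, 0]), (1, 228525240985823469872818057874841934, [0, 0, 0, 0, 2, 0, 0, 0, -2, 0, 0, 2, 2, 2, 0, 0, 6, 0, 2, 0, 0, 0, 2, 0]), (2, 11689068, [0, 0, 0, 0, 2, 0, 0, 0, -2, 0, 0, -2, -2, 2, 0, 0, 6, 0, 2, 0, 0, 0, 2, 0]), (0, 0, [0, 0, 0, 0, 4, 0, 0, 0, 0, 0, 0, 0, 0, 4, 0, 0, 0, 0, -4, 0, 0, 0, 4, 0]), (1, 644196729981010970168728940336668231, [0, 0, 0, 0, 4, 0, 0, 0, 0, 0, 0, 0, 0, 4, 0, 0, 4, 0, 0, 0, 0, 0, -4, 0]), (2, 2141072, [0,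 0, 0, 0, -4, 0, 0, 0, 0, 0, 0, 0, 0, -4, 0, 0, 4, 0, 0, 0, 0, 0, -4, 0]), (0, 0, [0, 0, 0, 0, 0, 0, 0, 0, 0, 0, 0, 0, 0, 0, 0, 0, -8, 0, 0, 0, 0, 0, 0, 0]), (1, 17146375821753298957593184159761905, [0, 0, 0, 0, 0, 0, 0, 0, 0, 0, 0, 0, 0, 0, 0, 0, 0, 0, 0, 0, 0, 0, 0, -8]), (2, 13062145, [0, 0, 0, 0, 0, 0, 0, 0, 0, 0, 0, 0, 0, 0, 0, 0, 0, 0, 0, 0, 0, 0, 0, 8])]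

def chain_threes5 : List (ℕ × ℕ × List ℤ) :=
  [(1, 761207090393808585537824720548835595, [1, -3, 1, 1, 1, 1, 1, 1, -3, 1, 1, -3, -3, 1, 1, 1, 1, 1, -3, 1, 1, 1, 1, 1]), (2, 7783138, [1, 3, 1, 1, 1, -1, -1, -1, -3, -1, 1, -3, -3, 1, -1, -1, 1, -1, 3, 1, -1, -1, -1, 1]), (0, 0, [-2, 0, -2, -2, 0, 0, 0, 0, 0, 0, -2, 0, 0, 0, 0, 0, 0, 0, -6, -2, 0, 0, 2, -2]), (1, 861126876632218301059849325803275456, [-2, -2, -2, 0, 0, 0, 0, 0, 0, -2, -2, 0, 0, 0, 0, -6, 0, 0, 0, 0, -2, 0, 0, 2]), (2, 14670249, [2, -2, -2, 0, 0, 0, 0, 0, 0, -2, -2, 0, 0, 0, 0, 6, 0, 0, 0, 0, 2, 0, 0, -2]), (0, 0, [4, 0, 0, 0, 0, 0, 0, 0, 0, 4, 4, 0, 0, 0, 0, -4, 0, 0, 0, 0, 0, 0, 0, 0]), (1, 938038137595164915510249332904673409, [4, 4, -4, 0, 0, 0, 0,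 0, 0, 0, 0, 0, 0, 0, 0, 0, 0, 0, 0, 0, 0, 0, 0, 4]), (2, 2702848, [4, 4, -4, 0, 0, 0, 0, 0, 0, 0, 0, 0, 0, 0, 0, 0, 0, 0, 0, 0, 0, 0, 0, 4]), (0, 0, [0, 0, -8, 0, 0, 0, 0, 0, 0, 0, 0, 0, 0, 0, 0, 0, 0, 0, 0, 0, 0, 0, 0, 0]), (1, 925712256229237435926629535745138112, [0, 0, 0, 0, 0, 0, 0, 0, 0, 0, 0, 0, 0, 0, 0, 0, 0, 0, 0, 0, 0, 0, 0, -8]), (2, 13062145, [0, 0, 0, 0, 0, 0, 0, 0, 0, 0, 0, 0, 0, 0, 0, 0, 0, 0, 0, 0, 0, 0, 0, 8])]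

def chain_sx0 : List (ℕ × ℕ × List ℤ) :=
  [(1, 791353877224775457400975463259741653, [2, 2, 2, 0, 2, 0, 0, 0, 2, 2, 2, 2, 2, 2, 0, 2, 2, 0, 2, 0, 2, 0, 2, 2]), (2, 8216682, [2, -2, 2, 0, 2, 0, 0, 0, 2, 2, 2, 2, 2, -2, 0, 2, -2, 0, -2, 0, -2, 0, -2, 2]), (0, 0, [0, -4, 0, 0, -4, 0, 0, 0, 0, 0, 0, 0, 0, 0, 0, 0, 0, 0, 4, 0, 4, 0, 0, 0]), (1, 594805311485898249531415689302385709, [4, -4, 4, 0, 0, 0, 0, 0, 0, 0, 0, 0, 0, 0, 0, 0, 0, 0, 0, 0, 0, 0, 0, -4]), (2, 13454845, [-4, -4, -4, 0, 0, 0, 0, 0, 0, 0, 0, 0, 0, 0, 0, 0, 0, 0, 0, 0, 0, 0, 0, 4]), (0, 0, [0, 0, 0, 0, 0, 0, 0, 0, 0, 0, 0, 0, 0, 0, 0, 0, 0, 0, 0, 0, 0, 0, 0, 8]), (1, 984818244535754528103549039458486304, [0, 0, 0, 0, 0, 0, 0, 0, 0, 0, 0, 0, 0, 0, 0, 0, 0,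 0, 0, 0, 0, 0, 0, 8])]

def chain_sx1 : List (ℕ × ℕ × List ℤ) :=
  [(1, 845168937496984166439818130773943439, [2, 2, 2, 2, 0, 2, -2, -2, 2, 0, 0, 2, 2, 0, 2, 0, 0, 2, 2, 2, 0, 2, 0, 2]), (2, 7332001, [-2, 2, 2, 2, 0, -2, -2, 2, 2, 0, 0, 2, 2, 0, -2, 0, 0, -2, -2, -2, 0, -2, 0, 2]), (0, 0, [-4, 0, 0, -4, 0, 0, 0, -4, 0, 0, 0, 0, 0, 0, 0, 0, 0, 0, 4, 0, 0, 0, 0, 0]), (1, 628974143951923539512165671627293319, [0, 0, 0, 0, 0, 0, -4, -4, 0, 0, 0, 0, 0, 0, 0, 0, 0, 0, 0, 4, 0, -4, 0, 0]), (2, 13024521, [0, 0, 0, 0, 0, 0, -4, -4, 0, 0, 0, 0, 0, 0, 0, 0, 0, 0, 0, 4, 0, -4, 0, 0]), (0, 0, [0, 0, 0, 0, 0, 0, 0, 0, 0, 0, 0, 0, 0, 0, 0, 0, 0, 0, 0, -8, 0, 0, 0, 0]), (1, 4384458875472214385511754829968598, [0, 0, 0, 0, 0, 0, 0,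 0, 0, 0, 0, 0, 0, 0, 0, 0, 0, 0, 0, 0, 0, 0, 0, -8]), (2, 13062145, [0, 0, 0, 0, 0, 0, 0, 0, 0, 0, 0, 0, 0, 0, 0, 0, 0, 0, 0, 0, 0, 0, 0, 8])]

def chain_sx2 : List (ℕ × ℕ × List ℤ) :=
  [(1, 333160249743666076629059417584383340, [2, 2, 2, 2, 0, 2, 2, 2, 0, 2, -2, 0, 0, 0, 2, 2, 0, 2, 0, 2, -2, 2, 0, 2]), (2, 12347715, [-2, -2, 2, 2, 0, 2, -2, 2, 0, 2, -2, 0, 0, 0, -2, 2, 0, 2, 0, -2, 2, -2, 0, -2]), (0, 0, [0, 0, 4, 0, 0, 0, 0, -4, 0, 0, 4, 0, 0, 0, 4, 0, 0, 0, 0, 0, 0, 0, 0, 0]), (1, 397521323933862991696758673838032500, [0, 0, 0, 4, 0, -4, 0, 0, 0, 0, 0, 0, 0, 0, 4, 0, 0, 4, 0, 0, 0, 0, 0, 0]), (2, 2204803, [0, 0, 0, 4, 0, -4, 0, 0, 0, 0, 0, 0, 0, 0, 4, 0, 0, 4, 0, 0, 0, 0, 0, 0]), (0, 0, [0, 0, 0, 0, 0, 8, 0, 0,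 0, 0, 0, 0, 0, 0, 0, 0, 0, 0, 0, 0, 0, 0, 0, 0]), (1, 13048822933382021561585881675256075, [0, 0, 0, 0, 0, 0, 0, 0, 0, 0, 0, 0, 0, 0, 0, 0, 0, 0, 0, 0, 0, 0, 0, 8])]

def chain_sx3 : List (ℕ × ℕ × List ℤ) :=
  [(1, 624829269200900777492666574388413742, [2, -2, -2, 0, 2, 0, 2, 2, 2, 0, 0, 2, 2, 2, 0, 0, 2, 0, 2, 2, 0, 2, 2, 2]), (2, 11335598, [2, 2, 2, 0, 2, 0, 2, -2, -2, 0, 0, 2, -2, -2, 0, 0, 2, 0, -2, -2, 0, -2, 2, -2]), (0, 0, [0, 0, 0, 0, 0, 0, -4, 0, 0, 0, 0, -4, 0, 4, 0, 0, 0, 0, 0, 0, 0, 0, 0, -4]), (1, 872649461661388191791173670221762850, [0, 0, 0, 0, 0, 0, 4, -4, 0, 0, 0, 0, 0, 0, 0, 0, 0, 0, 0, -4, 0, -4, 0, 0]), (2, 2530661, [0, 0, 0, 0, 0, 0, -4, -4, 0, 0, 0, 0, 0, 0, 0, 0, 0, 0, 0, -4, 0, 4, 0, 0]), (0,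 0, [0, 0, 0, 0, 0, 0, 0, 0, 0, 0, 0, 0, 0, 0, 0, 0, 0, 0, 0, 0, 0, -8, 0, 0]), (1, 29492376736006929088146330296305131, [0, 0, 0, 0, 0, 0, 0, 0, 0, 0, 0, 0, 0, 0, 0, 0, 0, 0, 0, 0, 0, 0, 0, -8]), (2, 13062145, [0, 0, 0, 0, 0, 0, 0, 0, 0, 0, 0, 0, 0, 0, 0, 0, 0, 0, 0, 0, 0, 0, 0, 8])]

def chain_sx4 : List (ℕ × ℕ × List ℤ) :=
  [(1, 680446525227562939327986478952241293, [0, 0, 0, 2, 0, 2, 2, 2, -2, 2, 2, 2, 2, 0, 2, 2, 0, 2, -2, 2, 2, 2, 0, 0]), (2, 13267995, [0, 0, 0, -2, 0, 2, 2, 2, -2, 2, -2, 2, -2, 0, -2, 2, 0, -2, -2, -2, 2, 2, 0, 0]), (0, 0, [0, 0, 0, 0, 0, -4, 0, 0, 0, 0, 4, -4, 0, 0, 0, 0, 0, 0, 0, 4, 0, 0, 0, 0]), (1, 849854974808173436351140149487508901, [0, 0, 0, 0, 0, 0, 0, 0, -4, 0, 0, 4, 4, 0, 0, 0, 0,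 0, -4, 0, 0, 0, 0, 0]), (2, 6033356, [0, 0, 0, 0, 0, 0, 0, 0, 4, 0, 0, -4, 4, 0, 0, 0, 0, 0, 4, 0, 0, 0, 0, 0]), (0, 0, [0, 0, 0, 0, 0, 0, 0, 0, 0, 0, 0, 8, 0, 0, 0, 0, 0, 0, 0, 0, 0, 0, 0, 0]), (1, 18279659395866097040989981114936630, [0, 0, 0, 0, 0, 0, 0, 0, 0, 0, 0, 0, 0, 0, 0, 0, 0, 0, 0, 0, 0, 0, 0, 8])]

def chain_sx5 : List (ℕ × ℕ × List ℤ) :=
  [(1, 689522460895181541193179946957593041, [2, 2, 2, 0, 0, 0, 2, 2, 2, -2, -2, 2, 2, 0, 0, 2, 0, 0, 2, 2, 2, 2, 0, 2]), (2, 7479572, [2, 2, -2, 0, 0, 0, 2, 2, -2, -2, -2, 2, 2, 0, 0, 2, 0, 0, 2, 2, -2, -2, 0, 2]), (0, 0, [0, 0, -4, 0, 0, 0, 0, 0, 4, 0, 0, 0, 0, 0, 0, -4, 0, 0, 0, 0, 0, 4, 0, 0]), (1, 438999698971226100627740850196323825, [0, 0, 0, 0, 0, 0, 4, -4, 0, 0,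 0, 0, 0, 0, 0, 0, 0, 0, 0, -4, 0, 4, 0, 0]), (2, 45159, [0, 0, 0, 0, 0, 0, -4, -4, 0, 0, 0, 0, 0, 0, 0, 0, 0, 0, 0, -4, 0, 4, 0, 0]), (0, 0, [0, 0, 0, 0, 0, 0, 0, 0, 0, 0, 0, 0, 0, 0, 0, 0, 0, 0, 0, 0, 0, -8, 0, 0]), (1, 29492376736006929088146330296305131, [0, 0, 0, 0, 0, 0, 0, 0, 0, 0, 0, 0, 0, 0, 0, 0, 0, 0, 0, 0, 0, 0, 0, -8]), (2, 13062145, [0, 0, 0, 0, 0, 0, 0, 0, 0, 0, 0, 0, 0, 0, 0, 0, 0, 0, 0, 0, 0, 0, 0, 8])]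

def chain_sx6 : List (ℕ × ℕ × List ℤ) :=
  [(1, 726092881277270949283457701878893732, [2, 2, 2, 0, 0, 0, 2, 2, 2, 2, 2, -2, -2, 0, 0, 2, 0, 0, 2, 2, 2, 2, 0, 2]), (2, 12604486, [2, -2, -2, 0, 0, 0, -2, 2, 2, 2, -2, -2, 2, 0, 0, 2, 0, 0, 2, 2, 2, 2, 0, -2]), (0, 0, [4, 0, 0, 0, 0, 0, 4, 0, 0, 0, 4, 4, 0, 0, 0, 0, 0, 0, 0, 0, 0, 0, 0, 0]), (1, 174012167039538050503817055999115284, [0, 0, 0, 0, 0, 0, 0, 0, 0, 4, 4, 0, 0, 0, 0, 4, 0, 0, 0, 0, 4, 0, 0, 0]), (2, 8043415, [0, 0, 0, 0, 0, 0, 0, 0, 0, -4, 4, 0, 0, 0, 0, -4, 0, 0, 0, 0, -4, 0, 0, 0]), (0, 0, [0, 0, 0, 0, 0, 0, 0, 0, 0, 0, -8, 0, 0, 0, 0, 0, 0, 0, 0, 0, 0, 0, 0, 0]), (1, 29128872078062367489448666720552297, [0, 0, 0, 0, 0, 0, 0, 0, 0, 0, 0, 0, 0, 0, 0, 0, 0,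 0, 0, 0, 0, 0, 0, -8]), (2, 13062145, [0, 0, 0, 0, 0, 0, 0, 0, 0, 0, 0, 0, 0, 0, 0, 0, 0, 0, 0, 0, 0, 0, 0, 8])]

def chain_sx7 : List (ℕ × ℕ × List ℤ) :=
  [(1, 601309151234307551644164636245497227, [2, 2, 2, 0, 2, 0, -2, 2, 0, 2, 2, 0, 0, 2, 0, 2, 2, 0, 0, -2, 2, 2, 2, 2]), (2, 16579157, [-2, 2, -2, 0, -2, 0, 2, 2, 0, -2, 2, 0, 0, -2, 0, -2, 2, 0, 0, 2, -2, -2, -2, -2]), (0, 0, [0, 4, 0, 0, 0, 0, 0, 0, 0, 0, -4, 0, 0, 0, 0, 0, -4, 0, 0, 0, 0, 4, 0, 0]), (1, 483171450319598337509173049347551926, [0, 0, 0, 0, 0, 0, -4, 4, 0, 0, 0, 0, 0, 0, 0, 0, 0, 0, 0, -4, 0, 4, 0, 0]), (2, 13832379, [0, 0, 0, 0, 0, 0, -4, -4, 0, 0, 0, 0, 0, 0, 0, 0, 0, 0, 0, -4, 0, 4, 0, 0]), (0, 0, [0, 0, 0, 0, 0, 0, 0, 0, 0, 0, 0, 0, 0, 0, 0, 0,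 0, 0, 0, 0, 0, -8, 0, 0]), (1, 29492376736006929088146330296305131, [0, 0, 0, 0, 0, 0, 0, 0, 0, 0, 0, 0, 0, 0, 0, 0, 0, 0, 0, 0, 0, 0, 0, -8]), (2, 13062145, [0, 0, 0, 0, 0, 0, 0, 0, 0, 0, 0, 0, 0, 0, 0, 0, 0, 0, 0, 0, 0, 0, 0, 8])]

def chain_sx8 : List (ℕ × ℕ × List ℤ) :=
  [(1, 890910363342215726296432287820569190, [-2, 2, 2, 2, 0, 2, 0, 0, 2, 2, 2, 2, 2, 0, 2, 2, 0, 2, 2, 0, 2, 0, 0, -2]), (2, 12775064, [-2, 2, 2, -2, 0, 2, 0, 0, 2, -2, -2, -2, 2, 0, -2, -2, 0, -2, 2, 0, 2, 0, 0, 2]), (0, 0, [-4, 0, 0, 0, 0, -4, 0, 0, 0, 0, 0, 4, 0, 0, 0, 0, 0, 0, 0, 0, -4, 0, 0, 0]), (1, 51326160195775815657898370894533135, [0, 0, 0, 0, 0, 0, 0, 0, 0, -4, 4, 0, 0, 0, 0, -4, 0, 0, 0, 0, -4, 0, 0, 0]), (2, 8452849, [0, 0, 0, 0, 0,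 0, 0, 0, 0, 4, 4, 0, 0, 0, 0, 4, 0, 0, 0, 0, -4, 0, 0, 0]), (0, 0, [0, 0, 0, 0, 0, 0, 0, 0, 0, 0, 0, 0, 0, 0, 0, 0, 0, 0, 0, 0, 8, 0, 0, 0]), (1, 15200453133970992512463437727114799, [0, 0, 0, 0, 0, 0, 0, 0, 0, 0, 0, 0, 0, 0, 0, 0, 0, 0, 0, 0, 0, 0, 0, 8])]

def chain_sx9 : List (ℕ × ℕ × List ℤ) :=
  [(1, 810742832661155119336602981121505457, [-2, 2, 2, 0, 2, 0, 0, 0, 2, 2, 2, 2, 2, 2, 0, 2, 2, 0, 2, 0, 2, 0, 2, -2]), (2, 1192108, [-2, 2, -2, 0, 2, 0, 0, 0, 2, 2, 2, 2, -2, -2, 0, 2, 2, 0, 2, 0, -2, 0, 2, -2]), (0, 0, [0, 4, 0, 0, 0, 0, 0, 0, 0, 0, 0, 0, 4, 4, 0, 0, 0, 0, 0, 0, 4, 0, 0, 0]), (1, 315087794081138869969356596533537205, [0, 0, 0, 0, 4, 0, 0, 0, 0, 0, 0, 0, 0, 4, 0, 0, 4, 0, 0, 0, 0, 0, 4, 0]), (2, 15613053,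 [0, 0, 0, 0, -4, 0, 0, 0, 0, 0, 0, 0, 0, -4, 0, 0, 4, 0, 0, 0, 0, 0, -4, 0]), (0, 0, [0, 0, 0, 0, 0, 0, 0, 0, 0, 0, 0, 0, 0, 0, 0, 0, -8, 0, 0, 0, 0, 0, 0, 0]), (1, 17146375821753298957593184159761905, [0, 0, 0, 0, 0, 0, 0, 0, 0, 0, 0, 0, 0, 0, 0, 0, 0, 0, 0, 0, 0, 0, 0, -8]), (2, 13062145, [0, 0, 0, 0, 0, 0, 0, 0, 0, 0, 0, 0, 0, 0, 0, 0, 0, 0, 0, 0, 0, 0, 0, 8])]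

def chain_sx10 : List (ℕ × ℕ × List ℤ) :=
  [(1, 901201298692862551064953650016911553, [0, 0, 0, 2, 2, -2, 0, 0, 2, 2, 2, 2, 2, 2, 2, 2, 2, -2, 2, 0, 2, 0, 2, 0]), (2, 11801051, [0, 0, 0, -2, -2, -2, 0, 0, -2, 2, 2, 2, -2, 2, 2, 2, 2, -2, -2, 0, -2, 0, 2, 0]), (0, 0, [0, 0, 0, 0, 4, 0, 0, 0, 0, 0, 0, -4, 0, 0, -4, 0, 0, 0, 0, 0, 4, 0, 0, 0]), (1, 962490975366694363875134779620275500, [0, 0, 0, 0, 0, 0, 4, 4, 0, 0, 0, 0, 0, 0, 0, 0, 0, 0, 0, -4, 0, -4, 0, 0]), (2, 11766981, [0, 0, 0, 0, 0, 0, -4, -4, 0, 0, 0, 0, 0, 0, 0, 0, 0, 0, 0, -4, 0, 4, 0, 0]), (0, 0, [0, 0, 0, 0, 0, 0, 0, 0, 0, 0, 0, 0, 0, 0, 0, 0, 0, 0, 0, 0, 0, -8, 0, 0]), (1, 29492376736006929088146330296305131, [0, 0, 0, 0, 0, 0, 0, 0, 0, 0, 0, 0, 0, 0, 0,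 0, 0, 0, 0, 0, 0, 0, 0, -8]), (2, 13062145, [0, 0, 0, 0, 0, 0, 0, 0, 0, 0, 0, 0, 0, 0, 0, 0, 0, 0, 0, 0, 0, 0, 0, 8])]

def chain_sx11 : List (ℕ × ℕ × List ℤ) :=
  [(1, 175833301205769800344667640212937068, [2, 2, 2, 2, 0, 2, 2, 2, 0, -2, 2, 0, 0, 0, 2, -2, 0, 2, 0, 2, 2, 2, 0, 2]), (2, 4994521, [-2, 2, 2, -2, 0, 2, -2, -2, 0, -2, -2, 0, 0, 0, 2, -2, 0, 2, 0, -2, 2, 2, 0, 2]), (0, 0, [-4, 0, 0, 4, 0, 0, 0, 0, 0, 0, 0, 0, 0, 0, 0, 0, 0, 0, 0, 0, -4, -4, 0, 0]), (1, 61869327213304009988898264268909843, [0, 0, 0, 0, 0, 0, -4, 4, 0, 0, 0, 0, 0, 0, 0, 0, 0, 0, 0, -4, 0, -4, 0, 0]), (2, 2826278, [0, 0, 0, 0, 0, 0, -4, 4, 0, 0, 0, 0, 0, 0, 0, 0, 0, 0, 0, 4, 0, 4, 0, 0]), (0, 0, [0, 0, 0, 0, 0, 0, 8, 0, 0, 0, 0, 0, 0, 0, 0,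 0, 0, 0, 0, 0, 0, 0, 0, 0]), (1, 921841040779540204408771860564877408, [0, 0, 0, 0, 0, 0, 0, 0, 0, 0, 0, 0, 0, 0, 0, 0, 0, 0, 0, 0, 0, 0, 0, 8])]

def chain_sx12 : List (ℕ × ℕ × List ℤ) :=
  [(1, 228529696049443549285008239388370575, [2, 2, -2, 0, 2, 0, 2, 2, 2, 0, 0, 2, 2, 2, 0, 0, 2, 0, 2, 2, 0, 2, 2, -2]), (2, 15762208, [2, 2, -2, 0, 2, 0, 2, 2, -2, 0, 0, 2, 2, 2, 0, 0, 2, 0, 2, 2, 0, -2, -2, 2]), (0, 0, [0, 0, -4, 0, 0, 0, 0, 0, 4, 0, 0, 0, 0, 0, 0, 0, 0, 0, 0, 0, 0, 4, 4, 0]), (1, 422591977063719981972170277334125798, [0, 0, 0, -4, 0, 4, 0, 0, 0, 0, 0, 0, 0, 0, 4, 0, 0, 4, 0, 0, 0, 0, 0, 0]), (2, 9744084, [0, 0, 0, -4, 0, 4, 0, 0, 0, 0, 0, 0, 0, 0, 4, 0, 0, 4, 0, 0, 0, 0, 0, 0]), (0, 0, [0, 0, 0, 8, 0, 0, 0, 0,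 0, 0, 0, 0, 0, 0, 0, 0, 0, 0, 0, 0, 0, 0, 0, 0]), (1, 10843549719495872886819068399306036, [0, 0, 0, 0, 0, 0, 0, 0, 0, 0, 0, 0, 0, 0, 0, 0, 0, 0, 0, 0, 0, 0, 0, 8])]

def chain_sx13 : List (ℕ × ℕ × List ℤ) :=
  [(1, 920638148746210102135497581348784272, [0, 0, 0, 2, 0, 2, -2, 2, 2, 2, 2, 2, 2, 0, 2, 2, 0, 2, 2, 2, 2, -2, 0, 0]), (2, 6949956, [0, 0, 0, 2, 0, 2, 2, 2, 2, 2, -2, -2, 2, 0, 2, 2, 0, -2, 2, -2, 2, 2, 0, 0]), (0, 0, [0, 0, 0, 0, 0, 0, 0, 0, 0, 0, 4, 4, 0, 0, 0, 0, 0, 4, 0, 4, 0, 0, 0, 0]), (1, 521105075517684746602991589343696554, [0, 0, 0, 0, 4, 0, 0, 0, 0, 0, 0, 0, 0, 4, 0, 0, 4, 0, 0, 0, 0, 0, 4, 0]), (2, 12070477, [0, 0, 0, 0, 4, 0, 0, 0, 0, 0, 0, 0, 0, -4, 0, 0, 4, 0, 0, 0, 0, 0, 4, 0]), (0, 0, [0, 0,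 0, 0, 0, 0, 0, 0, 0, 0, 0, 0, 0, 8, 0, 0, 0, 0, 0, 0, 0, 0, 0, 0]), (1, 249778175476785849333719076037773494, [0, 0, 0, 0, 0, 0, 0, 0, 0, 0, 0, 0, 0, 0, 0, 0, 0, 0, 0, 0, 0, 0, 0, 8])]

def chain_sx14 : List (ℕ × ℕ × List ℤ) :=
  [(1, 641698285928482356451433995474443477, [2, -2, 2, 2, 2, 2, 0, 0, 2, 0, 0, 2, 2, 2, 2, 0, 2, 2, 2, 0, 0, 0, 2, -2]), (2, 13396944, [2, -2, 2, 2, -2, 2, 0, 0, -2, 0, 0, -2, 2, -2, -2, 0, 2, 2, -2, 0, 0, 0, -2, 2]), (0, 0, [0, -4, 0, 0, 0, 0, 0, 0, 0, 0, 0, 0, -4, 0, 4, 0, -4, 0, 0, 0, 0, 0, 0, 0]), (1, 223578787595788892038050637342611987, [0, 0, 0, 0, 4, 0, 0, 0, 0, 0, 0, 0, 0, -4, 0, 0, -4, 0, 0, 0, 0, 0, -4, 0]), (2, 6709678, [0, 0, 0, 0, 4, 0, 0, 0, 0, 0, 0, 0, 0, 4, 0, 0, -4, 0, 0, 0,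 0, 0, 4, 0]), (0, 0, [0, 0, 0, 0, 0, 0, 0, 0, 0, 0, 0, 0, 0, 0, 0, 0, 8, 0, 0, 0, 0, 0, 0, 0]), (1, 17146375821753298957593184159761905, [0, 0, 0, 0, 0, 0, 0, 0, 0, 0, 0, 0, 0, 0, 0, 0, 0, 0, 0, 0, 0, 0, 0, 8])]

def chain_sx15 : List (ℕ × ℕ × List ℤ) :=
  [(1, 872677752055986418907077771742888371, [2, 2, 2, 2, 0, -2, 0, 0, 2, 2, 2, 2, 2, 0, -2, 2, 0, 2, 2, 0, 2, 0, 0, 2]), (2, 13309141, [-2, 2, -2, 2, 0, -2, 0, 0, 2, 2, -2, 2, -2, 0, -2, 2, 0, -2, 2, 0, 2, 0, 0, -2]), (0, 0, [0, 4, 0, -4, 0, 0, 0, 0, 0, 0, 4, 0, 4, 0, 0, 0, 0, 0, 0, 0, 0, 0, 0, 0]), (1, 683197891493179242893164082584816289, [0, 0, 0, 0, 0, 0, -4, 4, 0, 0, 0, 0, 0, 0, 0, 0, 0, 0, 0, 4, 0, 4, 0, 0]), (2, 15489305, [0, 0, 0, 0, 0, 0, -4, 4, 0, 0, 0, 0,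 0, 0, 0, 0, 0, 0, 0, -4, 0, -4, 0, 0]), (0, 0, [0, 0, 0, 0, 0, 0, 0, -8, 0, 0, 0, 0, 0, 0, 0, 0, 0, 0, 0, 0, 0, 0, 0, 0]), (1, 8647062396755419192330364184215147, [0, 0, 0, 0, 0, 0, 0, 0, 0, 0, 0, 0, 0, 0, 0, 0, 0, 0, 0, 0, 0, 0, 0, -8]), (2, 13062145, [0, 0, 0, 0, 0, 0, 0, 0, 0, 0, 0, 0, 0, 0, 0, 0, 0, 0, 0, 0, 0, 0, 0, 8])]

/-- All the paths at squared length 64. -/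
def chains64 : List (List ℤ × List (ℕ × ℕ × List ℤ)) :=
  [(rv_fours, chain_fours), (rv_six, chain_six), (rv_k6, chain_k6), (rv_k7, chain_k7), (rv_k8, chain_k8), (rv_k9, chain_k9), (rv_k10, chain_k10), (rv_k11, chain_k11), (rv_k12, chain_k12), (rv_k13, chain_k13), (rv_k15, chain_k15), (rv_k16, chain_k16), (rv_k18, chain_k18), (rv_k19, chain_k19), (rv_k20, chain_k20), (rv_k21, chain_k21), (rv_k22, chain_k22), (rv_ltwelve, chain_ltwelve), (rv_five33, chain_five33), (rv_threes5, chain_threes5), (rv_sx0, chain_sx0), (rv_sx1, chain_sx1), (rv_sx2, chain_sx2), (rv_sx3, chain_sx3), (rv_sx4, chain_sx4), (rv_sx5, chain_sx5), (rv_sx6, chain_sx6), (rv_sx7, chain_sx7), (rv_sx8, chain_sx8), (rv_sx9, chain_sx9), (rv_sx10, chain_sx10),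 (rv_sx11, chain_sx11), (rv_sx12, chain_sx12), (rv_sx13, chain_sx13), (rv_sx14, chain_sx14), (rv_sx15, chain_sx15)]

def kReps : List (List ℤ) :=
  [rv_k6, rv_k7, rv_k8, rv_k9, rv_k10, rv_k11, rv_k12, rv_k13, rv_k15, rv_k16, rv_k18, rv_k19, rv_k20, rv_k21, rv_k22]

def sixteenReps : List (List ℤ) :=
  [rv_sx0, rv_sx1, rv_sx2, rv_sx3, rv_sx4, rv_sx5, rv_sx6, rv_sx7, rv_sx8, rv_sx9, rv_sx10, rv_sx11, rv_sx12, rv_sx13, rv_sx14, rv_sx15]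

/-- Generators of the code words disjoint from the standard octad. -/
def outGens : List ℕ := [8241104, 6889680, 4038912, 832080, 6100032]

end CfsgLib.Sporadic.Conway
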