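import Cfsg.Agent.Lib.Sporadic.ConwayPack

/-!
# Counting inner products over a search tree

An inner product of packed vectors is read off the sum of the nibbles and the sum of their products, and
the counts run over the tree itself, so that the kernel never builds the list of entries.
-/

set_option autoImplicit false

namespace CfsgLib.Sporadic.Conway.DotFast

open Cfsg Finset CfsgLib.ThreeTrans.Leech CfsgLib.Sporadic.Lattice

/-- The sum of the nibbles. -/
noncomputable def dsum (a : ℕ) : ℕ := Nat.rec 0 (fun i acc => Nat.add acc (nib a i)) 24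

/-- The sum of the products of the nibbles. -/
noncomputable def dprod (a b : ℕ) : ℕ :=
  Nat.rec 0 (fun i acc => Nat.add acc (Nat.mul (nib a i) (nib b i))) 24

/-- The inner product of two packed vectors is `k`. -/
noncomputable def dotIs (a b : ℕ) (k : ℤ) : Bool :=
  decide ((Int.ofNat (Nat.add (dprod a b) 1536)) = Int.ofNat (Nat.mul 8 (Nat.add (dsum a) (dsum b))) + k)

theorem rec_range_sum (f : ℕ → ℕ) :
    ∀ n, (Nat.rec 0 (fun i acc => Nat.add acc (f i)) n : ℕ) = ∑ i ∈ Finset.range n, f i
  | 0 => rfl
  | n + 1 => by rw [Finset.sum_range_succ, ← rec_range_sum f n]; rfl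

theorem dotInt_pv (a b : ℕ) :
    dotInt (pv a) (pv b) = (dprod a b : ℤ) - 8 * ((dsum a : ℤ) + dsum b) + 1536 := by
  have hsum : ∀ f : ℕ → ℤ, ∑ i : GolayPt, f (ix i) = ∑ k ∈ Finset.range 24, f k := fun f =>
    Finset.sum_bij' (fun i _ => ix i) (fun k _ => pt k) (fun i _ => Finset.mem_range.2 (ix_lt i))
      (fun k _ => Finset.mem_univ _) (fun i _ => pt_ix i) (fun k hk => ix_pt (Finset.mem_range.1 hk)) fun i _ => rfl
  rw [dprod, dsum, dsum, rec_range_sum (fun i => nib a i), rec_range_sum (fun i => nib b i),
    rec_range_sum (fun i => Nat.mul (nib a i) (nib b i)), dotInt]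
  simp only [pv]
  rw [hsum fun k => ((nib a k : ℤ) - 8) * ((nib b k : ℤ) - 8)]
  simp only [Nat.mul_eq]
  push_cast
  rw [← Finset.sum_add_distrib, Finset.mul_sum, ← Finset.sum_sub_distrib,
    show (1536 : ℤ) = ∑ _k ∈ Finset.range 24, (64 : ℤ) by simp, ← Finset.sum_add_distrib]
  exact Finset.sum_congr rfl fun k _ => by ring

theorem dotIs_eq (a b : ℕ) (k : ℤ) : dotIs a b k = decide (dotInt (pv a) (pv b) = k) := by
  refine decide_eq_decide.2 ?_
  rw [dotInt_pv]
  simp only [Nat.add_eq, Nat.mul_eq, Int.ofNat_eq_natCast]
  push_cast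
  omega

/-- How many keys of a tree satisfy `p`. -/
noncomputable def countKeys (p : ℕ → Bool) : OTree → ℕ
  | .leaf => 0
  | .node l k _ _ r => Nat.add (Nat.add (countKeys p l) (countKeys p r)) (cond (p k) 1 0)

/-- Every key of a tree satisfies `p`. -/
noncomputable def allKeys (p : ℕ → Bool) : OTree → Bool
  | .leaf => true
  | .node l k _ _ r => p k && (allKeys p l && allKeys p r)

theorem countKeys_eq (p : ℕ → Bool) :
    ∀ T : OTree, countKeys p T = (T.entries.filter fun e => p e.1).length
  | .leaf => rfl
  | .node l k d u r => by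
    show countKeys p l + countKeys p r + cond (p k) 1 0 = _
    rw [countKeys_eq p l, countKeys_eq p r, OTree.entries, List.filter_append, List.length_append,
      List.filter_cons]
    cases p k <;> simp [Nat.add_assoc]

theorem allKeys_spec {p : ℕ → Bool} :
    ∀ {T : OTree}, allKeys p T = true → ∀ e ∈ T.entries, p e.1 = true
  | .leaf, _, e, he => absurd he List.not_mem_nil
  | .node l k d u r, h, e, he => by
    simp only [allKeys, Bool.and_eq_true] at h
    simp only [OTree.entries, List.mem_append, List.mem_cons] at he
    rcases he with he | rfl | he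
    · exact allKeys_spec h.2.1 e he
    · exact h.1
    · exact allKeys_spec h.2.2 e he

/-- The count asked for by `ds_bound`, for one extra condition. -/
theorem filter_dot_length {T : OTree} {c : ℕ} {k : ℤ} {n : ℕ}
    (h : countKeys (fun e => dotIs c e k) T = n) :
    (T.entries.filter fun e => [(c, k)].all fun q => decide (dotInt (pv q.1) (pv e.1) = q.2)).length = n := by
  rw [← h, countKeys_eq]
  refine congrArg List.length (List.filter_congr fun e _ => ?_)
  simp [dotIs_eq]

/-- The listed values asked for by `ds_values`. -/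
theorem all_dot_values {T : OTree} {root : ℕ} {vals : List ℤ}
    (h : allKeys (fun e => Nat.beq e root || vals.any fun v => dotIs root e v) T = true) :
    (T.entries.all fun e => Nat.beq e.1 root || decide (dotInt (pv root) (pv e.1) ∈ vals)) = true := by
  refine List.all_eq_true.2 fun e he => ?_
  have h' := allKeys_spec h e he
  simp only [Bool.or_eq_true, List.any_eq_true, dotIs_eq, decide_eq_true_eq] at h' ⊢
  rcases h' with h' | ⟨v, hv, h'⟩
  · exact Or.inl h'
  · exact Or.inr (h' ▸ hv)

/-- Every key has, against one of the listed vectors, an inner product other than `k`. -/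
theorem all_dot_ne {T : OTree} {l : List ℕ} {k : ℤ}
    (h : allKeys (fun e => l.any fun H => !dotIs H e k) T = true) :
    (T.entries.all fun e => l.any fun H => decide (dotInt (pv H) (pv e.1) ≠ k)) = true := by
  refine List.all_eq_true.2 fun e he => ?_
  have h' := allKeys_spec h e he
  simp only [List.any_eq_true, dotIs_eq, Bool.not_eq_true', decide_eq_false_iff_not,
    decide_eq_true_eq] at h' ⊢
  exact h'

end CfsgLib.Sporadic.Conway.DotFast
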