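import Cfsg.Agent.Lib.Sporadic.ConwayCensus

/-!
# The fourth moment of the minimal vectors
-/

set_option autoImplicit false

namespace CfsgLib.Sporadic.Conway

open Cfsg Finset CfsgLib.ThreeTrans.Leech CfsgLib.Sporadic.Lattice

/-- Sums of products of four coordinates over the minimal vectors. -/
noncomputable def moment4 (i j k l : GolayPt) : ℤ := ∑ w ∈ shell 32, w i * w j * w k * w l

theorem moment4_perm (g : ↥M24) (i j k l : GolayPt) :
    moment4 (g • i) (g • j) (g • k) (g • l) = moment4 i j k l := by
  refine Finset.sum_nbij' (permVec g.1⁻¹) (permVec g.1) (fun w hw => ?_) (fun w hw => ?_)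
    (fun w _ => funext fun m => congrArg w (g.1.apply_symm_apply m))
    (fun w _ => funext fun m => congrArg w (g.1.symm_apply_apply m)) fun w _ => ?_
  · rw [mem_shell] at hw ⊢
    exact ⟨mem_iff.2 (isL_perm (inv_mem g.2) (mem_iff.1 hw.1)), (norm_perm _ w).trans hw.2⟩
  · rw [mem_shell] at hw ⊢
    exact ⟨mem_iff.2 (isL_perm g.2 (mem_iff.1 hw.1)), (norm_perm _ w).trans hw.2⟩
  · rfl

theorem moment4_odd {i j k l : GolayPt} {c : Finset GolayPt}
    (hc : c ∈ supports (golayCode : Set (GolayPt → ZMod 2)))
    (h : ((((if i ∈ c then 1 else 0) + if j ∈ c then 1 else 0) + if k ∈ c then 1 else 0) +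
      if l ∈ c then 1 else 0) % 2 = 1) : moment4 i j k l = 0 := by
  have : moment4 i j k l = -moment4 i j k l := by
    rw [moment4, ← Finset.sum_neg_distrib]
    refine Finset.sum_nbij' (flipVec c) (flipVec c) (fun w hw => flip_mem_shell hc hw)
      (fun w hw => flip_mem_shell hc hw) (fun w _ => ThreeTrans.Leech.flip_flip c w)
      (fun w _ => ThreeTrans.Leech.flip_flip c w) fun w _ => ?_
    simp only [flipVec]
    split_ifs at h ⊢ <;> first | ring | omega
  omega

theorem moment4_swap12 (i j k l : GolayPt) : moment4 i j k l = moment4 j i k l :=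
  Finset.sum_congr rfl fun w _ => by ring

theorem moment4_swap23 (i j k l : GolayPt) : moment4 i j k l = moment4 i k j l :=
  Finset.sum_congr rfl fun w _ => by ring

theorem moment4_swap34 (i j k l : GolayPt) : moment4 i j k l = moment4 i j l k :=
  Finset.sum_congr rfl fun w _ => by ring

/-- The common value at one point. -/
noncomputable def fourA : ℤ := moment4 none none none none

/-- The common value at two points. -/
noncomputable def fourB : ℤ := moment4 none none (some 0) (some 0)

theorem moment4_eq (i j k l : GolayPt) : moment4 i j k l =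
    fourB * ((if i = j ∧ k = l then 1 else 0) + (if i = k ∧ j = l then 1 else 0) + (if i = l ∧ j = k then 1 else 0)) +
      (fourA - 3 * fourB) * (if i = j ∧ i = k ∧ i = l then 1 else 0) := by
  have hA : ∀ a, moment4 a a a a = fourA := fun a => by
    obtain ⟨g, hg⟩ := exists_map_list (xs := [none]) (ys := [a]) (by simp) (by simp) rfl (by simp)
    simp only [List.map_cons, List.map_nil, List.cons.injEq, and_true] at hg
    rw [fourA, ← hg, moment4_perm]
  have hB : ∀ a b, a ≠ b → moment4 a a b b = fourB := fun a b hab => by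
    obtain ⟨g, hg⟩ := exists_map_list (xs := [none, some 0]) (ys := [a, b]) (by simp) (by simp [hab]) rfl (by simp)
    simp only [List.map_cons, List.map_nil, List.cons.injEq, and_true] at hg
    rw [fourB, ← hg.1, ← hg.2, moment4_perm]
  have h3 : ∀ a b, a ≠ b → moment4 a a a b = 0 := fun a b hab => by
    obtain ⟨c, hc, ha, hb⟩ := exists_avoid hab
    exact moment4_odd hc (by simp [ha, hb])
  have h2 : ∀ a b d, a ≠ b → a ≠ d → b ≠ d → moment4 a a b d = 0 := fun a b d _ _ hbd => by
    obtain ⟨c, hc, hb, hd⟩ := exists_avoid hbd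
    exact moment4_odd hc (by by_cases ha : a ∈ c <;> simp [ha, hb, hd])
  have h0 : ∀ a b d e, [a, b, d, e].Nodup → moment4 a b d e = 0 := fun a b d e hn => by
    obtain ⟨g, hg⟩ := exists_map_list (xs := [none, some 0, some 1, some 2]) (ys := [a, b, d, e])
      (by decide) hn rfl (by simp)
    simp only [List.map_cons, List.map_nil, List.cons.injEq, and_true] at hg
    rw [← hg.1, ← hg.2.1, ← hg.2.2.1, ← hg.2.2.2, moment4_perm]
    obtain ⟨b', hb', hpar⟩ := (by decide +kernel : ∃ b : Fin 12, inCode (maskOf (setOfMask (basisMask b.val))) = true ∧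
      ((((if (none : GolayPt) ∈ setOfMask (basisMask b.val) then 1 else 0) +
        if (some 0 : GolayPt) ∈ setOfMask (basisMask b.val) then 1 else 0) +
        if (some 1 : GolayPt) ∈ setOfMask (basisMask b.val) then 1 else 0) +
        if (some 2 : GolayPt) ∈ setOfMask (basisMask b.val) then 1 else 0) % 2 = 1)
    exact moment4_odd (mem_supports_iff.2 hb') hpar
  by_cases e1 : i = j
  · subst e1
    by_cases e2 : k = l
    · subst e2
      by_cases e3 : i = k
      · subst e3; rw [hA]; simp; ring
      · rw [hB i k e3]; simp [e3]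
    · by_cases e3 : i = k
      · subst e3; rw [h3 i l e2]; simp [e2]
      · by_cases e4 : i = l
        · subst e4; rw [moment4_swap34, h3 i k e3]; simp [e2, e3]
        · rw [h2 i k l e3 e4 e2]; simp [e2, e3, e4]
  · by_cases e2 : k = l
    · subst e2
      by_cases e3 : i = k
      · subst e3
        rw [show moment4 i j i i = moment4 i i i j from Finset.sum_congr rfl fun w _ => by ring, h3 i j e1]
        simp [e1, Ne.symm e1]
      · by_cases e4 : j = k
        · subst e4
          rw [show moment4 i j j j = moment4 j j j i from Finset.sum_congr rfl fun w _ => by ring,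
            h3 j i (Ne.symm e1)]
          simp [e1]
        · rw [show moment4 i j k k = moment4 k k i j from Finset.sum_congr rfl fun w _ => by ring,
            h2 k i j (Ne.symm e3) (Ne.symm e4) e1]
          simp [e1, e3, e4]
    · by_cases e3 : i = k
      · subst e3
        by_cases e4 : j = l
        · subst e4; rw [moment4_swap23, hB i j e1]; simp [e1, Ne.symm e1]
        · rw [show moment4 i j i l = moment4 i i j l from Finset.sum_congr rfl fun w _ => by ring,
            h2 i j l e1 e2 e4]
          simp [e1, e2, e4]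
      · by_cases e4 : i = l
        · subst e4
          by_cases e5 : j = k
          · subst e5
            rw [show moment4 i j j i = moment4 i i j j from Finset.sum_congr rfl fun w _ => by ring, hB i j e1]
            simp [e1, Ne.symm e1]
          · rw [show moment4 i j k i = moment4 i i j k from Finset.sum_congr rfl fun w _ => by ring,
              h2 i j k e1 e3 e5]
            simp [e1, e3, e5]
        · by_cases e5 : j = k
          · subst e5
            rw [show moment4 i j j l = moment4 j j i l from Finset.sum_congr rfl fun w _ => by ring,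
              h2 j i l (Ne.symm e1) e2 e4]
            simp [e1, e3, e4]
          · by_cases e6 : j = l
            · subst e6
              rw [show moment4 i j k j = moment4 j j i k from Finset.sum_congr rfl fun w _ => by ring,
                h2 j i k (Ne.symm e1) e5 e3]
              simp [e1, e3, e4]
            · rw [h0 i j k l (by simp [e1, e2, e3, e4, e5, e6])]; simp [e1, e3, e4]

theorem fourth_raw (x : Vec) : ∑ w ∈ shell 32, dotInt x w ^ 4 =
    (fourA - 3 * fourB) * (∑ i, x i ^ 4) + 3 * fourB * sqNorm x ^ 2 := by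
  have e : ∀ w : Vec, dotInt x w ^ 4 =
      ∑ i, ∑ j, ∑ k, ∑ l, (x i * x j * x k * x l) * (w i * w j * w k * w l) := fun w => by
    rw [show dotInt x w = ∑ i, x i * w i from rfl, (fun s => by ring : ∀ s : ℤ, s ^ 4 = s * s * s * s), Finset.sum_mul_sum, Finset.sum_mul, Finset.sum_mul]
    refine Finset.sum_congr rfl fun i _ => ?_
    rw [Finset.sum_mul, Finset.sum_mul]
    refine Finset.sum_congr rfl fun j _ => ?_
    rw [mul_assoc, Finset.sum_mul_sum, Finset.mul_sum]
    refine Finset.sum_congr rfl fun k _ => ?_
    rw [Finset.mul_sum]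
    exact Finset.sum_congr rfl fun l _ => by ring
  rw [Finset.sum_congr rfl fun w _ => e w]
  have step : ∀ (f : GolayPt → GolayPt → GolayPt → GolayPt → Vec → ℤ),
      ∑ w ∈ shell 32, ∑ i, ∑ j, ∑ k, ∑ l, f i j k l w = ∑ i, ∑ j, ∑ k, ∑ l, ∑ w ∈ shell 32, f i j k l w := by
    intro f
    rw [Finset.sum_comm]
    refine Finset.sum_congr rfl fun i _ => ?_
    rw [Finset.sum_comm]
    refine Finset.sum_congr rfl fun j _ => ?_
    rw [Finset.sum_comm]
    exact Finset.sum_congr rfl fun k _ => Finset.sum_comm
  rw [step]
  simp only [← Finset.mul_sum]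
  rw [show (∑ i, ∑ j, ∑ k, ∑ l, x i * x j * x k * x l * ∑ w ∈ shell 32, w i * w j * w k * w l) =
      ∑ i, ∑ j, ∑ k, ∑ l, x i * x j * x k * x l * moment4 i j k l from rfl]
  simp only [moment4_eq, mul_add, Finset.sum_add_distrib, mul_ite, mul_one, mul_zero, ite_and]
  simp only [Finset.sum_ite_eq, Finset.mem_univ, if_true, Finset.sum_ite_irrel, Finset.sum_const_zero]
  simp only [sqNorm, sq, Finset.sum_mul_sum, Finset.mul_sum, ← Finset.sum_add_distrib]
  refine Finset.sum_congr rfl fun i _ => ?_
  rw [Finset.sum_mul, Finset.mul_sum]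
  rw [add_comm]
  refine congrArg₂ (· + ·) ?_ (Finset.sum_congr rfl fun j _ => ?_)
  · ring
  · ring

theorem fourth_moment (x : Vec) : ∑ w ∈ shell 32, dotInt x w ^ 4 = 967680 * sqNorm x ^ 2 := by
  have key : ∀ v ∈ shell 32, ∑ w ∈ shell 32, dotInt v w ^ 4 = 990904320 := by
    intro v hv
    obtain ⟨hvL, hvn⟩ := mem_shell.1 hv
    have hvv : dotInt v v = 32 := by
      rw [← hvn]; exact Finset.sum_congr rfl fun i _ => (sq (v i)).symm
    have hmaps : ∀ w ∈ shell 32, dotInt v w ∈ ({32, -32, 16, -16, 8, -8, 0} : Finset ℤ) := by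
      intro w hw
      obtain ⟨hwL, hwn⟩ := mem_shell.1 hw
      simp only [Finset.mem_insert, Finset.mem_singleton]
      rcases dot_cases hvL hwL hvn hwn with rfl | rfl | h | h | h | h | h
      · exact Or.inl hvv
      · exact Or.inr (Or.inl (by rw [dot_neg_right, hvv]))
      all_goals omega
    rw [← Finset.sum_fiberwise_of_maps_to hmaps,
      Finset.sum_congr rfl (g := fun k => ((dotClass v k).card : ℤ) * k ^ 4) fun k _ => by
        rw [dotClass, Finset.sum_congr rfl fun w hw => by rw [(Finset.mem_filter.1 hw).2],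
          Finset.sum_const, nsmul_eq_mul]]
    have hone : (dotClass v 32).card = 1 := by
      rw [Finset.card_eq_one]
      refine ⟨v, Finset.eq_singleton_iff_unique_mem.2 ⟨Finset.mem_filter.2 ⟨hv, hvv⟩, fun w hw => ?_⟩⟩
      obtain ⟨h1, h2⟩ := Finset.mem_filter.1 hw
      obtain ⟨hwL, hwn⟩ := mem_shell.1 h1
      rcases dot_cases hvL hwL hvn hwn with rfl | rfl | h | h | h | h | h
      · rfl
      · rw [dot_neg_right, hvv] at h2; norm_num at h2
      all_goals omega
    obtain ⟨a, b, c⟩ := census hv
    rw [Finset.sum_insert (by decide), Finset.sum_insert (by decide), Finset.sum_insert (by decide),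
      Finset.sum_insert (by decide), Finset.sum_insert (by decide), Finset.sum_insert (by decide),
      Finset.sum_singleton, dotClass_neg v 32, dotClass_neg v 16, dotClass_neg v 8, hone, c]
    have e16 := dotClass_neg v 16; have e8 := dotClass_neg v 8
    rw [show (dotClass v 16).card = 4600 by omega, show (dotClass v 8).card = 47104 by omega]
    norm_num
  have hp : vecOf rv_pair ∈ shell 32 ∧ (∑ i, vecOf rv_pair i ^ 4) = 512 ∧ sqNorm (vecOf rv_pair) = 32 := by
    refine ⟨mem_shell.2 ⟨mem_iff.2 (isL_of_test (by decide +kernel)), by decide +kernel⟩, by decide +kernel,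
      by decide +kernel⟩
  have ho : vecOf rv_oct ∈ shell 32 ∧ (∑ i, vecOf rv_oct i ^ 4) = 128 ∧ sqNorm (vecOf rv_oct) = 32 := by
    refine ⟨mem_shell.2 ⟨mem_iff.2 (isL_of_test (by decide +kernel)), by decide +kernel⟩, by decide +kernel,
      by decide +kernel⟩
  have h1 := key _ hp.1
  have h2 := key _ ho.1
  rw [fourth_raw, hp.2.1, hp.2.2] at h1
  rw [fourth_raw, ho.2.1, ho.2.2] at h2
  have hB : fourB = 322560 := by omega
  have hA : fourA - 3 * fourB = 0 := by omega
  rw [fourth_raw, hA, hB]
  ring

/-- Inner products of a vector of squared length 48 with the minimal vectors. -/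
theorem census48_dots {u : Vec} (hu : u ∈ shell 48) :
    (dotClass u (-16)).card = 11178 ∧ (dotClass u 8).card = 48600 := by
  obtain ⟨huL, hun⟩ := mem_shell.1 hu
  have hmaps : ∀ w ∈ shell 32, dotInt u w ∈ ({24, -24, 16, -16, 8, -8, 0} : Finset ℤ) := by
    intro w hw
    obtain ⟨hwL, hwn⟩ := mem_shell.1 hw
    have n1 : u - w ≠ 0 := fun e => by rw [sub_eq_zero.1 e] at hun; omega
    have n2 : u + w ≠ 0 := fun e => by
      rw [eq_neg_of_add_eq_zero_left e, show sqNorm (-w) = sqNorm w by simp [sqNorm]] at hun; omega
    have a1 := norm_ge (mem_iff.1 (sub_mem huL hwL)) n1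
    have a2 := norm_ge (mem_iff.1 (add_mem huL hwL)) n2
    have a3 := norm_dvd (mem_iff.1 (add_mem huL hwL))
    rw [sq_sub_dot, hun, hwn] at a1
    rw [sq_add_dot, hun, hwn] at a2 a3
    simp only [Finset.mem_insert, Finset.mem_singleton]
    omega
  have h552 : (dotClass u 24).card = 552 := by
    rw [← splits48 hu]
    refine congrArg Finset.card (Finset.filter_congr fun w hw => ?_)
    obtain ⟨hwL, hwn⟩ := mem_shell.1 hw
    rw [mem_shell, sq_sub_dot, hun, hwn]
    exact ⟨fun h => ⟨sub_mem huL hwL, by omega⟩, fun h => by omega⟩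
  have hcount : (shell 32).card = ∑ k ∈ ({24, -24, 16, -16, 8, -8, 0} : Finset ℤ), (dotClass u k).card := by
    rw [Finset.card_eq_sum_card_fiberwise (f := dotInt u) hmaps]
    exact Finset.sum_congr rfl fun k _ => rfl
  have h2 := second_moment u
  have h4 := fourth_moment u
  have mom : ∀ n : ℕ, ∑ w ∈ shell 32, dotInt u w ^ n =
      ∑ k ∈ ({24, -24, 16, -16, 8, -8, 0} : Finset ℤ), ((dotClass u k).card : ℤ) * k ^ n := fun n => by
    rw [← Finset.sum_fiberwise_of_maps_to hmaps]
    refine Finset.sum_congr rfl fun k _ => ?_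
    rw [dotClass, Finset.sum_congr rfl fun w hw => by rw [(Finset.mem_filter.1 hw).2],
      Finset.sum_const, nsmul_eq_mul]
  rw [mom, hun] at h2 h4
  have e24 := dotClass_neg u 24
  have e16 := dotClass_neg u 16
  have e8 := dotClass_neg u 8
  rw [Finset.sum_insert (by decide), Finset.sum_insert (by decide), Finset.sum_insert (by decide),
    Finset.sum_insert (by decide), Finset.sum_insert (by decide), Finset.sum_insert (by decide),
    Finset.sum_singleton] at hcount h2 h4
  norm_num at h2 h4
  omega

end CfsgLib.Sporadic.Conway
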