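import Cfsg.Agent.Lib.Recog.Icosian.Checks

/-!
# Coordinates of the icosian lattice inside the lattice of rank 24

The integer matrix of the isometry, preimages of generators, and the data bounding the centraliser of a
reflection inside the centraliser of a scalar of order five.
-/

set_option autoImplicit false
set_option maxRecDepth 100000
set_option maxHeartbeats 2000000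

namespace CfsgLib.Sporadic.ConwayIco

open CfsgLib.Recog.Icosian

/-- Rows of four times the isometry, on doubled coordinates. -/
def mRows : List (List ℤ) := [
  [-2, 0, 0, 0, 0, 0, 0, 0, 0, -1, 0, -1, 0, -1, 0, 1, 1, -1, 1, -1, -1, 1, -1, 1],
  [-2, -4, 0, 0, 0, 0, 0, 0, -2, -3, -2, -3, -2, -3, 2, 3, -1, -1, -1, -1, 1, 1, 1, 1],
  [0, 0, -2, -2, 0, 0, 0, 2, 2, 3, -2, -3, 0, -1, 0, -1, 1, 1, 1, -1, 1, -1, 1, 1],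
  [0, 0, -2, -2, 0, 0, 0, -2, 0, 1, 0, -1, -2, -3, -2, -3, -1, 1, -1, -1, -1, -1, -1, 1],
  [-2, 0, 0, 0, 0, 0, 0, 0, 0, -1, 0, -1, 0, -1, 0, 1, 1, 3, 1, 3, -1, -3, -1, -3],
  [0, 0, 0, 2, -2, -2, 0, 0, 0, 1, 2, 3, 0, -1, 2, 3, -1, -1, 1, 1, 1, -1, -1, 1],
  [0, 0, 0, 0, 0, 2, -2, -2, 2, 1, 0, 1, 0, -1, 2, 1, 1, 3, -1, -1, 1, 3, -1, -1],
  [0, 0, -2, -2, 0, 0, 0, -2, 0, 1, 0, -1, 2, 1, 2, 1, -1, -3, -1, -1, -1, -1, -1, -3],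
  [-2, -2, 0, 2, 0, -2, 0, -2, 0, 1, 0, 1, 0, 1, 0, -1, 3, 3, -1, -1, 1, 1, 1, 1],
  [0, 0, 0, 0, 0, 2, 2, 2, 0, 1, 2, 1, -2, -1, 0, 1, 1, 1, -1, -3, 1, 1, -1, -3],
  [0, 0, -2, -2, 0, 0, 0, 2, -2, -1, 2, 1, 0, -1, 0, -1, 1, 1, 1, 3, 1, 3, 1, 1],
  [0, 0, 0, 2, -2, -2, 0, 0, 0, 1, -2, -1, 0, -1, -2, -1, -1, -1, 1, 1, 1, 3, -1, -3],
  [-2, -4, 0, 0, 0, 0, 0, 0, 2, 1, 2, 1, 2, 1, -2, -1, -1, -1, -1, -1, 1, 1, 1, 1],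
  [-2, -2, 0, -2, 0, 2, 0, -2, 0, 1, 0, 1, 0, 1, 0, -1, -1, -1, 3, 3, 1, 1, 1, 1],
  [0, 0, 0, 2, 2, 2, 0, 0, -2, -3, 0, -1, 2, 3, 0, -1, -1, 1, 1, -1, 1, 1, -1, -1],
  [0, -2, -2, -2, -2, -2, 2, 2, 0, -3, 0, 1, 0, 1, 0, -1, 1, 1, 1, 1, -1, -1, -1, -1],
  [0, 2, -2, -2, 2, 2, 2, 2, 0, -1, 0, 3, 0, -1, 0, 1, -1, -1, -1, -1, 1, 1, 1, 1],
  [0, 0, 0, 0, 0, 2, 2, 2, 0, 1, -2, -3, 2, 3, 0, 1, 1, 1, -1, 1, 1, 1, -1, 1],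
  [0, -2, -2, -2, 2, 2, -2, -2, 0, 1, 0, 1, 0, 1, 0, 3, 1, 1, 1, 1, -1, -1, -1, -1],
  [2, 2, 0, 2, 0, 2, 0, -2, 0, -1, 0, -1, 0, -1, 0, 1, 1, 1, 1, 1, -1, -1, 3, 3],
  [0, 2, -2, -2, -2, -2, -2, -2, 0, -1, 0, -1, 0, 3, 0, 1, -1, -1, -1, -1, 1, 1, 1, 1],
  [2, 2, 0, -2, 0, -2, 0, -2, 0, -1, 0, -1, 0, -1, 0, 1, 1, 1, 1, 1, 3, 3, -1, -1],
  [0, 0, 0, 2, 2, 2, 0, 0, 2, 1, 0, -1, -2, -1, 0, -1, -1, -3, 1, 3, 1, 1, -1, -1],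
  [0, 0, 0, 0, 0, 2, -2, -2, -2, -3, 0, 1, 0, -1, -2, -3, 1, -1, -1, -1, 1, -1, -1, -1]]

/-- Preimages of the generators of the lattice of rank 24. -/
def genPre : List V := [
  (((-1, 0), (-3, 1), (0, 0), (2, -1)), ((1, 0), (1, -1), (0, 0), (0, 1)), ((-1, 1), (1, 0), (0, 1), (0, 0))),
  (((-2, 1), (0, 0), (-1, 1), (-1, 0)), ((0, -1), (0, 0), (1, -1), (-1, 0)), ((3, -2), (1, -1), (0, 0), (-2, 1))),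
  (((0, -1), (0, 0), (-1, 1), (-1, 0)), ((-1, -1), (-1, 0), (0, -1), (0, 0)), ((1, -1), (-1, 0), (2, -1), (0, 0))),
  (((0, 0), (-1, 0), (-1, 1), (-2, 1)), ((0, 0), (-1, 0), (1, -1), (0, -1)), ((2, -1), (1, -1), (3, -2), (0, 0))),
  (((0, 0), (-1, 0), (-1, 1), (0, -1)), ((-1, 0), (0, 0), (0, -1), (-1, -1)), ((0, 0), (-1, 0), (1, -1), (-2, 1))),
  (((-2, 1), (0, 0), (-1, 1), (-1, 0)), ((0, -1), (0, 0), (1, -1), (-1, 0)), ((1, 0), (-1, 1), (2, -2), (0, -1))),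
  (((0, 0), (-1, 1), (-2, 1), (-1, 0)), ((-1, 0), (0, 1), (1, -1), (0, 0)), ((1, -1), (0, 0), (3, -2), (-2, 1))),
  (((0, 0), (0, 0), (-2, 2), (-2, 0)), ((1, -1), (-1, 1), (1, -1), (1, -1)), ((1, 0), (-1, 0), (1, 0), (-1, 0))),
  (((0, 0), (-1, 0), (-1, 1), (0, -1)), ((-1, 0), (0, 0), (2, -1), (1, -1)), ((2, -2), (-1, 0), (1, -1), (0, -1))),
  (((-1, 0), (-1, 1), (0, 0), (0, -1)), ((-1, 0), (-1, 1), (0, 0), (0, -1)), ((3, -1), (-1, 0), (2, -1), (0, 0))),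
  (((0, 0), (0, 0), (-2, 2), (0, 0)), ((-1, 0), (1, 0), (-1, 0), (-1, 0)), ((2, -1), (0, -1), (2, -1), (0, -1))),
  (((0, 0), (-1, 0), (-1, 1), (-2, 1)), ((-2, 0), (1, 0), (1, -1), (0, -1)), ((2, -1), (-1, 1), (1, 0), (0, 0))),
  (((0, 0), (-1, 1), (-2, 1), (-1, 0)), ((-1, 0), (-2, 1), (1, -1), (-2, 0)), ((1, -1), (0, 0), (1, 0), (0, -1))),
  (((0, -1), (0, 0), (-1, 1), (-1, 0)), ((1, -1), (1, 0), (2, -1), (-2, 0)), ((1, -1), (-1, 0), (2, -1), (0, 0))),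
  (((-1, 0), (1, -1), (-2, 2), (0, -1)), ((-1, 0), (-1, 1), (0, 0), (0, -1)), ((1, -1), (1, 0), (2, -1), (0, 0))),
  (((0, 0), (-1, 1), (0, 1), (-1, 0)), ((-1, -1), (0, 0), (1, 0), (0, -1)), ((0, 0), (1, -1), (2, -1), (-1, 0))),
  (((1, -1), (-1, 0), (-2, 1), (0, 0)), ((1, -2), (-1, 1), (0, 0), (0, -1)), ((2, -1), (0, 0), (1, -1), (-1, 0))),
  (((-1, 1), (-1, 0), (0, 1), (0, 0)), ((0, -1), (-2, 2), (1, -1), (-1, 0)), ((1, -1), (-1, 0), (2, -1), (0, 0))),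
  (((0, 0), (0, 0), (-2, 2), (0, 0)), ((-1, 0), (-1, 0), (1, 0), (-1, 0)), ((2, -1), (-2, 1), (2, -1), (-2, 1))),
  (((1, -1), (-1, 0), (0, 1), (-2, 0)), ((-1, 0), (-1, 1), (0, 0), (-2, 1)), ((2, -1), (0, 0), (1, -1), (-1, 0))),
  (((1, 0), (-1, 1), (-2, 2), (0, -1)), ((0, -1), (0, 0), (1, -1), (-1, 0)), ((2, -1), (0, 0), (1, -1), (1, 0))),
  (((-1, 1), (-1, 0), (-2, 1), (-2, 0)), ((0, -1), (0, 0), (-1, 1), (-1, 0)), ((1, -1), (-1, 0), (2, -1), (0, 0))),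
  (((1, 0), (1, -1), (0, 0), (0, -1)), ((0, -1), (0, 0), (1, -1), (-1, 0)), ((2, -1), (0, 0), (3, -1), (-1, 0))),
  (((0, 0), (-1, 1), (0, 1), (-1, 0)), ((1, -1), (0, 0), (-1, 0), (0, -1)), ((2, -2), (-1, 1), (2, -1), (-1, 0))),
  (((0, 0), (0, 0), (-2, 2), (-2, 0)), ((-1, -1), (-1, 1), (1, -1), (-1, -1)), ((3, -2), (-1, 0), (3, -2), (-1, 0))),
  (((-1, 0), (-2, 1), (1, 1), (0, 0)), ((1, -1), (0, 0), (1, 0), (-2, 1)), ((1, -1), (0, 0), (1, 0), (-2, 1))),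
  (((0, -1), (-2, 1), (0, 1), (2, -1)), ((2, -2), (0, 0), (0, 0), (0, 0)), ((-1, 0), (1, 0), (1, 0), (1, 0))),
  (((0, -1), (-2, 0), (-1, 1), (-1, 0)), ((2, -1), (0, 0), (-1, 1), (-1, 0)), ((1, -1), (1, 0), (2, -1), (0, 0))),
  (((1, -1), (-1, 0), (0, 1), (2, -2)), ((1, 0), (1, -1), (0, 0), (-2, 1)), ((0, 0), (0, 1), (1, 0), (-1, 1))),
  (((-2, 1), (-1, 0), (-2, 2), (1, -1)), ((1, -1), (0, 0), (1, 0), (-2, 1)), ((0, 0), (-1, 1), (2, -1), (1, 0))),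
  (((0, 0), (-1, 0), (-1, 1), (0, -1)), ((-1, 0), (0, 0), (0, 1), (-1, 1)), ((0, 0), (1, 0), (3, -1), (-2, 1))),
  (((2, -1), (-2, 1), (0, 1), (0, -1)), ((2, -2), (0, 0), (0, 0), (0, 0)), ((1, 0), (1, 0), (1, 0), (-1, 0))),
  (((1, -1), (-3, 1), (-1, 1), (1, -1)), ((1, -1), (1, -1), (1, 1), (-1, 1)), ((0, 0), (0, 0), (0, 0), (0, 0))),
  (((0, 0), (-2, 0), (0, 0), (2, -2)), ((1, -1), (-1, 1), (-1, 1), (-1, 1)), ((1, 0), (1, 0), (1, 0), (1, 0))),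
  (((0, 1), (-2, 1), (0, 1), (2, -1)), ((1, -1), (1, -1), (-1, 1), (-1, 1)), ((0, 0), (0, 0), (2, 0), (0, 0))),
  (((0, 0), (-2, 0), (0, 0), (0, 0)), ((1, -2), (1, 0), (1, 0), (-1, 0)), ((0, 0), (0, 0), (2, 0), (0, 0))),
  (((0, 0), (-1, 0), (-1, 1), (2, -1)), ((1, -1), (-2, 1), (0, 0), (-1, 0)), ((1, -1), (0, 1), (2, 0), (-1, 0)))]

/-- The scalar of order five. -/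
def zeta : Q := ((-1, 1), (-1, 0), (0, -1), (0, 0))

/-- A second root in the minus space of the first reflection. -/
def secondRoot : V := (((-2, 1), (-1, 0), (0, 0), (-1, 1)), ((1, 0), (0, -1), (1, -1), (0, 0)), ((2, -1), (3, -2), (0, 0), (-1, 1)))

/-- `8 e_i` on the octad, in the rotated roots. -/
def eightCoef : List (List ℤ) := [[-1, 0, 0, -1, 2, 1, 1, 1],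
  [1, 2, 2, 1, 2, 3, 1, -1],
  [1, 0, 0, 1, 0, -1, -1, -1],
  [-1, 0, -2, -1, 0, -1, -1, -1],
  [1, 2, 0, 1, 0, -1, -1, -1],
  [-1, 0, 0, 1, 0, 1, 3, 1],
  [-1, 0, 0, 1, 0, 1, 1, 1],
  [1, 0, 0, 1, 0, 1, 1, 1]]

/-- Eight times the scalar on the coordinate vectors. -/
def scalRows : List (List ℤ) := [
  [-6, 2, -2, -2, 0, -2, 0, 0, 0, 0, 0, 0, 0, 0, -2, 0, 0, 2, 0, 0, 0, 0, 0, 2],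
  [2, 2, -2, -2, 0, -2, 0, 0, 0, 0, 0, 0, 0, 0, 6, 0, 0, 2, 0, 0, 0, 0, 0, 2],
  [2, 2, -2, 6, 0, -2, 0, 0, 0, 0, 0, 0, 0, 0, -2, 0, 0, 2, 0, 0, 0, 0, 0, 2],
  [2, 2, -2, -2, 0, -2, 0, 0, 0, 0, 0, 0, 0, 0, -2, 0, 0, -6, 0, 0, 0, 0, 0, 2],
  [0, 0, 0, 0, -2, 0, -2, -2, -2, -2, -2, -2, -2, 2, 0, 2, -2, 0, 2, 2, -2, -2, -2, 0],
  [2, 2, -2, -2, 0, -2, 0, 0, 0, 0, 0, 0, 0, 0, -2, 0, 0, 2, 0, 0, 0, 0, 0, -6],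
  [0, 0, 0, 0, 2, 0, -2, 2, 2, 2, -2, 2, -2, -2, 0, -2, -2, 0, 2, 2, -2, 2, -2, 0],
  [0, 0, 0, 0, 2, 0, -2, -2, -2, -2, -2, 2, 2, 2, 0, -2, -2, 0, 2, -2, 2, 2, 2, 0],
  [0, 0, 0, 0, 2, 0, 2, -2, -2, 2, -2, -2, 2, -2, 0, -2, -2, 0, -2, -2, -2, -2, -2, 0],
  [0, 0, 0, 0, 2, 0, 2, 2, -2, -2, -2, -2, -2, -2, 0, 2, 2, 0, 2, -2, -2, 2, 2, 0],
  [0, 0, 0, 0, 2, 0, 2, -2, 2, 2, -2, -2, 2, 2, 0, 2, 2, 0, 2, 2, 2, 2, -2, 0],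
  [0, 0, 0, 0, 2, 0, -2, -2, 2, 2, 2, -2, -2, 2, 0, 2, -2, 0, -2, -2, -2, 2, 2, 0],
  [0, 0, 0, 0, -2, 0, 2, -2, 2, 2, -2, 2, -2, 2, 0, -2, 2, 0, 2, -2, -2, -2, 2, 0],
  [0, 0, 0, 0, -2, 0, 2, -2, 2, -2, 2, -2, 2, -2, 0, -2, -2, 0, 2, 2, -2, 2, 2, 0],
  [2, -6, -2, -2, 0, -2, 0, 0, 0, 0, 0, 0, 0, 0, -2, 0, 0, 2, 0, 0, 0, 0, 0, 2],
  [0, 0, 0, 0, 2, 0, -2, 2, 2, -2, 2, -2, 2, 2, 0, -2, 2, 0, 2, -2, -2, -2, -2, 0],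
  [0, 0, 0, 0, -2, 0, 2, 2, -2, 2, 2, -2, -2, 2, 0, -2, -2, 0, 2, -2, 2, 2, -2, 0],
  [-2, -2, 2, 2, 0, -6, 0, 0, 0, 0, 0, 0, 0, 0, 2, 0, 0, -2, 0, 0, 0, 0, 0, -2],
  [0, 0, 0, 0, 2, 0, 2, 2, 2, -2, -2, -2, -2, 2, 0, -2, -2, 0, -2, 2, 2, -2, 2, 0],
  [0, 0, 0, 0, -2, 0, -2, -2, 2, -2, -2, -2, -2, -2, 0, -2, 2, 0, -2, -2, 2, 2, -2, 0],
  [0, 0, 0, 0, -2, 0, 2, 2, 2, -2, -2, 2, 2, 2, 0, 2, -2, 0, -2, -2, -2, 2, -2, 0],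
  [0, 0, 0, 0, 2, 0, 2, -2, 2, -2, 2, 2, -2, -2, 0, 2, -2, 0, 2, -2, 2, -2, -2, 0],
  [0, 0, 0, 0, 2, 0, 2, -2, -2, -2, 2, 2, -2, 2, 0, -2, 2, 0, -2, 2, -2, 2, -2, 0],
  [-2, -2, -6, 2, 0, 2, 0, 0, 0, 0, 0, 0, 0, 0, 2, 0, 0, -2, 0, 0, 0, 0, 0, -2]]

/-- Minimal vectors on the octad and their rotations. -/
def rotPart0 : List (List (List ℤ)) := [
  [[4, 4, 0, 0, 0, 0, 0, 0], [-2, 2, -2, -2, -2, 2, 2, 2], [0, -4, 0, 0, 0, 4, 0, 0], [0, -4, 0, 0, 0, -4, 0, 0], [-2, 2, 2, 2, 2, -2, -2, -2]],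
  [[4, 0, 4, 0, 0, 0, 0, 0], [-2, 2, -2, 2, -2, -2, 2, 2], [0, 0, 0, 0, 0, 4, -4, 0], [2, -2, -2, -2, 2, -2, 2, 2], [-4, 0, 0, 0, 0, 0, 0, -4]],
  [[4, 0, 0, 4, 0, 0, 0, 0], [-2, 2, -2, -2, -2, -2, -2, 2], [0, 0, 0, 0, 4, 4, 0, 0], [2, -2, -2, -2, -2, -2, 2, -2], [-4, 0, 4, 0, 0, 0, 0, 0]],
  [[4, 0, 0, 0, 4, 0, 0, 0], [-2, 2, -2, -2, -2, -2, 2, -2], [0, 0, 4, 0, 0, 4, 0, 0], [2, -2, -2, 2, -2, -2, 2, 2], [-4, 0, 0, 0, 0, 0, -4, 0]],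
  [[4, 0, 0, 0, 0, 4, 0, 0], [-2, -2, -2, -2, -2, -2, 2, 2], [-2, -2, 2, 2, 2, 2, -2, -2], [4, 0, 0, 0, 0, -4, 0, 0], [-4, 4, 0, 0, 0, 0, 0, 0]],
  [[4, 0, 0, 0, 0, 0, 0, 4], [-4, 0, -4, 0, 0, 0, 0, 0], [2, -2, 2, -2, 2, 2, -2, -2], [0, 0, 0, 0, 0, -4, 4, 0], [-2, 2, 2, 2, -2, 2, -2, -2]],
  [[4, 0, 0, 0, 0, 0, 4, 0], [-4, 0, 0, 0, -4, 0, 0, 0], [2, -2, 2, 2, 2, 2, -2, 2], [0, 0, -4, 0, 0, -4, 0, 0], [-2, 2, 2, -2, 2, 2, -2, -2]],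
  [[4, 0, 0, 0, 0, 0, -4, 0], [-2, 2, -2, -2, 2, -2, 2, 2], [0, 0, 0, 0, 0, 4, 0, -4], [2, -2, 2, -2, -2, -2, 2, 2], [-4, 0, 0, 4, 0, 0, 0, 0]],
  [[4, 0, 0, 0, 0, 0, 0, -4], [-2, 2, 2, -2, -2, -2, 2, 2], [0, 0, 0, 4, 0, 4, 0, 0], [2, -2, -2, -2, -2, -2, -2, 2], [-4, 0, 0, 0, 4, 0, 0, 0]],
  [[4, 0, 0, 0, 0, -4, 0, 0], [-4, 4, 0, 0, 0, 0, 0, 0], [4, 0, 0, 0, 0, 4, 0, 0], [-2, -2, -2, -2, -2, -2, 2, 2], [-2, -2, 2, 2, 2, 2, -2, -2]],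
  [[4, 0, 0, 0, -4, 0, 0, 0], [-4, 0, 0, 0, 0, 0, 0, 4], [2, -2, -2, 2, 2, 2, -2, -2], [0, 0, 0, -4, 0, -4, 0, 0], [-2, 2, 2, 2, 2, 2, 2, -2]],
  [[4, 0, 0, -4, 0, 0, 0, 0], [-4, 0, 0, 0, 0, 0, 4, 0], [2, -2, 2, 2, -2, 2, -2, -2], [0, 0, 0, 0, 0, -4, 0, 4], [-2, 2, -2, 2, 2, 2, -2, -2]],
  [[4, 0, -4, 0, 0, 0, 0, 0], [-4, 0, 0, -4, 0, 0, 0, 0], [2, -2, 2, 2, 2, 2, 2, -2], [0, 0, 0, 0, -4, -4, 0, 0], [-2, 2, 2, 2, 2, 2, -2, 2]],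
  [[4, -4, 0, 0, 0, 0, 0, 0], [-4, 0, 0, 0, 0, -4, 0, 0], [2, 2, 2, 2, 2, 2, -2, -2], [2, 2, -2, -2, -2, -2, 2, 2], [-4, 0, 0, 0, 0, 4, 0, 0]],
  [[2, 2, 2, 2, 2, 2, 2, 2], [0, 0, -4, 0, -4, 0, 0, 0], [-2, -2, 2, -2, 2, 2, -2, 2], [2, -2, -2, 2, 2, -2, 2, -2], [-2, 2, 2, -2, -2, -2, -2, -2]],
  [[2, 2, 2, 2, 2, 2, -2, -2], [2, 2, -2, -2, -2, -2, 2, 2], [-4, 0, 0, 0, 0, 4, 0, 0], [4, -4, 0, 0, 0, 0, 0, 0], [-4, 0, 0, 0, 0, -4, 0, 0]],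
  [[2, 2, 2, 2, 2, -2, -2, 2], [0, 4, -4, 0, 0, 0, 0, 0], [0, 0, 0, -4, 0, 4, 0, 0], [0, -4, 0, 0, 0, 0, 4, 0], [-2, -2, 2, 2, -2, -2, -2, -2]],
  [[2, 2, 2, 2, 2, -2, 2, -2], [0, 4, 0, 0, -4, 0, 0, 0], [0, 0, 0, 0, 0, 4, 0, 4], [0, -4, -4, 0, 0, 0, 0, 0], [-2, -2, 2, -2, 2, -2, -2, -2]],
  [[2, 2, 2, 2, -2, 2, -2, 2], [0, 0, -4, 0, 0, 0, 0, 4], [-2, -2, -2, -2, 2, 2, -2, -2], [2, -2, 2, -2, 2, -2, 2, -2], [-2, 2, 2, 2, -2, -2, 2, -2]],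
  [[2, 2, 2, 2, -2, 2, 2, -2], [0, 0, 0, 0, -4, 0, 0, 4], [-2, -2, -2, 2, 2, 2, -2, 2], [2, -2, -2, -2, 2, -2, -2, -2], [-2, 2, 2, -2, 2, -2, 2, -2]],
  [[2, 2, 2, -2, 2, 2, -2, 2], [0, 0, -4, 0, 0, 0, 4, 0], [-2, -2, 2, -2, -2, 2, -2, -2], [2, -2, 2, 2, 2, -2, 2, 2], [-2, 2, -2, 2, -2, -2, -2, -2]],
  [[2, 2, -2, 2, 2, 2, -2, 2], [0, 0, -4, -4, 0, 0, 0, 0], [-2, -2, 2, -2, 2, 2, 2, -2], [2, -2, 2, 2, -2, -2, 2, -2], [-2, 2, 2, 2, -2, -2, -2, 2]],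
  [[2, 2, 2, -2, 2, 2, 2, -2], [0, 0, 0, 0, -4, 0, 4, 0], [-2, -2, 2, 2, -2, 2, -2, 2], [2, -2, -2, 2, 2, -2, -2, 2], [-2, 2, -2, -2, 2, -2, -2, -2]],
  [[2, 2, -2, 2, 2, 2, 2, -2], [0, 0, 0, -4, -4, 0, 0, 0], [-2, -2, 2, 2, 2, 2, 2, 2], [2, -2, -2, 2, -2, -2, -2, -2], [-2, 2, 2, -2, 2, -2, -2, 2]],
  [[2, 2, 2, 2, -2, -2, 2, 2], [-2, 2, -2, 2, -2, 2, -2, 2], [2, -2, -2, -2, 2, 2, -2, 2], [-2, -2, -2, -2, 2, -2, 2, -2], [0, 0, 4, 0, 0, 0, 0, -4]],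
  [[2, 2, 2, 2, -2, -2, -2, -2], [0, 4, 0, 0, 0, 0, 0, 4], [0, 0, -4, 0, 0, 4, 0, 0], [0, -4, 0, -4, 0, 0, 0, 0], [-2, -2, 2, 2, 2, -2, 2, -2]],
  [[2, 2, 2, -2, 2, -2, 2, 2], [-2, 2, -2, 2, -2, 2, 2, -2], [2, -2, 2, -2, -2, 2, -2, 2], [-2, -2, -2, 2, 2, -2, 2, 2], [0, 0, 0, 0, 0, 0, -4, -4]],
  [[2, 2, -2, 2, 2, -2, 2, 2], [-2, 2, -2, -2, -2, 2, -2, -2], [2, -2, 2, -2, 2, 2, 2, 2], [-2, -2, -2, 2, -2, -2, 2, -2], [0, 0, 4, 0, 0, 0, -4, 0]],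
  [[2, 2, 2, -2, 2, -2, -2, -2], [0, 4, 0, 0, 0, 0, 4, 0], [0, 0, 0, 0, -4, 4, 0, 0], [0, -4, 0, 0, 0, 0, 0, 4], [-2, -2, -2, 2, 2, -2, -2, -2]],
  [[2, 2, -2, 2, 2, -2, -2, -2], [0, 4, 0, -4, 0, 0, 0, 0], [0, 0, 0, 0, 0, 4, 4, 0], [0, -4, 0, 0, -4, 0, 0, 0], [-2, -2, 2, 2, 2, -2, -2, 2]]]

/-- Minimal vectors on the octad and their rotations. -/
def rotPart1 : List (List (List ℤ)) := [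
  [[2, 2, 2, -2, -2, 2, 2, 2], [-2, -2, -2, 2, -2, 2, 2, 2], [0, -4, 0, 0, 0, 0, -4, 0], [0, 0, 0, 0, 4, -4, 0, 0], [0, 4, 0, 0, 0, 0, 0, -4]],
  [[2, 2, -2, 2, -2, 2, 2, 2], [-2, -2, -2, -2, -2, 2, -2, 2], [0, -4, 0, 0, 4, 0, 0, 0], [0, 0, 0, 0, 0, -4, 0, -4], [0, 4, 4, 0, 0, 0, 0, 0]],
  [[2, 2, 2, -2, -2, 2, -2, -2], [0, 0, 0, 0, 0, 0, 4, 4], [-2, -2, -2, 2, -2, 2, -2, -2], [2, -2, 2, -2, 2, -2, -2, 2], [-2, 2, -2, 2, 2, -2, 2, -2]],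
  [[2, 2, -2, 2, -2, 2, -2, -2], [0, 0, 0, -4, 0, 0, 0, 4], [-2, -2, -2, 2, 2, 2, 2, -2], [2, -2, 2, -2, -2, -2, -2, -2], [-2, 2, 2, 2, 2, -2, 2, 2]],
  [[2, 2, -2, -2, 2, 2, 2, 2], [-2, -2, -2, -2, -2, 2, 2, -2], [0, -4, 4, 0, 0, 0, 0, 0], [0, 0, 0, 4, 0, -4, 0, 0], [0, 4, 0, 0, 0, 0, -4, 0]],
  [[2, 2, -2, -2, 2, 2, -2, -2], [0, 0, 0, -4, 0, 0, 4, 0], [-2, -2, 2, 2, -2, 2, 2, -2], [2, -2, 2, 2, -2, -2, -2, 2], [-2, 2, -2, 2, 2, -2, -2, 2]],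
  [[2, 2, 2, -2, -2, -2, -2, 2], [-2, 2, -2, 2, 2, 2, 2, 2], [2, -2, -2, -2, -2, 2, -2, -2], [-2, -2, 2, -2, 2, -2, 2, 2], [0, 0, 0, 4, 0, 0, 0, -4]],
  [[2, 2, -2, 2, -2, -2, -2, 2], [-2, 2, -2, -2, 2, 2, -2, 2], [2, -2, -2, -2, 2, 2, 2, -2], [-2, -2, 2, -2, -2, -2, 2, -2], [0, 0, 4, 4, 0, 0, 0, 0]],
  [[2, 2, 2, -2, -2, -2, 2, -2], [-2, 2, 2, 2, -2, 2, 2, 2], [2, -2, -2, 2, -2, 2, -2, 2], [-2, -2, -2, -2, 2, -2, -2, 2], [0, 0, 0, 0, 4, 0, 0, -4]],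
  [[2, 2, -2, 2, -2, -2, 2, -2], [-2, 2, 2, -2, -2, 2, -2, 2], [2, -2, -2, 2, 2, 2, 2, 2], [-2, -2, -2, -2, -2, -2, -2, -2], [0, 0, 4, 0, 4, 0, 0, 0]],
  [[2, 2, -2, -2, 2, -2, -2, 2], [-2, 2, -2, -2, 2, 2, 2, -2], [2, -2, 2, -2, -2, 2, 2, -2], [-2, -2, 2, 2, -2, -2, 2, 2], [0, 0, 0, 4, 0, 0, -4, 0]],
  [[2, 2, -2, -2, 2, -2, 2, -2], [-2, 2, 2, -2, -2, 2, 2, -2], [2, -2, 2, 2, -2, 2, 2, 2], [-2, -2, -2, 2, -2, -2, -2, 2], [0, 0, 0, 0, 4, 0, -4, 0]],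
  [[2, 2, -2, -2, -2, 2, -2, 2], [-2, -2, -2, -2, 2, 2, 2, 2], [0, -4, 0, 0, 0, 0, 0, -4], [0, 0, 4, 0, 0, -4, 0, 0], [0, 4, 0, 4, 0, 0, 0, 0]],
  [[2, 2, -2, -2, -2, 2, 2, -2], [-2, -2, 2, -2, -2, 2, 2, 2], [0, -4, 0, 4, 0, 0, 0, 0], [0, 0, 0, 0, 0, -4, -4, 0], [0, 4, 0, 0, 4, 0, 0, 0]],
  [[2, 2, -2, -2, -2, -2, 2, 2], [-4, 0, 0, 0, 0, 4, 0, 0], [4, -4, 0, 0, 0, 0, 0, 0], [-4, 0, 0, 0, 0, -4, 0, 0], [2, 2, 2, 2, 2, 2, -2, -2]],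
  [[2, 2, -2, -2, -2, -2, -2, -2], [-2, 2, 2, -2, 2, 2, 2, 2], [2, -2, -2, 2, -2, 2, 2, -2], [-2, -2, 2, -2, -2, -2, -2, 2], [0, 0, 0, 4, 4, 0, 0, 0]],
  [[2, -2, 2, 2, 2, 2, -2, 2], [0, 0, -4, 0, 0, -4, 0, 0], [-2, 2, 2, -2, 2, 2, -2, -2], [4, 0, 0, 0, 0, 0, 4, 0], [-4, 0, 0, 0, -4, 0, 0, 0]],
  [[2, -2, 2, 2, 2, 2, 2, -2], [0, 0, 0, 0, -4, -4, 0, 0], [-2, 2, 2, 2, 2, 2, -2, 2], [4, 0, -4, 0, 0, 0, 0, 0], [-4, 0, 0, -4, 0, 0, 0, 0]],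
  [[2, -2, 2, 2, 2, -2, 2, 2], [-2, 2, -2, 2, -2, -2, -2, -2], [2, 2, 2, -2, 2, 2, -2, 2], [0, 0, -4, 0, 0, 0, 4, 0], [-2, -2, 2, -2, -2, 2, -2, -2]],
  [[2, -2, 2, 2, 2, -2, -2, -2], [0, 4, 0, 0, 0, -4, 0, 0], [0, 4, 0, 0, 0, 4, 0, 0], [2, -2, -2, -2, -2, 2, 2, 2], [-4, -4, 0, 0, 0, 0, 0, 0]],
  [[2, -2, 2, 2, -2, 2, 2, 2], [-2, -2, -2, 2, -2, -2, -2, 2], [0, 0, 0, 0, 4, 0, -4, 0], [2, 2, -2, -2, 2, -2, 2, -2], [-2, 2, 2, -2, -2, 2, 2, -2]],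
  [[2, -2, 2, 2, -2, 2, -2, -2], [0, 0, 0, 0, 0, -4, 0, 4], [-2, 2, -2, 2, 2, 2, -2, -2], [4, 0, 0, -4, 0, 0, 0, 0], [-4, 0, 0, 0, 0, 0, 4, 0]],
  [[2, -2, 2, -2, 2, 2, 2, 2], [-2, -2, -2, 2, -2, -2, 2, -2], [0, 0, 4, 0, 0, 0, -4, 0], [2, 2, -2, 2, 2, -2, 2, 2], [-2, 2, -2, -2, -2, 2, -2, -2]],
  [[2, -2, -2, 2, 2, 2, 2, 2], [-2, -2, -2, -2, -2, -2, -2, -2], [0, 0, 4, 0, 4, 0, 0, 0], [2, 2, -2, 2, -2, -2, 2, -2], [-2, 2, 2, -2, -2, 2, -2, 2]],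
  [[2, -2, 2, -2, 2, 2, -2, -2], [0, 0, 0, 0, 0, -4, 4, 0], [-2, 2, 2, 2, -2, 2, -2, -2], [4, 0, 0, 0, 0, 0, 0, 4], [-4, 0, -4, 0, 0, 0, 0, 0]],
  [[2, -2, -2, 2, 2, 2, -2, -2], [0, 0, 0, -4, 0, -4, 0, 0], [-2, 2, 2, 2, 2, 2, 2, -2], [4, 0, 0, 0, -4, 0, 0, 0], [-4, 0, 0, 0, 0, 0, 0, 4]],
  [[2, -2, 2, 2, -2, -2, -2, 2], [-2, 2, -2, 2, 2, -2, -2, 2], [2, 2, -2, -2, 2, 2, -2, -2], [0, 0, 0, -4, 0, 0, 4, 0], [-2, -2, 2, 2, -2, 2, 2, -2]],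
  [[2, -2, 2, 2, -2, -2, 2, -2], [-2, 2, 2, 2, -2, -2, -2, 2], [2, 2, -2, 2, 2, 2, -2, 2], [0, 0, -4, -4, 0, 0, 0, 0], [-2, -2, 2, -2, 2, 2, 2, -2]],
  [[2, -2, 2, -2, 2, -2, -2, 2], [-2, 2, -2, 2, 2, -2, 2, -2], [2, 2, 2, -2, -2, 2, -2, -2], [0, 0, 0, 0, 0, 0, 4, 4], [-2, -2, -2, 2, -2, 2, -2, -2]],
  [[2, -2, -2, 2, 2, -2, -2, 2], [-2, 2, -2, -2, 2, -2, -2, -2], [2, 2, 2, -2, 2, 2, 2, -2], [0, 0, 0, 0, -4, 0, 4, 0], [-2, -2, 2, 2, -2, 2, -2, 2]]]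

/-- Minimal vectors on the octad and their rotations. -/
def rotPart2 : List (List (List ℤ)) := [
  [[2, -2, 2, -2, 2, -2, 2, -2], [-2, 2, 2, 2, -2, -2, 2, -2], [2, 2, 2, 2, -2, 2, -2, 2], [0, 0, -4, 0, 0, 0, 0, 4], [-2, -2, -2, -2, 2, 2, -2, -2]],
  [[2, -2, -2, 2, 2, -2, 2, -2], [-2, 2, 2, -2, -2, -2, -2, -2], [2, 2, 2, 2, 2, 2, 2, 2], [0, 0, -4, 0, -4, 0, 0, 0], [-2, -2, 2, -2, 2, 2, -2, 2]],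
  [[2, -2, 2, -2, -2, 2, -2, 2], [-2, -2, -2, 2, 2, -2, 2, 2], [0, 0, 0, 0, 0, 0, -4, -4], [2, 2, 2, -2, 2, -2, 2, 2], [-2, 2, -2, 2, -2, 2, 2, -2]],
  [[2, -2, -2, 2, -2, 2, -2, 2], [-2, -2, -2, -2, 2, -2, -2, 2], [0, 0, 0, 0, 4, 0, 0, -4], [2, 2, 2, -2, -2, -2, 2, -2], [-2, 2, 2, 2, -2, 2, 2, 2]],
  [[2, -2, 2, -2, -2, 2, 2, -2], [-2, -2, 2, 2, -2, -2, 2, 2], [0, 0, 0, 4, 0, 0, -4, 0], [2, 2, -2, -2, 2, -2, -2, 2], [-2, 2, -2, -2, 2, 2, 2, -2]],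
  [[2, -2, -2, 2, -2, 2, 2, -2], [-2, -2, 2, -2, -2, -2, -2, 2], [0, 0, 0, 4, 4, 0, 0, 0], [2, 2, -2, -2, -2, -2, -2, -2], [-2, 2, 2, -2, 2, 2, 2, 2]],
  [[2, -2, -2, -2, 2, 2, -2, 2], [-2, -2, -2, -2, 2, -2, 2, -2], [0, 0, 4, 0, 0, 0, 0, -4], [2, 2, 2, 2, -2, -2, 2, 2], [-2, 2, -2, 2, -2, 2, -2, 2]],
  [[2, -2, -2, -2, 2, 2, 2, -2], [-2, -2, 2, -2, -2, -2, 2, -2], [0, 0, 4, 4, 0, 0, 0, 0], [2, 2, -2, 2, -2, -2, -2, 2], [-2, 2, -2, -2, 2, 2, -2, 2]],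
  [[2, -2, 2, -2, -2, -2, 2, 2], [-4, 0, 0, 4, 0, 0, 0, 0], [4, 0, 0, 0, 0, 0, -4, 0], [-2, 2, -2, -2, 2, -2, 2, 2], [0, 0, 0, 0, 0, 4, 0, -4]],
  [[2, -2, -2, 2, -2, -2, 2, 2], [-4, 0, 0, 0, 0, 0, -4, 0], [4, 0, 0, 0, 4, 0, 0, 0], [-2, 2, -2, -2, -2, -2, 2, -2], [0, 0, 4, 0, 0, 4, 0, 0]],
  [[2, -2, 2, -2, -2, -2, -2, -2], [-2, 2, 2, 2, 2, -2, 2, 2], [2, 2, -2, 2, -2, 2, -2, -2], [0, 0, 0, -4, 0, 0, 0, 4], [-2, -2, -2, 2, 2, 2, 2, -2]],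
  [[2, -2, -2, 2, -2, -2, -2, -2], [-2, 2, 2, -2, 2, -2, -2, 2], [2, 2, -2, 2, 2, 2, 2, -2], [0, 0, 0, -4, -4, 0, 0, 0], [-2, -2, 2, 2, 2, 2, 2, 2]],
  [[2, -2, -2, -2, 2, -2, 2, 2], [-4, 0, 0, 0, 0, 0, 0, -4], [4, 0, 4, 0, 0, 0, 0, 0], [-2, 2, -2, 2, -2, -2, 2, 2], [0, 0, 0, 0, 0, 4, -4, 0]],
  [[2, -2, -2, -2, 2, -2, -2, -2], [-2, 2, 2, -2, 2, -2, 2, -2], [2, 2, 2, 2, -2, 2, 2, -2], [0, 0, 0, 0, -4, 0, 0, 4], [-2, -2, -2, 2, 2, 2, -2, 2]],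
  [[2, -2, -2, -2, -2, 2, 2, 2], [-4, -4, 0, 0, 0, 0, 0, 0], [2, -2, 2, 2, 2, -2, -2, -2], [0, 4, 0, 0, 0, -4, 0, 0], [0, 4, 0, 0, 0, 4, 0, 0]],
  [[2, -2, -2, -2, -2, 2, -2, -2], [-2, -2, 2, -2, 2, -2, 2, 2], [0, 0, 0, 4, 0, 0, 0, -4], [2, 2, 2, -2, -2, -2, -2, 2], [-2, 2, -2, 2, 2, 2, 2, 2]],
  [[2, -2, -2, -2, -2, -2, -2, 2], [-4, 0, 0, 0, 4, 0, 0, 0], [4, 0, 0, 0, 0, 0, 0, -4], [-2, 2, 2, -2, -2, -2, 2, 2], [0, 0, 0, 4, 0, 4, 0, 0]],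
  [[2, -2, -2, -2, -2, -2, 2, -2], [-4, 0, 4, 0, 0, 0, 0, 0], [4, 0, 0, 4, 0, 0, 0, 0], [-2, 2, -2, -2, -2, -2, -2, 2], [0, 0, 0, 0, 4, 4, 0, 0]],
  [[0, 4, 4, 0, 0, 0, 0, 0], [2, 2, -2, 2, -2, 2, 2, 2], [-2, -2, -2, -2, -2, 2, -2, 2], [0, -4, 0, 0, 4, 0, 0, 0], [0, 0, 0, 0, 0, -4, 0, -4]],
  [[0, 4, 0, 4, 0, 0, 0, 0], [2, 2, -2, -2, -2, 2, -2, 2], [-2, -2, -2, -2, 2, 2, 2, 2], [0, -4, 0, 0, 0, 0, 0, -4], [0, 0, 4, 0, 0, -4, 0, 0]],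
  [[0, 4, 0, 0, 4, 0, 0, 0], [2, 2, -2, -2, -2, 2, 2, -2], [-2, -2, 2, -2, -2, 2, 2, 2], [0, -4, 0, 4, 0, 0, 0, 0], [0, 0, 0, 0, 0, -4, -4, 0]],
  [[0, 4, 0, 0, 0, 4, 0, 0], [2, -2, -2, -2, -2, 2, 2, 2], [-4, -4, 0, 0, 0, 0, 0, 0], [2, -2, 2, 2, 2, -2, -2, -2], [0, 4, 0, 0, 0, -4, 0, 0]],
  [[0, 4, 0, 0, 0, 0, 0, 4], [0, 0, -4, 0, 0, 4, 0, 0], [0, -4, 0, -4, 0, 0, 0, 0], [-2, -2, 2, 2, 2, -2, 2, -2], [2, 2, 2, 2, -2, -2, -2, -2]],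
  [[0, 4, 0, 0, 0, 0, 4, 0], [0, 0, 0, 0, -4, 4, 0, 0], [0, -4, 0, 0, 0, 0, 0, 4], [-2, -2, -2, 2, 2, -2, -2, -2], [2, 2, 2, -2, 2, -2, -2, -2]],
  [[0, 4, 0, 0, 0, 0, -4, 0], [2, 2, -2, -2, 2, 2, 2, 2], [-2, -2, -2, -2, -2, 2, 2, -2], [0, -4, 4, 0, 0, 0, 0, 0], [0, 0, 0, 4, 0, -4, 0, 0]],
  [[0, 4, 0, 0, 0, 0, 0, -4], [2, 2, 2, -2, -2, 2, 2, 2], [-2, -2, -2, 2, -2, 2, 2, 2], [0, -4, 0, 0, 0, 0, -4, 0], [0, 0, 0, 0, 4, -4, 0, 0]],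
  [[0, 4, 0, 0, 0, -4, 0, 0], [0, 4, 0, 0, 0, 4, 0, 0], [2, -2, -2, -2, -2, 2, 2, 2], [-4, -4, 0, 0, 0, 0, 0, 0], [2, -2, 2, 2, 2, -2, -2, -2]],
  [[0, 4, 0, 0, -4, 0, 0, 0], [0, 0, 0, 0, 0, 4, 0, 4], [0, -4, -4, 0, 0, 0, 0, 0], [-2, -2, 2, -2, 2, -2, -2, -2], [2, 2, 2, 2, 2, -2, 2, -2]],
  [[0, 4, 0, -4, 0, 0, 0, 0], [0, 0, 0, 0, 0, 4, 4, 0], [0, -4, 0, 0, -4, 0, 0, 0], [-2, -2, 2, 2, 2, -2, -2, 2], [2, 2, -2, 2, 2, -2, -2, -2]],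
  [[0, 4, -4, 0, 0, 0, 0, 0], [0, 0, 0, -4, 0, 4, 0, 0], [0, -4, 0, 0, 0, 0, 4, 0], [-2, -2, 2, 2, -2, -2, -2, -2], [2, 2, 2, 2, 2, -2, -2, 2]]]

/-- Minimal vectors on the octad and their rotations. -/
def rotPart3 : List (List (List ℤ)) := [
  [[0, 0, 4, 4, 0, 0, 0, 0], [2, 2, -2, 2, -2, -2, -2, 2], [-2, 2, -2, -2, 2, 2, -2, 2], [2, -2, -2, -2, 2, 2, 2, -2], [-2, -2, 2, -2, -2, -2, 2, -2]],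
  [[0, 0, 4, 0, 4, 0, 0, 0], [2, 2, -2, 2, -2, -2, 2, -2], [-2, 2, 2, -2, -2, 2, -2, 2], [2, -2, -2, 2, 2, 2, 2, 2], [-2, -2, -2, -2, -2, -2, -2, -2]],
  [[0, 0, 0, 4, 4, 0, 0, 0], [2, 2, -2, -2, -2, -2, -2, -2], [-2, 2, 2, -2, 2, 2, 2, 2], [2, -2, -2, 2, -2, 2, 2, -2], [-2, -2, 2, -2, -2, -2, -2, 2]],
  [[0, 0, 4, 0, 0, 4, 0, 0], [2, -2, -2, 2, -2, -2, 2, 2], [-4, 0, 0, 0, 0, 0, -4, 0], [4, 0, 0, 0, 4, 0, 0, 0], [-2, 2, -2, -2, -2, -2, 2, -2]],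
  [[0, 0, 0, 4, 0, 4, 0, 0], [2, -2, -2, -2, -2, -2, -2, 2], [-4, 0, 0, 0, 4, 0, 0, 0], [4, 0, 0, 0, 0, 0, 0, -4], [-2, 2, 2, -2, -2, -2, 2, 2]],
  [[0, 0, 0, 0, 4, 4, 0, 0], [2, -2, -2, -2, -2, -2, 2, -2], [-4, 0, 4, 0, 0, 0, 0, 0], [4, 0, 0, 4, 0, 0, 0, 0], [-2, 2, -2, -2, -2, -2, -2, 2]],
  [[0, 0, 4, 0, 0, 0, 0, 4], [0, 0, -4, 4, 0, 0, 0, 0], [0, 0, 0, -4, 0, 0, -4, 0], [0, 0, 0, 0, 4, 0, 4, 0], [0, 0, 0, 0, -4, 0, 0, -4]],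
  [[0, 0, 0, 4, 0, 0, 0, 4], [0, 0, -4, 0, 0, 0, -4, 0], [0, 0, 0, -4, 4, 0, 0, 0], [0, 0, 0, 0, 0, 0, 4, -4], [0, 0, 4, 0, -4, 0, 0, 0]],
  [[0, 0, 4, 0, 0, 0, 4, 0], [0, 0, 0, 4, -4, 0, 0, 0], [0, 0, 0, 0, 0, 0, -4, 4], [0, 0, -4, 0, 4, 0, 0, 0], [0, 0, 0, -4, 0, 0, 0, -4]],
  [[0, 0, 0, 4, 0, 0, 4, 0], [0, 0, 0, 0, -4, 0, -4, 0], [0, 0, 0, 0, 4, 0, 0, 4], [0, 0, -4, 0, 0, 0, 0, -4], [0, 0, 4, -4, 0, 0, 0, 0]],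
  [[0, 0, 4, 0, 0, 0, -4, 0], [2, 2, -2, 2, 2, -2, 2, 2], [-2, 2, -2, -2, -2, 2, -2, -2], [2, -2, 2, -2, 2, 2, 2, 2], [-2, -2, -2, 2, -2, -2, 2, -2]],
  [[0, 0, 0, 4, 0, 0, -4, 0], [2, 2, -2, -2, 2, -2, -2, 2], [-2, 2, -2, -2, 2, 2, 2, -2], [2, -2, 2, -2, -2, 2, 2, -2], [-2, -2, 2, 2, -2, -2, 2, 2]],
  [[0, 0, 4, 0, 0, 0, 0, -4], [2, 2, 2, 2, -2, -2, 2, 2], [-2, 2, -2, 2, -2, 2, -2, 2], [2, -2, -2, -2, 2, 2, -2, 2], [-2, -2, -2, -2, 2, -2, 2, -2]],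
  [[0, 0, 0, 4, 0, 0, 0, -4], [2, 2, 2, -2, -2, -2, -2, 2], [-2, 2, -2, 2, 2, 2, 2, 2], [2, -2, -2, -2, -2, 2, -2, -2], [-2, -2, 2, -2, 2, -2, 2, 2]],
  [[0, 0, 0, 0, 4, 0, 0, 4], [0, 0, -4, 0, 0, 0, 0, -4], [0, 0, 4, -4, 0, 0, 0, 0], [0, 0, 0, 4, 0, 0, 4, 0], [0, 0, 0, 0, -4, 0, -4, 0]],
  [[0, 0, 0, 0, 4, 0, 4, 0], [0, 0, 0, 0, -4, 0, 0, -4], [0, 0, 4, 0, 0, 0, 0, 4], [0, 0, -4, 4, 0, 0, 0, 0], [0, 0, 0, -4, 0, 0, -4, 0]],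
  [[0, 0, 0, 0, 4, 0, -4, 0], [2, 2, -2, -2, 2, -2, 2, -2], [-2, 2, 2, -2, -2, 2, 2, -2], [2, -2, 2, 2, -2, 2, 2, 2], [-2, -2, -2, 2, -2, -2, -2, 2]],
  [[0, 0, 0, 0, 4, 0, 0, -4], [2, 2, 2, -2, -2, -2, 2, -2], [-2, 2, 2, 2, -2, 2, 2, 2], [2, -2, -2, 2, -2, 2, -2, 2], [-2, -2, -2, -2, 2, -2, -2, 2]],
  [[0, 0, 0, 0, 0, 4, 0, 4], [0, -4, -4, 0, 0, 0, 0, 0], [-2, -2, 2, -2, 2, -2, -2, -2], [2, 2, 2, 2, 2, -2, 2, -2], [0, 4, 0, 0, -4, 0, 0, 0]],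
  [[0, 0, 0, 0, 0, 4, 4, 0], [0, -4, 0, 0, -4, 0, 0, 0], [-2, -2, 2, 2, 2, -2, -2, 2], [2, 2, -2, 2, 2, -2, -2, -2], [0, 4, 0, -4, 0, 0, 0, 0]],
  [[0, 0, 0, 0, 0, 4, -4, 0], [2, -2, -2, -2, 2, -2, 2, 2], [-4, 0, 0, 0, 0, 0, 0, -4], [4, 0, 4, 0, 0, 0, 0, 0], [-2, 2, -2, 2, -2, -2, 2, 2]],
  [[0, 0, 0, 0, 0, 4, 0, -4], [2, -2, 2, -2, -2, -2, 2, 2], [-4, 0, 0, 4, 0, 0, 0, 0], [4, 0, 0, 0, 0, 0, -4, 0], [-2, 2, -2, -2, 2, -2, 2, 2]],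
  [[0, 0, 4, 0, 0, -4, 0, 0], [0, 4, 0, 4, 0, 0, 0, 0], [2, 2, -2, -2, -2, 2, -2, 2], [-2, -2, -2, -2, 2, 2, 2, 2], [0, -4, 0, 0, 0, 0, 0, -4]],
  [[0, 0, 0, 4, 0, -4, 0, 0], [0, 4, 0, 0, 0, 0, -4, 0], [2, 2, -2, -2, 2, 2, 2, 2], [-2, -2, -2, -2, -2, 2, 2, -2], [0, -4, 4, 0, 0, 0, 0, 0]],
  [[0, 0, 4, 0, -4, 0, 0, 0], [0, 0, 0, 4, 0, 0, 0, 4], [0, 0, -4, 0, 0, 0, -4, 0], [0, 0, 0, -4, 4, 0, 0, 0], [0, 0, 0, 0, 0, 0, 4, -4]],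
  [[0, 0, 0, 4, -4, 0, 0, 0], [0, 0, 0, 0, 0, 0, -4, 4], [0, 0, -4, 0, 4, 0, 0, 0], [0, 0, 0, -4, 0, 0, 0, -4], [0, 0, 4, 0, 0, 0, 4, 0]],
  [[0, 0, 0, 0, 4, -4, 0, 0], [0, 4, 0, 0, 0, 0, 0, -4], [2, 2, 2, -2, -2, 2, 2, 2], [-2, -2, -2, 2, -2, 2, 2, 2], [0, -4, 0, 0, 0, 0, -4, 0]],
  [[0, 0, 0, 0, 0, 0, 4, 4], [-2, -2, -2, 2, -2, 2, -2, -2], [2, -2, 2, -2, 2, -2, -2, 2], [-2, 2, -2, 2, 2, -2, 2, -2], [2, 2, 2, -2, -2, 2, -2, -2]],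
  [[0, 0, 0, 0, 0, 0, -4, 4], [0, 0, -4, 0, 4, 0, 0, 0], [0, 0, 0, -4, 0, 0, 0, -4], [0, 0, 4, 0, 0, 0, 4, 0], [0, 0, 0, 4, -4, 0, 0, 0]],
  [[0, 0, 4, -4, 0, 0, 0, 0], [0, 0, 0, 4, 0, 0, 4, 0], [0, 0, 0, 0, -4, 0, -4, 0], [0, 0, 0, 0, 4, 0, 0, 4], [0, 0, -4, 0, 0, 0, 0, -4]]]

/-- Minimal vectors on the octad and their rotations. -/
def rotPart4 : List (List (List ℤ)) := [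
  [[0, 0, -4, 4, 0, 0, 0, 0], [0, 0, 0, -4, 0, 0, -4, 0], [0, 0, 0, 0, 4, 0, 4, 0], [0, 0, 0, 0, -4, 0, 0, -4], [0, 0, 4, 0, 0, 0, 0, 4]],
  [[0, 0, 0, 0, 0, 0, 4, -4], [0, 0, 4, 0, -4, 0, 0, 0], [0, 0, 0, 4, 0, 0, 0, 4], [0, 0, -4, 0, 0, 0, -4, 0], [0, 0, 0, -4, 4, 0, 0, 0]],
  [[0, 0, 0, 0, 0, 0, -4, -4], [2, 2, 2, -2, 2, -2, 2, 2], [-2, 2, -2, 2, -2, 2, 2, -2], [2, -2, 2, -2, -2, 2, -2, 2], [-2, -2, -2, 2, 2, -2, 2, 2]],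
  [[0, 0, 0, 0, -4, 4, 0, 0], [0, -4, 0, 0, 0, 0, 0, 4], [-2, -2, -2, 2, 2, -2, -2, -2], [2, 2, 2, -2, 2, -2, -2, -2], [0, 4, 0, 0, 0, 0, 4, 0]],
  [[0, 0, 0, -4, 4, 0, 0, 0], [0, 0, 0, 0, 0, 0, 4, -4], [0, 0, 4, 0, -4, 0, 0, 0], [0, 0, 0, 4, 0, 0, 0, 4], [0, 0, -4, 0, 0, 0, -4, 0]],
  [[0, 0, -4, 0, 4, 0, 0, 0], [0, 0, 0, -4, 0, 0, 0, -4], [0, 0, 4, 0, 0, 0, 4, 0], [0, 0, 0, 4, -4, 0, 0, 0], [0, 0, 0, 0, 0, 0, -4, 4]],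
  [[0, 0, 0, -4, 0, 4, 0, 0], [0, -4, 0, 0, 0, 0, 4, 0], [-2, -2, 2, 2, -2, -2, -2, -2], [2, 2, 2, 2, 2, -2, -2, 2], [0, 4, -4, 0, 0, 0, 0, 0]],
  [[0, 0, -4, 0, 0, 4, 0, 0], [0, -4, 0, -4, 0, 0, 0, 0], [-2, -2, 2, 2, 2, -2, 2, -2], [2, 2, 2, 2, -2, -2, -2, -2], [0, 4, 0, 0, 0, 0, 0, 4]],
  [[0, 0, 0, 0, 0, -4, 0, 4], [-2, 2, -2, 2, 2, 2, -2, -2], [4, 0, 0, -4, 0, 0, 0, 0], [-4, 0, 0, 0, 0, 0, 4, 0], [2, -2, 2, 2, -2, 2, -2, -2]],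
  [[0, 0, 0, 0, 0, -4, 4, 0], [-2, 2, 2, 2, -2, 2, -2, -2], [4, 0, 0, 0, 0, 0, 0, 4], [-4, 0, -4, 0, 0, 0, 0, 0], [2, -2, 2, -2, 2, 2, -2, -2]],
  [[0, 0, 0, 0, 0, -4, -4, 0], [0, 4, 0, 0, 4, 0, 0, 0], [2, 2, -2, -2, -2, 2, 2, -2], [-2, -2, 2, -2, -2, 2, 2, 2], [0, -4, 0, 4, 0, 0, 0, 0]],
  [[0, 0, 0, 0, 0, -4, 0, -4], [0, 4, 4, 0, 0, 0, 0, 0], [2, 2, -2, 2, -2, 2, 2, 2], [-2, -2, -2, -2, -2, 2, -2, 2], [0, -4, 0, 0, 4, 0, 0, 0]],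
  [[0, 0, 0, 0, -4, 0, 0, 4], [-2, -2, -2, 2, 2, 2, -2, 2], [2, -2, -2, -2, 2, -2, -2, -2], [-2, 2, 2, -2, 2, -2, 2, -2], [2, 2, 2, 2, -2, 2, 2, -2]],
  [[0, 0, 0, 0, -4, 0, 4, 0], [-2, -2, 2, 2, -2, 2, -2, 2], [2, -2, -2, 2, 2, -2, -2, 2], [-2, 2, -2, -2, 2, -2, -2, -2], [2, 2, 2, -2, 2, 2, 2, -2]],
  [[0, 0, 0, 0, -4, 0, -4, 0], [0, 0, 0, 0, 4, 0, 0, 4], [0, 0, -4, 0, 0, 0, 0, -4], [0, 0, 4, -4, 0, 0, 0, 0], [0, 0, 0, 4, 0, 0, 4, 0]],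
  [[0, 0, 0, 0, -4, 0, 0, -4], [0, 0, 4, 0, 0, 0, 0, 4], [0, 0, -4, 4, 0, 0, 0, 0], [0, 0, 0, -4, 0, 0, -4, 0], [0, 0, 0, 0, 4, 0, 4, 0]],
  [[0, 0, 0, -4, 0, 0, 0, 4], [-2, -2, -2, 2, 2, 2, 2, -2], [2, -2, 2, -2, -2, -2, -2, -2], [-2, 2, 2, 2, 2, -2, 2, 2], [2, 2, -2, 2, -2, 2, -2, -2]],
  [[0, 0, -4, 0, 0, 0, 0, 4], [-2, -2, -2, -2, 2, 2, -2, -2], [2, -2, 2, -2, 2, -2, 2, -2], [-2, 2, 2, 2, -2, -2, 2, -2], [2, 2, 2, 2, -2, 2, -2, 2]],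
  [[0, 0, 0, -4, 0, 0, 4, 0], [-2, -2, 2, 2, -2, 2, 2, -2], [2, -2, 2, 2, -2, -2, -2, 2], [-2, 2, -2, 2, 2, -2, -2, 2], [2, 2, -2, -2, 2, 2, -2, -2]],
  [[0, 0, -4, 0, 0, 0, 4, 0], [-2, -2, 2, -2, -2, 2, -2, -2], [2, -2, 2, 2, 2, -2, 2, 2], [-2, 2, -2, 2, -2, -2, -2, -2], [2, 2, 2, -2, 2, 2, -2, 2]],
  [[0, 0, 0, -4, 0, 0, -4, 0], [0, 0, 0, 0, 4, 0, 4, 0], [0, 0, 0, 0, -4, 0, 0, -4], [0, 0, 4, 0, 0, 0, 0, 4], [0, 0, -4, 4, 0, 0, 0, 0]],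
  [[0, 0, -4, 0, 0, 0, -4, 0], [0, 0, 0, -4, 4, 0, 0, 0], [0, 0, 0, 0, 0, 0, 4, -4], [0, 0, 4, 0, -4, 0, 0, 0], [0, 0, 0, 4, 0, 0, 0, 4]],
  [[0, 0, 0, -4, 0, 0, 0, -4], [0, 0, 4, 0, 0, 0, 4, 0], [0, 0, 0, 4, -4, 0, 0, 0], [0, 0, 0, 0, 0, 0, -4, 4], [0, 0, -4, 0, 4, 0, 0, 0]],
  [[0, 0, -4, 0, 0, 0, 0, -4], [0, 0, 4, -4, 0, 0, 0, 0], [0, 0, 0, 4, 0, 0, 4, 0], [0, 0, 0, 0, -4, 0, -4, 0], [0, 0, 0, 0, 4, 0, 0, 4]],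
  [[0, 0, 0, 0, -4, -4, 0, 0], [-2, 2, 2, 2, 2, 2, -2, 2], [4, 0, -4, 0, 0, 0, 0, 0], [-4, 0, 0, -4, 0, 0, 0, 0], [2, -2, 2, 2, 2, 2, 2, -2]],
  [[0, 0, 0, -4, 0, -4, 0, 0], [-2, 2, 2, 2, 2, 2, 2, -2], [4, 0, 0, 0, -4, 0, 0, 0], [-4, 0, 0, 0, 0, 0, 0, 4], [2, -2, -2, 2, 2, 2, -2, -2]],
  [[0, 0, -4, 0, 0, -4, 0, 0], [-2, 2, 2, -2, 2, 2, -2, -2], [4, 0, 0, 0, 0, 0, 4, 0], [-4, 0, 0, 0, -4, 0, 0, 0], [2, -2, 2, 2, 2, 2, -2, 2]],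
  [[0, 0, 0, -4, -4, 0, 0, 0], [-2, -2, 2, 2, 2, 2, 2, 2], [2, -2, -2, 2, -2, -2, -2, -2], [-2, 2, 2, -2, 2, -2, -2, 2], [2, 2, -2, 2, 2, 2, 2, -2]],
  [[0, 0, -4, 0, -4, 0, 0, 0], [-2, -2, 2, -2, 2, 2, -2, 2], [2, -2, -2, 2, 2, -2, 2, -2], [-2, 2, 2, -2, -2, -2, -2, -2], [2, 2, 2, 2, 2, 2, 2, 2]],
  [[0, 0, -4, -4, 0, 0, 0, 0], [-2, -2, 2, -2, 2, 2, 2, -2], [2, -2, 2, 2, -2, -2, 2, -2], [-2, 2, 2, 2, -2, -2, -2, 2], [2, 2, -2, 2, 2, 2, -2, 2]]]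

/-- Minimal vectors on the octad and their rotations. -/
def rotPart5 : List (List (List ℤ)) := [
  [[0, -4, 4, 0, 0, 0, 0, 0], [0, 0, 0, 4, 0, -4, 0, 0], [0, 4, 0, 0, 0, 0, -4, 0], [2, 2, -2, -2, 2, 2, 2, 2], [-2, -2, -2, -2, -2, 2, 2, -2]],
  [[0, -4, 0, 4, 0, 0, 0, 0], [0, 0, 0, 0, 0, -4, -4, 0], [0, 4, 0, 0, 4, 0, 0, 0], [2, 2, -2, -2, -2, 2, 2, -2], [-2, -2, 2, -2, -2, 2, 2, 2]],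
  [[0, -4, 0, 0, 4, 0, 0, 0], [0, 0, 0, 0, 0, -4, 0, -4], [0, 4, 4, 0, 0, 0, 0, 0], [2, 2, -2, 2, -2, 2, 2, 2], [-2, -2, -2, -2, -2, 2, -2, 2]],
  [[0, -4, 0, 0, 0, 4, 0, 0], [0, -4, 0, 0, 0, -4, 0, 0], [-2, 2, 2, 2, 2, -2, -2, -2], [4, 4, 0, 0, 0, 0, 0, 0], [-2, 2, -2, -2, -2, 2, 2, 2]],
  [[0, -4, 0, 0, 0, 0, 0, 4], [-2, -2, -2, 2, 2, -2, -2, -2], [2, 2, 2, -2, 2, -2, -2, -2], [0, 4, 0, 0, 0, 0, 4, 0], [0, 0, 0, 0, -4, 4, 0, 0]],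
  [[0, -4, 0, 0, 0, 0, 4, 0], [-2, -2, 2, 2, -2, -2, -2, -2], [2, 2, 2, 2, 2, -2, -2, 2], [0, 4, -4, 0, 0, 0, 0, 0], [0, 0, 0, -4, 0, 4, 0, 0]],
  [[0, -4, 0, 0, 0, 0, -4, 0], [0, 0, 0, 0, 4, -4, 0, 0], [0, 4, 0, 0, 0, 0, 0, -4], [2, 2, 2, -2, -2, 2, 2, 2], [-2, -2, -2, 2, -2, 2, 2, 2]],
  [[0, -4, 0, 0, 0, 0, 0, -4], [0, 0, 4, 0, 0, -4, 0, 0], [0, 4, 0, 4, 0, 0, 0, 0], [2, 2, -2, -2, -2, 2, -2, 2], [-2, -2, -2, -2, 2, 2, 2, 2]],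
  [[0, -4, 0, 0, 0, -4, 0, 0], [-2, 2, 2, 2, 2, -2, -2, -2], [4, 4, 0, 0, 0, 0, 0, 0], [-2, 2, -2, -2, -2, 2, 2, 2], [0, -4, 0, 0, 0, 4, 0, 0]],
  [[0, -4, 0, 0, -4, 0, 0, 0], [-2, -2, 2, 2, 2, -2, -2, 2], [2, 2, -2, 2, 2, -2, -2, -2], [0, 4, 0, -4, 0, 0, 0, 0], [0, 0, 0, 0, 0, 4, 4, 0]],
  [[0, -4, 0, -4, 0, 0, 0, 0], [-2, -2, 2, 2, 2, -2, 2, -2], [2, 2, 2, 2, -2, -2, -2, -2], [0, 4, 0, 0, 0, 0, 0, 4], [0, 0, -4, 0, 0, 4, 0, 0]],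
  [[0, -4, -4, 0, 0, 0, 0, 0], [-2, -2, 2, -2, 2, -2, -2, -2], [2, 2, 2, 2, 2, -2, 2, -2], [0, 4, 0, 0, -4, 0, 0, 0], [0, 0, 0, 0, 0, 4, 0, 4]],
  [[-2, 2, 2, 2, 2, 2, -2, 2], [4, 0, -4, 0, 0, 0, 0, 0], [-4, 0, 0, -4, 0, 0, 0, 0], [2, -2, 2, 2, 2, 2, 2, -2], [0, 0, 0, 0, -4, -4, 0, 0]],
  [[-2, 2, 2, 2, 2, 2, 2, -2], [4, 0, 0, 0, -4, 0, 0, 0], [-4, 0, 0, 0, 0, 0, 0, 4], [2, -2, -2, 2, 2, 2, -2, -2], [0, 0, 0, -4, 0, -4, 0, 0]],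
  [[-2, 2, 2, 2, 2, -2, 2, 2], [2, 2, -2, 2, -2, 2, -2, -2], [0, 0, 0, -4, 0, 0, 0, 4], [-2, -2, -2, 2, 2, 2, 2, -2], [2, -2, 2, -2, -2, -2, -2, -2]],
  [[-2, 2, 2, 2, 2, -2, -2, -2], [4, 4, 0, 0, 0, 0, 0, 0], [-2, 2, -2, -2, -2, 2, 2, 2], [0, -4, 0, 0, 0, 4, 0, 0], [0, -4, 0, 0, 0, -4, 0, 0]],
  [[-2, 2, 2, 2, -2, 2, 2, 2], [2, -2, -2, 2, -2, 2, -2, 2], [-2, -2, -2, -2, 2, -2, -2, 2], [0, 0, 0, 0, 4, 0, 0, -4], [2, 2, 2, -2, -2, -2, 2, -2]],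
  [[-2, 2, 2, 2, -2, 2, -2, -2], [4, 0, 0, 0, 0, 0, 0, 4], [-4, 0, -4, 0, 0, 0, 0, 0], [2, -2, 2, -2, 2, 2, -2, -2], [0, 0, 0, 0, 0, -4, 4, 0]],
  [[-2, 2, 2, -2, 2, 2, 2, 2], [2, -2, -2, 2, -2, 2, 2, -2], [-2, -2, 2, -2, -2, -2, -2, 2], [0, 0, 0, 4, 4, 0, 0, 0], [2, 2, -2, -2, -2, -2, -2, -2]],
  [[-2, 2, -2, 2, 2, 2, 2, 2], [2, -2, -2, -2, -2, 2, -2, -2], [-2, -2, 2, -2, 2, -2, 2, 2], [0, 0, 0, 4, 0, 0, 0, -4], [2, 2, 2, -2, -2, -2, -2, 2]],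
  [[-2, 2, 2, -2, 2, 2, -2, -2], [4, 0, 0, 0, 0, 0, 4, 0], [-4, 0, 0, 0, -4, 0, 0, 0], [2, -2, 2, 2, 2, 2, -2, 2], [0, 0, -4, 0, 0, -4, 0, 0]],
  [[-2, 2, -2, 2, 2, 2, -2, -2], [4, 0, 0, -4, 0, 0, 0, 0], [-4, 0, 0, 0, 0, 0, 4, 0], [2, -2, 2, 2, -2, 2, -2, -2], [0, 0, 0, 0, 0, -4, 0, 4]],
  [[-2, 2, 2, 2, -2, -2, -2, 2], [2, 2, -2, 2, 2, 2, -2, 2], [0, 0, -4, -4, 0, 0, 0, 0], [-2, -2, 2, -2, 2, 2, 2, -2], [2, -2, 2, 2, -2, -2, 2, -2]],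
  [[-2, 2, 2, 2, -2, -2, 2, -2], [2, 2, 2, 2, -2, 2, -2, 2], [0, 0, -4, 0, 0, 0, 0, 4], [-2, -2, -2, -2, 2, 2, -2, -2], [2, -2, 2, -2, 2, -2, 2, -2]],
  [[-2, 2, 2, -2, 2, -2, -2, 2], [2, 2, -2, 2, 2, 2, 2, -2], [0, 0, 0, -4, -4, 0, 0, 0], [-2, -2, 2, 2, 2, 2, 2, 2], [2, -2, -2, 2, -2, -2, -2, -2]],
  [[-2, 2, -2, 2, 2, -2, -2, 2], [2, 2, -2, -2, 2, 2, -2, -2], [0, 0, 0, -4, 0, 0, 4, 0], [-2, -2, 2, 2, -2, 2, 2, -2], [2, -2, 2, 2, -2, -2, -2, 2]],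
  [[-2, 2, 2, -2, 2, -2, 2, -2], [2, 2, 2, 2, -2, 2, 2, -2], [0, 0, 0, 0, -4, 0, 0, 4], [-2, -2, -2, 2, 2, 2, -2, 2], [2, -2, -2, -2, 2, -2, -2, -2]],
  [[-2, 2, -2, 2, 2, -2, 2, -2], [2, 2, 2, -2, -2, 2, -2, -2], [0, 0, 0, 0, 0, 0, 4, 4], [-2, -2, -2, 2, -2, 2, -2, -2], [2, -2, 2, -2, 2, -2, -2, 2]],
  [[-2, 2, 2, -2, -2, 2, -2, 2], [2, -2, -2, 2, 2, 2, 2, 2], [-2, -2, -2, -2, -2, -2, -2, -2], [0, 0, 4, 0, 4, 0, 0, 0], [2, 2, -2, 2, -2, -2, 2, -2]],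
  [[-2, 2, -2, 2, -2, 2, -2, 2], [2, -2, -2, -2, 2, 2, -2, 2], [-2, -2, -2, -2, 2, -2, 2, -2], [0, 0, 4, 0, 0, 0, 0, -4], [2, 2, 2, 2, -2, -2, 2, 2]]]

/-- Minimal vectors on the octad and their rotations. -/
def rotPart6 : List (List (List ℤ)) := [
  [[-2, 2, 2, -2, -2, 2, 2, -2], [2, -2, 2, 2, -2, 2, 2, 2], [-2, -2, -2, 2, -2, -2, -2, 2], [0, 0, 0, 0, 4, 0, -4, 0], [2, 2, -2, -2, 2, -2, 2, -2]],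
  [[-2, 2, -2, 2, -2, 2, 2, -2], [2, -2, 2, -2, -2, 2, -2, 2], [-2, -2, -2, 2, 2, -2, 2, 2], [0, 0, 0, 0, 0, 0, -4, -4], [2, 2, 2, -2, 2, -2, 2, 2]],
  [[-2, 2, -2, -2, 2, 2, -2, 2], [2, -2, -2, -2, 2, 2, 2, -2], [-2, -2, 2, -2, -2, -2, 2, -2], [0, 0, 4, 4, 0, 0, 0, 0], [2, 2, -2, 2, -2, -2, -2, 2]],
  [[-2, 2, -2, -2, 2, 2, 2, -2], [2, -2, 2, -2, -2, 2, 2, -2], [-2, -2, 2, 2, -2, -2, 2, 2], [0, 0, 0, 4, 0, 0, -4, 0], [2, 2, -2, -2, 2, -2, -2, 2]],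
  [[-2, 2, 2, -2, -2, -2, 2, 2], [0, 0, 0, 4, 0, 4, 0, 0], [2, -2, -2, -2, -2, -2, -2, 2], [-4, 0, 0, 0, 4, 0, 0, 0], [4, 0, 0, 0, 0, 0, 0, -4]],
  [[-2, 2, -2, 2, -2, -2, 2, 2], [0, 0, 0, 0, 0, 4, -4, 0], [2, -2, -2, -2, 2, -2, 2, 2], [-4, 0, 0, 0, 0, 0, 0, -4], [4, 0, 4, 0, 0, 0, 0, 0]],
  [[-2, 2, 2, -2, -2, -2, -2, -2], [2, 2, 2, 2, 2, 2, 2, 2], [0, 0, -4, 0, -4, 0, 0, 0], [-2, -2, 2, -2, 2, 2, -2, 2], [2, -2, -2, 2, 2, -2, 2, -2]],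
  [[-2, 2, -2, 2, -2, -2, -2, -2], [2, 2, 2, -2, 2, 2, -2, 2], [0, 0, -4, 0, 0, 0, 4, 0], [-2, -2, 2, -2, -2, 2, -2, -2], [2, -2, 2, 2, 2, -2, 2, 2]],
  [[-2, 2, -2, -2, 2, -2, 2, 2], [0, 0, 0, 0, 0, 4, 0, -4], [2, -2, 2, -2, -2, -2, 2, 2], [-4, 0, 0, 4, 0, 0, 0, 0], [4, 0, 0, 0, 0, 0, -4, 0]],
  [[-2, 2, -2, -2, 2, -2, -2, -2], [2, 2, 2, -2, 2, 2, 2, -2], [0, 0, 0, 0, -4, 0, 4, 0], [-2, -2, 2, 2, -2, 2, -2, 2], [2, -2, -2, 2, 2, -2, -2, 2]],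
  [[-2, 2, -2, -2, -2, 2, 2, 2], [0, -4, 0, 0, 0, 4, 0, 0], [0, -4, 0, 0, 0, -4, 0, 0], [-2, 2, 2, 2, 2, -2, -2, -2], [4, 4, 0, 0, 0, 0, 0, 0]],
  [[-2, 2, -2, -2, -2, 2, -2, -2], [2, -2, 2, -2, 2, 2, 2, 2], [-2, -2, -2, 2, -2, -2, 2, -2], [0, 0, 4, 0, 0, 0, -4, 0], [2, 2, -2, 2, 2, -2, 2, 2]],
  [[-2, 2, -2, -2, -2, -2, -2, 2], [0, 0, 0, 0, 4, 4, 0, 0], [2, -2, -2, -2, -2, -2, 2, -2], [-4, 0, 4, 0, 0, 0, 0, 0], [4, 0, 0, 4, 0, 0, 0, 0]],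
  [[-2, 2, -2, -2, -2, -2, 2, -2], [0, 0, 4, 0, 0, 4, 0, 0], [2, -2, -2, 2, -2, -2, 2, 2], [-4, 0, 0, 0, 0, 0, -4, 0], [4, 0, 0, 0, 4, 0, 0, 0]],
  [[-2, -2, 2, 2, 2, 2, 2, 2], [2, -2, -2, 2, -2, -2, -2, -2], [-2, 2, 2, -2, 2, -2, -2, 2], [2, 2, -2, 2, 2, 2, 2, -2], [0, 0, 0, -4, -4, 0, 0, 0]],
  [[-2, -2, 2, 2, 2, 2, -2, -2], [4, 0, 0, 0, 0, -4, 0, 0], [-4, 4, 0, 0, 0, 0, 0, 0], [4, 0, 0, 0, 0, 4, 0, 0], [-2, -2, -2, -2, -2, -2, 2, 2]],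
  [[-2, -2, 2, 2, 2, -2, -2, 2], [2, 2, -2, 2, 2, -2, -2, -2], [0, 4, 0, -4, 0, 0, 0, 0], [0, 0, 0, 0, 0, 4, 4, 0], [0, -4, 0, 0, -4, 0, 0, 0]],
  [[-2, -2, 2, 2, 2, -2, 2, -2], [2, 2, 2, 2, -2, -2, -2, -2], [0, 4, 0, 0, 0, 0, 0, 4], [0, 0, -4, 0, 0, 4, 0, 0], [0, -4, 0, -4, 0, 0, 0, 0]],
  [[-2, -2, 2, 2, -2, 2, -2, 2], [2, -2, -2, 2, 2, -2, -2, 2], [-2, 2, -2, -2, 2, -2, -2, -2], [2, 2, 2, -2, 2, 2, 2, -2], [0, 0, 0, 0, -4, 0, 4, 0]],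
  [[-2, -2, 2, 2, -2, 2, 2, -2], [2, -2, 2, 2, -2, -2, -2, 2], [-2, 2, -2, 2, 2, -2, -2, 2], [2, 2, -2, -2, 2, 2, -2, -2], [0, 0, 0, -4, 0, 0, 4, 0]],
  [[-2, -2, 2, -2, 2, 2, -2, 2], [2, -2, -2, 2, 2, -2, 2, -2], [-2, 2, 2, -2, -2, -2, -2, -2], [2, 2, 2, 2, 2, 2, 2, 2], [0, 0, -4, 0, -4, 0, 0, 0]],
  [[-2, -2, -2, 2, 2, 2, -2, 2], [2, -2, -2, -2, 2, -2, -2, -2], [-2, 2, 2, -2, 2, -2, 2, -2], [2, 2, 2, 2, -2, 2, 2, -2], [0, 0, 0, 0, -4, 0, 0, 4]],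
  [[-2, -2, 2, -2, 2, 2, 2, -2], [2, -2, 2, 2, -2, -2, 2, -2], [-2, 2, 2, 2, -2, -2, -2, 2], [2, 2, -2, 2, 2, 2, -2, 2], [0, 0, -4, -4, 0, 0, 0, 0]],
  [[-2, -2, -2, 2, 2, 2, 2, -2], [2, -2, 2, -2, -2, -2, -2, -2], [-2, 2, 2, 2, 2, -2, 2, 2], [2, 2, -2, 2, -2, 2, -2, -2], [0, 0, 0, -4, 0, 0, 0, 4]],
  [[-2, -2, 2, 2, -2, -2, 2, 2], [0, 0, 0, 4, 0, 0, -4, 0], [2, 2, -2, -2, 2, -2, -2, 2], [-2, 2, -2, -2, 2, 2, 2, -2], [2, -2, 2, -2, -2, 2, 2, -2]],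
  [[-2, -2, 2, 2, -2, -2, -2, -2], [2, 2, 2, 2, 2, -2, -2, 2], [0, 4, -4, 0, 0, 0, 0, 0], [0, 0, 0, -4, 0, 4, 0, 0], [0, -4, 0, 0, 0, 0, 4, 0]],
  [[-2, -2, 2, -2, 2, -2, 2, 2], [0, 0, 0, 4, 0, 0, 0, -4], [2, 2, 2, -2, -2, -2, -2, 2], [-2, 2, -2, 2, 2, 2, 2, 2], [2, -2, -2, -2, -2, 2, -2, -2]],
  [[-2, -2, -2, 2, 2, -2, 2, 2], [0, 0, 0, 0, 0, 0, -4, -4], [2, 2, 2, -2, 2, -2, 2, 2], [-2, 2, -2, 2, -2, 2, 2, -2], [2, -2, 2, -2, -2, 2, -2, 2]],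
  [[-2, -2, 2, -2, 2, -2, -2, -2], [2, 2, 2, 2, 2, -2, 2, -2], [0, 4, 0, 0, -4, 0, 0, 0], [0, 0, 0, 0, 0, 4, 0, 4], [0, -4, -4, 0, 0, 0, 0, 0]],
  [[-2, -2, -2, 2, 2, -2, -2, -2], [2, 2, 2, -2, 2, -2, -2, -2], [0, 4, 0, 0, 0, 0, 4, 0], [0, 0, 0, 0, -4, 4, 0, 0], [0, -4, 0, 0, 0, 0, 0, 4]]]

/-- Minimal vectors on the octad and their rotations. -/
def rotPart7 : List (List (List ℤ)) := [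
  [[-2, -2, 2, -2, -2, 2, 2, 2], [0, -4, 0, 4, 0, 0, 0, 0], [0, 0, 0, 0, 0, -4, -4, 0], [0, 4, 0, 0, 4, 0, 0, 0], [2, 2, -2, -2, -2, 2, 2, -2]],
  [[-2, -2, -2, 2, -2, 2, 2, 2], [0, -4, 0, 0, 0, 0, -4, 0], [0, 0, 0, 0, 4, -4, 0, 0], [0, 4, 0, 0, 0, 0, 0, -4], [2, 2, 2, -2, -2, 2, 2, 2]],
  [[-2, -2, 2, -2, -2, 2, -2, -2], [2, -2, 2, 2, 2, -2, 2, 2], [-2, 2, -2, 2, -2, -2, -2, -2], [2, 2, 2, -2, 2, 2, -2, 2], [0, 0, -4, 0, 0, 0, 4, 0]],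
  [[-2, -2, -2, 2, -2, 2, -2, -2], [2, -2, 2, -2, 2, -2, -2, 2], [-2, 2, -2, 2, 2, -2, 2, -2], [2, 2, 2, -2, -2, 2, -2, -2], [0, 0, 0, 0, 0, 0, 4, 4]],
  [[-2, -2, -2, -2, 2, 2, 2, 2], [0, -4, 0, 0, 0, 0, 0, -4], [0, 0, 4, 0, 0, -4, 0, 0], [0, 4, 0, 4, 0, 0, 0, 0], [2, 2, -2, -2, -2, 2, -2, 2]],
  [[-2, -2, -2, -2, 2, 2, -2, -2], [2, -2, 2, -2, 2, -2, 2, -2], [-2, 2, 2, 2, -2, -2, 2, -2], [2, 2, 2, 2, -2, 2, -2, 2], [0, 0, -4, 0, 0, 0, 0, 4]],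
  [[-2, -2, 2, -2, -2, -2, -2, 2], [0, 0, 0, 4, 4, 0, 0, 0], [2, 2, -2, -2, -2, -2, -2, -2], [-2, 2, 2, -2, 2, 2, 2, 2], [2, -2, -2, 2, -2, 2, 2, -2]],
  [[-2, -2, -2, 2, -2, -2, -2, 2], [0, 0, 0, 0, 4, 0, -4, 0], [2, 2, -2, -2, 2, -2, 2, -2], [-2, 2, 2, -2, -2, 2, 2, -2], [2, -2, 2, 2, -2, 2, 2, 2]],
  [[-2, -2, 2, -2, -2, -2, 2, -2], [0, 0, 4, 4, 0, 0, 0, 0], [2, 2, -2, 2, -2, -2, -2, 2], [-2, 2, -2, -2, 2, 2, -2, 2], [2, -2, -2, -2, 2, 2, 2, -2]],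
  [[-2, -2, -2, 2, -2, -2, 2, -2], [0, 0, 4, 0, 0, 0, -4, 0], [2, 2, -2, 2, 2, -2, 2, 2], [-2, 2, -2, -2, -2, 2, -2, -2], [2, -2, 2, -2, 2, 2, 2, 2]],
  [[-2, -2, -2, -2, 2, -2, -2, 2], [0, 0, 0, 0, 4, 0, 0, -4], [2, 2, 2, -2, -2, -2, 2, -2], [-2, 2, 2, 2, -2, 2, 2, 2], [2, -2, -2, 2, -2, 2, -2, 2]],
  [[-2, -2, -2, -2, 2, -2, 2, -2], [0, 0, 4, 0, 0, 0, 0, -4], [2, 2, 2, 2, -2, -2, 2, 2], [-2, 2, -2, 2, -2, 2, -2, 2], [2, -2, -2, -2, 2, 2, -2, 2]],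
  [[-2, -2, -2, -2, -2, 2, -2, 2], [0, -4, 0, 0, 4, 0, 0, 0], [0, 0, 0, 0, 0, -4, 0, -4], [0, 4, 4, 0, 0, 0, 0, 0], [2, 2, -2, 2, -2, 2, 2, 2]],
  [[-2, -2, -2, -2, -2, 2, 2, -2], [0, -4, 4, 0, 0, 0, 0, 0], [0, 0, 0, 4, 0, -4, 0, 0], [0, 4, 0, 0, 0, 0, -4, 0], [2, 2, -2, -2, 2, 2, 2, 2]],
  [[-2, -2, -2, -2, -2, -2, 2, 2], [-2, -2, 2, 2, 2, 2, -2, -2], [4, 0, 0, 0, 0, -4, 0, 0], [-4, 4, 0, 0, 0, 0, 0, 0], [4, 0, 0, 0, 0, 4, 0, 0]],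
  [[-2, -2, -2, -2, -2, -2, -2, -2], [0, 0, 4, 0, 4, 0, 0, 0], [2, 2, -2, 2, -2, -2, 2, -2], [-2, 2, 2, -2, -2, 2, -2, 2], [2, -2, -2, 2, 2, 2, 2, 2]],
  [[-4, 4, 0, 0, 0, 0, 0, 0], [4, 0, 0, 0, 0, 4, 0, 0], [-2, -2, -2, -2, -2, -2, 2, 2], [-2, -2, 2, 2, 2, 2, -2, -2], [4, 0, 0, 0, 0, -4, 0, 0]],
  [[-4, 0, 4, 0, 0, 0, 0, 0], [4, 0, 0, 4, 0, 0, 0, 0], [-2, 2, -2, -2, -2, -2, -2, 2], [0, 0, 0, 0, 4, 4, 0, 0], [2, -2, -2, -2, -2, -2, 2, -2]],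
  [[-4, 0, 0, 4, 0, 0, 0, 0], [4, 0, 0, 0, 0, 0, -4, 0], [-2, 2, -2, -2, 2, -2, 2, 2], [0, 0, 0, 0, 0, 4, 0, -4], [2, -2, 2, -2, -2, -2, 2, 2]],
  [[-4, 0, 0, 0, 4, 0, 0, 0], [4, 0, 0, 0, 0, 0, 0, -4], [-2, 2, 2, -2, -2, -2, 2, 2], [0, 0, 0, 4, 0, 4, 0, 0], [2, -2, -2, -2, -2, -2, -2, 2]],
  [[-4, 0, 0, 0, 0, 4, 0, 0], [4, -4, 0, 0, 0, 0, 0, 0], [-4, 0, 0, 0, 0, -4, 0, 0], [2, 2, 2, 2, 2, 2, -2, -2], [2, 2, -2, -2, -2, -2, 2, 2]],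
  [[-4, 0, 0, 0, 0, 0, 0, 4], [2, -2, -2, 2, 2, 2, -2, -2], [0, 0, 0, -4, 0, -4, 0, 0], [-2, 2, 2, 2, 2, 2, 2, -2], [4, 0, 0, 0, -4, 0, 0, 0]],
  [[-4, 0, 0, 0, 0, 0, 4, 0], [2, -2, 2, 2, -2, 2, -2, -2], [0, 0, 0, 0, 0, -4, 0, 4], [-2, 2, -2, 2, 2, 2, -2, -2], [4, 0, 0, -4, 0, 0, 0, 0]],
  [[-4, 0, 0, 0, 0, 0, -4, 0], [4, 0, 0, 0, 4, 0, 0, 0], [-2, 2, -2, -2, -2, -2, 2, -2], [0, 0, 4, 0, 0, 4, 0, 0], [2, -2, -2, 2, -2, -2, 2, 2]],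
  [[-4, 0, 0, 0, 0, 0, 0, -4], [4, 0, 4, 0, 0, 0, 0, 0], [-2, 2, -2, 2, -2, -2, 2, 2], [0, 0, 0, 0, 0, 4, -4, 0], [2, -2, -2, -2, 2, -2, 2, 2]],
  [[-4, 0, 0, 0, 0, -4, 0, 0], [2, 2, 2, 2, 2, 2, -2, -2], [2, 2, -2, -2, -2, -2, 2, 2], [-4, 0, 0, 0, 0, 4, 0, 0], [4, -4, 0, 0, 0, 0, 0, 0]],
  [[-4, 0, 0, 0, -4, 0, 0, 0], [2, -2, 2, 2, 2, 2, -2, 2], [0, 0, -4, 0, 0, -4, 0, 0], [-2, 2, 2, -2, 2, 2, -2, -2], [4, 0, 0, 0, 0, 0, 4, 0]],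
  [[-4, 0, 0, -4, 0, 0, 0, 0], [2, -2, 2, 2, 2, 2, 2, -2], [0, 0, 0, 0, -4, -4, 0, 0], [-2, 2, 2, 2, 2, 2, -2, 2], [4, 0, -4, 0, 0, 0, 0, 0]],
  [[-4, 0, -4, 0, 0, 0, 0, 0], [2, -2, 2, -2, 2, 2, -2, -2], [0, 0, 0, 0, 0, -4, 4, 0], [-2, 2, 2, 2, -2, 2, -2, -2], [4, 0, 0, 0, 0, 0, 0, 4]],
  [[-4, -4, 0, 0, 0, 0, 0, 0], [2, -2, 2, 2, 2, -2, -2, -2], [0, 4, 0, 0, 0, -4, 0, 0], [0, 4, 0, 0, 0, 4, 0, 0], [2, -2, -2, -2, -2, 2, 2, 2]]]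

/-- All of them. -/
def rotTab : List (List (List ℤ)) := rotPart0 ++ rotPart1 ++ rotPart2 ++ rotPart3 ++ rotPart4 ++ rotPart5 ++ rotPart6 ++ rotPart7

/-- Codewords missing the octad. -/
def offCode : List ℕ := [0, 337856, 628112, 832080, 1161408, 1351424, 1584464, 1903248, 2141072, 2460752, 2702848, 2890176, 3216208, 3421328, 3704512, 4038912, 4202192, 4536592, 4819776, 5024896, 5350928, 5538256, 5780352, 6100032, 6337856, 6656640, 6889680, 7079696, 7409024, 7612992, 7903248, 8241104]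

/-- A word whose square is the central sign. -/
def signWord : List (Fin 4) := [2, 3, 1, 0, 2, 0, 3, 1, 0, 3, 1, 0, 1, 0]

end CfsgLib.Sporadic.ConwayIco
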