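import Cfsg.Agent.Lib.Recog.Icosian.Action
import Cfsg.Agent.Lib.Sporadic.ConwayCensus
import Cfsg.Agent.Lib.Sporadic.ConwayIcoData

/-!
# The icosian lattice is the lattice of rank 24

An explicit integral isometry from the icosian lattice, with the norm reduced to the integers, onto the
lattice of rank 24; the reflection group and the left scalar of order five are carried across it into
the automorphism group.
-/

set_option autoImplicit false
set_option maxRecDepth 100000

namespace CfsgLib.Sporadic.ConwayIco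

open Cfsg Finset CfsgLib.Sporadic CfsgLib.Sporadic.Conway CfsgLib.Sporadic.Lattice CfsgLib.ThreeTrans.Leech
open CfsgLib.Recog.Icosian Cfsg.Spor Quaternion

abbrev IV := Fin 3 → ℍ[ℝ]

/-- Coordinates in `ℤ[tau]`, block by block. -/
def ztc (v : CfsgLib.Recog.Icosian.V) : Fin 12 → ZT :=
  ![v.1.1, v.1.2.1, v.1.2.2.1, v.1.2.2.2, v.2.1.1, v.2.1.2.1, v.2.1.2.2.1, v.2.1.2.2.2,
    v.2.2.1, v.2.2.2.1, v.2.2.2.2.1, v.2.2.2.2.2]

/-- The integer coordinates. -/
def dco (v : CfsgLib.Recog.Icosian.V) : Fin 12 × Fin 2 → ℤ := fun k => if k.2 = 0 then (ztc v k.1).1 else (ztc v k.1).2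

theorem dco_add (v w : CfsgLib.Recog.Icosian.V) : dco (v + w) = dco v + dco w := by
  funext ⟨i, b⟩
  fin_cases i <;> fin_cases b <;> rfl

/-- An entry of the matrix of four times the isometry. -/
def mEnt (i : GolayPt) (k : Fin 12 × Fin 2) : ℤ := (mRows.getD (ix i) []).getD (2 * k.1.val + k.2.val) 0

/-- Four times the isometry. -/
def raw : CfsgLib.Recog.Icosian.V →+ Vec :=
  AddMonoidHom.mk' (fun v i => ∑ k, mEnt i k * dco v k) fun v w => by
    funext i
    simp [dco_add, mul_add, Finset.sum_add_distrib]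

/-- The Gram matrix of the form. -/
def gramEnt (k l : Fin 12 × Fin 2) : ℤ :=
  if k.1 = l.1 then (if k.2 = 1 ∧ l.2 = 1 then 64 else 32) else 0

theorem gram_check : ∀ k l, ∑ i, mEnt i k * mEnt i l = gramEnt k l := by decide +kernel

/-- The reduced norm, from the norms in `ℤ[tau]`. -/
def redForm (v : CfsgLib.Recog.Icosian.V) : ℤ :=
  (zadd (zadd (nrm v.1) (nrm v.2.1)) (nrm v.2.2)).1 + (zadd (zadd (nrm v.1) (nrm v.2.1)) (nrm v.2.2)).2

theorem redForm_eq (v : CfsgLib.Recog.Icosian.V) :
    redForm v = ∑ j, (((ztc v j).1 + (ztc v j).2) ^ 2 + (ztc v j).2 ^ 2) := by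
  simp only [redForm, nrm, zadd, zmul, Fin.sum_univ_succ, ztc, Matrix.cons_val_succ, Matrix.cons_val_zero,
    Fin.sum_univ_zero, add_zero]
  ring

theorem sq_raw (v : CfsgLib.Recog.Icosian.V) : sqNorm (raw v) = 32 * redForm v := by
  have h1 : sqNorm (raw v) = ∑ k, ∑ l, gramEnt k l * (dco v k * dco v l) := by
    show ∑ i, (∑ k, mEnt i k * dco v k) ^ 2 = _
    simp_rw [sq, Finset.sum_mul_sum]
    rw [Finset.sum_comm]
    refine Finset.sum_congr rfl fun k _ => ?_
    rw [Finset.sum_comm]
    refine Finset.sum_congr rfl fun l _ => ?_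
    rw [← gram_check k l, Finset.sum_mul]
    exact Finset.sum_congr rfl fun i _ => by ring
  rw [h1, redForm_eq, Finset.mul_sum, Fintype.sum_prod_type]
  refine Finset.sum_congr rfl fun j _ => ?_
  simp only [Fintype.sum_prod_type, gramEnt, ite_mul, zero_mul, Fin.sum_univ_two, Fin.isValue, zero_ne_one,
    one_ne_zero, and_true, and_false, if_false, if_true, Finset.sum_add_distrib, Finset.sum_ite_eq,
    Finset.mem_univ]
  simp only [dco, Fin.isValue, one_ne_zero, if_false, if_true]
  ring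

theorem dco_inj {v : CfsgLib.Recog.Icosian.V} (h : redForm v = 0) : v = 0 := by
  rw [redForm_eq, Finset.sum_eq_zero_iff_of_nonneg (fun _ _ => by positivity)] at h
  have hz : ∀ j, ztc v j = (0, 0) := fun j => by
    have h' := h j (Finset.mem_univ j)
    have h1 : ((ztc v j).1 + (ztc v j).2) ^ 2 = 0 := by nlinarith [sq_nonneg (ztc v j).2, sq_nonneg ((ztc v j).1 + (ztc v j).2)]
    have h2 : (ztc v j).2 ^ 2 = 0 := by nlinarith [sq_nonneg (ztc v j).2, sq_nonneg ((ztc v j).1 + (ztc v j).2)]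
    simp only [sq_eq_zero_iff] at h1 h2
    exact Prod.ext (by omega) h2
  obtain ⟨⟨a, b, c, d⟩, ⟨e, f, g, k⟩, l, m, n, o⟩ := v
  have e0 := hz 0; have e1 := hz 1; have e2 := hz 2; have e3 := hz 3
  have e4 := hz 4; have e5 := hz 5; have e6 := hz 6; have e7 := hz 7
  have e8 := hz 8; have e9 := hz 9; have e10 := hz 10; have e11 := hz 11
  simp [ztc] at e0 e1 e2 e3 e4 e5 e6 e7 e8 e9 e10 e11
  subst e0 e1 e2 e3 e4 e5 e6 e7 e8 e9 e10 e11
  rfl

theorem raw_injective : Function.Injective raw := (injective_iff_map_eq_zero raw).2 fun v hv => by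
  have := sq_raw v
  rw [hv] at this
  exact dco_inj (by simp [sqNorm] at this; omega)

/-- The quaternions of a vector, additively. -/
noncomputable def vevH : CfsgLib.Recog.Icosian.V →+ IV :=
  AddMonoidHom.mk' vev fun v w => by
    funext t
    fin_cases t
    · exact qev_qadd v.1 w.1
    · exact qev_qadd v.2.1 w.2.1
    · exact qev_qadd v.2.2 w.2.2

/-- The icosian lattice, as a subgroup. -/
def icoSub : AddSubgroup IV := AddSubgroup.ofSub icoLeech ⟨_, mem_icoLeech_iff.2 ⟨basisOne, basis_mem.1, rfl⟩⟩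
  fun x hx y hy => by rw [← sub_eq_add_neg]; exact icoLeech_sub hx hy

/-- The coordinates of its vectors. -/
noncomputable def coordSub : AddSubgroup CfsgLib.Recog.Icosian.V := icoSub.comap vevH

theorem mem_coordSub {v : CfsgLib.Recog.Icosian.V} : v ∈ coordSub ↔ vev v ∈ icoLeech := Iff.rfl

theorem mem_coordSub_of_inLam {v : CfsgLib.Recog.Icosian.V} (h : inLam v = true) : v ∈ coordSub :=
  mem_icoLeech_iff.2 ⟨v, h, rfl⟩

/-- Multiplication by four. -/
def four : Vec →+ Vec := AddMonoidHom.mk' (fun x i => 4 * x i) fun x y => by funext i; simp [mul_add]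

theorem four_injective : Function.Injective four := fun x y h => funext fun i => by
  have := congrFun h i
  simp only [four, AddMonoidHom.mk'_apply] at this
  omega

/-- A basis of the icosian ring. -/
def ringBasis : Fin 8 → Q :=
  ![((1, 0), (0, 0), (0, 1), (1, -1)), ((0, 1), (0, 0), (1, 1), (-1, 0)), ((0, 0), (1, 0), (1, -1), (0, 1)),
    ((0, 0), (0, 1), (-1, 0), (1, 1)), ((0, 0), (0, 0), (2, 0), (0, 0)), ((0, 0), (0, 0), (0, 2), (0, 0)),
    ((0, 0), (0, 0), (0, 0), (2, 0)), ((0, 0), (0, 0), (0, 0), (0, 2))]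

/-- The basis of the lattice it gives. -/
def latBasis (p : Fin 3 × Fin 8) : CfsgLib.Recog.Icosian.V :=
  smulV (ringBasis p.2) (![basisOne, basisTwo, basisThree] p.1)

theorem basis_check : ∀ p, inI (ringBasis p.2) = true ∧ inLam (latBasis p) = true ∧
    (∀ i, raw (latBasis p) i % 4 = 0) ∧ LTest (fun i => raw (latBasis p) i / 4) := by
  decide +kernel

theorem ring_span {q : Q} (hq : inI q = true) : ∃ n : Fin 8 → ℤ, q = ∑ k, n k • ringBasis k := by
  obtain ⟨⟨a1, a2⟩, ⟨b1, b2⟩, ⟨c1, c2⟩, d1, d2⟩ := q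
  refine ⟨![a1, a2, b1, b2, (c1 - (a2 + b1 - b2)) / 2, (c2 - (a1 + a2 - b1)) / 2, (d1 - (a1 - a2 + b2)) / 2,
    (d2 - (-a1 + b1 + b2)) / 2], ?_⟩
  simp only [inI, zeven, zsub, zmul, Bool.and_eq_true, beq_iff_eq] at hq
  simp only [Fin.sum_univ_succ, Fin.sum_univ_zero, ringBasis, Matrix.cons_val_succ, Matrix.cons_val_zero,
    Prod.smul_mk, smul_eq_mul, Prod.mk_add_mk, add_zero, mul_zero, mul_one, zero_add, mul_neg]
  simp only [Prod.mk.injEq]
  simp only [true_and]; obtain ⟨⟨h1, h2⟩, h3, h4⟩ := hq; refine ⟨⟨?_, ?_⟩, ?_, ?_⟩ <;> omega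

theorem basis_closure {x : IV} (hx : x ∈ icoLeech) :
    ∃ v ∈ AddSubgroup.closure (Set.range latBasis), vev v = x := by
  have part : ∀ t : Fin 3, ∀ a ∈ icosians, ∃ v ∈ AddSubgroup.closure (Set.range latBasis),
      vev v = lsmul a (vev (![basisOne, basisTwo, basisThree] t)) := by
    intro t a ha
    obtain ⟨q, hq, rfl⟩ := exists_of_mem ha
    obtain ⟨n, rfl⟩ := ring_span hq
    let qevH : Q →+ ℍ[ℝ] := AddMonoidHom.mk' qev fun p r => qev_qadd p r
    refine ⟨∑ k, n k • latBasis (t, k), AddSubgroup.sum_mem _ fun k _ =>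
      AddSubgroup.zsmul_mem _ (AddSubgroup.subset_closure (Set.mem_range_self (t, k))) _, ?_⟩
    show vevH _ = lsmul (qevH (∑ k, n k • ringBasis k)) _
    rw [map_sum, map_sum]
    funext s
    simp only [lsmul, Finset.sum_apply, Finset.sum_mul]
    refine Finset.sum_congr rfl fun k _ => ?_
    rw [map_zsmul, map_zsmul, Pi.smul_apply, smul_mul_assoc]
    congr 1
    have hB : inI (![basisOne, basisTwo, basisThree] t).1 = true ∧ inI (![basisOne, basisTwo, basisThree] t).2.1 = true ∧
        inI (![basisOne, basisTwo, basisThree] t).2.2 = true := by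
      fin_cases t <;> exact coords_of_inLam (by decide)
    exact congrFun (vev_smulV (basis_check (t, k)).1 hB) s
  obtain ⟨a, b, c, ha, hb, hc, rfl⟩ := exists_coords hx
  obtain ⟨u, hu, eu⟩ := part 0 a ha
  obtain ⟨v, hv, ev'⟩ := part 1 b hb
  obtain ⟨w, hw, ew⟩ := part 2 c hc
  refine ⟨u + v + w, add_mem (add_mem hu hv) hw, ?_⟩
  show vevH (u + v + w) = _
  rw [map_add, map_add]
  exact congr (congrArg HAdd.hAdd (congr (congrArg HAdd.hAdd eu) ev')) ew

theorem raw_map : coordSub.map raw = leechLattice.map four := by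
  refine le_antisymm ?_ ?_
  · rintro _ ⟨v, hv, rfl⟩
    obtain ⟨v', hv', e⟩ := basis_closure (mem_coordSub.1 hv)
    rw [← vev_injective e]
    suffices AddSubgroup.closure (Set.range latBasis) ≤ (leechLattice.map four).comap raw from this hv'
    rw [AddSubgroup.closure_le]
    rintro _ ⟨p, rfl⟩
    refine ⟨_, mem_iff.2 (isL_of_test (basis_check p).2.2.2), funext fun i => ?_⟩
    have := (basis_check p).2.2.1 i
    simp only [four, AddMonoidHom.mk'_apply]
    omega
  · rintro _ ⟨y, hy, rfl⟩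
    suffices leechLattice ≤ (coordSub.map raw).comap four from this hy
    have h : (∀ b : Fin 12, inLam (genPre.getD (25 + b.1) (qzero, qzero, qzero)) = true ∧
          raw (genPre.getD (25 + b.1) (qzero, qzero, qzero)) = four (octVec (setOfMask (basisMask b.1)))) ∧
        (∀ i : GolayPt, inLam (genPre.getD (1 + ix i) (qzero, qzero, qzero)) = true ∧
          raw (genPre.getD (1 + ix i) (qzero, qzero, qzero)) = four (pairVec i none)) ∧
        inLam (genPre.getD 0 (qzero, qzero, qzero)) = true ∧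
          raw (genPre.getD 0 (qzero, qzero, qzero)) = four omegaVec := by decide +kernel
    refine le_of_gen fun x hx => ?_
    rcases hx with rfl | ⟨i, rfl⟩ | ⟨b, hb, rfl⟩
    · exact ⟨_, mem_coordSub_of_inLam h.2.2.1, h.2.2.2⟩
    · exact ⟨_, mem_coordSub_of_inLam (h.2.1 i).1, (h.2.1 i).2⟩
    · exact ⟨_, mem_coordSub_of_inLam (h.1 ⟨b, hb⟩).1, (h.1 ⟨b, hb⟩).2⟩

theorem exists_iso_image (x : icoLeech) :
    ∃ y : ↥leechLattice, ∃ v, vev v = (x : IV) ∧ raw v = four (y : Vec) := by
  obtain ⟨v, hv, e⟩ := mem_icoLeech_iff.1 x.2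
  have : raw v ∈ leechLattice.map four := raw_map ▸ ⟨v, mem_coordSub_of_inLam hv, rfl⟩
  obtain ⟨y, hy, ey⟩ := this
  exact ⟨⟨y, hy⟩, v, e, ey.symm⟩

/-- The isometry. -/
noncomputable def isoFun (x : icoLeech) : ↥leechLattice := (exists_iso_image x).choose

theorem isoFun_eq {x : icoLeech} {v : CfsgLib.Recog.Icosian.V} (h : vev v = (x : IV)) :
    raw v = four (isoFun x : Vec) := by
  obtain ⟨w, hw, hr⟩ := (exists_iso_image x).choose_spec
  rw [vev_injective (h.trans hw.symm)]
  exact hr

theorem isoFun_bijective : Function.Bijective isoFun := by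
  refine ⟨fun x x' e => ?_, fun y => ?_⟩
  · obtain ⟨v, hv, hr⟩ := (exists_iso_image x).choose_spec
    obtain ⟨v', hv', hr'⟩ := (exists_iso_image x').choose_spec
    have : v = v' := raw_injective (hr.trans ((congrArg (fun z : ↥leechLattice => four (z : Vec)) e).trans hr'.symm))
    exact Subtype.ext (hv.symm.trans (this ▸ hv'))
  · obtain ⟨v, hv, e⟩ : four (y : Vec) ∈ coordSub.map raw := raw_map ▸ ⟨y, y.2, rfl⟩
    exact ⟨⟨vev v, hv⟩, Subtype.ext (four_injective ((isoFun_eq rfl).symm.trans e))⟩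

/-- The isometry, as a bijection. -/
noncomputable def iso : icoLeech ≃ ↥leechLattice := Equiv.ofBijective isoFun isoFun_bijective

theorem iso_eq {x : icoLeech} {v : CfsgLib.Recog.Icosian.V} (h : vev v = (x : IV)) :
    raw v = four (iso x : Vec) := isoFun_eq h

theorem iso_add {x y z : icoLeech} (h : (z : IV) = (x : IV) + (y : IV)) : iso z = iso x + iso y := by
  obtain ⟨v, hv, ev'⟩ := mem_icoLeech_iff.1 x.2
  obtain ⟨w, hw, ew⟩ := mem_icoLeech_iff.1 y.2
  have hz : vev (v + w) = (z : IV) := by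
    rw [show vev (v + w) = vev v + vev w from map_add vevH v w, ev', ew, h]
  refine Subtype.ext (four_injective ?_)
  rw [← iso_eq hz, map_add, AddSubgroup.coe_add, map_add, iso_eq ev', iso_eq ew]

theorem qip_self_ev (v : CfsgLib.Recog.Icosian.V) :
    qip (vev v) (vev v) = ((ev (zadd (zadd (nrm v.1) (nrm v.2.1)) (nrm v.2.2)) / 4 : ℝ) : ℍ[ℝ]) := by
  simp only [qip, Fin.sum_univ_three, vev, Matrix.cons_val_zero, Matrix.cons_val_one, Matrix.cons_val_two,
    Matrix.tail_cons, Matrix.head_cons, qev_mul_star, ev_zadd]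
  rw [← Quaternion.coe_add, ← Quaternion.coe_add]
  congr 1
  ring

theorem iso_norm {x y : icoLeech} (h : qip (x : IV) x = qip (y : IV) y) :
    sqNorm (iso x : Vec) = sqNorm (iso y : Vec) := by
  obtain ⟨v, -, ev'⟩ := mem_icoLeech_iff.1 x.2
  obtain ⟨w, -, ew⟩ := mem_icoLeech_iff.1 y.2
  rw [← ev', ← ew, qip_self_ev, qip_self_ev, Quaternion.coe_inj, div_left_inj' (by norm_num : (4 : ℝ) ≠ 0)] at h
  have hr : redForm v = redForm w := by rw [redForm, redForm, ev_injective h]
  have h4 : ∀ z : Vec, sqNorm (four z) = 16 * sqNorm z := fun z => by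
    simp only [sqNorm, four, AddMonoidHom.mk'_apply, Finset.mul_sum]
    exact Finset.sum_congr rfl fun i _ => by ring
  have e1 := sq_raw v
  have e2 := sq_raw w
  rw [iso_eq ev', h4] at e1
  rw [iso_eq ew, h4] at e2
  omega

/-- Transfer of permutations. -/
noncomputable def isoPerm : Equiv.Perm icoLeech ≃* Equiv.Perm ↥leechLattice where
  toEquiv := iso.permCongr
  map_mul' f g := Equiv.ext fun x => by simp [Equiv.permCongr_apply]

theorem isoPerm_apply (f : Equiv.Perm icoLeech) (x : icoLeech) : isoPerm f (iso x) = iso (f x) := by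
  show iso.permCongr f (iso x) = iso (f x)
  rw [Equiv.permCongr_apply, Equiv.symm_apply_apply]

theorem isoPerm_mem {f : Equiv.Perm icoLeech} {g : IV → IV} (hadd : ∀ x y, g (x + y) = g x + g y)
    (hqip : ∀ x, qip (g x) (g x) = qip x x) (hf : ∀ x : icoLeech, ((f x : icoLeech) : IV) = g x) :
    isoPerm f ∈ Co0 := by
  refine ⟨fun a b => ?_, fun a => ?_⟩
  · obtain ⟨x, rfl⟩ := iso.surjective a
    obtain ⟨y, rfl⟩ := iso.surjective b
    let z : icoLeech := ⟨(x : IV) + y, icoSub.add_mem x.2 y.2⟩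
    rw [← iso_add (z := z) rfl, isoPerm_apply, isoPerm_apply, isoPerm_apply]
    exact iso_add (by rw [hf, hf, hf, ← hadd])
  · obtain ⟨x, rfl⟩ := iso.surjective a
    rw [isoPerm_apply]
    exact iso_norm (by rw [hf, hqip])

/-- The double cover inside the automorphism group. -/
noncomputable def coverHom : twoJ2 →* ↥Co0 :=
  (isoPerm.toMonoidHom.comp twoJ2.subtype).codRestrict Co0 fun f => by
    obtain ⟨g, hg, hgx⟩ := exists_linIso (twoJ2_eq ▸ f.2 : (f : Equiv.Perm icoLeech) ∈ genGroup)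
    exact isoPerm_mem hg.add (fun x => hg.isometry x x) hgx

theorem coverHom_injective : Function.Injective coverHom := fun f g h =>
  Subtype.ext (isoPerm.injective (congrArg (fun y : ↥Co0 => (y : Equiv.Perm ↥leechLattice)) h))

theorem coverHom_apply (f : twoJ2) (x : icoLeech) :
    coverHom f • iso x = iso ((f : Equiv.Perm icoLeech) x) := isoPerm_apply _ _

theorem zeta_check : inI zeta = true ∧ qmul (qconj zeta) zeta = qone ∧ qmul zeta (qconj zeta) = qone ∧
    qmul zeta (qmul zeta (qmul zeta (qmul zeta zeta))) = qone ∧ zeta ≠ qone := by decide +kernel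

theorem zeta_unit : star (qev zeta) * qev zeta = 1 ∧ qev zeta * star (qev zeta) = 1 := by
  constructor
  · rw [← qev_qconj, ← qev_qmul (inI_qmul (inI_qconj zeta_check.1) zeta_check.1).1, zeta_check.2.1, qev_one]
  · rw [← qev_qconj, ← qev_qmul (inI_qmul zeta_check.1 (inI_qconj zeta_check.1)).1, zeta_check.2.2.1, qev_one]

theorem lsmul_one' (x : IV) : lsmul 1 x = x := funext fun t => by simp [lsmul]

/-- The left scalar, as a permutation of the lattice. -/
noncomputable def scalPerm : Equiv.Perm icoLeech where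
  toFun x := ⟨lsmul (qev zeta) x, smul_mem_icoLeech (mem_of_inI zeta_check.1) x.2⟩
  invFun x := ⟨lsmul (star (qev zeta)) x,
    smul_mem_icoLeech (qev_qconj zeta ▸ mem_of_inI (inI_qconj zeta_check.1)) x.2⟩
  left_inv x := Subtype.ext (by simp only [lsmul_lsmul, zeta_unit.1, lsmul_one'])
  right_inv x := Subtype.ext (by simp only [lsmul_lsmul, zeta_unit.2, lsmul_one'])

/-- The element of order five. -/
noncomputable def scalElt : ↥Co0 :=
  ⟨isoPerm scalPerm, isoPerm_mem (g := lsmul (qev zeta))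
    (fun x y => funext fun t => by simp [lsmul, mul_add])
    (fun x => by
      have hreal : ∀ r : ℝ, qev zeta * (r : ℍ[ℝ]) * star (qev zeta) = (r : ℍ[ℝ]) := fun r => by
        rw [← Quaternion.coe_commutes, mul_assoc, zeta_unit.2, mul_one]
      have hq : qip x x = ((qip x x).re : ℍ[ℝ]) := by
        have h := qip_star x x
        have h1 := congrArg QuaternionAlgebra.imI h
        have h2 := congrArg QuaternionAlgebra.imJ h
        have h3 := congrArg QuaternionAlgebra.imK h
        simp only [Quaternion.imI_star, Quaternion.imJ_star, Quaternion.imK_star] at h1 h2 h3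
        ext <;> simp <;> linarith
      rw [qip_lsmul_left, qip_lsmul_right, hq, ← mul_assoc, hreal])
    fun _ => rfl⟩

theorem scalElt_apply (x : icoLeech) : scalElt • iso x = iso (scalPerm x) := isoPerm_apply _ _

theorem scal_commute (f : twoJ2) : scalElt * coverHom f = coverHom f * scalElt := by
  refine Subtype.ext (Equiv.ext fun y => ?_)
  obtain ⟨x, rfl⟩ := iso.surjective y
  show scalElt • coverHom f • iso x = coverHom f • scalElt • iso x
  rw [coverHom_apply, scalElt_apply, scalElt_apply, coverHom_apply]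
  obtain ⟨g, hg, hgx⟩ := exists_linIso (twoJ2_eq ▸ f.2 : (f : Equiv.Perm icoLeech) ∈ genGroup)
  refine congrArg iso (Subtype.ext ?_)
  show lsmul (qev zeta) _ = _
  rw [hgx, hgx]
  exact (hg.smul _ _).symm

/-- Coordinates of the image of a vector given by its quaternion coordinates. -/
theorem iso_val {v : CfsgLib.Recog.Icosian.V} (hv : inLam v = true) (y : Vec) (h : raw v = four y) :
    ((iso ⟨vev v, mem_icoLeech_iff.2 ⟨v, hv, rfl⟩⟩ : ↥leechLattice) : Vec) = y :=
  four_injective ((iso_eq (x := ⟨vev v, mem_icoLeech_iff.2 ⟨v, hv, rfl⟩⟩) rfl).symm.trans h)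

theorem scalElt_order : orderOf scalElt = 5 := by
  have : Fact (Nat.Prime 5) := ⟨by norm_num⟩
  have hpow : ∀ (x : icoLeech), scalElt • iso x = iso (scalPerm x) := scalElt_apply
  refine orderOf_eq_prime ?_ ?_
  · refine Subtype.ext (Equiv.ext fun y => ?_)
    obtain ⟨x, rfl⟩ := iso.surjective y
    show (scalElt ^ 5) • iso x = iso x
    simp only [pow_succ, pow_zero, one_mul, mul_smul, hpow]
    refine congrArg iso (Subtype.ext ?_)
    show lsmul (qev zeta) (lsmul (qev zeta) (lsmul (qev zeta) (lsmul (qev zeta) (lsmul (qev zeta) (x : IV))))) = x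
    have i1 := inI_qmul zeta_check.1 zeta_check.1
    have i2 := inI_qmul zeta_check.1 i1.2
    have i3 := inI_qmul zeta_check.1 i2.2
    have i4 := inI_qmul zeta_check.1 i3.2
    rw [lsmul_lsmul, lsmul_lsmul, lsmul_lsmul, lsmul_lsmul, mul_assoc, mul_assoc, mul_assoc, ← qev_qmul i1.1,
      ← qev_qmul i2.1, ← qev_qmul i3.1, ← qev_qmul i4.1, zeta_check.2.2.2.1, qev_one, lsmul_one']
  · intro h
    have hx := scalElt_apply ⟨vev basisThree, mem_icoLeech_iff.2 ⟨_, basis_mem.2.2, rfl⟩⟩
    rw [h, one_smul] at hx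
    have h' := congrFun (congrArg Subtype.val (iso.injective hx)) 2
    have e2 : qev zeta * (1 + 1) = 1 + 1 := by
      simpa [scalPerm, lsmul, vev, basisThree, qev_qadd, qev_one] using h'.symm
    rw [mul_add, mul_one, ← two_smul ℝ (qev zeta), ← two_smul ℝ (1 : ℍ[ℝ])] at e2
    exact zeta_check.2.2.2.2 (qev_injective ((smul_right_injective ℍ[ℝ] (two_ne_zero' ℝ) e2).trans qev_one.symm))

end CfsgLib.Sporadic.ConwayIco
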