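import Cfsg.Agent.Lib.Sporadic.ConwayIco
import Cfsg.Agent.Lib.Sporadic.Octad

/-!
# Commuting with the scalar and with a reflection

In the automorphism group of the lattice of rank 24, the elements commuting with the scalar of order five
and with the image of the first reflection number at most `19200`: the pair of images of two roots has at
most `600` values, and at most `32` monomial elements fix both.
-/

set_option autoImplicit false
set_option maxRecDepth 100000

namespace CfsgLib.Sporadic.ConwayIco

open Cfsg Finset CfsgLib.Sporadic CfsgLib.Sporadic.Conway CfsgLib.Sporadic.Lattice CfsgLib.ThreeTrans.Leech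
open CfsgLib.Recog.Icosian Cfsg.Spor Quaternion
open scoped Pointwise

/-- The reflection, on coordinates. -/
theorem reflV_eq {v r : CfsgLib.Recog.Icosian.V} (hv : inLam v = true) (hr : inLam r = true)
    (he : evenIp v r = true) : qrefl (vev r) (vev v) = vev (reflV r v) := by
  obtain ⟨a', b', c'⟩ := coords_of_inLam hr
  have hs := qip_vev hv hr he
  have hI : inI (halfIp v r) = true := by
    simp only [evenIp, Bool.and_eq_true] at he; exact he.2
  rw [qrefl_eq, hs]
  funext t
  fin_cases t
  · show qev v.1 - qev (halfIp v r) * qev r.1 = qev (qsub v.1 (qmul (halfIp v r) r.1))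
    rw [qev_qsub, qev_qmul (inI_qmul hI a').1]
  · show qev v.2.1 - qev (halfIp v r) * qev r.2.1 = qev (qsub v.2.1 (qmul (halfIp v r) r.2.1))
    rw [qev_qsub, qev_qmul (inI_qmul hI b').1]
  · show qev v.2.2 - qev (halfIp v r) * qev r.2.2 = qev (qsub v.2.2 (qmul (halfIp v r) r.2.2))
    rw [qev_qsub, qev_qmul (inI_qmul hI c').1]

/-- A vector of the icosian lattice given by coordinates. -/
noncomputable def icoElt (v : CfsgLib.Recog.Icosian.V) (h : inLam v = true) : icoLeech :=
  ⟨vev v, mem_icoLeech_iff.2 ⟨v, h, rfl⟩⟩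

/-- The images of the basis. -/
noncomputable def basisElt (p : Fin 3 × Fin 8) : ↥leechLattice :=
  iso (icoElt (latBasis p) (basis_check p).2.1)

/-- Automorphisms agreeing on the basis are equal. -/
theorem ext_on_basis {g h : ↥Co0} (he : ∀ p, g • basisElt p = h • basisElt p) : g = h := by
  refine Subtype.ext (Equiv.ext fun y => ?_)
  obtain ⟨x, rfl⟩ := iso.surjective y
  obtain ⟨v, hv, ev'⟩ := basis_closure x.2
  suffices ∀ w ∈ AddSubgroup.closure (Set.range latBasis), ∀ z : icoLeech, vev w = (z : IV) →
      g • iso z = h • iso z from this v hv x ev'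
  intro w hw
  induction hw using AddSubgroup.closure_induction with
  | mem w hw =>
    intro z hz
    obtain ⟨p, rfl⟩ := hw
    rw [show z = icoElt (latBasis p) (basis_check p).2.1 from Subtype.ext hz.symm]
    exact he p
  | zero =>
    intro z hz
    have h0 : iso z = 0 := by
      refine Subtype.ext (four_injective ?_)
      rw [← iso_eq hz, map_zero, AddSubgroup.coe_zero, map_zero]
    rw [h0, show g • (0 : ↥leechLattice) = 0 from map_zero (linOf g), show h • (0 : ↥leechLattice) = 0 from map_zero (linOf h)]
  | add a b ha hb iha ihb =>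
    intro z hz
    have hmem : ∀ c ∈ AddSubgroup.closure (Set.range latBasis), vev c ∈ icoLeech := fun c hc => by
      have : AddSubgroup.closure (Set.range latBasis) ≤ coordSub := by
        rw [AddSubgroup.closure_le]
        rintro _ ⟨p, rfl⟩
        exact mem_coordSub_of_inLam (basis_check p).2.1
      exact this hc
    rw [iso_add (x := ⟨_, hmem a ha⟩) (y := ⟨_, hmem b hb⟩) (z := z) (hz.symm.trans (map_add vevH a b)),
      show g • (iso ⟨_, hmem a ha⟩ + iso ⟨_, hmem b hb⟩) = _ from map_add (linOf g) _ _,
      show h • (iso ⟨_, hmem a ha⟩ + iso ⟨_, hmem b hb⟩) = _ from map_add (linOf h) _ _]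
    exact congr (congrArg HAdd.hAdd (iha _ rfl)) (ihb _ rfl)
  | neg a _ iha =>
    intro z hz
    have hn : vev a = -(z : IV) := by
      rw [← hz, show vev (-a) = -vev a from map_neg vevH a, neg_neg]
    have hm : -(z : IV) ∈ icoLeech := icoSub.neg_mem z.2
    have he' := iha ⟨_, hm⟩ hn
    have : iso z = -iso ⟨_, hm⟩ := by
      refine Subtype.ext (four_injective ?_)
      rw [← iso_eq (v := -a) hz, map_neg, AddSubgroup.coe_neg, map_neg, iso_eq (v := a) (x := ⟨_, hm⟩) hn]
    rw [this, smul_neg', smul_neg', he']

/-- The first root. -/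
def rootZero : CfsgLib.Recog.Icosian.V := lineOf (rootOf 0)

theorem rootZero_eq : root (genIdx 0) = rootZero := genIdx_eq 0

theorem flip_check : inLam rootZero = true ∧ inCode stdO = true ∧ ∀ p : Fin 3 × Fin 8,
    evenIp (latBasis p) rootZero = true ∧ inLam (reflV rootZero (latBasis p)) = true ∧
    raw (reflV rootZero (latBasis p)) = flipVec (setOfMask stdO) (raw (latBasis p)) := by
  decide +kernel

theorem stdO_supports : setOfMask stdO ∈ supports (golayCode : Set (GolayPt → ZMod 2)) := by
  rw [mem_supports_iff, maskOf_setOfMask (inCode_lt flip_check.2.1)]; exact flip_check.2.1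

/-- The image of the first reflection. -/
noncomputable def reflElt : ↥Co0 := coverHom (genElt 0)

theorem genPerm_zero_apply (p : Fin 3 × Fin 8) : genPerm 0 (icoElt (latBasis p) (basis_check p).2.1) =
    icoElt (reflV rootZero (latBasis p)) (flip_check.2.2 p).2.1 := by
  refine Subtype.ext ?_
  show qrefl (vev (root (genIdx 0))) (vev (latBasis p)) = _
  rw [rootZero_eq, reflV_eq (basis_check p).2.1 flip_check.1 (flip_check.2.2 p).1]
  rfl

/-- It changes the signs on an octad. -/
theorem reflElt_eq : reflElt = flipElt stdO_supports := by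
  refine ext_on_basis fun p => Subtype.ext (four_injective ?_)
  have e := coverHom_apply (genElt 0) (icoElt (latBasis p) (basis_check p).2.1)
  rw [show ((genElt 0 : twoJ2) : Equiv.Perm icoLeech) = genPerm 0 from rfl, genPerm_zero_apply] at e
  rw [flipElt_apply, reflElt, basisElt, e, ← iso_eq (v := reflV rootZero (latBasis p)) rfl, (flip_check.2.2 p).2.2,
    iso_eq (v := latBasis p) (x := icoElt (latBasis p) (basis_check p).2.1) rfl]
  funext i
  simp only [flipVec, four, AddMonoidHom.mk'_apply]
  split_ifs <;> ring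

/-- Vanishing off the octad. -/
def Supp (y : Vec) : Prop := ∀ i : GolayPt, i ∉ setOfMask stdO → y i = 0

theorem supp_iff (y : ↥leechLattice) : Supp (y : Vec) ↔ reflElt • y = -y := by
  constructor
  · intro h
    refine Subtype.ext (funext fun i => ?_)
    rw [reflElt_eq, flipElt_apply, AddSubgroup.coe_neg, Pi.neg_apply, flipVec]
    split_ifs with hi
    · rfl
    · rw [h i hi]; rfl
  · intro h i hi
    have e := congrFun (congrArg Subtype.val h) i
    rw [reflElt_eq, flipElt_apply, AddSubgroup.coe_neg, Pi.neg_apply, flipVec, if_neg hi] at e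
    omega

/-- A vector read on the octad. -/
def octCoords (y : Vec) : List ℤ :=
  [y (pt 0), y (pt 1), y (pt 2), y (pt 3), y (pt 5), y (pt 14), y (pt 17), y (pt 23)]

/-- Inner products of such readings. -/
def dl : List ℤ → List ℤ → ℤ
  | [a, b, c, d, e, f, g, h], [a', b', c', d', e', f', g', h'] =>
    a * a' + b * b' + c * c' + d * d' + e * e' + f * f' + g * g' + h * h'
  | _, _ => 0

theorem oct_points : setOfMask stdO = {pt 0, pt 1, pt 2, pt 3, pt 5, pt 14, pt 17, pt 23} ∧
    [pt 0, pt 1, pt 2, pt 3, pt 5, pt 14, pt 17, pt 23].Nodup := by decide +kernel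

theorem sum_oct {f : GolayPt → ℤ} (hf : ∀ i, i ∉ setOfMask stdO → f i = 0) :
    ∑ i, f i = f (pt 0) + f (pt 1) + f (pt 2) + f (pt 3) + f (pt 5) + f (pt 14) + f (pt 17) + f (pt 23) := by
  rw [← Finset.sum_subset (Finset.subset_univ (setOfMask stdO)) fun i _ hi => hf i hi, oct_points.1]
  have h := oct_points.2
  simp only [List.nodup_cons, List.mem_cons, List.not_mem_nil, or_false, not_or] at h
  obtain ⟨h1, h2, h3, h4, h5, h6, h7, -⟩ := h
  rw [Finset.sum_insert (by simp [h1]), Finset.sum_insert (by simp [h2]), Finset.sum_insert (by simp [h3]),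
    Finset.sum_insert (by simp [h4]), Finset.sum_insert (by simp [h5]), Finset.sum_insert (by simp [h6]),
    Finset.sum_insert (by simp [h7]), Finset.sum_singleton]
  ring

theorem dot_oct {x : Vec} (hx : Supp x) (y : Vec) : dotInt x y = dl (octCoords x) (octCoords y) :=
  sum_oct fun i hi => by rw [hx i hi, zero_mul]

theorem eq_of_octCoords {x y : Vec} (hx : Supp x) (hy : Supp y) (h : octCoords x = octCoords y) : x = y := by
  funext i
  by_cases hi : i ∈ setOfMask stdO
  · rw [oct_points.1] at hi
    simp only [octCoords, List.cons.injEq, and_true] at h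
    obtain ⟨a, b, c, d, e, f, g, k⟩ := h
    simp only [Finset.mem_insert, Finset.mem_singleton] at hi
    rcases hi with rfl | rfl | rfl | rfl | rfl | rfl | rfl | rfl <;> assumption
  · rw [hx i hi, hy i hi]

/-- All lists of a length over an alphabet. -/
def seqs (A : List ℤ) : ℕ → List (List ℤ)
  | 0 => [[]]
  | n + 1 => A.flatMap fun a => (seqs A n).map (a :: ·)

theorem mem_seqs {A : List ℤ} : ∀ {l : List ℤ}, (∀ a ∈ l, a ∈ A) → l ∈ seqs A l.length := by
  intro l
  induction l with
  | nil => exact fun _ => List.mem_singleton_self _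
  | cons a l ih =>
    intro h
    exact List.mem_flatMap.2 ⟨a, h a List.mem_cons_self,
      List.mem_map.2 ⟨l, ih fun b hb => h b (List.mem_cons_of_mem _ hb), rfl⟩⟩

theorem enum_check : (forallLt 4096 fun k => ! Nat.beq (Nat.land (enc k) (Nat.xor 16777215 stdO)) 0 ||
      Nat.beq (enc k) 0 || Nat.beq (enc k) stdO) = true ∧
    ((seqs [-1, 1] 8).all fun e => !(e.sum % 4 == 0) || rotTab.any fun R => R.getD 0 [] == e.map (2 * ·)) = true ∧
    ((seqs [-1, 0, 1] 8).all fun e => !((e.map fun t => t * t).sum == 2) ||
      rotTab.any fun R => R.getD 0 [] == e.map (4 * ·)) = true := by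
  decide +kernel

theorem mem_support_red {e : Vec} {i : GolayPt} : i ∈ support₂ (red e) ↔ e i % 2 = 1 := by
  unfold support₂
  erw [Finset.mem_filter]
  simp only [Finset.mem_univ, true_and]
  exact cast_ne_zero_iff _

theorem oct_bits : ∀ n < 24, stdO.testBit n = true → Nat.testBit 16777215 n = true := by decide +kernel

/-- The table lists every minimal vector on the octad. -/
theorem exists_row {y : ↥leechLattice} (hy : Supp (y : Vec)) (hn : sqNorm (y : Vec) = 32) :
    ∃ R ∈ rotTab, R.getD 0 [] = octCoords (y : Vec) := by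
  obtain ⟨m, d, h1, h2, h3⟩ := mem_iff.1 y.2
  obtain ⟨i0, hi0⟩ : ∃ i, i ∉ setOfMask stdO := ⟨pt 4, by decide +kernel⟩
  have hm : m % 2 = 0 := by have := hy i0 hi0; rw [h1] at this; omega
  let e : Vec := fun i => m / 2 + d i
  have hye : ∀ i, (y : Vec) i = 2 * e i := fun i => by rw [h1]; simp only [e]; omega
  have he0 : ∀ i, i ∉ setOfMask stdO → e i = 0 := fun i hi => by
    have := hy i hi; rw [hye] at this; omega
  have hcode : red e ∈ golayCode := by
    have : red e = red d + ((m / 2 : ℤ) : ZMod 2) • (1 : GolayPt → ZMod 2) := by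
      funext i; simp only [red, e, Int.cast_add, Pi.add_apply, Pi.smul_apply, Pi.one_apply, smul_eq_mul, mul_one]
      ring
    rw [this]; exact add_mem h2 (Submodule.smul_mem _ _ one_mem_code)
  have hsq : ∑ i, e i * e i = 8 := by
    have : sqNorm (y : Vec) = 4 * ∑ i, e i * e i := by
      rw [sqNorm, Finset.mul_sum]
      exact Finset.sum_congr rfl fun i _ => by rw [hye]; ring
    omega
  have hmask : maskOf (support₂ (red e)) = 0 ∨ maskOf (support₂ (red e)) = stdO := by
    obtain ⟨k, hk, hke⟩ := inCode_iff.1 ((mem_supports_iff.1 (show support₂ (red e) ∈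
      supports (golayCode : Set (GolayPt → ZMod 2)) from ⟨_, hcode, rfl⟩)))
    have h := forallLt_elim enum_check.1 hk
    simp only [Bool.or_eq_true, Bool.not_eq_true', Nat.beq_eq] at h
    rw [← hke]
    rcases h with (h | h) | h
    · exfalso
      have hz : Nat.land (enc k) (Nat.xor 16777215 stdO) = 0 := by
        refine Nat.eq_of_testBit_eq fun n => ?_
        rw [show Nat.land (enc k) (Nat.xor 16777215 stdO) = enc k &&& (16777215 ^^^ stdO) from rfl,
          Nat.testBit_and, Nat.zero_testBit]
        by_cases hb : (enc k).testBit n = true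
        · have hn : n < 24 := by
            by_contra hn
            rw [Nat.testBit_lt_two_pow (lt_of_lt_of_le (enc_lt hk) (Nat.pow_le_pow_right two_pos (by omega)))] at hb
            simp at hb
          have hix : ix (pt n) = n := by interval_cases n <;> rfl
          rw [hke, ← hix, testBit_maskOf, decide_eq_true_eq] at hb
          have hO : pt n ∈ setOfMask stdO := by
            by_contra hO
            rw [mem_support_red, he0 _ hO] at hb
            norm_num at hb
          rw [mem_setOfMask, hix] at hO
          rw [Nat.testBit_xor, hO, oct_bits n hn hO]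
          simp
        · simp [Bool.eq_false_iff.2 hb]
      rw [hz] at h
      simp at h
    · exact Or.inl h
    · exact Or.inr h
  have hsum : (∑ i, e i) % 4 = 0 := by
    have e1 : ∑ i, (y : Vec) i = 2 * ∑ i, e i := by
      rw [Finset.mul_sum]; exact Finset.sum_congr rfl fun i _ => hye i
    rw [Int.ModEq] at h3; omega
  let le : List ℤ := [e (pt 0), e (pt 1), e (pt 2), e (pt 3), e (pt 5), e (pt 14), e (pt 17), e (pt 23)]
  have hcoords : octCoords (y : Vec) = le.map (2 * ·) := by simp [octCoords, le, hye]
  have hodd : ∀ i, (e i % 2 = 1 ↔ (maskOf (support₂ (red e))).testBit (ix i) = true) := fun i => by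
    rw [testBit_maskOf, decide_eq_true_eq]
    exact mem_support_red.symm
  have hbound : ∀ i, e i * e i ≤ 8 := fun i => by
    rw [← hsq]
    exact Finset.single_le_sum (f := fun j => e j * e j) (fun j _ => mul_self_nonneg _) (Finset.mem_univ i)
  have h8 := hsq
  rw [sum_oct (f := fun i => e i * e i) (fun i hi => by simp [he0 i hi])] at h8
  rw [sum_oct (f := e) he0] at hsum
  rcases hmask with hM | hM
  · -- every entry even
    have hev : ∀ i, ∃ f, e i = 2 * f := fun i => ⟨e i / 2, by
      have : ¬ e i % 2 = 1 := fun h => by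
        have := (hodd i).1 h; rw [hM] at this; simp at this
      omega⟩
    choose f hf using hev
    have hf2 : f (pt 0) * f (pt 0) + f (pt 1) * f (pt 1) + f (pt 2) * f (pt 2) + f (pt 3) * f (pt 3) +
        f (pt 5) * f (pt 5) + f (pt 14) * f (pt 14) + f (pt 17) * f (pt 17) + f (pt 23) * f (pt 23) = 2 := by
      simp only [hf] at h8; linarith
    have hmem : [f (pt 0), f (pt 1), f (pt 2), f (pt 3), f (pt 5), f (pt 14), f (pt 17), f (pt 23)] ∈
        seqs [-1, 0, 1] 8 := mem_seqs (by
      intro a ha
      have key : ∀ i, f i = -1 ∨ f i = 0 ∨ f i = 1 := fun i => by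
        have := hbound i; rw [hf] at this
        have h1 : -1 ≤ f i := by nlinarith
        have h2 : f i ≤ 1 := by nlinarith
        omega
      simp only [List.mem_cons, List.not_mem_nil, or_false] at ha ⊢
      rcases ha with rfl | rfl | rfl | rfl | rfl | rfl | rfl | rfl <;> exact key _)
    have h := List.all_eq_true.1 enum_check.2.2 _ hmem
    simp only [List.map_cons, List.map_nil, List.sum_cons, List.sum_nil, add_zero, Bool.or_eq_true,
      Bool.not_eq_true', beq_eq_false_iff_ne, List.any_eq_true, beq_iff_eq] at h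
    rcases h with h | ⟨R, hR, hRe⟩
    · exact absurd (by linarith) h
    · refine ⟨R, hR, hRe.trans ?_⟩
      rw [hcoords]
      simp only [le, hf, List.map_cons, List.map_nil, ← mul_assoc]
      norm_num
  · -- every entry odd
    have h1 : ∀ i ∈ setOfMask stdO, 1 ≤ e i * e i := fun i hi => by
      have h := (hodd i).2 (by rw [hM]; exact mem_setOfMask.1 hi)
      have : e i ≠ 0 := by omega
      nlinarith [mul_self_pos.2 this]
    have hmemO : ∀ n ∈ ([0, 1, 2, 3, 5, 14, 17, 23] : List ℕ), pt n ∈ setOfMask stdO := by decide +kernel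
    have a0 := h1 _ (hmemO 0 (by simp)); have a1 := h1 _ (hmemO 1 (by simp)); have a2 := h1 _ (hmemO 2 (by simp))
    have a3 := h1 _ (hmemO 3 (by simp)); have a4 := h1 _ (hmemO 5 (by simp)); have a5 := h1 _ (hmemO 14 (by simp))
    have a6 := h1 _ (hmemO 17 (by simp)); have a7 := h1 _ (hmemO 23 (by simp))
    have hmem : le ∈ seqs [-1, 1] 8 := mem_seqs (by
      intro a ha
      have key : ∀ a : ℤ, a * a = 1 → a = -1 ∨ a = 1 := fun a h => by
        rcases eq_or_eq_neg_of_sq_eq_sq a 1 (by linarith [sq a]) with h | h <;> omega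
      simp only [le, List.mem_cons, List.not_mem_nil, or_false] at ha ⊢
      rcases ha with rfl | rfl | rfl | rfl | rfl | rfl | rfl | rfl <;> refine key _ ?_ <;> linarith)
    have h := List.all_eq_true.1 enum_check.2.1 _ hmem
    simp only [le, List.sum_cons, List.sum_nil, add_zero, Bool.or_eq_true, Bool.not_eq_true',
      beq_eq_false_iff_ne, List.any_eq_true, beq_iff_eq] at h
    rcases h with h | ⟨R, hR, hRe⟩
    · exact absurd (by simp only [add_assoc] at hsum ⊢; exact hsum) h
    · exact ⟨R, hR, hRe.trans (by rw [hcoords])⟩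

/-- An entry of eight times the scalar. -/
def scalEnt (j i : GolayPt) : ℤ := (scalRows.getD (ix j) []).getD (ix i) 0

/-- Coordinates of `8 e_j` in the icosian lattice. -/
def eightPre (j : GolayPt) : CfsgLib.Recog.Icosian.V :=
  genPre.getD (1 + ix j) (qzero, qzero, qzero) + genPre.getD (1 + ix j) (qzero, qzero, qzero) -
    genPre.getD 24 (qzero, qzero, qzero)

theorem eight_check : ∀ j : GolayPt, inLam (eightPre j) = true ∧ raw (eightPre j) = four (eightVec j) ∧
    raw (smulV zeta (eightPre j)) = four (scalEnt j) := by decide +kernel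

/-- `8 e_j` in the lattice. -/
noncomputable def eightElt (j : GolayPt) : ↥leechLattice := ⟨eightVec j, eightVec_mem j⟩

theorem eight_smul (y : ↥leechLattice) : (8 : ℤ) • y = ∑ j, (y : Vec) j • eightElt j := by
  refine Subtype.ext (funext fun i => ?_)
  rw [AddSubgroup.coe_zsmul, AddSubgroup.val_finsetSum, Pi.smul_apply, Finset.sum_apply,
    Finset.sum_eq_single i (fun j _ hj => by simp [eightElt, eightVec, Ne.symm hj]) (by simp)]
  simp [eightElt, eightVec, mul_comm]

theorem scal_eight (j : GolayPt) : ((scalElt • eightElt j : ↥leechLattice) : Vec) = scalEnt j := by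
  obtain ⟨hl, hraw, hs⟩ := eight_check j
  have e : eightElt j = iso (icoElt (eightPre j) hl) := Subtype.ext (iso_val hl _ hraw).symm
  rw [e, scalElt_apply]
  refine four_injective ((iso_eq (v := smulV zeta (eightPre j)) ?_).symm.trans hs)
  exact vev_smulV zeta_check.1 (coords_of_inLam hl)

theorem eight_linear (g : ↥Co0) (y : ↥leechLattice) (i : GolayPt) :
    8 * ((g • y : ↥leechLattice) : Vec) i = ∑ j, (y : Vec) j * ((g • eightElt j : ↥leechLattice) : Vec) i := by
  have h := congrArg (fun z : ↥leechLattice => ((linOf g z : ↥leechLattice) : Vec) i) (eight_smul y)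
  simp only [map_sum, map_zsmul, AddSubgroup.coe_zsmul, AddSubgroup.val_finsetSum, Pi.smul_apply,
    Finset.sum_apply, smul_eq_mul] at h
  exact h

/-- The successive rotations of a reading. -/
def stepOK (a b : List ℤ) : Bool :=
  (List.range 24).all fun i =>
    (if stdO.testBit i then 8 * b.getD ([0, 1, 2, 3, 5, 14, 17, 23].idxOf i) 0 else 0) ==
      dl a [(scalRows.getD 0 []).getD i 0, (scalRows.getD 1 []).getD i 0, (scalRows.getD 2 []).getD i 0,
        (scalRows.getD 3 []).getD i 0, (scalRows.getD 5 []).getD i 0, (scalRows.getD 14 []).getD i 0,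
        (scalRows.getD 17 []).getD i 0, (scalRows.getD 23 []).getD i 0]

theorem rot_check : (rotTab.all fun R => (List.range 4).all fun k => stepOK (R.getD k []) (R.getD (k + 1) [])) = true := by
  decide +kernel

theorem rot_row {y : ↥leechLattice} (hy : Supp (y : Vec)) {R : List (List ℤ)} (hR : R ∈ rotTab)
    (h0 : R.getD 0 [] = octCoords (y : Vec)) : ∀ k < 5, Supp ((scalElt ^ k • y : ↥leechLattice) : Vec) ∧
      octCoords ((scalElt ^ k • y : ↥leechLattice) : Vec) = R.getD k [] := by
  intro k hk
  induction k with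
  | zero => exact ⟨by simpa using hy, by simpa using h0.symm⟩
  | succ k ih =>
    obtain ⟨hs, hc⟩ := ih (by omega)
    set z := scalElt ^ k • y
    have hz : scalElt ^ (k + 1) • y = scalElt • z := by rw [pow_succ', mul_smul]
    rw [hz]
    have hval : ∀ i, 8 * ((scalElt • z : ↥leechLattice) : Vec) i = dl (octCoords (z : Vec))
        [scalEnt (pt 0) i, scalEnt (pt 1) i, scalEnt (pt 2) i, scalEnt (pt 3) i, scalEnt (pt 5) i,
          scalEnt (pt 14) i, scalEnt (pt 17) i, scalEnt (pt 23) i] := fun i => by
      rw [eight_linear, sum_oct (fun j hj => by simp [hs j hj])]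
      simp only [scal_eight, dl, octCoords]
    have hstep := List.all_eq_true.1 (List.all_eq_true.1 rot_check R hR) k (List.mem_range.2 (by omega))
    rw [stepOK, List.all_eq_true] at hstep
    have hij : ix (pt 0) = 0 ∧ ix (pt 1) = 1 ∧ ix (pt 2) = 2 ∧ ix (pt 3) = 3 ∧ ix (pt 5) = 5 ∧ ix (pt 14) = 14 ∧
        ix (pt 17) = 17 ∧ ix (pt 23) = 23 := by decide +kernel
    obtain ⟨p0, p1, p2, p3, p4, p5, p6, p7⟩ := hij
    have key : ∀ i, 8 * ((scalElt • z : ↥leechLattice) : Vec) i =
        if stdO.testBit (ix i) then 8 * (R.getD (k + 1) []).getD ([0, 1, 2, 3, 5, 14, 17, 23].idxOf (ix i)) 0 else 0 := by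
      intro i
      have h := hstep (ix i) (List.mem_range.2 (ix_lt i))
      rw [beq_iff_eq] at h
      rw [h, hval, hc]
      simp only [scalEnt, p0, p1, p2, p3, p4, p5, p6, p7]
    refine ⟨fun i hi => ?_, ?_⟩
    · have h := key i
      rw [if_neg (fun ht => hi (mem_setOfMask.2 ht))] at h
      omega
    · have hlen : (R.getD (k + 1) []).length = 8 := by
        have : (rotTab.all fun R => (List.range 5).all fun k => (R.getD k []).length == 8) = true := by decide +kernel
        simpa using List.all_eq_true.1 (List.all_eq_true.1 this R hR) (k + 1) (List.mem_range.2 hk)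
      generalize hl : R.getD (k + 1) [] = l at key hlen
      match l, hlen with
      | [a, b, c, d, e, f, g, h], _ =>
        have q0 := key (pt 0); have q1 := key (pt 1); have q2 := key (pt 2); have q3 := key (pt 3)
        have q4 := key (pt 5); have q5 := key (pt 14); have q6 := key (pt 17); have q7 := key (pt 23)
        rw [p0] at q0; rw [p1] at q1; rw [p2] at q2; rw [p3] at q3
        rw [p4] at q4; rw [p5] at q5; rw [p6] at q6; rw [p7] at q7
        norm_num [stdO, List.idxOf_cons, Nat.testBit, Nat.shiftRight_eq_div_pow] at q0 q1 q2 q3 q4 q5 q6 q7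
        simp only [octCoords, List.cons.injEq, and_true]
        omega

/-- The two roots, as vectors. -/
theorem roots_check : inLam rootZero = true ∧ inLam secondRoot = true ∧
    (∀ i : GolayPt, i ∉ setOfMask stdO → raw rootZero i = 0 ∧ raw secondRoot i = 0) ∧
    (∀ n ∈ ([0, 1, 2, 3, 5, 14, 17, 23] : List ℕ), raw rootZero (pt n) % 4 = 0 ∧ raw secondRoot (pt n) % 4 = 0) ∧
    rotTab.getD 118 [] ∈ rotTab ∧ rotTab.getD 1 [] ∈ rotTab ∧
    (rotTab.getD 118 []).getD 0 [] = [raw rootZero (pt 0) / 4, raw rootZero (pt 1) / 4, raw rootZero (pt 2) / 4,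
      raw rootZero (pt 3) / 4, raw rootZero (pt 5) / 4, raw rootZero (pt 14) / 4, raw rootZero (pt 17) / 4,
      raw rootZero (pt 23) / 4] ∧
    (rotTab.getD 1 []).getD 0 [] = [raw secondRoot (pt 0) / 4, raw secondRoot (pt 1) / 4, raw secondRoot (pt 2) / 4,
      raw secondRoot (pt 3) / 4, raw secondRoot (pt 5) / 4, raw secondRoot (pt 14) / 4, raw secondRoot (pt 17) / 4,
      raw secondRoot (pt 23) / 4] := by
  decide +kernel

/-- The first root in the lattice. -/
noncomputable def firstVec : ↥leechLattice := iso (icoElt rootZero roots_check.1)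
/-- The second root in the lattice. -/
noncomputable def secondVec : ↥leechLattice := iso (icoElt secondRoot roots_check.2.1)

theorem root_facts : Supp (firstVec : Vec) ∧ Supp (secondVec : Vec) ∧
    (rotTab.getD 118 []).getD 0 [] = octCoords (firstVec : Vec) ∧
    (rotTab.getD 1 []).getD 0 [] = octCoords (secondVec : Vec) := by
  obtain ⟨h0, h1, hz, -, -, -, e0, e1⟩ := roots_check
  have f0 : raw rootZero = four (firstVec : Vec) := iso_eq (x := icoElt rootZero h0) rfl
  have f1 : raw secondRoot = four (secondVec : Vec) := iso_eq (x := icoElt secondRoot h1) rfl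
  rw [f0] at e0
  rw [f1] at e1
  simp only [four, AddMonoidHom.mk'_apply, Int.mul_ediv_cancel_left _ (by norm_num : (4 : ℤ) ≠ 0)] at e0 e1
  refine ⟨fun i hi => ?_, fun i hi => ?_, e0, e1⟩
  · have := (hz i hi).1; rw [f0] at this; simp only [four, AddMonoidHom.mk'_apply] at this; omega
  · have := (hz i hi).2; rw [f1] at this; simp only [four, AddMonoidHom.mk'_apply] at this; omega

/-- Inner products of a reading with the rotations of another. -/
def crossDots (R S : List (List ℤ)) : List ℤ := (List.range 5).map fun k => dl (R.getD 0 []) (S.getD k [])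

/-- The possible images of the two roots, the first taken from a part of the table. -/
def imagePairsOn (L : List (List (List ℤ))) : List (List ℤ × List ℤ) :=
  (L.filter fun R => crossDots R R == crossDots (rotTab.getD 118 []) (rotTab.getD 118 [])).flatMap fun R =>
    (rotTab.filter fun S => crossDots R S == crossDots (rotTab.getD 118 []) (rotTab.getD 1 []) &&
      crossDots S S == crossDots (rotTab.getD 1 []) (rotTab.getD 1 [])).map fun S => (R.getD 0 [], S.getD 0 [])

/-- The possible images of the two roots. -/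
def imagePairs : List (List ℤ × List ℤ) := imagePairsOn rotTab

theorem imagePairsOn_append (L L' : List (List (List ℤ))) :
    imagePairsOn (L ++ L') = imagePairsOn L ++ imagePairsOn L' := by
  simp only [imagePairsOn, List.filter_append, List.flatMap_append]

theorem imagePairs_part0 : (imagePairsOn rotPart0).length = 55 := by decide +kernel

theorem imagePairs_part1 : (imagePairsOn rotPart1).length = 75 := by decide +kernel

theorem imagePairs_part2 : (imagePairsOn rotPart2).length = 95 := by decide +kernel

theorem imagePairs_part3 : (imagePairsOn rotPart3).length = 75 := by decide +kernel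

theorem imagePairs_part4 : (imagePairsOn rotPart4).length = 75 := by decide +kernel

theorem imagePairs_part5 : (imagePairsOn rotPart5).length = 95 := by decide +kernel

theorem imagePairs_part6 : (imagePairsOn rotPart6).length = 75 := by decide +kernel

theorem imagePairs_part7 : (imagePairsOn rotPart7).length = 55 := by decide +kernel

theorem imagePairs_len : imagePairs.length ≤ 600 := by
  rw [imagePairs, rotTab]
  simp only [imagePairsOn_append, List.length_append, imagePairs_part0, imagePairs_part1, imagePairs_part2, imagePairs_part3, imagePairs_part4, imagePairs_part5, imagePairs_part6, imagePairs_part7]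
  norm_num

theorem coef_check : ((List.range 8).all fun n => (List.range 8).all fun t =>
    dl (eightCoef.getD n []) [((rotTab.getD 118 []).getD 0 []).getD t 0, ((rotTab.getD 118 []).getD 1 []).getD t 0,
      ((rotTab.getD 118 []).getD 2 []).getD t 0, ((rotTab.getD 118 []).getD 3 []).getD t 0,
      ((rotTab.getD 1 []).getD 0 []).getD t 0, ((rotTab.getD 1 []).getD 1 []).getD t 0,
      ((rotTab.getD 1 []).getD 2 []).getD t 0, ((rotTab.getD 1 []).getD 3 []).getD t 0] ==
        if n == t then 8 else 0) = true ∧ (rotTab.getD 118 []).length = 5 ∧ eightCoef.all (fun c => c.length == 8) = true ∧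
    eightCoef.length = 8 := by
  decide +kernel

/-- The elements commuting with the scalar and the reflection. -/
noncomputable def bothCent : Subgroup ↥Co0 :=
  Subgroup.centralizer {scalElt} ⊓ Subgroup.centralizer {reflElt}

theorem both_scal {g : ↥Co0} (hg : g ∈ bothCent) (k : ℕ) (y : ↥leechLattice) :
    scalElt ^ k • g • y = g • scalElt ^ k • y := by
  rw [← mul_smul, ← mul_smul,
    ((show Commute g scalElt from Subgroup.mem_centralizer_singleton_iff.1 hg.1).symm.pow_left k).eq]

theorem both_supp {g : ↥Co0} (hg : g ∈ bothCent) {y : ↥leechLattice} (hy : Supp (y : Vec)) :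
    Supp ((g • y : ↥leechLattice) : Vec) := by
  rw [supp_iff] at hy ⊢
  rw [← mul_smul, ← (Subgroup.mem_centralizer_singleton_iff.1 hg.2), mul_smul, hy, smul_neg']

theorem image_pair {g : ↥Co0} (hg : g ∈ bothCent) :
    (octCoords ((g • firstVec : ↥leechLattice) : Vec), octCoords ((g • secondVec : ↥leechLattice) : Vec)) ∈
      imagePairs := by
  obtain ⟨s0, s1, e0, e1⟩ := root_facts
  have n0 : sqNorm (firstVec : Vec) = 32 ∧ sqNorm (secondVec : Vec) = 32 := by
    have d : dl ((rotTab.getD 118 []).getD 0 []) ((rotTab.getD 118 []).getD 0 []) = 32 ∧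
        dl ((rotTab.getD 1 []).getD 0 []) ((rotTab.getD 1 []).getD 0 []) = 32 := by decide +kernel
    constructor
    · rw [show sqNorm (firstVec : Vec) = dotInt (firstVec : Vec) (firstVec : Vec) by simp [sqNorm, dotInt, sq],
        dot_oct s0, ← e0]; exact d.1
    · rw [show sqNorm (secondVec : Vec) = dotInt (secondVec : Vec) (secondVec : Vec) by simp [sqNorm, dotInt, sq],
        dot_oct s1, ← e1]; exact d.2
  obtain ⟨R, hR, eR⟩ := exists_row (both_supp hg s0) ((norm_smul' g _).trans n0.1)
  obtain ⟨S, hS, eS⟩ := exists_row (both_supp hg s1) ((norm_smul' g _).trans n0.2)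
  have key : ∀ {x y : ↥leechLattice} {A B A' B' : List (List ℤ)}, Supp (x : Vec) → Supp (y : Vec) →
      A ∈ rotTab → B ∈ rotTab → A' ∈ rotTab → B' ∈ rotTab → A.getD 0 [] = octCoords (x : Vec) →
      B.getD 0 [] = octCoords (y : Vec) → A'.getD 0 [] = octCoords ((g • x : ↥leechLattice) : Vec) →
      B'.getD 0 [] = octCoords ((g • y : ↥leechLattice) : Vec) → crossDots A' B' = crossDots A B := by
    intro x y A B A' B' hx hy hA hB hA' hB' ex ey ex' ey'
    refine List.map_congr_left fun k hk => ?_
    have hk' := List.mem_range.1 hk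
    rw [ex, ex', ← (rot_row hy hB ey k hk').2, ← (rot_row (both_supp hg hy) hB' ey' k hk').2,
      ← dot_oct (both_supp hg hx), ← dot_oct hx, both_scal hg, dot_smul']
  obtain ⟨-, -, -, -, m0, m1, -, -⟩ := roots_check
  rw [imagePairs, imagePairsOn]
  refine List.mem_flatMap.2 ⟨R, List.mem_filter.2 ⟨hR, beq_iff_eq.2 (key s0 s0 m0 m0 hR hR e0 e0 eR eR)⟩, ?_⟩
  refine List.mem_map.2 ⟨S, List.mem_filter.2 ⟨hS, ?_⟩, by rw [eR, eS]⟩
  rw [Bool.and_eq_true, beq_iff_eq, beq_iff_eq]
  exact ⟨key s0 s1 m0 m1 hR hS e0 e1 eR eS, key s1 s1 m1 m1 hS hS e1 e1 eS eS⟩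

theorem eight_reading : ∀ n < 8,
    let q := pt (([0, 1, 2, 3, 5, 14, 17, 23] : List ℕ).getD n 0)
    eightVec q (pt 0) = (if n == 0 then 8 else 0) ∧ eightVec q (pt 1) = (if n == 1 then 8 else 0) ∧
    eightVec q (pt 2) = (if n == 2 then 8 else 0) ∧ eightVec q (pt 3) = (if n == 3 then 8 else 0) ∧
    eightVec q (pt 5) = (if n == 4 then 8 else 0) ∧ eightVec q (pt 14) = (if n == 5 then 8 else 0) ∧
    eightVec q (pt 17) = (if n == 6 then 8 else 0) ∧ eightVec q (pt 23) = (if n == 7 then 8 else 0) := by
  decide +kernel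

theorem fixes_eight {g : ↥Co0} (hg : g ∈ bothCent) (h0 : g • firstVec = firstVec) (h1 : g • secondVec = secondVec)
    (i : GolayPt) (hi : i ∈ setOfMask stdO) : g • eightElt i = eightElt i := by
  obtain ⟨s0, s1, e0, e1⟩ := root_facts
  obtain ⟨-, -, -, -, m0, m1, -, -⟩ := roots_check
  obtain ⟨n, hn, rfl⟩ : ∃ n < 8, i = pt (([0, 1, 2, 3, 5, 14, 17, 23] : List ℕ).getD n 0) := by
    rw [oct_points.1] at hi
    simp only [Finset.mem_insert, Finset.mem_singleton] at hi
    rcases hi with h | h | h | h | h | h | h | h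
    exacts [⟨0, by norm_num, h⟩, ⟨1, by norm_num, h⟩, ⟨2, by norm_num, h⟩, ⟨3, by norm_num, h⟩,
      ⟨4, by norm_num, h⟩, ⟨5, by norm_num, h⟩, ⟨6, by norm_num, h⟩, ⟨7, by norm_num, h⟩]
  let c := eightCoef.getD n []
  let z : ↥leechLattice := (c.getD 0 0) • firstVec + (c.getD 1 0) • (scalElt ^ 1 • firstVec) +
    (c.getD 2 0) • (scalElt ^ 2 • firstVec) + (c.getD 3 0) • (scalElt ^ 3 • firstVec) + (c.getD 4 0) • secondVec +
    (c.getD 5 0) • (scalElt ^ 1 • secondVec) + (c.getD 6 0) • (scalElt ^ 2 • secondVec) +
    (c.getD 7 0) • (scalElt ^ 3 • secondVec)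
  suffices hz : eightElt (pt (([0, 1, 2, 3, 5, 14, 17, 23] : List ℕ).getD n 0)) = z by
    rw [hz]
    show linOf g z = z
    simp only [z, map_add, map_zsmul, linOf, AddMonoidHom.mk'_apply, ← both_scal hg, h0, h1]
  have r0 := rot_row s0 m0 e0
  have r1 := rot_row s1 m1 e1
  refine Subtype.ext (eq_of_octCoords (fun j hj => ?_) (fun j hj => ?_) ?_)
  · have : pt (([0, 1, 2, 3, 5, 14, 17, 23] : List ℕ).getD n 0) ∈ setOfMask stdO := by
      interval_cases n <;> decide +kernel
    simp only [eightElt, eightVec]
    rw [if_neg]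
    rintro rfl
    exact hj this
  · simp only [z, AddSubgroup.coe_add, AddSubgroup.coe_zsmul, Pi.add_apply, Pi.smul_apply, smul_eq_mul,
      s0 j hj, s1 j hj, (r0 1 (by norm_num)).1 j hj, (r0 2 (by norm_num)).1 j hj, (r0 3 (by norm_num)).1 j hj,
      (r1 1 (by norm_num)).1 j hj, (r1 2 (by norm_num)).1 j hj, (r1 3 (by norm_num)).1 j hj, mul_zero, add_zero]
  · have hc := coef_check.1
    simp only [List.all_eq_true, List.mem_range, beq_iff_eq] at hc
    have hlen : c.length = 8 := by
      have h := coef_check.2.2.1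
      simp only [List.all_eq_true, beq_iff_eq] at h
      refine h c ?_
      simp only [c]
      rw [List.getD_eq_getElem _ _ (by rw [coef_check.2.2.2]; exact hn)]
      exact List.getElem_mem _
    match hcm : c, hlen with
    | [c0, c1, c2, c3, c4, c5, c6, c7], _ =>
      have q := hc n hn
      have t0 := q 0 (by norm_num); have t1 := q 1 (by norm_num); have t2 := q 2 (by norm_num)
      have t3 := q 3 (by norm_num); have t4 := q 4 (by norm_num); have t5 := q 5 (by norm_num)
      have t6 := q 6 (by norm_num); have t7 := q 7 (by norm_num)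
      simp only [c] at hcm
      rw [hcm, e0, e1, ← (r0 1 (by norm_num)).2, ← (r0 2 (by norm_num)).2, ← (r0 3 (by norm_num)).2,
        ← (r1 1 (by norm_num)).2, ← (r1 2 (by norm_num)).2, ← (r1 3 (by norm_num)).2] at t0 t1 t2 t3 t4 t5 t6 t7
      simp only [dl, octCoords, List.getD_cons_zero, List.getD_cons_succ] at t0 t1 t2 t3 t4 t5 t6 t7
      simp only [z, hcm, c, eightElt, octCoords, AddSubgroup.coe_add, AddSubgroup.coe_zsmul, Pi.add_apply,
        Pi.smul_apply, smul_eq_mul, List.getD_cons_zero, List.getD_cons_succ, List.cons.injEq, and_true]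
      obtain ⟨u0, u1, u2, u3, u4, u5, u6, u7⟩ := eight_reading n hn
      rw [u0, u1, u2, u3, u4, u5, u6, u7]
      simp only [beq_iff_eq]
      exact ⟨t0.symm, t1.symm, t2.symm, t3.symm, t4.symm, t5.symm, t6.symm, t7.symm⟩

/-- Monomial elements that can commute with the scalar. -/
noncomputable def kerList : List (ℕ × ℕ) :=
  octFixList.flatMap fun p => (offCode.filter fun c => forallLt 24 fun j => forallLt 24 fun i =>
    decide ((scalRows.getD (pget p j) []).getD (pget p i) 0 =
      cond (Nat.testBit c (pget p j)) (-1) 1 * cond (Nat.testBit c (pget p i)) (-1) 1 *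
        (scalRows.getD j []).getD i 0)).map fun c => (p, c)

theorem kerList_len : kerList.length ≤ 32 := by decide +kernel

theorem offCode_check : (forallLt 4096 fun k => ! Nat.beq (Nat.land (enc k) stdO) 0 || offCode.any (Nat.beq (enc k))) = true := by
  decide +kernel

theorem kernel_data {g : ↥Co0} (hg : g ∈ bothCent) (h0 : g • firstVec = firstVec)
    (h1 : g • secondVec = secondVec) : ∃ pc ∈ kerList, ∀ i : GolayPt,
      ((g • eightElt i : ↥leechLattice) : Vec) =
        if Nat.testBit pc.2 (pget pc.1 (ix i)) then -eightVec (pt (pget pc.1 (ix i))) else eightVec (pt (pget pc.1 (ix i))) := by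
  have hnone : (none : GolayPt) ∈ setOfMask stdO := by decide +kernel
  have hp : Preserves g := preserves_iff.2 (by
    rw [show (baseElt : ↥leechLattice) = eightElt none from rfl, fixes_eight hg h0 h1 none hnone]; rfl)
  obtain ⟨σ, hσ, c, hc, rfl⟩ := exists_mono hp
  have him : ∀ i, ((monoElt hσ hc • eightElt i : ↥leechLattice) : Vec) =
      if σ i ∈ c then -eightVec (σ i) else eightVec (σ i) := fun i => by
    rw [monoElt_apply]; exact signedPerm_eight σ c i
  have hfix : ∀ i ∈ setOfMask stdO, σ i = i ∧ i ∉ c := fun i hi => by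
    have h := him i
    rw [fixes_eight hg h0 h1 i hi] at h
    change eightVec i = _ at h
    split_ifs at h with hm
    · exact absurd h (eightVec_ne_neg _ _)
    · exact ⟨(eightVec_inj h).symm, eightVec_inj h ▸ hm⟩
  have hbit : (16777215 ^^^ stdO).testBit (ix (σ (pt 4))) = true := by
    have : σ (pt 4) ∉ setOfMask stdO := fun h => by
      have e := σ.injective (hfix _ h).1
      rw [e] at h
      exact absurd h (by decide +kernel)
    rw [mem_setOfMask] at this
    rw [Nat.testBit_xor, Bool.eq_false_iff.2 this]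
    have hlt := ix_lt (σ (pt 4))
    interval_cases ix (σ (pt 4)) <;> decide
  have hlist := octFixList_ok.2
  change bitmap id (octFixList.map fun p => pget p 4) = 16777215 ^^^ stdO at hlist
  rw [← hlist, testBit_bitmap] at hbit
  obtain ⟨v, hv, e⟩ := hbit
  obtain ⟨p, hp', rfl⟩ := List.mem_map.1 hv
  obtain ⟨τ, hτ, hr, -, hτfix⟩ := octFixList_spec hp'
  have hστ : σ = τ := octFix_ext hσ hτ (fun x hx => (hfix x hx).1) hτfix (ix_injective (by
    rw [← hr (pt 4)]; exact e.symm))
  have hpt : ∀ i, pt (pget p (ix i)) = σ i := fun i => by rw [hr i, pt_ix, hστ]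
  have hm : maskOf c ∈ offCode := by
    obtain ⟨k, hk, hke⟩ := inCode_iff.1 (mem_supports_iff.1 hc)
    have h := forallLt_elim offCode_check hk
    simp only [Bool.or_eq_true, Bool.not_eq_true', List.any_eq_true, Nat.beq_eq] at h
    rcases h with h | ⟨m, hm, em⟩
    · exfalso
      have hz : Nat.land (enc k) stdO = 0 := by
        refine Nat.eq_of_testBit_eq fun n => ?_
        rw [show Nat.land (enc k) stdO = enc k &&& stdO from rfl, Nat.testBit_and, Nat.zero_testBit, hke]
        by_cases hb : stdO.testBit n = true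
        · have hn : n < 24 := by
            by_contra hn
            rw [Nat.testBit_lt_two_pow (lt_of_lt_of_le (show stdO < 2 ^ 24 by decide +kernel)
              (Nat.pow_le_pow_right two_pos (by omega)))] at hb
            simp at hb
          have hix : ix (pt n) = n := by interval_cases n <;> rfl
          have := (hfix (pt n) (mem_setOfMask.2 (by rw [hix]; exact hb))).2
          rw [← hix, testBit_maskOf]
          simp [this]
        · simp [Bool.eq_false_iff.2 hb]
      rw [hz] at h
      simp at h
    · rw [← hke, em]; exact hm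
  refine ⟨(p, maskOf c), List.mem_flatMap.2 ⟨p, hp', List.mem_map.2 ⟨_, List.mem_filter.2 ⟨hm, ?_⟩, rfl⟩⟩,
    fun i => ?_⟩
  · simp only [forallLt_iff, decide_eq_true_eq]
    intro j' hj' i' hi'
    obtain ⟨j, rfl⟩ : ∃ j, ix j = j' := ⟨pt j', by interval_cases j' <;> rfl⟩
    obtain ⟨i, rfl⟩ : ∃ i, ix i = i' := ⟨pt i', by interval_cases i' <;> rfl⟩
    rw [hr, hr, testBit_maskOf, testBit_maskOf, ← hστ]
    show scalEnt (σ j) (σ i) = cond (decide (σ j ∈ c)) (-1) 1 * cond (decide (σ i ∈ c)) (-1) 1 * scalEnt j i
    have hcomm := congrArg (fun z : ↥leechLattice => (z : Vec) (σ i)) (both_scal hg 1 (eightElt j))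
    simp only [pow_one] at hcomm
    rw [monoElt_apply, scal_eight] at hcomm
    have hgj : monoElt hσ hc • eightElt j = (if σ j ∈ c then -eightElt (σ j) else eightElt (σ j)) := by
      refine Subtype.ext ?_
      rw [him]
      split_ifs <;> rfl
    rw [hgj] at hcomm
    simp only [signedPerm, Equiv.symm_apply_apply] at hcomm
    by_cases h1' : σ j ∈ c <;> by_cases h2' : σ i ∈ c <;>
      simp [h1', h2', smul_neg', scal_eight] at hcomm ⊢ <;> linarith
  · rw [him, hpt]
    simp only [hr i, testBit_maskOf, decide_eq_true_eq, ← hστ]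

theorem card_bothCent : Nat.card ↥bothCent ≤ 19200 := by
  classical
  let key : ↥bothCent → List ℤ × List ℤ := fun g =>
    (octCoords (((g : ↥Co0) • firstVec : ↥leechLattice) : Vec), octCoords (((g : ↥Co0) • secondVec : ↥leechLattice) : Vec))
  let rep : List ℤ × List ℤ → ↥bothCent := Function.invFun key
  have hrel : ∀ g : ↥bothCent, (((rep (key g))⁻¹ * g : ↥bothCent) : ↥Co0) • firstVec = firstVec ∧
      (((rep (key g))⁻¹ * g : ↥bothCent) : ↥Co0) • secondVec = secondVec := fun g => by
    have e : key (rep (key g)) = key g := Function.invFun_eq ⟨g, rfl⟩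
    set h := rep (key g)
    obtain ⟨s0, s1, -, -⟩ := root_facts
    constructor
    all_goals
      rw [Subgroup.coe_mul, Subgroup.coe_inv, mul_smul, inv_smul_eq_iff]
      refine (Subtype.ext (eq_of_octCoords (both_supp h.2 ?_) (both_supp g.2 ?_) ?_)).symm
    exacts [s0, s0, congrArg Prod.fst e, s1, s1, congrArg Prod.snd e]
  choose pc hpc himg using fun g : ↥bothCent =>
    kernel_data ((rep (key g))⁻¹ * g).2 (hrel g).1 (hrel g).2
  let code : ↥bothCent → {x // x ∈ imagePairs.toFinset} × {x // x ∈ kerList.toFinset} := fun g =>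
    (⟨key g, List.mem_toFinset.2 (image_pair g.2)⟩, ⟨pc g, List.mem_toFinset.2 (hpc g)⟩)
  have hinj : Function.Injective code := fun g g' h => by
    have hk : key g = key g' := congrArg (fun x => x.1.1) h
    have hp : pc g = pc g' := congrArg (fun x => x.2.1) h
    have he : (((rep (key g))⁻¹ * g : ↥bothCent) : ↥Co0) = (((rep (key g'))⁻¹ * g' : ↥bothCent) : ↥Co0) := by
      refine Subtype.ext (Equiv.ext fun y => ?_)
      show (((rep (key g))⁻¹ * g : ↥bothCent) : ↥Co0) • y = (((rep (key g'))⁻¹ * g' : ↥bothCent) : ↥Co0) • y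
      refine Subtype.ext (funext fun i => ?_)
      have e1 := eight_linear (((rep (key g))⁻¹ * g : ↥bothCent) : ↥Co0) y i
      have e2 := eight_linear (((rep (key g'))⁻¹ * g' : ↥bothCent) : ↥Co0) y i
      simp only [himg, hp] at e1 e2
      omega
    rw [hk] at he
    exact mul_left_cancel (Subtype.ext he)
  have h := Nat.card_le_card_of_injective code hinj
  rw [Nat.card_prod, Nat.card_eq_finsetCard, Nat.card_eq_finsetCard] at h
  calc Nat.card ↥bothCent ≤ _ := h
    _ ≤ 600 * 32 := Nat.mul_le_mul ((List.toFinset_card_le _).trans imagePairs_len)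
        ((List.toFinset_card_le _).trans kerList_len)
    _ = 19200 := by norm_num

end CfsgLib.Sporadic.ConwayIco
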