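import Cfsg.Agent.Lib.Sporadic.ConwayIcoBound
import Cfsg.Agent.Lib.Recog.JankoTwo.Centralizer
import Cfsg.Agent.Lib.Recog.JankoTwoType.Adapter
import Cfsg.Agent.Lib.Components.FStar
import Cfsg.Agent.S1721

/-!
# The Hall–Janko group as a section of the automorphism group of the lattice of rank 24

The centraliser of the scalar of order five, modulo that scalar and the sign, has an involution centraliser
of Hall–Janko type; hence it has order `604800` and is the Hall–Janko group.
-/

set_option autoImplicit false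
set_option maxRecDepth 100000

namespace CfsgLib.Sporadic.ConwayIco

open Cfsg CfsgLib.Sporadic.Conway CfsgLib.ThreeTrans.Leech
open CfsgLib.Recog.Icosian Cfsg.Spor
open CfsgLib.Recog

attribute [local irreducible] JankoTwo.pget JankoTwo.t0 JankoTwo.t1 JankoTwo.t2 JankoTwo.t3 JankoTwo.stAt
  JankoTwo.allPts

/-- The involution of the Hall–Janko group coming from the first reflection. -/
noncomputable def hjInv : J2 := QuotientGroup.mk (genElt 0)

theorem equivP_mk (g : twoJ2) : ((JankoTwo.equivP (QuotientGroup.mk g) : JankoTwo.P) : JankoTwo.S315) = lineHom g :=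
  rfl

theorem equivP_hjInv : ((JankoTwo.equivP hjInv : JankoTwo.P) : JankoTwo.S315) = JankoTwo.gen 0 := by
  rw [hjInv, equivP_mk, JankoTwo.gen_eq]

/-- Its centraliser is the stabiliser of the first line. -/
noncomputable def centEquiv : ↥(Subgroup.centralizer ({hjInv} : Set J2)) ≃* ↥JankoTwo.stab where
  toFun x := ⟨(JankoTwo.equivP x.1 : JankoTwo.S315), (JankoTwo.equivP x.1).2,
    JankoTwo.zero_of_commute (JankoTwo.equivP x.1).2 (by
      have h : JankoTwo.equivP x.1 * JankoTwo.equivP hjInv = JankoTwo.equivP hjInv * JankoTwo.equivP x.1 := by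
        rw [← map_mul, ← map_mul, Subgroup.mem_centralizer_singleton_iff.mp x.2]
      show (JankoTwo.equivP x.1 : JankoTwo.S315) * JankoTwo.gen 0 = JankoTwo.gen 0 * JankoTwo.equivP x.1
      rw [← equivP_hjInv]; exact congrArg Subtype.val h)⟩
  invFun y := ⟨JankoTwo.equivP.symm ⟨y.1, y.2.1⟩, Subgroup.mem_centralizer_singleton_iff.mpr
    (JankoTwo.equivP.injective (by
      rw [map_mul, map_mul, MulEquiv.apply_symm_apply]
      refine Subtype.ext ?_
      show (y : JankoTwo.S315) * (JankoTwo.equivP hjInv : JankoTwo.S315) = (JankoTwo.equivP hjInv : JankoTwo.S315) * y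
      rw [equivP_hjInv]; exact (JankoTwo.stab_commute y.2).eq))⟩
  left_inv x := Subtype.ext (JankoTwo.equivP.symm_apply_apply x.1)
  right_inv y := Subtype.ext (congrArg (Subtype.val : JankoTwo.P → JankoTwo.S315)
    (JankoTwo.equivP.apply_symm_apply ⟨y.1, y.2.1⟩))
  map_mul' a b := Subtype.ext (congrArg (Subtype.val : JankoTwo.P → JankoTwo.S315) (map_mul JankoTwo.equivP a.1 b.1))

theorem word_points : ((List.range 315).all fun x =>
    let p := fun k y => (JankoTwo.icoPerm k).getD y 0
    JankoTwo.stAt (13, 0, 0) x == p 2 (p 0 (p 1 (p 0 (p 1 (p 0 (p 2 x))))))) = true ∧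
    ((List.range 315).any fun x => !(JankoTwo.stAt (13, 0, 0) x == JankoTwo.stAt JankoTwo.zTriple x)) = true ∧
    JankoTwo.kerTab.contains (13, 0, 0) = true ∧ JankoTwo.kerTab.contains (1, 4, 7) = true ∧
    (JankoTwo.kerTab.all fun k => (List.range 315).any fun x =>
      !(JankoTwo.stAt k (JankoTwo.stAt (0, 0, 1) (JankoTwo.stAt (1, 4, 7) x)) ==
        JankoTwo.stAt (1, 4, 7) (JankoTwo.stAt k (JankoTwo.stAt (0, 0, 1) x)))) = true := by
  unfold JankoTwo.stAt JankoTwo.t1 JankoTwo.t2 JankoTwo.t3 JankoTwo.pget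
  decide +kernel

/-- The centraliser has the shape required of groups of Hall–Janko type. -/
theorem hj_centralizer : Nat.card ↥(Subgroup.centralizer ({hjInv} : Set J2)) = 1920 ∧
    ∃ (Q : Subgroup ↥(Subgroup.centralizer ({hjInv} : Set J2))) (_ : Q.Normal),
      Cfsg.generalizedFittingSubgroup ↥(Subgroup.centralizer ({hjInv} : Set J2)) = Q ∧
      Cfsg.IsExtraspecial 2 Q ∧ Nat.card Q = 32 ∧
      Nonempty (↥(Subgroup.centralizer ({hjInv} : Set J2)) ⧸ Q ≃* ↥(alternatingGroup (Fin 5))) ∧
      ∃ g : J2, (∃ hq : g * hjInv * g⁻¹ ∈ Subgroup.centralizer ({hjInv} : Set J2),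
        (⟨g * hjInv * g⁻¹, hq⟩ : ↥(Subgroup.centralizer ({hjInv} : Set J2))) ∈ Q) ∧ g * hjInv * g⁻¹ ≠ hjInv := by
  classical
  set C := Subgroup.centralizer ({hjInv} : Set J2) with hC
  have hcard : Nat.card ↥C = 1920 := by rw [Nat.card_congr centEquiv.toEquiv, JankoTwo.card_stab]
  refine ⟨hcard, ?_⟩
  have : Finite ↥C := Nat.finite_of_card_ne_zero (by rw [hcard]; norm_num)
  let ψ : ↥C →* ↥(alternatingGroup (Fin 5)) :=
    (JankoTwo.pairHom.comp (centEquiv : ↥C →* ↥JankoTwo.stab)).codRestrict (alternatingGroup (Fin 5)) fun x => by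
      rw [← JankoTwo.range_pairHom]; exact ⟨centEquiv x, rfl⟩
  have hsurj : Function.Surjective ψ := fun σ => by
    obtain ⟨y, hy⟩ : (σ : Equiv.Perm (Fin 5)) ∈ JankoTwo.pairHom.range := by rw [JankoTwo.range_pairHom]; exact σ.2
    exact ⟨centEquiv.symm y, Subtype.ext (by
      show JankoTwo.pairHom (centEquiv (centEquiv.symm y)) = _
      rw [MulEquiv.apply_symm_apply, hy])⟩
  have hker : ∀ x : ↥C, x ∈ ψ.ker ↔ centEquiv x ∈ JankoTwo.pairHom.ker := fun x => by
    rw [MonoidHom.mem_ker, MonoidHom.mem_ker]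
    exact ⟨fun h => congrArg Subtype.val h, fun h => Subtype.ext h⟩
  have h60 : Nat.card ↥(alternatingGroup (Fin 5)) = 60 := by
    have h := JankoTwo.range_pairHom
    rw [← Nat.card_congr (QuotientGroup.quotientKerEquivOfSurjective ψ hsurj).toEquiv]
    have h1 := Subgroup.card_eq_card_quotient_mul_card_subgroup ψ.ker
    have h2 : Nat.card ↥ψ.ker = 32 := by
      rw [← JankoTwo.card_ker]
      exact Nat.card_congr (centEquiv.toEquiv.subtypeEquiv fun x => hker x)
    rw [hcard, h2] at h1
    omega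
  have hQ32 : Nat.card ↥ψ.ker = 32 := by
    rw [← JankoTwo.card_ker]
    exact Nat.card_congr (centEquiv.toEquiv.subtypeEquiv fun x => hker x)
  have hsimple : IsSimpleGroup ↥(alternatingGroup (Fin 5)) := alternatingGroup.isSimpleGroup_five
  have himg : ∀ M : Subgroup ↥C, M.Normal → M.map ψ = ⊥ ∨ M.map ψ = ⊤ := fun M hM =>
    IsSimpleGroup.eq_bot_or_eq_top_of_normal _ (hM.map ψ hsurj)
  obtain ⟨Q₀, hQn, hQc, hQe, ⟨e⟩⟩ := JankoTwo.exists_Q centEquiv
  have hQeq : Q₀ = ψ.ker := by
    refine Subgroup.eq_of_le_of_card_ge ?_ (by rw [hQc, hQ32])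
    rcases himg Q₀ hQn with h | h
    · exact (Subgroup.map_eq_bot_iff Q₀).1 h
    · exfalso
      have h1 : Nat.card ↥(Q₀.map ψ) ≤ Nat.card ↥Q₀ :=
        Nat.card_le_card_of_surjective (ψ.subgroupMap Q₀) (MonoidHom.subgroupMap_surjective ψ Q₀)
      rw [h, Subgroup.card_top, h60, hQc] at h1
      omega
  subst hQeq
  have hmemQ : ∀ e ∈ JankoTwo.kerTab, ∃ x : ↥C, x ∈ ψ.ker ∧
      ∀ p : Fin 315, JankoTwo.stAt e p.1 = ((centEquiv x : JankoTwo.S315) p).1 := fun e he => by
    obtain ⟨g, hg⟩ := JankoTwo.stab_elem (JankoTwo.kerTab_range he)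
    refine ⟨centEquiv.symm g, (hker _).2 ?_, by simpa using hg⟩
    rw [MulEquiv.apply_symm_apply]
    exact JankoTwo.mem_ker_of_mem hg he
  obtain ⟨hw, hne, h13, h147, hy⟩ := word_points
  simp only [List.all_eq_true, List.any_eq_true, List.mem_range, Bool.not_eq_true', beq_eq_false_iff_ne,
    beq_iff_eq] at hw hne hy
  -- nothing outside centralises it
  have hCQ : Subgroup.centralizer (ψ.ker : Set ↥C) ≤ ψ.ker := by
    have hn : (Subgroup.centralizer (ψ.ker : Set ↥C)).Normal := inferInstance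
    rcases himg _ hn with h | h
    · exact (Subgroup.map_eq_bot_iff _).1 h
    exfalso
    obtain ⟨y, hyp⟩ := JankoTwo.stab_elem (e := (0, 0, 1)) (by norm_num)
    obtain ⟨q, hqQ, hqp⟩ := hmemQ (1, 4, 7) (List.contains_iff_mem.1 h147)
    obtain ⟨c, hc, hcy⟩ : ψ (centEquiv.symm y) ∈ (Subgroup.centralizer (ψ.ker : Set ↥C)).map ψ := h ▸ Subgroup.mem_top _
    set k := c * (centEquiv.symm y)⁻¹ with hk
    have hkQ : k ∈ ψ.ker := by rw [MonoidHom.mem_ker, hk, map_mul, map_inv, hcy, mul_inv_cancel]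
    obtain ⟨e', he', hiff⟩ := JankoTwo.pairHom_spec (centEquiv k)
    obtain ⟨x, hx, hne'⟩ := hy e' (hiff.1 ((hker k).1 hkQ))
    refine hne' ?_
    have hcomm : centEquiv k * y * centEquiv q = centEquiv q * (centEquiv k * y) := by
      have e1 : centEquiv k * y = centEquiv c := by
        rw [hk, map_mul, map_inv, MulEquiv.apply_symm_apply, inv_mul_cancel_right]
      rw [e1, ← map_mul, ← map_mul, (Subgroup.mem_centralizer_iff.1 hc q hqQ).symm]
    have e2 := congrArg (fun u : ↥JankoTwo.stab => ((u : JankoTwo.S315) ⟨x, hx⟩).1) hcomm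
    simp only [Subgroup.coe_mul, Equiv.Perm.mul_apply] at e2
    have a1 := hqp ⟨x, hx⟩
    have a2 := hyp ⟨x, hx⟩
    simp only at a1 a2
    rw [a1, hyp, he', a2, he', hqp]
    exact e2
  have hQp : IsPGroup 2 ↥ψ.ker := IsPGroup.of_card (n := 5) (by rw [hQ32]; norm_num)
  have : Fact (Nat.Prime 2) := ⟨Nat.prime_two⟩
  have hQF : ψ.ker ≤ Cfsg.fittingSubgroup ↥C :=
    CfsgLib.Components.le_fitting inferInstance hQp.isNilpotent
  have hfit : Cfsg.fittingSubgroup ↥C ≤ ψ.ker := by
    rcases himg _ CfsgLib.Components.fitting_normal with h | h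
    · exact (Subgroup.map_eq_bot_iff _).1 h
    · exfalso
      haveI := CfsgLib.Components.fitting_isNilpotent (G := ↥C)
      have hnil : Group.IsNilpotent ↥((Cfsg.fittingSubgroup ↥C).map ψ) :=
        Group.nilpotent_of_surjective (ψ.subgroupMap _) (MonoidHom.subgroupMap_surjective ψ _)
      rw [h] at hnil
      have : Group.IsNilpotent ↥(alternatingGroup (Fin 5)) := (Group.isNilpotent_congr Subgroup.topEquiv).1 hnil
      have hs : Group.IsSolvable ↥(alternatingGroup (Fin 5)) := inferInstance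
      have hcm := IsSimpleGroup.comm_iff_isSolvable.2 hs
      haveI : IsSimpleGroup ↥(alternatingGroup (Fin 5)) := hsimple
      letI : CommGroup ↥(alternatingGroup (Fin 5)) :=
        { (inferInstance : Group ↥(alternatingGroup (Fin 5))) with mul_comm := hcm }
      have hp := IsSimpleGroup.prime_card (α := ↥(alternatingGroup (Fin 5)))
      rw [h60] at hp
      norm_num at hp
  refine ⟨ψ.ker, inferInstance, le_antisymm (sup_le ?_ hfit) (hQF.trans CfsgLib.Components.fitting_le_gFitting),
    hQe, hQc, ⟨e⟩, ?_⟩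
  · refine le_trans ?_ hCQ
    refine le_trans ?_ (Subgroup.centralizer_le hQF)
    rw [← Subgroup.commutator_eq_bot_iff_le_centralizer]
    exact CfsgLib.Components.layer_commutes_fitting
  · obtain ⟨x, hxQ, hxp⟩ := hmemQ (13, 0, 0) (List.contains_iff_mem.1 h13)
    let w : twoJ2 := genElt 2 * genElt 0 * genElt 1
    have hconj : ∀ p : Fin 315, (((JankoTwo.equivP (QuotientGroup.mk w * hjInv * (QuotientGroup.mk w)⁻¹) :
        JankoTwo.P) : JankoTwo.S315) p).1 = JankoTwo.stAt (13, 0, 0) p.1 := fun p => by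
      rw [map_mul, map_mul, map_inv, Subgroup.coe_mul, Subgroup.coe_mul, Subgroup.coe_inv, equivP_hjInv, equivP_mk]
      simp only [w, map_mul, mul_inv_rev, JankoTwo.gen_eq]
      have hinv : ∀ k : Fin 4, (JankoTwo.gen k)⁻¹ = JankoTwo.gen k := fun k => by
        rw [← JankoTwo.gen_eq, ← map_inv, inv_eq_of_mul_eq_one_right (genElt_sq k)]
      simp only [hinv, Equiv.Perm.mul_apply]
      rw [hw p.1 p.2]
      simp only [JankoTwo.gen_apply]
      norm_num
    have hx : (x : J2) = QuotientGroup.mk w * hjInv * (QuotientGroup.mk w)⁻¹ := by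
      refine JankoTwo.equivP.injective (Subtype.ext (Equiv.ext fun p => Fin.ext ?_))
      rw [hconj p, hxp p]
      rfl
    refine ⟨QuotientGroup.mk w, ⟨hx ▸ x.2, ?_⟩, fun h => ?_⟩
    · rwa [show (⟨_, hx ▸ x.2⟩ : ↥C) = x from Subtype.ext hx.symm]
    · obtain ⟨p, hp, hp'⟩ := hne
      refine hp' ?_
      rw [← hconj ⟨p, hp⟩, h, equivP_hjInv]
      have hz := JankoTwo.ker_check.2.2.2.2.2
      rw [JankoTwo.allPts_iff] at hz
      have := hz ⟨p, hp⟩
      simp only [beq_iff_eq] at this
      rw [this, ← JankoTwo.rep_gen_zero ⟨p, hp⟩]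

/-- A word in the generating reflections. -/
noncomputable def wordElt (l : List (Fin 4)) : twoJ2 := (l.map genElt).prod

/-- A generating reflection on coordinates. -/
def genV (k : Fin 4) (v : CfsgLib.Recog.Icosian.V) : CfsgLib.Recog.Icosian.V := reflV (lineOf (rootOf k.1)) v

/-- Whether a word can be applied on coordinates, and the result. -/
def runWord : List (Fin 4) → CfsgLib.Recog.Icosian.V → Option CfsgLib.Recog.Icosian.V
  | [], v => some v
  | k :: l, v => (runWord l v).bind fun w =>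
      if inLam w && evenIp w (lineOf (rootOf k.1)) && inLam (genV k w) then some (genV k w) else none

theorem genRoot_inLam (k : Fin 4) : inLam (lineOf (rootOf k.1)) = true := by
  rw [← genIdx_eq]; exact (root_spec _).1

theorem runWord_spec : ∀ (l : List (Fin 4)) (v u : CfsgLib.Recog.Icosian.V), runWord l v = some u →
    ∀ x : icoLeech, (x : IV) = vev v → (((wordElt l : twoJ2) : Equiv.Perm icoLeech) x : IV) = vev u := by
  intro l
  induction l with
  | nil =>
    intro v u h x hx
    simp only [runWord, Option.some.injEq] at h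
    subst h
    simpa [wordElt] using hx
  | cons k l ih =>
    intro v u h x hx
    simp only [runWord, Option.bind_eq_some_iff] at h
    obtain ⟨w, hw, hu⟩ := h
    split_ifs at hu with hok
    simp only [Option.some.injEq] at hu
    simp only [Bool.and_eq_true] at hok
    have hmul : wordElt (k :: l) = genElt k * wordElt l := by simp [wordElt]
    rw [hmul, Subgroup.coe_mul, Equiv.Perm.mul_apply]
    show qrefl (vev (root (genIdx k))) (((wordElt l : twoJ2) : Equiv.Perm icoLeech) x : IV) = _
    rw [ih v w hw x hx, genIdx_eq, reflV_eq hok.1.1 (genRoot_inLam k) hok.1.2, ← hu]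
    rfl

theorem sign_run0 : ∀ q : Fin 8,
    ((runWord (signWord ++ signWord) (latBasis (0, q))).any fun u => veq u (-latBasis (0, q))) = true := by
  decide +kernel

theorem sign_run1 : ∀ q : Fin 8,
    ((runWord (signWord ++ signWord) (latBasis (1, q))).any fun u => veq u (-latBasis (1, q))) = true := by
  decide +kernel

theorem sign_run2 : ∀ q : Fin 8,
    ((runWord (signWord ++ signWord) (latBasis (2, q))).any fun u => veq u (-latBasis (2, q))) = true := by
  decide +kernel

theorem sign_run (p : Fin 3 × Fin 8) :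
    ((runWord (signWord ++ signWord) (latBasis p)).any fun u => veq u (-latBasis p)) = true := by
  obtain ⟨t, q⟩ := p
  fin_cases t
  exacts [sign_run0 q, sign_run1 q, sign_run2 q]

theorem sign_check (p : Fin 3 × Fin 8) : ∃ u, runWord (signWord ++ signWord) (latBasis p) = some u ∧
    u = -latBasis p := by
  have h := sign_run p
  cases hr : runWord (signWord ++ signWord) (latBasis p) with
  | none => rw [hr] at h; simp at h
  | some u => exact ⟨u, rfl, veq_iff.1 (by rw [hr] at h; simpa using h)⟩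

theorem sign_word : coverHom (wordElt signWord) * coverHom (wordElt signWord) = negElt := by
  rw [← map_mul, show wordElt signWord * wordElt signWord = wordElt (signWord ++ signWord) by simp [wordElt]]
  refine ext_on_basis fun p => ?_
  obtain ⟨u, hu, rfl⟩ := sign_check p
  rw [negElt_smul, basisElt, coverHom_apply]
  have h := runWord_spec _ _ _ hu (icoElt (latBasis p) (basis_check p).2.1) rfl
  refine Subtype.ext (four_injective ?_)
  rw [← iso_eq (v := -latBasis p) h.symm, AddSubgroup.coe_neg, map_neg, map_neg,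
    ← iso_eq (v := latBasis p) (x := icoElt (latBasis p) (basis_check p).2.1) rfl]

theorem neg_central (g : ↥Co0) : g * negElt = negElt * g :=
  Subgroup.mem_center_iff.1 (by rw [← SetLike.mem_coe, center_eq]; exact Or.inr rfl) g

theorem neg_mem_center : negElt ∈ Subgroup.center ↥Co0 :=
  Subgroup.mem_center_iff.2 neg_central

theorem center_cases {w : ↥Co0} (h : w ∈ Subgroup.center ↥Co0) : w = 1 ∨ w = negElt := by
  rwa [← SetLike.mem_coe, center_eq] at h

theorem neg_sq : negElt * negElt = (1 : ↥Co0) :=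
  Subtype.ext (Equiv.ext fun v => by show negElt • negElt • v = v; rw [negElt_smul, negElt_smul, neg_neg])

/-- No element carries sixteen orthogonal vectors onto the octad. -/
theorem no_sign_swap (c : ↥Co0) : ¬ c * reflElt * c⁻¹ = negElt * reflElt := by
  intro h
  let I := {i : GolayPt // i ∉ setOfMask stdO}
  have hsupp : ∀ i : I, Supp ((c • eightElt i.1 : ↥leechLattice) : Vec) := fun i => by
    rw [supp_iff]
    have hfix : reflElt • eightElt i.1 = eightElt i.1 := Subtype.ext (funext fun k => by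
      rw [reflElt_eq, flipElt_apply]
      simp only [flipVec, eightElt, eightVec]
      split_ifs with h1 h2
      · exact absurd (h2 ▸ h1) i.2
      all_goals simp)
    have e : c * reflElt = negElt * reflElt * c := by rw [← h, inv_mul_cancel_right]
    have e' := congrArg (fun g : ↥Co0 => g • eightElt i.1) e
    simp only [mul_smul, hfix, negElt_smul] at e'
    rw [eq_neg_iff_add_eq_zero, add_comm, ← eq_neg_iff_add_eq_zero]
    exact e'
  let v : I → (Fin 8 → ℤ) := fun i k => ((c • eightElt i.1 : ↥leechLattice) : Vec)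
    (pt (([0, 1, 2, 3, 5, 14, 17, 23] : List ℕ).getD k.1 0))
  have hli : LinearIndependent ℤ v := by
    rw [Fintype.linearIndependent_iff]
    intro a ha j
    have h0 : ∑ k, (∑ i, a i • v i) k * v j k = 0 := by rw [ha]; simp
    simp only [Finset.sum_apply, Pi.smul_apply, smul_eq_mul, Finset.sum_mul] at h0
    rw [Finset.sum_comm] at h0
    have hdot : ∀ i, ∑ k, a i * v i k * v j k = a i * (if i = j then 64 else 0) := fun i => by
      simp only [mul_assoc, ← Finset.mul_sum]
      congr 1
      have e1 : dotInt ((c • eightElt i.1 : ↥leechLattice) : Vec) ((c • eightElt j.1 : ↥leechLattice) : Vec) =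
          ∑ k, v i k * v j k := by
        rw [dot_oct (hsupp i)]
        simp only [Fin.sum_univ_eight, v, dl, octCoords]
        rfl
      rw [← e1, dot_smul']
      simp only [dotInt, eightElt, eightVec, ite_mul, zero_mul, mul_ite, mul_zero, Finset.sum_ite_eq',
        Finset.mem_univ, if_true]
      by_cases hij : i = j
      · subst hij; simp
      · rw [if_neg hij, if_neg (fun e => hij (Subtype.ext e.symm))]
    rw [Finset.sum_congr rfl fun i _ => hdot i] at h0
    simp only [mul_ite, mul_zero, Finset.sum_ite_eq', Finset.mem_univ, if_true] at h0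
    omega
  have hcard := hli.fintype_card_le_finrank
  have h16 : Fintype.card I = 16 := by decide +kernel
  rw [h16, Module.finrank_fintype_fun_eq_card, Fintype.card_fin] at hcard
  omega

theorem eq_one_of_comm_sq {G : Type*} [Group G] {r e : G} (hr : r * r = 1) (hc : r * e = e * r)
    (h : e * r * (e * r) = 1) : e * e = 1 := by
  rw [mul_assoc, ← mul_assoc r e, hc, mul_assoc e r r, hr, mul_one] at h
  exact h

/-- The group generated by the scalar. -/
noncomputable def scalSub : Subgroup ↥Co0 := Subgroup.zpowers scalElt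

theorem card_scalSub : Nat.card ↥scalSub = 5 := by rw [scalSub, Nat.card_zpowers, scalElt_order]

theorem mem_cent {g : ↥Co0} :
    g ∈ Subgroup.centralizer (scalSub : Set ↥Co0) ↔ g ∈ Subgroup.centralizer ({scalElt} : Set ↥Co0) := by
  rw [scalSub, Subgroup.zpowers_eq_closure, Subgroup.centralizer_closure]

/-- The double cover, inside the centraliser. -/
noncomputable def coverCent : twoJ2 →* ↥(Subgroup.centralizer (scalSub : Set ↥Co0)) :=
  coverHom.codRestrict _ fun f => mem_cent.2 (Subgroup.mem_centralizer_singleton_iff.2 (scal_commute f).symm)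

theorem coe_coverCent (f : twoJ2) : (coverCent f : ↥Co0) = coverHom f := rfl

theorem sup_cases {x : ↥Co0} (hx : x ∈ scalSub ⊔ Subgroup.center ↥Co0) :
    ∃ k : ℤ, x = scalElt ^ k ∨ x = scalElt ^ k * negElt := by
  rw [Subgroup.mem_sup_of_normal_right] at hx
  obtain ⟨a, ⟨k, rfl⟩, w, hw, rfl⟩ := hx
  rcases center_cases hw with rfl | rfl
  · exact ⟨k, Or.inl (mul_one _)⟩
  · exact ⟨k, Or.inr rfl⟩

theorem neg_not_scal (k : ℤ) : scalElt ^ k ≠ negElt := fun h => by
  have h2 : orderOf negElt = 2 := orderOf_eq_prime (by rw [sq, neg_sq]) negElt_ne_one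
  have hd : orderOf negElt ∣ 5 := h ▸ scalElt_order ▸ orderOf_dvd_of_mem_zpowers ⟨k, rfl⟩
  rw [h2] at hd
  norm_num at hd

/-- A square in the product of the scalar and the centre: the root is central, and not minus one. -/
theorem sup_square {e : ↥Co0} (he : e ∈ scalSub ⊔ Subgroup.center ↥Co0) :
    (e * e = 1 → e = 1 ∨ e = negElt) ∧ e * e ≠ negElt := by
  obtain ⟨k, hk⟩ := sup_cases he
  have hee : e * e = scalElt ^ (2 * k) := by
    rw [two_mul, zpow_add]
    rcases hk with rfl | rfl
    · rfl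
    · rw [mul_assoc, ← mul_assoc negElt, ← neg_central, mul_assoc, neg_sq, mul_one]
  refine ⟨fun h => ?_, fun h => neg_not_scal (2 * k) (hee.symm.trans h)⟩
  rw [hee, ← orderOf_dvd_iff_zpow_eq_one, scalElt_order] at h
  have hk5 : scalElt ^ k = 1 := by
    rw [← orderOf_dvd_iff_zpow_eq_one, scalElt_order]
    push_cast at h ⊢
    omega
  rcases hk with rfl | rfl
  · exact Or.inl hk5
  · exact Or.inr (by rw [hk5, one_mul])

/-- The section is of Hall–Janko type, and is the Hall–Janko group. -/
theorem hj_section : ∃ A : Subgroup ↥Co0, Nat.card A = 5 ∧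
    ∃ (hn : ((A ⊔ Subgroup.center ↥Co0).subgroupOf (Subgroup.centralizer (A : Set ↥Co0))).Normal),
    ∃ (S : Type) (_ : Group S) (_ : Finite S),
      Nonempty (S ≃* ↥(Subgroup.centralizer (A : Set ↥Co0)) ⧸
        (A ⊔ Subgroup.center ↥Co0).subgroupOf (Subgroup.centralizer (A : Set ↥Co0))) ∧
      IsSimpleGroup S ∧ ¬ IsMulCommutative S ∧ ∃ z : S, orderOf z = 2 ∧
      ∃ (Q : Subgroup (Subgroup.centralizer ({z} : Set S))) (_ : Q.Normal),
        Cfsg.generalizedFittingSubgroup (Subgroup.centralizer ({z} : Set S)) = Q ∧ Cfsg.IsExtraspecial 2 Q ∧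
        Nat.card Q = 2 ^ 5 ∧
        Nonempty ((Subgroup.centralizer ({z} : Set S)) ⧸ Q ≃* Cfsg.Omega (ZMod 2) (Cfsg.quadFormMinus 1 (ZMod 2) 1 1)) ∧
        ∃ g : S, (∃ hq : g * z * g⁻¹ ∈ Subgroup.centralizer ({z} : Set S),
          (⟨g * z * g⁻¹, hq⟩ : Subgroup.centralizer ({z} : Set S)) ∈ Q) ∧ g * z * g⁻¹ ≠ z := by
  classical
  set C := Subgroup.centralizer (scalSub : Set ↥Co0) with hCdef
  have hfinCo : Finite ↥Co0 := Nat.finite_of_card_ne_zero (by rw [Conway.card_Co0]; norm_num)
  set N := (scalSub ⊔ Subgroup.center ↥Co0).subgroupOf C with hNdef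
  have hcentral : ∀ n ∈ N, ∀ c : ↥C, c * n = n * c := fun n hn c => by
    obtain ⟨k, hk⟩ := sup_cases (show (n : ↥Co0) ∈ scalSub ⊔ Subgroup.center ↥Co0 from hn)
    refine Subtype.ext ?_
    have h1 : Commute (c : ↥Co0) (scalElt ^ k) :=
      (show Commute (c : ↥Co0) scalElt from Subgroup.mem_centralizer_singleton_iff.1 (mem_cent.1 c.2)).zpow_right k
    show (c : ↥Co0) * n = n * c
    rcases hk with hk | hk <;> rw [hk]
    · exact h1.eq
    · exact (h1.mul_right (neg_central _)).eq
  have hNn : N.Normal := ⟨fun n hn g => by rw [hcentral n hn g, mul_inv_cancel_right]; exact hn⟩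
  let S := ↥C ⧸ N
  let π : ↥C →* S := QuotientGroup.mk' N
  let χ : twoJ2 →* S := π.comp coverCent
  have hπ : ∀ c : ↥C, π c = 1 ↔ (c : ↥Co0) ∈ scalSub ⊔ Subgroup.center ↥Co0 := fun c =>
    (QuotientGroup.eq_one_iff c)
  have hzero : ∀ f ∈ Subgroup.center twoJ2, χ f = 1 := by
    intro f hf
    rw [JankoTwo.center_eq] at hf
    rw [show χ f = π (coverCent f) from rfl, hπ, coe_coverCent]
    rcases kernel_sign f hf with h | h
    · rw [show f = 1 from Subtype.ext (Equiv.ext fun x => Subtype.ext (h x)), map_one]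
      exact one_mem _
    · have : coverHom f = negElt := ext_on_basis fun p => by
        rw [negElt_smul, basisElt, coverHom_apply]
        refine Subtype.ext (four_injective ?_)
        rw [← iso_eq (v := -latBasis p) (show vev (-latBasis p) = _ from ((h _).trans (map_neg vevH (latBasis p)).symm).symm),
          AddSubgroup.coe_neg, map_neg, map_neg,
          ← iso_eq (v := latBasis p) (x := icoElt (latBasis p) (basis_check p).2.1) rfl]
      rw [this]
      exact Subgroup.mem_sup_right neg_mem_center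
  let φ : J2 →* S := QuotientGroup.lift (Subgroup.center twoJ2) χ hzero
  have hsimple : IsSimpleGroup J2 := JankoTwo.isSimple_J2
  have hinvne : hjInv ≠ 1 := fun h => by
    have h0 := equivP_hjInv
    rw [h, map_one, Subgroup.coe_one] at h0
    obtain ⟨a, b, hab⟩ := JankoTwo.not_comm_P
    have hP : JankoTwo.P = ⊥ := by
      rw [JankoTwo.P, Subgroup.closure_eq_bot_iff]
      rintro _ ⟨k, rfl⟩
      obtain ⟨g, -, hg⟩ := JankoTwo.gen_conj k
      rw [Set.mem_singleton_iff, hg, ← h0, mul_one, mul_inv_cancel]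
    exact hab (Subtype.ext (by
      rw [Subgroup.coe_mul, Subgroup.coe_mul, (Subgroup.eq_bot_iff_forall _).mp hP _ a.2,
        (Subgroup.eq_bot_iff_forall _).mp hP _ b.2]))
  have hf0 : χ (genElt 0) ≠ 1 := fun h => by
    refine hinvne ((QuotientGroup.eq_one_iff _).2 (Subgroup.mem_center_iff.2 fun g => ?_))
    refine coverHom_injective ?_
    rw [map_mul, map_mul]
    exact congrArg (Subtype.val : ↥C → ↥Co0) (hcentral _ ((QuotientGroup.eq_one_iff _).1 h) (coverCent g))
  have hφinj : Function.Injective φ := by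
    rw [← MonoidHom.ker_eq_bot_iff]
    refine (IsSimpleGroup.eq_bot_or_eq_top_of_normal φ.ker inferInstance).resolve_right fun h => hf0 ?_
    have hm : (QuotientGroup.mk (genElt 0) : J2) ∈ φ.ker := by rw [h]; exact Subgroup.mem_top _
    exact MonoidHom.mem_ker.1 hm
  set z' : S := φ hjInv with hz'
  have hz'eq : z' = π (coverCent (genElt 0)) := rfl
  have hinv2 : hjInv * hjInv = 1 := by
    rw [hjInv, ← QuotientGroup.mk_mul, genElt_sq]; rfl
  have hzord : orderOf z' = 2 := by
    refine orderOf_eq_prime ?_ (fun h => hinvne (hφinj (h.trans (map_one φ).symm)))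
    rw [sq, hz', ← map_mul, hinv2, map_one]
  -- lifts of commuting elements commute
  have hlift : ∀ s ∈ Subgroup.centralizer ({z'} : Set S), ∀ c : ↥C, π c = s →
      (c : ↥Co0) ∈ bothCent := by
    intro s hs c hc
    have h1 : π (c * coverCent (genElt 0) * c⁻¹ * (coverCent (genElt 0))⁻¹) = 1 := by
      rw [map_mul, map_mul, map_mul, map_inv, map_inv, hc, ← hz'eq, Subgroup.mem_centralizer_singleton_iff.1 hs]
      group
    rw [hπ] at h1
    set e : ↥Co0 := (c : ↥Co0) * reflElt * (c : ↥Co0)⁻¹ * reflElt⁻¹ with he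
    have hee : e ∈ scalSub ⊔ Subgroup.center ↥Co0 := h1
    have hrefl : reflElt * reflElt = 1 := by rw [reflElt, ← map_mul, genElt_sq, map_one]
    have hcomm : reflElt * e = e * reflElt := by
      have := congrArg (Subtype.val : ↥C → ↥Co0)
        (hcentral (c * coverCent (genElt 0) * c⁻¹ * (coverCent (genElt 0))⁻¹) hee (coverCent (genElt 0)))
      exact this
    have hsq : e * e = 1 := by
      have hx : (c : ↥Co0) * reflElt * (c : ↥Co0)⁻¹ = e * reflElt := by rw [he, inv_mul_cancel_right]
      have h2 : (e * reflElt) * (e * reflElt) = 1 := by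
        calc (e * reflElt) * (e * reflElt)
            = ((c : ↥Co0) * reflElt * (c : ↥Co0)⁻¹) * ((c : ↥Co0) * reflElt * (c : ↥Co0)⁻¹) := by rw [hx]
          _ = (c : ↥Co0) * (reflElt * reflElt) * (c : ↥Co0)⁻¹ := by group
          _ = 1 := by rw [hrefl, mul_one, mul_inv_cancel]
      exact eq_one_of_comm_sq hrefl hcomm h2
    have he1 : e = 1 := by
      rcases (sup_square hee).1 hsq with h | h
      · exact h
      · exact absurd (show (c : ↥Co0) * reflElt * (c : ↥Co0)⁻¹ = negElt * reflElt by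
          rw [← h, he, inv_mul_cancel_right]) (no_sign_swap _)
    refine ⟨mem_cent.1 c.2, Subgroup.mem_centralizer_singleton_iff.2 ?_⟩
    rw [← mul_inv_eq_iff_eq_mul, ← mul_inv_eq_one]
    exact he1
  obtain ⟨hc1920, Q, hQn, hQF, hQe, hQc, ⟨eQ⟩, g, ⟨hq, hqQ⟩, hgne⟩ := hj_centralizer
  -- the centraliser upstairs
  let M : Subgroup ↥C := (Subgroup.centralizer ({z'} : Set S)).comap π
  have hNM : N ≤ M := fun n hn => by
    show π n ∈ Subgroup.centralizer ({z'} : Set S)
    rw [show π n = 1 from (QuotientGroup.eq_one_iff n).2 hn]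
    exact one_mem _
  have hMcard : Nat.card ↥M ≤ 19200 := by
    refine le_trans ?_ card_bothCent
    refine Nat.card_le_card_of_injective (fun m : ↥M => (⟨((m : ↥C) : ↥Co0), hlift _ m.2 _ rfl⟩ : ↥bothCent)) ?_
    intro m m' h
    exact Subtype.ext (Subtype.ext (congrArg (fun y : ↥bothCent => (y : ↥Co0)) h))
  have hN10 : 10 ≤ Nat.card ↥N := by
    have ha : scalElt ∈ C := mem_cent.2 (Subgroup.mem_centralizer_singleton_iff.2 rfl)
    have hne' : negElt ∈ C := mem_cent.2 (Subgroup.mem_centralizer_singleton_iff.2 (neg_central _).symm)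
    let a' : ↥N := ⟨⟨scalElt, ha⟩, show scalElt ∈ scalSub ⊔ _ from Subgroup.mem_sup_left (Subgroup.mem_zpowers _)⟩
    let n' : ↥N := ⟨⟨negElt, hne'⟩, show negElt ∈ scalSub ⊔ _ from Subgroup.mem_sup_right neg_mem_center⟩
    have h5 : orderOf a' = 5 := by rw [← Subgroup.orderOf_coe, ← Subgroup.orderOf_coe]; exact scalElt_order
    have h2 : orderOf n' = 2 := by
      rw [← Subgroup.orderOf_coe, ← Subgroup.orderOf_coe]
      exact orderOf_eq_prime (by rw [sq, neg_sq]) negElt_ne_one
    have d5 : 5 ∣ Nat.card ↥N := h5 ▸ orderOf_dvd_natCard a'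
    have d2 : 2 ∣ Nat.card ↥N := h2 ▸ orderOf_dvd_natCard n'
    have : 0 < Nat.card ↥N := Nat.card_pos
    omega
  have hle : Nat.card ↥(Subgroup.centralizer ({z'} : Set S)) ≤ 1920 := by
    let πM : ↥M →* ↥(Subgroup.centralizer ({z'} : Set S)) :=
      (π.comp M.subtype).codRestrict _ fun m => m.2
    have hs : Function.Surjective πM := fun s => by
      obtain ⟨c, hc⟩ := QuotientGroup.mk'_surjective N s.1
      exact ⟨⟨c, show π c ∈ _ from hc.symm ▸ s.2⟩, Subtype.ext hc⟩
    have hk : Nat.card ↥πM.ker = Nat.card ↥N := Nat.card_congr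
      { toFun := fun m => ⟨m.1.1, (QuotientGroup.eq_one_iff _).1 (congrArg Subtype.val (MonoidHom.mem_ker.1 m.2))⟩
        invFun := fun n => ⟨⟨n.1, hNM n.2⟩, MonoidHom.mem_ker.2 (Subtype.ext ((QuotientGroup.eq_one_iff _).2 n.2))⟩
        left_inv := fun _ => rfl
        right_inv := fun _ => rfl }
    have h1 := Subgroup.card_eq_card_quotient_mul_card_subgroup πM.ker
    rw [Nat.card_congr (QuotientGroup.quotientKerEquivOfSurjective πM hs).toEquiv, hk] at h1
    have h2 : Nat.card ↥(Subgroup.centralizer ({z'} : Set S)) * 10 ≤ 1920 * 10 :=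
      calc _ ≤ Nat.card ↥(Subgroup.centralizer ({z'} : Set S)) * Nat.card ↥N := Nat.mul_le_mul_left _ hN10
        _ = Nat.card ↥M := h1.symm
        _ ≤ _ := hMcard
    omega
  let φC : ↥(Subgroup.centralizer ({hjInv} : Set J2)) →* ↥(Subgroup.centralizer ({z'} : Set S)) :=
    (φ.comp (Subgroup.centralizer ({hjInv} : Set J2)).subtype).codRestrict _ fun x =>
      Subgroup.mem_centralizer_singleton_iff.2 (by
        show φ x.1 * φ hjInv = φ hjInv * φ x.1
        rw [← map_mul, ← map_mul, Subgroup.mem_centralizer_singleton_iff.1 x.2])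
  have hφCinj : Function.Injective φC := fun x y h => Subtype.ext (hφinj (congrArg Subtype.val h))
  have hφC : Function.Bijective φC := (Nat.bijective_iff_injective_and_card φC).2 ⟨hφCinj,
    le_antisymm (Nat.card_le_card_of_injective φC hφCinj) (hc1920.symm ▸ hle)⟩
  haveI : Finite J2 := Nat.finite_of_card_ne_zero (by rw [JankoTwo.card_J2]; norm_num)
  let eC := MulEquiv.ofBijective φC hφC
  let Q' := Q.map eC.toMonoidHom
  haveI hQ'n : Q'.Normal := hQn.map _ eC.surjective
  obtain ⟨eO⟩ := HJType.omega_equiv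
  have hF' : Cfsg.generalizedFittingSubgroup ↥(Subgroup.centralizer ({z'} : Set S)) = Q' := by
    show _ = Q.map eC.toMonoidHom
    rw [← hQF, CfsgLib.Components.gFitting_map_equiv eC]
  have hQ'e : Cfsg.IsExtraspecial 2 ↥Q' :=
    CfsgLib.Pairs.Cubic.extraspecial_congr hQe (Q.equivMapOfInjective _ eC.injective)
  have hQ'c : Nat.card ↥Q' = 2 ^ 5 := by
    rw [← Nat.card_congr (Q.equivMapOfInjective eC.toMonoidHom eC.injective).toEquiv, hQc]; norm_num
  let e' : ↥(Subgroup.centralizer ({z'} : Set S)) ⧸ Q' ≃* Cfsg.Omega (ZMod 2) (Cfsg.quadFormMinus 1 (ZMod 2) 1 1) :=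
    ((QuotientGroup.congr Q Q' eC rfl).symm.trans eQ).trans eO.symm
  have hnw : ∃ g' : S, (∃ hq' : g' * z' * g'⁻¹ ∈ Subgroup.centralizer ({z'} : Set S),
      (⟨g' * z' * g'⁻¹, hq'⟩ : ↥(Subgroup.centralizer ({z'} : Set S))) ∈ Q') ∧ g' * z' * g'⁻¹ ≠ z' := by
    have e1 : φ (g * hjInv * g⁻¹) = φ g * z' * (φ g)⁻¹ := by rw [map_mul, map_mul, map_inv]
    refine ⟨φ g, ⟨e1 ▸ (φC ⟨_, hq⟩).2, ⟨_, hqQ, Subtype.ext e1⟩⟩, fun h => hgne (hφinj (e1.trans h))⟩
  set U : ↥C := coverCent (wordElt signWord) with hU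
  have hUU : (U : ↥Co0) * U = negElt := sign_word
  have hcl : ∃ x y : S, orderOf x = 2 ∧ orderOf y = 2 ∧ ¬ IsConj x y := by
    refine ⟨z', π U, hzord, ?_, fun hconj => ?_⟩
    · refine orderOf_eq_prime ?_ fun h => ?_
      · rw [sq, ← map_mul, hπ, Subgroup.coe_mul, hUU]
        exact Subgroup.mem_sup_right neg_mem_center
      · exact (sup_square ((hπ U).1 h)).2 hUU
    · obtain ⟨s, hs⟩ := isConj_iff.1 hconj
      obtain ⟨c, rfl⟩ := QuotientGroup.mk'_surjective N s
      have h1 : π (U⁻¹ * (c * coverCent (genElt 0) * c⁻¹)) = 1 := by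
        rw [map_mul, map_inv, map_mul, map_mul, map_inv, ← hz'eq, hs, inv_mul_cancel]
      set n := U⁻¹ * (c * coverCent (genElt 0) * c⁻¹) with hn'
      have hx : c * coverCent (genElt 0) * c⁻¹ = U * n := by rw [hn', mul_inv_cancel_left]
      have hnN : n ∈ N := (QuotientGroup.eq_one_iff n).1 h1
      have hsq : (U * n) * (U * n) = 1 := by
        rw [← hx]
        simp only [mul_assoc, inv_mul_cancel_left]
        rw [← mul_assoc (coverCent (genElt 0)), ← map_mul, genElt_sq, map_one, one_mul, mul_inv_cancel]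
      rw [mul_assoc, ← mul_assoc n U, ← hcentral n hnN U, mul_assoc, ← mul_assoc] at hsq
      have h2 := congrArg (Subtype.val : ↥C → ↥Co0) hsq
      simp only [Subgroup.coe_mul, Subgroup.coe_one, hUU] at h2
      refine (sup_square (show (n : ↥Co0) ∈ scalSub ⊔ Subgroup.center ↥Co0 from hnN)).2 ?_
      calc (n : ↥Co0) * n = negElt * (negElt * (n * n)) := by rw [← mul_assoc, neg_sq, one_mul]
        _ = negElt := by rw [h2, mul_one]
  have hS : Nat.card S = 604800 := Cfsg.Agent.S1721.result z' hzord Q' hF' hQ'e hQ'c e' hnw hcl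
  have hφ : Function.Bijective φ := (Nat.bijective_iff_injective_and_card φ).2
    ⟨hφinj, JankoTwo.card_J2.trans hS.symm⟩
  refine ⟨scalSub, card_scalSub, hNn, J2, inferInstance, Nat.finite_of_card_ne_zero (by
    rw [JankoTwo.card_J2]; norm_num), ⟨MulEquiv.ofBijective φ hφ⟩, hsimple, fun hcm => ?_, hjInv,
    orderOf_eq_prime (by rw [sq, hinv2]) hinvne, Q, hQn, hQF, hQe, by rw [hQc]; norm_num, ⟨eQ.trans eO.symm⟩,
    g, ⟨hq, hqQ⟩, hgne⟩
  obtain ⟨a, b, hab⟩ := JankoTwo.not_comm_P
  refine hab ?_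
  simpa using congrArg JankoTwo.equivP (hcm.is_comm.comm (JankoTwo.equivP.symm a) (JankoTwo.equivP.symm b))

end CfsgLib.Sporadic.ConwayIco
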