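import Cfsg.Agent.Lib.Sporadic.ConwayData

/-!
# Paths showing that the monomial group is maximal

For each representative: monomial steps, then the steps of its standard path, then monomial steps,
ending at the image of the base vector under the sextet involution.
-/

set_option autoImplicit false

namespace CfsgLib.Sporadic.Conway

/-- The image of the base vector under the sextet involution. -/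
def xiBase : List ℤ :=
  [-4, -4, -4, 0, 0, 0, 0, 0, 0, 0, 0, 0, 0, 0, 0, 0, 0, 0, 0, 0, 0, 0, 0, 4]

def maxPath_fours : (List ℤ × List (ℕ × ℕ × List ℤ)) × List (ℕ × ℕ × List ℤ) × List ℤ × List (ℕ × ℕ × List ℤ) × List ℤ × List (ℕ × ℕ × List ℤ) :=
  ((rv_fours, chain_fours), [(1, 925796510530981724193793351377521079, [0, 0, 4, 0, 0, 0, 0, 0, 0, 0, 0, 0, 0, 4, 0, 0, 0, 0, 0, 0, 0, 0, 4, 4]), (2, 3556715, [0, 0, 4, 0, 0, 0, 0, 0, 0, 0, 0, 0, 0, 4, 0, 0, 0, 0, 0, 0, 0, 0, 4, 4])], [0, 0, 4, 0, 0, 0, 0, 0, 0, 0, 0, 0, 0, 4, 0, 0, 0, 0, 0, 0, 0, 0, 4, 4], [(1, 420721135924762535457572931897435636, [0, 0, 0, 0, 4, 0, 0, 0, 0, 4, 4, 0, 0, 0, 0, 0, 0, 0, 0, 0, 0, 0, 4, 0]), (2, 6588684, [0, 0, 0, 0, 4, 0, 0, 0, 0, 4, 4, 0, 0, 0, 0, 0,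 0, 0, 0, 0, 0, 0, -4, 0]), (0, 0, [0, 0, 0, 0, -4, 0, 0, 0, 0, 0, 0, 0, 0, 0, 0, 4, 0, 0, 0, 0, 4, 0, 4, 0]), (1, 22603085893202808013679396404177967, [0, 0, 0, 0, -4, 0, 4, 0, 0, 0, 0, 0, 0, 0, 0, 0, 0, 4, 0, 0, 0, 0, 0, 4])], [0, 0, 0, 0, -4, 0, 4, 0, 0, 0, 0, 0, 0, 0, 0, 0, 0, 4, 0, 0, 0, 0, 0, 4], [(1, 963754569141962935945798569087485453, [-4, 4, 4, 0, 0, 0, 0, 0, 0, 0, 0, 0, 0, 0, 0, 0, 0, 0, 0, 0, 0, 0, 0, 4]), (2, 421910, [-4, -4, -4, 0, 0, 0, 0, 0, 0, 0, 0, 0, 0, 0, 0, 0, 0, 0, 0, 0, 0, 0, 0, 4])])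

def maxPath_six : (List ℤ × List (ℕ × ℕ × List ℤ)) × List (ℕ × ℕ × List ℤ) × List ℤ × List (ℕ × ℕ × List ℤ) × List ℤ × List (ℕ × ℕ × List ℤ) :=
  ((rv_six, chain_six), [(1, 980912451550127205775719279613884433, [2, 2, 2, 2, 0, 2, 0, 0, 0, 0, 0, 0, 0, 0, 2, 0, 0, 2, 0, 0, 0, 0, 0, -6]), (2, 16003754, [2, -2, 2, -2, 0, -2, 0, 0, 0, 0, 0, 0, 0, 0, 2, 0, 0, 2, 0, 0, 0, 0, 0, 6])], [2, -2, 2, -2, 0, -2, 0, 0, 0, 0, 0, 0, 0, 0, 2, 0, 0, 2, 0, 0, 0, 0, 0, 6], [(1, 898806266776245448282108433963167346, [0, 0, 0, 0, 0, 0, 2, 2, -2, 0, 0, 2, -2, 0, 0, 0, 0, 0, 2, -2, 0, 6, 0, 0]), (2, 13361136, [0, 0, 0, 0, 0, 0, -2, -2, 2, 0, 0, -2, 2, 0, 0, 0, 0, 0, 2, 2, 0, 6, 0, 0]), (0, 0, [0, 0, 0, 0, 0, 0, 4, 4, 0, 0, 0, 4, 0, 0, 0, 0, 0, 0, 0, 0,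 0, -4, 0, 0]), (1, 22381098161107965572080537436202126, [0, 0, 0, 0, 0, 0, 0, -4, 4, 0, 0, 0, 4, 0, 0, 0, 0, 0, 0, 0, 0, 4, 0, 0]), (2, 9333542, [0, 0, 0, 0, 0, 0, 0, -4, -4, 0, 0, 0, 4, 0, 0, 0, 0, 0, 0, 0, 0, 4, 0, 0]), (0, 0, [0, 0, 0, 0, 0, 0, 0, 4, 4, 0, 0, 0, -4, 0, 0, 0, 0, 0, 0, 0, 0, -4, 0, 0]), (1, 477144491347695089491217979027889856, [0, 4, 0, 4, 0, 0, 0, 0, 0, 0, 0, 0, 0, 0, 0, 0, 0, 0, -4, 0, 0, 0, 0, -4])], [0, 4, 0, 4, 0, 0, 0, 0, 0, 0, 0, 0, 0, 0, 0, 0, 0, 0, -4, 0, 0, 0, 0, -4], [(1, 971742487922465816970206757935681541, [4, 4, -4, 0, 0, 0, 0, 0, 0, 0, 0, 0, 0, 0, 0, 0, 0, 0, 0, 0, 0, 0, 0, -4]), (2, 9347075, [-4, -4, -4, 0, 0, 0, 0, 0, 0, 0, 0, 0, 0, 0, 0, 0, 0, 0, 0, 0, 0, 0, 0, 4])])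

def maxPath_k6 : (List ℤ × List (ℕ × ℕ × List ℤ)) × List (ℕ × ℕ × List ℤ) × List ℤ × List (ℕ × ℕ × List ℤ) × List ℤ × List (ℕ × ℕ × List ℤ) :=
  ((rv_k6, chain_k6), [(1, 396539383557282299575958733561667287, [2, 0, 2, 0, 4, 2, 4, 2, 0, 2, 0, 0, 2, 0, 0, 0, 0, 0, 0, 0, 0, 0, 2, 2]), (2, 3939956, [2, 0, -2, 0, -4, -2, -4, 2, 0, -2, 0, 0, -2, 0, 0, 0, 0, 0, 0, 0, 0, 0, 2, 2])], [2, 0, -2, 0, -4, -2, -4, 2, 0, -2, 0, 0, -2, 0, 0, 0, 0, 0, 0, 0, 0, 0, 2, 2], [(1, 877908429860122157069071857872002099, [0, 0, -2, 0, 2, 0, 0, 0, 0, 0, 0, -2, 0, 2, 0, 0, -4, 0, -2, 2, 0, 2, -4, -2]), (2, 1528207, [0, 0, 2, 0, 2, 0, 0, 0, 0, 0, 0, -2, 0, 2, 0, 0, 4, 0, 2, 2, 0, 2, -4, -2]), (0, 0, [0, 0, 2, 0, 0, 0, 2, 2, 0, 0, 0, 2, 0, 0, 0, 0, -2, 0,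 -2, 0, 0, 0, 6, -2]), (1, 276819912445459694441628244994721366, [-2, 2, 2, 0, 0, 0, -2, -2, 0, 0, 0, 0, 0, 0, 0, 0, 0, 0, 0, 2, 0, 6, 0, 2]), (2, 14676119, [2, -2, -2, 0, 0, 0, -2, 2, 0, 0, 0, 0, 0, 0, 0, 0, 0, 0, 0, -2, 0, 6, 0, -2]), (0, 0, [4, 0, 0, 0, 0, 0, 4, 0, 0, 0, 0, 0, 0, 0, 0, 0, 0, 0, 0, 4, 0, -4, 0, 0]), (1, 921841040779540204408771860564877408, [4, 0, 0, 0, 0, -4, 0, 0, 0, 0, 0, 4, 0, 0, 0, 0, 0, 0, 0, 0, 0, 0, 0, 4]), (2, 13062145, [-4, 0, 0, 0, 0, -4, 0, 0, 0, 0, 0, 4, 0, 0, 0, 0, 0, 0, 0, 0, 0, 0, 0, -4])], [-4, 0, 0, 0, 0, -4, 0, 0, 0, 0, 0, 4, 0, 0, 0, 0, 0, 0, 0, 0, 0, 0, 0, -4], [(1, 962371958784809528982615560815171936, [-4, -4, 4, 0, 0, 0, 0, 0, 0, 0, 0, 0, 0, 0, 0, 0, 0, 0, 0, 0, 0, 0, 0, -4]), (2, 13938692,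 [-4, -4, -4, 0, 0, 0, 0, 0, 0, 0, 0, 0, 0, 0, 0, 0, 0, 0, 0, 0, 0, 0, 0, 4])])

def maxPath_k7 : (List ℤ × List (ℕ × ℕ × List ℤ)) × List (ℕ × ℕ × List ℤ) × List ℤ × List (ℕ × ℕ × List ℤ) × List ℤ × List (ℕ × ℕ × List ℤ) :=
  ((rv_k7, chain_k7), [(1, 753491795829949430202037064029574830, [0, 0, 0, 0, 0, 2, 0, 0, 4, 0, 0, 0, 0, 2, 2, 0, 4, 2, 2, 0, 2, 2, 0, 2]), (2, 421910, [0, 0, 0, 0, 0, 2, 0, 0, 4, 0, 0, 0, 0, -2, -2, 0, 4, -2, -2, 0, 2, 2, 0, 2])], [0, 0, 0, 0, 0, 2, 0, 0, 4, 0, 0, 0, 0, -2, -2, 0, 4, -2, -2, 0, 2, 2, 0, 2], [(1, 565602188570505774797830076361982098, [4, -2, 0, 4, 0, 2, 0, 0, 2, 0, 0, 0, -2, 2, 0, 0, 0, -2, 0, 0, 0, 0, -2, 2]), (2, 9213723, [-4, 2, 0, -4, 0, 2, 0, 0, -2, 0, 0, 0, 2, 2, 0, 0, 0, -2, 0, 0, 0, 0,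 -2, -2]), (0, 0, [-2, 4, 2, 2, 0, -4, 0, 0, 2, 0, 0, 0, -2, -2, -2, 0, 0, 0, 0, 0, 0, 0, 2, 0]), (1, 296826766170807535855608560718726478, [0, 0, 0, -2, 2, -2, 0, 0, 0, 0, 4, 0, 0, 2, -2, -4, 2, 2, 0, 0, 0, 0, -2, 0]), (2, 4536592, [0, 0, 0, -2, -2, -2, 0, 0, 0, 0, 4, 0, 0, -2, -2, -4, -2, 2, 0, 0, 0, 0, 2, 0]), (0, 0, [0, 0, 0, 0, 0, 0, 0, 0, 0, 0, -4, 0, 0, 0, 0, 4, 0, -4, 0, 0, 0, 0, -4, 0]), (1, 477144491347695089491217979027889856, [0, 0, 0, 0, 0, 0, 0, 0, 0, 4, 0, 0, 0, 0, -4, -4, 0, 0, 0, -4, 0, 0, 0, 0])], [0, 0, 0, 0, 0, 0, 0, 0, 0, 4, 0, 0, 0, 0, -4, -4, 0, 0, 0, -4, 0, 0, 0, 0], [(1, 688553248534402153839258030226053353, [4, -4, -4, 0, 0, 0, 0, 0, 0, 0, 0, 0, 0, 0, 0, 0, 0, 0, 0, 0, 0, 0, 0, -4]), (2, 13062145, [-4,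 -4, -4, 0, 0, 0, 0, 0, 0, 0, 0, 0, 0, 0, 0, 0, 0, 0, 0, 0, 0, 0, 0, 4])])

def maxPath_k8 : (List ℤ × List (ℕ × ℕ × List ℤ)) × List (ℕ × ℕ × List ℤ) × List ℤ × List (ℕ × ℕ × List ℤ) × List ℤ × List (ℕ × ℕ × List ℤ) :=
  ((rv_k8, chain_k8), [(1, 472504927907323847930655606193957619, [0, 4, 4, 2, 0, 2, 0, 0, 0, 0, 2, 2, 0, 2, 0, 0, 0, 2, 0, 2, 0, 0, 0, 2]), (2, 3455318, [0, -4, -4, 2, 0, 2, 0, 0, 0, 0, 2, -2, 0, -2, 0, 0, 0, 2, 0, 2, 0, 0, 0, 2])], [0, -4, -4, 2, 0, 2, 0, 0, 0, 0, 2, -2, 0, -2, 0, 0, 0, 2, 0, 2, 0, 0, 0, 2], [(1, 460825978936538491097908496351517202, [0, 0, 0, 0, 2, 0, 2, 0, 2, 0, -2, 2, 0, 2, 0, 0, -4, 0, 0, 2, -2, 0, -4, 0]), (2, 8126628, [0, 0, 0, 0, 2, 0, 2, 0, 2, 0, -2, 2, 0, 2, 0, 0, -4, 0, 0, -2, 2, 0, 4,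 0]), (0, 0, [0, 0, 0, 0, 0, 0, -2, 0, 0, 0, 2, 0, 2, 0, 0, 0, 6, 0, 2, 2, -2, 0, -2, 0]), (1, 229075385349615047413593494650603881, [0, 0, 0, 0, -2, 0, 6, 2, 0, 0, 0, 0, 0, 2, 0, 0, -2, 0, 0, 2, 0, -2, 2, 0]), (2, 6273537, [0, 0, 0, 0, -2, 0, 6, 2, 0, 0, 0, 0, 0, -2, 0, 0, 2, 0, 0, -2, 0, -2, -2, 0]), (0, 0, [0, 0, 0, 0, 0, 0, -4, 0, 0, 0, 0, 0, 0, 0, 0, 0, -4, 0, 0, 4, 0, 4, 0, 0]), (1, 14686592077638964152258423707707016, [0, 0, 0, 0, 0, 0, 0, -4, 0, 0, 4, 0, 0, -4, 0, 0, 0, 0, 0, 0, 0, 4, 0, 0]), (2, 13062145, [0, 0, 0, 0, 0, 0, 0, -4, 0, 0, 4, 0, 0, -4, 0, 0, 0, 0, 0, 0, 0, 4, 0, 0])], [0, 0, 0, 0, 0, 0, 0, -4, 0, 0, 4, 0, 0, -4, 0, 0, 0, 0, 0, 0, 0, 4, 0, 0], [(1, 723986130399311555086516581169383637, [-4, 4, -4, 0, 0, 0,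 0, 0, 0, 0, 0, 0, 0, 0, 0, 0, 0, 0, 0, 0, 0, 0, 0, 4]), (2, 4845570, [-4, -4, -4, 0, 0, 0, 0, 0, 0, 0, 0, 0, 0, 0, 0, 0, 0, 0, 0, 0, 0, 0, 0, 4])])

def maxPath_k9 : (List ℤ × List (ℕ × ℕ × List ℤ)) × List (ℕ × ℕ × List ℤ) × List ℤ × List (ℕ × ℕ × List ℤ) × List ℤ × List (ℕ × ℕ × List ℤ) :=
  ((rv_k9, chain_k9), [(1, 341556311825735430185304707802317930, [0, 4, 4, 2, 0, 0, 0, 0, 2, 0, 2, 0, 0, 0, 2, 0, 0, 2, 0, 0, 0, 2, 2, 2]), (2, 1327290, [0, -4, 4, -2, 0, 0, 0, 0, 2, 0, 2, 0, 0, 0, -2, 0, 0, 2, 0, 0, 0, 2, 2, 2])], [0, -4, 4, -2, 0, 0, 0, 0, 2, 0, 2, 0, 0, 0, -2, 0, 0, 2, 0, 0, 0, 2, 2, 2], [(1, 602590457839953006172092904207814188, [0, 0, 0, 4, 2, -2, 2, 2, -2, 0, 0, 2, 0, 0, 2, 0, 2, -4, 0, 0, 0, 0, 0, 0]), (2, 3195897, [0,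 0, 0, -4, -2, 2, -2, -2, 2, 0, 0, 2, 0, 0, -2, 0, 2, -4, 0, 0, 0, 0, 0, 0]), (0, 0, [0, 0, 0, 0, 2, -6, 0, 0, 0, 0, 0, 0, 2, 0, -2, 0, -2, 0, 2, -2, 0, -2, 0, 0]), (1, 181757067948754235624710776693597450, [-2, -2, -6, 2, 0, -2, 0, 0, 0, 0, 0, 0, 0, 0, 2, 0, 0, -2, 0, 0, 0, 0, 0, 2]), (2, 3891569, [2, -2, -6, 2, 0, 2, 0, 0, 0, 0, 0, 0, 0, 0, -2, 0, 0, 2, 0, 0, 0, 0, 0, 2]), (0, 0, [4, 0, -4, 0, 0, 0, 0, 0, 0, 0, 0, 0, 0, 0, 4, 0, 0, 0, 0, 0, 0, 0, 0, 4]), (1, 4384458875472214385511754829968598, [4, 0, 0, 0, 0, 0, 0, 0, 0, 0, 0, 0, 0, -4, 4, 0, 0, 0, 0, 0, 0, 0, 4, 0]), (2, 13062145, [-4, 0, 0, 0, 0, 0, 0, 0, 0, 0, 0, 0, 0, -4, -4, 0, 0, 0, 0, 0, 0, 0, -4, 0])], [-4, 0, 0, 0, 0, 0, 0, 0, 0, 0, 0, 0, 0, -4, -4, 0, 0, 0, 0, 0, 0,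 0, -4, 0], [(1, 279233372728998337509604973287784896, [-4, -4, -4, 0, 0, 0, 0, 0, 0, 0, 0, 0, 0, 0, 0, 0, 0, 0, 0, 0, 0, 0, 0, -4]), (2, 10170384, [-4, -4, -4, 0, 0, 0, 0, 0, 0, 0, 0, 0, 0, 0, 0, 0, 0, 0, 0, 0, 0, 0, 0, 4])])

def maxPath_k10 : (List ℤ × List (ℕ × ℕ × List ℤ)) × List (ℕ × ℕ × List ℤ) × List ℤ × List (ℕ × ℕ × List ℤ) × List ℤ × List (ℕ × ℕ × List ℤ) :=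
  ((rv_k10, chain_k10), [(1, 401251327602811552009017610751466887, [2, 4, 2, 0, 0, 2, 0, 2, 0, 2, 0, 0, 2, 0, 4, 0, 0, 0, 0, 0, 0, 0, 2, 2]), (2, 16479188, [2, 4, -2, 0, 0, 2, 0, -2, 0, -2, 0, 0, -2, 0, -4, 0, 0, 0, 0, 0, 0, 0, -2, -2])], [2, 4, -2, 0, 0, 2, 0, -2, 0, -2, 0, 0, -2, 0, -4, 0, 0, 0, 0, 0, 0, 0, -2, -2], [(1, 892245247073079721235953112925701346, [-4, -2, 2, 0, 0, 0, 2, 4, 0, 0, 0, 0, 0, 0, 0, -2, -2, 0, 0, 0, -2, -2, -2, 0]), (2, 2263063, [4, 2, -2, 0, 0, 0, 2, 4, 0, 0, 0, 0, 0, 0, 0, 2, -2, 0, 0, 0, -2, 2, -2, 0]), (0, 0, [2, 0, -4, 0, -2, 0, 2, 0, 0, 0, 0, 0, 0, -2, 0, -2, 0, 0, 0, 4, 2, 2, 0, -2]), (1, 801181920771551453125958376628598859, [0, 0, 0, 4, 0, 0, 2, -2, 2, 0, 0, 2, -2, 0, -4, 0, 0, 0, -2, -2, 0, 2,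 0, 0]), (2, 10330653, [0, 0, 0, -4, 0, 0, 2, -2, 2, 0, 0, 2, -2, 0, -4, 0, 0, 0, 2, 2, 0, 2, 0, 0]), (0, 0, [0, 0, 0, 0, 0, -4, 0, 4, 0, 0, 0, 0, 4, 0, 0, 0, 0, -4, 0, 0, 0, 0, 0, 0]), (1, 4384458875472214385511754829968598, [0, -4, 0, 0, 0, 4, 0, 0, 0, 0, 0, 0, 0, 0, 0, 0, 0, 0, 0, 4, 0, -4, 0, 0])], [0, -4, 0, 0, 0, 4, 0, 0, 0, 0, 0, 0, 0, 0, 0, 0, 0, 0, 0, 4, 0, -4, 0, 0], [(1, 770696160220565002413149481726257174, [-4, 4, 4, 0, 0, 0, 0, 0, 0, 0, 0, 0, 0, 0, 0, 0, 0, 0, 0, 0, 0, 0, 0, -4]), (2, 10305542, [-4, -4, -4, 0, 0, 0, 0, 0, 0, 0, 0, 0, 0, 0, 0, 0, 0, 0, 0, 0, 0, 0, 0, 4])])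

def maxPath_k11 : (List ℤ × List (ℕ × ℕ × List ℤ)) × List (ℕ × ℕ × List ℤ) × List ℤ × List (ℕ × ℕ × List ℤ) × List ℤ × List (ℕ × ℕ × List ℤ) :=
  ((rv_k11, chain_k11), [(1, 5292984960732878780930061946459459, [2, 0, 0, 2, 0, 2, 2, 0, 0, 0, 2, 0, 2, 0, 0, 0, 0, 2, 0, 4, 4, 0, 2, 0]), (2, 6807258, [2, 0, 0, -2, 0, 2, -2, 0, 0, 0, -2, 0, -2, 0, 0, 0, 0, -2, 0, 4, 4, 0, -2, 0])], [2, 0, 0, -2, 0, 2, -2, 0, 0, 0, -2, 0, -2, 0, 0, 0, 0, -2, 0, 4, 4, 0, -2, 0], [(1, 487484786168456942710622137585180338, [-2, 0, 0, 0, -2, 0, -2, 0, -2, 0, 0, 0, 0, 4, 0, 0, -2, 0, 2, 2, 0, 0, 4, -2]), (2, 3354839, [2, 0, 0, 0, 2, 0, 2, 0, -2, 0, 0, 0, 0, -4, 0, 0, 2, 0, 2, 2, 0, 0, 4, -2]), (0, 0, [2, 0, 0, 0, 0, 0, 0, 2, 2, 0, 0, 0, 0, 6, 0, 0, 0, 0,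 -2, 0, 0, 2, -2, -2]), (1, 67589455201109746646400845060022976, [2, -2, 2, 0, 0, 0, 0, 0, 0, 2, 2, 0, 0, 0, 0, 6, 0, 0, 0, 0, -2, 0, 0, -2]), (2, 2714748, [2, -2, -2, 0, 0, 0, 0, 0, 0, 2, -2, 0, 0, 0, 0, 6, 0, 0, 0, 0, -2, 0, 0, -2]), (0, 0, [4, 0, 0, 0, 0, 0, 0, 0, 0, 0, 4, 0, 0, 0, 0, -4, 0, 0, 0, 0, 4, 0, 0, 0]), (1, 29492376736006929088146330296305131, [0, 4, 0, 0, -4, 0, 0, 0, 0, 0, 0, 4, 0, 0, 0, 0, 0, 0, 0, 0, 0, 4, 0, 0]), (2, 13062145, [0, 4, 0, 0, -4, 0, 0, 0, 0, 0, 0, 4, 0, 0, 0, 0, 0, 0, 0, 0, 0, 4, 0, 0])], [0, 4, 0, 0, -4, 0, 0, 0, 0, 0, 0, 4, 0, 0, 0, 0, 0, 0, 0, 0, 0, 4, 0, 0], [(1, 473450174390525283545721265733615629, [4, -4, 4, 0, 0, 0, 0, 0, 0, 0, 0, 0, 0, 0, 0, 0, 0, 0, 0, 0, 0, 0, 0, 4]), (2, 1302533, [-4,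 -4, -4, 0, 0, 0, 0, 0, 0, 0, 0, 0, 0, 0, 0, 0, 0, 0, 0, 0, 0, 0, 0, 4])])

def maxPath_k12 : (List ℤ × List (ℕ × ℕ × List ℤ)) × List (ℕ × ℕ × List ℤ) × List ℤ × List (ℕ × ℕ × List ℤ) × List ℤ × List (ℕ × ℕ × List ℤ) :=
  ((rv_k12, chain_k12), [(1, 53566246797933708384004525683104099, [0, 2, 4, 2, 0, 0, 0, 0, 0, 0, 0, 2, 0, 2, 2, 0, 0, 4, 2, 0, 0, 0, 2, 2]), (2, 5770785, [0, 2, 4, 2, 0, 0, 0, 0, 0, 0, 0, -2, 0, 2, 2, 0, 0, 4, 2, 0, 0, 0, -2, 2])], [0, 2, 4, 2, 0, 0, 0, 0, 0, 0, 0, -2, 0, 2, 2, 0, 0, 4, 2, 0, 0, 0, -2, 2], [(1, 749654514667368327322345615021845839, [0, -2, -2, 2, 0, 0, 0, 0, 2, 2, 2, 4, 4, 0, 2, 0, 0, 0, 2, 0, 0, 0, 0, 0]), (2, 7190628, [0, -2, 2, 2, 0, 0, 0, 0, 2, 2, 2, -4, -4, 0, 2, 0, 0, 0, -2, 0, 0, 0, 0, 0]),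 (0, 0, [0, -2, 2, 0, 0, 2, 0, 0, -6, 0, 0, 0, 0, 0, 0, 2, 0, 2, -2, 0, 2, 0, 0, 0]), (1, 423986529558479582401949420601229451, [2, 2, 2, 0, -2, 0, 0, 0, 0, 0, 0, 0, 0, 2, 0, 0, 2, 0, 0, 0, 0, 0, -6, -2]), (2, 8817383, [-2, -2, -2, 0, -2, 0, 0, 0, 0, 0, 0, 0, 0, 2, 0, 0, 2, 0, 0, 0, 0, 0, -6, 2]), (0, 0, [0, 0, 0, 0, 0, 0, 0, 0, 0, 0, 0, 0, 0, -4, 0, 0, -4, 0, 0, 0, 0, 0, 4, 4]), (1, 249778175476785849333719076037773494, [4, -4, 0, 0, 0, 0, 4, 0, 0, 0, 0, 0, 0, 0, 0, 0, 0, 0, 0, 0, 0, 0, 0, -4]), (2, 13062145, [-4, -4, 0, 0, 0, 0, 4, 0, 0, 0, 0, 0, 0, 0, 0, 0, 0, 0, 0, 0, 0, 0, 0, 4])], [-4, -4, 0, 0, 0, 0, 4, 0, 0, 0, 0, 0, 0, 0, 0, 0, 0, 0, 0, 0, 0, 0, 0, 4], [(1, 980379867925704874017840786305658912, [-4, -4, 4, 0, 0, 0, 0, 0,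 0, 0, 0, 0, 0, 0, 0, 0, 0, 0, 0, 0, 0, 0, 0, 4]), (2, 5210132, [-4, -4, -4, 0, 0, 0, 0, 0, 0, 0, 0, 0, 0, 0, 0, 0, 0, 0, 0, 0, 0, 0, 0, 4])])

def maxPath_k13 : (List ℤ × List (ℕ × ℕ × List ℤ)) × List (ℕ × ℕ × List ℤ) × List ℤ × List (ℕ × ℕ × List ℤ) × List ℤ × List (ℕ × ℕ × List ℤ) :=
  ((rv_k13, chain_k13), [(1, 187672202664659811793080241177921651, [2, 0, 2, 2, 2, 4, 2, 0, 0, 0, 0, 0, 0, 2, 0, 0, 0, 2, 0, 2, 0, 0, 0, 4]), (2, 8946281, [-2, 0, 2, -2, 2, -4, -2, 0, 0, 0, 0, 0, 0, 2, 0, 0, 0, 2, 0, -2, 0, 0, 0, -4])], [-2, 0, 2, -2, 2, -4, -2, 0, 0, 0, 0, 0, 0, 2, 0, 0, 0, 2, 0, -2, 0, 0, 0, -4], [(1, 15149120448476361878235617252792834, [-4, 2, -2, -2, -4, 0, 0, 0, 0, 0, 2, 0, 0, -2, 0, 2, 0, -2, 0, 0, 0, 0, 2, 0]), (2, 15063062,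 [-4, -2, 2, -2, 4, 0, 0, 0, 0, 0, 2, 0, 0, -2, 0, -2, 0, -2, 0, 0, 0, 0, -2, 0]), (0, 0, [-2, 0, 4, 0, -4, -2, 0, 0, 0, 0, -2, 0, 0, 2, -2, 2, 0, 0, 0, 0, 0, 0, 2, 2]), (1, 957424157298702360441532897414141188, [-2, 2, -2, 0, -2, 0, -4, 0, 0, 0, 0, 0, 0, 2, 0, 0, -2, 0, 0, 0, 0, 4, 2, 2]), (2, 3117484, [-2, 2, 2, 0, -2, 0, -4, 0, 0, 0, 0, 0, 0, 2, 0, 0, 2, 0, 0, 0, 0, -4, 2, 2]), (0, 0, [-4, 0, 0, 0, 4, 0, 0, -4, 0, 0, 0, 0, 0, 0, 0, 0, 0, 0, 0, -4, 0, 0, 0, 0]), (1, 29911808450092068199315215539027318, [0, 0, 0, 0, 0, 0, 0, 0, -4, 4, 0, 0, 0, 0, 0, 0, 0, 0, 0, 0, -4, 0, -4, 0])], [0, 0, 0, 0, 0, 0, 0, 0, -4, 4, 0, 0, 0, 0, 0, 0, 0, 0, 0, 0, -4, 0, -4, 0], [(1, 695365123694249857629363664939781326, [-4, 4, -4, 0, 0, 0, 0, 0, 0,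 0, 0, 0, 0, 0, 0, 0, 0, 0, 0, 0, 0, 0, 0, -4]), (2, 13811730, [-4, -4, -4, 0, 0, 0, 0, 0, 0, 0, 0, 0, 0, 0, 0, 0, 0, 0, 0, 0, 0, 0, 0, 4])])

def maxPath_k15 : (List ℤ × List (ℕ × ℕ × List ℤ)) × List (ℕ × ℕ × List ℤ) × List ℤ × List (ℕ × ℕ × List ℤ) × List ℤ × List (ℕ × ℕ × List ℤ) :=
  ((rv_k15, chain_k15), [(1, 316178286827146858499804341722950696, [2, 2, 0, 2, 0, 0, 0, 2, 2, 0, 0, 2, 0, 0, 2, 0, 4, 0, 0, 0, 4, 2, 0, 0]), (2, 13700765, [-2, 2, 0, -2, 0, 0, 0, -2, 2, 0, 0, -2, 0, 0, 2, 0, -4, 0, 0, 0, -4, 2, 0, 0])], [-2, 2, 0, -2, 0, 0, 0, -2, 2, 0, 0, -2, 0, 0, 2, 0, -4, 0, 0, 0, -4, 2, 0, 0], [(1, 914725989826237695259533124008677797, [0, -2, 2, 0, 0, -2, -4, 0, 0, 0, 0, 0, 0, 2, 0, 0, -2, 2, 0, -2, 0, 2, 0, -4]), (2, 10164526,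 [0, 2, -2, 0, 0, 2, -4, 0, 0, 0, 0, 0, 0, 2, 0, 0, 2, -2, 0, 2, 0, 2, 0, 4]), (0, 0, [-2, 0, -4, 0, 2, -2, 4, 0, 0, 0, 0, 0, 0, 0, 0, 0, 0, 2, 0, -2, 0, -2, 2, 2]), (1, 735249399646191135855718949814174083, [-4, 4, 0, -2, 2, 2, 0, 0, 0, 0, 0, 0, 0, -2, -2, 0, -2, 2, 0, 0, 0, 0, 2, 0]), (2, 4783889, [4, 4, 0, -2, -2, 2, 0, 0, 0, 0, 0, 0, 0, 2, 2, 0, -2, 2, 0, 0, 0, 0, -2, 0]), (0, 0, [0, 0, -4, 4, 0, 0, 0, 0, 0, 0, 0, 0, 0, -4, 0, 0, 0, 0, 0, 0, 0, 0, 0, -4]), (1, 22603085893202808013679396404177967, [-4, 0, 0, 0, 0, 0, 0, 0, 0, 0, 0, -4, 0, 0, 0, 0, 0, 0, 0, 4, 0, -4, 0, 0]), (2, 13062145, [4, 0, 0, 0, 0, 0, 0, 0, 0, 0, 0, -4, 0, 0, 0, 0, 0, 0, 0, 4, 0, -4, 0, 0])], [4, 0, 0, 0, 0, 0, 0, 0, 0, 0, 0, -4, 0, 0, 0, 0, 0, 0, 0, 4,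 0, -4, 0, 0], [(1, 482522415999937291975341793821266112, [4, -4, 4, 0, 0, 0, 0, 0, 0, 0, 0, 0, 0, 0, 0, 0, 0, 0, 0, 0, 0, 0, 0, -4]), (2, 8966165, [-4, -4, -4, 0, 0, 0, 0, 0, 0, 0, 0, 0, 0, 0, 0, 0, 0, 0, 0, 0, 0, 0, 0, 4])])

def maxPath_k16 : (List ℤ × List (ℕ × ℕ × List ℤ)) × List (ℕ × ℕ × List ℤ) × List ℤ × List (ℕ × ℕ × List ℤ) × List ℤ × List (ℕ × ℕ × List ℤ) :=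
  ((rv_k16, chain_k16), [(1, 259265738464574670315634501446904256, [2, 4, 2, 2, 0, 4, 2, 0, 0, 0, 2, 0, 0, 0, 2, 2, 0, 0, 0, 0, 0, 2, 0, 0]), (2, 8796800, [2, 4, 2, 2, 0, 4, 2, 0, 0, 0, 2, 0, 0, 0, 2, 2, 0, 0, 0, 0, 0, 2, 0, 0])], [2, 4, 2, 2, 0, 4, 2, 0, 0, 0, 2, 0, 0, 0, 2, 2, 0, 0, 0, 0, 0, 2, 0, 0], [(1, 962777274339272971947672915131669698, [2, 4, 2, 2, 0, 0, 4, 2, 0, 0, 0, 0, 0, 0, 0, 0, 2, 2, 0, 0, 0, 2, 2, 0]), (2, 11015256, [2, 4, 2, -2, 0, 0, -4, 2, 0, 0, 0, 0, 0, 0, 0, 0, 2, 2, 0, 0, 0, -2, 2, 0]), (0, 0, [-2, 0, -2, 2, 2, 0, 2, -4, 0, 0, 0, 0, 0, 2, 0, 0, 0, -2, 0, -2, 0, 0, 0, -4]), (1, 333768008709122611993592914934120133, [0, 0, 0, 2, 0, -2, 0, 0, -4, -2, 2, -4, 0, 0, 2, -2, 0, -2, 0, 0, 2, 0, 0, 0]), (2, 3668511,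 [0, 0, 0, -2, 0, -2, 0, 0, -4, 2, 2, 4, 0, 0, -2, 2, 0, 2, 0, 0, -2, 0, 0, 0]), (0, 0, [0, 0, 0, 0, 0, 0, 0, 0, 4, 0, 0, -4, 0, 0, 0, 0, 0, -4, 0, 0, 4, 0, 0, 0]), (1, 18279659395866097040989981114936630, [0, 0, 0, 0, 0, 0, 0, 0, -4, 0, 0, 0, 0, 0, 0, 0, 0, 0, 4, 0, 4, 0, 0, -4]), (2, 13062145, [0, 0, 0, 0, 0, 0, 0, 0, -4, 0, 0, 0, 0, 0, 0, 0, 0, 0, -4, 0, 4, 0, 0, 4])], [0, 0, 0, 0, 0, 0, 0, 0, -4, 0, 0, 0, 0, 0, 0, 0, 0, 0, -4, 0, 4, 0, 0, 4], [(1, 972544948721106754776599093593855540, [-4, -4, 4, 0, 0, 0, 0, 0, 0, 0, 0, 0, 0, 0, 0, 0, 0, 0, 0, 0, 0, 0, 0, 4]), (2, 5210132, [-4, -4, -4, 0, 0, 0, 0, 0, 0, 0, 0, 0, 0, 0, 0, 0, 0, 0, 0, 0, 0, 0, 0, 4])])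

def maxPath_k18 : (List ℤ × List (ℕ × ℕ × List ℤ)) × List (ℕ × ℕ × List ℤ) × List ℤ × List (ℕ × ℕ × List ℤ) × List ℤ × List (ℕ × ℕ × List ℤ) :=
  ((rv_k18, chain_k18), [(1, 925749046755649172564872552361608321, [2, 2, 0, 2, 2, 0, 0, 0, 2, 0, 0, 4, 4, 0, 0, 0, 0, 2, 2, 0, 0, 0, 2, 0]), (2, 5459634, [2, -2, 0, 2, -2, 0, 0, 0, 2, 0, 0, -4, 4, 0, 0, 0, 0, -2, 2, 0, 0, 0, -2, 0])], [2, -2, 0, 2, -2, 0, 0, 0, 2, 0, 0, -4, 4, 0, 0, 0, 0, -2, 2, 0, 0, 0, -2, 0], [(1, 463456197019740641392433695706134216, [0, 0, 0, -4, 0, -2, 2, 4, 2, 0, 0, 0, 0, 0, 0, 0, -2, 2, 2, 0, 0, -2, -2, 0]), (2, 16719941, [0, 0, 0, -4, 0, -2, -2, 4, 2, 0, 0, 0, 0, 0, 0, 0, 2, -2, -2, 0, 0, 2, 2, 0]), (0, 0, [0, 0, 0, 0, 2, -2, 4, -2, -2, 0, 0, 0, 0, 2, -4, 0,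 0, -2, 2, 2, 0, 0, 0, 0]), (1, 348420711295438664508090805058734660, [4, 0, 0, 2, 0, -2, 0, 0, 0, 2, -2, 0, 0, 0, -2, 2, 0, -2, 0, 0, 2, 0, 0, -4]), (2, 2274742, [4, 0, 0, 2, 0, 2, 0, 0, 0, 2, 2, 0, 0, 0, -2, -2, 0, 2, 0, 0, 2, 0, 0, -4]), (0, 0, [4, 0, 0, 0, 0, 0, 0, 0, 0, 0, 0, 0, 0, 0, 4, 4, 0, 0, 0, 0, 0, 0, 0, -4]), (1, 15200453133970992512463437727114799, [-4, 0, 0, 0, 4, 0, 0, 0, 0, 0, 0, 0, 0, 0, 4, 4, 0, 0, 0, 0, 0, 0, 0, 0])], [-4, 0, 0, 0, 4, 0, 0, 0, 0, 0, 0, 0, 0, 0, 4, 4, 0, 0, 0, 0, 0, 0, 0, 0], [(1, 139644613347748045700531086198782624, [-4, 4, 4, 0, 0, 0, 0, 0, 0, 0, 0, 0, 0, 0, 0, 0, 0, 0, 0, 0, 0, 0, 0, 4]), (2, 421910, [-4, -4, -4, 0, 0, 0, 0, 0, 0, 0, 0, 0, 0, 0, 0, 0, 0, 0, 0, 0, 0, 0, 0, 4])])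

def maxPath_k19 : (List ℤ × List (ℕ × ℕ × List ℤ)) × List (ℕ × ℕ × List ℤ) × List ℤ × List (ℕ × ℕ × List ℤ) × List ℤ × List (ℕ × ℕ × List ℤ) :=
  ((rv_k19, chain_k19), [(1, 219552260036729006487935509664409664, [2, 2, 2, 0, 0, 2, 4, 0, 2, 0, 2, 0, 0, 4, 0, 0, 0, 0, 0, 0, 0, 2, 2, 0]), (2, 16598305, [-2, 2, 2, 0, 0, -2, 4, 0, -2, 0, -2, 0, 0, 4, 0, 0, 0, 0, 0, 0, 0, -2, -2, 0])], [-2, 2, 2, 0, 0, -2, 4, 0, -2, 0, -2, 0, 0, 4, 0, 0, 0, 0, 0, 0, 0, -2, -2, 0], [(1, 170628552955807437802385255217770866, [0, 4, 0, -2, 0, -2, 0, 0, -2, 0, 0, 2, 2, 0, -2, 0, 0, -2, -2, 0, 0, 0, 0, 4]), (2, 1134148, [0, 4, 0, -2, 0, -2, 0, 0, -2, 0, 0, -2, 2, 0, 2, 0, 0, -2, -2, 0, 0, 0, 0, 4]), (0, 0, [-4, 0, -4, 0, 0, 0, 0, 0, 0, 0, 0, 0, -4, 0, -4,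 0, 0, 0, 0, 0, 0, 0, 0, 0]), (1, 689752035623002623737103964127298656, [-4, -4, 0, 0, 0, 0, 0, -4, 0, 0, 0, 0, 0, 0, 0, 0, 0, 0, 0, 0, 0, -4, 0, 0]), (2, 12903884, [-4, -4, 0, 0, 0, 0, 0, 4, 0, 0, 0, 0, 0, 0, 0, 0, 0, 0, 0, 0, 0, -4, 0, 0]), (0, 0, [0, 0, 4, 0, 0, 0, 0, -4, 0, 0, 0, 0, 0, 0, 0, 0, 0, 0, 0, 0, 0, 4, 0, 4]), (1, 477144491347695089491217979027889856, [0, 0, 0, -4, 0, 0, 0, 4, 0, 0, 0, 4, 0, 0, 0, 0, 0, 0, 4, 0, 0, 0, 0, 0]), (2, 13062145, [0, 0, 0, -4, 0, 0, 0, 4, 0, 0, 0, 4, 0, 0, 0, 0, 0, 0, -4, 0, 0, 0, 0, 0])], [0, 0, 0, -4, 0, 0, 0, 4, 0, 0, 0, 4, 0, 0, 0, 0, 0, 0, -4, 0, 0, 0, 0, 0], [(1, 149894958696457877292473963343000135, [-4, 4, 4, 0, 0, 0, 0, 0, 0, 0, 0, 0, 0, 0, 0, 0, 0, 0, 0, 0, 0, 0, 0, -4]), (2, 10305542,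 [-4, -4, -4, 0, 0, 0, 0, 0, 0, 0, 0, 0, 0, 0, 0, 0, 0, 0, 0, 0, 0, 0, 0, 4])])

def maxPath_k20 : (List ℤ × List (ℕ × ℕ × List ℤ)) × List (ℕ × ℕ × List ℤ) × List ℤ × List (ℕ × ℕ × List ℤ) × List ℤ × List (ℕ × ℕ × List ℤ) :=
  ((rv_k20, chain_k20), [(1, 130434006449505484705826323451909547, [0, 0, 4, 2, 0, 2, 0, 0, 0, 0, 2, 2, 0, 2, 4, 0, 0, 2, 0, 2, 0, 0, 0, 2]), (2, 3270100, [0, 0, -4, 2, 0, 2, 0, 0, 0, 0, -2, 2, 0, -2, -4, 0, 0, 2, 0, 2, 0, 0, 0, 2])], [0, 0, -4, 2, 0, 2, 0, 0, 0, 0, -2, 2, 0, -2, -4, 0, 0, 2, 0, 2, 0, 0, 0, 2], [(1, 540577162745170812702974585256759786, [0, 0, 0, 0, 2, 0, 2, -2, 0, -4, 0, 0, 0, 2, 0, 0, 2, 0, 0, -2, -4, 2, 2, 0]), (2, 1448063, [0, 0, 0, 0, -2, 0, -2, -2, 0, -4, 0, 0, 0, 2, 0, 0, 2, 0, 0, -2,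 4, 2, 2, 0]), (0, 0, [0, 0, 0, 0, 4, 0, 0, 0, 0, 4, 0, 0, 0, 0, 0, 0, 0, 0, 0, 0, -4, -4, 0, 0]), (1, 1647554993253964916374737161470242, [0, 0, 0, 0, 0, 0, 0, 0, -4, 0, 0, 4, 0, 0, 0, 0, 0, 0, 0, -4, 0, 4, 0, 0]), (2, 10350689, [0, 0, 0, 0, 0, 0, 0, 0, -4, 0, 0, 4, 0, 0, 0, 0, 0, 0, 0, 4, 0, 4, 0, 0]), (0, 0, [0, 0, 0, 0, 0, 0, 4, 4, 4, 0, 0, -4, 0, 0, 0, 0, 0, 0, 0, 0, 0, 0, 0, 0]), (1, 4384458875472214385511754829968598, [0, 0, 0, 0, 4, 0, 0, 0, -4, 0, 0, 4, 0, 0, 0, 0, 0, 0, 0, 4, 0, 0, 0, 0])], [0, 0, 0, 0, 4, 0, 0, 0, -4, 0, 0, 4, 0, 0, 0, 0, 0, 0, 0, 4, 0, 0, 0, 0], [(1, 928513150116061572221865685372186738, [4, -4, 4, 0, 0, 0, 0, 0, 0, 0, 0, 0, 0, 0, 0, 0, 0, 0, 0, 0, 0, 0, 0, 4]), (2, 1302533, [-4, -4, -4, 0, 0, 0, 0,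 0, 0, 0, 0, 0, 0, 0, 0, 0, 0, 0, 0, 0, 0, 0, 0, 4])])

def maxPath_k21 : (List ℤ × List (ℕ × ℕ × List ℤ)) × List (ℕ × ℕ × List ℤ) × List ℤ × List (ℕ × ℕ × List ℤ) × List ℤ × List (ℕ × ℕ × List ℤ) :=
  ((rv_k21, chain_k21), [(1, 18339189483468443191676388659405386, [2, 0, 0, 0, 4, 2, 0, 0, 2, 2, 2, 0, 0, 0, 0, 0, 0, 2, 2, 0, 0, 0, 4, 2]), (2, 14392999, [-2, 0, 0, 0, 4, -2, 0, 0, 2, -2, -2, 0, 0, 0, 0, 0, 0, -2, 2, 0, 0, 0, -4, -2])], [-2, 0, 0, 0, 4, -2, 0, 0, 2, -2, -2, 0, 0, 0, 0, 0, 0, -2, 2, 0, 0, 0, -4, -2], [(1, 304453516666031739237517873132442288, [-2, 2, 0, 0, 0, 0, -2, -2, 2, 0, -4, 0, -2, 0, 4, 0, -2, 0, 0, 0, 0, 0, -2, 0]), (2, 165759, [2, -2, 0, 0, 0, 0, 2, -2, -2, 0, 4, 0, -2, 0, 4, 0, -2, 0, 0, 0, 0, 0, -2, 0]), (0,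 0, [2, -2, 0, 2, -2, 2, -2, 2, 0, 2, -2, -2, 0, -2, -2, 2, 0, 2, -2, 0, 2, 0, 0, 0]), (1, 293612029082371455421234610904911375, [0, 0, 0, 2, 2, 2, 0, 0, 2, 2, 2, -2, -2, -2, -2, 2, -2, 2, -2, 0, -2, 0, -2, 0]), (2, 11246644, [0, 0, 0, 2, -2, -2, 0, 0, 2, 2, -2, 2, 2, -2, -2, -2, 2, -2, -2, 0, -2, 0, -2, 0]), (0, 0, [0, 0, 0, -4, 0, 0, 0, 0, 0, -4, 0, 0, 0, 0, 0, 0, -4, 0, 4, 0, 0, 0, 0, 0]), (1, 18279659395866097040989981114936630, [0, 0, 0, 0, 0, -4, 0, 0, 0, 0, 0, 0, 0, 0, 0, 4, -4, -4, 0, 0, 0, 0, 0, 0])], [0, 0, 0, 0, 0, -4, 0, 0, 0, 0, 0, 0, 0, 0, 0, 4, -4, -4, 0, 0, 0, 0, 0, 0], [(1, 475285646519968237060969255046173809, [-4, 4, -4, 0, 0, 0, 0, 0, 0, 0, 0, 0, 0, 0, 0, 0, 0, 0, 0, 0, 0, 0, 0, -4]), (2, 13811730, [-4, -4, -4,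 0, 0, 0, 0, 0, 0, 0, 0, 0, 0, 0, 0, 0, 0, 0, 0, 0, 0, 0, 0, 4])])

def maxPath_k22 : (List ℤ × List (ℕ × ℕ × List ℤ)) × List (ℕ × ℕ × List ℤ) × List ℤ × List (ℕ × ℕ × List ℤ) × List ℤ × List (ℕ × ℕ × List ℤ) :=
  ((rv_k22, chain_k22), [(1, 693928597996243416889721167435447021, [0, 0, 2, 0, 0, 2, 0, 0, 4, 0, 0, 2, 2, 2, 2, 0, 2, 0, 0, 0, 0, 0, 4, 2]), (2, 9728366, [0, 0, -2, 0, 0, -2, 0, 0, -4, 0, 0, 2, -2, -2, -2, 0, 2, 0, 0, 0, 0, 0, 4, -2])], [0, 0, -2, 0, 0, -2, 0, 0, -4, 0, 0, 2, -2, -2, -2, 0, 2, 0, 0, 0, 0, 0, 4, -2], [(1, 224959150192452902786519343437498828, [-2, 0, 2, -2, 0, -2, -2, 2, -2, 0, 0, 0, 0, 4, 0, 0, 0, 0, -2, 0, -4, 0, 0, 0]), (2, 6795527, [2, 0, -2, -2, 0, -2, -2, 2, 2, 0, 0, 0, 0, -4, 0, 0, 0, 0, 2, 0, -4,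 0, 0, 0]), (0, 0, [2, 0, -2, 0, -2, 0, 2, -2, 0, -2, -2, 2, 2, 2, -2, -2, -2, -2, 0, 0, 2, 0, -2, 0]), (1, 926485264675170403783589636893391274, [0, 0, 0, 2, 0, -2, -2, 2, 2, -2, 2, -2, -2, 0, -2, 2, 0, -2, -2, -2, 2, -2, 0, 0]), (2, 3210840, [0, 0, 0, -2, 0, -2, 2, 2, 2, 2, -2, 2, 2, 0, 2, -2, 0, -2, -2, -2, -2, 2, 0, 0]), (0, 0, [0, 0, 0, 0, 0, 0, 0, 0, 0, -4, 0, 0, 0, 0, -4, 0, 0, 0, 4, 4, 0, 0, 0, 0]), (1, 921841040779540204408771860564877408, [0, -4, 0, 0, 0, 0, 0, 0, 0, -4, 0, 4, 0, 0, 4, 0, 0, 0, 0, 0, 0, 0, 0, 0]), (2, 13062145, [0, -4, 0, 0, 0, 0, 0, 0, 0, -4, 0, 4, 0, 0, -4, 0, 0, 0, 0, 0, 0, 0, 0, 0])], [0, -4, 0, 0, 0, 0, 0, 0, 0, -4, 0, 4, 0, 0, -4, 0, 0, 0, 0, 0, 0, 0, 0, 0], [(1, 672709784408715932246986001725118475,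 [-4, -4, 4, 0, 0, 0, 0, 0, 0, 0, 0, 0, 0, 0, 0, 0, 0, 0, 0, 0, 0, 0, 0, -4]), (2, 13938692, [-4, -4, -4, 0, 0, 0, 0, 0, 0, 0, 0, 0, 0, 0, 0, 0, 0, 0, 0, 0, 0, 0, 0, 4])])

def maxPath_ltwelve : (List ℤ × List (ℕ × ℕ × List ℤ)) × List (ℕ × ℕ × List ℤ) × List ℤ × List (ℕ × ℕ × List ℤ) × List ℤ × List (ℕ × ℕ × List ℤ) :=
  ((rv_ltwelve, chain_ltwelve), [(1, 688069937011565480156816372833235264, [4, 0, 2, 0, 0, -2, 0, 2, 0, 0, 0, 2, 0, 2, 0, 2, 2, 2, 2, 2, 2, 0, 0, 2]), (2, 15973163, [-4, 0, 2, 0, 0, 2, 0, 2, 0, 0, 0, -2, 0, -2, 0, -2, -2, -2, 2, 2, -2, 0, 0, -2])], [-4, 0, 2, 0, 0, 2, 0, 2, 0, 0, 0, -2, 0, -2, 0, -2, -2, -2, 2, 2, -2, 0, 0, -2], [(1, 388386213300816235632005359509868079, [0, -2, 0, 2, 0, 0, 0, 0, 0, -2, -2, 0, 2,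 0, -2, -4, 2, 0, -2, -2, 0, 2, 2, -2]), (2, 1797657, [0, -2, 0, -2, 0, 0, 0, 0, 0, 2, 2, 0, 2, 0, 2, -4, -2, 0, -2, 2, 0, 2, 2, -2]), (0, 0, [2, 0, 2, 2, 0, 0, 2, 2, 0, -2, -2, 0, -2, 0, -2, 4, 2, 0, 2, 0, 0, 0, -2, 0]), (1, 978099145646062172933227967164984738, [0, 2, 2, 4, 0, 0, 0, -2, 2, -2, 0, 2, 2, 0, 2, -2, 0, -2, -2, 0, 0, 2, 0, 0]), (2, 15945135, [0, -2, -2, -4, 0, 0, 0, 2, -2, -2, 0, -2, 2, 0, -2, -2, 0, 2, -2, 0, 0, -2, 0, 0]), (0, 0, [2, 0, 0, 2, 0, -2, 0, -2, 0, 0, -2, 0, -4, 0, 0, 0, 0, -4, 0, 0, -2, 2, 0, 2]), (1, 901113696754428573639497334770476051, [0, 0, 0, 2, 0, -2, 2, -2, 0, 0, -4, 0, 0, 0, -2, 0, 0, -2, 0, 2, -4, 2, 0, 0]), (2, 14944447, [0, 0, 0, -2, 0, 2, 2, 2, 0, 0, -4, 0, 0, 0, -2, 0, 0, -2, 0, 2, -4, -2,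 0, 0]), (0, 0, [0, 0, 0, 0, 0, -4, 0, 0, 0, -4, 0, 0, 0, 0, 0, -4, 0, 0, 0, 0, 0, 4, 0, 0]), (1, 13048822933382021561585881675256075, [0, 4, 0, 0, -4, 0, 0, 0, 0, 0, 0, 0, 0, 0, 0, 0, 0, 0, -4, 0, 0, 0, 0, -4])], [0, 4, 0, 0, -4, 0, 0, 0, 0, 0, 0, 0, 0, 0, 0, 0, 0, 0, -4, 0, 0, 0, 0, -4], [(1, 966153060135120545243850587801553930, [4, -4, -4, 0, 0, 0, 0, 0, 0, 0, 0, 0, 0, 0, 0, 0, 0, 0, 0, 0, 0, 0, 0, -4]), (2, 13062145, [-4, -4, -4, 0, 0, 0, 0, 0, 0, 0, 0, 0, 0, 0, 0, 0, 0, 0, 0, 0, 0, 0, 0, 4])])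

def maxPath_five33 : (List ℤ × List (ℕ × ℕ × List ℤ)) × List (ℕ × ℕ × List ℤ) × List ℤ × List (ℕ × ℕ × List ℤ) × List ℤ × List (ℕ × ℕ × List ℤ) :=
  ((rv_five33, chain_five33), [(1, 806775139074306127535414504745221321, [1, 1, 1, 1, 1, 1, -3, 1, 1, -3, 1, 1, 1, 1, 1, 1, 1, 1, 1, 5, 1, 1, 1, 1]), (2, 14832023, [-1, -1, -1, 1, -1, 1, -3, -1, -1, -3, 1, 1, -1, 1, -1, 1, 1, -1, 1, 5, 1, -1, -1, -1])], [-1, -1, -1, 1, -1, 1, -3, -1, -1, -3, 1, 1, -1, 1, -1, 1, 1, -1, 1, 5, 1, -1, -1, -1], [(1, 555011886277538101037898730337686020, [-3, 1, -1, 1, -1, 5, -3, 1, 1, 1, -1, -1, -1, -1, -1, -1, -1, 1, -1, -1, -1, 1, 1, 1]), (2, 5329044, [-3, 1, 1, 1, 1, 5, -3, -1, 1, 1, -1, -1, 1, -1, 1, -1, 1, 1, -1, -1, 1, 1, -1, 1]), (0, 0, [-3, 1, 1,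 3, -1, -1, 1, -1, -1, -1, 1, 1, -1, 1, 3, 1, -1, 3, 1, -1, -1, -3, 1, 1]), (1, 228525240985823469872818057874841934, [1, -3, 3, 1, -1, 1, -1, -1, 1, 1, 1, -1, -1, 3, -3, 1, 1, 3, -1, -1, -1, 1, -1, 1]), (2, 11689068, [1, -3, -3, -1, -1, -1, 1, -1, 1, 1, -1, 1, 1, 3, 3, 1, 1, -3, -1, -1, 1, -1, -1, -1]), (0, 0, [4, 0, 0, 0, 2, 0, -2, 0, 0, 0, 2, 0, 0, -2, -4, 0, 0, 2, 2, 0, 0, 0, 2, 2]), (1, 644196729981010970168728940336668231, [0, 0, 0, 0, 2, 0, -4, 4, 0, -2, 2, 0, 0, -2, 0, 2, 2, 0, 0, 0, 2, 0, 2, 0]), (2, 2141072, [0, 0, 0, 0, -2, 0, -4, -4, 0, 2, 2, 0, 0, 2, 0, -2, 2, 0, 0, 0, 2, 0, 2, 0]), (0, 0, [0, 0, 0, 0, 4, 0, 0, 0, 0, 0, 0, 0, 0, 0, 0, 4, 0, 0, 0, -4, 0, -4, 0, 0]), (1, 17146375821753298957593184159761905, [0, 0, 0,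 -4, 0, 0, -4, 0, 0, 4, 0, 0, 0, 0, 0, 0, 0, 0, 0, 4, 0, 0, 0, 0]), (2, 13062145, [0, 0, 0, -4, 0, 0, -4, 0, 0, 4, 0, 0, 0, 0, 0, 0, 0, 0, 0, 4, 0, 0, 0, 0])], [0, 0, 0, -4, 0, 0, -4, 0, 0, 4, 0, 0, 0, 0, 0, 0, 0, 0, 0, 4, 0, 0, 0, 0], [(1, 671723918818019628036024146159740516, [-4, -4, 4, 0, 0, 0, 0, 0, 0, 0, 0, 0, 0, 0, 0, 0, 0, 0, 0, 0, 0, 0, 0, 4]), (2, 5210132, [-4, -4, -4, 0, 0, 0, 0, 0, 0, 0, 0, 0, 0, 0, 0, 0, 0, 0, 0, 0, 0, 0, 0, 4])])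

def maxPath_threes5 : (List ℤ × List (ℕ × ℕ × List ℤ)) × List (ℕ × ℕ × List ℤ) × List ℤ × List (ℕ × ℕ × List ℤ) × List ℤ × List (ℕ × ℕ × List ℤ) :=
  ((rv_threes5, chain_threes5), [(1, 383725786176059917553796875313786954, [1, -3, -3, 1, 1, 1, 1, 1, 1, -3, -3, 1, -3, 1, 1, 1, 1, 1, 1, 1, 1, 1, 1, 1]), (2, 12624578, [1, 3, -3, 1, 1, 1, -1, -1, 1, 3, -3, 1, -3, -1, 1, -1, 1, 1, 1, 1, 1, 1, -1, -1])], [1, 3, -3, 1, 1, 1, -1, -1, 1, 3, -3, 1, -3, -1, 1, -1, 1, 1, 1, 1, 1, 1, -1, -1], [(1, 761207090393808585537824720548835595, [1, 1, 1, 1, -1, 1, 1, -3, 3, -1, -1, 1, -3, 1, 1, 1, 1, -3, -1, 3, 1, -1, -1, 1]), (2, 7783138, [1, -1, 1, 1, -1, -1, -1, 3, 3, 1, -1, 1, -3, 1, -1, -1, 1, 3, 1, 3, -1, 1, 1, 1]), (0, 0, [0, -2, 0, 0, 2, 2,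 4, 0, -2, -2, 0, 0, 4, 0, 2, 0, 0, -2, 0, 0, 0, 2, 0, 0]), (1, 861126876632218301059849325803275456, [0, 0, 0, 4, 2, 0, -2, 0, -2, 0, 0, 0, 2, 0, 2, 0, 0, -2, 0, -2, 0, 4, 2, 0]), (2, 14670249, [0, 0, 0, -4, 2, 0, -2, 0, 2, 0, 0, 0, -2, 0, -2, 0, 0, 2, 0, 2, 0, 4, -2, 0]), (0, 0, [0, 0, 0, 2, -2, -2, 4, 2, -2, 0, 0, 0, 2, 0, 0, 0, 0, -4, 0, 0, 0, -2, 2, 0]), (1, 938038137595164915510249332904673409, [0, 0, 0, -4, 0, 4, 0, 0, 2, -2, 2, 2, -2, 0, 0, -2, 0, 0, 2, 0, -2, 0, 0, 0]), (2, 2702848, [0, 0, 0, -4, 0, 4, 0, 0, 2, 2, -2, -2, 2, 0, 0, -2, 0, 0, 2, 0, -2, 0, 0, 0]), (0, 0, [0, 0, 0, 4, 0, -4, 0, 0, 0, -4, 0, 4, 0, 0, 0, 0, 0, 0, 0, 0, 0, 0, 0, 0]), (1, 925712256229237435926629535745138112, [0, 0, 0, 0, 0, -4, 0, 0, 0, 0, 4,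 4, -4, 0, 0, 0, 0, 0, 0, 0, 0, 0, 0, 0]), (2, 13062145, [0, 0, 0, 0, 0, -4, 0, 0, 0, 0, 4, 4, 4, 0, 0, 0, 0, 0, 0, 0, 0, 0, 0, 0])], [0, 0, 0, 0, 0, -4, 0, 0, 0, 0, 4, 4, 4, 0, 0, 0, 0, 0, 0, 0, 0, 0, 0, 0], [(1, 935156548822744747172136653034166889, [-4, 4, 4, 0, 0, 0, 0, 0, 0, 0, 0, 0, 0, 0, 0, 0, 0, 0, 0, 0, 0, 0, 0, 4]), (2, 421910, [-4, -4, -4, 0, 0, 0, 0, 0, 0, 0, 0, 0, 0, 0, 0, 0, 0, 0, 0, 0, 0, 0, 0, 4])])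

def maxPath_sx0 : (List ℤ × List (ℕ × ℕ × List ℤ)) × List (ℕ × ℕ × List ℤ) × List ℤ × List (ℕ × ℕ × List ℤ) × List ℤ × List (ℕ × ℕ × List ℤ) :=
  ((rv_sx0, chain_sx0), [(1, 96312611737374441219751927792851985, [0, 0, 0, 0, 2, 0, 2, 2, 2, 2, 2, 2, 2, 2, 0, 2, 2, 0, 2, 2, 2, 2, 2, 0]), (2, 16545683, [0, 0, 0, 0, -2, 0, 2, -2, -2, -2, -2, 2, -2, -2, 0, 2, 2, 0, -2, -2, -2, -2, -2, 0])], [0, 0, 0, 0, -2, 0, 2, -2, -2, -2, -2, 2, -2, -2, 0, 2, 2, 0, -2, -2, -2, -2, -2, 0], [(1, 791353877224775457400975463259741653, [2, -2, -2, 0, -2, 0, 0, 0, -2, -2, -2, -2, -2, 2, 0, -2, 2, 0, -2, 0, -2, 0, -2, 2]), (2, 8216682, [2, 2, -2, 0, -2, 0, 0, 0, -2, -2, -2, -2, -2, -2, 0, -2, -2, 0, 2, 0, 2, 0, 2, 2]), (0, 0, [0, 0, -4, 0, 0, 0, 0, 0, 0,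 0, 0, 0, 0, 0, 0, 0, 0, 0, -4, 0, -4, 0, -4, 0]), (1, 594805311485898249531415689302385709, [-4, 0, -4, 0, 0, 0, 0, 0, 0, -4, -4, 0, 0, 0, 0, 0, 0, 0, 0, 0, 0, 0, 0, 0]), (2, 13454845, [4, 0, 4, 0, 0, 0, 0, 0, 0, -4, 4, 0, 0, 0, 0, 0, 0, 0, 0, 0, 0, 0, 0, 0]), (0, 0, [0, -4, 0, 0, 0, 0, 0, 0, 0, 4, -4, 0, 0, 0, 0, 0, 0, 0, 0, 0, 0, 0, 0, -4]), (1, 984818244535754528103549039458486304, [0, -4, 0, 0, 0, 0, 0, 0, 0, 4, -4, 0, 0, 0, 0, 0, 0, 0, 0, 0, 0, 0, 0, -4])], [0, -4, 0, 0, 0, 0, 0, 0, 0, 4, -4, 0, 0, 0, 0, 0, 0, 0, 0, 0, 0, 0, 0, -4], [(1, 981571355772297344798190040461416469, [-4, 4, -4, 0, 0, 0, 0, 0, 0, 0, 0, 0, 0, 0, 0, 0, 0, 0, 0, 0, 0, 0, 0, -4]), (2, 13811730, [-4, -4, -4, 0, 0, 0, 0, 0, 0, 0, 0, 0, 0, 0, 0, 0, 0, 0,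 0, 0, 0, 0, 0, 4])])

def maxPath_sx1 : (List ℤ × List (ℕ × ℕ × List ℤ)) × List (ℕ × ℕ × List ℤ) × List ℤ × List (ℕ × ℕ × List ℤ) × List ℤ × List (ℕ × ℕ × List ℤ) :=
  ((rv_sx1, chain_sx1), [(1, 253144183987975854025669378017897708, [2, 2, -2, 2, 0, -2, 0, 0, 2, 0, 0, 0, 0, 2, 2, 2, 2, 2, 2, 2, 2, 2, 0, 2]), (2, 11729044, [2, 2, 2, 2, 0, -2, 0, 0, 2, 0, 0, 0, 0, -2, -2, -2, 2, -2, 2, 2, -2, -2, 0, -2])], [2, 2, 2, 2, 0, -2, 0, 0, 2, 0, 0, 0, 0, -2, -2, -2, 2, -2, 2, 2, -2, -2, 0, -2], [(1, 845168937496984166439818130773943439, [-2, -2, 2, -2, 2, 2, 0, 0, 0, 2, -2, 0, 0, 2, 2, 2, -2, -2, 0, 0, -2, 0, -2, 2]), (2, 7332001, [2, -2, 2, -2, 2, -2, 0, 0, 0, 2, -2, 0, 0, -2, -2, -2, 2, 2, 0, 0, -2, 0, 2, 2]), (0, 0, [0, -4, 0, 0, 0, 0,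 0, 0, 0, -4, 0, 0, 0, 4, 0, 0, 0, -4, 0, 0, 0, 0, 0, 0]), (1, 628974143951923539512165671627293319, [0, 0, 0, 0, 0, 0, 0, 0, -4, -4, 0, 4, 0, 0, 0, 0, 0, 0, 0, 0, -4, 0, 0, 0]), (2, 13024521, [0, 0, 0, 0, 0, 0, 0, 0, 4, -4, 0, -4, 0, 0, 0, 0, 0, 0, 0, 0, -4, 0, 0, 0]), (0, 0, [0, 0, 0, 0, 0, 0, 0, 0, -4, 0, -4, 4, 0, 0, 0, -4, 0, 0, 0, 0, 0, 0, 0, 0]), (1, 4384458875472214385511754829968598, [0, 0, 0, 0, -4, 0, 0, 0, 4, 0, -4, 0, 0, 0, 0, 0, 0, 0, 0, 0, -4, 0, 0, 0]), (2, 13062145, [0, 0, 0, 0, -4, 0, 0, 0, 4, 0, -4, 0, 0, 0, 0, 0, 0, 0, 0, 0, -4, 0, 0, 0])], [0, 0, 0, 0, -4, 0, 0, 0, 4, 0, -4, 0, 0, 0, 0, 0, 0, 0, 0, 0, -4, 0, 0, 0], [(1, 935130217771828498212643602906556685, [-4, 4, -4, 0, 0, 0, 0, 0, 0, 0, 0, 0, 0, 0, 0, 0,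 0, 0, 0, 0, 0, 0, 0, -4]), (2, 13811730, [-4, -4, -4, 0, 0, 0, 0, 0, 0, 0, 0, 0, 0, 0, 0, 0, 0, 0, 0, 0, 0, 0, 0, 4])])

def maxPath_sx2 : (List ℤ × List (ℕ × ℕ × List ℤ)) × List (ℕ × ℕ × List ℤ) × List ℤ × List (ℕ × ℕ × List ℤ) × List ℤ × List (ℕ × ℕ × List ℤ) :=
  ((rv_sx2, chain_sx2), [(1, 443377283988373029858780085003311489, [2, 0, 0, 2, -2, 2, 0, 2, 2, -2, 0, 2, 0, 2, 0, 2, 2, 2, 2, 2, 2, 2, 0, 0]), (2, 7023209, [-2, 0, 0, -2, -2, -2, 0, 2, 2, 2, 0, -2, 0, -2, 0, 2, -2, -2, 2, -2, 2, -2, 0, 0])], [-2, 0, 0, -2, -2, -2, 0, 2, 2, 2, 0, -2, 0, -2, 0, 2, -2, -2, 2, -2, 2, -2, 0, 0], [(1, 333160249743666076629059417584383340, [0, 2, 2, -2, 0, -2, 2, -2, 0, 2, -2, 0, -2, 0, 0, 2, -2, 0, -2, -2, 2, -2, -2, 0]), (2, 12347715, [0,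 -2, 2, -2, 0, -2, -2, -2, 0, 2, -2, 0, -2, 0, 0, 2, -2, 0, 2, 2, -2, 2, -2, 0]), (0, 0, [0, -2, 2, 0, -2, 0, 2, 2, 0, -2, 2, 0, 2, -2, -2, -2, 0, -2, -2, -2, 2, -2, 0, 0]), (1, 397521323933862991696758673838032500, [-2, -2, -2, -2, 2, 2, -2, -2, 0, 0, 0, 0, 0, -2, 2, 0, -2, 2, 0, -2, 0, 2, -2, 2]), (2, 2204803, [2, 2, -2, -2, 2, 2, -2, 2, 0, 0, 0, 0, 0, 2, 2, 0, 2, 2, 0, -2, 0, -2, -2, 2]), (0, 0, [0, 0, -4, 4, 0, 0, 0, -4, 0, 0, 0, 0, 0, 0, 0, 0, 0, 0, 0, 0, 0, 0, 4, 0]), (1, 13048822933382021561585881675256075, [0, 0, 0, 0, 0, 0, 0, 0, 0, 4, 4, 0, 0, -4, 0, 0, 0, 0, 0, 0, -4, 0, 0, 0])], [0, 0, 0, 0, 0, 0, 0, 0, 0, 4, 4, 0, 0, -4, 0, 0, 0, 0, 0, 0, -4, 0, 0, 0], [(1, 638155218748452052886995437042634919, [4, 4, -4, 0, 0, 0, 0,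 0, 0, 0, 0, 0, 0, 0, 0, 0, 0, 0, 0, 0, 0, 0, 0, -4]), (2, 9347075, [-4, -4, -4, 0, 0, 0, 0, 0, 0, 0, 0, 0, 0, 0, 0, 0, 0, 0, 0, 0, 0, 0, 0, 4])])

def maxPath_sx3 : (List ℤ × List (ℕ × ℕ × List ℤ)) × List (ℕ × ℕ × List ℤ) × List ℤ × List (ℕ × ℕ × List ℤ) × List ℤ × List (ℕ × ℕ × List ℤ) :=
  ((rv_sx3, chain_sx3), [(1, 139489836532823700278223244934939831, [2, 0, 2, 0, 2, 0, -2, 2, 0, 2, 2, -2, 2, 2, 2, 2, 2, 2, 0, 0, 2, 0, 2, 0]), (2, 14059292, [2, 0, -2, 0, -2, 0, -2, 2, 0, -2, -2, -2, 2, 2, 2, -2, 2, -2, 0, 0, -2, 0, -2, 0])], [2, 0, -2, 0, -2, 0, -2, 2, 0, -2, -2, -2, 2, 2, 2, -2, 2, -2, 0, 0, -2, 0, -2, 0], [(1, 624829269200900777492666574388413742, [-2, -2, -2, -2, 2, 2, 2, -2, 0, 0, 0, 0, 0, -2, 2, 0, -2, -2, 0, 2, 0, -2,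 2, -2]), (2, 11335598, [-2, 2, 2, 2, 2, -2, 2, 2, 0, 0, 0, 0, 0, 2, -2, 0, -2, -2, 0, -2, 0, 2, 2, 2]), (0, 0, [-4, 0, 0, -4, 0, 0, 0, 0, 0, 0, 0, 0, 0, 0, 0, 0, 4, 0, 0, 4, 0, 0, 0, 0]), (1, 872649461661388191791173670221762850, [0, 4, -4, -4, 0, 0, 0, 0, 0, 0, 0, 0, 0, 0, 0, 0, 0, 4, 0, 0, 0, 0, 0, 0]), (2, 2530661, [0, 4, 4, -4, 0, 0, 0, 0, 0, 0, 0, 0, 0, 0, 0, 0, 0, -4, 0, 0, 0, 0, 0, 0]), (0, 0, [-4, 0, 0, 0, 0, -4, 0, 0, 0, 0, 0, 0, 0, 0, -4, 0, 0, 0, 0, 0, 0, 0, 0, -4]), (1, 29492376736006929088146330296305131, [-4, 0, 0, 0, 0, 0, 0, 0, 0, 0, -4, -4, 0, -4, 0, 0, 0, 0, 0, 0, 0, 0, 0, 0]), (2, 13062145, [4, 0, 0, 0, 0, 0, 0, 0, 0, 0, -4, -4, 0, -4, 0, 0, 0, 0, 0, 0, 0, 0, 0, 0])], [4, 0, 0, 0, 0, 0, 0, 0, 0, 0, -4, -4, 0,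 -4, 0, 0, 0, 0, 0, 0, 0, 0, 0, 0], [(1, 309639214696898173066544907757399616, [4, -4, -4, 0, 0, 0, 0, 0, 0, 0, 0, 0, 0, 0, 0, 0, 0, 0, 0, 0, 0, 0, 0, -4]), (2, 13062145, [-4, -4, -4, 0, 0, 0, 0, 0, 0, 0, 0, 0, 0, 0, 0, 0, 0, 0, 0, 0, 0, 0, 0, 4])])

def maxPath_sx4 : (List ℤ × List (ℕ × ℕ × List ℤ)) × List (ℕ × ℕ × List ℤ) × List ℤ × List (ℕ × ℕ × List ℤ) × List ℤ × List (ℕ × ℕ × List ℤ) :=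
  ((rv_sx4, chain_sx4), [(1, 5976587673938920929084467469600811, [0, 0, 0, 2, 2, 2, -2, -2, 0, 2, 2, 0, 0, 2, 2, 2, 2, 2, 0, 2, 2, 2, 2, 0]), (2, 9875698, [0, 0, 0, 2, -2, -2, 2, 2, 0, 2, 2, 0, 0, -2, 2, -2, 2, -2, 0, 2, -2, 2, 2, 0])], [0, 0, 0, 2, -2, -2, 2, 2, 0, 2, 2, 0, 0, -2, 2, -2, 2, -2, 0, 2, -2, 2, 2, 0], [(1, 680446525227562939327986478952241293, [2, -2, 2, 0, 0, 0, 2, 2, -2, -2, -2, 2, 2, 0, 0, 2, 0, 0, -2, 2, 2, 2, 0, -2]), (2, 13267995, [-2, 2, 2, 0, 0, 0, 2, 2, -2, -2, 2, 2, -2, 0, 0, 2, 0, 0, -2, -2, 2, 2, 0, 2]), (0, 0, [-4, 0, 0, 0, 0, 0, 0, 0, 0, 4, 0, -4, 0, 0, 0, 0, 0, 0, 0, 4, 0, 0, 0, 0]), (1, 849854974808173436351140149487508901, [0, 0, 0, 4, 0, -4, 0, 0, -4, 0, 0, 4, 0, 0, 0, 0, 0, 0, 0, 0, 0, 0, 0, 0]),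 (2, 6033356, [0, 0, 0, -4, 0, -4, 0, 0, 4, 0, 0, -4, 0, 0, 0, 0, 0, 0, 0, 0, 0, 0, 0, 0]), (0, 0, [0, 0, 0, 0, 0, 0, 0, 0, -4, 0, 0, 4, 0, 0, -4, 0, 0, -4, 0, 0, 0, 0, 0, 0]), (1, 18279659395866097040989981114936630, [0, 0, 0, 0, 0, 0, 0, 0, -4, 0, 0, 0, 0, 0, 0, 0, 0, 0, -4, 0, 0, -4, 0, 4])], [0, 0, 0, 0, 0, 0, 0, 0, -4, 0, 0, 0, 0, 0, 0, 0, 0, 0, -4, 0, 0, -4, 0, 4], [(1, 984039489954188206012366805728040420, [-4, -4, -4, 0, 0, 0, 0, 0, 0, 0, 0, 0, 0, 0, 0, 0, 0, 0, 0, 0, 0, 0, 0, 4])])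

def maxPath_sx5 : (List ℤ × List (ℕ × ℕ × List ℤ)) × List (ℕ × ℕ × List ℤ) × List ℤ × List (ℕ × ℕ × List ℤ) × List ℤ × List (ℕ × ℕ × List ℤ) :=
  ((rv_sx5, chain_sx5), [(1, 599328297286293970238087000934981969, [0, 0, 2, 2, 2, 2, -2, 2, 0, 2, 0, 2, 0, 2, 0, 0, 2, 0, 2, 2, 2, -2, 2, 2]), (2, 2564625, [0, 0, 2, 2, -2, 2, -2, 2, 0, -2, 0, 2, 0, -2, 0, 0, -2, 0, -2, 2, 2, 2, 2, 2])], [0, 0, 2, 2, -2, 2, -2, 2, 0, -2, 0, 2, 0, -2, 0, 0, -2, 0, -2, 2, 2, 2, 2, 2], [(1, 689522460895181541193179946957593041, [-2, 2, -2, 0, 2, 0, 2, -2, 0, -2, 2, 0, 0, 2, 0, 2, 2, 0, 0, 2, -2, -2, 2, 2]), (2, 7479572, [-2, 2, 2, 0, -2, 0, 2, -2, 0, -2, 2, 0, 0, -2, 0, 2, 2, 0, 0, 2, 2, 2, -2, 2]), (0, 0, [-4, 0, 0, 0, 0, 0, 0, 4, 0, 4, 0, 0, 0, 0, 0, 0,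 -4, 0, 0, 0, 0, 0, 0, 0]), (1, 438999698971226100627740850196323825, [4, -4, 0, 0, 0, 0, 0, 0, 0, 0, 0, 0, 0, 0, 4, 0, 0, -4, 0, 0, 0, 0, 0, 0]), (2, 45159, [-4, 4, 0, 0, 0, 0, 0, 0, 0, 0, 0, 0, 0, 0, 4, 0, 0, -4, 0, 0, 0, 0, 0, 0]), (0, 0, [-4, 4, 0, 0, 0, 0, 0, 0, 0, 0, 0, 0, 0, 0, -4, 0, 0, 4, 0, 0, 0, 0, 0, 0]), (1, 29492376736006929088146330296305131, [0, 0, 0, 0, 0, 0, 4, 0, 0, 0, -4, -4, 0, 0, 0, 4, 0, 0, 0, 0, 0, 0, 0, 0]), (2, 13062145, [0, 0, 0, 0, 0, 0, 4, 0, 0, 0, -4, -4, 0, 0, 0, 4, 0, 0, 0, 0, 0, 0, 0, 0])], [0, 0, 0, 0, 0, 0, 4, 0, 0, 0, -4, -4, 0, 0, 0, 4, 0, 0, 0, 0, 0, 0, 0, 0], [(1, 843881626485764110924236985611039094, [4, -4, -4, 0, 0, 0, 0, 0, 0, 0, 0, 0, 0, 0, 0, 0, 0, 0, 0, 0, 0, 0, 0, 4]), (2, 6053905,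 [-4, -4, -4, 0, 0, 0, 0, 0, 0, 0, 0, 0, 0, 0, 0, 0, 0, 0, 0, 0, 0, 0, 0, 4])])

def maxPath_sx6 : (List ℤ × List (ℕ × ℕ × List ℤ)) × List (ℕ × ℕ × List ℤ) × List ℤ × List (ℕ × ℕ × List ℤ) × List ℤ × List (ℕ × ℕ × List ℤ) :=
  ((rv_sx6, chain_sx6), [(1, 459830803586374734446911912195186150, [0, 0, 2, 2, 2, 2, 0, -2, 2, 2, 2, 0, -2, 2, 0, 0, 0, 2, 2, 2, 2, 2, 2, 0]), (2, 52005, [0, 0, -2, 2, 2, -2, 0, -2, -2, -2, 2, 0, -2, 2, 0, 0, 0, 2, 2, 2, 2, 2, 2, 0])], [0, 0, -2, 2, 2, -2, 0, -2, -2, -2, 2, 0, -2, 2, 0, 0, 0, 2, 2, 2, 2, 2, 2, 0], [(1, 726092881277270949283457701878893732, [0, 0, -2, -2, 0, 0, 2, -2, -2, 2, 0, 2, 2, 0, -2, 2, 2, 0, 2, 2, 0, 2, 2, -2]), (2, 12604486, [0, 0, 2, -2, 0, 0, -2, -2, -2, 2, 0, 2, -2, 0, 2, 2, 2, 0,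 2, 2, 0, 2, -2, 2]), (0, 0, [-2, -2, 0, 2, 0, 0, 2, 2, 2, 0, 2, -2, 2, 0, -2, 0, -2, 0, -2, -2, 2, -2, 2, 0]), (1, 174012167039538050503817055999115284, [-2, -2, 2, 0, 0, 0, 2, -2, 2, 2, -2, -2, -2, 0, 0, 2, 0, 0, 2, 2, -2, -2, 0, 2]), (2, 8043415, [2, 2, -2, 0, 0, 0, 2, 2, -2, -2, -2, 2, 2, 0, 0, -2, 0, 0, 2, -2, 2, 2, 0, 2]), (0, 0, [0, 0, -4, 0, 0, 0, 0, 0, 4, 0, 0, 0, 0, 0, 0, 0, 0, 0, 0, 4, -4, 0, 0, 0]), (1, 29128872078062367489448666720552297, [0, 0, -4, 0, 0, 4, 0, 0, 0, 0, 0, 0, 0, 0, 0, 0, 0, -4, 0, 0, 4, 0, 0, 0]), (2, 13062145, [0, 0, -4, 0, 0, 4, 0, 0, 0, 0, 0, 0, 0, 0, 0, 0, 0, 4, 0, 0, 4, 0, 0, 0])], [0, 0, -4, 0, 0, 4, 0, 0, 0, 0, 0, 0, 0, 0, 0, 0, 0, 4, 0, 0, 4, 0, 0, 0], [(1, 187236520905169857589319588104405493,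 [-4, 4, 4, 0, 0, 0, 0, 0, 0, 0, 0, 0, 0, 0, 0, 0, 0, 0, 0, 0, 0, 0, 0, 4]), (2, 421910, [-4, -4, -4, 0, 0, 0, 0, 0, 0, 0, 0, 0, 0, 0, 0, 0, 0, 0, 0, 0, 0, 0, 0, 4])])

def maxPath_sx7 : (List ℤ × List (ℕ × ℕ × List ℤ)) × List (ℕ × ℕ × List ℤ) × List ℤ × List (ℕ × ℕ × List ℤ) × List ℤ × List (ℕ × ℕ × List ℤ) :=
  ((rv_sx7, chain_sx7), [(1, 552562839720462165839792641586846212, [2, 2, 2, 2, 0, 2, 2, 2, 0, 2, -2, 0, 0, 0, 2, -2, 0, 2, 0, 2, 2, 2, 0, 2]), (2, 13869276, [2, 2, -2, -2, 0, 2, -2, -2, 0, 2, -2, 0, 0, 0, 2, 2, 0, -2, 0, 2, -2, 2, 0, -2])], [2, 2, -2, -2, 0, 2, -2, -2, 0, 2, -2, 0, 0, 0, 2, 2, 0, -2, 0, 2, -2, 2, 0, -2], [(1, 601309151234307551644164636245497227, [0, 0, -2, -2, 0, -2, 0, 2, -2, 2, 0, 2, 2, -2, -2, 0, 2,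 2, 2, 0, -2, -2, 0, 2]), (2, 16579157, [0, 0, 2, -2, 0, -2, 0, 2, -2, -2, 0, -2, -2, 2, 2, 0, 2, 2, -2, 0, 2, 2, 0, -2]), (0, 0, [0, 0, 2, 2, 2, 2, 2, 0, -2, 2, 0, -2, -2, 0, -2, 0, 0, -2, -2, 2, -2, 0, 2, -2]), (1, 483171450319598337509173049347551926, [-2, 2, 2, -2, 0, -2, 0, 0, 2, -2, -2, -2, 2, 0, 2, 2, 0, 2, -2, 0, 2, 0, 0, -2]), (2, 13832379, [2, -2, 2, 2, 0, 2, 0, 0, 2, -2, -2, -2, -2, 0, 2, 2, 0, -2, -2, 0, -2, 0, 0, 2]), (0, 0, [0, -4, 0, 0, 0, 0, 0, 0, -4, 0, 0, 0, 0, 0, 0, -4, 0, 4, 0, 0, 0, 0, 0, 0]), (1, 29492376736006929088146330296305131, [0, 0, 0, 0, -4, 0, 4, 0, 0, 0, 0, 0, 0, 0, 0, -4, -4, 0, 0, 0, 0, 0, 0, 0]), (2, 13062145, [0, 0, 0, 0, -4, 0, 4, 0, 0, 0, 0, 0, 0, 0, 0, -4, 4, 0, 0, 0, 0, 0, 0, 0])], [0, 0,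 0, 0, -4, 0, 4, 0, 0, 0, 0, 0, 0, 0, 0, -4, 4, 0, 0, 0, 0, 0, 0, 0], [(1, 348658631653541220682630492947260847, [-4, 4, -4, 0, 0, 0, 0, 0, 0, 0, 0, 0, 0, 0, 0, 0, 0, 0, 0, 0, 0, 0, 0, 4]), (2, 4845570, [-4, -4, -4, 0, 0, 0, 0, 0, 0, 0, 0, 0, 0, 0, 0, 0, 0, 0, 0, 0, 0, 0, 0, 4])])

def maxPath_sx8 : (List ℤ × List (ℕ × ℕ × List ℤ)) × List (ℕ × ℕ × List ℤ) × List ℤ × List (ℕ × ℕ × List ℤ) × List ℤ × List (ℕ × ℕ × List ℤ) :=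
  ((rv_sx8, chain_sx8), [(1, 357644918812817452313680253141062948, [2, 0, 2, 2, 0, 0, 2, -2, 0, 0, 2, -2, 2, 2, 0, 2, 2, 0, 2, 2, 2, 0, 2, 2]), (2, 14003080, [2, 0, 2, -2, 0, 0, 2, 2, 0, 0, 2, 2, 2, -2, 0, -2, -2, 0, -2, 2, -2, 0, -2, -2])], [2, 0, 2, -2, 0, 0, 2, 2, 0, 0, 2, 2, 2, -2, 0, -2, -2, 0, -2, 2, -2, 0, -2, -2], [(1, 890910363342215726296432287820569190, [0, 2, 2, 2, 0, 2, 2, 0, -2, 0, 0, 2, -2, 0, -2, -2, -2, 2, -2, 0, -2, -2, 2, 0]), (2, 12775064, [0, 2, 2, -2, 0, 2, 2, 0, -2, 0, 0, -2, -2, 0, 2, 2, -2, -2, -2, 0, -2, -2, -2, 0]), (0, 0, [-2, 0, 0, 2, -2, -2, -2, 0, -2, 0, 0, -2, -2, -2, -2, -2, 0, 2, -2, 0, 2, 2, 0, -2]), (1, 51326160195775815657898370894533135, [2, -2, -2, -2, 0, -2, 0, 0, -2, 2, -2, -2, 2, 0, -2,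 -2, 0, 2, -2, 0, -2, 0, 0, -2]), (2, 8452849, [-2, -2, -2, -2, 0, 2, 0, 0, -2, -2, -2, 2, -2, 0, 2, 2, 0, 2, -2, 0, -2, 0, 0, 2]), (0, 0, [0, 0, 0, 4, 0, 0, 0, 0, 0, 0, 0, -4, 0, 0, 0, -4, 0, 0, 0, 0, 0, 0, 0, 4]), (1, 15200453133970992512463437727114799, [4, 0, 0, 0, 0, 0, 0, 0, 0, 0, 0, 0, 0, 0, -4, 0, 0, 0, -4, 4, 0, 0, 0, 0])], [4, 0, 0, 0, 0, 0, 0, 0, 0, 0, 0, 0, 0, 0, -4, 0, 0, 0, -4, 4, 0, 0, 0, 0], [(1, 483430879477844740526025590140754528, [4, -4, -4, 0, 0, 0, 0, 0, 0, 0, 0, 0, 0, 0, 0, 0, 0, 0, 0, 0, 0, 0, 0, 4]), (2, 6053905, [-4, -4, -4, 0, 0, 0, 0, 0, 0, 0, 0, 0, 0, 0, 0, 0, 0, 0, 0, 0, 0, 0, 0, 4])])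

def maxPath_sx9 : (List ℤ × List (ℕ × ℕ × List ℤ)) × List (ℕ × ℕ × List ℤ) × List ℤ × List (ℕ × ℕ × List ℤ) × List ℤ × List (ℕ × ℕ × List ℤ) :=
  ((rv_sx9, chain_sx9), [(1, 802414646398104348707953695833690837, [2, 2, 2, 2, 0, 2, 2, 2, -2, 2, 2, 0, 0, 2, 2, 0, -2, 2, 2, 0, 0, 0, 0, 2]), (2, 13422376, [2, 2, 2, -2, 0, -2, 2, 2, 2, -2, -2, 0, 0, 2, -2, 0, -2, 2, -2, 0, 0, 0, 0, -2])], [2, 2, 2, -2, 0, -2, 2, 2, 2, -2, -2, 0, 0, 2, -2, 0, -2, 2, -2, 0, 0, 0, 0, -2], [(1, 810742832661155119336602981121505457, [0, 2, -2, -2, -2, 2, -2, -2, 2, 2, 0, 0, -2, 0, 2, -2, 0, 2, 0, -2, 0, 2, 2, 0]), (2, 1192108, [0, 2, 2, 2, -2, -2, -2, 2, 2, 2, 0, 0, 2, 0, 2, -2, 0, -2, 0, -2, 0, 2, 2, 0]), (0, 0, [-2, 0, 0, -2, 2, 2, 2, -2, 0, -2, 0, 2,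 0, 0, -2, 2, 0, 2, 2, 2, 0, -2, -2, -2]), (1, 315087794081138869969356596533537205, [2, -2, 2, 2, 0, 2, -2, -2, -2, 0, 0, 2, 2, 0, 2, 0, 0, 2, -2, -2, 0, -2, 0, -2]), (2, 15613053, [-2, -2, -2, -2, 0, -2, 2, -2, -2, 0, 0, -2, -2, 0, 2, 0, 0, -2, 2, 2, 0, 2, 0, 2]), (0, 0, [0, 0, 0, 0, 0, 0, 0, 4, 0, 0, 0, 0, 0, 0, -4, 0, 0, 0, -4, 0, 0, 0, 0, 4]), (1, 17146375821753298957593184159761905, [4, 0, 0, 0, 0, 0, 0, 0, 0, 0, 0, 0, -4, 0, 0, 0, 0, 0, 0, 0, 4, -4, 0, 0]), (2, 13062145, [-4, 0, 0, 0, 0, 0, 0, 0, 0, 0, 0, 0, 4, 0, 0, 0, 0, 0, 0, 0, 4, -4, 0, 0])], [-4, 0, 0, 0, 0, 0, 0, 0, 0, 0, 0, 0, 4, 0, 0, 0, 0, 0, 0, 0, 4, -4, 0, 0], [(1, 552617728898802504706286279752792736, [-4, 4, 4, 0, 0, 0, 0, 0, 0, 0, 0, 0, 0, 0, 0, 0, 0, 0, 0,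 0, 0, 0, 0, -4]), (2, 10305542, [-4, -4, -4, 0, 0, 0, 0, 0, 0, 0, 0, 0, 0, 0, 0, 0, 0, 0, 0, 0, 0, 0, 0, 4])])

def maxPath_sx10 : (List ℤ × List (ℕ × ℕ × List ℤ)) × List (ℕ × ℕ × List ℤ) × List ℤ × List (ℕ × ℕ × List ℤ) × List ℤ × List (ℕ × ℕ × List ℤ) :=
  ((rv_sx10, chain_sx10), [(1, 464211606338812654039292846562281719, [2, 0, 0, 2, 0, 2, 2, 0, -2, 0, 2, 0, 2, 2, 0, -2, 2, 2, 2, 2, 2, 2, 2, 0]), (2, 11749344, [2, 0, 0, 2, 0, -2, -2, 0, 2, 0, -2, 0, 2, 2, 0, -2, -2, -2, 2, 2, -2, -2, 2, 0])], [2, 0, 0, 2, 0, -2, -2, 0, 2, 0, -2, 0, 2, 2, 0, -2, -2, -2, 2, 2, -2, -2, 2, 0], [(1, 901201298692862551064953650016911553, [0, 2, 0, 2, 2, 0, 0, -2, -2, 0, -2, -2, -2, 2, -2, 2, 2, 0, -2, -2, 0, 0, 2, 2]), (2, 11801051, [0, -2, 0, -2,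 -2, 0, 0, 2, 2, 0, -2, -2, 2, 2, -2, 2, 2, 0, 2, -2, 0, 0, 2, -2]), (0, 0, [2, 0, 2, 0, 4, -2, 0, -2, 0, 0, 2, 4, 0, 0, 0, -2, 0, -2, 0, 2, 0, 0, 0, 0]), (1, 962490975366694363875134779620275500, [0, 0, 0, 0, -2, 0, 4, 0, -2, 0, 0, 2, 2, 2, 0, 0, 2, 0, -2, 4, 0, 0, -2, 0]), (2, 11766981, [0, 0, 0, 0, -2, 0, -4, 0, -2, 0, 0, -2, 2, 2, 0, 0, -2, 0, -2, 4, 0, 0, -2, 0]), (0, 0, [0, 0, 0, 0, 0, 0, 4, 0, 0, 0, 0, 0, -4, -4, 0, 0, 0, 0, 0, -4, 0, 0, 0, 0]), (1, 29492376736006929088146330296305131, [0, 0, 0, -4, 0, 0, 0, 0, 0, 0, 0, 0, -4, 0, 0, 0, 0, 0, -4, 0, 4, 0, 0, 0]), (2, 13062145, [0, 0, 0, -4, 0, 0, 0, 0, 0, 0, 0, 0, 4, 0, 0, 0, 0, 0, 4, 0, 4, 0, 0, 0])], [0, 0, 0, -4, 0, 0, 0, 0, 0, 0, 0, 0, 4, 0, 0, 0, 0, 0, 4, 0, 4, 0, 0,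 0], [(1, 266702676806749719122207301931389622, [-4, 4, 4, 0, 0, 0, 0, 0, 0, 0, 0, 0, 0, 0, 0, 0, 0, 0, 0, 0, 0, 0, 0, 4]), (2, 421910, [-4, -4, -4, 0, 0, 0, 0, 0, 0, 0, 0, 0, 0, 0, 0, 0, 0, 0, 0, 0, 0, 0, 0, 4])])

def maxPath_sx11 : (List ℤ × List (ℕ × ℕ × List ℤ)) × List (ℕ × ℕ × List ℤ) × List ℤ × List (ℕ × ℕ × List ℤ) × List ℤ × List (ℕ × ℕ × List ℤ) :=
  ((rv_sx11, chain_sx11), [(1, 310467915887801129444910062367034955, [2, 2, 2, 2, 2, 2, 0, 0, 0, -2, 2, 0, 0, 2, 2, 2, 2, 2, 0, 0, 2, 0, -2, 2]), (2, 4816324, [2, 2, -2, 2, 2, 2, 0, 0, 0, -2, -2, 0, 0, -2, -2, 2, -2, 2, 0, 0, 2, 0, 2, 2])], [2, 2, -2, 2, 2, 2, 0, 0, 0, -2, -2, 0, 0, -2, -2, 2, -2, 2, 0, 0, 2, 0, 2, 2], [(1, 175833301205769800344667640212937068, [0, 0, 0, 0,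 2, 0, -2, 2, 2, 2, -2, 2, 2, 2, 0, -2, -2, 0, 2, 2, 2, -2, -2, 0]), (2, 4994521, [0, 0, 0, 0, -2, 0, 2, -2, -2, 2, 2, 2, -2, -2, 0, -2, -2, 0, -2, -2, 2, -2, 2, 0]), (0, 0, [0, 0, 0, 0, 0, 0, -4, 0, 0, 0, 0, -4, 0, 0, 0, 4, 0, 0, 0, 0, 0, 0, -4, 0]), (1, 61869327213304009988898264268909843, [0, 0, 0, -4, 0, 0, 0, 0, 0, 0, 0, 0, 0, 0, 0, -4, 0, 4, 0, 0, -4, 0, 0, 0]), (2, 2826278, [0, 0, 0, -4, 0, 0, 0, 0, 0, 0, 0, 0, 0, 0, 0, -4, 0, -4, 0, 0, -4, 0, 0, 0]), (0, 0, [0, 0, 0, 0, 0, -4, 0, 0, 0, -4, -4, 0, 0, 0, -4, 0, 0, 0, 0, 0, 0, 0, 0, 0]), (1, 921841040779540204408771860564877408, [0, -4, 0, 0, 0, 0, 0, -4, 0, -4, 0, 0, 0, 0, 0, 0, 0, 0, -4, 0, 0, 0, 0, 0])], [0, -4, 0, 0, 0, 0, 0, -4, 0, -4, 0, 0, 0, 0, 0, 0, 0, 0, -4, 0, 0,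 0, 0, 0], [(1, 756052397894207499170277469553275912, [-4, -4, -4, 0, 0, 0, 0, 0, 0, 0, 0, 0, 0, 0, 0, 0, 0, 0, 0, 0, 0, 0, 0, -4]), (2, 10170384, [-4, -4, -4, 0, 0, 0, 0, 0, 0, 0, 0, 0, 0, 0, 0, 0, 0, 0, 0, 0, 0, 0, 0, 4])])

def maxPath_sx12 : (List ℤ × List (ℕ × ℕ × List ℤ)) × List (ℕ × ℕ × List ℤ) × List ℤ × List (ℕ × ℕ × List ℤ) × List ℤ × List (ℕ × ℕ × List ℤ) :=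
  ((rv_sx12, chain_sx12), [(1, 693280117556404855121987674193534275, [2, 0, 2, 0, -2, 0, 2, 0, 0, 2, 0, 2, -2, 2, 2, 2, 0, 0, 2, 2, 2, 2, 2, 2]), (2, 4364719, [-2, 0, -2, 0, -2, 0, 2, 0, 0, 2, 0, -2, 2, 2, 2, -2, 0, 0, 2, 2, 2, 2, -2, 2])], [-2, 0, -2, 0, -2, 0, 2, 0, 0, 2, 0, -2, 2, 2, 2, -2, 0, 0, 2, 2, 2, 2, -2, 2], [(1, 228529696049443549285008239388370575, [-2, 2, -2, 0, 2, 2, 0, 0, 0, -2, 0, 2, 0, 2, 0, -2, -2, 2, 2, 2, 0, 2, 2, -2]), (2, 15762208, [-2, 2, -2, 0, 2, -2, 0, 0, 0, 2, 0, 2, 0, 2, 0, 2, -2, 2, 2, 2, 0, -2, -2, 2]), (0, 0, [-2, 2, -2, 0, -2, 2, 0, 0, 2, 0, 2, 0, 2, -2, 0, 0, 2, -2, 0, -2, 2, 2, 2, 2]), (1, 422591977063719981972170277334125798, [0, 0, 0, -2, -2, 2, -2, 2, 0, -2, 2, 0, 0, -2, 2, 2, -2, 2, 0, 2,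 2, 2, 2, 0]), (2, 9744084, [0, 0, 0, -2, 2, 2, 2, -2, 0, 2, -2, 0, 0, 2, 2, -2, -2, 2, 0, 2, -2, 2, 2, 0]), (0, 0, [0, 0, 0, 4, 0, 0, 0, 4, 0, -4, 0, 0, 0, 0, 0, 0, 4, 0, 0, 0, 0, 0, 0, 0]), (1, 10843549719495872886819068399306036, [0, 0, 0, 0, 0, 0, 0, 0, 0, 0, 0, 0, -4, 0, 0, 0, 0, 0, 4, 4, 0, 0, 0, 4])], [0, 0, 0, 0, 0, 0, 0, 0, 0, 0, 0, 0, -4, 0, 0, 0, 0, 0, 4, 4, 0, 0, 0, 4], [(1, 977834062501957049580781035226156202, [-4, 4, 4, 0, 0, 0, 0, 0, 0, 0, 0, 0, 0, 0, 0, 0, 0, 0, 0, 0, 0, 0, 0, 4]), (2, 421910, [-4, -4, -4, 0, 0, 0, 0, 0, 0, 0, 0, 0, 0, 0, 0, 0, 0, 0, 0, 0, 0, 0, 0, 4])])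

def maxPath_sx13 : (List ℤ × List (ℕ × ℕ × List ℤ)) × List (ℕ × ℕ × List ℤ) × List ℤ × List (ℕ × ℕ × List ℤ) × List ℤ × List (ℕ × ℕ × List ℤ) :=
  ((rv_sx13, chain_sx13), [(1, 439362040229264761766332286315633940, [-2, 2, 2, 2, 2, -2, 2, 0, 0, 2, 0, 0, 2, 2, 2, 2, 0, 2, 2, 2, 0, 0, 0, 2]), (2, 337856, [-2, 2, 2, 2, 2, -2, -2, 0, 0, -2, 0, 0, 2, -2, 2, 2, 0, 2, -2, 2, 0, 0, 0, 2])], [-2, 2, 2, 2, 2, -2, -2, 0, 0, -2, 0, 0, 2, -2, 2, 2, 0, 2, -2, 2, 0, 0, 0, 2], [(1, 920638148746210102135497581348784272, [2, 2, 2, 0, 2, 0, -2, 0, 0, -2, 2, 0, -2, 2, 2, 0, -2, -2, 2, 0, 0, 2, 2, -2]), (2, 6949956, [2, 2, -2, 0, 2, 0, 2, 0, 0, -2, -2, 0, -2, 2, 2, 0, -2, 2, 2, 0, 0, -2, -2, -2]), (0, 0, [2, 2, -2, 2, -2, 2, -2, 0, 0, 0, 0, 0, 2, -2,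 0, -2, 2, 0, -2, 0, -2, 2, 2, -2]), (1, 521105075517684746602991589343696554, [0, 0, 0, -2, 0, -2, -2, -2, -2, 2, 2, 2, -2, 0, 2, -2, 0, 2, 2, 2, -2, 2, 0, 0]), (2, 12070477, [0, 0, 0, 2, 0, -2, 2, -2, -2, -2, -2, -2, -2, 0, 2, -2, 0, 2, 2, -2, 2, -2, 0, 0]), (0, 0, [0, 0, 0, 0, 0, 4, -4, 0, 0, 0, 0, 0, 0, 0, 0, 0, 0, 0, -4, 0, -4, 0, 0, 0]), (1, 249778175476785849333719076037773494, [0, 0, 4, 0, 0, 0, 0, 0, 0, 0, 0, 0, 0, 0, -4, 0, -4, 0, 0, -4, 0, 0, 0, 0])], [0, 0, 4, 0, 0, 0, 0, 0, 0, 0, 0, 0, 0, 0, -4, 0, -4, 0, 0, -4, 0, 0, 0, 0], [(1, 755855342431920103062943719188103573, [4, -4, -4, 0, 0, 0, 0, 0, 0, 0, 0, 0, 0, 0, 0, 0, 0, 0, 0, 0, 0, 0, 0, -4]), (2, 13062145, [-4, -4, -4, 0, 0, 0, 0, 0, 0, 0, 0, 0, 0, 0, 0, 0, 0, 0, 0,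 0, 0, 0, 0, 4])])

def maxPath_sx14 : (List ℤ × List (ℕ × ℕ × List ℤ)) × List (ℕ × ℕ × List ℤ) × List ℤ × List (ℕ × ℕ × List ℤ) × List ℤ × List (ℕ × ℕ × List ℤ) :=
  ((rv_sx14, chain_sx14), [(1, 712198046658828952694992016902381123, [2, 2, 2, 0, 2, 0, 2, 0, 2, -2, 2, 2, 2, 2, 2, 0, -2, 0, 0, 2, 2, 2, 0, 0]), (2, 4706738, [2, -2, 2, 0, -2, 0, 2, 0, -2, -2, 2, 2, -2, 2, -2, 0, 2, 0, 0, 2, 2, 2, 0, 0])], [2, -2, 2, 0, -2, 0, 2, 0, -2, -2, 2, 2, -2, 2, -2, 0, 2, 0, 0, 2, 2, 2, 0, 0], [(1, 641698285928482356451433995474443477, [2, -2, 2, 0, 2, 0, -2, 2, -2, 0, 0, 2, 2, 2, 0, 0, 2, 0, -2, -2, 0, 2, 2, -2]), (2, 13396944, [2, -2, 2, 0, -2, 0, 2, -2, 2, 0, 0, -2, 2, -2, 0, 0, 2, 0, 2, 2, 0, 2, -2, 2]), (0, 0, [0, -4, 0, 0, 0, 0, 0, 4,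 0, 0, 0, 4, 0, 0, 0, 0, -4, 0, 0, 0, 0, 0, 0, 0]), (1, 223578787595788892038050637342611987, [4, 4, 0, 0, 0, 0, 0, 0, 0, 0, 0, 0, 0, -4, 0, 0, -4, 0, 0, 0, 0, 0, 0, 0]), (2, 6709678, [4, -4, 0, 0, 0, 0, 0, 0, 0, 0, 0, 0, 0, 4, 0, 0, -4, 0, 0, 0, 0, 0, 0, 0]), (0, 0, [4, -4, 0, 0, 0, 0, 0, 0, 0, 0, 0, 0, 0, -4, 0, 0, 4, 0, 0, 0, 0, 0, 0, 0]), (1, 17146375821753298957593184159761905, [0, 0, 0, 0, 0, 0, 0, 0, 0, 0, 0, 0, 0, 0, 0, -4, 0, 4, -4, 0, 0, 0, 0, 4])], [0, 0, 0, 0, 0, 0, 0, 0, 0, 0, 0, 0, 0, 0, 0, -4, 0, 4, -4, 0, 0, 0, 0, 4], [(1, 983397900832532820894091515158288931, [-4, 4, -4, 0, 0, 0, 0, 0, 0, 0, 0, 0, 0, 0, 0, 0, 0, 0, 0, 0, 0, 0, 0, 4]), (2, 4845570, [-4, -4, -4, 0, 0, 0, 0, 0, 0, 0, 0, 0, 0, 0, 0, 0, 0, 0, 0, 0, 0,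 0, 0, 4])])

def maxPath_sx15 : (List ℤ × List (ℕ × ℕ × List ℤ)) × List (ℕ × ℕ × List ℤ) × List ℤ × List (ℕ × ℕ × List ℤ) × List ℤ × List (ℕ × ℕ × List ℤ) :=
  ((rv_sx15, chain_sx15), [(1, 219628727775528222044586908239399989, [2, 0, 2, 0, 2, 0, 2, 2, -2, 2, 0, 2, 0, 0, 0, -2, 2, 2, 2, 2, 2, 0, 2, 2]), (2, 5613565, [-2, 0, -2, 0, -2, 0, -2, -2, 2, -2, 0, 2, 0, 0, 0, 2, -2, 2, -2, 2, -2, 0, -2, 2])], [-2, 0, -2, 0, -2, 0, -2, -2, 2, -2, 0, 2, 0, 0, 0, 2, -2, 2, -2, 2, -2, 0, -2, 2], [(1, 872677752055986418907077771742888371, [-2, 0, 2, -2, 2, -2, 0, 0, 2, 0, -2, 2, -2, 0, -2, 0, -2, -2, -2, -2, 2, 2, 0, 0]), (2, 13309141, [2, 0, -2, -2, -2, -2, 0, 0, 2, 0, 2, 2, 2, 0, -2, 0, 2, 2, -2, 2, 2, 2, 0, 0]), (0, 0, [2, 0, -2, 0, 2, 0,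 2, 2, 0, 2, 0, 0, 0, 0, 0, 2, -2, -4, 4, 0, 0, 0, 0, 0]), (1, 683197891493179242893164082584816289, [2, 2, -2, 0, 0, 0, 0, 0, 2, 0, 0, 2, -2, 4, 0, 0, 0, 0, 2, 0, 0, 0, -4, 2]), (2, 15489305, [-2, 2, -2, 0, 0, 0, 0, 0, -2, 0, 0, -2, 2, 4, 0, 0, 0, 0, -2, 0, 0, 0, 4, -2]), (0, 0, [0, 4, 0, 0, 4, 0, 0, 0, 0, 0, 0, 0, -4, 0, 0, 0, 4, 0, 0, 0, 0, 0, 0, 0]), (1, 8647062396755419192330364184215147, [0, 0, 4, 0, 0, 0, 0, 0, 0, 0, 0, 0, 0, 0, -4, 0, 0, 0, 0, 4, 4, 0, 0, 0]), (2, 13062145, [0, 0, 4, 0, 0, 0, 0, 0, 0, 0, 0, 0, 0, 0, 4, 0, 0, 0, 0, 4, 4, 0, 0, 0])], [0, 0, 4, 0, 0, 0, 0, 0, 0, 0, 0, 0, 0, 0, 4, 0, 0, 0, 0, 4, 4, 0, 0, 0], [(1, 259765799355701935694176029427368557, [4, 4, 4, 0, 0, 0, 0, 0, 0, 0, 0, 0, 0, 0, 0, 0, 0, 0, 0,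 0, 0, 0, 0, 4]), (2, 5902343, [-4, -4, -4, 0, 0, 0, 0, 0, 0, 0, 0, 0, 0, 0, 0, 0, 0, 0, 0, 0, 0, 0, 0, 4])])

/-- All of them. -/
def maxPaths : List ((List ℤ × List (ℕ × ℕ × List ℤ)) × List (ℕ × ℕ × List ℤ) × List ℤ × List (ℕ × ℕ × List ℤ) × List ℤ × List (ℕ × ℕ × List ℤ)) :=
  [maxPath_fours, maxPath_six, maxPath_k6, maxPath_k7, maxPath_k8, maxPath_k9, maxPath_k10, maxPath_k11, maxPath_k12, maxPath_k13, maxPath_k15, maxPath_k16, maxPath_k18, maxPath_k19, maxPath_k20, maxPath_k21, maxPath_k22, maxPath_ltwelve, maxPath_five33, maxPath_threes5, maxPath_sx0, maxPath_sx1, maxPath_sx2, maxPath_sx3, maxPath_sx4, maxPath_sx5, maxPath_sx6, maxPath_sx7, maxPath_sx8, maxPath_sx9, maxPath_sx10, maxPath_sx11, maxPath_sx12, maxPath_sx13, maxPath_sx14,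 maxPath_sx15]

end CfsgLib.Sporadic.Conway
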