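import Cfsg.Agent.Lib.Sporadic.ConwayOrder
import Cfsg.Agent.Lib.Sporadic.ConwayMaxData

/-!
# The stabiliser of the standard cross is maximal
-/

set_option autoImplicit false

namespace CfsgLib.Sporadic.Conway

open Cfsg Finset CfsgLib.ThreeTrans.Leech CfsgLib.Sporadic.Lattice

/-- The parameters of a path. -/
def params (l : List (ℕ × ℕ × List ℤ)) : List (ℕ × ℕ) := l.map fun s => (s.1, s.2.1)

/-- A step is realised by one fixed automorphism. -/
theorem stepElt (k p : ℕ) : ∃ g : ↥Co0,
    (∀ K : Subgroup ↥Co0, monoGens ≤ K → (k = 0 → xiElt ∈ K) → g ∈ K) ∧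
    ∀ a b, stepRel k p a b = true → ∀ v : ↥leechLattice, (v : Vec) = vecOf a →
      ((g • v : ↥leechLattice) : Vec) = vecOf b := by
  rcases k with - | - | k
  · refine ⟨xiElt, fun K _ h => h rfl, fun a b h v hv => ?_⟩
    have h : decide (∀ i, xi (vecOf a) i = vecOf b i) = true := h
    rw [decide_eq_true_eq] at h
    rw [xiElt_apply, hv]; exact funext h
  · by_cases hp : isAut p = true
    · obtain ⟨g, hg⟩ := exists_M24_elt hp
      refine ⟨permElt g.2, fun K hK _ => hK (permElt_mem_monoGens g.2), fun a b h v hv => ?_⟩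
      have h : (isAut p && forallLt 24 fun i => decide (b.getD (pget p i) 0 = a.getD i 0)) = true := h
      simp only [Bool.and_eq_true, forallLt_iff, decide_eq_true_eq] at h
      rw [permElt_apply, hv]
      funext i
      obtain ⟨j, rfl⟩ := g.1.surjective i
      show vecOf a (g.1.symm (g.1 j)) = vecOf b (g.1 j)
      rw [Equiv.symm_apply_apply, vecOf, vecOf, ← hg j]
      exact (h.2 (ix j) (ix_lt j)).symm
    · refine ⟨1, fun K _ _ => one_mem K, fun a b h v hv => ?_⟩
      have h : (isAut p && forallLt 24 fun i => decide (b.getD (pget p i) 0 = a.getD i 0)) = true := h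
      rw [Bool.and_eq_true] at h
      exact absurd h.1 hp
  · by_cases hp : inCode p = true
    · have hs : setOfMask p ∈ supports (golayCode : Set (GolayPt → ZMod 2)) := by
        rw [mem_supports_iff, maskOf_setOfMask (inCode_lt hp)]; exact hp
      refine ⟨flipElt hs, fun K hK _ => hK (flipElt_mem_monoGens hs), fun a b h v hv => ?_⟩
      have h : (inCode p && forallLt 24 fun i =>
          decide (b.getD i 0 = cond (Nat.beq (bitAt p i) 1) (-(a.getD i 0)) (a.getD i 0))) = true := h
      simp only [Bool.and_eq_true, forallLt_iff, decide_eq_true_eq] at h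
      rw [flipElt_apply, hv]
      funext i
      show _ = b.getD (ix i) 0
      rw [h.2 (ix i) (ix_lt i)]
      simp only [flipVec, vecOf, mem_setOfMask, bitAt_eq]
      cases p.testBit (ix i) <;> rfl
    · refine ⟨1, fun K _ _ => one_mem K, fun a b h v hv => ?_⟩
      have h : (inCode p && forallLt 24 fun i =>
          decide (b.getD i 0 = cond (Nat.beq (bitAt p i) 1) (-(a.getD i 0)) (a.getD i 0))) = true := h
      rw [Bool.and_eq_true] at h
      exact absurd h.1 hp

/-- So is a path. -/
theorem wordElt : ∀ ps : List (ℕ × ℕ), ∃ g : ↥Co0,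
    (∀ K : Subgroup ↥Co0, monoGens ≤ K → ((∃ s ∈ ps, s.1 = 0) → xiElt ∈ K) → g ∈ K) ∧
    ∀ steps a t, params steps = ps → pathOK t a steps = true → ∀ v : ↥leechLattice, (v : Vec) = vecOf a →
      ((g • v : ↥leechLattice) : Vec) = vecOf t := by
  intro ps
  induction ps with
  | nil =>
    refine ⟨1, fun K _ _ => one_mem K, fun steps a t hps h v hv => ?_⟩
    rcases steps with - | ⟨s, rest⟩
    · rw [show pathOK t a [] = decide (a = t) from rfl, decide_eq_true_eq] at h
      rw [one_smul, hv, h]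
    · simp [params] at hps
  | cons q qs ih =>
    obtain ⟨k, p⟩ := q
    obtain ⟨g1, h1, e1⟩ := stepElt k p
    obtain ⟨g2, h2, e2⟩ := ih
    refine ⟨g2 * g1, fun K hK hxi => mul_mem (h2 K hK fun ⟨s, hs, h0⟩ => hxi ⟨s, List.mem_cons_of_mem _ hs, h0⟩)
      (h1 K hK fun h0 => hxi ⟨(k, p), List.mem_cons_self, h0⟩), fun steps a t hps h v hv => ?_⟩
    rcases steps with - | ⟨⟨k', p', b⟩, rest⟩
    · simp [params] at hps
    · simp only [params, List.map_cons, List.cons.injEq, Prod.mk.injEq] at hps
      obtain ⟨⟨rfl, rfl⟩, hrest⟩ := hps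
      rw [show pathOK t a ((k', p', b) :: rest) = (stepRel k' p' a b && pathOK t b rest) from rfl,
        Bool.and_eq_true] at h
      rw [mul_smul]
      exact e2 rest b t hrest h.2 _ (e1 a b h.1 v hv)

theorem flip_mem_stab {s : Finset GolayPt} (hs : s ∈ supports (golayCode : Set (GolayPt → ZMod 2))) :
    flipElt hs ∈ crossStab := by
  have : flipElt hs = monoElt (σ := 1) M24.one_mem hs := Subtype.ext (Equiv.ext fun v => Subtype.ext rfl)
  rw [this, mem_crossStab]; exact preserves_mono _ _

theorem perm_mem_stab {σ : Equiv.Perm GolayPt} (hσ : σ ∈ M24) : permElt hσ ∈ crossStab := by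
  have : permElt hσ = monoElt hσ empty_supports :=
    Subtype.ext (Equiv.ext fun v => Subtype.ext (funext fun i => by
      show ((permElt hσ • v : ↥leechLattice) : Vec) i = ((monoElt hσ empty_supports • v : ↥leechLattice) : Vec) i
      rw [permElt_apply, monoElt_apply]
      simp [signedPerm, permVec]))
  rw [this, mem_crossStab]; exact preserves_mono _ _

theorem monoGens_le : monoGens ≤ crossStab := by
  refine (Subgroup.closure_le _).2 ?_
  rintro g (⟨s, hs, rfl⟩ | ⟨σ, hσ, rfl⟩)
  · exact flip_mem_stab hs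
  · exact perm_mem_stab hσ

theorem stab_of_base {g : ↥Co0} (h : ((g • baseElt : ↥leechLattice) : Vec) = eightVec none) : g ∈ crossStab := by
  rw [mem_crossStab, preserves_iff, h]

set_option maxRecDepth 100000 in
theorem maxPaths_ok : maxPaths.all (fun c =>
    decide (params c.2.2.2.1 = params c.1.2) &&
    (pathOK rv_eight c.1.1 c.1.2 &&
    (pathOK c.2.2.1 c.1.1 c.2.1 &&
    (pathOK c.2.2.2.2.1 c.2.2.1 c.2.2.2.1 &&
    (pathOK xiBase c.2.2.2.2.1 c.2.2.2.2.2 &&
    ((c.2.1 ++ c.2.2.2.2.2).all fun s => decide (s.1 ≠ 0))))))) = true := by decide +kernel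

theorem maxPaths_fst : maxPaths.map (fun c => c.1.1) = chains64.map Prod.fst := by decide +kernel

theorem xi_xiBase : xi (vecOf xiBase) = eightVec none := by decide +kernel

/-- A short move from the base vector onto a representative. -/
theorem base_move (g : ↥Co0) : ∃ n ∈ monoGens, ∃ r ∈ rv_eight :: chains64.map Prod.fst,
    (((n * g) • baseElt : ↥leechLattice) : Vec) = vecOf r := by
  obtain ⟨r, hr, hx, n, hn, e⟩ := orbit64N (SetLike.coe_mem (g • baseElt))
    ((norm_smul' g baseElt).trans (norm_eight none))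
  exact ⟨n, hn, r, hr, by rw [mul_smul]; exact e⟩

theorem xi_mem_of_lt {K : Subgroup ↥Co0} (hle : crossStab ≤ K) {g : ↥Co0} (hg : g ∈ K) (hng : g ∉ crossStab) :
    xiElt ∈ K := by
  obtain ⟨n, hn, r, hr, e⟩ := base_move g
  rcases List.mem_cons.1 hr with rfl | hr
  · exfalso
    refine hng ?_
    have := mul_mem (inv_mem (monoGens_le hn)) (stab_of_base (e.trans rv_eight_eq))
    rwa [inv_mul_cancel_left] at this
  rw [← maxPaths_fst, List.mem_map] at hr
  obtain ⟨⟨⟨r', ch⟩, L1, m1, L2, m2, L3⟩, hc, rfl⟩ := hr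
  have h := List.all_eq_true.1 maxPaths_ok _ hc
  simp only [Bool.and_eq_true, decide_eq_true_eq, List.all_eq_true, List.mem_append] at h
  obtain ⟨hpar, hch, h1, h2, h3, hk⟩ := h
  obtain ⟨u, -, eu⟩ := wordElt (params ch)
  obtain ⟨a, ha, ea⟩ := wordElt (params L1)
  obtain ⟨b, hb, eb⟩ := wordElt (params L3)
  have nomix : ∀ L : List (ℕ × ℕ × List ℤ), (∀ s ∈ L, s.1 ≠ 0) → ¬ ∃ s ∈ params L, s.1 = 0 := by
    rintro L hL ⟨s, hs, h0⟩
    obtain ⟨t, ht, rfl⟩ := List.mem_map.1 hs
    exact hL t ht h0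
  have hu : u ∈ K := by
    have := mul_mem (hle (stab_of_base (g := u * (n * g)) (by
      rw [mul_smul]; exact (eu ch r' _ rfl hch _ e).trans rv_eight_eq)))
      (inv_mem (mul_mem (hle (monoGens_le hn)) hg))
    rwa [mul_inv_cancel_right] at this
  have hK : monoGens ≤ K := monoGens_le.trans hle
  have hA : b * u * a * (n * g) ∈ K :=
    mul_mem (mul_mem (mul_mem (hb K hK fun h => absurd h (nomix L3 fun s hs => hk s (Or.inr hs))) hu)
      (ha K hK fun h => absurd h (nomix L1 fun s hs => hk s (Or.inl hs)))) (mul_mem (hK hn) hg)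
  have hfin : xiElt * (b * u * a * (n * g)) ∈ crossStab := stab_of_base (by
    rw [mul_smul, xiElt_apply, mul_smul, mul_smul, mul_smul,
      eb L3 m2 xiBase rfl h3 _ (eu L2 m1 m2 hpar h2 _ (ea L1 r' m1 rfl h1 _ e))]
    exact xi_xiBase)
  have := mul_mem (hle hfin) (inv_mem hA)
  rwa [mul_inv_cancel_right] at this

theorem top_of_xi {K : Subgroup ↥Co0} (hle : crossStab ≤ K) (hxi : xiElt ∈ K) : K = ⊤ := by
  refine eq_top_iff.2 fun g _ => ?_
  obtain ⟨n, hn, r, hr, e⟩ := base_move g
  have hK : monoGens ≤ K := monoGens_le.trans hle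
  have key : ∃ u ∈ K, u * (n * g) ∈ crossStab := by
    rcases List.mem_cons.1 hr with rfl | hr
    · exact ⟨1, one_mem K, stab_of_base (by rw [one_mul]; exact e.trans rv_eight_eq)⟩
    obtain ⟨⟨r', ch⟩, hc, rfl⟩ := List.mem_map.1 hr
    have h := List.all_eq_true.1 paths64 _ hc
    obtain ⟨u, hu, eu⟩ := wordElt (params ch)
    exact ⟨u, hu K hK fun _ => hxi,
      stab_of_base (by rw [mul_smul]; exact (eu ch r' _ rfl h _ e).trans rv_eight_eq)⟩
  obtain ⟨u, hu, hs⟩ := key
  have := mul_mem (inv_mem (hK hn)) (mul_mem (inv_mem hu) (hle hs))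
  rwa [inv_mul_cancel_left, inv_mul_cancel_left] at this

theorem crossStab_coatom : IsCoatom crossStab := by
  refine ⟨fun h => ?_, fun K hK => ?_⟩
  · have := index_crossStab
    rw [h, Subgroup.index_top] at this
    omega
  · obtain ⟨g, hg, hng⟩ := SetLike.exists_of_lt hK
    exact top_of_xi hK.le (xi_mem_of_lt hK.le hg hng)

/-- The frame stabiliser, as the statement gives it, is maximal. -/
theorem coatom_of_coe (H : Subgroup ↥Co0) (hH : (H : Set ↥Co0) = {g | Preserves g}) : IsCoatom H := by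
  have : H = crossStab := SetLike.ext fun g => by
    rw [← SetLike.mem_coe, hH]; exact mem_crossStab.symm
  exact this ▸ crossStab_coatom

end CfsgLib.Sporadic.Conway
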