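import Cfsg.Agent.Lib.Sporadic.ConwayTwoInvolutionBase
import Cfsg.Agent.Lib.Sporadic.ConwayMclInvolutionData
import Cfsg.Agent.Lib.Sporadic.ConwayDotSets

/-!
# The candidate fixed vectors of an involution of McL and their signature classes
-/

set_option autoImplicit false
set_option maxRecDepth 20000

namespace CfsgLib.Sporadic.Conway.MclInv

open Cfsg Finset CfsgLib.ThreeTrans.Leech CfsgLib.Sporadic.Lattice

/-- The coordinates as a list. -/
def row (x : Vec) : List ℤ := (List.range 24).map fun j => x (pt j)

/-- The inner product of two lists. -/
def ldot (a b : List ℤ) : ℤ := (List.zipWith (· * ·) a b).sum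

/-- The supports of the vectors `(±2)^8`. -/
def octs : List ℕ := TwoInv.flipMasks.filter fun s => s != 0 && s != TwoInv.ocMask

/-- Every choice of listed values on the points of a mask, zero elsewhere. -/
def choices (s : ℕ) (vals : List ℤ) : List (List ℤ) :=
  ((List.range 24).map fun j => if s.testBit j then vals else [0]).sections.filter fun l =>
    decide (l.sum % 8 = 0)

/-- The masks of two points off the octad. -/
def pairs : List ℕ :=
  (((List.range 24).filter fun j => !stdO.testBit j).flatMap fun a =>
    ((List.range 24).filter fun j => !stdO.testBit j && decide (a < j)).map fun b => 2 ^ a ^^^ 2 ^ b)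

/-- The candidates. -/
def cands : List (List ℤ) :=
  octs.flatMap (fun s => choices s [2, -2]) ++ pairs.flatMap (fun s => choices s [4, -4])

/-- The row of a packed vector. -/
noncomputable def krow (k : ℕ) : List ℤ := (List.range 24).map fun j => (nib k j : ℤ) - 8

/-- Inner products with listed packed vectors. -/
noncomputable def sig (F : List ℕ) (l : List ℤ) : List ℤ := F.map fun k => ldot (krow k) l

/-- The candidates sharing the signature of a packed vector. -/
noncomputable def cls (F : List ℕ) (b : ℕ) : List (List ℤ) :=
  cands.filter fun l => decide (sig F l = sig F (krow b))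

/-- The fixed keys before step `n`. -/
def prefixKeys (n : ℕ) : List ℕ := [vKey, uKey] ++ baseKeys.take n

/-- A quarter of the candidates. -/
def candsPart (j : ℕ) : List (List ℤ) :=
  if j < 3 then ((octs.drop (10 * j)).take 10).flatMap (fun s => choices s [2, -2])
  else pairs.flatMap fun s => choices s [4, -4]

/-- The members of a quarter sharing the signature of a packed vector. -/
noncomputable def clsPart (j : ℕ) (F : List ℕ) (b : ℕ) : ℕ :=
  ((candsPart j).filter fun l => decide (sig F l = sig F (krow b))).length

/-- The sizes recorded for a quarter: base keys, chosen keys, lines. -/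
noncomputable def partCounts (j : ℕ) : List ℕ × List ℕ × List ℕ :=
  ((List.range 5).map (fun n => clsPart j (prefixKeys n) (baseKeys.getD n 0)),
    selKeys.map (fun y => clsPart j (prefixKeys 5) y),
    lineKeys.map (fun y => clsPart j (prefixKeys 5 ++ selKeys) y))

theorem octs_parts : octs = octs.take 10 ++ (octs.drop 10).take 10 ++ (octs.drop 20).take 10 := by
  decide +kernel

theorem cls_length (F : List ℕ) (b : ℕ) :
    (cls F b).length = clsPart 0 F b + clsPart 1 F b + (clsPart 2 F b + clsPart 3 F b) := by
  simp only [cls, clsPart, cands, candsPart]
  conv_lhs => rw [octs_parts]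
  simp [List.flatMap_append, List.filter_append, List.length_append, Nat.add_assoc]

end CfsgLib.Sporadic.Conway.MclInv
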