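import Cfsg.Agent.Lib.Sporadic.ConwayMclInvolutionCands

/-!
# Signature classes within quarter 3 of the candidates
-/

set_option autoImplicit false
set_option maxRecDepth 20000

namespace CfsgLib.Sporadic.Conway.MclInv

theorem part3_counts : partCounts 3 = ([7, 0, 0, 0, 0], [0, 0, 0, 0, 0, 0, 0, 0, 0],
    [0, 0, 0, 0, 0, 0, 0, 0, 0, 0, 0, 0, 0, 0, 0, 0, 0, 0, 0, 0, 0, 0, 0, 0, 0, 0, 0, 0, 1, 1, 1, 1, 1, 1, 1]) := by
  decide +kernel

end CfsgLib.Sporadic.Conway.MclInv
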