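import Cfsg.Agent.Lib.Sporadic.ConwayTwoInvolutionBase
import Cfsg.Agent.Lib.Sporadic.ConwayMclInvolutionCands
import Cfsg.Agent.Lib.Sporadic.ConwayMclInvolutionPart0
import Cfsg.Agent.Lib.Sporadic.ConwayMclInvolutionPart1
import Cfsg.Agent.Lib.Sporadic.ConwayMclInvolutionPart2
import Cfsg.Agent.Lib.Sporadic.ConwayMclInvolutionPart3
import Cfsg.Agent.Lib.Sporadic.ConwayMclInvolutionData
import Cfsg.Agent.Lib.Sporadic.ConwayDotSets

/-!
# An involution of McL: the census of its fixed minimal vectors and the chain of stabilisers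

The involution changes the signs on the standard octad; its fixed lattice lives on the other sixteen points.
The minimal vectors there are 3840 vectors `(±2)^8` and 480 vectors `(±4)^2`.  Inner products with five of them
cut the centraliser down to the involution itself.
-/

set_option autoImplicit false
set_option maxRecDepth 20000

namespace CfsgLib.Sporadic.Conway.MclInv

open Cfsg Finset CfsgLib.ThreeTrans.Leech CfsgLib.Sporadic.Lattice
open CfsgLib.Sporadic.Conway.TwoInv (fl fl_apply ext_smul)

/-- Vanishing on the octad. -/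
def Off (x : Vec) : Prop := ∀ i, stdO.testBit (ix i) = true → x i = 0

theorem stdO_code : inCode stdO = true := by decide +kernel

/-- The involution. -/
noncomputable def tH : ↥Co0 := fl stdO

theorem tH_apply (v : ↥leechLattice) (i : GolayPt) :
    ((tH • v : ↥leechLattice) : Vec) i = if stdO.testBit (ix i) then -(v : Vec) i else (v : Vec) i := by
  rw [tH, fl_apply stdO_code]
  simp only [flipVec, mem_setOfMask]

theorem vKey_ok : LTest (pv vKey) ∧ LTest (pv uKey) := by decide +kernel

/-- The vector of squared length 48. -/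
noncomputable def vE : ↥leechLattice := ⟨pv vKey, pv_mem vKey_ok.1⟩
/-- The vector of squared length 32. -/
noncomputable def uE : ↥leechLattice := ⟨pv uKey, pv_mem vKey_ok.2⟩

/-- The centraliser, inside the stabiliser of the two vectors. -/
noncomputable def CH : Subgroup ↥Co0 := Subgroup.centralizer {tH} ⊓ fixGroup [vE, uE]

theorem mem_CH {g : ↥Co0} : g ∈ CH ↔ g * tH = tH * g ∧ g • vE = vE ∧ g • uE = uE := by
  simp [CH, Subgroup.mem_inf, Subgroup.mem_centralizer_singleton_iff, mem_fixGroup]

theorem off_smul {g : ↥Co0} (hg : g * tH = tH * g) {v : ↥leechLattice} (hv : Off (v : Vec)) :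
    Off ((g • v : ↥leechLattice) : Vec) := by
  have hfix : tH • v = v := Subtype.ext <| funext fun i => by
    rw [tH_apply]
    cases h : stdO.testBit (ix i)
    · rfl
    · rw [hv i h]; rfl
  intro i hi
  have := tH_apply (g • v) i
  rw [← mul_smul, ← hg, mul_smul, hfix, hi] at this
  simp only [if_true] at this
  omega

/-! ### lists of coordinates -/

theorem univ_eq : (Finset.univ : Finset GolayPt) = ((List.range 24).map pt).toFinset := by decide +kernel

theorem sum_row (f : GolayPt → ℤ) : ∑ i, f i = ((List.range 24).map fun j => f (pt j)).sum := by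
  rw [univ_eq, List.sum_toFinset _ (by decide +kernel), List.map_map]
  rfl

theorem ldot_row (x y : Vec) : ldot (row x) (row y) = dotInt x y := by
  rw [ldot, row, row, List.zipWith_map, List.zipWith_self, dotInt, sum_row]

theorem row_inj {x y : Vec} (h : row x = row y) : x = y := by
  funext i
  have h' := (List.map_inj_left.1 h) (ix i) (List.mem_range.2 (ix_lt i))
  rwa [pt_ix] at h'

theorem mem_choices {x : Vec} {s : ℕ} {vals : List ℤ} (h1 : ∀ i, s.testBit (ix i) = true → x i ∈ vals)
    (h2 : ∀ i, s.testBit (ix i) = false → x i = 0) (h3 : (∑ i, x i) % 8 = 0) : row x ∈ choices s vals := by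
  rw [choices, List.mem_filter]
  refine ⟨?_, by rw [decide_eq_true_eq]; rw [row, ← sum_row]; exact h3⟩
  rw [List.mem_sections, row, List.forall₂_map_left_iff, List.forall₂_map_right_iff, List.forall₂_same]
  intro j hj
  rw [List.mem_range] at hj
  have hji : ix (pt j) = j := ix_pt hj
  cases h : s.testBit j
  · simp [h2 (pt j) (by rw [hji]; exact h)]
  · simpa using h1 (pt j) (by rw [hji]; exact h)

theorem flip_complete : forallLt 4096 (fun k =>
    !(Nat.beq (Nat.land (enc k) stdO) 0) || TwoInv.flipMasks.contains (enc k)) = true := by decide +kernel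

theorem census {x : Vec} (hx : x ∈ leechLattice) (hn : sqNorm x = 32) (ho : Off x) : row x ∈ cands := by
  classical
  obtain ⟨m, d, hd, hred, hsum⟩ := mem_iff.1 hx
  have hnone : x none = 0 := ho none (by decide +kernel)
  have hm : m = -2 * d none := by have := hd none; omega
  have heven : ∀ i, x i % 2 = 0 := fun i => by have := hd i; omega
  have hs8 : (∑ i, x i) % 8 = 0 := by
    have h' : (∑ i, x i) % 8 = (4 * m) % 8 := hsum
    omega
  set S : Finset GolayPt := Finset.univ.filter fun i => x i % 4 = 2 with hS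
  have hcode : inCode (maskOf S) = true := by
    have hw : red (fun i => d i - d none) ∈ golayCode := by
      rcases Int.emod_two_eq_zero_or_one (d none) with h | h
      · have e : red (fun i => d i - d none) = red d := by
          funext i
          show ((d i - d none : ℤ) : ZMod 2) = (d i : ZMod 2)
          rw [Int.cast_sub, (ZMod.intCast_zmod_eq_zero_iff_dvd (d none) 2).2 (by omega), sub_zero]
        rw [e]; exact hred
      · have e : red (fun i => d i - d none) = red d + 1 := by
          funext i
          show ((d i - d none : ℤ) : ZMod 2) = (d i : ZMod 2) + 1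
          rw [Int.cast_sub]
          have : ((d none : ℤ) : ZMod 2) = ((1 : ℤ) : ZMod 2) := by
            rw [ZMod.intCast_eq_intCast_iff_dvd_sub]; omega
          rw [this, Int.cast_one, CharTwo.sub_eq_add]
        rw [e]
        exact add_mem hred (Submodule.subset_span (Set.mem_union_right _ rfl))
    have e : support₂ (red fun i => d i - d none) = S := by
      ext i
      simp only [support₂, hS, Finset.mem_filter, Finset.mem_univ, true_and]
      show ((d i - d none : ℤ) : ZMod 2) ≠ 0 ↔ _
      rw [Ne, ZMod.intCast_zmod_eq_zero_iff_dvd]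
      have := hd i
      omega
    rw [← e]; exact mem_golayCode.1 hw
  have hflip : maskOf S ∈ TwoInv.flipMasks := by
    obtain ⟨k, hk, hek⟩ := inCode_iff.1 hcode
    have h := forallLt_elim flip_complete hk
    have h0 : Nat.land (enc k) stdO = 0 := by
      refine Nat.eq_of_testBit_eq fun n => ?_
      show (enc k &&& stdO).testBit n = _
      rw [Nat.testBit_and, Nat.zero_testBit, hek]
      by_cases hn' : n < 24
      · rw [← ix_pt hn', testBit_maskOf]
        cases hb : stdO.testBit (ix (pt n))
        · rw [Bool.and_false]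
        · simp [hS, ho (pt n) hb]
      · rw [Nat.testBit_lt_two_pow (show stdO < 2 ^ n from lt_of_lt_of_le (by decide)
          (Nat.pow_le_pow_right (by norm_num) (show 24 ≤ n by omega))), Bool.and_false]
    rw [h0] at h
    simpa [hek] using h
  have hsq : ∀ i, x i ^ 2 ≤ 32 := fun i => by
    rw [← hn, sqNorm]
    exact Finset.single_le_sum (f := fun i => x i ^ 2) (fun j _ => sq_nonneg _) (Finset.mem_univ i)
  have hb : ∀ i, -5 ≤ x i ∧ x i ≤ 5 := fun i => by constructor <;> nlinarith [hsq i]
  have hvals : ∀ i, x i = 0 ∨ x i = 2 ∨ x i = -2 ∨ x i = 4 ∨ x i = -4 := fun i => by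
    have := hb i; have := heven i; omega
  have hsupp : ∀ i, x i % 4 = 2 → x i ^ 2 = 4 := fun i h => by
    rcases hvals i with e | e | e | e | e <;> rw [e] at h ⊢ <;> norm_num at *
  have hsum2 : (4 * S.card : ℤ) + ∑ i ∈ Finset.univ.filter (fun i => ¬x i % 4 = 2), x i ^ 2 = 32 := by
    rw [← hn, sqNorm, ← Finset.sum_filter_add_sum_filter_not Finset.univ (fun i => x i % 4 = 2), ← hS,
      Finset.sum_congr rfl (fun i hi => hsupp i (Finset.mem_filter.1 hi).2), Finset.sum_const, nsmul_eq_mul]
    push_cast
    ring
  have hcards : ∀ s ∈ TwoInv.flipMasks,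
      (s = 0 ∧ (setOfMask s).card = 0) ∨ (s ∈ octs ∧ (setOfMask s).card = 8) ∨ 8 < (setOfMask s).card := by
    decide +kernel
  have hSm : setOfMask (maskOf S) = S := setOfMask_maskOf S
  rw [cands, List.mem_append, List.mem_flatMap, List.mem_flatMap]
  rcases hcards _ hflip with ⟨-, h⟩ | ⟨hmem, h⟩ | h <;> rw [hSm] at h
  · right
    have hS0 : ∀ i, x i % 4 ≠ 2 := fun i e => by
      have : i ∈ S := by simp [hS, e]
      rw [Finset.card_eq_zero.1 h] at this
      simp at this
    set T : Finset GolayPt := Finset.univ.filter fun i => x i ≠ 0 with hT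
    have h16 : ∀ i ∈ T, x i ^ 2 = 16 := fun i hi => by
      have hne := (Finset.mem_filter.1 hi).2
      have h2 := hS0 i
      rcases hvals i with e | e | e | e | e <;> first | omega | (rw [e]; norm_num)
    have hT2 : T.card = 2 := by
      have e : ∑ i, x i ^ 2 = ∑ i ∈ T, x i ^ 2 :=
        (Finset.sum_filter_of_ne (p := fun i => x i ≠ 0) fun i _ hi e0 => hi (by rw [e0]; norm_num)).symm
      rw [sqNorm, e, Finset.sum_congr rfl h16, Finset.sum_const, nsmul_eq_mul] at hn
      omega
    refine ⟨maskOf T, ?_, mem_choices (fun i hi => ?_) (fun i hi => ?_) hs8⟩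
    · obtain ⟨a, b, hab, e⟩ := Finset.card_eq_two.1 hT2
      have hoff : ∀ i ∈ T, stdO.testBit (ix i) = false := fun i hi => by
        cases hc : stdO.testBit (ix i)
        · rfl
        · exact absurd (ho i hc) (Finset.mem_filter.1 hi).2
      have ha := hoff a (by rw [e]; simp)
      have hb' := hoff b (by rw [e]; simp)
      rw [e]
      have key : ∀ p q : GolayPt, p ≠ q → stdO.testBit (ix p) = false → stdO.testBit (ix q) = false →
          maskOf {p, q} ∈ pairs := by decide +kernel
      exact key a b hab ha hb'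
    · rw [testBit_maskOf, decide_eq_true_eq] at hi
      have := h16 i hi
      rcases hvals i with e | e | e | e | e <;> rw [e] at this ⊢ <;> norm_num at *
    · rw [testBit_maskOf, decide_eq_false_iff_not] at hi
      by_contra e
      exact hi (by simp [hT, e])
  · left
    refine ⟨_, hmem, mem_choices (fun i hi => ?_) (fun i hi => ?_) hs8⟩
    · rw [testBit_maskOf, decide_eq_true_eq] at hi
      have := hsupp i (Finset.mem_filter.1 hi).2
      rcases hvals i with e | e | e | e | e <;> rw [e] at this ⊢ <;> norm_num at *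
    · rw [testBit_maskOf, decide_eq_false_iff_not] at hi
      rw [h] at hsum2
      have hz : ∑ j ∈ Finset.univ.filter (fun j => ¬x j % 4 = 2), x j ^ 2 = 0 := by
        push_cast at hsum2; linarith
      have := (Finset.sum_eq_zero_iff_of_nonneg fun j _ => sq_nonneg (x j)).1 hz i
        (by simpa [hS] using hi)
      exact pow_eq_zero_iff (two_ne_zero) |>.1 this
  · exfalso
    have : (0 : ℤ) ≤ ∑ i ∈ Finset.univ.filter (fun i => ¬x i % 4 = 2), x i ^ 2 :=
      Finset.sum_nonneg fun i _ => sq_nonneg _
    omega

/-! ### signatures -/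

theorem krow_eq (k : ℕ) : krow k = row (pv k) :=
  List.map_congr_left fun j hj => by rw [pv, ix_pt (List.mem_range.1 hj)]

/-- Sums of four lists of sizes. -/
def addFour (a b c e : List ℕ) : List ℕ := List.zipWith (· + ·) (List.zipWith (· + ·) a b) (List.zipWith (· + ·) c e)

theorem addFour_map {α : Type} (l : List α) (f g h k : α → ℕ) :
    addFour (l.map f) (l.map g) (l.map h) (l.map k) = l.map fun x => f x + g x + (h x + k x) := by
  simp only [addFour, List.zipWith_map, List.zipWith_self]

/-- The sizes of the classes, summed over the quarters. -/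
theorem cls_counts :
    (List.range 5).map (fun n => (cls (prefixKeys n) (baseKeys.getD n 0)).length) = [35, 16, 6, 2, 3] ∧
    selKeys.map (fun y => (cls (prefixKeys 5) y).length) = List.replicate 9 1 ∧
    lineKeys.map (fun y => (cls (prefixKeys 5 ++ selKeys) y).length) = List.replicate 35 1 := by
  simp only [cls_length, ← addFour_map]
  have h0 := part0_counts
  have h1 := part1_counts
  have h2 := part2_counts
  have h3 := part3_counts
  simp only [partCounts, Prod.mk.injEq] at h0 h1 h2 h3
  rw [h0.1, h0.2.1, h0.2.2, h1.1, h1.2.1, h1.2.2, h2.1, h2.2.1, h2.2.2, h3.1, h3.2.1, h3.2.2]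
  decide

theorem base_classes : baseKeys.length = 5 ∧
    (List.range 5).all (fun n => decide ((cls (prefixKeys n) (baseKeys.getD n 0)).length ≤ baseSizes.getD n 0)) = true := by
  refine ⟨rfl, List.all_eq_true.2 fun n hn => decide_eq_true ?_⟩
  have h := congrArg (fun l : List ℕ => l.getD n 0) cls_counts.1
  rw [List.mem_range] at hn
  simp only [List.getD_eq_getElem?_getD, List.getElem?_map, List.getElem?_range hn, Option.map_some,
    Option.getD_some] at h ⊢
  exact le_of_eq h

theorem sel_classes : (selKeys.all fun y => decide ((cls (prefixKeys 5) y).length ≤ 1)) = true := by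
  refine List.all_eq_true.2 fun y hy => decide_eq_true ?_
  have h : (cls (prefixKeys 5) y).length ∈ selKeys.map (fun y => (cls (prefixKeys 5) y).length) :=
    List.mem_map_of_mem hy
  rw [cls_counts.2.1, List.mem_replicate] at h
  exact h.2.le

theorem line_classes : (lineKeys.all fun y => decide ((cls (prefixKeys 5 ++ selKeys) y).length ≤ 1)) = true := by
  refine List.all_eq_true.2 fun y hy => decide_eq_true ?_
  have h : (cls (prefixKeys 5 ++ selKeys) y).length ∈
      lineKeys.map (fun y => (cls (prefixKeys 5 ++ selKeys) y).length) := List.mem_map_of_mem hy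
  rw [cls_counts.2.2, List.mem_replicate] at h
  exact h.2.le

theorem keys_ok : ∀ y ∈ baseKeys ++ selKeys ++ lineKeys,
    LTest (pv y) ∧ sqNorm (pv y) = 32 ∧ (∀ i : GolayPt, stdO.testBit (ix i) = true → pv y i = 0) := by
  unfold sqNorm
  decide +kernel

theorem vu_off : Off (pv vKey) ∧ Off (pv uKey) := by
  unfold Off
  decide +kernel

/-- The packed vectors fixed by an element. -/
def Fixes (g : ↥Co0) (F : List ℕ) : Prop := ∀ k ∈ F, ∀ w : ↥leechLattice, (w : Vec) = pv k → g • w = w

theorem image_row {g : ↥Co0} (hg : g * tH = tH * g) {F : List ℕ} (hF : Fixes g F)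
    (hFl : ∀ k ∈ F, pv k ∈ leechLattice) {y : ℕ} (hy : pv y ∈ leechLattice) (hn : sqNorm (pv y) = 32)
    (ho : Off (pv y)) : row ((g • (⟨pv y, hy⟩ : ↥leechLattice) : ↥leechLattice) : Vec) ∈ cls F y := by
  rw [cls, List.mem_filter, decide_eq_true_eq]
  refine ⟨census (SetLike.coe_mem _) ((norm_smul' g _).trans hn) (off_smul hg ho), ?_⟩
  refine List.map_congr_left fun k hk => ?_
  rw [krow_eq, krow_eq, ldot_row, ldot_row]
  conv_lhs => rw [show pv k = ((g • (⟨pv k, hFl k hk⟩ : ↥leechLattice) : ↥leechLattice) : Vec) by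
    rw [hF k hk _ rfl]]
  exact dot_smul' g _ _

theorem mem_own {F : List ℕ} {y : ℕ} (hy : pv y ∈ leechLattice) (hn : sqNorm (pv y) = 32) (ho : Off (pv y)) :
    row (pv y) ∈ cls F y := by
  rw [cls, List.mem_filter, decide_eq_true_eq, ← krow_eq]
  exact ⟨krow_eq y ▸ census hy hn ho, rfl⟩

theorem fixed_of_unique {g : ↥Co0} (hg : g * tH = tH * g) {F : List ℕ} (hF : Fixes g F)
    (hFl : ∀ k ∈ F, pv k ∈ leechLattice) {y : ℕ} (hn : sqNorm (pv y) = 32) (ho : Off (pv y))
    (hu : (cls F y).length ≤ 1) : ∀ w : ↥leechLattice, (w : Vec) = pv y → g • w = w := by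
  intro w hw
  have hy : pv y ∈ leechLattice := hw ▸ w.2
  have e : w = ⟨pv y, hy⟩ := Subtype.ext hw
  subst e
  have h1 := image_row hg hF hFl hy hn ho
  have h2 := mem_own (F := F) hy hn ho
  obtain ⟨i, hi, e1⟩ := List.getElem_of_mem h1
  obtain ⟨j, hj, e2⟩ := List.getElem_of_mem h2
  have hij : i = j := by omega
  subst hij
  exact Subtype.ext (row_inj (e1.symm.trans e2))

theorem key_mem {k : ℕ} (hk : k ∈ [vKey, uKey] ++ (baseKeys ++ selKeys ++ lineKeys)) : pv k ∈ leechLattice := by
  rcases List.mem_append.1 hk with h | h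
  · simp only [List.mem_cons, List.not_mem_nil, or_false] at h
    rcases h with rfl | rfl
    · exact pv_mem vKey_ok.1
    · exact pv_mem vKey_ok.2
  · exact pv_mem (keys_ok k h).1

theorem prefix_sub {n k : ℕ} (hk : k ∈ prefixKeys n) : k ∈ [vKey, uKey] ++ (baseKeys ++ selKeys ++ lineKeys) := by
  rcases List.mem_append.1 hk with h | h
  · exact List.mem_append_left _ h
  · exact List.mem_append_right _ (List.mem_append_left _ (List.mem_append_left _ (List.mem_of_mem_take h)))

/-- The lines are fixed once the base is. -/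
theorem fixes_lines {g : ↥Co0} (hg : g * tH = tH * g) (hF : Fixes g (prefixKeys 5)) :
    Fixes g ([vKey, uKey] ++ lineKeys) := by
  have hsel : Fixes g (prefixKeys 5 ++ selKeys) := by
    intro k hk
    rcases List.mem_append.1 hk with h | h
    · exact hF k h
    · obtain ⟨-, hn, ho⟩ := keys_ok k (List.mem_append_left _ (List.mem_append_right _ h))
      exact fixed_of_unique hg hF (fun j hj => key_mem (prefix_sub hj)) hn ho
        (by simpa using List.all_eq_true.1 sel_classes k h)
  intro k hk
  rcases List.mem_append.1 hk with h | h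
  · exact hF k (List.mem_append_left _ h)
  · obtain ⟨-, hn, ho⟩ := keys_ok k (List.mem_append_right _ h)
    refine fixed_of_unique hg hsel (fun j hj => ?_) hn ho (by simpa using List.all_eq_true.1 line_classes k h)
    rcases List.mem_append.1 hj with h' | h'
    · exact key_mem (prefix_sub h')
    · exact key_mem (List.mem_append_right _ (List.mem_append_left _ (List.mem_append_right _ h')))

/-! ### the kernel of the action on the fixed lattice -/

/-- The fixed vectors of the span certificate. -/
def spanKeys : List ℕ := [vKey, uKey] ++ lineKeys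

theorem span_spec : (∀ i : GolayPt, stdO.testBit (ix i) = false → ∃ e ∈ combos, e.1 = ix i ∧
      (∀ p ∈ e.2, p.1 < 37) ∧
      ∀ j : GolayPt, (e.2.map fun p => p.2 * pv (spanKeys.getD p.1 0) j).sum =
        (scale : ℤ) * (if j = i then 8 else 0)) ∧ scale ≠ 0 ∧ spanKeys.length = 37 := by
  decide +kernel

theorem fix_eight {g : ↥Co0} (hF : Fixes g spanKeys) {i : GolayPt} (hi : stdO.testBit (ix i) = false) :
    g • (⟨eightVec i, eightVec_mem i⟩ : ↥leechLattice) = ⟨eightVec i, eightVec_mem i⟩ := by
  obtain ⟨hall, hscale, hlen⟩ := span_spec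
  obtain ⟨e, -, -, hlt, hsum⟩ := hall i hi
  have hget : ∀ p ∈ e.2, spanKeys.getD p.1 0 ∈ spanKeys := fun p hp => by
    rw [List.getD_eq_getElem _ _ (by rw [hlen]; exact hlt p hp)]; exact List.getElem_mem _
  have key : ∀ l : List (ℕ × ℤ), (∀ p ∈ l, spanKeys.getD p.1 0 ∈ spanKeys) → ∃ w : ↥leechLattice,
      (∀ j, (w : Vec) j = (l.map fun p => p.2 * pv (spanKeys.getD p.1 0) j).sum) ∧ g • w = w := by
    intro l
    induction l with
    | nil =>
      intro _
      exact ⟨0, fun j => rfl, map_zero (linOf g)⟩
    | cons p l ih =>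
      intro hl
      obtain ⟨w, hw, hwf⟩ := ih fun q hq => hl q (List.mem_cons_of_mem _ hq)
      have hk := hl p List.mem_cons_self
      have hmem : pv (spanKeys.getD p.1 0) ∈ leechLattice := key_mem (by
        rcases List.mem_append.1 hk with h | h
        · exact List.mem_append_left _ h
        · exact List.mem_append_right _ (List.mem_append_right _ h))
      refine ⟨p.2 • (⟨_, hmem⟩ : ↥leechLattice) + w, fun j => ?_, ?_⟩
      · rw [List.map_cons, List.sum_cons, ← hw j, AddSubgroup.coe_add, Pi.add_apply, AddSubgroup.coe_zsmul,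
          Pi.smul_apply, smul_eq_mul]
      · show linOf g _ = _
        rw [map_add, map_zsmul]
        show p.2 • (g • (⟨_, hmem⟩ : ↥leechLattice)) + g • w = _
        rw [hF _ hk _ rfl, hwf]
  obtain ⟨w, hw, hwf⟩ := key e.2 hget
  have ew : w = scale • (⟨eightVec i, eightVec_mem i⟩ : ↥leechLattice) := by
    refine Subtype.ext (funext fun j => ?_)
    rw [hw, hsum, AddSubgroup.coe_nsmul, Pi.smul_apply, nsmul_eq_mul]
    rfl
  rw [ew] at hwf
  have hl : g • (scale • (⟨eightVec i, eightVec_mem i⟩ : ↥leechLattice)) =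
      scale • (g • (⟨eightVec i, eightVec_mem i⟩ : ↥leechLattice)) := map_nsmul (linOf g) _ _
  rw [hl] at hwf
  refine Subtype.ext (funext fun j => ?_)
  have h := congrFun (congrArg Subtype.val hwf) j
  simp only [AddSubgroup.coe_nsmul, Pi.smul_apply, nsmul_eq_mul] at h
  exact mul_left_cancel₀ (Nat.cast_ne_zero.2 hscale) h

theorem other_octad : ∃ o ∈ octads, (∀ x ∈ o, stdO.testBit (ix x) = false) ∧
    ∃ q : GolayPt, stdO.testBit (ix q) = false ∧ q ∉ o := by
  have hm : octs.getD 0 0 ∈ octs ∧ inCode (octs.getD 0 0) = true ∧ (setOfMask (octs.getD 0 0)).card = 8 ∧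
      (∀ x ∈ setOfMask (octs.getD 0 0), stdO.testBit (ix x) = false) ∧
      ∃ q : GolayPt, stdO.testBit (ix q) = false ∧ q ∉ setOfMask (octs.getD 0 0) := by decide +kernel
  exact ⟨_, ⟨TwoInv.mem_supports_mask hm.2.1, hm.2.2.1⟩, hm.2.2.2.1, hm.2.2.2.2⟩

theorem code_in_octad : forallLt 4096 (fun k => !(Nat.beq (Nat.land (enc k) TwoInv.ocMask) 0) ||
    Nat.beq (enc k) 0 || Nat.beq (enc k) stdO) = true := by decide +kernel

theorem kernel_pair {g : ↥Co0} (hF : Fixes g spanKeys) : g = 1 ∨ g = tH := by
  classical
  have h8 := fun i (hi : stdO.testBit (ix i) = false) => fix_eight hF hi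
  have h4 : stdO.testBit (ix (pt 4)) = false := by decide +kernel
  have hpres : Preserves g := by
    rw [preserves_iff]
    have hcl : classOf (eightVec (pt 4)) = classOf (eightVec none) :=
      ((mem_std_iff (eightVec_mem _)).1 (mem_stdCross.2 ⟨_, Or.inl rfl⟩)).2
    have e := classOf_smul g (x := ⟨eightVec (pt 4), eightVec_mem _⟩) (y := baseElt) hcl
    rw [h8 _ h4] at e
    exact e.symm.trans hcl
  obtain ⟨σ, hσ, c, hc, hg⟩ := exists_mono hpres
  have hfix : ∀ i, stdO.testBit (ix i) = false → σ i = i ∧ i ∉ c := by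
    intro i hi
    have h := congrArg Subtype.val (h8 i hi)
    rw [hg, monoElt_apply, signedPerm_eight] at h
    by_cases hm : σ i ∈ c
    · rw [if_pos hm] at h
      exact absurd h.symm (eightVec_ne_neg _ _)
    · rw [if_neg hm] at h
      have e := eightVec_inj h
      rw [e] at hm
      exact ⟨e, hm⟩
  have hσ1 : σ = 1 := by
    by_contra hne
    refine hne ?_
    obtain ⟨o, ho, hoff, q, hq, hqo⟩ := other_octad
    have hs := (fix_regular ho hqo).1 ⟨σ, hσ⟩ (fun x hx => (hfix x (hoff x hx)).1) (hfix q hq).1
    exact congrArg (fun g : ↥M24 => (g : Equiv.Perm GolayPt)) hs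
  subst hσ1
  obtain ⟨k, hk, hek⟩ := inCode_iff.1 (mem_supports_iff.1 hc)
  have h := forallLt_elim code_in_octad hk
  have h0 : Nat.land (enc k) TwoInv.ocMask = 0 := by
    refine Nat.eq_of_testBit_eq fun n => ?_
    show (enc k &&& TwoInv.ocMask).testBit n = _
    rw [Nat.testBit_and, Nat.zero_testBit, hek]
    by_cases hn : n < 24
    · rw [← ix_pt hn, testBit_maskOf, TwoInv.mem_ocMask]
      cases hb : stdO.testBit (ix (pt n))
      · simp [(hfix (pt n) hb).2]
      · simp
    · rw [Nat.testBit_lt_two_pow (show TwoInv.ocMask < 2 ^ n from lt_of_lt_of_le (by decide +kernel)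
        (Nat.pow_le_pow_right (by norm_num) (show 24 ≤ n by omega))), Bool.and_false]
  rw [h0] at h
  simp only [Nat.beq_refl, Bool.not_true, Bool.false_or, Bool.or_eq_true] at h
  have hg' : ∀ v : ↥leechLattice, ((g • v : ↥leechLattice) : Vec) = flipVec (setOfMask (enc k)) (v : Vec) := by
    intro v
    rw [hg, monoElt_apply, hek, setOfMask_maskOf]
    rfl
  rcases h with h | h <;> rw [Nat.eq_of_beq_eq_true h] at hg'
  · refine Or.inl (ext_smul fun v => ?_)
    rw [hg', one_smul]
    funext i
    simp [flipVec]
  · exact Or.inr (ext_smul fun v => by rw [hg', tH, fl_apply stdO_code])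

end CfsgLib.Sporadic.Conway.MclInv
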