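import Cfsg.Prelude
import Cfsg.Agent.Lib.Sporadic.ConwayMclInvolutionBase
import Cfsg.Agent.Lib.Sporadic.ConwaySmallSimple
import Cfsg.Agent.Lib.ZStar.Main

/-!
# The centraliser of an involution in McL is a double cover of the alternating group of degree eight

The centraliser acts on thirty-five fixed minimal vectors, labelled by the bisections of eight symbols.
-/

set_option autoImplicit false
set_option maxRecDepth 20000

namespace CfsgLib.Sporadic.Conway.MclInv

open Cfsg Finset CfsgLib.ThreeTrans.Leech CfsgLib.Sporadic.Lattice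
open CfsgLib.Sporadic.Conway.TwoInv (packEltIn stepIn mem_CT tElt)

attribute [local irreducible] cls cands OTree.entries

/-! ### the order bound -/

/-- The centraliser fixing the first `n` vectors of the base. -/
def chain (n : ℕ) : Subgroup ↥Co0 where
  carrier := {g | g ∈ CH ∧ Fixes g (prefixKeys n)}
  one_mem' := ⟨one_mem _, fun k _ w _ => one_smul _ w⟩
  mul_mem' := fun {a b} ha hb => ⟨mul_mem ha.1 hb.1, fun k hk w hw => by
    rw [mul_smul, hb.2 k hk w hw, ha.2 k hk w hw]⟩
  inv_mem' := fun {a} ha => ⟨inv_mem ha.1, fun k hk w hw => by rw [inv_smul_eq_iff, ha.2 k hk w hw]⟩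

theorem fixes_vu {g : ↥Co0} (hg : g ∈ CH) : Fixes g [vKey, uKey] := by
  obtain ⟨-, h1, h2⟩ := mem_CH.1 hg
  intro k hk w hw
  simp only [List.mem_cons, List.not_mem_nil, or_false] at hk
  rcases hk with rfl | rfl
  · rw [show w = vE from Subtype.ext hw]; exact h1
  · rw [show w = uE from Subtype.ext hw]; exact h2

theorem chain_zero : chain 0 = CH :=
  le_antisymm (fun _ h => h.1) fun g hg => ⟨hg, by simpa [prefixKeys] using fixes_vu hg⟩

theorem finite_co0 : Finite ↥Co0 := Nat.finite_of_card_ne_zero (by rw [card_Co0]; norm_num)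

theorem chain_step (n : ℕ) (hn : n < 5) :
    Nat.card ↥(chain n) ≤ baseSizes.getD n 0 * Nat.card ↥(chain (n + 1)) := by
  classical
  haveI := finite_co0
  obtain ⟨hlen, hall⟩ := base_classes
  set k := baseKeys.getD n 0 with hkd
  have hk : k ∈ baseKeys := by
    rw [hkd, List.getD_eq_getElem _ _ (by omega)]; exact List.getElem_mem _
  obtain ⟨ht, hnorm, hoff⟩ := keys_ok k (List.mem_append_left _ (List.mem_append_left _ hk))
  have hcl : (cls (prefixKeys n) k).length ≤ baseSizes.getD n 0 := by
    have := List.all_eq_true.1 hall n (List.mem_range.2 hn)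
    simpa [hkd] using this
  let b : ↥leechLattice := ⟨pv k, pv_mem ht⟩
  have horb : (MulAction.orbit ↥(chain n) b).ncard ≤ baseSizes.getD n 0 := by
    refine le_trans ?_ (le_trans (List.toFinset_card_le (l := cls (prefixKeys n) k)) hcl)
    rw [← Set.ncard_coe_finset]
    refine Set.ncard_le_ncard_of_injOn (fun x => row (x : Vec)) ?_
      (fun x _ y _ e => Subtype.ext (row_inj e)) (Finset.finite_toSet _)
    rintro x ⟨g, rfl⟩
    rw [Finset.mem_coe, List.mem_toFinset]
    exact image_row (mem_CH.1 g.2.1).1 g.2.2 (fun j hj => key_mem (prefix_sub hj)) _ hnorm hoff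
  have hstab : Nat.card ↥(MulAction.stabilizer ↥(chain n) b) ≤ Nat.card ↥(chain (n + 1)) := by
    refine Nat.card_le_card_of_injective
      (fun g => (⟨g.1.1, g.1.2.1, fun j hj w hw => ?_⟩ : ↥(chain (n + 1)))) fun x y e =>
        Subtype.ext (Subtype.ext (congrArg (fun z : ↥(chain (n + 1)) => (z : ↥Co0)) e))
    rw [prefixKeys, List.take_add_one, List.getElem?_eq_getElem (by omega), ← List.append_assoc] at hj
    rcases List.mem_append.1 hj with h | h
    · exact g.1.2.2 j h w hw
    · simp only [Option.toList_some, List.mem_cons, List.not_mem_nil, or_false] at h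
      rw [show w = b from Subtype.ext (hw.trans (congrArg pv (h.trans (List.getD_eq_getElem _ _ (by omega)).symm)))]
      exact MulAction.mem_stabilizer_iff.1 g.2
  calc Nat.card ↥(chain n) = Nat.card ↥(MulAction.stabilizer ↥(chain n) b) * (MulAction.orbit ↥(chain n) b).ncard := by
        rw [← MulAction.index_stabilizer, Subgroup.card_mul_index]
    _ ≤ Nat.card ↥(chain (n + 1)) * baseSizes.getD n 0 := Nat.mul_le_mul hstab horb
    _ = _ := mul_comm _ _

theorem chain_five : Nat.card ↥(chain 5) ≤ 2 := by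
  classical
  have h : ∀ g : ↥(chain 5), (g : ↥Co0) = 1 ∨ (g : ↥Co0) = tH := fun g => by
    have h := fixes_lines (mem_CH.1 g.2.1).1 g.2.2
    exact kernel_pair h
  refine (Nat.card_le_card_of_injective
    (fun g : ↥(chain 5) => if (g : ↥Co0) = 1 then (0 : Fin 2) else 1) fun x y e => ?_).trans
    (by simp)
  refine Subtype.ext ?_
  by_cases hx : (x : ↥Co0) = 1 <;> by_cases hy : (y : ↥Co0) = 1
  · rw [hx, hy]
  · simp [hx, hy] at e
  · simp [hx, hy] at e
  · rw [(h x).resolve_left hx, (h y).resolve_left hy]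

theorem card_CH_le : Nat.card ↥CH ≤ 40320 := by
  rw [← chain_zero]
  have h0 := chain_step 0 (by norm_num)
  have h1 := chain_step 1 (by norm_num)
  have h2 := chain_step 2 (by norm_num)
  have h3 := chain_step 3 (by norm_num)
  have h4 := chain_step 4 (by norm_num)
  have h5 := chain_five
  have e : baseSizes = [35, 16, 6, 2, 3] := rfl
  simp only [e, List.getD_cons_zero, List.getD_cons_succ] at h0 h1 h2 h3 h4
  calc Nat.card ↥(chain 0) ≤ 35 * Nat.card ↥(chain 1) := h0
    _ ≤ 35 * (16 * (6 * (2 * (3 * 2)))) := Nat.mul_le_mul_left _ (h1.trans (Nat.mul_le_mul_left _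
      (h2.trans (Nat.mul_le_mul_left _ (h3.trans (Nat.mul_le_mul_left _
        (h4.trans (Nat.mul_le_mul_left _ h5))))))))
    _ = 40320 := by norm_num

/-! ### the action on the thirty-five vectors -/

/-- A line. -/
noncomputable def lk (i : Fin 35) : ℕ := lineKeys.getD i.val 0

theorem lineKeys_len : lineKeys.length = 35 := rfl

theorem lk_mem (i : Fin 35) : lk i ∈ lineKeys := by
  rw [lk, List.getD_eq_getElem _ _ (by rw [lineKeys_len]; exact i.isLt)]; exact List.getElem_mem _

theorem lk_inj : ∀ i j : Fin 35, (lk i = lk j → i = j) ∧ lk i < 2 ^ 96 := by decide +kernel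

/-- A line as a lattice vector. -/
noncomputable def ln (i : Fin 35) : ↥leechLattice :=
  ⟨pv (lk i), pv_mem (keys_ok _ (List.mem_append_right _ (lk_mem i))).1⟩

theorem ln_injective : Function.Injective ln := fun i j e =>
  (lk_inj i j).1 (pv_inj (lk_inj i j).2 (lk_inj j i).2 (congrArg Subtype.val e))

theorem line_list : ((cls [vKey, uKey] (lineKeys.getD 0 0)).all fun l => (lineKeys.map krow).contains l) = true := by
  decide +kernel

theorem line_sig : ∀ i : Fin 35, sig [vKey, uKey] (krow (lk i)) = sig [vKey, uKey] (krow (lineKeys.getD 0 0)) := by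
  decide +kernel

theorem cls_congr {F : List ℕ} {a b : ℕ} (h : sig F (krow a) = sig F (krow b)) : cls F a = cls F b := by
  unfold cls; rw [h]

theorem exists_image {g : ↥Co0} (hg : g ∈ CH) (i : Fin 35) : ∃ j, g • ln i = ln j := by
  obtain ⟨-, hn, ho⟩ := keys_ok _ (List.mem_append_right _ (lk_mem i))
  have h := image_row (mem_CH.1 hg).1 (fixes_vu hg) (fun k hk => key_mem (List.mem_append_left _ hk))
    (ln i).2 hn ho
  rw [cls_congr (line_sig i)] at h
  have h' := List.all_eq_true.1 line_list _ h
  rw [List.contains_iff_mem, List.mem_map] at h'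
  obtain ⟨k, hk, e⟩ := h'
  obtain ⟨j, hj, rfl⟩ := List.getElem_of_mem hk
  rw [lineKeys_len] at hj
  refine ⟨⟨j, hj⟩, Subtype.ext (row_inj ?_)⟩
  rw [show ((ln ⟨j, hj⟩ : ↥leechLattice) : Vec) = pv (lk ⟨j, hj⟩) from rfl, ← krow_eq, lk,
    List.getD_eq_getElem _ _ (by rw [lineKeys_len]; exact hj)]
  exact e.symm

/-- The index of an image. -/
noncomputable def im (g : ↥CH) (i : Fin 35) : Fin 35 := (exists_image g.2 i).choose

theorem im_spec (g : ↥CH) (i : Fin 35) : (g : ↥Co0) • ln i = ln (im g i) := (exists_image g.2 i).choose_spec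

theorem im_mul (g h : ↥CH) (i : Fin 35) : im (g * h) i = im g (im h i) :=
  ln_injective <| by rw [← im_spec, ← im_spec, Subgroup.coe_mul, mul_smul, im_spec]

theorem im_one (i : Fin 35) : im 1 i = i := ln_injective <| by rw [← im_spec, Subgroup.coe_one, one_smul]

/-- The action. -/
noncomputable def phi : ↥CH →* Equiv.Perm (Fin 35) where
  toFun g :=
    { toFun := im g
      invFun := im g⁻¹
      left_inv := fun i => by rw [← im_mul, inv_mul_cancel, im_one]
      right_inv := fun i => by rw [← im_mul, mul_inv_cancel, im_one] }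
  map_one' := Equiv.ext im_one
  map_mul' g h := Equiv.ext (im_mul g h)

theorem phi_eq {g : ↥CH} {i j : Fin 35} (h : (g : ↥Co0) • ln i = ln j) : phi g i = j :=
  ln_injective ((im_spec g i).symm.trans h)

theorem phi_ker {g : ↥CH} (h : phi g = 1) : (g : ↥Co0) = 1 ∨ (g : ↥Co0) = tH := by
  refine kernel_pair fun k hk w hw => ?_
  rcases List.mem_append.1 hk with h' | h'
  · exact fixes_vu g.2 k h' w hw
  · obtain ⟨j, hj, rfl⟩ := List.getElem_of_mem h'
    rw [lineKeys_len] at hj
    have hwj : w = ln ⟨j, hj⟩ := Subtype.ext (hw.trans (by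
      show _ = pv (lk ⟨j, hj⟩)
      rw [lk, List.getD_eq_getElem _ _ (by rw [lineKeys_len]; exact hj)]))
    rw [hwj, im_spec]
    exact congrArg ln (Equiv.congr_fun h ⟨j, hj⟩)

theorem tH_fix {w : ↥leechLattice} (h : Off (w : Vec)) : tH • w = w := Subtype.ext <| funext fun i => by
  rw [tH_apply]
  cases e : stdO.testBit (ix i)
  · rfl
  · rw [h i e]; rfl

theorem tH_mem : tH ∈ CH := mem_CH.2 ⟨rfl, tH_fix vu_off.1, tH_fix vu_off.2⟩

/-- The involution in the centraliser. -/
noncomputable def tC : ↥CH := ⟨tH, tH_mem⟩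

theorem tC_phi : phi tC = 1 := Equiv.ext fun i => phi_eq (tH_fix
  (keys_ok _ (List.mem_append_right _ (lk_mem i))).2.2)

/-! ### the checked elements -/

theorem root_spec : LTest (pv rootKey) ∧ (∀ i : GolayPt, stdO.testBit (ix i) = false → pv rootKey i = 0) ∧
    pv rootKey ≠ -pv rootKey := by decide +kernel

/-- A vector on the octad. -/
noncomputable def rootE : ↥leechLattice := ⟨pv rootKey, pv_mem root_spec.1⟩

theorem tH_root : tH • rootE = -rootE := Subtype.ext <| funext fun i => by
  rw [tH_apply, AddSubgroup.coe_neg, Pi.neg_apply]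
  cases e : stdO.testBit (ix i)
  · show pv rootKey i = -pv rootKey i
    rw [root_spec.2.1 i e]; rfl
  · rfl

theorem root_ne : rootE ≠ -rootE := fun e => root_spec.2.2 (congrArg Subtype.val e)

theorem elt_ext {g h : ↥CH} (h1 : phi g = phi h) (h2 : (g : ↥Co0) • rootE = (h : ↥Co0) • rootE) : g = h := by
  have hk : phi (h⁻¹ * g) = 1 := by rw [map_mul, map_inv, h1, inv_mul_cancel]
  rcases phi_ker hk with e | e
  · exact (inv_mul_eq_one.1 (Subtype.ext e)).symm
  · exfalso
    have := tH_root
    rw [← e, Subgroup.coe_mul, Subgroup.coe_inv, mul_smul, h2, inv_smul_smul] at this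
    exact root_ne this

theorem gen_valid : (genWords.all fun w => w.all stepIn &&
    decide (evalWord w vKey = some vKey) && decide (evalWord w uKey = some uKey)) = true ∧
    genWords.length = 9 := by decide +kernel

theorem all_mask : inCode 16777215 = true ∧ 16777215 ^^^ TwoInv.ocMask = stdO := by decide +kernel

theorem fl_all (w : ↥leechLattice) : TwoInv.fl 16777215 • w = -w := Subtype.ext <| funext fun i => by
  rw [TwoInv.fl_apply all_mask.1]
  have : ∀ j : GolayPt, (16777215 : ℕ).testBit (ix j) = true := by decide +kernel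
  simp [flipVec, this]

theorem comm_tH {g : ↥Co0} (h : g ∈ TwoInv.CT) : g * tH = tH * g := by
  have hall : g * TwoInv.fl 16777215 = TwoInv.fl 16777215 * g := TwoInv.ext_smul fun w => by
    rw [mul_smul, mul_smul, fl_all, fl_all, smul_neg']
  have e : tH = TwoInv.fl 16777215 * tElt := by
    rw [tElt, TwoInv.fl_mul all_mask.1 TwoInv.ocMask_code, all_mask.2]; rfl
  rw [e, ← mul_assoc, hall, mul_assoc, mem_CT.1 h, mul_assoc]

theorem gen_exists (k : Fin 9) : ∃ g ∈ CH, ∀ a b, evalWord (genWords.getD k.val []) a = some b →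
    ∀ w : ↥leechLattice, (w : Vec) = pv a → ((g • w : ↥leechLattice) : Vec) = pv b := by
  have hl : k.val < genWords.length := by rw [gen_valid.2]; exact k.isLt
  have h := List.all_eq_true.1 gen_valid.1 (genWords.getD k.val [])
    (by rw [List.getD_eq_getElem _ _ hl]; exact List.getElem_mem _)
  simp only [Bool.and_eq_true, decide_eq_true_eq] at h
  obtain ⟨g, hg, hev⟩ := packEltIn _ h.1.1
  exact ⟨g, mem_CH.2 ⟨comm_tH hg, Subtype.ext (hev _ _ h.1.2 vE rfl), Subtype.ext (hev _ _ h.2 uE rfl)⟩, hev⟩

/-- A listed element. -/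
noncomputable def gen (k : Fin 9) : ↥CH := ⟨(gen_exists k).choose, (gen_exists k).choose_spec.1⟩

theorem gen_eval (k : Fin 9) {a b : ℕ} (h : evalWord (genWords.getD k.val []) a = some b)
    {w : ↥leechLattice} (hw : (w : Vec) = pv a) : (((gen k : ↥Co0) • w : ↥leechLattice) : Vec) = pv b :=
  (gen_exists k).choose_spec.2 a b h w hw

/-- Where a word sends a line. -/
noncomputable def lineImg (w : List (ℕ × ℕ)) (i : Fin 35) : Fin 35 :=
  Fin.ofNat 35 (lineKeys.idxOf ((evalWord w (lk i)).getD 0))

theorem gen_lines : ∀ k : Fin 9, ∀ i : Fin 35,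
    evalWord (genWords.getD k.val []) (lk i) = some (lk (lineImg (genWords.getD k.val []) i)) := by
  decide +kernel

theorem phi_gen (k : Fin 9) (i : Fin 35) : phi (gen k) i = lineImg (genWords.getD k.val []) i :=
  phi_eq (Subtype.ext (gen_eval k (gen_lines k i) (w := ln i) rfl))

/-! ### the labelling -/

/-- A bisection of eight symbols. -/
def part (i : Fin 35) : Finset (Finset (Fin 8)) :=
  {Finset.univ.filter (fun x : Fin 8 => (bisect.getD i.val 0).testBit x.val),
    Finset.univ.filter (fun x : Fin 8 => !(bisect.getD i.val 0).testBit x.val)}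

theorem part_inj : ∀ i j : Fin 35, part i = part j → i = j := by decide +kernel

/-- A permutation of the symbols matches one of the lines. -/
def Compat (g : ↥CH) (σ : Equiv.Perm (Fin 8)) : Prop :=
  ∀ i, (part i).image (Finset.image σ) = part (phi g i)

theorem compat_mul {g h : ↥CH} {σ τ : Equiv.Perm (Fin 8)} (h1 : Compat g σ) (h2 : Compat h τ) :
    Compat (g * h) (σ * τ) := by
  intro i
  rw [map_mul, Equiv.Perm.mul_apply, ← h1, ← h2, Finset.image_image]
  refine Finset.image_congr fun s _ => ?_
  rw [Function.comp_apply, Finset.image_image]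
  rfl

theorem compat_unique {g h : ↥CH} {σ : Equiv.Perm (Fin 8)} (h1 : Compat g σ) (h2 : Compat h σ) :
    phi g = phi h :=
  Equiv.ext fun i => part_inj _ _ ((h1 i).symm.trans (h2 i))

theorem compat_one : Compat 1 1 := fun i => by
  rw [map_one, Equiv.Perm.one_apply]
  conv_rhs => rw [← Finset.image_id (s := part i)]
  exact Finset.image_congr fun s _ => by simp

/-- The even permutations matched by some element. -/
def matched : Subgroup ↥(alternatingGroup (Fin 8)) where
  carrier := {σ | ∃ g, Compat g σ.1}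
  one_mem' := ⟨1, compat_one⟩
  mul_mem' := fun {a b} ⟨g, hg⟩ ⟨h, hh⟩ => ⟨g * h, compat_mul hg hh⟩
  inv_mem' := fun {a} ⟨g, hg⟩ => ⟨g⁻¹, fun i => by
    have h := hg (phi g⁻¹ i)
    rw [← Equiv.Perm.mul_apply, ← map_mul, mul_inv_cancel, map_one, Equiv.Perm.one_apply] at h
    rw [← h, Finset.image_image]
    conv_rhs => rw [← Finset.image_id (s := part (phi g⁻¹ i))]
    refine Finset.image_congr fun s _ => ?_
    rw [Function.comp_apply, Finset.image_image]
    simp⟩

/-- The six generating three-cycles, the two involutions and the auxiliary element. -/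
def symOf : Fin 8 → Equiv.Perm (Fin 8) :=
  ![Equiv.swap 0 1 * Equiv.swap 1 2, Equiv.swap 0 1 * Equiv.swap 1 3, Equiv.swap 0 1 * Equiv.swap 1 4,
    Equiv.swap 0 1 * Equiv.swap 1 5, Equiv.swap 0 1 * Equiv.swap 1 6, Equiv.swap 0 1 * Equiv.swap 1 7,
    Equiv.swap 0 1 * Equiv.swap 2 3, Equiv.swap 0 1 * Equiv.swap 2 3 * (Equiv.swap 4 5 * Equiv.swap 6 7)]

theorem symOf_even : ∀ k, Equiv.Perm.sign (symOf k) = 1 := by decide +kernel

theorem gen_compat_data : ∀ k : Fin 8, ∀ i : Fin 35,
    (part i).image (Finset.image (symOf k)) = part (lineImg (genWords.getD k.val []) i) := by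
  decide +kernel

theorem gen_compat (k : Fin 8) : Compat (gen k.castSucc) (symOf k) := fun i => by
  rw [phi_gen]; exact gen_compat_data k i

/-- The triples of distinct symbols. -/
def triples : List (Fin 8 × Fin 8 × Fin 8) :=
  (List.finRange 8).flatMap fun a => (List.finRange 8).flatMap fun b => (List.finRange 8).filterMap fun c =>
    if a ≠ b ∧ a ≠ c ∧ b ≠ c then some (a, b, c) else none

theorem triples_ok : threeWords.length = triples.length ∧ (threeWords.all fun w => w.all fun j => decide (j < 6)) = true ∧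
    ((triples.zip threeWords).all fun e => (List.finRange 8).all fun x => decide
      ((Equiv.swap e.1.1 e.1.2.1 * Equiv.swap e.1.2.1 e.1.2.2) x =
        (e.2.map fun j => symOf (Fin.ofNat 8 j)).prod x)) = true := by
  decide +kernel

theorem matched_top : matched = ⊤ := by
  rw [eq_top_iff, ← alternatingGroup.closure_isThreeCycles_eq_top, Subgroup.closure_le]
  intro σ hσ
  obtain ⟨a, ha⟩ := Finset.card_pos.1 (by rw [Equiv.Perm.IsThreeCycle.card_support hσ]; norm_num :
    0 < (σ : Equiv.Perm (Fin 8)).support.card)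
  have he := (Equiv.Perm.IsThreeCycle.eq_swap_mul_swap_iff_mem_support hσ).2 ha
  have hnd := (Equiv.Perm.IsThreeCycle.nodup_iff_mem_support hσ).2 ha
  set b := (σ : Equiv.Perm (Fin 8)) a
  set c := (σ : Equiv.Perm (Fin 8)) b
  have htr : (a, b, c) ∈ triples := by
    simp only [List.nodup_cons, List.mem_cons, List.not_mem_nil, not_or, or_false] at hnd
    simp only [triples, List.mem_flatMap, List.mem_filterMap, List.mem_finRange, true_and]
    exact ⟨a, b, c, by rw [if_pos ⟨hnd.1.1, hnd.1.2, hnd.2.1⟩]⟩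
  obtain ⟨n, hn, en⟩ := List.getElem_of_mem htr
  obtain ⟨hlen, hsmall, hall⟩ := triples_ok
  have hmem : (triples[n], threeWords[n]'(by omega)) ∈ triples.zip threeWords := by
    rw [← List.getElem_zip (h := by rw [List.length_zip]; omega)]
    exact List.getElem_mem _
  have hx := List.all_eq_true.1 hall _ hmem
  rw [en] at hx
  have heq : (σ : Equiv.Perm (Fin 8)) = ((threeWords[n]'(by omega)).map fun j => symOf (Fin.ofNat 8 j)).prod := by
    rw [he]
    exact Equiv.ext fun x => of_decide_eq_true (List.all_eq_true.1 hx x (List.mem_finRange x))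
  have key : ∀ l : List ℕ, ∃ g, Compat g (l.map fun j => symOf (Fin.ofNat 8 j)).prod := by
    intro l
    induction l with
    | nil => exact ⟨1, compat_one⟩
    | cons j l ih =>
      obtain ⟨g, hg⟩ := ih
      exact ⟨gen (Fin.ofNat 8 j).castSucc * g, by
        rw [List.map_cons, List.prod_cons]; exact compat_mul (gen_compat _) hg⟩
  obtain ⟨g, hg⟩ := key (threeWords[n]'(by omega))
  exact ⟨g, heq ▸ hg⟩

/-- The action of the even permutations on the lines. -/
noncomputable def theta : ↥(alternatingGroup (Fin 8)) →* Equiv.Perm (Fin 35) where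
  toFun σ := phi (show ∃ g, Compat g σ.1 from (matched_top ▸ Subgroup.mem_top σ : σ ∈ matched)).choose
  map_one' := by
    rw [compat_unique (Exists.choose_spec (show ∃ g, Compat g (1 : ↥(alternatingGroup (Fin 8))).1 from ⟨1, compat_one⟩))
      compat_one, map_one]
  map_mul' a b := by
    have ha : a ∈ matched := matched_top ▸ Subgroup.mem_top a
    have hb : b ∈ matched := matched_top ▸ Subgroup.mem_top b
    have hab : a * b ∈ matched := matched_top ▸ Subgroup.mem_top _
    rw [← map_mul]
    exact compat_unique (show ∃ g, Compat g (a * b).1 from hab).choose_spec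
      (compat_mul (show ∃ g, Compat g a.1 from ha).choose_spec (show ∃ g, Compat g b.1 from hb).choose_spec)

theorem theta_eq {σ : ↥(alternatingGroup (Fin 8))} {g : ↥CH} (h : Compat g σ.1) : theta σ = phi g :=
  compat_unique (show ∃ g, Compat g σ.1 from (matched_top ▸ Subgroup.mem_top σ : σ ∈ matched)).choose_spec h

/-- An even permutation of the eight symbols. -/
def evenSym (k : Fin 8) : ↥(alternatingGroup (Fin 8)) :=
  ⟨symOf k, Equiv.Perm.mem_alternatingGroup.2 (symOf_even k)⟩

theorem theta_evenSym (k : Fin 8) : theta (evenSym k) = phi (gen k.castSucc) := theta_eq (gen_compat k)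

theorem moved : ∀ k : Fin 9, ∃ i : Fin 35, lineImg (genWords.getD k.val []) i ≠ i := by decide +kernel

theorem theta_injective : Function.Injective theta := by
  haveI : IsSimpleGroup ↥(alternatingGroup (Fin 8)) := alternatingGroup.isSimpleGroup (by simp)
  rw [← MonoidHom.ker_eq_bot_iff]
  refine (MonoidHom.normal_ker theta).eq_bot_or_eq_top.resolve_right fun h => ?_
  obtain ⟨i, hi⟩ := moved ((0 : Fin 8).castSucc)
  have h0 : theta (evenSym 0) = 1 := MonoidHom.mem_ker.1 (h ▸ Subgroup.mem_top _)
  rw [theta_evenSym] at h0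
  exact hi (by rw [← phi_gen, h0]; rfl)

theorem theta_le : theta.range ≤ phi.range := by
  rintro x ⟨σ, rfl⟩
  exact ⟨_, rfl⟩

theorem card_alt : Nat.card ↥(alternatingGroup (Fin 8)) = 20160 := by
  haveI : Nontrivial (Fin 8) := inferInstance
  have h := two_mul_card_alternatingGroup (α := Fin 8)
  rw [Fintype.card_perm, Fintype.card_fin, show Nat.factorial 8 = 40320 from rfl] at h
  rw [Nat.card_eq_fintype_card]
  omega

theorem tC_ne : tC ≠ 1 := fun e => root_ne (by
  have := tH_root
  rw [show tH = (1 : ↥Co0) from congrArg Subtype.val e, one_smul] at this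
  exact this)

theorem counts : phi.range = theta.range ∧ Nat.card ↥CH = 40320 ∧ phi.ker = Subgroup.zpowers tC := by
  haveI := finite_co0
  have hc := phi.ker.card_mul_index
  rw [Subgroup.index_ker] at hc
  have hk : Subgroup.zpowers tC ≤ phi.ker := Subgroup.zpowers_le.2 tC_phi
  have hk' : phi.ker ≤ Subgroup.zpowers tC := fun g hg => by
    rcases phi_ker (MonoidHom.mem_ker.1 hg) with e | e
    · rw [show g = 1 from Subtype.ext e]; exact one_mem _
    · rw [show g = tC from Subtype.ext e]; exact Subgroup.mem_zpowers _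
  have hker : phi.ker = Subgroup.zpowers tC := le_antisymm hk' hk
  have hord : orderOf tC = 2 := orderOf_eq_prime (Subtype.ext (TwoInv.ext_smul fun w => by
    funext i
    show (((tH ^ 2 : ↥Co0) • w : ↥leechLattice) : Vec) i = ((1 : ↥Co0) • w : ↥leechLattice).1 i
    rw [pow_two, mul_smul, one_smul, tH_apply, tH_apply]
    cases stdO.testBit (ix i) <;> simp)) tC_ne
  have hk2 : Nat.card ↥phi.ker = 2 := by rw [hker, Nat.card_zpowers, hord]
  have hle : Nat.card ↥theta.range ≤ Nat.card ↥phi.range :=
    Nat.card_le_card_of_injective _ (Subgroup.inclusion_injective theta_le)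
  have ht : Nat.card ↥theta.range = 20160 := by
    rw [← card_alt]; exact (Nat.card_congr (MonoidHom.ofInjective theta_injective).toEquiv).symm
  have hcard := card_CH_le
  rw [hk2] at hc
  refine ⟨?_, by omega, hker⟩
  exact (Subgroup.eq_of_le_of_card_ge theta_le (by omega)).symm

/-- The centraliser onto the alternating group. -/
noncomputable def toAlt : ↥CH →* ↥(alternatingGroup (Fin 8)) :=
  (MonoidHom.ofInjective theta_injective).symm.toMonoidHom.comp
    (phi.codRestrict theta.range fun g => counts.1 ▸ ⟨g, rfl⟩)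

theorem theta_toAlt (g : ↥CH) : theta (toAlt g) = phi g := by
  have h := MonoidHom.apply_ofInjective_symm theta_injective
    (⟨phi g, counts.1 ▸ ⟨g, rfl⟩⟩ : theta.range)
  exact h

theorem toAlt_surjective : Function.Surjective toAlt := fun σ => by
  obtain ⟨g, hg⟩ : theta σ ∈ phi.range := theta_le ⟨σ, rfl⟩
  exact ⟨g, theta_injective ((theta_toAlt g).trans hg)⟩

theorem toAlt_eq_iff {g h : ↥CH} : toAlt g = toAlt h ↔ phi g = phi h :=
  ⟨fun e => by rw [← theta_toAlt, ← theta_toAlt, e], fun e => theta_injective (by rw [theta_toAlt, theta_toAlt, e])⟩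

theorem toAlt_gen (k : Fin 8) : toAlt (gen k.castSucc) = evenSym k :=
  theta_injective (by rw [theta_toAlt, theta_evenSym])

/-- The second kind of lift. -/
noncomputable def gFour : ↥CH := gen 6
/-- The first kind of lift. -/
noncomputable def gTwo : ↥CH := gen 7
/-- The element carrying one lift to the other. -/
noncomputable def gSwap : ↥CH := gen 8

theorem relations : (∀ i : Fin 35, lineImg (genWords.getD 6 []) (lineImg (genWords.getD 6 []) i) = i ∧
      lineImg (genWords.getD 7 []) (lineImg (genWords.getD 7 []) i) = i ∧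
      lineImg (genWords.getD 8 []) (lineImg (genWords.getD 7 []) i) =
        lineImg (genWords.getD 7 []) (lineImg (genWords.getD 8 []) i)) := by
  decide +kernel

theorem root_relations :
    (∃ a, evalWord (genWords.getD 6 []) rootKey = some a ∧ ∃ b, evalWord (genWords.getD 6 []) a = some b ∧
      pv b = -pv rootKey) ∧
    (∃ a, evalWord (genWords.getD 7 []) rootKey = some a ∧ ∃ b, evalWord (genWords.getD 7 []) a = some b ∧
      pv b = pv rootKey) ∧
    (∃ a, evalWord (genWords.getD 7 []) rootKey = some a ∧ ∃ b, evalWord (genWords.getD 8 []) a = some b ∧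
      ∃ c, evalWord (genWords.getD 8 []) rootKey = some c ∧ ∃ d, evalWord (genWords.getD 7 []) c = some d ∧
        pv b = -pv d) := by
  refine ⟨?_, ?_, ?_⟩
  · refine ⟨_, (Option.some_get (x := evalWord (genWords.getD 6 []) rootKey) (by decide +kernel)).symm,
      _, (Option.some_get (by decide +kernel)).symm, by decide +kernel⟩
  · refine ⟨_, (Option.some_get (x := evalWord (genWords.getD 7 []) rootKey) (by decide +kernel)).symm,
      _, (Option.some_get (by decide +kernel)).symm, by decide +kernel⟩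
  · refine ⟨_, (Option.some_get (x := evalWord (genWords.getD 7 []) rootKey) (by decide +kernel)).symm,
      _, (Option.some_get (by decide +kernel)).symm,
      _, (Option.some_get (x := evalWord (genWords.getD 8 []) rootKey) (by decide +kernel)).symm,
      _, (Option.some_get (by decide +kernel)).symm, by decide +kernel⟩

theorem gen_two_steps {j k : Fin 9} {a b : ℕ} (h1 : evalWord (genWords.getD k.val []) rootKey = some a)
    (h2 : evalWord (genWords.getD j.val []) a = some b) :
    (((gen j * gen k : ↥CH) : ↥Co0) • rootE : ↥leechLattice).1 = pv b := by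
  rw [Subgroup.coe_mul, mul_smul]
  exact gen_eval j h2 (gen_eval k h1 (w := rootE) rfl)

theorem phi_two (j k : Fin 9) (i : Fin 35) : phi (gen j * gen k) i =
    lineImg (genWords.getD j.val []) (lineImg (genWords.getD k.val []) i) := by
  rw [map_mul, Equiv.Perm.mul_apply, phi_gen, phi_gen]

theorem gFour_sq : gFour * gFour = tC := by
  obtain ⟨⟨a, ha, b, hb, e⟩, -, -⟩ := root_relations
  refine elt_ext (Equiv.ext fun i => ?_) (Subtype.ext ?_)
  · rw [tC_phi, gFour, phi_two]; exact (relations i).1
  · rw [gFour, gen_two_steps (j := 6) (k := 6) ha hb, e]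
    show _ = ((tH • rootE : ↥leechLattice) : Vec)
    rw [tH_root]; rfl

theorem gTwo_sq : gTwo * gTwo = 1 := by
  obtain ⟨-, ⟨a, ha, b, hb, e⟩, -⟩ := root_relations
  refine elt_ext (Equiv.ext fun i => ?_) (Subtype.ext ?_)
  · rw [map_one, gTwo, phi_two]; exact (relations i).2.1
  · rw [gTwo, gen_two_steps (j := 7) (k := 7) ha hb, e, Subgroup.coe_one, one_smul]; rfl

theorem gSwap_conj : gSwap * gTwo = tC * (gTwo * gSwap) := by
  obtain ⟨-, -, a, ha, b, hb, c, hc, d, hd, e⟩ := root_relations
  refine elt_ext (Equiv.ext fun i => ?_) (Subtype.ext ?_)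
  · rw [map_mul (f := phi) tC, tC_phi, one_mul, gSwap, gTwo, phi_two, phi_two]; exact (relations i).2.2
  · have hneg : tH • (((gTwo * gSwap : ↥CH) : ↥Co0) • rootE) = -(((gTwo * gSwap : ↥CH) : ↥Co0) • rootE) := by
      have hc' : ((gTwo * gSwap : ↥CH) : ↥Co0) * tH = tH * ((gTwo * gSwap : ↥CH) : ↥Co0) :=
        (mem_CH.1 (gTwo * gSwap).2).1
      rw [← mul_smul, ← hc', mul_smul, tH_root, smul_neg']
    show _ = ((((tC * (gTwo * gSwap) : ↥CH) : ↥Co0) • rootE : ↥leechLattice) : Vec)
    rw [Subgroup.coe_mul CH tC, mul_smul, show (tC : ↥Co0) = tH from rfl, hneg, gSwap, gTwo,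
      gen_two_steps (j := 8) (k := 7) ha hb, AddSubgroup.coe_neg,
      gen_two_steps (j := 7) (k := 8) hc hd, e]

/-! ### structure -/

theorem tC_central (g : ↥CH) : g * tC = tC * g := Subtype.ext (mem_CH.1 g.2).1

theorem tC_sq : tC * tC = 1 := by
  refine elt_ext ?_ (Subtype.ext ?_)
  · rw [map_mul, tC_phi, one_mul, map_one]
  · rw [Subgroup.coe_mul, mul_smul, show (tC : ↥Co0) = tH from rfl, tH_root, smul_neg', tH_root,
      neg_neg, Subgroup.coe_one, one_smul]

theorem eq_tC_of_phi {g h : ↥CH} (e : phi g = phi h) : g = h ∨ g = tC * h := by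
  have hk : phi (g * h⁻¹) = 1 := by rw [map_mul, map_inv, e, mul_inv_cancel]
  rcases phi_ker hk with e' | e'
  · exact Or.inl (mul_inv_eq_one.1 (Subtype.ext e'))
  · exact Or.inr (mul_inv_eq_iff_eq_mul.1 (Subtype.ext e'))

theorem center_eq : Subgroup.center ↥CH = Subgroup.zpowers tC := by
  refine le_antisymm (fun g hg => ?_) (Subgroup.zpowers_le.2 (Subgroup.mem_center_iff.2 tC_central))
  have hc : toAlt g ∈ Subgroup.center ↥(alternatingGroup (Fin 8)) := Subgroup.mem_center_iff.2 fun σ => by
    obtain ⟨h, rfl⟩ := toAlt_surjective σ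
    rw [← map_mul, ← map_mul, Subgroup.mem_center_iff.1 hg h]
  haveI : IsSimpleGroup ↥(alternatingGroup (Fin 8)) := alternatingGroup.isSimpleGroup (by simp)
  have hbot : Subgroup.center ↥(alternatingGroup (Fin 8)) = ⊥ :=
    (inferInstance : (Subgroup.center ↥(alternatingGroup (Fin 8))).Normal).eq_bot_or_eq_top.resolve_right fun h => by
      have h' : evenSym 0 * evenSym 1 = evenSym 1 * evenSym 0 :=
        Subgroup.mem_center_iff.1 (h ▸ Subgroup.mem_top (evenSym 1)) (evenSym 0)
      revert h'
      decide +kernel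
  rw [hbot, Subgroup.mem_bot, ← map_one toAlt, toAlt_eq_iff, map_one] at hc
  rw [← counts.2.2]
  exact hc

theorem double_cover : IsNonsplitDoubleCover ↥CH ↥(alternatingGroup (Fin 8)) := by
  haveI := finite_co0
  have hker : toAlt.ker = Subgroup.center ↥CH := by
    rw [center_eq, ← counts.2.2]
    ext g
    rw [MonoidHom.mem_ker, MonoidHom.mem_ker, ← map_one toAlt, toAlt_eq_iff, map_one]
  have hord : orderOf tC = 2 := orderOf_eq_prime (by rw [pow_two, tC_sq]) tC_ne
  refine ⟨by rw [center_eq, Nat.card_zpowers, hord],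
    ⟨(QuotientGroup.quotientMulEquivOfEq hker.symm).trans
      (QuotientGroup.quotientKerEquivOfSurjective toAlt toAlt_surjective)⟩, fun L hL => ?_⟩
  have hidx : L.index = 2 := by
    rw [hL.index_eq_card, center_eq, Nat.card_zpowers, hord]
  have hmem : tC ∈ L := gFour_sq ▸ Subgroup.mul_self_mem_of_index_two hidx gFour
  have h := hL.disjoint.le_bot ⟨(center_eq ▸ Subgroup.mem_zpowers tC : tC ∈ Subgroup.center ↥CH), hmem⟩
  exact tC_ne (Subgroup.mem_bot.1 h)

/-- The involutions of the centraliser other than the central one form a single class. -/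
theorem conj_gTwo {x : ↥CH} (hx : x * x = 1) (h1 : x ≠ 1) (ht : x ≠ tC) :
    ∃ g : ↥CH, g * x * g⁻¹ = gTwo := by
  set σ := toAlt x with hσ
  have hσ2 : σ.1 * σ.1 = 1 := congrArg Subtype.val (show σ * σ = 1 by rw [hσ, ← map_mul, hx, map_one])
  have hσ1 : σ ≠ 1 := fun e => by
    rw [hσ, ← map_one toAlt, toAlt_eq_iff] at e
    rcases eq_tC_of_phi e with e' | e'
    · exact h1 e'
    · exact ht (by rw [e', mul_one])
  have htype : σ.1.cycleType = (symOf 6).cycleType ∨ σ.1.cycleType = (symOf 7).cycleType := by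
    have hne : σ.1 ≠ 1 := fun e => hσ1 (Subtype.ext e)
    have hord : orderOf σ.1 = 2 := orderOf_eq_prime (by rw [pow_two, hσ2]) hne
    haveI : Fact (Nat.Prime 2) := ⟨Nat.prime_two⟩
    obtain ⟨n, hn⟩ := Equiv.Perm.cycleType_prime_order (by rw [hord]; exact Nat.prime_two)
    rw [hord] at hn
    have hsum := σ.1.sum_cycleType
    have hsign := Equiv.Perm.sign_of_cycleType σ.1
    rw [Equiv.Perm.mem_alternatingGroup.1 σ.2, hn] at hsign
    have hle : σ.1.support.card ≤ 8 := (Finset.card_le_univ _).trans (by simp)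
    rw [hn, Multiset.sum_replicate, smul_eq_mul] at hsum
    simp only [Multiset.sum_replicate, Multiset.card_replicate, smul_eq_mul] at hsign
    have hb : n + 1 ≤ 4 := by omega
    rw [hn]
    have e6 : (symOf 6).cycleType = Multiset.replicate 2 2 := by decide +kernel
    have e7 : (symOf 7).cycleType = Multiset.replicate 4 2 := by decide +kernel
    rw [e6, e7]
    have hn3 : n ≤ 3 := by omega
    interval_cases n
    · exact absurd hsign (by decide)
    · exact Or.inl rfl
    · exact absurd hsign (by decide)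
    · exact Or.inr rfl
  have hconj : ∀ k : Fin 8, σ.1.cycleType = (symOf k).cycleType →
      symOf k * Equiv.swap 0 1 = Equiv.swap 0 1 * symOf k → ∃ g : ↥CH, phi (g * x * g⁻¹) = phi (gen k.castSucc) := by
    intro k hk hcomm
    obtain ⟨π, hπ⟩ := isConj_iff.1 (Equiv.Perm.isConj_iff_cycleType_eq.2 hk)
    obtain ⟨ρ, hρs, hρ⟩ : ∃ ρ : Equiv.Perm (Fin 8), Equiv.Perm.sign ρ = 1 ∧ ρ * σ.1 * ρ⁻¹ = symOf k := by
      rcases Int.units_eq_one_or (Equiv.Perm.sign π) with h | h
      · exact ⟨π, h, hπ⟩
      · refine ⟨Equiv.swap 0 1 * π, by rw [map_mul, h, Equiv.Perm.sign_swap (by decide)]; rfl, ?_⟩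
        rw [mul_inv_rev, show Equiv.swap (0 : Fin 8) 1 * π * σ.1 * (π⁻¹ * (Equiv.swap 0 1)⁻¹) =
          Equiv.swap 0 1 * (π * σ.1 * π⁻¹) * (Equiv.swap 0 1)⁻¹ by group, hπ, ← hcomm, mul_inv_cancel_right]
    obtain ⟨g, hg⟩ := toAlt_surjective ⟨ρ, Equiv.Perm.mem_alternatingGroup.2 hρs⟩
    refine ⟨g, toAlt_eq_iff.1 ?_⟩
    rw [toAlt_gen, map_mul, map_mul, map_inv, hg, ← hσ]
    exact Subtype.ext hρ
  rcases htype with h | h
  · exfalso
    obtain ⟨g, hg'⟩ := hconj 6 h (by decide +kernel)
    have hg : phi (g * x * g⁻¹) = phi gFour := hg'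
    have hy : (g * x * g⁻¹) * (g * x * g⁻¹) = 1 := by
      rw [show (g * x * g⁻¹) * (g * x * g⁻¹) = g * (x * x) * g⁻¹ by group, hx, mul_one, mul_inv_cancel]
    have h6 : gFour * gFour = 1 := by
      rcases eq_tC_of_phi hg with e | e
      · rw [e] at hy; exact hy
      · rw [e, show tC * gFour * (tC * gFour) = tC * (gFour * tC) * gFour by group, tC_central,
          show tC * (tC * gFour) * gFour = (tC * tC) * (gFour * gFour) by group, tC_sq, one_mul] at hy
        exact hy
    exact tC_ne (gFour_sq.symm.trans h6)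
  · obtain ⟨g, hg'⟩ := hconj 7 h (by decide +kernel)
    have hg : phi (g * x * g⁻¹) = phi gTwo := hg'
    rcases eq_tC_of_phi hg with e | e
    · exact ⟨g, e⟩
    · refine ⟨gSwap⁻¹ * g, ?_⟩
      have hc : gSwap⁻¹ * (tC * gTwo) * gSwap = gTwo := by
        have := gSwap_conj
        rw [mul_assoc, mul_assoc, ← this, inv_mul_cancel_left]
      rw [mul_inv_rev, inv_inv, show gSwap⁻¹ * g * x * (g⁻¹ * gSwap) = gSwap⁻¹ * (g * x * g⁻¹) * gSwap by group, e]
      exact hc

end CfsgLib.Sporadic.Conway.MclInv
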