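import Cfsg.Agent.Lib.Sporadic.ConwayMclInvolution

/-!
# McL has one class of involutions
-/

set_option autoImplicit false
set_option maxRecDepth 20000

namespace CfsgLib.Sporadic.Conway.MclInv

open Cfsg Finset CfsgLib.ThreeTrans.Leech CfsgLib.Sporadic.Lattice

attribute [local irreducible] CH cls cands OTree.entries

/-- The copy of McL. -/
noncomputable def HM : Subgroup ↥Co0 := fixGroup [vE, uE]

theorem mem_HM {g : ↥Co0} : g ∈ HM ↔ g • vE = vE ∧ g • uE = uE := by simp [HM, mem_fixGroup]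

theorem mem_CH' {g : ↥Co0} : g ∈ CH ↔ g * tH = tH * g ∧ g ∈ HM := by rw [mem_CH, mem_HM]

theorem std_pair : ∃ c : ↥Co0, c • vE = fiveElt ∧ c • uE = pairElt := by
  refine to_mcl ?_ ⟨?_, ?_⟩
  · show sqNorm (pv vKey) = 48
    unfold sqNorm; decide +kernel
  · show sqNorm (pv uKey) = 32
    unfold sqNorm; decide +kernel
  · show sqNorm (pv vKey - pv uKey) = 32
    unfold sqNorm; decide +kernel

theorem spor_map : (fixGroup [fiveElt, pairElt]).map (Cfsg.Co0).subtype = Spor.McL := by
  have hU : Spor.leechU = pairElt := Subtype.ext (by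
    show Spor.vecU = pv kPair
    decide +kernel)
  have hV : Spor.leechV = -fiveElt := Subtype.ext (by
    show Spor.vecV = -pv kFive
    decide +kernel)
  ext g
  constructor
  · rintro ⟨a, ha, rfl⟩
    have h := mem_fixGroup.1 ha
    refine ⟨⟨a.2, ?_⟩, ?_⟩
    · show a • Spor.leechV = Spor.leechV
      rw [hV, smul_neg', h fiveElt (by simp)]
    · show a • Spor.leechU = Spor.leechU
      rw [hU, h pairElt (by simp)]
  · rintro ⟨⟨h0, hv⟩, hu⟩
    have hv' : (⟨g, h0⟩ : ↥Co0) • Spor.leechV = Spor.leechV := hv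
    have hu' : (⟨g, h0⟩ : ↥Co0) • Spor.leechU = Spor.leechU := hu
    rw [hV, smul_neg', neg_inj] at hv'
    rw [hU] at hu'
    exact ⟨⟨g, h0⟩, mem_fixGroup.2 (List.forall_mem_cons.2 ⟨hv', List.forall_mem_cons.2 ⟨hu', by simp⟩⟩), rfl⟩

theorem nonempty_equiv : Nonempty (↥Spor.McL ≃* ↥HM) := by
  obtain ⟨c, h1, h2⟩ := std_pair
  have e : ↥HM ≃* ↥(fixGroup [fiveElt, pairElt]) :=
    (fixConj [vE, uE] c).trans (MulEquiv.subgroupCongr (by rw [List.map_cons, List.map_cons, List.map_nil, h1, h2]))
  exact ⟨(e.trans ((Subgroup.equivMapOfInjective _ _ (Cfsg.Co0).subtype_injective).trans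
    (MulEquiv.subgroupCongr spor_map))).symm⟩

theorem card_HM : Nat.card ↥HM = 898128000 := by
  obtain ⟨c, h1, h2⟩ := std_pair
  rw [HM, ← card_fix_map [vE, uE] c, List.map_cons, List.map_cons, List.map_nil, h1, h2, card_fix_mcl]

theorem simple_HM : IsSimpleGroup ↥HM := by
  obtain ⟨c, h1, h2⟩ := std_pair
  have hm : [vE, uE].map (c • ·) = [fiveElt, pairElt] := by simp [h1, h2]
  exact isSimple_congr ((fixConj [vE, uE] c).trans (MulEquiv.subgroupCongr (congrArg fixGroup hm))).symm simple_mcl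

/-- The involution in the copy of McL. -/
noncomputable def tM : ↥HM := ⟨tH, (mem_CH'.1 tH_mem).2⟩

/-- The centraliser in the copy of McL is the group studied before. -/
noncomputable def centEquiv : ↥(Subgroup.centralizer ({tM} : Set ↥HM)) ≃* ↥CH where
  toFun x := ⟨x.1.1, mem_CH'.2 ⟨congrArg Subtype.val (Subgroup.mem_centralizer_singleton_iff.1 x.2), x.1.2⟩⟩
  invFun x := ⟨⟨x.1, (mem_CH'.1 x.2).2⟩, Subgroup.mem_centralizer_singleton_iff.2 (Subtype.ext (mem_CH'.1 x.2).1)⟩
  left_inv _ := rfl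
  right_inv _ := rfl
  map_mul' _ _ := rfl

theorem tM_order : orderOf tM = 2 :=
  orderOf_eq_prime (Subtype.ext (show ((tM ^ 2 : ↥HM) : ↥Co0) = 1 by
    rw [SubgroupClass.coe_pow, pow_two]; exact congrArg (fun z : ↥CH => (z : ↥Co0)) tC_sq))
    fun e => tC_ne (Subtype.ext (congrArg (fun x : ↥HM => (x : ↥Co0)) e))

theorem two_part {n : ℕ} (m : ℕ) (hn : n = 2 ^ 7 * m) (hm : ¬2 ∣ m) : n.factorization 2 = 7 := by
  rw [hn, Nat.factorization_mul (by norm_num) (fun h => hm (by rw [h]; exact dvd_zero 2)), Finsupp.add_apply,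
    Nat.Prime.factorization_pow Nat.prime_two, Finsupp.single_eq_same, Nat.factorization_eq_zero_of_not_dvd hm]

theorem one_class : ∀ x y : ↥HM, orderOf x = 2 → orderOf y = 2 → IsConj x y := by
  classical
  haveI := finite_co0
  haveI : Fact (Nat.Prime 2) := ⟨Nat.prime_two⟩
  haveI := simple_HM
  set C := Subgroup.centralizer ({tM} : Set ↥HM) with hC
  have hcC : Nat.card ↥C = 40320 := (Nat.card_congr centEquiv.toEquiv).trans counts.2.1
  obtain ⟨P0⟩ : Nonempty (Sylow 2 ↥C) := inferInstance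
  have hP0 : Nat.card ↥(P0 : Subgroup ↥C) = 2 ^ 7 := by
    rw [P0.card_eq_multiplicity, hcC, two_part 315 (by norm_num) (by norm_num)]
  let P : Sylow 2 ↥HM := Sylow.ofCard ((P0 : Subgroup ↥C).map C.subtype) (by
    rw [Subgroup.card_subtype, hP0, card_HM, two_part 7016625 (by norm_num) (by norm_num)])
  have hPC : ∀ x ∈ (P : Subgroup ↥HM), x ∈ C := by
    intro x hx
    rw [Sylow.coe_ofCard] at hx
    obtain ⟨y, -, rfl⟩ := hx
    exact y.2
  have hcent : ∀ g ∈ C, g * tM = tM * g := fun g hg => Subgroup.mem_centralizer_singleton_iff.1 hg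
  have htP : tM ∈ (P : Subgroup ↥HM) := by
    have hz : Subgroup.zpowers (⟨tM, Subgroup.mem_centralizer_singleton_iff.2 rfl⟩ : ↥C) ≤ (P0 : Subgroup ↥C) := by
      have hn : (Subgroup.zpowers (⟨tM, Subgroup.mem_centralizer_singleton_iff.2 rfl⟩ : ↥C)).Normal :=
        ⟨fun n hn g => by
          have hc : ∀ k, k ∈ Subgroup.zpowers (⟨tM, Subgroup.mem_centralizer_singleton_iff.2 rfl⟩ : ↥C) →
              g * k = k * g := by
            rintro k ⟨m, rfl⟩
            exact Commute.zpow_right (Subtype.ext (hcent g.1 g.2)) m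
          rwa [hc n hn, mul_inv_cancel_right]⟩
      refine IsPGroup.le_sylow_of_normal (IsPGroup.of_card (n := 1) ?_) P0
      rw [Nat.card_zpowers, ← orderOf_injective C.subtype C.subtype_injective, pow_one]
      exact tM_order
    rw [Sylow.coe_ofCard]
    exact ⟨_, hz (Subgroup.mem_zpowers _), rfl⟩
  -- every involution of the centraliser other than the central one is conjugate to one element
  let h2 : ↥HM := ⟨(gTwo : ↥Co0), (mem_CH'.1 gTwo.2).2⟩
  have hone : ∀ x ∈ C, orderOf x = 2 → x ≠ tM → IsConj x h2 := by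
    intro x hx ho hne
    have hx2 : x * x = 1 := by rw [← pow_two, ← ho, pow_orderOf_eq_one]
    obtain ⟨g, hg⟩ := conj_gTwo (x := centEquiv ⟨x, hx⟩)
      (by rw [← map_mul, show (⟨x, hx⟩ : ↥C) * ⟨x, hx⟩ = 1 from Subtype.ext hx2, map_one])
      (fun e => by
        rw [map_eq_one_iff _ centEquiv.injective] at e
        rw [show x = 1 from congrArg Subtype.val e, orderOf_one] at ho
        exact absurd ho (by norm_num))
      (fun e => hne (Subtype.ext (congrArg (fun z : ↥CH => (z : ↥Co0)) e)))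
    exact isConj_iff.2 ⟨(centEquiv.symm g).1, Subtype.ext (congrArg (fun z : ↥CH => (z : ↥Co0)) hg)⟩
  -- the central involution is not isolated
  obtain ⟨g, hg, hgne⟩ : ∃ g : ↥HM, g * tM * g⁻¹ ∈ (P : Subgroup ↥HM) ∧ g * tM * g⁻¹ ≠ tM := by
    by_contra hcon
    push_neg at hcon
    have hmem := CfsgLib.ZStar.mem_oddCore_of_sylow P tM_order htP hcon
    have hbot : oddCore ↥HM = ⊥ :=
      (inferInstance : (oddCore ↥HM).Normal).eq_bot_or_eq_top.resolve_right fun h => by
        have := CfsgLib.ZStar.odd_card_oddCore ↥HM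
        rw [h, Subgroup.card_top, card_HM] at this
        exact absurd this (by decide)
    have hall : ∀ a : ↥HM, a ∈ C := fun a => by
      have h := hmem a
      rw [hbot, Subgroup.mem_bot, mul_inv_eq_one, mul_inv_eq_iff_eq_mul] at h
      exact Subgroup.mem_centralizer_singleton_iff.2 h.symm
    have htop : C = ⊤ := eq_top_iff.2 fun a _ => hall a
    rw [htop, Subgroup.card_top, card_HM] at hcC
    omega
  have hto : ∀ x : ↥HM, orderOf x = 2 → IsConj x tM := by
    intro x hx
    have hp : IsPGroup 2 ↥(Subgroup.zpowers x) := IsPGroup.of_card (n := 1) (by rw [Nat.card_zpowers, hx, pow_one])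
    obtain ⟨Q, hQ⟩ := hp.exists_le_sylow
    obtain ⟨a, ha⟩ := MulAction.exists_smul_eq (↥HM) Q P
    have hxa : a * x * a⁻¹ ∈ (P : Subgroup ↥HM) := by
      rw [← ha]
      exact ⟨x, hQ (Subgroup.mem_zpowers x), rfl⟩
    have hconj : IsConj x (a * x * a⁻¹) := isConj_iff.2 ⟨a, rfl⟩
    by_cases hax : a * x * a⁻¹ = tM
    · rwa [hax] at hconj
    refine hconj.trans ((hone _ (hPC _ hxa) ?_ hax).trans ((hone _ (hPC _ hg) ?_ hgne).symm.trans ?_))
    · rw [← hx]; exact orderOf_injective (MulAut.conj a).toMonoidHom (MulAut.conj a).injective x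
    · rw [← tM_order]; exact orderOf_injective (MulAut.conj g).toMonoidHom (MulAut.conj g).injective tM
    · exact (isConj_iff.2 ⟨g, rfl⟩).symm
  exact fun x y hx hy => (hto x hx).trans (hto y hy).symm

theorem isNonsplit_congr {A B K : Type*} [Group A] [Group B] [Group K] [Finite A] (e : A ≃* B)
    (h : IsNonsplitDoubleCover B K) : IsNonsplitDoubleCover A K := by
  obtain ⟨h1, ⟨q⟩, h3⟩ := h
  have hmap : (Subgroup.center A).map e.toMonoidHom = Subgroup.center B := by
    ext b
    simp only [Subgroup.mem_map, Subgroup.mem_center_iff]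
    constructor
    · rintro ⟨a, ha, rfl⟩ c
      obtain ⟨d, rfl⟩ := e.surjective c
      show e d * e a = e a * e d
      rw [← map_mul, ← map_mul, ha d]
    · intro hb
      refine ⟨e.symm b, fun c => ?_, e.apply_symm_apply b⟩
      apply e.injective
      rw [map_mul, map_mul, e.apply_symm_apply, hb]
  refine ⟨?_, ⟨(QuotientGroup.congr _ _ e hmap).trans q⟩, fun L hL => h3 (L.map e.toMonoidHom) ?_⟩
  · rw [← h1, ← hmap]
    exact Nat.card_congr (Subgroup.equivMapOfInjective _ e.toMonoidHom e.injective).toEquiv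
  · rw [← hmap]
    haveI : Finite B := Finite.of_equiv A e.toEquiv
    refine Subgroup.isComplement'_of_card_mul_and_disjoint ?_ ?_
    · rw [Subgroup.card_map_of_injective e.injective, Subgroup.card_map_of_injective e.injective,
        hL.card_mul, Nat.card_congr e.toEquiv]
    · exact Subgroup.disjoint_map e.injective hL.disjoint

theorem mcl_involutions : (∀ x y : ↥Spor.McL, orderOf x = 2 → orderOf y = 2 → IsConj x y) ∧
    ∃ t : ↥Spor.McL, orderOf t = 2 ∧
      IsNonsplitDoubleCover ↥(Subgroup.centralizer ({t} : Set ↥Spor.McL)) ↥(alternatingGroup (Fin 8)) := by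
  obtain ⟨E⟩ := nonempty_equiv
  refine ⟨fun x y hx hy => ?_, E.symm tM, by rw [MulEquiv.orderOf_eq]; exact tM_order, ?_⟩
  · have h := one_class (E x) (E y) (by rw [MulEquiv.orderOf_eq]; exact hx) (by rw [MulEquiv.orderOf_eq]; exact hy)
    simpa using E.symm.toMonoidHom.map_isConj h
  · have hmap : (Subgroup.centralizer ({E.symm tM} : Set ↥Spor.McL)).map E.toMonoidHom =
        Subgroup.centralizer ({tM} : Set ↥HM) := by
      ext b
      simp only [Subgroup.mem_map, Subgroup.mem_centralizer_singleton_iff]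
      constructor
      · rintro ⟨a, ha, rfl⟩
        have := congrArg E ha
        simpa using this
      · intro hb
        refine ⟨E.symm b, ?_, E.apply_symm_apply b⟩
        rw [← map_mul, ← map_mul, hb]
    haveI := finite_co0
    haveI : Finite ↥Spor.McL := Finite.of_equiv _ E.symm.toEquiv
    exact isNonsplit_congr ((Subgroup.equivMapOfInjective _ E.toMonoidHom E.injective).trans
      ((MulEquiv.subgroupCongr hmap).trans centEquiv)) double_cover

end CfsgLib.Sporadic.Conway.MclInv
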