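import Cfsg.Agent.Lib.Sporadic.ConwayOneInvolutionGroup
import Cfsg.Agent.Lib.Components.CharTwoLocal
import Cfsg.Prelude.Def_Spor_Conway

/-!
# An involution of Co1 whose centraliser is `2^{1+8}.Omega8+(2)`
-/

set_option autoImplicit false
set_option maxRecDepth 20000

namespace CfsgLib.Sporadic.Conway.OneInv

open Cfsg Finset CfsgLib.ThreeTrans.Leech CfsgLib.Sporadic.Lattice
open CfsgLib.Sporadic.Conway.TwoInv (Supp CT mem_CT CU mem_CU rho qel tElt tElt_apply fl fl_apply fl_mul pm pm_spec)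

/-- The sign change on every coordinate. -/
def allMask : ℕ := 16777215

theorem allMask_code : inCode allMask = true := by decide +kernel

theorem all_bit : ∀ i : GolayPt, allMask.testBit (ix i) = true := by decide +kernel

theorem neg_eq_fl : negElt = fl allMask := by
  refine TwoInv.ext_smul fun v => ?_
  rw [negElt_smul, fl_apply allMask_code]
  funext i
  simp [flipVec, all_bit]

theorem center_cases {g : ↥Co0} (h : g ∈ Subgroup.center ↥Co0) : g = 1 ∨ g = negElt := by
  rw [← SetLike.mem_coe, center_eq] at h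
  exact h

theorem neg_mem_center : negElt ∈ Subgroup.center ↥Co0 := by
  rw [← SetLike.mem_coe, center_eq]
  exact Or.inr rfl

theorem fl_inj {a b : ℕ} (ha : inCode a = true) (hb : inCode b = true) (h : fl a = fl b) : a = b := by
  refine mask_ext (inCode_lt ha) (inCode_lt hb) fun x => ?_
  have h' := congrArg (fun g : ↥Co0 => ((g • (⟨eightVec x, eightVec_mem x⟩ : ↥leechLattice) : ↥leechLattice) : Vec) x) h
  simp only [fl_apply ha, fl_apply hb, flipVec, mem_setOfMask, eightVec] at h'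
  cases h1 : a.testBit (ix x) <;> cases h2 : b.testBit (ix x) <;> simp [h1, h2] at h' ⊢

theorem no_swap (g : ↥Co0) : g * tElt ≠ negElt * (tElt * g) := by
  intro e
  let f : Fin 9 → GolayPt := fun k => pt ([4, 6, 7, 8, 9, 10, 11, 12, 13].getD k.val 0)
  have hf : ∀ k, stdO.testBit (ix (f k)) = false := by decide +kernel
  have hinj : Function.Injective f := by decide +kernel
  let e8 : Fin 9 → ↥leechLattice := fun k => ⟨eightVec (f k), eightVec_mem _⟩
  have hsupp : ∀ k, Supp ((g • e8 k : ↥leechLattice) : Vec) := by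
    intro k i hi
    have ht : tElt • e8 k = -e8 k := Subtype.ext (funext fun j => by
      rw [tElt_apply]
      show (if _ then eightVec (f k) j else -eightVec (f k) j) = -eightVec (f k) j
      by_cases hj : j = f k
      · rw [hj, hf k]; rfl
      · simp [eightVec, hj])
    have h1 : g • (tElt • e8 k) = -(tElt • (g • e8 k)) := by
      rw [← mul_smul, e, mul_smul, negElt_smul, mul_smul]
    rw [ht, smul_neg', neg_inj] at h1
    have h2 := congrFun (congrArg (fun v : ↥leechLattice => (v : Vec)) h1) i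
    simp only [tElt_apply, hi] at h2
    simp only [Bool.false_eq_true, if_false] at h2
    omega
  let o : Fin 8 → GolayPt := fun j => pt (TwoInv.oPts.getD j.val 0)
  let w : Fin 9 → (Fin 8 → ℚ) := fun k j => (((g • e8 k : ↥leechLattice) : Vec) (o j) : ℚ)
  have hdot : ∀ k l, ∑ j, w k j * w l j = if k = l then 64 else 0 := by
    intro k l
    have h2 : dotInt ((g • e8 k : ↥leechLattice) : Vec) ((g • e8 l : ↥leechLattice) : Vec) =
        if k = l then 64 else 0 := by
      rw [dot_smul']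
      show dotInt (eightVec (f k)) (eightVec (f l)) = _
      simp only [dotInt, eightVec, ite_mul, zero_mul, mul_ite, mul_zero]
      rcases eq_or_ne k l with rfl | hkl
      · simp
      · simp [hkl, hinj.ne hkl, (hinj.ne hkl).symm]
    rw [dotInt, TwoInv.sum_supp fun i hi => by rw [hsupp k i hi, zero_mul]] at h2
    have h3 := congrArg (fun z : ℤ => (z : ℚ)) h2
    simp only [TwoInv.oPts, List.map_cons, List.map_nil, List.sum_cons, List.sum_nil] at h3
    push_cast at h3
    simp only [Fin.sum_univ_succ, Fin.sum_univ_zero]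
    exact h3
  have hli : LinearIndependent ℚ w := by
    rw [Fintype.linearIndependent_iff]
    intro c hc k
    have h := congrArg (fun u : Fin 8 → ℚ => ∑ j, u j * w k j) hc
    simp only [Finset.sum_apply, Pi.smul_apply, smul_eq_mul, Pi.zero_apply, zero_mul, Finset.sum_const_zero,
      Finset.sum_mul] at h
    rw [Finset.sum_comm] at h
    simp only [mul_assoc, ← Finset.mul_sum, hdot, mul_ite, mul_zero, Finset.sum_ite_eq', Finset.mem_univ,
      if_true] at h
    linarith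
  have := hli.fintype_card_le_finrank
  simp at this

/-- The involution of Co1. -/
noncomputable def zOne : Cfsg.Spor.Co1 := QuotientGroup.mk tElt

/-- Its centraliser. -/
noncomputable abbrev C1 : Subgroup Cfsg.Spor.Co1 := Subgroup.centralizer ({zOne} : Set Cfsg.Spor.Co1)

/-- The projection of the centraliser. -/
noncomputable def proj : ↥CT →* ↥C1 :=
  ((QuotientGroup.mk' (Subgroup.center ↥Co0)).comp CT.subtype).codRestrict _ fun g =>
    Subgroup.mem_centralizer_singleton_iff.2 (by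
      show (QuotientGroup.mk (g : ↥Co0) : Cfsg.Spor.Co1) * QuotientGroup.mk tElt = QuotientGroup.mk tElt * _
      rw [← QuotientGroup.mk_mul, mem_CT.1 g.2, QuotientGroup.mk_mul]
      rfl)

theorem proj_val (g : ↥CT) : ((proj g : ↥C1) : Cfsg.Spor.Co1) = QuotientGroup.mk (g : ↥Co0) := rfl

theorem proj_surjective : Function.Surjective proj := by
  rintro ⟨x, hx⟩
  obtain ⟨g, rfl⟩ := QuotientGroup.mk_surjective x
  have h : (QuotientGroup.mk (g * tElt) : Cfsg.Spor.Co1) = QuotientGroup.mk (tElt * g) := by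
    rw [QuotientGroup.mk_mul, QuotientGroup.mk_mul]
    exact Subgroup.mem_centralizer_singleton_iff.1 hx
  rw [QuotientGroup.eq] at h
  rcases center_cases h with h1 | h1
  · exact ⟨⟨g, mem_CT.2 (inv_mul_eq_one.1 h1)⟩, rfl⟩
  · exfalso
    refine no_swap g ?_
    rw [inv_mul_eq_iff_eq_mul] at h1
    calc g * tElt = g * tElt * (negElt * negElt) := by rw [negElt_sq, mul_one]
      _ = tElt * g * negElt := by rw [← mul_assoc, ← h1]
      _ = negElt * (tElt * g) := Subgroup.mem_center_iff.1 neg_mem_center _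

theorem proj_eq {a b : ↥CT} (h : proj a = proj b) : (b : ↥Co0) = a ∨ (b : ↥Co0) = negElt * a := by
  have h' : (QuotientGroup.mk (a : ↥Co0) : Cfsg.Spor.Co1) = QuotientGroup.mk (b : ↥Co0) :=
    congrArg (fun x : ↥C1 => (x : Cfsg.Spor.Co1)) h
  rw [QuotientGroup.eq] at h'
  rcases center_cases h' with h1 | h1
  · exact Or.inl (inv_mul_eq_one.1 h1).symm
  · refine Or.inr ?_
    rw [inv_mul_eq_iff_eq_mul] at h1
    rw [h1]
    exact Subgroup.mem_center_iff.1 neg_mem_center _

theorem proj_eq_one {a : ↥CT} (h : proj a = 1) : (a : ↥Co0) = 1 ∨ (a : ↥Co0) = negElt := by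
  have := proj_eq (a := 1) (b := a) (by rw [map_one, h])
  simpa using this

/-- The normal 2-subgroup. -/
noncomputable def QOne : Subgroup ↥C1 := rho8.ker.map proj

instance QOne_normal : QOne.Normal := Subgroup.Normal.map (MonoidHom.normal_ker _) _ proj_surjective

theorem neg_ker {a : ↥CT} (h : (a : ↥Co0) = 1 ∨ (a : ↥Co0) = negElt) : a ∈ rho8.ker := by
  rcases h with h | h
  · rw [show a = 1 from Subtype.ext h]; exact one_mem _
  · rw [show a = ⟨negElt, negElt_mem⟩ from Subtype.ext h]; exact neg_mem_ker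

/-- The quotient by the normal 2-subgroup. -/
noncomputable def quotEquiv : ↥C1 ⧸ QOne ≃* ↥rho8.range :=
  have hk : ((QuotientGroup.mk' QOne).comp proj).ker = rho8.ker := by
    ext a
    rw [MonoidHom.mem_ker, MonoidHom.comp_apply, QuotientGroup.mk'_apply, QuotientGroup.eq_one_iff]
    refine ⟨fun ha => ?_, fun ha => ⟨a, ha, rfl⟩⟩
    obtain ⟨b, hb, e⟩ := ha
    have : b⁻¹ * a ∈ rho8.ker := neg_ker (proj_eq_one (by rw [map_mul, map_inv, e, inv_mul_cancel]))
    simpa using mul_mem hb this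
  (((QuotientGroup.quotientKerEquivOfSurjective ((QuotientGroup.mk' QOne).comp proj)
      ((QuotientGroup.mk'_surjective _).comp proj_surjective)).symm).trans
    (QuotientGroup.quotientMulEquivOfEq hk)).trans (QuotientGroup.quotientKerEquivRange rho8)

/-- The 2-group of the centraliser in Co2 onto the normal 2-subgroup. -/
noncomputable def kerHom : ↥rho.ker →* ↥QOne :=
  ((proj.comp jU).comp rho.ker.subtype).codRestrict _ fun q => ⟨jU q.1, ker_sub q.2, rfl⟩

theorem kerHom_bijective : Function.Bijective kerHom := by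
  constructor
  · intro a b h
    rcases proj_eq (congrArg Subtype.val h) with e | e
    · exact Subtype.ext (Subtype.ext e.symm)
    · exfalso
      refine neg_not_mem_CU ?_
      have : negElt = ((b : ↥CU) : ↥Co0) * ((a : ↥CU) : ↥Co0)⁻¹ := by
        show negElt = (jU b.1 : ↥Co0) * (jU a.1 : ↥Co0)⁻¹
        simp only [Subgroup.subtype_apply] at e
        rw [e, mul_inv_cancel_right]
      rw [this]
      exact mul_mem (b : ↥CU).2 (inv_mem (a : ↥CU).2)
  · rintro ⟨_, g, hg, rfl⟩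
    obtain ⟨q, hq, e | e⟩ := ker_cases hg
    · exact ⟨⟨q, hq⟩, Subtype.ext (congrArg proj (Subtype.ext e.symm))⟩
    · refine ⟨⟨q, hq⟩, Subtype.ext (Subtype.ext ?_)⟩
      show (QuotientGroup.mk ((q : ↥CU) : ↥Co0) : Cfsg.Spor.Co1) = QuotientGroup.mk (g : ↥Co0)
      rw [QuotientGroup.eq, e]
      have : ((q : ↥CU) : ↥Co0)⁻¹ * (negElt * (q : ↥CU)) = negElt := by
        rw [← Subgroup.mem_center_iff.1 neg_mem_center (q : ↥Co0), inv_mul_cancel_left]
      rw [this]
      exact neg_mem_center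

theorem card_QOne : Nat.card QOne = 2 ^ 9 := by
  rw [← TwoInv.card_ker]
  exact (Nat.card_eq_of_bijective _ kerHom_bijective).symm

theorem isExtraspecial_QOne : IsExtraspecial 2 QOne :=
  haveI : Fact (Nat.Prime 2) := ⟨Nat.prime_two⟩
  haveI : Finite rho.ker := Nat.finite_of_card_ne_zero (by rw [TwoInv.card_ker]; norm_num)
  ThreeTrans.isExtraspecial_congr TwoInv.isExtraspecial_ker (MulEquiv.ofBijective _ kerHom_bijective)

theorem finite_C1 : Finite ↥C1 := by
  haveI : Finite ↥Co0 := Nat.finite_of_card_ne_zero (by rw [card_Co0]; norm_num)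
  infer_instance

theorem simple_quot : IsSimpleGroup (↥C1 ⧸ QOne) := by
  haveI := simple_range
  exact quotEquiv.isSimpleGroup

theorem move_data : isAut movePerms.1 = true ∧ mimg movePerms.1 TwoInv.ocMask = TwoInv.ocMask ∧
    movePerms.2.1 ∈ octFixList ∧ movePerms.2.2.1 ∈ octFixList ∧ movePerms.2.2.2 ∈ octFixList ∧
    pmul movePerms.1 movePerms.2.1 = pmul movePerms.2.2.1 movePerms.1 ∧
    isAut (pmul movePerms.1 movePerms.2.1) = true ∧
    pmul movePerms.2.2.2 movePerms.2.1 = movePerms.2.2.1 ∧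
    moveMask ∈ TwoInv.flipMasks ∧ mimg movePerms.2.2.2 moveMask ∈ TwoInv.flipMasks ∧
    mimg movePerms.2.2.2 moveMask ≠ moveMask ∧ allMask ^^^ moveMask ≠ mimg movePerms.2.2.2 moveMask := by
  decide +kernel

theorem centralizer_le : Subgroup.centralizer (QOne : Set ↥C1) ≤ QOne := by
  haveI := simple_quot
  have hn : ((Subgroup.centralizer (QOne : Set ↥C1)).map (QuotientGroup.mk' QOne)).Normal :=
    Subgroup.Normal.map inferInstance _ (QuotientGroup.mk'_surjective _)
  rcases hn.eq_bot_or_eq_top with h | h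
  · rwa [Subgroup.map_eq_bot_iff, QuotientGroup.ker_mk'] at h
  exfalso
  obtain ⟨hp, hpo, hq, hq', hr, hpq, hpqa, hrq, hd, hdr, hne, hne'⟩ := move_data
  obtain ⟨p, hpdef⟩ : ∃ p, p = movePerms.1 := ⟨_, rfl⟩
  obtain ⟨q, hqdef⟩ : ∃ q, q = movePerms.2.1 := ⟨_, rfl⟩
  obtain ⟨q', hq'def⟩ : ∃ q', q' = movePerms.2.2.1 := ⟨_, rfl⟩
  obtain ⟨r, hrdef⟩ : ∃ r, r = movePerms.2.2.2 := ⟨_, rfl⟩
  rw [← hpdef] at hp hpo hpq hpqa
  rw [← hqdef] at hq hpq hpqa hrq
  rw [← hq'def] at hq' hpq hrq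
  rw [← hrdef] at hr hrq hdr hne hne'
  have hz0 : (0 : ℕ) ∈ TwoInv.flipMasks := TwoInv.perm_facts.2.2.2.2.2.1
  have hA : ∀ s ∈ octFixList, isAut s = true := fun s hs => (TwoInv.perm_facts.2.2.1 s hs).1
  have hF : ∀ c ∈ TwoInv.flipMasks, inCode c = true := fun c hc => (TwoInv.perm_facts.2.2.2.1 c hc).1
  have hmemQ : ∀ s ∈ octFixList, ∀ c ∈ TwoInv.flipMasks, ∃ hm : fl c * pm s ∈ CT,
      proj ⟨fl c * pm s, hm⟩ ∈ QOne := fun s hs c hc =>
    ⟨_, ⟨jU (qel (⟨s, hs⟩, ⟨c, hc⟩)), ker_sub (TwoInv.qel_ker _), rfl⟩⟩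
  obtain ⟨hmq, hQq⟩ := hmemQ q hq 0 hz0
  obtain ⟨hmd, hQd⟩ := hmemQ pone TwoInv.perm_facts.2.2.2.2.1 moveMask hd
  obtain ⟨hmr, hQr⟩ := hmemQ r hr 0 hz0
  set y : ↥C1 := proj ⟨pm p, TwoInv.pm_mem_CT hp hpo⟩
  set X : ↥C1 := proj ⟨fl 0 * pm q, hmq⟩
  set D : ↥C1 := proj ⟨fl moveMask * pm pone, hmd⟩
  set R : ↥C1 := proj ⟨fl 0 * pm r, hmr⟩
  have hyX : y * X = R * X * y := by
    show proj _ * proj _ = proj _ * proj _ * proj _
    rw [← map_mul, ← map_mul, ← map_mul]
    refine congrArg proj (Subtype.ext ?_)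
    show pm p * (fl 0 * pm q) = fl 0 * pm r * (fl 0 * pm q) * pm p
    simp only [TwoInv.fl_zero, one_mul]
    rw [TwoInv.pm_mul hp (hA q hq) hpqa, TwoInv.pm_mul (hA r hr) (hA q hq) (by rw [hrq]; exact hA q' hq'),
      hrq, TwoInv.pm_mul (hA q' hq') hp (hpq ▸ hpqa), hpq]
  obtain ⟨c, hc, hcy⟩ : QuotientGroup.mk' QOne y ∈
      (Subgroup.centralizer (QOne : Set ↥C1)).map (QuotientGroup.mk' QOne) := h ▸ Subgroup.mem_top _
  have hu : c⁻¹ * y ∈ QOne := QuotientGroup.eq.1 hcy
  obtain ⟨u, hu', hy⟩ : ∃ u ∈ QOne, y = c * u := ⟨_, hu, (mul_inv_cancel_left c y).symm⟩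
  have hcomm : ∀ x ∈ QOne, x * c = c * x := fun x hx => Subgroup.mem_centralizer_iff.1 hc x hx
  have hR : R = u * X * u⁻¹ * X⁻¹ := by
    have h1 : R = y * X * y⁻¹ * X⁻¹ := by rw [hyX]; group
    have h2 : c * (u * X * u⁻¹) * c⁻¹ = u * X * u⁻¹ := by
      rw [← hcomm _ (mul_mem (mul_mem hu' hQq) (inv_mem hu')), mul_inv_cancel_right]
    rw [h1, hy, _root_.mul_inv_rev]
    conv_rhs => rw [← h2]
    group
  haveI : Finite ↥C1 := finite_C1
  haveI : Fact (Nat.Prime 2) := ⟨Nat.prime_two⟩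
  have hz := Subgroup.mem_center_iff.1
    (CfsgLib.PGroups.IsExtraspecial.comm_mem isExtraspecial_QOne (⟨u, hu'⟩ : QOne) ⟨X, hQq⟩) ⟨D, hQd⟩
  have hz' : D * R = R * D := by
    rw [hR]; exact congrArg Subtype.val hz
  have h3 : proj (⟨fl moveMask * pm pone, hmd⟩ * ⟨fl 0 * pm r, hmr⟩) =
      proj (⟨fl 0 * pm r, hmr⟩ * ⟨fl moveMask * pm pone, hmd⟩) := by
    rw [map_mul, map_mul]; exact hz'
  have hrd : pm r * fl moveMask = fl (mimg r moveMask) * pm r :=
    TwoInv.pm_fl (hA r hr) (hF _ hd) (hF _ hdr)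
  rcases proj_eq h3 with e | e <;>
    simp only [Subgroup.coe_mul, TwoInv.pm_one, TwoInv.fl_zero, one_mul, mul_one, hrd] at e
  · exact hne (fl_inj (hF _ hdr) (hF _ hd) (mul_right_cancel e))
  · rw [← mul_assoc, neg_eq_fl, fl_mul allMask_code (hF _ hd)] at e
    exact hne' (fl_inj (inCode_xor allMask_code (hF _ hd)) (hF _ hdr) (mul_right_cancel e).symm)

theorem pCore_eq : pCore 2 ↥C1 = QOne := by
  haveI := finite_C1
  haveI : Fact (Nat.Prime 2) := ⟨Nat.prime_two⟩
  haveI := simple_quot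
  refine le_antisymm ?_ (Core.le_pCore (IsPGroup.of_card card_QOne))
  intro x hx
  have h1 : QuotientGroup.mk' QOne x ∈ pCore 2 (↥C1 ⧸ QOne) :=
    Core.map_pCore_le _ (QuotientGroup.mk'_surjective _) ⟨x, hx, rfl⟩
  rcases (Core.normal_pCore 2 (↥C1 ⧸ QOne)).eq_bot_or_eq_top with h | h
  · rwa [h, Subgroup.mem_bot, QuotientGroup.mk'_apply, QuotientGroup.eq_one_iff] at h1
  · exfalso
    obtain ⟨n, hn⟩ := IsPGroup.iff_card.1 (Core.isPGroup_pCore 2 (↥C1 ⧸ QOne))
    rw [h, Subgroup.card_top, Nat.card_congr quotEquiv.toEquiv, card_range8] at hn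
    exact absurd (Nat.prime_three.dvd_of_dvd_pow (hn ▸ (by norm_num : 3 ∣ 174182400) : 3 ∣ 2 ^ n)) (by norm_num)

theorem gFitting_eq : generalizedFittingSubgroup ↥C1 = QOne := by
  haveI := finite_C1
  haveI : Fact (Nat.Prime 2) := ⟨Nat.prime_two⟩
  rw [← pCore_eq]
  exact Components.gFitting_eq_pCore_of_charP (by rw [pCore_eq]; exact centralizer_le)

theorem zOne_order : orderOf zOne = 2 := by
  refine orderOf_eq_prime ?_ fun h => ?_
  · show (QuotientGroup.mk tElt : Cfsg.Spor.Co1) ^ 2 = 1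
    rw [← QuotientGroup.mk_pow, pow_two, TwoInv.involution_spec.2.1]
    rfl
  · rcases center_cases ((QuotientGroup.eq_one_iff _).1 h) with e | e
    · exact TwoInv.involution_spec.1 e
    · rw [neg_eq_fl] at e
      exact (by decide +kernel : ¬ TwoInv.ocMask = allMask) (fl_inj TwoInv.ocMask_code allMask_code e)

theorem octad_data : otherOctad ∈ TwoInv.flipMasks ∧ inCode stdO = true ∧ inCode otherOctad = true ∧
    setOfMask otherOctad ≠ setOfMask stdO ∧ popc otherOctad = 8 ∧ otherOctad < 2 ^ 24 ∧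
    allMask ^^^ TwoInv.ocMask = stdO ∧ otherOctad ≠ TwoInv.ocMask ∧ otherOctad ≠ stdO := by
  decide +kernel

theorem exists_conj : ∃ g : Cfsg.Spor.Co1,
    (∃ hq : g * zOne * g⁻¹ ∈ C1, (⟨g * zOne * g⁻¹, hq⟩ : ↥C1) ∈ QOne) ∧ g * zOne * g⁻¹ ≠ zOne := by
  obtain ⟨hfm, hsc, hoc, -, hw, hlt, hx, hne1, hne2⟩ := octad_data
  have hoct : setOfMask otherOctad ∈ octads := by
    rw [mem_octads_iff, maskOf_setOfMask hlt]; exact ⟨hoc, hw⟩
  obtain ⟨σ, hσ⟩ := exists_smul_stdO hoct
  have hP : permElt σ.2 * fl stdO = fl otherOctad * permElt σ.2 := by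
    refine TwoInv.ext_smul fun v => ?_
    rw [mul_smul, mul_smul, permElt_apply, fl_apply hsc, fl_apply hoc, permElt_apply]
    funext i
    simp only [permVec, flipVec]
    have : (σ : Equiv.Perm GolayPt).symm i ∈ setOfMask stdO ↔ i ∈ setOfMask otherOctad := by
      rw [← hσ, Finset.mem_smul_finset]
      constructor
      · intro h; exact ⟨_, h, Equiv.apply_symm_apply _ i⟩
      · rintro ⟨a, ha, rfl⟩
        rwa [show (σ : Equiv.Perm GolayPt).symm (σ • a) = a from Equiv.symm_apply_apply _ a]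
    simp only [this]
  have hz : zOne = QuotientGroup.mk (fl stdO) := by
    show (QuotientGroup.mk tElt : Cfsg.Spor.Co1) = _
    rw [QuotientGroup.eq, ← hx, ← fl_mul allMask_code TwoInv.ocMask_code, ← neg_eq_fl,
      ← Subgroup.mem_center_iff.1 neg_mem_center]
    show tElt⁻¹ * (tElt * negElt) ∈ _
    rw [inv_mul_cancel_left]
    exact neg_mem_center
  have hgz : (QuotientGroup.mk (permElt σ.2) : Cfsg.Spor.Co1) * zOne * (QuotientGroup.mk (permElt σ.2))⁻¹ =
      QuotientGroup.mk (fl otherOctad) := by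
    rw [hz, ← QuotientGroup.mk_mul, hP, QuotientGroup.mk_mul, mul_inv_cancel_right]
  refine ⟨QuotientGroup.mk (permElt σ.2), ⟨?_, ?_⟩, ?_⟩
  · rw [hgz]
    exact (proj ⟨fl otherOctad, TwoInv.fl_mem_CT hoc⟩).2
  · refine ⟨jU (qel (⟨pone, TwoInv.perm_facts.2.2.2.2.1⟩, ⟨otherOctad, hfm⟩)), ker_sub (TwoInv.qel_ker _),
      Subtype.ext ?_⟩
    show (QuotientGroup.mk (fl otherOctad * pm pone) : Cfsg.Spor.Co1) = _ * zOne * _
    rw [TwoInv.pm_one, mul_one, hgz]
  · rw [hgz]
    intro h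
    rw [zOne, QuotientGroup.eq] at h
    rcases center_cases h with e | e
    · exact hne1 (fl_inj hoc TwoInv.ocMask_code (inv_mul_eq_one.1 e))
    · rw [inv_mul_eq_iff_eq_mul, neg_eq_fl, tElt] at e
      have := fl_mul hoc allMask_code
      rw [← e] at this
      exact hne2 (by
        have := fl_inj TwoInv.ocMask_code (inCode_xor hoc allMask_code) this
        rw [← hx, this, Nat.xor_comm otherOctad, ← Nat.xor_assoc, Nat.xor_self, Nat.zero_xor])

theorem co1_large_extraspecial : ∃ z : Cfsg.Spor.Co1, orderOf z = 2 ∧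
    ∃ (Q : Subgroup (Subgroup.centralizer ({z} : Set Cfsg.Spor.Co1))) (_ : Q.Normal),
      Cfsg.generalizedFittingSubgroup (Subgroup.centralizer ({z} : Set Cfsg.Spor.Co1)) = Q ∧
      Cfsg.IsExtraspecial 2 Q ∧ Nat.card Q = 2 ^ 9 ∧
      Nonempty ((Subgroup.centralizer ({z} : Set Cfsg.Spor.Co1)) ⧸ Q ≃*
        Cfsg.Omega (ZMod 2) (Cfsg.quadFormPlus 4 (ZMod 2))) ∧
      ∃ g : Cfsg.Spor.Co1, (∃ hq : g * z * g⁻¹ ∈ Subgroup.centralizer ({z} : Set Cfsg.Spor.Co1),
        (⟨g * z * g⁻¹, hq⟩ : Subgroup.centralizer ({z} : Set Cfsg.Spor.Co1)) ∈ Q) ∧ g * z * g⁻¹ ≠ z :=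
  ⟨zOne, zOne_order, QOne, QOne_normal, gFitting_eq, isExtraspecial_QOne, card_QOne,
    ⟨quotEquiv.trans (MulEquiv.subgroupCongr range_eq)⟩, exists_conj⟩

end CfsgLib.Sporadic.Conway.OneInv
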