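import Cfsg.Agent.Lib.Sporadic.ConwayOneInvolutionSpace
import Cfsg.Agent.Lib.Sporadic.ConwayNormal
import Cfsg.Agent.Lib.Classical.Quad.POmega

/-!
# The centraliser of an octad sign change in the automorphism group of the lattice

It maps onto the commutator subgroup of the orthogonal group in dimension eight of plus type.
-/

set_option autoImplicit false
set_option maxRecDepth 20000

namespace CfsgLib.Sporadic.Conway.OneInv

open Cfsg Finset CfsgLib.ThreeTrans.Leech CfsgLib.Sporadic.Lattice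
open CfsgLib.Sporadic.Conway.TwoInv (Supp CT mem_CT supp_smul CU mem_CU rho qel rt rt_supp rt_norm)
open Matrix

local notation "O8" => Cfsg.isometryGroup (ZMod 2) (Cfsg.quadFormPlus 4 (ZMod 2))

theorem smul_mem8 {g : ↥Co0} (hg : g ∈ CT) {x : ↥leechLattice} (hx : (x : Vec) ∈ S8) :
    ((g • x : ↥leechLattice) : Vec) ∈ S8 :=
  mem_S8 (g • x).2 (supp_smul hg (S8_le hx).2)

theorem root_smul {g : ↥Co0} (hg : g ∈ CT) {x : ↥leechLattice} (hx : IsRoot8 x) : IsRoot8 (g • x) :=
  ⟨supp_smul hg hx.1, by rw [norm_smul']; exact hx.2⟩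

theorem pairElt_root : IsRoot8 pairElt := by
  refine ⟨?_, ?_⟩
  · show Supp (pv kPair)
    unfold Supp; decide +kernel
  · show sqNorm (pv kPair) = 32
    unfold sqNorm; decide +kernel

/-- The lifted vector, in the lattice. -/
noncomputable def liftL (v : Ix → ZMod 2) : ↥leechLattice := ⟨lift v, (S8_le (lift_mem v)).1⟩

/-- The basis, in the lattice. -/
noncomputable def bvL (c : Ix) : ↥leechLattice := ⟨bv c, (S8_le (bv_mem c)).1⟩

/-- The matrix of an element. -/
noncomputable def nmat8 (g : ↥Co0) : Matrix Ix Ix (ZMod 2) :=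
  Matrix.of fun k c => phi ((g⁻¹ • bvL k.swap : ↥leechLattice) : Vec) c.swap

theorem nmat8_spec {g : ↥Co0} (hg : g ∈ CT) {x : ↥leechLattice} (hx : (x : Vec) ∈ S8) :
    phi ((g • x : ↥leechLattice) : Vec) = nmat8 g *ᵥ phi (x : Vec) := by
  funext k
  have hb : ((g⁻¹ • bvL k.swap : ↥leechLattice) : Vec) ∈ S8 := smul_mem8 (inv_mem hg) (bv_mem _)
  have e : bq ((g • x : ↥leechLattice) : Vec) (bv k.swap) =
      bq (x : Vec) ((g⁻¹ • bvL k.swap : ↥leechLattice) : Vec) := by
    have := dot_smul' g x (g⁻¹ • bvL k.swap)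
    rw [smul_inv_smul] at this
    show ((_ / 16 : ℤ) : ZMod 2) = _
    rw [show bv k.swap = (bvL k.swap : Vec) from rfl, this]
    rfl
  show bq _ _ = _
  rw [e, bq_eq hx hb, Matrix.mulVec, dotProduct, form8]
  exact Finset.sum_congr rfl fun c _ => mul_comm _ _

theorem mat_ext8 {A B : Matrix Ix Ix (ZMod 2)}
    (h : ∀ x : ↥leechLattice, (x : Vec) ∈ S8 → A *ᵥ phi (x : Vec) = B *ᵥ phi (x : Vec)) : A = B := by
  refine Matrix.ext_of_mulVec_single fun c => ?_
  have := h (liftL (Pi.single c 1)) (lift_mem _)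
  rwa [show (liftL (Pi.single c 1) : Vec) = lift (Pi.single c 1) from rfl, phi_lift] at this

/-- The matrices as a homomorphism. -/
noncomputable def matHom : ↥CT →* Matrix Ix Ix (ZMod 2) where
  toFun g := nmat8 g
  map_one' := mat_ext8 fun x hx => by
    rw [OneMemClass.coe_one, ← nmat8_spec (one_mem _) hx, one_smul, Matrix.one_mulVec]
  map_mul' g h := mat_ext8 fun x hx => by
    rw [← Matrix.mulVec_mulVec, ← nmat8_spec h.2 hx, ← nmat8_spec g.2 (smul_mem8 h.2 hx),
      ← nmat8_spec (g * h).2 hx, Subgroup.coe_mul, mul_smul]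

/-- The action on the orthogonal space. -/
noncomputable def rho8 : ↥CT →* ↥O8 :=
  matHom.toHomUnits.codRestrict _ fun g => by
    intro u v
    show Cfsg.quadFormPlus 4 (ZMod 2) (nmat8 (g : ↥Co0) *ᵥ u) = Cfsg.quadFormPlus 4 (ZMod 2) u
    have hm : (liftL u : Vec) ∈ S8 := lift_mem u
    rw [← phi_lift u, ← show (liftL u : Vec) = lift u from rfl, ← nmat8_spec g.2 hm,
      (quad_eq (smul_mem8 g.2 hm)).2, (quad_eq hm).2, qz, qz, norm_smul']

theorem rho8_val (g : ↥CT) :
    (((rho8 g : ↥O8) : Matrix.GeneralLinearGroup Ix (ZMod 2)) : Matrix Ix Ix (ZMod 2)) = nmat8 g := rfl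

theorem mem_ker8_iff {g : ↥CT} : g ∈ rho8.ker ↔ nmat8 (g : ↥Co0) = 1 := by
  rw [MonoidHom.mem_ker, Subtype.ext_iff, Units.ext_iff]
  exact ⟨fun h => (rho8_val g).symm.trans h, fun h => (rho8_val g).trans h⟩

theorem negElt_mem : negElt ∈ CT := by
  rw [mem_CT]
  refine (Subgroup.mem_center_iff.1 ?_ _).symm
  rw [← SetLike.mem_coe, center_eq]
  exact Or.inr rfl

theorem negElt_sq : negElt * negElt = 1 :=
  TwoInv.ext_smul fun v => by rw [mul_smul, negElt_smul, negElt_smul, one_smul, neg_neg]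

theorem neg_pair_ne : -pairElt ≠ pairElt := fun h => by
  have := congrFun (congrArg (fun v : ↥leechLattice => (v : Vec)) h) (pt 0)
  revert this
  show ¬ -(pv kPair (pt 0)) = pv kPair (pt 0)
  decide +kernel

theorem neg_not_mem_CU : negElt ∉ CU := fun h => neg_pair_ne (by
  have := (mem_CU.1 h).2
  rwa [negElt_smul] at this)

/-- The stabiliser of the root, inside the centraliser. -/
noncomputable def jU : ↥CU →* ↥CT := Subgroup.inclusion (show CU ≤ CT from fun _ h => (mem_CU.1 h).1)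

theorem ker_sub {q : ↥CU} (hq : rho q = 1) : jU q ∈ rho8.ker := by
  obtain ⟨p, hp, c, hc, e⟩ := TwoInv.ker_elt hq
  rw [mem_ker8_iff]
  refine mat_ext8 fun x hx => ?_
  rw [← nmat8_spec (jU q).2 hx, Matrix.one_mulVec]
  have hfix : ((q : ↥Co0) • x : ↥leechLattice) = x := by
    rw [e]
    refine Subtype.ext (funext fun i => ?_)
    obtain ⟨h1, -, -, -, -, -⟩ := TwoInv.perm_facts.2.2.1 p hp
    obtain ⟨σ, -, hr, hs⟩ := TwoInv.pm_spec h1
    have hc1 := (TwoInv.perm_facts.2.2.2.1 c hc).1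
    rw [mul_smul, TwoInv.fl_apply hc1]
    simp only [flipVec, mem_setOfMask, hs, permVec]
    obtain ⟨τ, hτ, hrτ, -, hfx⟩ := octFixList_spec hp
    have hστ : σ = τ := hr.unique hrτ
    cases hb : stdO.testBit (ix i)
    · have h0 : (x : Vec) i = 0 := (S8_le hx).2 i hb
      have h0' : (x : Vec) (σ.symm i) = 0 := by
        refine (S8_le hx).2 _ ?_
        cases hb' : stdO.testBit (ix (σ.symm i))
        · rfl
        · have := hfx (σ.symm i) (mem_setOfMask.2 hb')
          rw [← hστ, Equiv.apply_symm_apply] at this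
          rw [← this] at hb'
          rw [hb'] at hb
          exact absurd hb (by simp)
      rw [h0', h0]; simp
    · have hsym : σ.symm i = i := by
        rw [Equiv.symm_apply_eq, hστ]
        exact (hfx i (mem_setOfMask.2 hb)).symm
      have hc0 : ∀ d ∈ TwoInv.flipMasks, ∀ j : GolayPt, stdO.testBit (ix j) = true →
          d.testBit (ix j) = false := by decide +kernel
      rw [hsym, hc0 c hc i hb]
      simp
  show phi ((((q : ↥Co0)) • x : ↥leechLattice) : Vec) = _
  rw [hfix]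

theorem rt_root (m : Fin 63) : IsRoot8 (rt m) := ⟨rt_supp m, (rt_norm m).1⟩

theorem ker_cases {g : ↥CT} (hg : g ∈ rho8.ker) :
    ∃ q : ↥CU, rho q = 1 ∧ ((g : ↥Co0) = q ∨ (g : ↥Co0) = negElt * q) := by
  have hpm : ∀ x, IsRoot8 x → (g : ↥Co0) • x = x ∨ (g : ↥Co0) • x = -x := fun x hx => by
    refine root_eq (root_smul g.2 hx) hx ?_
    rw [nmat8_spec g.2 hx.mem, mem_ker8_iff.1 hg, Matrix.one_mulVec]
  have key : ∀ h : ↥CU, (∀ x, IsRoot8 x → (h : ↥Co0) • x = x ∨ (h : ↥Co0) • x = -x) → rho h = 1 := by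
    intro h hh
    refine Subtype.ext (TwoInv.mat_ext fun m => ?_)
    show TwoInv.nmat h.1 *ᵥ _ = (1 : Matrix (Fin 3 ⊕ Fin 3) (Fin 3 ⊕ Fin 3) (ZMod 2)) *ᵥ _
    rw [Matrix.one_mulVec, show pv (TwoInv.rk m) = (rt m : Vec) from rfl,
      ← TwoInv.nmat_spec h.2 ⟨m, Or.inl rfl⟩]
    rcases hh _ (rt_root m) with e | e <;> rw [e]
    rw [AddSubgroup.coe_neg, TwoInv.phi_neg]
  rcases hpm pairElt pairElt_root with e | e
  · exact ⟨⟨g, mem_CU.2 ⟨g.2, e⟩⟩, key _ hpm, Or.inl rfl⟩
  · refine ⟨⟨negElt * g, mem_CU.2 ⟨mul_mem negElt_mem g.2, ?_⟩⟩, key _ fun x hx => ?_, Or.inr ?_⟩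
    · rw [mul_smul, e, negElt_smul, neg_neg]
    · show (negElt * (g : ↥Co0)) • x = x ∨ (negElt * (g : ↥Co0)) • x = -x
      rw [mul_smul, negElt_smul]
      rcases hpm x hx with e' | e' <;> rw [e']
      · exact Or.inr rfl
      · exact Or.inl (neg_neg x)
    · show (g : ↥Co0) = negElt * (negElt * g)
      rw [← mul_assoc, negElt_sq, one_mul]

theorem neg_mem_ker : (⟨negElt, negElt_mem⟩ : ↥CT) ∈ rho8.ker := by
  rw [mem_ker8_iff]
  refine mat_ext8 fun x hx => ?_
  rw [← nmat8_spec negElt_mem hx, negElt_smul, AddSubgroup.coe_neg, phi_neg hx, Matrix.one_mulVec]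

theorem card_ker8 : Nat.card rho8.ker = 2 * 2 ^ 9 := by
  refine Eq.trans ?_ (show Nat.card (Bool × rho.ker) = 2 * 2 ^ 9 by
    rw [Nat.card_prod, TwoInv.card_ker, Nat.card_eq_fintype_card, Fintype.card_bool])
  refine (Nat.card_eq_of_bijective (fun y : Bool × rho.ker => (⟨(if y.1 then ⟨negElt, negElt_mem⟩ else 1) * jU y.2.1,
    mul_mem (by split_ifs; exacts [neg_mem_ker, one_mem _]) (ker_sub y.2.2)⟩ : rho8.ker)) ⟨?_, ?_⟩).symm
  · rintro ⟨b, q⟩ ⟨b', q'⟩ h
    have h' : (if b then negElt else 1) * ((q : ↥CU) : ↥Co0) = (if b' then negElt else 1) * ((q' : ↥CU) : ↥Co0) := by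
      have := congrArg (fun y : rho8.ker => ((y : ↥CT) : ↥Co0)) h
      simpa [apply_ite (Subtype.val : ↥CT → ↥Co0), jU] using this
    have hbb : b = b' := by
      by_contra hne
      apply neg_not_mem_CU
      cases b <;> cases b' <;> simp at hne h'
      · have := mul_mem (q : ↥CU).2 (inv_mem (q' : ↥CU).2)
        rwa [h', mul_inv_cancel_right] at this
      · have := mul_mem (q' : ↥CU).2 (inv_mem (q : ↥CU).2)
        rwa [← h', mul_inv_cancel_right] at this
    subst hbb
    exact Prod.ext rfl (Subtype.ext (Subtype.ext (mul_left_cancel h')))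
  · intro g
    obtain ⟨q, hq, e | e⟩ := ker_cases g.2
    · exact ⟨(false, ⟨q, hq⟩), Subtype.ext (Subtype.ext (by simp [e, jU]))⟩
    · exact ⟨(true, ⟨q, hq⟩), Subtype.ext (Subtype.ext (by simp [e, jU]))⟩

theorem card_orbit8 : (MulAction.orbit ↥CT pairElt).ncard = 240 := by
  rw [← Nat.card_coe_set_eq,
    show (240 : ℕ) = Nat.card ({v : Ix → ZMod 2 // Cfsg.quadFormPlus 4 (ZMod 2) v = 1} × Bool) by
      rw [Nat.card_prod, Nat.card_eq_fintype_card, count_one]; simp]
  choose g hg hphi using fun v : {v : Ix → ZMod 2 // Cfsg.quadFormPlus 4 (ZMod 2) v = 1} => exists_reach v.2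
  have hroot : ∀ v, IsRoot8 (g v • pairElt) := fun v => root_smul (hg v) pairElt_root
  refine (Nat.card_eq_of_bijective (fun y => (⟨if y.2 then -(g y.1 • pairElt) else g y.1 • pairElt, by
    split_ifs
    · exact ⟨⟨negElt * g y.1, mul_mem negElt_mem (hg _)⟩, by
        show (negElt * g y.1) • pairElt = _; rw [mul_smul, negElt_smul]⟩
    · exact ⟨⟨g y.1, hg _⟩, rfl⟩⟩ : MulAction.orbit ↥CT pairElt)) ⟨?_, ?_⟩).symm
  · rintro ⟨v, b⟩ ⟨v', b'⟩ h
    have h' := congrArg Subtype.val h
    have hv : v = v' := by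
      refine Subtype.ext ?_
      rw [← hphi v, ← hphi v']
      have := congrArg (fun x : ↥leechLattice => phi (x : Vec)) h'
      cases b <;> cases b' <;> simpa [phi_neg (hroot _).mem] using this
    subst hv
    refine Prod.ext rfl ?_
    have hne : -(g v • pairElt) ≠ g v • pairElt := fun e => neg_pair_ne (by
      rw [← smul_neg'] at e
      exact (MulAction.injective _) e)
    cases b <;> cases b' <;> simp at h' <;> first | rfl | exact absurd h' hne | exact absurd h'.symm hne
  · rintro ⟨_, ⟨h, rfl⟩⟩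
    have hr : IsRoot8 ((h : ↥Co0) • pairElt) := root_smul h.2 pairElt_root
    refine (root_eq hr (hroot ⟨_, root_quad hr⟩) (hphi ⟨_, root_quad hr⟩).symm).elim
      (fun e => ⟨(⟨_, root_quad hr⟩, false), Subtype.ext e.symm⟩)
      (fun e => ⟨(⟨_, root_quad hr⟩, true), Subtype.ext e.symm⟩)

theorem card_CU : Nat.card ↥CU = 2 ^ 9 * 1451520 := by
  rw [← Subgroup.card_mul_index rho.ker, TwoInv.card_ker, Subgroup.index_ker,
    MonoidHom.range_eq_top.2 TwoInv.rho_surjective, Subgroup.card_top, CfsgLib.Schur.Cox.SpSix.card_grp]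

theorem card_CT : Nat.card ↥CT = 240 * (2 ^ 9 * 1451520) := by
  rw [card_eq_orbit CT pairElt, card_orbit8]
  congr 1
  exact card_CU

theorem card_range8 : Nat.card rho8.range = 174182400 := by
  have h := Subgroup.card_mul_index rho8.ker
  rw [Subgroup.index_ker, card_ker8, card_CT] at h
  norm_num at h ⊢
  omega

theorem card_pomega8 : Nat.card (Cfsg.POmega (ZMod 2) (Cfsg.quadFormPlus 4 (ZMod 2))) = 174182400 := by
  have h := CfsgLib.Classical.Quad.card_POmega_plus (ZMod.card 2) 4 le_rfl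
  norm_num [Finset.prod_range_succ] at h
  exact h

theorem card_iso8 : Nat.card ↥O8 = 2 * 174182400 := by
  rw [← CfsgLib.Classical.Quad.coe_qPlus, Nat.card_congr (CfsgLib.Classical.Quad.oEquiv _).toEquiv,
    CfsgLib.Classical.Quad.card_OQ_qPlus (ZMod.card 2) 3]
  norm_num [Finset.prod_range_succ]

theorem range_eq : rho8.range = Cfsg.Omega (ZMod 2) (Cfsg.quadFormPlus 4 (ZMod 2)) := by
  haveI : Finite ↥O8 := Finite.of_injective _ Subtype.val_injective
  have hidx : rho8.range.index = 2 := by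
    have h := Subgroup.card_mul_index rho8.range
    rw [card_range8, card_iso8] at h
    omega
  haveI := Subgroup.normal_of_index_eq_two hidx
  have hle : Cfsg.Omega (ZMod 2) (Cfsg.quadFormPlus 4 (ZMod 2)) ≤ rho8.range := by
    rw [← Subgroup.Normal.quotient_commutative_iff_commutator_le]
    haveI : Fact (Nat.Prime 2) := ⟨Nat.prime_two⟩
    haveI : IsCyclic (↥O8 ⧸ rho8.range) :=
      isCyclic_of_prime_card (p := 2) (by rw [← Subgroup.index_eq_card]; exact hidx)
    exact IsCyclic.commutative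
  refine (Subgroup.eq_of_le_of_card_ge hle ?_).symm
  rw [card_range8, ← card_pomega8]
  exact Nat.card_le_card_of_surjective _ (QuotientGroup.mk'_surjective _)

theorem simple_range : IsSimpleGroup rho8.range := by
  haveI : Finite ↥O8 := Finite.of_injective _ Subtype.val_injective
  have hs : IsSimpleGroup (Cfsg.POmega (ZMod 2) (Cfsg.quadFormPlus 4 (ZMod 2))) := by
    rw [← CfsgLib.Classical.Quad.coe_qPlus]
    exact CfsgLib.Classical.Quad.isSimpleGroup_POmega (CfsgLib.Classical.Quad.qPlus_nondeg 4) (by simp)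
  haveI := hs
  have hbij : Function.Bijective (QuotientGroup.mk' (Subgroup.center ↥(Cfsg.Omega (ZMod 2) (Cfsg.quadFormPlus 4 (ZMod 2))))) := by
    refine (Nat.bijective_iff_surjective_and_card _).2 ⟨QuotientGroup.mk'_surjective _, ?_⟩
    refine Eq.trans ?_ card_pomega8.symm
    rw [← range_eq]
    exact card_range8
  exact ((MulEquiv.subgroupCongr range_eq).trans (MulEquiv.ofBijective _ hbij)).isSimpleGroup

end CfsgLib.Sporadic.Conway.OneInv
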