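import Cfsg.Agent.Lib.Sporadic.ConwayTwoInvolution
import Cfsg.Agent.Lib.Sporadic.ConwayOneInvolutionData
import Cfsg.Agent.Lib.Sporadic.ConwayBasic

/-!
# The vectors supported in an octad modulo two, as an orthogonal space of plus type

The sublattice of vectors supported in the octad is a scaled E8; half of the scaled inner product
gives an eight dimensional hyperbolic quadratic space over the field with two elements.
-/

set_option autoImplicit false
set_option maxRecDepth 20000

namespace CfsgLib.Sporadic.Conway.OneInv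

open Cfsg Finset CfsgLib.ThreeTrans.Leech CfsgLib.Sporadic.Lattice
open CfsgLib.Sporadic.Conway.TwoInv (Supp CT mem_CT supp_smul oPts mem_oPts sum_supp stepIn packEltIn)

/-- Index set of the eight dimensional space. -/
abbrev Ix : Type := Fin 4 ⊕ Fin 4

/-- Coordinates of the spanning vectors, along the octad. -/
def gl (k j : ℕ) : ℤ :=
  if 8 ≤ j then 0 else if k = 0 then 2 else if k = 8 then (if j = 0 then -8 else 0)
  else if j = 0 ∨ j = k then 4 else 0

/-- Spanning vectors of the sublattice. -/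
def gen (k : Fin 9) : Vec := fun i => gl k.val (oPts.idxOf (ix i))

theorem gen_test : ∀ k, LTest (gen k) ∧ ∀ i : GolayPt, stdO.testBit (ix i) = false → gen k i = 0 := by
  decide +kernel

theorem oPts_spec : ∀ j : Fin 8, oPts.idxOf (ix (pt (oPts.getD j.val 0))) = j.val := by decide +kernel

theorem oPts_cover : ∀ i : GolayPt, stdO.testBit (ix i) = true →
    ∃ j : Fin 8, i = pt (oPts.getD j.val 0) := by
  decide +kernel

/-- The sublattice supported in the octad. -/
def S8 : AddSubgroup Vec := AddSubgroup.closure (Set.range gen)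

theorem S8_le {x : Vec} (hx : x ∈ S8) : x ∈ leechLattice ∧ Supp x := by
  induction hx using AddSubgroup.closure_induction with
  | mem x hx =>
    obtain ⟨k, rfl⟩ := hx
    exact ⟨mem_iff.2 (isL_of_test (gen_test k).1), (gen_test k).2⟩
  | zero => exact ⟨zero_mem _, fun i _ => rfl⟩
  | add x y _ _ hx hy => exact ⟨add_mem hx.1 hy.1, fun i hi => by simp [hx.2 i hi, hy.2 i hi]⟩
  | neg x _ hx => exact ⟨neg_mem hx.1, fun i hi => by simp [hx.2 i hi]⟩

/-- The coordinates congruent modulo four. -/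
theorem supp_congr {x : Vec} (hx : x ∈ leechLattice) (hs : Supp x) :
    (∀ j ∈ oPts, x (pt j) % 2 = 0 ∧ (x (pt j) - x (pt 0)) % 4 = 0) ∧ (∑ i, x i) % 8 = 0 := by
  obtain ⟨m0, d, hd, hred, hsum⟩ := mem_iff.1 hx
  have h4 : x (pt 4) = 0 := hs _ (by decide +kernel)
  have hm : m0 % 2 = 0 := by have := hd (pt 4); rw [h4] at this; omega
  obtain ⟨k, hk, hek⟩ := inCode_iff.1 (mem_golayCode.1 hred)
  have hin : ∀ i, (enc k).testBit (ix i) = decide (d i % 2 = 1) := by
    intro i
    rw [hek, testBit_maskOf]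
    refine decide_eq_decide.2 ?_
    rw [support₂, Finset.mem_filter]
    simp only [Finset.mem_univ, true_and]
    exact cast_ne_zero_iff _
  have key : forallLt 4096 (fun k => !(decide ((List.range 24).all fun i => stdO.testBit i || (enc k).testBit i == (enc k).testBit 4)) ||
      ((oPts.all fun i => (enc k).testBit i == (enc k).testBit 0))) = true := by decide +kernel
  have h := forallLt_elim key hk
  have hsame : ((List.range 24).all fun i => stdO.testBit i || (enc k).testBit i == (enc k).testBit 4) = true := by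
    rw [List.all_eq_true]
    intro i hi
    rw [List.mem_range] at hi
    cases hb : stdO.testBit i
    · have e1 := hin (pt i)
      have e2 := hin (pt 4)
      rw [ix_pt hi] at e1
      rw [ix_pt (by norm_num)] at e2
      have h1 := hd (pt i)
      rw [hs (pt i) (by rw [ix_pt hi]; exact hb)] at h1
      have h2 := hd (pt 4)
      rw [h4] at h2
      have : d (pt i) = d (pt 4) := by omega
      simp [e1, e2, this]
    · rfl
  simp only [hsame, decide_true, Bool.not_true, Bool.false_or, List.all_eq_true, beq_iff_eq] at h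
  have hs8 : (∑ i, x i) % 8 = (4 * m0) % 8 := hsum
  refine ⟨fun j hj => ?_, by omega⟩
  have hj24 : j < 24 := by
    simp only [oPts, List.mem_cons, List.not_mem_nil, or_false] at hj; omega
  have h1 := h j hj
  have e1 := hin (pt j)
  have e2 := hin (pt 0)
  rw [ix_pt hj24] at e1
  rw [ix_pt (by norm_num)] at e2
  rw [e1, e2, decide_eq_decide] at h1
  have := hd (pt j)
  have := hd (pt 0)
  constructor <;> omega

theorem exact_four {a b : ℤ} (ha : a % 2 = 0) (h : (b - a) % 4 = 0) :
    ∃ k, b = 2 * ((a / 2) % 2) + 4 * k :=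
  ⟨(b - 2 * ((a / 2) % 2)) / 4, by omega⟩

theorem exact_eight {e p q q' : ℤ} (h : (q + p) % 8 = 0) (hp : p = 14 * e + 4 * q') :
    ∃ w, q = 2 * e + 4 * q' - 8 * w :=
  ⟨(2 * e + 4 * q' - q) / 8, by omega⟩

theorem comb_first (n : Fin 9 → ℤ) : ∑ k : Fin 9, n k * gl k.val 0 =
    2 * n 0 + 4 * (n 1 + n 2 + n 3 + n 4 + n 5 + n 6 + n 7) - 8 * n 8 := by
  simp [Fin.sum_univ_succ, gl]
  ring

theorem comb_next (n : Fin 9 → ℤ) (j : Fin 7) : ∑ k : Fin 9, n k * gl k.val (j.val + 1) =
    2 * n 0 + 4 * n (Fin.castSucc j.succ) := by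
  fin_cases j <;> simp [Fin.sum_univ_succ, gl] <;> ring

/-- A supported lattice vector in coordinates. -/
theorem supp_decomp {x : Vec} (hx : x ∈ leechLattice) (hs : Supp x) :
    ∃ n : Fin 9 → ℤ, x = ∑ k, n k • gen k := by
  obtain ⟨hc, hsum⟩ := supp_congr hx hs
  rw [sum_supp hs] at hsum
  simp only [oPts, List.map_cons, List.map_nil, List.sum_cons, List.sum_nil] at hsum
  obtain ⟨h0, -⟩ := hc 0 (by decide)
  obtain ⟨a1, d1⟩ := exact_four h0 (hc 1 (by decide)).2
  obtain ⟨a2, d2⟩ := exact_four h0 (hc 2 (by decide)).2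
  obtain ⟨a3, d3⟩ := exact_four h0 (hc 3 (by decide)).2
  obtain ⟨a4, d4⟩ := exact_four h0 (hc 5 (by decide)).2
  obtain ⟨a5, d5⟩ := exact_four h0 (hc 14 (by decide)).2
  obtain ⟨a6, d6⟩ := exact_four h0 (hc 17 (by decide)).2
  obtain ⟨a7, d7⟩ := exact_four h0 (hc 23 (by decide)).2
  clear hc
  generalize x (pt 0) / 2 % 2 = e at d1 d2 d3 d4 d5 d6 d7
  obtain ⟨w, d0⟩ := exact_eight (q' := a1 + a2 + a3 + a4 + a5 + a6 + a7) (e := e)
    (q := x (pt 0)) (p := x (pt 1) + x (pt 2) + x (pt 3) + x (pt 5) + x (pt 14) + x (pt 17) + x (pt 23))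
    (by rw [← hsum]; congr 1; ring) (by rw [d1, d2, d3, d4, d5, d6, d7]; ring)
  refine ⟨![e, a1, a2, a3, a4, a5, a6, a7, w], funext fun i => ?_⟩
  cases hb : stdO.testBit (ix i)
  · rw [hs i hb, Finset.sum_apply]
    refine (Finset.sum_eq_zero fun k _ => ?_).symm
    rw [Pi.smul_apply, (gen_test k).2 i hb, smul_zero]
  · obtain ⟨j, rfl⟩ := oPts_cover i hb
    simp only [Finset.sum_apply, Pi.smul_apply, smul_eq_mul, gen, oPts_spec j]
    obtain rfl | ⟨j', rfl⟩ := j.eq_zero_or_eq_succ
    · rw [Fin.val_zero, comb_first]; exact d0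
    · rw [Fin.val_succ, comb_next]
      fin_cases j'
      exacts [d1, d2, d3, d4, d5, d6, d7]

theorem mem_S8 {x : Vec} (hx : x ∈ leechLattice) (hs : Supp x) : x ∈ S8 := by
  obtain ⟨n, rfl⟩ := supp_decomp hx hs
  exact sum_mem fun k _ => zsmul_mem (AddSubgroup.subset_closure (Set.mem_range_self k)) _

theorem dot_add_left (x y z : Vec) : dotInt (x + y) z = dotInt x z + dotInt y z := by
  simp [dotInt, add_mul, Finset.sum_add_distrib]

theorem dot_comm (x y : Vec) : dotInt x y = dotInt y x :=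
  Finset.sum_congr rfl fun _ _ => mul_comm _ _

theorem dot_neg_left (x y : Vec) : dotInt (-x) y = -dotInt x y := by
  rw [dot_comm, dot_neg_right, dot_comm]

theorem gen_dot : ∀ a b, (dotInt (gen a) (gen b)) % 16 = 0 := by
  unfold dotInt; decide +kernel

theorem dvd_gen {x : Vec} (hx : x ∈ S8) : ∀ b, (16 : ℤ) ∣ dotInt x (gen b) := by
  induction hx using AddSubgroup.closure_induction with
  | mem x hx => obtain ⟨a, rfl⟩ := hx; exact fun b => Int.dvd_of_emod_eq_zero (gen_dot a b)
  | zero => intro b; simp [dotInt]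
  | add x y _ _ hx hy => intro b; rw [dot_add_left]; exact dvd_add (hx b) (hy b)
  | neg x _ hx => intro b; rw [dot_neg_left]; exact dvd_neg.2 (hx b)

theorem dvd_dot {x y : Vec} (hx : x ∈ S8) (hy : y ∈ S8) : (16 : ℤ) ∣ dotInt x y := by
  rw [dot_comm]
  induction hy using AddSubgroup.closure_induction with
  | mem y hy => obtain ⟨b, rfl⟩ := hy; rw [dot_comm]; exact dvd_gen hx b
  | zero => simp [dotInt]
  | add a b _ _ ha hb => rw [dot_add_left]; exact dvd_add ha hb
  | neg a _ ha => rw [dot_neg_left]; exact dvd_neg.2 ha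

/-- The scaled inner product modulo two. -/
def bq (x y : Vec) : ZMod 2 := ((dotInt x y / 16 : ℤ) : ZMod 2)

theorem bq_add_left {x y z : Vec} (hx : x ∈ S8) (hz : z ∈ S8) : bq (x + y) z = bq x z + bq y z := by
  rw [bq, dot_add_left, Int.add_ediv_of_dvd_left (dvd_dot hx hz), Int.cast_add]; rfl

theorem bq_comm (x y : Vec) : bq x y = bq y x := by rw [bq, dot_comm]; rfl

theorem bq_zero (y : Vec) : bq 0 y = 0 := by simp [bq, dotInt]

theorem neg_two (a : ZMod 2) : -a = a := by revert a; decide

theorem bq_neg {x y : Vec} (hx : x ∈ S8) (hy : y ∈ S8) : bq (-x) y = bq x y := by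
  obtain ⟨t, ht⟩ := dvd_dot hx hy
  rw [bq, bq, dot_neg_left, ht, show -(16 * t) / 16 = -t by omega, show 16 * t / 16 = t by omega,
    Int.cast_neg, neg_two]

/-- The standard index. -/
def cidx : Ix → ℕ
  | .inl i => i.val
  | .inr i => 4 + i.val

/-- The hyperbolic basis. -/
noncomputable def bv (c : Ix) : Vec := pv (baseKeys.getD (cidx c) 0)

theorem bv_test : ∀ c, LTest (bv c) ∧ ∀ i : GolayPt, stdO.testBit (ix i) = false → bv c i = 0 := by
  decide +kernel

theorem bv_mem (c : Ix) : bv c ∈ S8 := mem_S8 (mem_iff.2 (isL_of_test (bv_test c).1)) (bv_test c).2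

/-- The class of a vector. -/
noncomputable def phi (x : Vec) : Ix → ZMod 2 := fun c => bq x (bv c.swap)

/-- The polar form. -/
def form8 (u v : Ix → ZMod 2) : ZMod 2 := ∑ c, u c * v c.swap

theorem form8_comm : ∀ u v : Ix → ZMod 2, form8 u v = form8 v u := by
  intro u v
  rw [form8, form8]
  exact Fintype.sum_equiv (Equiv.sumComm _ _) _ _ fun c => by
    rcases c with c | c <;> simp [mul_comm]

theorem phi_add {x y : Vec} (hx : x ∈ S8) : phi (x + y) = phi x + phi y :=
  funext fun _ => bq_add_left hx (bv_mem _)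

theorem phi_zero : phi 0 = 0 := funext fun _ => bq_zero _

theorem phi_neg {x : Vec} (hx : x ∈ S8) : phi (-x) = phi x := funext fun _ => bq_neg hx (bv_mem _)

theorem bq_gen : ∀ a b, bq (gen a) (gen b) = form8 (phi (gen a)) (phi (gen b)) := by
  unfold bq phi bq form8 dotInt; decide +kernel

theorem bq_eq_gen {x : Vec} (hx : x ∈ S8) : ∀ b, bq x (gen b) = form8 (phi x) (phi (gen b)) := by
  induction hx using AddSubgroup.closure_induction with
  | mem x hx => obtain ⟨a, rfl⟩ := hx; exact bq_gen a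
  | zero => intro b; simp [bq_zero, phi_zero, form8]
  | add x y hx hy ihx ihy =>
    intro b
    rw [bq_add_left hx (AddSubgroup.subset_closure ⟨b, rfl⟩), phi_add hx, ihx, ihy]
    simp [form8, add_mul, Finset.sum_add_distrib]
  | neg x hx ih =>
    intro b
    rw [bq_neg hx (AddSubgroup.subset_closure ⟨b, rfl⟩), phi_neg hx, ih]

theorem bq_eq {x y : Vec} (hx : x ∈ S8) (hy : y ∈ S8) : bq x y = form8 (phi x) (phi y) := by
  rw [bq_comm, form8_comm]
  induction hy using AddSubgroup.closure_induction with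
  | mem y hy => obtain ⟨b, rfl⟩ := hy; rw [bq_comm, form8_comm]; exact bq_eq_gen hx b
  | zero => simp [bq_zero, phi_zero, form8]
  | add a b ha hb iha ihb =>
    rw [bq_add_left ha hx, phi_add ha, iha, ihb]
    simp [form8, add_mul, Finset.sum_add_distrib]
  | neg a ha ih => rw [bq_neg ha hx, phi_neg ha, ih]

/-- The scaled length modulo two. -/
def qz (x : Vec) : ZMod 2 := ((sqNorm x / 32 : ℤ) : ZMod 2)

theorem gen_norm : ∀ a, sqNorm (gen a) % 32 = 0 := by unfold sqNorm; decide +kernel

theorem qz_gen : ∀ a, Cfsg.quadFormPlus 4 (ZMod 2) (phi (gen a)) = qz (gen a) := by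
  unfold qz phi bq sqNorm dotInt Cfsg.quadFormPlus; decide +kernel

theorem quad_add (u v : Ix → ZMod 2) : Cfsg.quadFormPlus 4 (ZMod 2) (u + v) =
    Cfsg.quadFormPlus 4 (ZMod 2) u + Cfsg.quadFormPlus 4 (ZMod 2) v + form8 u v := by
  simp only [Cfsg.quadFormPlus, form8, Pi.add_apply, Fintype.sum_sum_type, Sum.swap_inl, Sum.swap_inr,
    ← Finset.sum_add_distrib]
  exact Finset.sum_congr rfl fun i _ => by ring

theorem quad_eq {x : Vec} (hx : x ∈ S8) :
    (32 : ℤ) ∣ sqNorm x ∧ Cfsg.quadFormPlus 4 (ZMod 2) (phi x) = qz x := by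
  induction hx using AddSubgroup.closure_induction with
  | mem x hx => obtain ⟨a, rfl⟩ := hx; exact ⟨Int.dvd_of_emod_eq_zero (gen_norm a), qz_gen a⟩
  | zero => exact ⟨by simp [sqNorm], by simp [qz, sqNorm, phi_zero, Cfsg.quadFormPlus]⟩
  | add x y hx hy ihx ihy =>
    obtain ⟨⟨a, ha⟩, hqx⟩ := ihx
    obtain ⟨⟨b, hb⟩, hqy⟩ := ihy
    obtain ⟨t, ht⟩ := dvd_dot hx hy
    have e : sqNorm (x + y) = 32 * (a + b + t) := by rw [sq_add_dot, ha, hb, ht]; ring
    refine ⟨⟨_, e⟩, ?_⟩
    rw [phi_add hx, quad_add, hqx, hqy, ← bq_eq hx hy, qz, qz, qz, bq, e, ha, hb, ht,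
      show 32 * a / 32 = a by omega, show 32 * b / 32 = b by omega, show 16 * t / 16 = t by omega,
      show 32 * (a + b + t) / 32 = a + b + t by omega]
    push_cast; ring
  | neg x hx ih =>
    have e : sqNorm (-x) = sqNorm x := by simp [sqNorm]
    rw [qz, e, phi_neg hx]
    exact ih

/-- A vector of each class. -/
noncomputable def lift (v : Ix → ZMod 2) : Vec := ∑ c, if v c = 1 then bv c else 0

theorem lift_mem (v : Ix → ZMod 2) : lift v ∈ S8 :=
  sum_mem fun c _ => by split_ifs; exacts [bv_mem c, zero_mem _]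

theorem phi_bv : ∀ c d : Ix, phi (bv c) d = if c = d then 1 else 0 := by
  unfold phi bq dotInt; decide +kernel

theorem phi_sum {ι : Type*} (s : Finset ι) (f : ι → Vec) (hf : ∀ i, f i ∈ S8) :
    phi (∑ i ∈ s, f i) = ∑ i ∈ s, phi (f i) := by
  classical
  induction s using Finset.induction_on with
  | empty => simp [phi_zero]
  | insert i s hi ih => rw [Finset.sum_insert hi, Finset.sum_insert hi, phi_add (hf i), ih]

theorem phi_lift (v : Ix → ZMod 2) : phi (lift v) = v := by
  funext d
  rw [lift, phi_sum _ _ fun c => by split_ifs; exacts [bv_mem c, zero_mem _], Finset.sum_apply,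
    Finset.sum_eq_single d (fun c _ hc => ?_) (fun h => absurd (Finset.mem_univ d) h)]
  · by_cases h : v d = 1
    · rw [if_pos h, phi_bv, if_pos rfl, h]
    · rw [if_neg h, phi_zero, Pi.zero_apply]
      revert h; generalize v d = a; revert a; decide
  · by_cases h : v c = 1
    · rw [if_pos h, phi_bv, if_neg hc]
    · rw [if_neg h, phi_zero]; rfl

/-- A reduced combination. -/
def comb (r : ℕ) : Vec := fun i => ∑ k : Fin 9, if r.testBit k.val then gen k i else 0

/-- The class of a spanning vector, tabulated. -/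
def genPhi (k : Fin 9) (c : Ix) : ZMod 2 := if (genCodes.getD k.val 0).testBit (cidx c) then 1 else 0

theorem phi_gen : ∀ k c, phi (gen k) c = genPhi k c := by
  unfold phi bq dotInt; decide +kernel

theorem comb_phi (r : ℕ) (c : Ix) :
    phi (comb r) c = ∑ k : Fin 9, if r.testBit k.val then genPhi k c else 0 := by
  have hmem : ∀ k : Fin 9, (if r.testBit k.val then gen k else 0) ∈ S8 := fun k => by
    split_ifs
    exacts [AddSubgroup.subset_closure (Set.mem_range_self k), zero_mem _]
  have e : comb r = ∑ k : Fin 9, if r.testBit k.val then gen k else 0 := by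
    funext i
    rw [comb, Finset.sum_apply]
    exact Finset.sum_congr rfl fun k _ => by split_ifs <;> rfl
  rw [e, phi_sum _ _ hmem, Finset.sum_apply]
  refine Finset.sum_congr rfl fun k _ => ?_
  split_ifs
  · exact phi_gen k c
  · rw [phi_zero]; rfl

theorem comb_ker : forallLt 512 (fun r =>
    !(decide (∀ c, (∑ k : Fin 9, if r.testBit k.val then genPhi k c else 0) = 0)) ||
      decide ((∀ i, comb r i % 2 = 0) ∧ LTest fun i => comb r i / 2)) = true := by
  decide +kernel

theorem two_dvd_of_phi {x : Vec} (hx : x ∈ S8) (h : phi x = 0) :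
    ∃ z ∈ leechLattice, x = 2 • z := by
  obtain ⟨n, rfl⟩ := supp_decomp (S8_le hx).1 (S8_le hx).2
  obtain ⟨r, hr512, hr⟩ : ∃ r, r < 512 ∧ ∀ k : Fin 9, r.testBit k.val = decide (n k % 2 = 1) :=
    ⟨Nat.ofBits fun k : Fin 9 => decide (n k % 2 = 1), Nat.ofBits_lt_two_pow _, fun k => by
      rw [Nat.testBit_ofBits_lt _ k.val k.2]⟩
  set t : Vec := ∑ k, (n k / 2) • gen k with ht
  have htS : t ∈ S8 := sum_mem fun k _ => zsmul_mem (AddSubgroup.subset_closure (Set.mem_range_self k)) _
  have e : ∑ k, n k • gen k = comb r + (t + t) := by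
    funext i
    simp only [ht, comb, Pi.add_apply, Finset.sum_apply, Pi.smul_apply, smul_eq_mul,
      ← Finset.sum_add_distrib]
    refine Finset.sum_congr rfl fun k _ => ?_
    rw [hr k]
    by_cases hk : n k % 2 = 1
    · rw [decide_eq_true hk, if_pos rfl]
      conv_lhs => rw [show n k = 1 + (n k / 2 + n k / 2) by omega]
      ring
    · rw [decide_eq_false hk, if_neg (by simp)]
      conv_lhs => rw [show n k = n k / 2 + n k / 2 by omega]
      ring
  rw [e] at h ⊢
  have hc : comb r ∈ S8 := by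
    have := sub_mem hx (add_mem htS htS)
    rwa [e, add_sub_cancel_right] at this
  rw [phi_add hc, phi_add htS, show phi t + phi t = 0 from funext fun c => CharTwo.add_self_eq_zero _,
    add_zero] at h
  have h2 := forallLt_elim comb_ker hr512
  have h' : ∀ c, (∑ k : Fin 9, if r.testBit k.val then genPhi k c else 0) = 0 := fun c =>
    (comb_phi r c).symm.trans (congrFun h c)
  rw [decide_eq_true h', Bool.not_true, Bool.false_or, decide_eq_true_eq] at h2
  refine ⟨(fun i => comb r i / 2) + t, add_mem (mem_iff.2 (isL_of_test h2.2)) (S8_le htS).1, funext fun i => ?_⟩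
  have := h2.1 i
  simp only [Pi.add_apply, Pi.smul_apply, nsmul_eq_mul]
  push_cast
  omega

/-- The roots. -/
def IsRoot8 (x : ↥leechLattice) : Prop := Supp (x : Vec) ∧ sqNorm (x : Vec) = 32

theorem IsRoot8.mem {x : ↥leechLattice} (hx : IsRoot8 x) : (x : Vec) ∈ S8 := mem_S8 x.2 hx.1

theorem root_eq {x y : ↥leechLattice} (hx : IsRoot8 x) (hy : IsRoot8 y)
    (h : phi (x : Vec) = phi (y : Vec)) : x = y ∨ x = -y := by
  by_cases he : x = y
  · exact Or.inl he
  right
  have hd : phi ((x : Vec) + -(y : Vec)) = 0 := by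
    rw [phi_add hx.mem, phi_neg hy.mem, h]
    exact funext fun c => CharTwo.add_self_eq_zero _
  obtain ⟨z, hz, e⟩ := two_dvd_of_phi (add_mem hx.mem (neg_mem hy.mem)) hd
  rcases congr_short x.2 y.2 (fun hh => he (Subtype.ext hh)) (by rw [hx.2]; norm_num)
      (by rw [hy.2]; norm_num) ⟨z, hz, by rw [sub_eq_add_neg]; exact e⟩ with h1 | h1
  · exact Subtype.ext h1
  · rw [hx.2] at h1; norm_num at h1

theorem root_quad {x : ↥leechLattice} (hx : IsRoot8 x) :
    Cfsg.quadFormPlus 4 (ZMod 2) (phi (x : Vec)) = 1 := by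
  rw [(quad_eq hx.mem).2, qz, hx.2]; rfl

/-- The root of a node. -/
def node (i : ℕ) : ℕ × ℕ × ℕ × ℕ := treeData.getD i (0, 0, 0, 0)

theorem tree_ok : forallLt 120 (fun i => (decide (i = 0) && decide ((node i).1 = kPair)) ||
    (decide ((node i).2.1 < i) && stepIn (node i).2.2 &&
      decide (evalWord [(node i).2.2] (node (node i).2.1).1 = some (node i).1))) = true := by
  decide +kernel

theorem tree_reach : ∀ i, i < 120 → ∃ g ∈ CT, ((g • pairElt : ↥leechLattice) : Vec) = pv (node i).1 := by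
  intro i
  induction i using Nat.strong_induction_on with
  | _ i ih =>
    intro hi
    have h := forallLt_elim tree_ok hi
    simp only [Bool.or_eq_true, Bool.and_eq_true, decide_eq_true_eq] at h
    rcases h with ⟨-, h0⟩ | ⟨⟨hp, hs⟩, he⟩
    · exact ⟨1, one_mem _, by rw [one_smul, h0]; rfl⟩
    · obtain ⟨g, hg, e⟩ := ih _ hp (hp.trans hi)
      obtain ⟨g', hg', e'⟩ := packEltIn [(node i).2.2] (by simp [hs])
      exact ⟨g' * g, mul_mem hg' hg, by rw [mul_smul]; exact e' _ _ he _ e⟩

/-- The number of a class. -/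
def code (v : Ix → ZMod 2) : ℕ := ∑ c, (v c).val * 2 ^ cidx c

theorem code_bit : ∀ (v : Ix → ZMod 2) (c : Ix), v c = if (code v).testBit (cidx c) then 1 else 0 := by
  decide +kernel

theorem code_inj {u v : Ix → ZMod 2} (h : code u = code v) : u = v :=
  funext fun c => by rw [code_bit u c, code_bit v c, h]

/-- The class, computed on the octad only. -/
noncomputable def phiFast (x : Vec) (c : Ix) : ZMod 2 :=
  (((oPts.map fun j => x (pt j) * bv c.swap (pt j)).sum / 16 : ℤ) : ZMod 2)

theorem phiFast_eq (x : Vec) : phi x = phiFast x := by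
  funext c
  rw [phi, bq, phiFast, dotInt, sum_supp]
  intro i hi
  rw [(bv_test c.swap).2 i hi, mul_zero]

theorem tree_codes_fast : ∀ i : Fin 120, code (phiFast (pv (node i.val).1)) = treeCodes.getD i.val 0 := by
  decide +kernel

theorem tree_codes (i : Fin 120) : code (phi (pv (node i.val).1)) = treeCodes.getD i.val 0 := by
  rw [phiFast_eq]; exact tree_codes_fast i

theorem codes_cover : ∀ v : Ix → ZMod 2, Cfsg.quadFormPlus 4 (ZMod 2) v = 1 →
    ∃ i : Fin 120, treeCodes.getD i.val 0 = code v := by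
  unfold Cfsg.quadFormPlus; decide +kernel

theorem count_one : Fintype.card {v : Ix → ZMod 2 // Cfsg.quadFormPlus 4 (ZMod 2) v = 1} = 120 := by
  unfold Cfsg.quadFormPlus; decide +kernel

theorem exists_reach {v : Ix → ZMod 2} (hv : Cfsg.quadFormPlus 4 (ZMod 2) v = 1) :
    ∃ g ∈ CT, phi ((g • pairElt : ↥leechLattice) : Vec) = v := by
  obtain ⟨i, hi⟩ := codes_cover v hv
  obtain ⟨g, hg, e⟩ := tree_reach i.val i.2
  exact ⟨g, hg, code_inj (by rw [e, tree_codes i, hi])⟩

end CfsgLib.Sporadic.Conway.OneInv
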