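import Mathlib

/-! Generated data for the Suzuki section of Co0. -/

set_option autoImplicit false

namespace CfsgLib.Sporadic.Conway.SuzSection

/-- Translations with their coordinates. -/
def permCodes : List (ℕ × ℕ) :=
  [(984818244535754528103549039458486304, 0), (961365507626256404119956257276790816, 1), (963721886883755259286232606933354528, 2), (972512676110088067912772961567868960, 4), (981818691054096003685363657089320992, 8), (965128854020860192151391391390468128, 3), (976448692869377735270425038196672544, 5), (975346028712660580592452217730074656, 9), (983548720921252936276249910206105632, 6), (979121071158219704299181131031480352, 10), (967812279691448225500382947153381408, 12), (980224387687010295957922729495201824, 7), (966182099583441531322624363496310816, 11), (968708902336673183175954409307867168, 13), (970499966350631336865513127433832480, 14), (971592882964418941354553515258775584, 15)]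

/-- Sign changes with their coordinates. -/
def flipCodes : List (ℕ × ℕ) :=
  [(0, 0), (337856, 6), (628112, 1), (832080, 7), (1161408, 14), (1351424, 8), (1584464, 15), (1903248, 9), (2141072, 5), (2460752, 3), (2702848, 4), (2890176, 2), (3216208, 11), (3421328, 13), (3704512, 10), (4038912, 12), (4202192, 12), (4536592, 10), (4819776, 13), (5024896, 11), (5350928, 2), (5538256, 4), (5780352, 3), (6100032, 5), (6337856, 9), (6656640, 15), (6889680, 8), (7079696, 14), (7409024, 7), (7612992, 1), (7903248, 6), (8241104, 0)]

end CfsgLib.Sporadic.Conway.SuzSection
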