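import Cfsg.Agent.Lib.Sporadic.ConwayTwoInvolutionBase
import Cfsg.Agent.Lib.Schur.Coxeter.SpSix
import Cfsg.Agent.Lib.Classical.Symplectic.MatrixStructure
import Cfsg.Agent.Lib.PGroups.Extraspecial
import Cfsg.Agent.Lib.Core.Cores
import Cfsg.Agent.Lib.ThreeTrans.LargeExtra
import Cfsg.Prelude.Def_Spor_Conway

/-!
# An involution centraliser of Co2: `2^{1+8}.Sp6(2)`

The centraliser acts on the roots orthogonal to the fixed vector, hence on a six dimensional
symplectic space; the kernel consists of monomial elements.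
-/

set_option autoImplicit false
set_option maxRecDepth 20000

namespace CfsgLib.Sporadic.Conway.TwoInv

open Cfsg Finset CfsgLib.ThreeTrans.Leech CfsgLib.Sporadic.Lattice
open CfsgLib.Schur.Cox.SpSix (Grp vec6 vec6_cases closure_s s)
open Matrix

/-- The centraliser inside the stabiliser of the fixed vector. -/
noncomputable def CU : Subgroup ↥Co0 := CT ⊓ MulAction.stabilizer ↥Co0 pairElt

theorem mem_CU {g : ↥Co0} : g ∈ CU ↔ g ∈ CT ∧ g • pairElt = pairElt := Iff.rfl

theorem mask_eq_setOfMask {i : GolayPt} : i ∈ setOfMask stdO ↔ stdO.testBit (ix i) = true := mem_setOfMask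

/-- Is a root, up to sign. -/
def IsRoot (v : ↥leechLattice) : Prop := ∃ m, v = rt m ∨ v = -rt m

theorem isRoot_smul {g : ↥Co0} (hg : g ∈ CU) (m : Fin 63) : IsRoot (g • rt m) := by
  obtain ⟨hT, hu⟩ := mem_CU.1 hg
  obtain ⟨n, hn⟩ := root_complete (x := ((g • rt m : ↥leechLattice) : Vec)) (SetLike.coe_mem _)
    (by rw [norm_smul']; exact (rt_norm m).1) (supp_smul hT (rt_supp m))
    (by
      have := dot_smul' g pairElt (rt m)
      rw [hu] at this
      exact this.trans (rt_norm m).2)
  exact ⟨n, hn.imp (fun e => Subtype.ext e) fun e => Subtype.ext (by rw [AddSubgroup.coe_neg]; exact e)⟩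

theorem isRoot_smul' {g : ↥Co0} (hg : g ∈ CU) {v : ↥leechLattice} (hv : IsRoot v) : IsRoot (g • v) := by
  obtain ⟨m, rfl | rfl⟩ := hv
  · exact isRoot_smul hg m
  · obtain ⟨n, e | e⟩ := isRoot_smul hg m
    · exact ⟨n, Or.inr (by rw [smul_neg', e])⟩
    · exact ⟨n, Or.inl (by rw [smul_neg', e, neg_neg])⟩

/-- The parity of an inner product of roots. -/
def par (x y : Vec) : ZMod 2 := if (32 : ℤ) ∣ dotInt x y then 0 else 1

theorem par_neg_left (x y : Vec) : par (-x) y = par x y := by
  have : dotInt (-x) y = -dotInt x y := by simp [dotInt]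
  simp only [par, this, dvd_neg]

theorem par_neg_right (x y : Vec) : par x (-y) = par x y := by
  simp only [par, dot_neg_right, dvd_neg]

/-- The six basic roots. -/
noncomputable def base : Fin 3 ⊕ Fin 3 → Fin 63 :=
  Sum.elim (fun i => ⟨2 ^ i.val - 1, by have := i.isLt; interval_cases i.val <;> norm_num⟩)
    (fun i => ⟨2 ^ (i.val + 3) - 1, by have := i.isLt; interval_cases i.val <;> norm_num⟩)

/-- Coordinates. -/
noncomputable def phi (x : Vec) : Fin 3 ⊕ Fin 3 → ZMod 2 := fun c => par x (rt (base c.swap) : Vec)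

/-- The alternating form. -/
def form (v w : Fin 3 ⊕ Fin 3 → ZMod 2) : ZMod 2 := ∑ c, v c * w c.swap

theorem phi_rt : ∀ m : Fin 63, phi (pv (rk m)) = vec6 (m.val + 1) := by
  intro m
  funext c
  revert m c
  simp only [phi, rt]
  unfold par dotInt
  decide +kernel

theorem par_rt : ∀ m n : Fin 63, par (pv (rk m)) (pv (rk n)) = form (vec6 (m.val + 1)) (vec6 (n.val + 1)) := by
  unfold par dotInt form
  decide +kernel

theorem vec6_inj : ∀ m n : Fin 63, vec6 (m.val + 1) = vec6 (n.val + 1) → m = n := by decide +kernel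

theorem phi_neg (x : Vec) : phi (-x) = phi x := funext fun _ => par_neg_left _ _

theorem par_root {v w : ↥leechLattice} (hv : IsRoot v) (hw : IsRoot w) :
    par (v : Vec) (w : Vec) = form (phi (v : Vec)) (phi (w : Vec)) := by
  obtain ⟨m, hm⟩ := hv
  obtain ⟨n, hn⟩ := hw
  have key : par (rt m : Vec) (rt n : Vec) = form (phi (rt m : Vec)) (phi (rt n : Vec)) := by
    show par (pv (rk m)) (pv (rk n)) = form (phi (pv (rk m))) (phi (pv (rk n)))
    rw [phi_rt, phi_rt]
    exact par_rt m n
  rcases hm with rfl | rfl <;> rcases hn with rfl | rfl <;>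
    first
      | exact key
      | (simp only [AddSubgroup.coe_neg, par_neg_left, par_neg_right, phi_neg]; exact key)

theorem exists_root (v : Fin 3 ⊕ Fin 3 → ZMod 2) : v = 0 ∨ ∃ m : Fin 63, phi (pv (rk m)) = v :=
  (vec6_cases v).imp id fun ⟨m, hm⟩ => ⟨m, (phi_rt m).trans hm.symm⟩

/-- The matrix of an element. -/
noncomputable def nmat (g : ↥Co0) : Matrix (Fin 3 ⊕ Fin 3) (Fin 3 ⊕ Fin 3) (ZMod 2) :=
  Matrix.of fun k c => phi ((g⁻¹ • rt (base k.swap) : ↥leechLattice) : Vec) c.swap

theorem nmat_spec {g : ↥Co0} (hg : g ∈ CU) {v : ↥leechLattice} (hv : IsRoot v) :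
    phi ((g • v : ↥leechLattice) : Vec) = nmat g *ᵥ phi (v : Vec) := by
  funext k
  have hr : IsRoot (g⁻¹ • rt (base k.swap)) := isRoot_smul (inv_mem hg) _
  have e : par ((g • v : ↥leechLattice) : Vec) (rt (base k.swap) : Vec) =
      par (v : Vec) ((g⁻¹ • rt (base k.swap) : ↥leechLattice) : Vec) := by
    have := dot_smul' g v (g⁻¹ • rt (base k.swap))
    rw [smul_inv_smul] at this
    simp only [par, this]
  show par _ _ = _
  rw [e, par_root hv hr, Matrix.mulVec, dotProduct, form]
  exact Finset.sum_congr rfl fun c _ => mul_comm _ _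

theorem mat_ext {A B : Matrix (Fin 3 ⊕ Fin 3) (Fin 3 ⊕ Fin 3) (ZMod 2)}
    (h : ∀ m : Fin 63, A *ᵥ phi (pv (rk m)) = B *ᵥ phi (pv (rk m))) : A = B := by
  refine Matrix.ext_of_mulVec_single fun c => ?_
  rcases exists_root (Pi.single c 1) with e | ⟨m, e⟩
  · rw [e, Matrix.mulVec_zero, Matrix.mulVec_zero]
  · rw [← e]; exact h m

theorem nmat_mul {g h : ↥Co0} (hg : g ∈ CU) (hh : h ∈ CU) : nmat (g * h) = nmat g * nmat h :=
  mat_ext fun m => by
    rw [← Matrix.mulVec_mulVec, show pv (rk m) = (rt m : Vec) from rfl, ← nmat_spec hh ⟨m, Or.inl rfl⟩,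
      ← nmat_spec hg (isRoot_smul hh m), ← nmat_spec (mul_mem hg hh) ⟨m, Or.inl rfl⟩, mul_smul]

theorem nmat_one : nmat (1 : ↥Co0) = 1 :=
  mat_ext fun m => by
    rw [Matrix.one_mulVec, show pv (rk m) = (rt m : Vec) from rfl,
      ← nmat_spec (one_mem _) ⟨m, Or.inl rfl⟩, one_smul]

theorem form_eq_dot : ∀ x y : Fin 3 ⊕ Fin 3 → ZMod 2, form x y = x ⬝ᵥ (Matrix.J (Fin 3) (ZMod 2) *ᵥ y) := by
  intro x y
  refine Finset.sum_congr rfl fun c _ => congrArg (x c * ·) ?_
  have h : ∀ c d : Fin 3 ⊕ Fin 3, Matrix.J (Fin 3) (ZMod 2) c d = if d = c.swap then 1 else 0 := by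
    intro c d
    rcases c with i | i <;> rcases d with j | j <;>
      simp [Matrix.J, Matrix.one_apply, eq_comm]
  rw [Matrix.mulVec, dotProduct, Finset.sum_eq_single c.swap (fun d _ hd => by rw [h, if_neg hd, zero_mul])
    (fun hh => absurd (Finset.mem_univ _) hh), h, if_pos rfl, one_mul]

theorem nmat_form {g : ↥Co0} (hg : g ∈ CU) (x y : Fin 3 ⊕ Fin 3 → ZMod 2) :
    form (nmat g *ᵥ x) (nmat g *ᵥ y) = form x y := by
  have hz : ∀ v, form 0 v = 0 ∧ form v 0 = 0 := fun v =>
    ⟨Finset.sum_eq_zero fun c _ => zero_mul _, Finset.sum_eq_zero fun c _ => mul_zero _⟩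
  rcases exists_root x with rfl | ⟨m, rfl⟩
  · rw [Matrix.mulVec_zero, (hz _).1, (hz _).1]
  rcases exists_root y with rfl | ⟨n, rfl⟩
  · rw [Matrix.mulVec_zero, (hz _).2, (hz _).2]
  have hm : IsRoot (rt m) := ⟨m, Or.inl rfl⟩
  have hn : IsRoot (rt n) := ⟨n, Or.inl rfl⟩
  show form (nmat g *ᵥ phi (rt m : Vec)) (nmat g *ᵥ phi (rt n : Vec)) = form (phi (rt m : Vec)) (phi (rt n : Vec))
  rw [← nmat_spec hg hm, ← nmat_spec hg hn, ← par_root (isRoot_smul hg m) (isRoot_smul hg n), ← par_root hm hn]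
  simp only [par, dot_smul']

theorem nmat_mem {g : ↥Co0} (hg : g ∈ CU) : nmat g ∈ Matrix.symplecticGroup (Fin 3) (ZMod 2) := by
  rw [SymplecticGroup.mem_iff']
  refine Matrix.ext_of_mulVec_single fun b => funext fun a => ?_
  have h := nmat_form hg (Pi.single a 1) (Pi.single b 1)
  rw [form_eq_dot, form_eq_dot] at h
  rw [← Matrix.mulVec_mulVec, ← Matrix.mulVec_mulVec]
  have key : ∀ v : Fin 3 ⊕ Fin 3 → ZMod 2, ((nmat g)ᵀ *ᵥ v) a = (nmat g *ᵥ Pi.single a 1) ⬝ᵥ v := fun v => by
    rw [Matrix.mulVec_single_one]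
    rfl
  rw [key]
  refine h.trans ?_
  rw [single_dotProduct, one_mul]

/-- The action on the six dimensional space. -/
noncomputable def rho : ↥CU →* Grp where
  toFun g := ⟨nmat g.1, nmat_mem g.2⟩
  map_one' := Subtype.ext nmat_one
  map_mul' g h := Subtype.ext (nmat_mul g.2 h.2)

/-! ### Generators -/

noncomputable def imgOK (k : Fin 7) (j : Fin 3 ⊕ Fin 3) : Bool :=
  match evalWord (genWords.getD k.val []) (rk (base j)) with
  | some b => decide (phi (pv b) = fun i => (s k).1 i j)
  | none => false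

theorem gen_facts : (∀ k : Fin 7, (genWords.getD k.val []).all stepIn = true ∧
    evalWord (genWords.getD k.val []) kPair = some kPair) ∧ ∀ k j, imgOK k j = true := by
  refine ⟨by decide +kernel, ?_⟩
  unfold imgOK phi par dotInt
  decide +kernel

theorem rho_surjective : Function.Surjective rho := by
  rw [← MonoidHom.range_eq_top, eq_top_iff, ← closure_s, Subgroup.closure_le]
  rintro _ ⟨k, rfl⟩
  obtain ⟨g, hgT, hg⟩ := packEltIn _ (gen_facts.1 k).1
  have hgU : g ∈ CU := mem_CU.2 ⟨hgT, Subtype.ext (hg _ _ (gen_facts.1 k).2 pairElt rfl)⟩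
  refine ⟨⟨g, hgU⟩, Subtype.ext (Matrix.ext_of_mulVec_single fun j => ?_)⟩
  show nmat g *ᵥ _ = (s k).1 *ᵥ _
  have hb : phi (pv (rk (base j))) = Pi.single j 1 := by
    funext c; revert j c
    simp only [phi, rt]
    unfold par dotInt
    decide +kernel
  rw [Matrix.mulVec_single_one (s k).1, ← hb, show pv (rk (base j)) = (rt (base j) : Vec) from rfl,
    ← nmat_spec hgU ⟨_, Or.inl rfl⟩]
  have h := gen_facts.2 k j
  unfold imgOK at h
  cases hb' : evalWord (genWords.getD k.val []) (rk (base j)) with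
  | none => rw [hb'] at h; simp at h
  | some b =>
    rw [hb'] at h
    rw [hg _ _ hb' (rt (base j)) rfl, of_decide_eq_true h]
    rfl

/-! ### The kernel -/

theorem chain_ok : (chainData.all fun e => decide (e.1 < 63) && decide (e.2 < 63) &&
      decide (dotInt (pv (rootKeys.getD e.1 0)) (pv (rootKeys.getD e.2 0)) ≠ 0)) = true ∧
    (0 :: chainData.map Prod.fst).length = 63 ∧ (0 :: chainData.map Prod.fst).Nodup ∧
    (∀ i : Fin 62, (chainData.getD i.val (0, 0)).2 ∈ 0 :: (chainData.take i.val).map Prod.fst) := by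
  refine ⟨?_, by decide +kernel, by decide +kernel, by decide +kernel⟩
  unfold dotInt
  decide +kernel

theorem eight_data : ∀ i : GolayPt, stdO.testBit (ix i) = true →
    (i = none ∧ ∀ k, (8 * (if k = i then (1 : ℤ) else 0)) = pv kPair k + (cond pairRoot.2 1 (-1)) * -pv (rootKeys.getD pairRoot.1 0) k) ∨
    (i = some 0 ∧ ∀ k, (8 * (if k = i then (1 : ℤ) else 0)) = pv kPair k + (cond pairRoot.2 1 (-1)) * pv (rootKeys.getD pairRoot.1 0) k) ∨
    ∃ e ∈ combData, e.1 = ix i ∧ ∀ k, (8 * (if k = i then (1 : ℤ) else 0)) =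
      (cond e.2.2.1 1 (-1)) * pv (rootKeys.getD e.2.1 0) k + (cond e.2.2.2.2 1 (-1)) * pv (rootKeys.getD e.2.2.2.1 0) k := by
  decide +kernel

theorem combData_lt : pairRoot.1 < 63 ∧ ∀ e ∈ combData, e.2.1 < 63 ∧ e.2.2.2.1 < 63 := by decide +kernel

/-- A vector is fixed up to the sign `s`. -/
theorem eight_smul {g : ↥Co0} (hu : g • pairElt = pairElt) (sg : Bool)
    (hr : ∀ m, g • rt m = cond sg (rt m) (-rt m)) (i : GolayPt) (hi : stdO.testBit (ix i) = true) :
    ((g • (⟨eightVec i, eightVec_mem i⟩ : ↥leechLattice) : ↥leechLattice) : Vec) =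
      if sg then eightVec i else if i = none then eightVec (some 0) else if i = some 0 then eightVec none
        else -eightVec i := by
  have h8 : ∀ j k, eightVec j k = 8 * (if k = j then (1 : ℤ) else 0) := fun j k => by
    unfold eightVec; split_ifs <;> norm_num
  have hlin : ∀ (m : Fin 63) (b : Bool) (w : ↥leechLattice),
      g • (w + cond b (rt m) (-rt m)) = g • w + cond b (g • rt m) (-(g • rt m)) := fun m b w => by
    rw [show g • (w + _) = g • w + g • cond b (rt m) (-rt m) from map_add (linOf g) _ _]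
    cases b <;> simp [smul_neg']
  have hv : ∀ (m : Fin 63) (b : Bool) (k : GolayPt),
      ((cond b (rt m) (-rt m) : ↥leechLattice) : Vec) k = (cond b 1 (-1) : ℤ) * pv (rk m) k := fun m b k => by
    cases b
    · show ((-rt m : ↥leechLattice) : Vec) k = _
      rw [AddSubgroup.coe_neg, Pi.neg_apply, cond_false, neg_one_mul]; rfl
    · rw [cond_true, cond_true, one_mul]; rfl
  have hu' : ∀ k, (pairElt : Vec) k = pv kPair k := fun k => rfl
  rcases eight_data i hi with ⟨rfl, e⟩ | ⟨rfl, e⟩ | ⟨d, hd, -, e⟩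
  · have he : (⟨eightVec none, eightVec_mem none⟩ : ↥leechLattice) =
        pairElt + cond (!pairRoot.2) (rt ⟨pairRoot.1, combData_lt.1⟩) (-rt ⟨pairRoot.1, combData_lt.1⟩) := by
      refine Subtype.ext (funext fun k => ?_)
      show eightVec _ k = _
      rw [AddSubgroup.coe_add, Pi.add_apply, hv, hu', h8, e]
      cases pairRoot.2 <;> simp [rk]
    rw [he, hlin, hu, hr]
    cases sg
    · funext k
      have e' := (eight_data (some 0) (by decide +kernel)).resolve_left (fun h => by simp at h)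
      rcases e' with ⟨-, e'⟩ | ⟨d, hd, hd1, -⟩
      · simp only [Bool.false_eq_true, if_false, if_true, cond_false, AddSubgroup.coe_add, Pi.add_apply]
        rw [h8, e', hu']
        cases pairRoot.2 <;> simp [rk, rt]
      · exact absurd hd1 (by clear hd1; revert hd; revert d; decide +kernel)
    · simp only [cond_true, if_true]
      exact (congrArg Subtype.val he).symm
  · have he : (⟨eightVec (some 0), eightVec_mem _⟩ : ↥leechLattice) =
        pairElt + cond pairRoot.2 (rt ⟨pairRoot.1, combData_lt.1⟩) (-rt ⟨pairRoot.1, combData_lt.1⟩) := by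
      refine Subtype.ext (funext fun k => ?_)
      show eightVec _ k = _
      rw [AddSubgroup.coe_add, Pi.add_apply, hv, hu', h8, e]
      cases pairRoot.2 <;> simp [rk]
    rw [he, hlin, hu, hr]
    cases sg
    · funext k
      have e' := eight_data none (by decide +kernel)
      rcases e' with ⟨-, e'⟩ | ⟨h, -⟩ | ⟨d, hd, hd1, -⟩
      · simp only [Bool.false_eq_true, if_false, if_true, cond_false, AddSubgroup.coe_add, Pi.add_apply,
          show ((some 0 : GolayPt) = none) ↔ False by simp]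
        rw [h8, e', hu']
        cases pairRoot.2 <;> simp [rk, rt]
      · simp at h
      · exact absurd hd1 (by clear hd1; revert hd; revert d; decide +kernel)
    · simp only [cond_true, if_true]
      exact (congrArg Subtype.val he).symm
  · have hne : i ≠ none ∧ i ≠ some 0 := by
      constructor <;> rintro rfl <;> revert e <;> revert hd <;> revert d <;> decide +kernel
    have he : (⟨eightVec i, eightVec_mem i⟩ : ↥leechLattice) =
        cond d.2.2.1 (rt ⟨d.2.1, (combData_lt.2 d hd).1⟩) (-rt ⟨d.2.1, (combData_lt.2 d hd).1⟩) +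
          cond d.2.2.2.2 (rt ⟨d.2.2.2.1, (combData_lt.2 d hd).2⟩) (-rt ⟨d.2.2.2.1, (combData_lt.2 d hd).2⟩) := by
      refine Subtype.ext (funext fun k => ?_)
      show eightVec _ k = _
      rw [AddSubgroup.coe_add, Pi.add_apply, hv, hv, h8, e]
      simp [rk]
    have hg : g • (⟨eightVec i, eightVec_mem i⟩ : ↥leechLattice) =
        cond sg (⟨eightVec i, eightVec_mem i⟩ : ↥leechLattice) (-⟨eightVec i, eightVec_mem i⟩) := by
      rw [he, show g • (_ + _) = g • _ + g • _ from map_add (linOf g) _ _]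
      cases d.2.2.1 <;> cases d.2.2.2.2 <;> simp only [cond_false, cond_true, smul_neg', hr] <;>
        cases sg <;> simp only [cond_false, cond_true, neg_neg, neg_add_rev] <;> abel
    rw [hg]
    cases sg
    · simp [hne.1, hne.2]
    · simp

theorem sign_same {g : ↥Co0} (h : ∀ m, g • rt m = rt m ∨ g • rt m = -rt m) :
    ∃ sg : Bool, ∀ m, g • rt m = cond sg (rt m) (-rt m) := by
  have hne : ∀ v : ↥leechLattice, sqNorm (v : Vec) = 32 → v ≠ -v := fun v hv e => by
    have h0 : (v : Vec) = 0 := funext fun k => by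
      have := congrFun (congrArg Subtype.val e) k
      rw [AddSubgroup.coe_neg, Pi.neg_apply] at this
      show _ = (0 : ℤ)
      omega
    rw [h0] at hv
    simp [sqNorm] at hv
  obtain ⟨sg, h0⟩ : ∃ sg : Bool, g • rt 0 = cond sg (rt 0) (-rt 0) :=
    (h 0).elim (fun e => ⟨true, e⟩) fun e => ⟨false, e⟩
  refine ⟨sg, fun m => ?_⟩
  obtain ⟨hall, hlen, hnd, htree⟩ := chain_ok
  have key : ∀ n ≤ 62, ∀ a ∈ 0 :: (chainData.take n).map Prod.fst, ∀ ha : a < 63,
      g • rt ⟨a, ha⟩ = cond sg (rt ⟨a, ha⟩) (-rt ⟨a, ha⟩) := by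
    intro n hn
    induction n with
    | zero =>
      intro a ha' ha
      simp only [List.take_zero, List.map_nil, List.mem_cons, List.not_mem_nil, or_false] at ha'
      subst ha'; exact h0
    | succ n ih =>
      intro a ha' ha
      have hlt : n < chainData.length := by simp at hlen; omega
      rw [List.take_add_one, List.map_append, List.getElem?_eq_getElem hlt] at ha'
      simp only [Option.toList_some, List.map_cons, List.map_nil, List.mem_cons, List.mem_append, List.not_mem_nil,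
        or_false] at ha'
      rcases ha' with ha' | ha' | ha'
      · exact ih (by omega) a (by rw [ha']; exact List.mem_cons_self) ha
      · exact ih (by omega) a (List.mem_cons_of_mem _ ha') ha
      · have hp := htree ⟨n, by omega⟩
        rw [List.getD_eq_getElem _ _ hlt] at hp
        have hd := List.all_eq_true.1 hall _ (List.getElem_mem hlt)
        simp only [Bool.and_eq_true, decide_eq_true_eq] at hd
        obtain ⟨⟨hd1, hd2⟩, hd3⟩ := hd
        have hb := ih (by omega) _ hp hd2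
        subst ha'
        rcases h ⟨_, ha⟩ with e | e <;> cases sg <;>
          simp only [cond_false, cond_true] at hb ⊢ <;> first | exact e | (
            exfalso
            apply hd3
            have hdot := dot_smul' g (rt ⟨_, ha⟩) (rt ⟨_, hd2⟩)
            rw [e, hb] at hdot
            simp only [AddSubgroup.coe_neg] at hdot
            simp only [dotInt, Pi.neg_apply, neg_mul, mul_neg, neg_neg, Finset.sum_neg_distrib] at hdot
            simp only [rt, rk] at hdot
            show dotInt _ _ = 0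
            unfold dotInt
            omega)
  have hm : m.val ∈ 0 :: chainData.map Prod.fst := by
    have hs : (0 :: chainData.map Prod.fst).toFinset = Finset.range 63 := by decide +kernel
    rw [← List.mem_toFinset, hs, Finset.mem_range]
    exact m.isLt
  rw [← List.take_length (l := chainData)] at hm
  exact key _ (by simp at hlen; omega) m.val hm m.isLt

/-- The permutations fixing the octad pointwise and the code words avoiding it. -/
theorem perm_facts : octFixList.length = 16 ∧ flipMasks.length = 32 ∧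
    (∀ p ∈ octFixList, isAut p = true ∧ mimg p ocMask = ocMask ∧
      (∀ q ∈ octFixList, pmul p q ∈ octFixList ∧ pmul p q = pmul q p) ∧
      (∀ c ∈ flipMasks, mimg p c ∈ flipMasks ∧ (mimg p c ^^^ c = 0 ∨ mimg p c ^^^ c = ocMask)) ∧
      (∀ i : Fin 24, stdO.testBit i.val = true → pget p i.val = i.val) ∧
      (p = pone ∨ ∃ d ∈ flipMasks, mimg p d ≠ d)) ∧
    (∀ c ∈ flipMasks, inCode c = true ∧ Nat.land c stdO = 0 ∧ (∀ d ∈ flipMasks, c ^^^ d ∈ flipMasks) ∧
      (c = 0 ∨ c = ocMask ∨ ∃ p ∈ octFixList, mimg p c ≠ c)) ∧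
    pone ∈ octFixList ∧ 0 ∈ flipMasks ∧ ocMask ∈ flipMasks ∧ octFixList.Nodup ∧ flipMasks.Nodup ∧
    forallLt 4096 (fun k => !(Nat.beq (Nat.land (enc k) stdO) 0) || flipMasks.contains (enc k)) = true := by
  decide +kernel

theorem pm_fix_pair {p : ℕ} (hp : p ∈ octFixList) {c : ℕ} (hc : c ∈ flipMasks) :
    fl c * pm p ∈ CU ∧ ∀ m, (fl c * pm p) • rt m = rt m := by
  obtain ⟨h1, ho, -, -, hfix, -⟩ := perm_facts.2.2.1 p hp
  obtain ⟨hcc, hcO, -, -⟩ := perm_facts.2.2.2.1 c hc
  have hv : ∀ v : ↥leechLattice, Supp (v : Vec) → (fl c * pm p) • v = v := by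
    intro v hv
    obtain ⟨σ, -, hr, hs⟩ := pm_spec h1
    refine Subtype.ext (funext fun i => ?_)
    rw [mul_smul, fl_apply hcc, hs]
    simp only [flipVec, permVec, mem_setOfMask]
    cases h : stdO.testBit (ix i)
    · have hsi : stdO.testBit (ix (σ.symm i)) = false := by
        cases h' : stdO.testBit (ix (σ.symm i))
        · rfl
        · have := hfix ⟨_, ix_lt (σ.symm i)⟩ h'
          simp only at this
          rw [hr (σ.symm i), σ.apply_symm_apply] at this
          rw [← this, h] at h'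
          exact h'.symm
      rw [hv _ hsi, hv _ h]
      simp
    · have hsi : σ.symm i = i := by
        rw [Equiv.symm_apply_eq]
        have := hfix ⟨_, ix_lt i⟩ h
        simp only at this
        rw [hr i] at this
        exact (ix_injective this).symm
      have hci : c.testBit (ix i) = false := by
        have := congrArg (fun x => Nat.testBit x (ix i)) hcO
        change (c &&& stdO).testBit (ix i) = _ at this
        rw [Nat.testBit_and, h, Bool.and_true, Nat.zero_testBit] at this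
        exact this
      rw [hsi, hci]; rfl
  refine ⟨mem_CU.2 ⟨mul_mem (fl_mem_CT hcc) (pm_mem_CT h1 ho), hv _ ?_⟩, fun m => hv _ (rt_supp m)⟩
  show Supp (pv kPair)
  unfold Supp
  decide +kernel

/-- The kernel, as listed. -/
theorem ker_elt {g : ↥CU} (h : rho g = 1) :
    ∃ p ∈ octFixList, ∃ c ∈ flipMasks, (g : ↥Co0) = fl c * pm p := by
  have hN : nmat g.1 = 1 := congrArg Subtype.val h
  have hpm : ∀ m, g.1 • rt m = rt m ∨ g.1 • rt m = -rt m := by
    intro m
    have h2 := nmat_spec g.2 (v := rt m) ⟨m, Or.inl rfl⟩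
    rw [hN, Matrix.one_mulVec] at h2
    obtain ⟨n, e | e⟩ := isRoot_smul g.2 m
    · left
      rw [e, show ((rt n : ↥leechLattice) : Vec) = pv (rk n) from rfl, show ((rt m : ↥leechLattice) : Vec) = pv (rk m) from rfl,
        phi_rt, phi_rt] at h2
      rw [e, vec6_inj n m h2]
    · right
      rw [e, AddSubgroup.coe_neg, phi_neg, show ((rt n : ↥leechLattice) : Vec) = pv (rk n) from rfl,
        show ((rt m : ↥leechLattice) : Vec) = pv (rk m) from rfl, phi_rt, phi_rt] at h2
      rw [e, vec6_inj n m h2]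
  obtain ⟨sg, hsg⟩ := sign_same hpm
  obtain ⟨-, hu⟩ := mem_CU.1 g.2
  have h8 := eight_smul hu sg hsg
  have hpres : Preserves g.1 := by
    rw [preserves_iff]
    show classOf ((g.1 • (⟨eightVec none, eightVec_mem none⟩ : ↥leechLattice) : ↥leechLattice) : Vec) = _
    rw [h8 none (by decide +kernel)]
    cases sg
    · simp only [Bool.false_eq_true, if_false, if_true]
      exact ((mem_std_iff (eightVec_mem _)).1 (mem_stdCross.2 ⟨_, Or.inl rfl⟩)).2
    · rfl
  obtain ⟨σ, hσ, c, hc, hg⟩ := exists_mono hpres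
  have himg : ∀ i, ((g.1 • (⟨eightVec i, eightVec_mem i⟩ : ↥leechLattice) : ↥leechLattice) : Vec) =
      if σ i ∈ c then -eightVec (σ i) else eightVec (σ i) := fun i => by
    rw [hg, monoElt_apply]; exact signedPerm_eight σ c i
  have hpos : ∀ i j, ((if σ i ∈ c then -eightVec (σ i) else eightVec (σ i)) = eightVec j → σ i = j ∧ σ i ∉ c) ∧
      ((if σ i ∈ c then -eightVec (σ i) else eightVec (σ i)) = -eightVec j → σ i = j ∧ σ i ∈ c) := by
    intro i j
    by_cases hm : σ i ∈ c
    · rw [if_pos hm]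
      exact ⟨fun e => absurd e.symm (eightVec_ne_neg _ _), fun e => ⟨eightVec_inj (neg_injective e), hm⟩⟩
    · rw [if_neg hm]
      exact ⟨fun e => ⟨eightVec_inj e, hm⟩, fun e => absurd e (eightVec_ne_neg _ _)⟩
  cases sg
  · exfalso
    have hmap : ∀ i ∈ setOfMask stdO, σ i = if i = none then some 0 else if i = some 0 then none else i := by
      intro i hi
      have := h8 i (mask_eq_setOfMask.1 hi)
      rw [himg] at this
      simp only [Bool.false_eq_true, if_false] at this
      split_ifs with a b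
      · rw [if_pos a] at this; exact ((hpos i _).1 this).1
      · rw [if_neg a, if_pos b] at this; exact ((hpos i _).1 this).1
      · rw [if_neg a, if_neg b] at this; exact ((hpos i _).2 this).1
    have hno : ∀ x : GolayPt, x ∈ setOfMask stdO → σ x ∈ setOfMask stdO := fun x hx => by
      rw [hmap x hx]; revert hx; revert x; decide +kernel
    have hst : ∀ x, σ x ∈ setOfMask stdO ↔ x ∈ setOfMask stdO := fun x => by
      refine ⟨fun h => ?_, hno x⟩
      have hbij : (setOfMask stdO).image σ = setOfMask stdO :=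
        Finset.eq_of_subset_of_card_le (fun y hy => by
          obtain ⟨z, hz, rfl⟩ := Finset.mem_image.1 hy
          exact hno z hz) (by rw [Finset.card_image_of_injective _ σ.injective])
      rw [← hbij] at h
      obtain ⟨z, hz, e⟩ := Finset.mem_image.1 h
      exact σ.injective e ▸ hz
    have he : σ.subtypePerm hst ∈ (alternatingGroup ↥(setOfMask stdO) : Set _) := by
      rw [← octad_induced_set stdO_mem]
      exact ⟨σ, hσ, hst, rfl⟩
    have hswap : σ.subtypePerm hst = Equiv.swap (⟨none, by decide +kernel⟩ : ↥(setOfMask stdO))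
        ⟨some 0, by decide +kernel⟩ := by
      refine Equiv.ext fun x => Subtype.ext ?_
      show σ x.1 = _
      rw [hmap x.1 x.2, Equiv.swap_apply_def]
      simp only [Subtype.ext_iff]
      split_ifs <;> rfl
    rw [hswap, SetLike.mem_coe, Equiv.Perm.mem_alternatingGroup, Equiv.Perm.sign_swap (by simp)] at he
    exact absurd he (by decide)
  · have hfix : ∀ i ∈ setOfMask stdO, σ i = i ∧ σ i ∉ c := by
      intro i hi
      have := h8 i (mask_eq_setOfMask.1 hi)
      rw [himg] at this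
      simp only [if_true] at this
      exact (hpos i i).1 this
    obtain ⟨p, hp, hr⟩ := octFix_mem_list hσ fun x hx => (hfix x hx).1
    have hcm : maskOf c ∈ flipMasks := by
      obtain ⟨k, hk, hek⟩ := inCode_iff.1 (mem_supports_iff.1 hc)
      have h := forallLt_elim perm_facts.2.2.2.2.2.2.2.2.2 hk
      have h0 : Nat.land (enc k) stdO = 0 := by
        refine Nat.eq_of_testBit_eq fun n => ?_
        show (enc k &&& stdO).testBit n = _
        rw [Nat.testBit_and, Nat.zero_testBit, hek]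
        by_cases hn : n < 24
        · rw [← ix_pt hn, testBit_maskOf]
          cases hb : stdO.testBit (ix (pt n))
          · rw [Bool.and_false]
          · obtain ⟨e1, e2⟩ := hfix (pt n) (mask_eq_setOfMask.2 hb)
            rw [e1] at e2
            simp [e2]
        · rw [Nat.testBit_lt_two_pow (show stdO < 2 ^ n from lt_of_lt_of_le (by decide)
            (Nat.pow_le_pow_right (by norm_num) (show 24 ≤ n by omega))), Bool.and_false]
      rw [h0] at h
      simpa [hek] using h
    refine ⟨p, hp, maskOf c, hcm, ?_⟩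
    refine ext_smul fun v => ?_
    obtain ⟨τ, hτ, hrτ, hs⟩ := pm_spec (perm_facts.2.2.1 p hp).1
    rw [hg, monoElt_apply, mul_smul, fl_apply (perm_facts.2.2.2.1 _ hcm).1, hs, hr.unique hrτ, setOfMask_maskOf]
    rfl

abbrev QIx : Type := {p : ℕ // p ∈ octFixList} × {c : ℕ // c ∈ flipMasks}

/-- The element of a pair. -/
noncomputable def qel (x : QIx) : ↥CU := ⟨fl x.2.1 * pm x.1.1, (pm_fix_pair x.1.2 x.2.2).1⟩

theorem qel_ker (x : QIx) : rho (qel x) = 1 := by
  refine Subtype.ext (mat_ext fun m => ?_)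
  show nmat (qel x).1 *ᵥ _ = (1 : Matrix (Fin 3 ⊕ Fin 3) (Fin 3 ⊕ Fin 3) (ZMod 2)) *ᵥ _
  rw [Matrix.one_mulVec, show pv (rk m) = (rt m : Vec) from rfl, ← nmat_spec (qel x).2 ⟨m, Or.inl rfl⟩]
  show phi (((fl x.2.1 * pm x.1.1) • rt m : ↥leechLattice) : Vec) = _
  rw [(pm_fix_pair x.1.2 x.2.2).2 m]

theorem fl_pm_mul {p q c d : ℕ} (hp : p ∈ octFixList) (hq : q ∈ octFixList) (hc : c ∈ flipMasks)
    (hd : d ∈ flipMasks) : fl c * pm p * (fl d * pm q) = fl (c ^^^ mimg p d) * pm (pmul p q) := by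
  obtain ⟨h1, -, h3, h4, -, -⟩ := perm_facts.2.2.1 p hp
  have hc1 := (perm_facts.2.2.2.1 c hc).1
  have hd1 := (perm_facts.2.2.2.1 d hd).1
  have hpd := (perm_facts.2.2.2.1 _ (h4 d hd).1).1
  calc fl c * pm p * (fl d * pm q) = fl c * (pm p * fl d) * pm q := by simp only [mul_assoc]
    _ = fl c * fl (mimg p d) * (pm p * pm q) := by rw [pm_fl h1 hd1 hpd]; simp only [mul_assoc]
    _ = _ := by
      rw [fl_mul hc1 hpd, pm_mul h1 (perm_facts.2.2.1 q hq).1 (perm_facts.2.2.1 _ (h3 q hq).1).1]

theorem qel_injective : Function.Injective qel := by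
  rintro ⟨⟨p, hp⟩, ⟨c, hc⟩⟩ ⟨⟨q, hq⟩, ⟨d, hd⟩⟩ e
  have e' : fl c * pm p = fl d * pm q := congrArg Subtype.val e
  obtain ⟨σ, hσ, hr, hs⟩ := pm_spec (perm_facts.2.2.1 p hp).1
  obtain ⟨τ, hτ, hr', hs'⟩ := pm_spec (perm_facts.2.2.1 q hq).1
  have hc1 := (perm_facts.2.2.2.1 c hc).1
  have hd1 := (perm_facts.2.2.2.1 d hd).1
  have key : ∀ i, σ i = τ i ∧ c.testBit (ix (σ i)) = d.testBit (ix (σ i)) := by
    intro i
    have h := congrArg (fun g : ↥Co0 => ((g • (⟨eightVec i, eightVec_mem i⟩ : ↥leechLattice) : ↥leechLattice) : Vec)) e'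
    simp only [mul_smul, fl_apply hc1, fl_apply hd1, hs, hs'] at h
    change signedPerm σ (setOfMask c) (eightVec i) = signedPerm τ (setOfMask d) (eightVec i) at h
    rw [signedPerm_eight, signedPerm_eight] at h
    simp only [mem_setOfMask] at h
    cases ha : c.testBit (ix (σ i)) <;> cases hb : d.testBit (ix (τ i)) <;> simp [ha, hb] at h
    · have := eightVec_inj h; exact ⟨this, by rw [this, hb]⟩
    · exact absurd h (eightVec_ne_neg _ _)
    · exact absurd h.symm (eightVec_ne_neg _ _)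
    · have := eightVec_inj h; exact ⟨this, by rw [this, hb]⟩
  have hst : σ = τ := Equiv.ext fun i => (key i).1
  have hpone : ∀ r ∈ octFixList, pmul r pone = r := by decide +kernel
  have hpq : p = q := by
    have h1 := pmul_packImage hr Rep.one
    have h2 := pmul_packImage hr' Rep.one
    rw [hpone p hp] at h1
    rw [hpone q hq, ← hst] at h2
    exact h1.trans h2.symm
  have hcd : c = d := mask_ext (inCode_lt hc1) (inCode_lt hd1) fun x => by
    have := (key (σ.symm x)).2
    rwa [Equiv.apply_symm_apply] at this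
  subst hpq; subst hcd; rfl

theorem range_qel : Set.range qel = {g : ↥CU | rho g = 1} := by
  ext g
  constructor
  · rintro ⟨x, rfl⟩; exact qel_ker x
  · intro h
    obtain ⟨p, hp, c, hc, e⟩ := ker_elt h
    exact ⟨(⟨p, hp⟩, ⟨c, hc⟩), Subtype.ext e.symm⟩

theorem card_ker : Nat.card rho.ker = 2 ^ 9 := by
  have h : Nat.card rho.ker = Nat.card QIx := by
    refine (Nat.card_eq_of_bijective (fun x => (⟨qel x, qel_ker x⟩ : rho.ker)) ⟨fun a b e =>
      qel_injective (congrArg Subtype.val e), fun g => ?_⟩).symm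
    obtain ⟨x, hx⟩ := (range_qel ▸ g.2 : (g : ↥CU) ∈ Set.range qel)
    exact ⟨x, Subtype.ext hx⟩
  rw [h, Nat.card_prod]
  have hl : ∀ l : List ℕ, l.Nodup → Nat.card {x // x ∈ l} = l.length := fun l hl => by
    rw [Nat.card_eq_fintype_card, Fintype.card_of_subtype l.toFinset (fun x => List.mem_toFinset),
      List.toFinset_card_of_nodup hl]
  obtain ⟨h16, h32, -, -, -, -, -, hn1, hn2, -⟩ := perm_facts
  rw [hl _ hn1, hl _ hn2, h16, h32]
  norm_num

theorem isExtraspecial_ker : IsExtraspecial 2 rho.ker := by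
  haveI : Fact (Nat.Prime 2) := ⟨Nat.prime_two⟩
  obtain ⟨-, -, hP, hF, hone, h0, hoc, -⟩ := perm_facts
  haveI : Finite rho.ker := Nat.finite_of_card_ne_zero (by rw [card_ker]; norm_num)
  have hel : ∀ x : rho.ker, ∃ p ∈ octFixList, ∃ c ∈ flipMasks, ((x : ↥CU) : ↥Co0) = fl c * pm p :=
    fun x => ker_elt x.2
  let z : rho.ker := ⟨qel (⟨pone, hone⟩, ⟨ocMask, hoc⟩), qel_ker _⟩
  have hzv : ((z : ↥CU) : ↥Co0) = fl ocMask := by
    show fl ocMask * pm pone = _
    rw [pm_one, mul_one]
  have hzc : z ∈ Subgroup.center rho.ker := by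
    rw [Subgroup.mem_center_iff]
    intro x
    refine Subtype.ext (Subtype.ext ?_)
    show ((x : ↥CU) : ↥Co0) * ((z : ↥CU) : ↥Co0) = ((z : ↥CU) : ↥Co0) * ((x : ↥CU) : ↥Co0)
    rw [hzv]
    exact mem_CT.1 (mem_CU.1 (x : ↥CU).2).1
  have hcase : ∀ (x : rho.ker) (c : ℕ), (c = 0 ∨ c = ocMask) → ((x : ↥CU) : ↥Co0) = fl c → x = 1 ∨ x = z := by
    rintro x c (rfl | rfl) e
    · left; refine Subtype.ext (Subtype.ext ?_); rw [e, fl_zero]; rfl
    · right; refine Subtype.ext (Subtype.ext ?_); rw [e, hzv]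
  have hmem : ∀ x : rho.ker, (x = 1 ∨ x = z) → x ∈ Subgroup.center rho.ker := by
    rintro x (rfl | rfl)
    exacts [one_mem _, hzc]
  have hcenter : ∀ x ∈ Subgroup.center rho.ker, x = 1 ∨ x = z := by
    intro x hx
    obtain ⟨p, hp, c, hc, e⟩ := hel x
    have hcomm : ∀ q ∈ octFixList, ∀ d ∈ flipMasks, c ^^^ mimg p d = d ^^^ mimg q c := by
      intro q hq d hd
      have h := congrArg (fun y : rho.ker => ((y : ↥CU) : ↥Co0))
        (Subgroup.mem_center_iff.1 hx ⟨qel (⟨q, hq⟩, ⟨d, hd⟩), qel_ker _⟩)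
      simp only [Subgroup.coe_mul, e] at h
      change fl d * pm q * (fl c * pm p) = fl c * pm p * (fl d * pm q) at h
      rw [fl_pm_mul hq hp hd hc, fl_pm_mul hp hq hc hd] at h
      obtain ⟨-, -, hpp, hpc, -, -⟩ := hP p hp
      obtain ⟨-, -, hqq, hqc, -, -⟩ := hP q hq
      have h1 : (⟨⟨pmul q p, (hqq p hp).1⟩, ⟨d ^^^ mimg q c, (hF d hd).2.2.1 _ (hqc c hc).1⟩⟩ : QIx) =
          (⟨⟨pmul p q, (hpp q hq).1⟩, ⟨c ^^^ mimg p d, (hF c hc).2.2.1 _ (hpc d hd).1⟩⟩ : QIx) :=
        qel_injective (Subtype.ext h)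
      exact (congrArg (fun y : QIx => y.2.1) h1).symm
    have hmone : ∀ d ∈ flipMasks, mimg pone d = d := by decide +kernel
    have hp1 : p = pone := by
      rcases (hP p hp).2.2.2.2.2 with h | ⟨d, hd, hne⟩
      · exact h
      · refine absurd ?_ hne
        have := hcomm pone hone d hd
        rw [hmone c hc, Nat.xor_comm d c] at this
        exact Nat.xor_right_injective this
    subst hp1
    rcases (hF c hc).2.2.2 with h | h | ⟨q, hq, hne⟩
    · exact hcase x c (Or.inl h) (by rw [e, pm_one, mul_one])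
    · exact hcase x c (Or.inr h) (by rw [e, pm_one, mul_one])
    · refine absurd ?_ hne
      have := hcomm q hq 0 h0
      rw [mimg_zero, Nat.xor_zero, Nat.zero_xor] at this
      exact this.symm
  have hsq : ∀ x : rho.ker, x ^ 2 ∈ Subgroup.center rho.ker := by
    intro x
    obtain ⟨p, hp, c, hc, e⟩ := hel x
    have hp2 : ∀ r ∈ octFixList, pmul r r = pone := by decide +kernel
    refine hmem _ (hcase _ (c ^^^ mimg p c) ?_ ?_)
    · rw [Nat.xor_comm]; exact ((hP p hp).2.2.2.1 c hc).2
    · rw [pow_two, Subgroup.coe_mul, Subgroup.coe_mul, e, fl_pm_mul hp hp hc hc, hp2 p hp, pm_one, mul_one]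
  have hcom : commutator rho.ker ≤ Subgroup.center rho.ker := by
    haveI : (Subgroup.center rho.ker).Normal := inferInstance
    rw [← Subgroup.Normal.quotient_commutative_iff_commutator_le]
    refine ⟨⟨fun a b => ?_⟩⟩
    obtain ⟨x, rfl⟩ := QuotientGroup.mk_surjective a
    obtain ⟨y, rfl⟩ := QuotientGroup.mk_surjective b
    have hq : ∀ w : rho.ker, (QuotientGroup.mk w : rho.ker ⧸ Subgroup.center rho.ker) ^ 2 = 1 := fun w =>
      (QuotientGroup.mk_pow _ w 2).symm.trans ((QuotientGroup.eq_one_iff _).2 (hsq w))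
    have hinv : ∀ w : rho.ker, (QuotientGroup.mk w : rho.ker ⧸ Subgroup.center rho.ker)⁻¹ = QuotientGroup.mk w :=
      fun w => inv_eq_of_mul_eq_one_right (by rw [← pow_two]; exact hq w)
    have := hinv (x * y)
    rw [QuotientGroup.mk_mul, _root_.mul_inv_rev, hinv, hinv] at this
    exact this.symm
  have hzne : z ≠ 1 := fun h => by
    have h1 : qel (⟨pone, hone⟩, ⟨ocMask, hoc⟩) = qel (⟨pone, hone⟩, ⟨0, h0⟩) := by
      refine Subtype.ext ?_
      show fl ocMask * pm pone = fl 0 * pm pone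
      rw [pm_one, mul_one, mul_one, ← hzv, h, fl_zero]
      rfl
    have := congrArg (fun y : QIx => y.2.1) (qel_injective h1)
    exact absurd this (by decide +kernel : ¬ ocMask = 0)
  have hZ : Nat.card (Subgroup.center rho.ker) = 2 := by
    refine (Nat.card_eq_two_iff' (1 : Subgroup.center rho.ker)).2 ⟨⟨z, hzc⟩, fun h => hzne (congrArg Subtype.val h), ?_⟩
    rintro ⟨y, hy⟩ hy1
    rcases hcenter y hy with rfl | rfl
    · exact absurd rfl hy1
    · rfl
  refine CfsgLib.PGroups.isExtraspecial_of (IsPGroup.of_card card_ker) ?_ hZ hcom hsq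
  intro hab
  have htop : Subgroup.center rho.ker = ⊤ := Subgroup.center_eq_top_iff.2 hab
  rw [htop, Subgroup.card_top, card_ker] at hZ
  norm_num at hZ

theorem pCore_eq_ker : pCore 2 ↥CU = rho.ker := by
  haveI : Fact (Nat.Prime 2) := ⟨Nat.prime_two⟩
  refine le_antisymm ?_ (Core.le_pCore (IsPGroup.of_card card_ker))
  intro x hx
  have h1 : rho x ∈ pCore 2 Grp := Core.map_pCore_le rho rho_surjective ⟨x, hx, rfl⟩
  have hsimple : IsSimpleGroup Grp := by
    have hs := CfsgLib.Classical.Symp.isSimpleGroup_psp (m := 3) (F := ZMod 2) (by norm_num) (Or.inr (Or.inl le_rfl))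
    have hc : Subgroup.center Grp = ⊥ := by
      rw [← Subgroup.card_eq_one, CfsgLib.Classical.Symp.card_center_symplecticGroup (by norm_num), ZMod.card]
      rfl
    exact ((QuotientGroup.quotientMulEquivOfEq hc).trans QuotientGroup.quotientBot).symm.isSimpleGroup
  rcases (Core.normal_pCore 2 Grp).eq_bot_or_eq_top with h | h
  · rw [h, Subgroup.mem_bot] at h1; exact h1
  · exfalso
    obtain ⟨n, hn⟩ := IsPGroup.iff_card.1 (Core.isPGroup_pCore 2 Grp)
    rw [h, Subgroup.card_top, CfsgLib.Schur.Cox.SpSix.card_grp] at hn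
    have h3 : 3 ∣ 2 ^ n := hn ▸ (by norm_num : 3 ∣ 1451520)
    exact absurd (Nat.prime_three.dvd_of_dvd_pow h3) (by norm_num)

theorem involution_spec : tElt ≠ 1 ∧ tElt * tElt = 1 ∧ tElt • pairElt = pairElt := by
  refine ⟨fun h => ?_, ?_, ?_⟩
  · have := tElt_apply ⟨eightVec (some 4), eightVec_mem _⟩ (some 4)
    rw [h, one_smul] at this
    revert this
    simp only [eightVec, if_true]
    rw [show stdO.testBit (ix (some 4 : GolayPt)) = false by decide +kernel]
    norm_num
  · rw [tElt, fl_mul ocMask_code ocMask_code, Nat.xor_self, fl_zero]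
  · refine Subtype.ext (funext fun i => ?_)
    rw [tElt_apply]
    cases h : stdO.testBit (ix i)
    · have : Supp (pv kPair) := by unfold Supp; decide +kernel
      show -(pv kPair i) = pv kPair i
      rw [this i h]; rfl
    · rfl

theorem co2_centralizer : ∃ t : ↥Cfsg.Spor.Co2, orderOf t = 2 ∧
    IsExtraspecial 2 (pCore 2 ↥(Subgroup.centralizer ({t} : Set ↥Cfsg.Spor.Co2))) ∧
    Nat.card (pCore 2 ↥(Subgroup.centralizer ({t} : Set ↥Cfsg.Spor.Co2))) = 2 ^ 9 ∧
    Nonempty (↥(Subgroup.centralizer ({t} : Set ↥Cfsg.Spor.Co2)) ⧸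
      pCore 2 ↥(Subgroup.centralizer ({t} : Set ↥Cfsg.Spor.Co2)) ≃* Matrix.symplecticGroup (Fin 3) (ZMod 2)) := by
  obtain ⟨ht1, ht2, htu⟩ := involution_spec
  have hU : Spor.leechU = pairElt := Subtype.ext (by
    show Spor.vecU = pv kPair
    decide +kernel)
  have hmem : ∀ g : ↥Co0, g • pairElt = pairElt → (g : Equiv.Perm ↥leechLattice) ∈ Spor.Co2 := fun g hg =>
    ⟨g.2, show (g : Equiv.Perm ↥leechLattice) • Spor.leechU = Spor.leechU by rw [hU]; exact hg⟩
  let t : ↥Spor.Co2 := ⟨(tElt : Equiv.Perm ↥leechLattice), hmem _ htu⟩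
  have hto : ∀ x : ↥Spor.Co2, (⟨x.1, x.2.1⟩ : ↥Co0) • pairElt = pairElt := fun x => by
    have h : (x : Equiv.Perm ↥leechLattice) • Spor.leechU = Spor.leechU := x.2.2
    rw [hU] at h
    exact h
  let e : ↥(Subgroup.centralizer ({t} : Set ↥Spor.Co2)) ≃* ↥CU :=
    { toFun := fun x => ⟨⟨x.1.1, x.1.2.1⟩, mem_CU.2 ⟨mem_CT.2 (Subtype.ext
        (congrArg (fun y : ↥Spor.Co2 => (y : Equiv.Perm ↥leechLattice)) (Subgroup.mem_centralizer_singleton_iff.1 x.2))),
        hto x.1⟩⟩
      invFun := fun x => ⟨⟨(x.1 : Equiv.Perm ↥leechLattice), hmem _ (mem_CU.1 x.2).2⟩,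
        Subgroup.mem_centralizer_singleton_iff.2 (Subtype.ext
          (congrArg (fun y : ↥Co0 => (y : Equiv.Perm ↥leechLattice)) (mem_CT.1 (mem_CU.1 x.2).1)))⟩
      left_inv := fun x => rfl
      right_inv := fun x => rfl
      map_mul' := fun x y => rfl }
  have hcore : (pCore 2 ↥(Subgroup.centralizer ({t} : Set ↥Spor.Co2))).map e.toMonoidHom = rho.ker := by
    rw [Core.map_equiv_pCore, pCore_eq_ker]
  let ek : ↥(pCore 2 ↥(Subgroup.centralizer ({t} : Set ↥Spor.Co2))) ≃* rho.ker :=
    (Subgroup.equivMapOfInjective _ e.toMonoidHom e.injective).trans (MulEquiv.subgroupCongr hcore)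
  haveI : Finite rho.ker := Nat.finite_of_card_ne_zero (by rw [card_ker]; norm_num)
  haveI : Fact (Nat.Prime 2) := ⟨Nat.prime_two⟩
  refine ⟨t, ?_, ThreeTrans.isExtraspecial_congr isExtraspecial_ker ek.symm, ?_, ?_⟩
  · refine orderOf_eq_prime ?_ fun h => ht1 (Subtype.ext (congrArg (fun y : ↥Spor.Co2 => (y : Equiv.Perm ↥leechLattice)) h))
    exact Subtype.ext (by
      rw [pow_two]
      exact congrArg (fun y : ↥Co0 => (y : Equiv.Perm ↥leechLattice)) ht2)
  · rw [Nat.card_congr ek.toEquiv, card_ker]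
  · exact ⟨(QuotientGroup.congr _ rho.ker e hcore).trans (QuotientGroup.quotientKerEquivOfSurjective rho rho_surjective)⟩

end CfsgLib.Sporadic.Conway.TwoInv
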