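import Cfsg.Agent.Lib.Sporadic.ConwayVecs
import Cfsg.Agent.Lib.Sporadic.ConwayCensus
import Cfsg.Agent.Lib.Sporadic.ConwayTwoInvolutionData
import Cfsg.Agent.Lib.Sporadic.OctadStab
import Cfsg.Agent.Lib.ThreeTrans.LeechUPerp

/-!
# A sign change on sixteen points: monomial elements, roots, checked elements of its centraliser

The involution changes the signs outside the standard octad.  Its fixed sublattice is a scaled E8;
the roots orthogonal to `(4, 4, 0, …)` form a scaled E7.
-/

set_option autoImplicit false
set_option maxRecDepth 20000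

namespace CfsgLib.Sporadic.Conway.TwoInv

open Cfsg Finset CfsgLib.ThreeTrans.Leech CfsgLib.Sporadic.Lattice
open CfsgLib.ThreeTrans.Leech.UPerp (ap)

theorem ext_smul {g h : ↥Co0} (e : ∀ v : ↥leechLattice, ((g • v : ↥leechLattice) : Vec) = ((h • v : ↥leechLattice) : Vec)) :
    g = h :=
  Subtype.ext (Equiv.ext fun v => Subtype.ext (e v))

/-- A checked sign change. -/
noncomputable def fl (c : ℕ) : ↥Co0 :=
  haveI := Classical.propDecidable
  if h : setOfMask c ∈ supports (golayCode : Set (GolayPt → ZMod 2)) then flipElt h else 1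

theorem mem_supports_mask {c : ℕ} (hc : inCode c = true) :
    setOfMask c ∈ supports (golayCode : Set (GolayPt → ZMod 2)) := by
  rw [mem_supports_iff, maskOf_setOfMask (inCode_lt hc)]; exact hc

theorem fl_apply {c : ℕ} (hc : inCode c = true) (v : ↥leechLattice) :
    ((fl c • v : ↥leechLattice) : Vec) = flipVec (setOfMask c) v := by
  rw [fl, dif_pos (mem_supports_mask hc), flipElt_apply]

/-- A checked permutation. -/
noncomputable def pm (p : ℕ) : ↥Co0 :=
  haveI := Classical.propDecidable
  if h : ∃ g : ↥M24, Rep (g : Equiv.Perm GolayPt) p then permElt h.choose.2 else 1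

theorem pm_spec {p : ℕ} (hp : isAut p = true) :
    ∃ σ ∈ M24, Rep σ p ∧ ∀ v : ↥leechLattice, ((pm p • v : ↥leechLattice) : Vec) = permVec σ v := by
  have h : ∃ g : ↥M24, Rep (g : Equiv.Perm GolayPt) p := exists_M24_elt hp
  exact ⟨_, h.choose.2, h.choose_spec, fun v => by rw [pm, dif_pos h, permElt_apply]⟩

theorem fl_mul {a b : ℕ} (ha : inCode a = true) (hb : inCode b = true) : fl a * fl b = fl (a ^^^ b) := by
  refine ext_smul fun v => ?_
  rw [mul_smul, fl_apply ha, fl_apply hb, fl_apply (inCode_xor ha hb)]
  funext i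
  simp only [flipVec, mem_setOfMask, Nat.testBit_xor]
  cases a.testBit (ix i) <;> cases b.testBit (ix i) <;> simp

theorem fl_zero : fl 0 = 1 := by
  refine ext_smul fun v => ?_
  rw [fl_apply (by decide +kernel), one_smul]
  funext i
  simp [flipVec]

theorem pm_fl {p c : ℕ} (hp : isAut p = true) (hc : inCode c = true) (hpc : inCode (mimg p c) = true) :
    pm p * fl c = fl (mimg p c) * pm p := by
  obtain ⟨σ, -, hr, hs⟩ := pm_spec hp
  refine ext_smul fun v => ?_
  rw [mul_smul, mul_smul, hs, fl_apply hc, fl_apply hpc, hs, setOfMask_mimg hr]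
  funext i
  simp only [flipVec, permVec, Finset.mem_image]
  have : (∃ a ∈ setOfMask c, σ a = i) ↔ σ.symm i ∈ setOfMask c :=
    ⟨fun ⟨a, ha, e⟩ => by rw [← e, Equiv.symm_apply_apply]; exact ha,
      fun h => ⟨_, h, σ.apply_symm_apply i⟩⟩
  simp only [this]

theorem pm_mul {p q : ℕ} (hp : isAut p = true) (hq : isAut q = true) (hpq : isAut (pmul p q) = true) :
    pm p * pm q = pm (pmul p q) := by
  obtain ⟨σ, -, hr, hs⟩ := pm_spec hp
  obtain ⟨τ, -, hr', hs'⟩ := pm_spec hq
  obtain ⟨π, -, hr'', hs''⟩ := pm_spec hpq
  refine ext_smul fun v => ?_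
  rw [mul_smul, hs, hs', hs'', hr''.unique (hr.mul hr')]
  rfl

theorem pm_one : pm pone = 1 := by
  obtain ⟨σ, -, hr, hs⟩ := pm_spec (p := pone) (by decide +kernel)
  refine ext_smul fun v => ?_
  rw [hs, hr.unique Rep.one, one_smul]
  rfl

/-- The complement of the octad. -/
def ocMask : ℕ := 16777215 ^^^ stdO

theorem ocMask_code : inCode ocMask = true := by decide +kernel

theorem mem_ocMask : ∀ i : GolayPt, ocMask.testBit (ix i) = !stdO.testBit (ix i) := by decide +kernel

/-- The involution. -/
noncomputable def tElt : ↥Co0 := fl ocMask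

theorem tElt_apply (v : ↥leechLattice) (i : GolayPt) :
    ((tElt • v : ↥leechLattice) : Vec) i = if stdO.testBit (ix i) then (v : Vec) i else -(v : Vec) i := by
  rw [tElt, fl_apply ocMask_code]
  simp only [flipVec, mem_setOfMask, mem_ocMask]
  cases stdO.testBit (ix i) <;> simp

/-- The centraliser of the involution in the whole group. -/
noncomputable def CT : Subgroup ↥Co0 := Subgroup.centralizer {tElt}

theorem mem_CT {g : ↥Co0} : g ∈ CT ↔ g * tElt = tElt * g := Subgroup.mem_centralizer_singleton_iff

theorem fl_mem_CT {c : ℕ} (hc : inCode c = true) : fl c ∈ CT := by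
  rw [mem_CT, tElt, fl_mul hc ocMask_code, fl_mul ocMask_code hc, Nat.xor_comm]

theorem pm_mem_CT {p : ℕ} (hp : isAut p = true) (ho : mimg p ocMask = ocMask) : pm p ∈ CT := by
  rw [mem_CT, tElt, pm_fl hp ocMask_code (by rw [ho]; exact ocMask_code), ho]

theorem tet_octad : ∀ i : GolayPt, ∀ j ∈ tet i, stdO.testBit (ix j) = stdO.testBit (ix i) := by
  decide +kernel

theorem xi_mem_CT : xiElt ∈ CT := by
  rw [mem_CT]
  refine ext_smul fun v => ?_
  rw [mul_smul, mul_smul, xiElt_apply]
  funext i
  rw [tElt_apply, xiElt_apply]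
  simp only [xi]
  cases h : stdO.testBit (ix i)
  · have hneg : ∀ j ∈ tet i, ((tElt • v : ↥leechLattice) : Vec) j = -(v : Vec) j := fun j hj => by
      rw [tElt_apply, tet_octad i j hj, h]; rfl
    rw [Finset.sum_congr rfl hneg, Finset.sum_neg_distrib, tElt_apply, h]
    obtain ⟨t, ht⟩ := tet_sum_even (mem_iff.1 v.2) i
    rw [ht, show -(2 * t) = 2 * -t by ring, Int.mul_ediv_cancel_left _ (by norm_num),
      Int.mul_ediv_cancel_left _ (by norm_num)]
    simp only [Bool.false_eq_true, if_false]
    ring
  · have hpos : ∀ j ∈ tet i, ((tElt • v : ↥leechLattice) : Vec) j = (v : Vec) j := fun j hj => by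
      rw [tElt_apply, tet_octad i j hj, h]; rfl
    rw [Finset.sum_congr rfl hpos, tElt_apply, h]
    rfl

/-- A step inside the centraliser. -/
noncomputable def stepIn (s : ℕ × ℕ) : Bool :=
  stepValid s && (match s.1 with | 1 => Nat.beq (mimg s.2 ocMask) ocMask | _ => true)

/-- A valid word is one fixed element of the centraliser. -/
theorem packEltIn : ∀ w : List (ℕ × ℕ), w.all stepIn = true → ∃ g ∈ CT,
    ∀ a b, evalWord w a = some b → ∀ v : ↥leechLattice, (v : Vec) = pv a →
      ((g • v : ↥leechLattice) : Vec) = pv b := by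
  intro w
  induction w with
  | nil =>
    intro _
    refine ⟨1, one_mem _, fun a b h v hv => ?_⟩
    rw [show evalWord [] a = some a from rfl, Option.some.injEq] at h
    rw [one_smul, hv, h]
  | cons s rest ih =>
    intro hw
    rw [List.all_cons, Bool.and_eq_true] at hw
    obtain ⟨g2, m2, e2⟩ := ih hw.2
    obtain ⟨k, p⟩ := s
    obtain ⟨g1, m1, e1⟩ : ∃ g ∈ CT, ∀ a b, packOK k p a b = true → ∀ v : ↥leechLattice, (v : Vec) = pv a →
        ((g • v : ↥leechLattice) : Vec) = pv b := by
      have h1 := hw.1
      simp only [stepIn, Bool.and_eq_true] at h1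
      rcases k with - | - | k
      · exact ⟨xiElt, xi_mem_CT, fun a b h v hv => by rw [xiElt_apply, hv]; exact pack_xi h⟩
      · have hp : isAut p = true := h1.1
        obtain ⟨σ, hσ, hr, hs⟩ := pm_spec hp
        refine ⟨pm p, pm_mem_CT hp (Nat.eq_of_beq_eq_true h1.2), fun a b h v hv => ?_⟩
        rw [hs, hv]
        exact pack_perm (g := ⟨σ, hσ⟩) hr h
      · have hp : inCode p = true := h1.1
        exact ⟨fl p, fl_mem_CT hp, fun a b h v hv => by rw [fl_apply hp, hv]; exact pack_flip h⟩
    refine ⟨g2 * g1, mul_mem m2 m1, fun a b h v hv => ?_⟩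
    rw [show evalWord ((k, p) :: rest) a =
      cond (packOK k p a (packImage k p a)) (evalWord rest (packImage k p a)) none from rfl] at h
    cases hc : packOK k p a (packImage k p a) <;> rw [hc] at h
    · exact absurd h (by simp)
    · rw [mul_smul]; exact e2 _ b h _ (e1 a _ hc v hv)

/-- Supported in the octad. -/
def Supp (x : Vec) : Prop := ∀ i, stdO.testBit (ix i) = false → x i = 0

theorem supp_smul {g : ↥Co0} (hg : g ∈ CT) {v : ↥leechLattice} (hv : Supp (v : Vec)) :
    Supp ((g • v : ↥leechLattice) : Vec) := by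
  have hfix : tElt • v = v := Subtype.ext <| funext fun i => by
    rw [tElt_apply]
    cases h : stdO.testBit (ix i)
    · rw [hv i h]; rfl
    · rfl
  intro i hi
  have := tElt_apply (g • v) i
  rw [← mul_smul, ← mem_CT.1 hg, mul_smul, hfix, hi] at this
  simp only [Bool.false_eq_true, if_false] at this
  omega

/-- The packed root of a nonzero code. -/
noncomputable def rk (m : Fin 63) : ℕ := rootKeys.getD m.val 0

theorem rk_test : ∀ m : Fin 63, LTest (pv (rk m)) := by decide +kernel

/-- A root. -/
noncomputable def rt (m : Fin 63) : ↥leechLattice := ⟨pv (rk m), pv_mem (rk_test m)⟩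

theorem rt_supp : ∀ m : Fin 63, ∀ i : GolayPt, stdO.testBit (ix i) = false → pv (rk m) i = 0 := by
  decide +kernel

theorem rt_norm : ∀ m : Fin 63, sqNorm (pv (rk m)) = 32 ∧ dotInt (pv kPair) (pv (rk m)) = 0 := by
  unfold sqNorm dotInt
  decide +kernel

/-- The octad, point by point. -/
def oPts : List ℕ := [0, 1, 2, 3, 5, 14, 17, 23]

theorem mem_oPts : ∀ i : GolayPt, stdO.testBit (ix i) = true → ix i ∈ oPts := by decide +kernel

/-- A candidate coordinate list is plus or minus a root. -/
noncomputable def isRootList (l : List ℤ) : Bool :=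
  (List.range 63).any fun m =>
    decide (l = oPts.map fun i => ((nib (rootKeys.getD m 0) i : ℤ) - 8)) ||
      decide (l = oPts.map fun i => -((nib (rootKeys.getD m 0) i : ℤ) - 8))

/-- The candidates pass. -/
noncomputable def candOK (vals : List ℤ) : Bool :=
  ((List.replicate 8 vals).sections).all fun l =>
    !(decide ((l.map fun a => a * a).sum = 32) && decide (l.sum % 8 = 0) && decide (l.getD 0 0 + l.getD 7 0 = 0)) ||
      isRootList l

theorem candOK_odd : candOK [-2, 2] = true := by decide +kernel

theorem candOK_even : candOK [-4, 0, 4] = true := by decide +kernel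

theorem sum_supp {f : GolayPt → ℤ} (hf : ∀ i, stdO.testBit (ix i) = false → f i = 0) :
    ∑ i, f i = (oPts.map fun j => f (pt j)).sum := by
  have e : (Finset.univ : Finset GolayPt) = Finset.univ.filter (fun i => stdO.testBit (ix i) = true) ∪
      Finset.univ.filter (fun i => stdO.testBit (ix i) = false) := by
    ext i; cases h : stdO.testBit (ix i) <;> simp [h]
  rw [e, Finset.sum_union (Finset.disjoint_left.2 fun i h1 h2 => by
      rw [Finset.mem_filter] at h1 h2; rw [h1.2] at h2; simp at h2),
    Finset.sum_eq_zero (s := Finset.univ.filter (fun i => stdO.testBit (ix i) = false))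
      (fun i hi => hf i (Finset.mem_filter.1 hi).2), add_zero]
  rw [show (Finset.univ.filter fun i : GolayPt => stdO.testBit (ix i) = true) = (oPts.map pt).toFinset by decide +kernel,
    List.sum_toFinset _ (by decide +kernel), List.map_map]
  rfl

/-- Vectors of length 32 supported in the octad and orthogonal to `(4, 4, 0, …)` are the roots. -/
theorem root_complete {x : Vec} (hx : x ∈ leechLattice) (hn : sqNorm x = 32) (hs : Supp x)
    (hu : dotInt (pv kPair) x = 0) : ∃ m, x = pv (rk m) ∨ x = -pv (rk m) := by
  obtain ⟨m0, d, hd, hred, hsum⟩ := mem_iff.1 hx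
  set l := oPts.map fun j => x (pt j) with hl
  have hnorm : (l.map fun a => a * a).sum = 32 := by
    rw [hl, List.map_map]
    rw [← hn, sqNorm, sum_supp fun i hi => by rw [hs i hi]; rfl]
    simp only [pow_two]
    rfl
  obtain ⟨r, hr⟩ : ∃ r, x (pt 4) = r ∧ r = 0 := ⟨0, hs _ (by decide +kernel), rfl⟩
  have hm : m0 % 2 = 0 := by have := hd (pt 4); rw [hr.1, hr.2] at this; omega
  have hs8 : l.sum % 8 = 0 := by
    rw [hl, ← sum_supp hs]
    have : (∑ i, x i) % 8 = (4 * m0) % 8 := hsum
    omega
  have h07 : l.getD 0 0 + l.getD 7 0 = 0 := by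
    show x (pt 0) + x (pt 23) = 0
    rw [dotInt, sum_supp fun i hi => by rw [hs i hi, mul_zero]] at hu
    simp only [oPts, List.map_cons, List.map_nil, List.sum_cons, List.sum_nil] at hu
    have e : ∀ j : Fin 24, pv kPair (pt j.val) = if j.val = 0 ∨ j.val = 23 then 4 else 0 := by decide +kernel
    rw [e ⟨0, by norm_num⟩, e ⟨1, by norm_num⟩, e ⟨2, by norm_num⟩, e ⟨3, by norm_num⟩, e ⟨5, by norm_num⟩,
      e ⟨14, by norm_num⟩, e ⟨17, by norm_num⟩, e ⟨23, by norm_num⟩] at hu
    norm_num at hu
    linarith
  have hle : ∀ i, x i * x i ≤ 32 := fun i => by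
    rw [← hn, sqNorm, ← pow_two]
    exact Finset.single_le_sum (f := fun i => x i ^ 2) (fun j _ => sq_nonneg _) (Finset.mem_univ i)
  have hb : ∀ i, -5 ≤ x i ∧ x i ≤ 5 := fun i => by
    constructor <;> nlinarith [hle i]
  have hvals : (∀ j ∈ oPts, x (pt j) ∈ ([-2, 2] : List ℤ)) ∨ (∀ j ∈ oPts, x (pt j) ∈ ([-4, 0, 4] : List ℤ)) := by
    obtain ⟨k, hk, hek⟩ := inCode_iff.1 (mem_golayCode.1 hred)
    have hoff : ∀ i, stdO.testBit (ix i) = false → (enc k).testBit (ix i) = decide ((m0 / 2) % 2 = 1) := by
      intro i hi
      rw [hek, testBit_maskOf]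
      refine decide_eq_decide.2 ?_
      rw [support₂, Finset.mem_filter]
      simp only [Finset.mem_univ, true_and]
      rw [show red d i = ((d i : ℤ) : ZMod 2) from rfl, cast_ne_zero_iff]
      have := hd i
      rw [hs i hi] at this
      omega
    have hin : ∀ i, (enc k).testBit (ix i) = decide (d i % 2 = 1) := by
      intro i
      rw [hek, testBit_maskOf]
      refine decide_eq_decide.2 ?_
      rw [support₂, Finset.mem_filter]
      simp only [Finset.mem_univ, true_and]
      exact cast_ne_zero_iff _
    have key : forallLt 4096 (fun k => !(decide ((List.range 24).all fun i => stdO.testBit i || (enc k).testBit i == (enc k).testBit 4)) ||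
        ((oPts.all fun i => (enc k).testBit i == (enc k).testBit 0))) = true := by decide +kernel
    have h := forallLt_elim key hk
    have hsame : ((List.range 24).all fun i => stdO.testBit i || (enc k).testBit i == (enc k).testBit 4) = true := by
      rw [List.all_eq_true]
      intro i hi
      rw [List.mem_range] at hi
      cases hb : stdO.testBit i
      · have e1 := hoff (pt i) (by rw [ix_pt hi]; exact hb)
        have e2 := hoff (pt 4) (by decide +kernel)
        rw [ix_pt hi] at e1
        rw [ix_pt (by norm_num)] at e2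
        simp [e1, e2]
      · rfl
    simp only [hsame, decide_true, Bool.not_true, Bool.false_or, List.all_eq_true, beq_iff_eq] at h
    by_cases h0 : x (pt 0) % 4 = 0
    · right
      intro j hj
      have h1 := h j hj
      have e1 := hin (pt j)
      have e2 := hin (pt 0)
      have hj24 : j < 24 := by
        simp only [oPts, List.mem_cons, List.not_mem_nil, or_false] at hj; omega
      rw [ix_pt hj24] at e1
      rw [ix_pt (by norm_num)] at e2
      rw [e1, e2] at h1
      have := decide_eq_decide.1 h1
      have := hd (pt j); have := hd (pt 0); have := hb (pt j)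
      simp only [List.mem_cons, List.not_mem_nil, or_false]
      omega
    · left
      intro j hj
      have h1 := h j hj
      have e1 := hin (pt j)
      have e2 := hin (pt 0)
      have hj24 : j < 24 := by
        simp only [oPts, List.mem_cons, List.not_mem_nil, or_false] at hj; omega
      rw [ix_pt hj24] at e1
      rw [ix_pt (by norm_num)] at e2
      rw [e1, e2] at h1
      have := decide_eq_decide.1 h1
      have := hd (pt j); have := hd (pt 0); have := hb (pt j)
      simp only [List.mem_cons, List.not_mem_nil, or_false]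
      omega
  have hroot : isRootList l = true := by
    have hmem : ∀ vals : List ℤ, (∀ j ∈ oPts, x (pt j) ∈ vals) → candOK vals = true → isRootList l = true := by
      intro vals hv hok
      have hsec : l ∈ (List.replicate 8 vals).sections := by
        rw [List.mem_sections, hl, show List.replicate 8 vals = oPts.map fun _ => vals from rfl,
          List.forall₂_map_left_iff, List.forall₂_map_right_iff, List.forall₂_same]
        exact hv
      have := List.all_eq_true.1 hok l hsec
      simp only [hnorm, hs8, h07, decide_true, Bool.and_self, Bool.not_true, Bool.false_or] at this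
      exact this
    rcases hvals with h | h
    · exact hmem _ h candOK_odd
    · exact hmem _ h candOK_even
  simp only [isRootList, List.any_eq_true, List.mem_range, Bool.or_eq_true, decide_eq_true_eq] at hroot
  obtain ⟨m, hm63, hm'⟩ := hroot
  refine ⟨⟨m, hm63⟩, ?_⟩
  have hext : ∀ y : Vec, (∀ i, stdO.testBit (ix i) = false → y i = 0) →
      l = oPts.map (fun j => y (pt j)) → x = y := by
    intro y hy he
    funext i
    cases h : stdO.testBit (ix i)
    · rw [hs i h, hy i h]
    · have := (List.map_inj_left.1 he) (ix i) (mem_oPts i h)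
      rwa [pt_ix] at this
  have hv : ∀ j ∈ oPts, pv (rk ⟨m, hm63⟩) (pt j) = (nib (rootKeys.getD m 0) j : ℤ) - 8 := by
    intro j hj
    have hj24 : j < 24 := by
      simp only [oPts, List.mem_cons, List.not_mem_nil, or_false] at hj; omega
    show (nib _ (ix (pt j)) : ℤ) - 8 = _
    rw [ix_pt hj24]; rfl
  rcases hm' with e | e
  · exact Or.inl (hext _ (rt_supp _) (e.trans (List.map_congr_left fun j hj => (hv j hj).symm)))
  · refine Or.inr (hext _ (fun i hi => by rw [Pi.neg_apply, rt_supp _ i hi, neg_zero]) (e.trans (List.map_congr_left fun j hj => ?_)))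
    rw [Pi.neg_apply, hv j hj]

end CfsgLib.Sporadic.Conway.TwoInv
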