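import Cfsg.Agent.Lib.Sporadic.ConwayPack
import Cfsg.Agent.Lib.Sporadic.ConwayFourth

/-!
# Standard vectors and their shells inside the lattice
-/

set_option autoImplicit false

namespace CfsgLib.Sporadic.Conway

open Cfsg Finset CfsgLib.ThreeTrans.Leech CfsgLib.Sporadic.Lattice

/-- The packed standard minimal vector. -/
def kPair : ℕ := 62062060636173731114942761100
/-- The packed standard vector of squared length 48. -/
def kFive : ℕ := 67343938137124686954512357785
/-- The packed second vector of squared length 48. -/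
def kHs : ℕ := 36973142506656690876987176819
/-- Minus the sum of the two of them, packed. -/
def kFar : ℕ := 22447979379041562318170785932

theorem kPair_eq : pv kPair = vecOf rv_pair := by decide +kernel
theorem kFive_eq : pv kFive = vecOf rv_five := by decide +kernel
theorem kFar_eq : pv kFar = -(pv kFive + pv kHs) := by decide +kernel

theorem pv_mem {V : ℕ} (h : LTest (pv V)) : pv V ∈ leechLattice := mem_iff.2 (isL_of_test h)

/-- Minimal vectors with given inner products with listed vectors. -/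
def dotSet (f : List (Vec × ℤ)) : Set ↥leechLattice :=
  {x | sqNorm (x : Vec) = 32 ∧ ∀ p ∈ f, dotInt p.1 (x : Vec) = p.2}

theorem shell_dot_finite (v : Vec) (k : ℤ) :
    {x : ↥leechLattice | sqNorm (x : Vec) = 32 ∧ dotInt v (x : Vec) = k}.Finite := by
  refine Set.Finite.of_finite_image (f := Subtype.val) (Set.Finite.subset (dotClass v k).finite_toSet ?_)
    Subtype.val_injective.injOn
  rintro _ ⟨x, ⟨h1, h2⟩, rfl⟩
  simp [dotClass, mem_shell, h1, h2]

theorem dot_ncard (v : Vec) (k : ℤ) :
    {x : ↥leechLattice | sqNorm (x : Vec) = 32 ∧ dotInt v (x : Vec) = k}.ncard = (dotClass v k).card := by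
  rw [← Set.ncard_coe_finset, ← Set.ncard_image_of_injective _ Subtype.val_injective]
  congr 1
  ext w
  simp only [Set.mem_image, Set.mem_ofPred_eq, dotClass, Finset.coe_filter, mem_shell]
  constructor
  · rintro ⟨x, ⟨h1, h2⟩, rfl⟩
    exact ⟨⟨x.2, h1⟩, h2⟩
  · rintro ⟨⟨h1, h2⟩, h3⟩
    exact ⟨⟨w, h1⟩, ⟨h2, h3⟩, rfl⟩

/-- The common stabiliser of listed vectors. -/
def fixGroup (f : List ↥leechLattice) : Subgroup ↥Co0 := ⨅ v ∈ f, MulAction.stabilizer ↥Co0 v

theorem mem_fixGroup {f : List ↥leechLattice} {g : ↥Co0} : g ∈ fixGroup f ↔ ∀ v ∈ f, g • v = v := by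
  simp [fixGroup, Subgroup.mem_iInf, MulAction.mem_stabilizer_iff]

theorem fix_le {fixed : List ℕ} {f : List ↥leechLattice} (h : f.map (fun v : ↥leechLattice => (v : Vec)) = fixed.map pv)
    (g : ↥Co0) (hg : ∀ c ∈ fixed, ∀ v : ↥leechLattice, (v : Vec) = pv c → g • v = v) : g ∈ fixGroup f := by
  refine mem_fixGroup.2 fun v hv => ?_
  obtain ⟨c, hc, e⟩ := List.mem_map.1 (h ▸ List.mem_map_of_mem (f := fun w : ↥leechLattice => (w : Vec)) hv)
  exact hg c hc v e.symm

theorem rel_smul {x : ↥leechLattice} {t : Vec} (h : Rel (x : Vec) t) (ht : t ∈ leechLattice) :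
    ∃ g : ↥Co0, g • x = ⟨t, ht⟩ :=
  exists_smul_of_rel (w := ⟨t, ht⟩) h (Rel.refl ht)

/-- The standard minimal vector. -/
noncomputable def pairElt : ↥leechLattice := ⟨pv kPair, pv_mem (by decide +kernel)⟩
/-- The standard vector of squared length 48. -/
noncomputable def fiveElt : ↥leechLattice := ⟨pv kFive, pv_mem (by decide +kernel)⟩
/-- The second one. -/
noncomputable def hsElt : ↥leechLattice := ⟨pv kHs, pv_mem (by decide +kernel)⟩

theorem to_pair {v : ↥leechLattice} (hv : sqNorm (v : Vec) = 32) : ∃ g : ↥Co0, g • v = pairElt :=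
  rel_smul (kPair_eq.symm ▸ orbit32 v.2 hv) _

theorem to_five {v : ↥leechLattice} (hv : sqNorm (v : Vec) = 48) : ∃ g : ↥Co0, g • v = fiveElt :=
  rel_smul (kFive_eq.symm ▸ orbit48 v.2 hv) _

theorem pairElt_norm : sqNorm (pairElt : Vec) = 32 := by
  show sqNorm (pv kPair) = 32
  decide +kernel

theorem fiveElt_norm : sqNorm (fiveElt : Vec) = 48 := by
  show sqNorm (pv kFive) = 48
  decide +kernel

end CfsgLib.Sporadic.Conway
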