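import Cfsg.Agent.Lib.Sporadic.ExtensionTable
import Cfsg.Agent.Lib.Sporadic.MultiplierPerms
import Cfsg.Agent.Lib.Core.Gaschutz

/-!
# Splitting an extension of a subgroup of M24 from a certificate

The listed equations on the values of the relators reduce every relator value, after a change of
the lifts, to a multiple of one functional; if that vanishes, the extension splits over a Sylow
2-subgroup, hence everywhere.
-/

set_option autoImplicit false

namespace CfsgLib.Sporadic.ExtSplit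

open Matrix CfsgLib.Sporadic.Mult Cfsg

/-- A conjugation of one word to another. -/
structure Conj where
  s : ℕ
  u : List ℕ
  v : List ℕ
  nv : ℕ

/-- The certificate. -/
structure Cert where
  D : Ext
  gens : List ℕ
  invs : List ℕ
  gs : List (ℕ × List ℕ)
  conjs : List Conj
  cocEqs : List (ℕ × ℕ × ℕ × ℕ)
  stabEqs : List (ℕ × ℕ × List ℕ × ℕ)
  lam : ℕ
  cbits : ℕ
  xs : List ℕ
  sel : List ℕ

namespace Cert

variable (K : Cert)

def R : ℕ := K.D.rels.length

def cj (a : ℕ) : Conj := K.conjs.getD a ⟨0, [], [], 0⟩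

def gp (s : ℕ) : ℕ := (K.gs.getD s (0, [])).1

def ga (s : ℕ) : List ℕ := (K.gs.getD s (0, [])).2

noncomputable def wperm (w : List ℕ) : ℕ := pprod (w.map fun i => K.gens.getD i pone)

def insLast : List ℕ → ℕ → List (ℕ × ℕ)
  | [], _ => []
  | [i], X => [(i, X)]
  | i :: j :: l, X => (i, 0) :: insLast (j :: l) X

def lhsWord (Y : List ℕ) : List ℕ := Y.flatMap fun a => (K.cj a).u

def rhsWord (Y : List ℕ) : List (ℕ × ℕ) := Y.flatMap fun a => insLast (K.cj a).v (K.cj a).nv

def unitOK (F base : ℕ) : Bool := (List.range 11).all fun l => Nat.beq (row F l) (2 ^ (base + l))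

def shapeOK : Bool :=
  decide (11 * (K.R + K.conjs.length) ≤ 256) && Nat.blt K.lam (2 ^ (11 * K.R)) &&
  ((List.range K.R).all fun w => unitOK (K.D.rv.getD w 0) (11 * w)) &&
  ((List.range K.conjs.length).all fun a => unitOK (K.cj a).nv (11 * (K.R + a)) &&
    decide ((K.cj a).v ≠ []) && ((K.cj a).u.all fun i => decide (i < K.D.k)) &&
    ((K.cj a).v.all fun i => decide (i < K.D.k)) && decide ((K.cj a).s < K.gs.length))

def cocOK : Bool :=
  K.cocEqs.all fun e =>
    let W := K.D.rels.getD e.2.1 []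
    let F := K.D.runF e.2.2.1 0 W
    decide (e.2.1 < K.R) && decide (e.2.2.1 < K.D.N) && decide (e.2.2.2 < 11) &&
    Nat.beq F.1 e.2.2.1 && Nat.beq (row (Nat.xor F.2 (K.D.rv.getD e.2.1 0)) e.2.2.2) e.1

def stabOK : Bool :=
  K.stabEqs.all fun e =>
    let F := K.D.runF 0 0 (K.lhsWord e.2.2.1)
    let H := K.D.runN 0 0 (K.rhsWord e.2.2.1)
    decide (e.2.2.2 < 11) && (e.2.2.1.all fun a => decide (a < K.conjs.length) && Nat.beq (K.cj a).s e.2.1) &&
    decide (e.2.1 < K.gs.length) &&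
    matOK (K.ga e.2.1) && Nat.beq F.1 0 && Nat.beq H.1 0 &&
    Nat.beq (row (Nat.xor (app (K.ga e.2.1) F.2) H.2) e.2.2.2) e.1

def eqs : List ℕ := K.cocEqs.map Prod.fst ++ K.stabEqs.map Prod.fst

def corr : ℕ → List ℕ → ℕ
  | F, [] => F
  | F, i :: l => corr (Nat.xor (K.D.stp i F) (K.xs.getD i 0)) l

def pick (m : ℕ) : List ℕ → ℕ → ℕ
  | [], _ => 0
  | e :: l, n => Nat.xor (cond (m.testBit n) e 0) (pick m l (n + 1))

def lastOK : Bool :=
  (List.range K.R).all fun w => (List.range 11).all fun j =>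
    Nat.beq (Nat.xor (row (Nat.xor (K.D.rv.getD w 0) (K.corr 0 (K.D.rels.getD w []))) j)
      (cond (K.cbits.testBit (11 * w + j)) K.lam 0))
      (pick (K.sel.getD (11 * w + j) 0) K.eqs 0)

noncomputable def permOK (M : ℕ → Bool) (aOK : ℕ → List ℕ → Bool) : Bool :=
  ((K.gens ++ K.invs ++ K.gs.map Prod.fst).all M) &&
  decide (K.gens.length = K.D.k) && decide (K.invs.length = K.D.k) &&
  ((List.range K.D.k).all fun i => Nat.beq (pmul (K.gens.getD i pone) (K.invs.getD i pone)) pone &&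
    aOK (K.invs.getD i pone) (K.D.ai.getD i [])) &&
  (K.gs.all fun g => aOK g.1 g.2) &&
  (K.D.rels.all fun W => Nat.beq (K.wperm W) pone) &&
  ((List.range K.conjs.length).all fun a =>
    Nat.beq (pmul (K.gp (K.cj a).s) (K.wperm (K.cj a).u)) (pmul (K.wperm (K.cj a).v) (K.gp (K.cj a).s))) &&
  decide ((List.range K.D.N).map fun p => K.wperm (K.D.tab.wd p)).Nodup

end Cert

section

variable {Γ : Type*} [Group Γ] {H : Subgroup ↥M24} (M : Member H) (K : Cert) (C : Chart Γ ↥H)
  (Lf : ↥H → Γ) (aOK : ℕ → List ℕ → Bool)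

/-- The lifts. -/
noncomputable def lift (i : ℕ) : Γ := Lf (el M (K.gens.getD i pone))

noncomputable def glift (s : ℕ) : Γ := Lf (el M (K.gp s))

/-- The kernel element of a conjugation. -/
noncomputable def cjVal (a : ℕ) : Γ :=
  (wprod (lift M K Lf) (K.cj a).v)⁻¹ *
    (glift M K Lf (K.cj a).s * wprod (lift M K Lf) (K.cj a).u * (glift M K Lf (K.cj a).s)⁻¹)

/-- The value of every unknown. -/
noncomputable def nu (T : ℕ → Γ) (cv : ℕ → Γ) (i : ℕ) : F2 :=
  if i < 11 * K.R then C.κ (wprod T (K.D.rels.getD (i / 11) [])) ⟨i % 11, Nat.mod_lt _ (by norm_num)⟩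
  else C.κ (cv ((i - 11 * K.R) / 11)) ⟨(i - 11 * K.R) % 11, Nat.mod_lt _ (by norm_num)⟩

/-- The value of the functional. -/
noncomputable def lamVal : F2 := val (nu K C (lift M K Lf) (fun _ => 1)) K.lam

/-- All checks. -/
structure Checks : Prop where
  tableOK : K.D.tab.ok = true
  extOK : K.D.ok = true
  shape : K.shapeOK = true
  coc : K.cocOK = true
  stab : K.stabOK = true
  last : K.lastOK = true
  perm : K.permOK (good M) aOK = true

variable {M K C aOK Lf}

theorem pk_el' (hc : Checks M K aOK) {p : ℕ} (h : p ∈ K.gens ++ K.invs ++ K.gs.map Prod.fst) :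
    pk (el M p) = p := by
  have h' := hc.perm
  simp only [Cert.permOK, Bool.and_eq_true] at h'
  exact pk_el M (List.all_eq_true.1 h'.1.1.1.1.1.1.1 p h)

theorem gens_spec (hc : Checks M K aOK) {i : ℕ} (hi : i < K.D.k) :
    pk (el M (K.gens.getD i pone)) = K.gens.getD i pone ∧
      pk (el M (K.invs.getD i pone)) = K.invs.getD i pone := by
  have h := hc.perm
  simp only [Cert.permOK, Bool.and_eq_true, decide_eq_true_eq] at h
  obtain ⟨⟨⟨⟨⟨⟨⟨-, hg⟩, hv⟩, -⟩, -⟩, -⟩, -⟩, -⟩ := h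
  constructor
  · refine pk_el' hc ?_
    rw [List.getD_eq_getElem _ _ (by omega)]
    exact List.mem_append_left _ (List.mem_append_left _ (List.getElem_mem _))
  · refine pk_el' hc ?_
    rw [List.getD_eq_getElem _ _ (by omega)]
    exact List.mem_append_left _ (List.mem_append_right _ (List.getElem_mem _))

theorem gs_spec (hc : Checks M K aOK) {s : ℕ} (hs : s < K.gs.length) : pk (el M (K.gp s)) = K.gp s := by
  refine pk_el' hc (List.mem_append_right _ ?_)
  rw [Cert.gp, List.getD_eq_getElem _ _ hs]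
  exact List.mem_map_of_mem (List.getElem_mem _)

variable (hLf : ∀ g, C.σ (Lf g) = g)
include hLf

theorem σ_lift (i : ℕ) : C.σ (lift M K Lf i) = el M (K.gens.getD i pone) := hLf _

theorem σ_glift (s : ℕ) : C.σ (glift M K Lf s) = el M (K.gp s) := hLf _

omit hLf

theorem pk_word (hc : Checks M K aOK) {T : ℕ → Γ} (hT : ∀ i, C.σ (T i) = el M (K.gens.getD i pone))
    {W : List ℕ} (hW : ∀ i ∈ W, i < K.D.k) : pk (C.σ (wprod T W)) = K.wperm W := by
  rw [map_wprod, wprod, pk_prod, List.map_map]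
  refine congrArg pprod (List.map_congr_left fun i hi => ?_)
  show pk (C.σ (T i)) = _
  rw [hT]
  exact (gens_spec hc (hW i hi)).1

theorem inv_eq (hc : Checks M K aOK) {i : ℕ} (hi : i < K.D.k) :
    (el M (K.gens.getD i pone))⁻¹ = el M (K.invs.getD i pone) := by
  refine inv_eq_of_mul_eq_one_right (pk_injective ?_)
  rw [pk_mul, (gens_spec hc hi).1, (gens_spec hc hi).2, pk_one]
  have h := hc.perm
  simp only [Cert.permOK, Bool.and_eq_true, List.all_eq_true, List.mem_range, Nat.beq_eq] at h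
  exact (h.1.1.1.1.2 i hi).1

include hLf in
theorem σ_cjVal (hc : Checks M K aOK) {a : ℕ} (ha : a < K.conjs.length) : C.σ (cjVal M K Lf a) = 1 := by
  have hs := hc.shape
  simp only [Cert.shapeOK, Bool.and_eq_true, List.all_eq_true, List.mem_range, decide_eq_true_eq] at hs
  obtain ⟨⟨⟨⟨-, -⟩, hu⟩, hv⟩, hsl⟩ := hs.2 a ha
  have h := hc.perm
  simp only [Cert.permOK, Bool.and_eq_true, List.all_eq_true, List.mem_range, Nat.beq_eq] at h
  have he := h.1.2 a ha
  rw [cjVal, map_mul, map_inv, inv_mul_eq_one, map_mul, map_mul, map_inv, eq_mul_inv_iff_mul_eq]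
  refine pk_injective ?_
  rw [pk_mul, pk_mul, pk_word hc (σ_lift hLf) hu, pk_word hc (σ_lift hLf) hv, σ_glift hLf, gs_spec hc hsl]
  exact he.symm

theorem val_congr {ν ν' : ℕ → F2} {n m : ℕ} (hm : m < 2 ^ n) (h : ∀ i < n, ν i = ν' i) :
    val ν m = val ν' m := by
  refine Finset.sum_congr rfl fun i _ => ?_
  by_cases hi : i < n
  · rw [h i hi]
  · rw [Nat.testBit_lt_two_pow (hm.trans_le (Nat.pow_le_pow_right (by norm_num) (by omega)))]
    show (0 : F2) * ν i = 0 * ν' i
    rw [zero_mul, zero_mul]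

variable (hact : ∀ g S, aOK (pk g) S = true → C.act g = mat S)
include hact hLf

/-- The setting: the lifts satisfy the table with the unknowns given their values. -/
theorem lifts_ok (hc : Checks M K aOK) :
    Lifts C K.D (lift M K Lf) (nu K C (lift M K Lf) (cjVal M K Lf)) ∧
      ∀ a < K.conjs.length, C.κ (cjVal M K Lf a) = ev (nu K C (lift M K Lf) (cjVal M K Lf)) (K.cj a).nv := by
  have hp := hc.perm
  simp only [Cert.permOK, Bool.and_eq_true, List.all_eq_true, List.mem_range, Nat.beq_eq] at hp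
  have he := hc.extOK
  simp only [Ext.ok, Bool.and_eq_true, List.all_eq_true, List.mem_range, decide_eq_true_eq] at he
  have hs := hc.shape
  simp only [Cert.shapeOK, Bool.and_eq_true, List.all_eq_true, List.mem_range, decide_eq_true_eq] at hs
  obtain ⟨⟨⟨hb, -⟩, hr⟩, hn⟩ := hs
  refine ⟨⟨fun i hi => ?_, fun i hi => he.1.1.1.2 i hi, fun w hw => ?_, fun w hw => ?_⟩, fun a ha => ?_⟩
  · rw [σ_lift hLf, inv_eq hc hi]
    exact hact _ _ (by rw [(gens_spec hc hi).2]; exact (hp.1.1.1.1.2 i hi).2)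
  · refine pk_injective ?_
    have hW : K.D.rels.getD w [] ∈ K.D.rels := by
      rw [List.getD_eq_getElem _ _ hw]; exact List.getElem_mem _
    rw [pk_word hc (σ_lift hLf) (fun i hi => he.1.1.2 _ hW i hi), pk_one]
    exact hp.1.1.2 _ hW
  · funext l
    have h := Nat.eq_of_beq_eq_true (List.all_eq_true.1 (hr w hw) l (List.mem_range.2 l.isLt))
    have hw' : w < K.R := hw
    show _ = val _ (row _ l)
    rw [h, val_two_pow _ (by omega), nu, if_pos (by omega)]
    simp only [show (11 * w + l.val) / 11 = w by omega, show (11 * w + l.val) % 11 = l.val by omega]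
  · funext l
    have h := Nat.eq_of_beq_eq_true (List.all_eq_true.1 (hn a ha).1.1.1.1 l (List.mem_range.2 l.isLt))
    show _ = val _ (row _ l)
    rw [h, val_two_pow _ (by omega), nu, if_neg (by omega)]
    simp only [show (11 * (K.R + a) + l.val - 11 * K.R) / 11 = a by omega,
      show (11 * (K.R + a) + l.val - 11 * K.R) % 11 = l.val by omega]

theorem eqs_zero (hc : Checks M K aOK) :
    ∀ e ∈ K.eqs, val (nu K C (lift M K Lf) (cjVal M K Lf)) e = 0 := by
  obtain ⟨L, hcv⟩ := lifts_ok hLf hact hc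
  obtain ⟨hN, -, hrels, hwords, -⟩ := all_edges L hc.extOK
  set ν := nu K C (lift M K Lf) (cjVal M K Lf)
  set T := lift M K Lf
  intro e he
  simp only [Cert.eqs, List.mem_append, List.mem_map] at he
  rcases he with ⟨⟨m, w, q, j⟩, hx, rfl⟩ | ⟨⟨m, s, Y, j⟩, hx, rfl⟩
  · have hk := List.all_eq_true.1 hc.coc _ hx
    simp only [Bool.and_eq_true, decide_eq_true_eq, Nat.beq_eq] at hk
    obtain ⟨⟨⟨⟨hw, hq⟩, hj⟩, hF1⟩, hrow⟩ := hk
    have hW : ∀ i ∈ K.D.rels.getD w [], i < K.D.k :=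
      hrels _ (by rw [List.getD_eq_getElem _ _ hw]; exact List.getElem_mem _)
    obtain ⟨n, hn1, hn2, hn3⟩ := runF_sound L hc.extOK _ q 0 _ hW hq (pr_wd q)
    rw [hF1] at hn3
    rw [← mul_left_cancel hn3] at hn2
    have h0 : ev ν (Nat.xor (K.D.runF q 0 (K.D.rels.getD w [])).2 (K.D.rv.getD w 0)) = 0 := by
      rw [ev_xor, ← hn2, L.rel_val w hw]
      exact CharTwo.add_self_eq_zero _
    have h1 := congrFun h0 ⟨j, hj⟩
    rw [ev] at h1
    rwa [← hrow]
  · have hk := List.all_eq_true.1 hc.stab _ hx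
    simp only [Bool.and_eq_true, decide_eq_true_eq, Nat.beq_eq, List.all_eq_true] at hk
    obtain ⟨⟨⟨⟨⟨⟨hj, hY⟩, hs⟩, hA⟩, hF1⟩, hH1⟩, hrow⟩ := hk
    have hp := hc.perm
    simp only [Cert.permOK, Bool.and_eq_true, List.all_eq_true, List.mem_range, Nat.beq_eq] at hp
    have hsh := hc.shape
    simp only [Cert.shapeOK, Bool.and_eq_true, List.all_eq_true, List.mem_range, decide_eq_true_eq] at hsh
    have hu : ∀ i ∈ K.lhsWord Y, i < K.D.k := by
      intro i hi
      obtain ⟨a, ha, hia⟩ := List.mem_flatMap.1 hi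
      exact (hsh.2 a (hY a ha).1).1.1.2 i hia
    have hX := runF_sound L hc.extOK (K.lhsWord Y) 0 0 _ hu hN (pr_wd 0)
    rw [hF1] at hX
    obtain ⟨hX1, hX2⟩ := pr_base L hc.extOK hX
    rw [(all_edges L hc.extOK).2.1, show wprod T ([] : List ℕ) = 1 from rfl, one_mul] at hX1 hX2
    have ins : ∀ (v : List ℕ) (X : ℕ) (n : Γ), v ≠ [] → (∀ i ∈ v, i < K.D.k) → C.σ n = 1 →
        C.κ n = ev ν X → ∃ Z : List Γ, Z.prod = wprod T v * n ∧
          List.Forall₂ (fun e y => e.1 < K.D.k ∧ ∃ n, C.σ n = 1 ∧ C.κ n = ev ν e.2 ∧ y = T e.1 * n)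
            (Cert.insLast v X) Z := by
      intro v
      induction v with
      | nil => intro _ _ h; exact absurd rfl h
      | cons i v ih =>
        intro X n _ hv hn hnv
        cases v with
        | nil =>
          exact ⟨[T i * n], by simp [wprod], .cons ⟨hv i List.mem_cons_self, n, hn, hnv, rfl⟩ .nil⟩
        | cons i' v' =>
          obtain ⟨Z, hZ, hF⟩ := ih X n (by simp) (fun x hx => hv x (List.mem_cons_of_mem _ hx)) hn hnv
          refine ⟨T i :: Z, by rw [List.prod_cons, hZ, wprod_cons T i, mul_assoc], ?_⟩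
          exact .cons ⟨hv i List.mem_cons_self, 1, map_one _, by rw [κ_one, ev_zero], (mul_one _).symm⟩ hF
    set G0 := glift M K Lf s
    have rhs : ∀ Y' : List ℕ, (∀ a ∈ Y', a < K.conjs.length ∧ (K.cj a).s = s) →
        ∃ Z : List Γ, Z.prod = G0 * wprod T (K.lhsWord Y') * G0⁻¹ ∧
          List.Forall₂ (fun e y => e.1 < K.D.k ∧ ∃ n, C.σ n = 1 ∧ C.κ n = ev ν e.2 ∧ y = T e.1 * n)
            (K.rhsWord Y') Z := by
      intro Y'
      induction Y' with
      | nil => intro _; exact ⟨[], by simp [Cert.lhsWord, wprod], .nil⟩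
      | cons a Y' ih =>
        intro hY'
        obtain ⟨ha, has⟩ := hY' a List.mem_cons_self
        obtain ⟨Z, hZ, hF⟩ := ih fun x hx => hY' x (List.mem_cons_of_mem _ hx)
        obtain ⟨Z0, hZ0, hF0⟩ := ins (K.cj a).v (K.cj a).nv (cjVal M K Lf a) (hsh.2 a ha).1.1.1.2
          (hsh.2 a ha).1.2 (σ_cjVal hLf hc ha) (hcv a ha)
        refine ⟨Z0 ++ Z, ?_, ?_⟩
        · rw [List.prod_append, hZ0, hZ, cjVal, mul_inv_cancel_left, has]
          simp only [Cert.lhsWord, List.flatMap_cons, wprod_append, G0, T]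
          group
        · rw [Cert.rhsWord, List.flatMap_cons]
          exact List.rel_append hF0 hF
    obtain ⟨Z, hZ, hF⟩ := rhs Y fun a ha => hY a ha
    have hR := runN_sound L hc.extOK _ 0 0 _ Z hN (pr_wd 0) hF
    rw [hH1] at hR
    have hR2 := (pr_base L hc.extOK hR).2
    rw [(all_edges L hc.extOK).2.1, show wprod T ([] : List ℕ) = 1 from rfl, one_mul, hZ,
      C.κ_conj _ _ hX1, hX2] at hR2
    have hgA : C.act (C.σ G0) = mat (K.ga s) := by
      rw [σ_glift hLf]
      refine hact _ _ ?_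
      rw [gs_spec hc hs]
      rw [Cert.gp, Cert.ga, List.getD_eq_getElem _ _ hs]
      exact hp.1.1.1.2 _ (List.getElem_mem _)
    rw [hgA, ← ev_app ν hA] at hR2
    have h0 : ev ν (Nat.xor (app (K.ga s) (K.D.runF 0 0 (K.lhsWord Y)).2)
        (K.D.runN 0 0 (K.rhsWord Y)).2) = 0 := by
      rw [ev_xor, hR2]
      exact CharTwo.add_self_eq_zero _
    have h1 := congrFun h0 ⟨j, hj⟩
    rw [ev] at h1
    rwa [← hrow]

/-- If the functional vanishes the extension splits over the table group, hence everywhere. -/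
theorem split_of_lamVal [Finite Γ] (hc : Checks M K aOK) (h0 : lamVal M K C Lf = 0)
    (hodd : ¬ 2 ∣ Nat.card ↥H / K.D.N) (hdvd : K.D.N ∣ Nat.card ↥H) :
    ∃ Hc : Subgroup Γ, Hc ⊓ C.σ.ker = ⊥ ∧ Hc ⊔ C.σ.ker = ⊤ := by
  obtain ⟨L, -⟩ := lifts_ok hLf hact hc
  obtain ⟨hN, hw0, hrels, hwords, -⟩ := all_edges L hc.extOK
  set ν := nu K C (lift M K Lf) (cjVal M K Lf)
  set T := lift M K Lf with hTdef
  choose n hn1 hn2 using fun i : ℕ => C.κ_surj (ev ν (K.xs.getD i 0))
  let T' : ℕ → Γ := fun i => T i * n i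
  have hσT : ∀ i, C.σ (T' i) = el M (K.gens.getD i pone) := fun i => by
    show C.σ (T i * n i) = _
    rw [map_mul, hn1, mul_one]; exact σ_lift hLf i
  have hcorr : ∀ (l : List ℕ) (F : ℕ) (X m : Γ), (∀ i ∈ l, i < K.D.k) → C.σ m = 1 → C.κ m = ev ν F →
      ∃ m', C.σ m' = 1 ∧ C.κ m' = ev ν (K.corr F l) ∧ X * m * wprod T' l = X * wprod T l * m' := by
    intro l
    induction l with
    | nil => intro F X m _ h1 h2; exact ⟨m, h1, h2, by simp [wprod]⟩
    | cons i l ih =>
      intro F X m hl h1 h2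
      have hi := hl i List.mem_cons_self
      have hc1 : C.σ ((T i)⁻¹ * m * T i) = 1 := by
        rw [map_mul, map_mul, h1, mul_one, map_inv, inv_mul_cancel]
      have hk : C.κ ((T i)⁻¹ * m * T i) = ev ν (K.D.stp i F) := by
        have := C.κ_conj (T i)⁻¹ m h1
        rw [inv_inv] at this
        rw [this, map_inv, L.act_eq i hi, h2, Ext.stp, ev_app ν (L.matOK i hi)]
      obtain ⟨m', a, b, c⟩ := ih (Nat.xor (K.D.stp i F) (K.xs.getD i 0)) (X * T i) ((T i)⁻¹ * m * T i * n i)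
        (fun x hx => hl x (List.mem_cons_of_mem _ hx)) (by rw [map_mul, hc1, hn1, one_mul])
        (by rw [C.κ_mul _ _ hc1 (hn1 i), hk, hn2, ev_xor])
      refine ⟨m', a, b, ?_⟩
      rw [wprod_cons, wprod_cons, ← mul_assoc X (T i), ← c]
      show _ = X * T i * ((T i)⁻¹ * m * T i * n i) * wprod T' l
      simp only [T']
      group
  have hlam : val ν K.lam = 0 := by
    have hs := hc.shape
    simp only [Cert.shapeOK, Bool.and_eq_true, Nat.blt_eq] at hs
    refine (val_congr hs.1.1.2 fun i hi => ?_).trans h0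
    show nu K C _ _ i = nu K C _ _ i
    rw [nu, nu, if_pos hi, if_pos hi]
  have hpick : ∀ (l : List ℕ) (m k : ℕ), (∀ e ∈ l, val ν e = 0) → val ν (Cert.pick m l k) = 0 := by
    intro l
    induction l with
    | nil => intro m k _; exact val_zero ν
    | cons e l ih =>
      intro m k hl
      show val ν (_ ^^^ _) = 0
      rw [val_xor, ih m (k + 1) fun x hx => hl x (List.mem_cons_of_mem _ hx), add_zero]
      cases m.testBit k
      · exact val_zero ν
      · exact hl e List.mem_cons_self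
  have hrel' : ∀ W ∈ K.D.tab.rels, wprod T' W = 1 := by
    intro W hW
    obtain ⟨w, hw, rfl⟩ := List.getElem_of_mem (show W ∈ K.D.rels from hW)
    obtain ⟨m', a, b, c⟩ := hcorr K.D.rels[w] 0 1 1 (hrels _ hW) (map_one _) (by rw [κ_one, ev_zero])
    rw [one_mul, one_mul, one_mul] at c
    rw [c]
    have hr := L.rel w hw
    have hrv := L.rel_val w hw
    rw [List.getD_eq_getElem _ _ hw] at hr hrv
    refine C.κ_inj _ (by rw [map_mul, hr, a, one_mul]) ?_
    rw [C.κ_mul _ _ hr a, hrv, b, ← ev_xor]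
    funext j
    have h := List.all_eq_true.1 (List.all_eq_true.1 hc.last w (List.mem_range.2 hw)) j (List.mem_range.2 j.isLt)
    have h' := congrArg (val ν) (Nat.eq_of_beq_eq_true h)
    rw [hpick _ _ _ (eqs_zero hLf hact hc)] at h'
    rw [← List.getD_eq_getElem _ [] hw]
    show val ν (row _ j) = 0
    refine Eq.trans ?_ h'
    show _ = val ν (_ ^^^ _)
    rw [val_xor]
    cases K.cbits.testBit (11 * w + j.val)
    · rw [cond_false, val_zero, add_zero]
    · rw [cond_true, hlam, add_zero]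
  obtain ⟨-, -, hedge⟩ := Mult.all_edges hc.tableOK hrel'
  have hp := hc.perm
  simp only [Cert.permOK, Bool.and_eq_true, decide_eq_true_eq] at hp
  have hnd := hp.2
  have hinj : ∀ p < K.D.N, ∀ p' < K.D.N,
      C.σ (wprod T' (K.D.tab.wd p)) = C.σ (wprod T' (K.D.tab.wd p')) → p = p' := by
    intro p hp1 p' hp2 e
    refine List.inj_on_of_nodup_map hnd (List.mem_range.2 hp1) (List.mem_range.2 hp2) ?_
    show K.wperm _ = K.wperm _
    rw [← pk_word hc hσT (hwords p hp1), ← pk_word hc hσT (hwords p' hp2), e]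
  let S := Subgroup.closure (T' '' {i | i < K.D.k})
  have hmem : ∀ x ∈ S, ∃ p < K.D.N, x = wprod T' (K.D.tab.wd p) := by
    intro x hx
    rw [← Subgroup.mem_toSubmonoid, Subgroup.closure_toSubmonoid_of_finite] at hx
    suffices h : ∀ q < K.D.N, ∃ p < K.D.N, wprod T' (K.D.tab.wd q) * x = wprod T' (K.D.tab.wd p) by
      obtain ⟨p, hp, e⟩ := h 0 hN
      exact ⟨p, hp, by rw [← e, hw0]; simp [wprod]⟩
    induction hx using Submonoid.closure_induction with
    | mem x hx =>
      obtain ⟨i, hi, rfl⟩ := hx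
      exact fun q hq => ⟨K.D.tab.nx q i, hedge q hq i hi⟩
    | one => exact fun q hq => ⟨q, hq, mul_one _⟩
    | mul x y _ _ hx hy =>
      intro q hq
      obtain ⟨p, hp, e⟩ := hx q hq
      obtain ⟨r, hr, e'⟩ := hy p hp
      exact ⟨r, hr, by rw [← mul_assoc, e, e']⟩
  have hwS : ∀ p < K.D.N, wprod T' (K.D.tab.wd p) ∈ S := fun p hp1 =>
    Subgroup.list_prod_mem _ fun x hx => by
      obtain ⟨i, hi, rfl⟩ := List.mem_map.1 hx
      exact Subgroup.subset_closure ⟨i, hwords p hp1 i hi, rfl⟩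
  have hbot : S ⊓ C.σ.ker = ⊥ := by
    rw [Subgroup.eq_bot_iff_forall]
    rintro x ⟨hx, hxk⟩
    obtain ⟨p, hp1, rfl⟩ := hmem x hx
    have := hinj p hp1 0 hN (by rw [MonoidHom.mem_ker.1 hxk, hw0]; simp [wprod])
    rw [this, hw0]; rfl
  have hcardS : Nat.card (S.map C.σ) = K.D.N := by
    have e : ((S.map C.σ : Subgroup ↥H) : Set ↥H) = Set.range fun p : Fin K.D.N => C.σ (wprod T' (K.D.tab.wd p)) := by
      ext g
      constructor
      · rintro ⟨x, hx, rfl⟩
        obtain ⟨p, hp1, rfl⟩ := hmem x hx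
        exact ⟨⟨p, hp1⟩, rfl⟩
      · rintro ⟨p, rfl⟩
        exact ⟨_, hwS p p.isLt, rfl⟩
    rw [← SetLike.coe_sort_coe, e, Nat.card_range_of_injective, Nat.card_fin]
    exact fun p p' h => Fin.ext (hinj p p.isLt p' p'.isLt h)
  haveI : IsMulCommutative C.σ.ker := ⟨⟨fun a b => Subtype.ext <| by
    have ha := MonoidHom.mem_ker.1 a.2
    have hb := MonoidHom.mem_ker.1 b.2
    have hab : C.σ ((a : Γ) * b) = 1 := by rw [map_mul, ha, hb, one_mul]
    have hba : C.σ ((b : Γ) * a)⁻¹ = 1 := by rw [map_inv, map_mul, hb, ha, one_mul, inv_one]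
    show (a : Γ) * b = b * a
    refine mul_inv_eq_one.1 (C.κ_inj _ (by rw [map_mul, hab, hba, one_mul]) ?_)
    have h1 := C.κ_mul _ _ (by rw [map_mul, hb, ha, one_mul] : C.σ ((b : Γ) * a) = 1) hba
    rw [mul_inv_cancel, κ_one] at h1
    rw [C.κ_mul _ _ hab hba, C.κ_mul _ _ ha hb, add_comm (C.κ a), ← C.κ_mul _ _ hb ha]
    exact h1.symm⟩⟩
  have hcardker : Nat.card C.σ.ker = 2 ^ 11 := by
    rw [Nat.card_eq_of_bijective (fun m : C.σ.ker => C.κ m) ⟨fun a b h => ?_, fun c => ?_⟩]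
    · simp
    · have hb : C.σ ((b : Γ))⁻¹ = 1 := by rw [map_inv, MonoidHom.mem_ker.1 b.2, inv_one]
      refine Subtype.ext (mul_inv_eq_one.1 (C.κ_inj _ (by rw [map_mul, MonoidHom.mem_ker.1 a.2, hb, one_mul]) ?_))
      have h1 := C.κ_mul _ _ (MonoidHom.mem_ker.1 b.2) hb
      rw [mul_inv_cancel, κ_one] at h1
      rw [C.κ_mul _ _ (MonoidHom.mem_ker.1 a.2) hb]
      simp only at h
      rw [h]; exact h1.symm
    · obtain ⟨m, h1, h2⟩ := C.κ_surj c
      exact ⟨⟨m, h1⟩, h2⟩
  have hUidx : (C.σ.ker ⊔ S).index = Nat.card ↥H / K.D.N := by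
    have h := Subgroup.index_map_eq (H := C.σ.ker ⊔ S) C.surj le_sup_left
    rw [← h, Subgroup.map_sup, (Subgroup.map_eq_bot_iff _).2 le_rfl, bot_sup_eq,
      ← Subgroup.card_mul_index (S.map C.σ), hcardS, Nat.mul_div_cancel_left _ hN]
  have hcop : (Nat.card C.σ.ker).Coprime (C.σ.ker ⊔ S).index := by
    rw [hcardker, hUidx]
    exact Nat.Coprime.pow_left _ ((Nat.prime_two.coprime_iff_not_dvd).2 hodd)
  obtain ⟨Hc, hHc⟩ := Core.Gaschutz.gaschutz_exists (K := C.σ.ker) (U := C.σ.ker ⊔ S) (A := S)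
    le_sup_left hcop hbot rfl
  refine ⟨Hc, ?_, ?_⟩
  · rw [inf_comm]; exact hHc.disjoint.eq_bot
  · rw [sup_comm]; exact hHc.sup_eq_top

end

end CfsgLib.Sporadic.ExtSplit
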