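import Mathlib

/-!
# Packed linear forms with values in `F₂¹¹`

A vector of linear forms in at most 256 unknowns over `F₂` is one number, row `j` in the bits
`256 j, …, 256 j + 255`; a matrix is given by its columns, spread out with that spacing.
-/

set_option autoImplicit false

namespace CfsgLib.Sporadic.ExtSplit

open Matrix

abbrev F2 := ZMod 2

abbrev Vec := Fin 11 → F2

def bz (b : Bool) : F2 := cond b 1 0

theorem bz_xor (a b : Bool) : bz (a ^^ b) = bz a + bz b := by revert a b; decide

/-- Row `j` of a packed vector. -/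
def row (F j : ℕ) : ℕ := Nat.land (Nat.shiftRight F (256 * j)) (2 ^ 256 - 1)

theorem testBit_row (F j i : ℕ) : (row F j).testBit i = (decide (i < 256) && F.testBit (256 * j + i)) := by
  show ((F >>> (256 * j)) &&& (2 ^ 256 - 1)).testBit i = _
  rw [Nat.testBit_and, Nat.testBit_shiftRight, Nat.testBit_two_pow_sub_one, Bool.and_comm]

theorem row_lt (F j : ℕ) : row F j < 2 ^ 256 :=
  lt_of_le_of_lt Nat.and_le_right (Nat.sub_lt (Nat.two_pow_pos _) Nat.one_pos)

theorem row_xor (F G j : ℕ) : row (Nat.xor F G) j = row F j ^^^ row G j := by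
  refine Nat.eq_of_testBit_eq fun i => ?_
  show (row (F ^^^ G) j).testBit i = _
  rw [Nat.testBit_xor, testBit_row, testBit_row, testBit_row, Nat.testBit_xor]
  cases decide (i < 256) <;> simp

theorem row_zero (j : ℕ) : row 0 j = 0 :=
  Nat.eq_of_testBit_eq fun i => by simp [testBit_row]

/-- The value of a linear form at `ν`. -/
def val (ν : ℕ → F2) (m : ℕ) : F2 := ∑ i ∈ Finset.range 256, bz (m.testBit i) * ν i

theorem val_zero (ν : ℕ → F2) : val ν 0 = 0 :=
  Finset.sum_eq_zero fun i _ => by rw [Nat.zero_testBit]; exact zero_mul _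

theorem val_xor (ν : ℕ → F2) (a b : ℕ) : val ν (a ^^^ b) = val ν a + val ν b := by
  rw [val, val, val, ← Finset.sum_add_distrib]
  refine Finset.sum_congr rfl fun i _ => ?_
  rw [Nat.testBit_xor, bz_xor, add_mul]

theorem val_two_pow (ν : ℕ → F2) {k : ℕ} (hk : k < 256) : val ν (2 ^ k) = ν k := by
  rw [val, Finset.sum_eq_single k]
  · rw [Nat.testBit_two_pow_self]; exact one_mul _
  · intro i _ hi
    rw [Nat.testBit_two_pow_of_ne (Ne.symm hi)]; exact zero_mul _
  · exact fun h => absurd (Finset.mem_range.2 hk) h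

/-- The value of a packed vector at `ν`. -/
def ev (ν : ℕ → F2) (F : ℕ) : Vec := fun j => val ν (row F j)

theorem ev_zero (ν : ℕ → F2) : ev ν 0 = 0 := funext fun j => by
  show val ν (row 0 j) = 0
  rw [row_zero, val_zero]

theorem ev_xor (ν : ℕ → F2) (F G : ℕ) : ev ν (Nat.xor F G) = ev ν F + ev ν G := funext fun j => by
  show val ν (row (Nat.xor F G) j) = _
  rw [row_xor, val_xor]
  rfl

/-- The number with bit `256 j` equal to bit `j` of `c`, for `j < n`. -/
def spr (c n : ℕ) : ℕ := Nat.rec 0 (fun j acc => cond (c.testBit j) (2 ^ (256 * j) + acc) acc) n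

/-- The inverse of `spr` on eleven bits. -/
def gat (S : ℕ) : ℕ :=
  Nat.rec 0 (fun j acc => cond (S.testBit (256 * j)) (2 ^ j + acc) acc) 11

theorem mul_spr_lt {f : ℕ} (hf : f < 2 ^ 256) (c : ℕ) : ∀ n, f * spr c n < 2 ^ (256 * n)
  | 0 => by simp [spr]
  | n + 1 => by
    have ih := mul_spr_lt hf c n
    have e : spr c (n + 1) = cond (c.testBit n) (2 ^ (256 * n) + spr c n) (spr c n) := rfl
    rw [e, show 256 * (n + 1) = 256 + 256 * n by omega, pow_add]
    cases c.testBit n
    · rw [cond_false]
      exact lt_of_lt_of_le ih (Nat.le_mul_of_pos_left _ (Nat.two_pow_pos _))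
    · rw [cond_true, Nat.mul_add]
      calc f * 2 ^ (256 * n) + f * spr c n < f * 2 ^ (256 * n) + 2 ^ (256 * n) := by omega
        _ = (f + 1) * 2 ^ (256 * n) := by ring
        _ ≤ _ := Nat.mul_le_mul_right _ hf

theorem row_mul_spr {f : ℕ} (hf : f < 2 ^ 256) (c : ℕ) : ∀ n j, j < n →
    row (f * spr c n) j = cond (c.testBit j) f 0
  | 0, j, h => absurd h (Nat.not_lt_zero j)
  | n + 1, j, h => by
    have e : spr c (n + 1) = cond (c.testBit n) (2 ^ (256 * n) + spr c n) (spr c n) := rfl
    have hb : f * spr c (n + 1) = 2 ^ (256 * n) * cond (c.testBit n) f 0 + f * spr c n := by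
      rw [e]; cases c.testBit n <;> simp [Nat.mul_add, Nat.mul_comm]
    refine Nat.eq_of_testBit_eq fun i => ?_
    rw [testBit_row, hb, Nat.testBit_two_pow_mul_add _ (mul_spr_lt hf c n)]
    by_cases hi : i < 256
    · rw [decide_eq_true hi, Bool.true_and]
      rcases Nat.lt_succ_iff_lt_or_eq.1 h with hj | rfl
      · rw [if_pos (by omega), ← row_mul_spr hf c n j hj, testBit_row, decide_eq_true hi, Bool.true_and]
      · rw [if_neg (by omega), show 256 * j + i - 256 * j = i by omega]
    · rw [decide_eq_false hi, Bool.false_and]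
      cases c.testBit j
      · simp
      · rw [cond_true, Nat.testBit_lt_two_pow (hf.trans_le (Nat.pow_le_pow_right (by norm_num) (by omega)))]

/-- A matrix applied to a packed vector. -/
def app (S : List ℕ) (F : ℕ) : ℕ :=
  Nat.rec 0 (fun l acc => Nat.xor acc (Nat.mul (row F l) (S.getD l 0))) 11

/-- The matrix with given spread columns. -/
def mat (S : List ℕ) : Matrix (Fin 11) (Fin 11) F2 :=
  Matrix.of fun j l => bz ((S.getD l.val 0).testBit (256 * j.val))

/-- The columns are spread columns. -/
def matOK (S : List ℕ) : Bool :=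
  (List.range 11).all fun l => Nat.beq (S.getD l 0) (spr (gat (S.getD l 0)) 11)

theorem ev_app (ν : ℕ → F2) {S : List ℕ} (hS : matOK S = true) (F : ℕ) :
    ev ν (app S F) = mat S *ᵥ ev ν F := by
  funext j
  have hcol : ∀ l < 11, row (Nat.mul (row F l) (S.getD l 0)) j =
      cond ((S.getD l 0).testBit (256 * j.val)) (row F l) 0 := by
    intro l hl
    have h := Nat.eq_of_beq_eq_true (List.all_eq_true.1 hS l (List.mem_range.2 hl))
    have hb : (gat (S.getD l 0)).testBit j.val = (S.getD l 0).testBit (256 * j.val) := by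
      conv_rhs => rw [h]
      have := congrArg (fun v => v.testBit 0) (row_mul_spr (f := 1) (by norm_num) (gat (S.getD l 0)) 11 j j.isLt)
      simp only [one_mul, testBit_row, add_zero] at this
      rw [decide_eq_true (by norm_num : (0 : ℕ) < 256), Bool.true_and] at this
      rw [this]
      cases (gat (S.getD l 0)).testBit j.val <;> rfl
    show row (row F l * S.getD l 0) j = _
    rw [← hb]
    conv_lhs => rw [h]
    exact row_mul_spr (row_lt F l) _ 11 _ j.isLt
  have key : ∀ n ≤ 11, val ν (row (Nat.rec (motive := fun _ => ℕ) 0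
      (fun l acc => Nat.xor acc (Nat.mul (row F l) (S.getD l 0))) n) j) =
      ∑ l ∈ Finset.range n, bz ((S.getD l 0).testBit (256 * j.val)) * val ν (row F l) := by
    intro n hn
    induction n with
    | zero => simp only [Nat.rec_zero, row_zero, val_zero, Finset.range_zero, Finset.sum_empty]
    | succ n ih =>
      rw [Finset.sum_range_succ, ← ih (by omega)]
      simp only []
      rw [row_xor, val_xor, hcol n (by omega)]
      cases (S.getD n 0).testBit (256 * j.val)
      · rw [cond_false, val_zero, show bz false = 0 from rfl, zero_mul]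
      · rw [cond_true, show bz true = 1 from rfl, one_mul]
  refine (key 11 le_rfl).trans ?_
  rw [Finset.sum_range fun l => bz ((S.getD l 0).testBit (256 * j.val)) * val ν (row F l)]
  rfl

end CfsgLib.Sporadic.ExtSplit
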