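import Cfsg.Agent.Lib.Sporadic.ExtensionCert

/-!
# Two extensions on which the functional agrees are isomorphic

Their difference is an extension on which the functional vanishes, so it splits; a complement is
the graph of an isomorphism.
-/

set_option autoImplicit false

namespace CfsgLib.Sporadic.ExtSplit

open Matrix CfsgLib.Sporadic.Mult Cfsg

theorem vec_add_self (v : Vec) : v + v = 0 := funext fun _ => CharTwo.add_self_eq_zero _

theorem κ_inv {Γ G : Type*} [Group Γ] [Group G] (C : Chart Γ G) {m : Γ} (h : C.σ m = 1) :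
    C.κ m⁻¹ = C.κ m := by
  have h1 := C.κ_mul m m⁻¹ h (by rw [map_inv, h, inv_one])
  rw [mul_inv_cancel, κ_one] at h1
  calc C.κ m⁻¹ = (C.κ m + C.κ m) + C.κ m⁻¹ := by rw [vec_add_self, zero_add]
    _ = C.κ m := by rw [add_assoc, ← h1, add_zero]

theorem nonempty_mulEquiv_of_lamVal {Γ Γ' : Type*} [Group Γ] [Finite Γ] [Group Γ'] [Finite Γ']
    {H : Subgroup ↥M24} {M : Member H} {K : Cert} {C : Chart Γ ↥H} {C' : Chart Γ' ↥H}
    {aOK : ℕ → List ℕ → Bool} (hc : Checks M K aOK)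
    (hact : ∀ g S, aOK (pk g) S = true → C.act g = mat S) (hCC : C'.act = C.act)
    (hodd : ¬ 2 ∣ Nat.card ↥H / K.D.N) (hdvd : K.D.N ∣ Nat.card ↥H)
    {Lf : ↥H → Γ} (hLf : ∀ g, C.σ (Lf g) = g) {Lf' : ↥H → Γ'} (hLf' : ∀ g, C'.σ (Lf' g) = g)
    (h : lamVal M K C Lf = lamVal M K C' Lf') : Nonempty (Γ ≃* Γ') := by
  classical
  let P : Subgroup (Γ × Γ') :=
    { carrier := {x | C.σ x.1 = C'.σ x.2}
      one_mem' := by simp
      mul_mem' := fun {a b} ha hb => by
        show C.σ (a.1 * b.1) = C'.σ (a.2 * b.2)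
        rw [map_mul, map_mul, ha, hb]
      inv_mem' := fun {a} ha => by
        show C.σ a.1⁻¹ = C'.σ a.2⁻¹
        rw [map_inv, map_inv, ha] }
  let π : P →* ↥H := C.σ.comp ((MonoidHom.fst Γ Γ').comp P.subtype)
  have hπ' : ∀ x : P, C'.σ x.1.2 = π x := fun x => (show C.σ x.1.1 = C'.σ x.1.2 from x.2).symm
  let Δ : Subgroup P :=
    { carrier := {x | π x = 1 ∧ C.κ x.1.1 + C'.κ x.1.2 = 0}
      one_mem' := by
        refine ⟨map_one _, ?_⟩
        show C.κ 1 + C'.κ 1 = 0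
        rw [κ_one, κ_one, add_zero]
      mul_mem' := fun {a b} ha hb => by
        refine ⟨by rw [map_mul, ha.1, hb.1, one_mul], ?_⟩
        show C.κ (a.1.1 * b.1.1) + C'.κ (a.1.2 * b.1.2) = 0
        rw [C.κ_mul a.1.1 b.1.1 ha.1 hb.1,
          C'.κ_mul a.1.2 b.1.2 ((hπ' a).trans ha.1) ((hπ' b).trans hb.1),
          add_add_add_comm, ha.2, hb.2, add_zero]
      inv_mem' := fun {a} ha => by
        refine ⟨by rw [map_inv, ha.1, inv_one], ?_⟩
        show C.κ a.1.1⁻¹ + C'.κ a.1.2⁻¹ = 0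
        rw [κ_inv C (m := a.1.1) ha.1, κ_inv C' (m := a.1.2) ((hπ' a).trans ha.1)]
        exact ha.2 }
  haveI hΔ : Δ.Normal := by
    constructor
    intro n hn g
    refine ⟨by rw [map_mul, map_mul, hn.1, mul_one, map_inv, mul_inv_cancel], ?_⟩
    show C.κ (g.1.1 * n.1.1 * g.1.1⁻¹) + C'.κ (g.1.2 * n.1.2 * g.1.2⁻¹) = 0
    rw [C.κ_conj g.1.1 n.1.1 hn.1, C'.κ_conj g.1.2 n.1.2 ((hπ' n).trans hn.1), hCC,
      show C'.σ g.1.2 = C.σ g.1.1 from hπ' g, ← Matrix.mulVec_add, hn.2, Matrix.mulVec_zero]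
  let σD : P ⧸ Δ →* ↥H := QuotientGroup.lift Δ π fun x hx => MonoidHom.mem_ker.2 hx.1
  let κD : P ⧸ Δ → Vec := fun q => C.κ q.out.1.1 + C'.κ q.out.1.2
  have hκD : ∀ x : P, π x = 1 → κD (QuotientGroup.mk x) = C.κ x.1.1 + C'.κ x.1.2 := by
    intro x hx
    obtain ⟨⟨d, hd⟩, he⟩ := QuotientGroup.mk_out_eq_mul Δ x
    show C.κ _ + C'.κ _ = _
    rw [he]
    show C.κ (x.1.1 * d.1.1) + C'.κ (x.1.2 * d.1.2) = _
    rw [C.κ_mul x.1.1 d.1.1 hx hd.1, C'.κ_mul x.1.2 d.1.2 ((hπ' x).trans hx) ((hπ' d).trans hd.1),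
      add_add_add_comm, hd.2, add_zero]
  have hsurjD : Function.Surjective σD := fun g =>
    ⟨QuotientGroup.mk (⟨(Lf g, Lf' g), show C.σ (Lf g) = C'.σ (Lf' g) by rw [hLf, hLf']⟩ : P), hLf g⟩
  let D : Chart (P ⧸ Δ) ↥H :=
    { σ := σD, surj := hsurjD, act := C.act, κ := κD
      κ_mul := by
        intro m n hm hn
        obtain ⟨x, rfl⟩ := QuotientGroup.mk_surjective m
        obtain ⟨y, rfl⟩ := QuotientGroup.mk_surjective n
        have hx : π x = 1 := hm
        have hy : π y = 1 := hn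
        rw [← QuotientGroup.mk_mul, hκD _ (by rw [map_mul, hx, hy, one_mul]), hκD _ hx, hκD _ hy]
        show C.κ (x.1.1 * y.1.1) + C'.κ (x.1.2 * y.1.2) = _
        rw [C.κ_mul x.1.1 y.1.1 hx hy, C'.κ_mul x.1.2 y.1.2 ((hπ' x).trans hx) ((hπ' y).trans hy),
          add_add_add_comm]
      κ_inj := by
        intro m hm h0
        obtain ⟨x, rfl⟩ := QuotientGroup.mk_surjective m
        exact (QuotientGroup.eq_one_iff x).2 ⟨hm, (hκD x hm) ▸ h0⟩
      κ_surj := by
        intro c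
        obtain ⟨m, hm, hk⟩ := C.κ_surj c
        refine ⟨QuotientGroup.mk (⟨(m, 1), show C.σ m = C'.σ 1 by rw [hm, map_one]⟩ : P), hm, ?_⟩
        rw [hκD _ hm]
        show C.κ m + C'.κ 1 = c
        rw [κ_one, add_zero, hk]
      κ_conj := by
        intro g m hm
        obtain ⟨x, rfl⟩ := QuotientGroup.mk_surjective m
        obtain ⟨y, rfl⟩ := QuotientGroup.mk_surjective g
        have hx : π x = 1 := hm
        rw [← QuotientGroup.mk_mul, ← QuotientGroup.mk_inv, ← QuotientGroup.mk_mul,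
          hκD _ (by rw [map_mul, map_mul, hx, mul_one, map_inv, mul_inv_cancel]), hκD _ hx]
        show C.κ (y.1.1 * x.1.1 * y.1.1⁻¹) + C'.κ (y.1.2 * x.1.2 * y.1.2⁻¹) = C.act (C.σ y.1.1) *ᵥ _
        rw [C.κ_conj y.1.1 x.1.1 hx, C'.κ_conj y.1.2 x.1.2 ((hπ' x).trans hx), hCC,
          show C'.σ y.1.2 = C.σ y.1.1 from hπ' y, Matrix.mulVec_add] }
  let LD : ↥H → P ⧸ Δ := fun g =>
    QuotientGroup.mk (⟨(Lf g, Lf' g), show C.σ (Lf g) = C'.σ (Lf' g) by rw [hLf, hLf']⟩ : P)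
  have hLD : ∀ g, D.σ (LD g) = g := fun g => hLf g
  have hlam : lamVal M K D LD = 0 := by
    have hsum : lamVal M K D LD = lamVal M K C Lf + lamVal M K C' Lf' := by
      have hs := hc.shape
      simp only [Cert.shapeOK, Bool.and_eq_true, Nat.blt_eq] at hs
      have hlt := hs.1.1.2
      unfold lamVal val
      rw [← Finset.sum_add_distrib]
      refine Finset.sum_congr rfl fun i _ => ?_
      by_cases hi : i < 11 * K.R
      · rw [← mul_add]
        refine congrArg (bz (K.lam.testBit i) * ·) ?_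
        have hw : i / 11 < K.D.rels.length := by
          have : 11 * (i / 11) ≤ i := Nat.mul_div_le i 11
          have hR : K.R = K.D.rels.length := rfl
          omega
        obtain ⟨L, -⟩ := lifts_ok hLf hact hc
        have hrel := L.rel _ hw
        show nu K D _ _ i = nu K C _ _ i + nu K C' _ _ i
        simp only [nu, if_pos hi]
        set W := K.D.rels.getD (i / 11) []
        have hp : ∀ l : List ℕ, ∃ hmem : C.σ (wprod (lift M K Lf) l) = C'.σ (wprod (lift M K Lf') l),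
            wprod (lift M K LD) l = QuotientGroup.mk (⟨(wprod (lift M K Lf) l, wprod (lift M K Lf') l), hmem⟩ : P) := by
          intro l
          induction l with
          | nil => exact ⟨by simp [wprod], by simp only [wprod, List.map_nil, List.prod_nil]; rfl⟩
          | cons a l ih =>
            obtain ⟨hm, e⟩ := ih
            refine ⟨by rw [wprod_cons, wprod_cons, map_mul, map_mul, hm, σ_lift hLf, σ_lift hLf'], ?_⟩
            rw [wprod_cons, e]
            show (QuotientGroup.mk _ : P ⧸ Δ) * QuotientGroup.mk _ = _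
            rw [← QuotientGroup.mk_mul]
            refine congrArg _ (Subtype.ext (Prod.ext ?_ ?_))
            · exact (wprod_cons (lift M K Lf) a l).symm
            · exact (wprod_cons (lift M K Lf') a l).symm
        obtain ⟨hm, e⟩ := hp W
        show D.κ (wprod (lift M K LD) W) _ = _
        rw [e]
        exact congrFun (hκD _ hrel) _
      · rw [Nat.testBit_lt_two_pow (hlt.trans_le (Nat.pow_le_pow_right (by norm_num) (by omega)))]
        show (0 : F2) * _ = 0 * _ + 0 * _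
        rw [zero_mul, zero_mul, zero_mul, add_zero]
    rw [hsum, h]
    exact CharTwo.add_self_eq_zero _
  obtain ⟨Hc, hbot, htop⟩ := split_of_lamVal hLD (C := D) hact hc hlam hodd hdvd
  let Hp : Subgroup P := Hc.comap (QuotientGroup.mk' Δ)
  have hkill : ∀ x ∈ Hp, π x = 1 → C.κ x.1.1 + C'.κ x.1.2 = 0 := by
    intro x hx h1
    have : (QuotientGroup.mk x : P ⧸ Δ) ∈ Hc ⊓ D.σ.ker := ⟨hx, h1⟩
    rw [hbot, Subgroup.mem_bot, QuotientGroup.eq_one_iff] at this
    exact this.2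
  let f : Hp →* Γ := (MonoidHom.fst Γ Γ').comp (P.subtype.comp Hp.subtype)
  let f' : Hp →* Γ' := (MonoidHom.snd Γ Γ').comp (P.subtype.comp Hp.subtype)
  have lift_mem : ∀ g : ↥H, ∃ x : P, x ∈ Hp ∧ π x = g := by
    intro g
    obtain ⟨d, hd⟩ := hsurjD g
    have hdm : d ∈ Hc ⊔ D.σ.ker := htop ▸ Subgroup.mem_top d
    rw [← SetLike.mem_coe, Subgroup.mul_normal, Set.mem_mul] at hdm
    obtain ⟨a, ha, b, hb, rfl⟩ := hdm
    obtain ⟨x, rfl⟩ := QuotientGroup.mk_surjective a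
    refine ⟨x, ha, ?_⟩
    rw [← hd, map_mul, show σD b = 1 from hb, mul_one]
    rfl
  have hf : Function.Bijective f := by
    constructor
    · rw [injective_iff_map_eq_one]
      intro x hx
      have h1 : x.1.1.1 = 1 := hx
      have hπ : π x.1 = 1 := by show C.σ x.1.1.1 = 1; rw [h1, map_one]
      have h2 := hkill x.1 x.2 hπ
      rw [h1, κ_one, zero_add] at h2
      exact Subtype.ext (Subtype.ext (Prod.ext h1 (C'.κ_inj _ ((hπ' _).trans hπ) h2)))
    · intro e
      obtain ⟨x, hx, hg⟩ := lift_mem (C.σ e)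
      have hx' : C.σ x.1.1 = C.σ e := hg
      have hk : C.σ (x.1.1⁻¹ * e) = 1 := by rw [map_mul, map_inv, hx', inv_mul_cancel]
      obtain ⟨m', hm', hk'⟩ := C'.κ_surj (C.κ (x.1.1⁻¹ * e))
      let z : P := ⟨(x.1.1⁻¹ * e, m'), show C.σ (x.1.1⁻¹ * e) = C'.σ m' by rw [hk, hm']⟩
      have hz : z ∈ Δ := ⟨hk, by show C.κ (x.1.1⁻¹ * e) + C'.κ m' = 0; rw [hk']; exact vec_add_self _⟩
      refine ⟨⟨x * z, ?_⟩, mul_inv_cancel_left _ _⟩
      show (QuotientGroup.mk (x * z) : P ⧸ Δ) ∈ Hc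
      rw [QuotientGroup.mk_mul, (QuotientGroup.eq_one_iff z).2 hz, mul_one]
      exact hx
  have hf' : Function.Bijective f' := by
    constructor
    · rw [injective_iff_map_eq_one]
      intro x hx
      have h1 : x.1.1.2 = 1 := hx
      have hπ : π x.1 = 1 := by rw [← hπ', h1, map_one]
      have h2 := hkill x.1 x.2 hπ
      rw [h1, κ_one, add_zero] at h2
      exact Subtype.ext (Subtype.ext (Prod.ext (C.κ_inj _ hπ h2) h1))
    · intro e
      obtain ⟨x, hx, hg⟩ := lift_mem (C'.σ e)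
      have hx' : C'.σ x.1.2 = C'.σ e := (hπ' x).trans hg
      have hk : C'.σ (x.1.2⁻¹ * e) = 1 := by rw [map_mul, map_inv, hx', inv_mul_cancel]
      obtain ⟨m, hm, hk'⟩ := C.κ_surj (C'.κ (x.1.2⁻¹ * e))
      let z : P := ⟨(m, x.1.2⁻¹ * e), show C.σ m = C'.σ (x.1.2⁻¹ * e) by rw [hk, hm]⟩
      have hz : z ∈ Δ := ⟨hm, by show C.κ m + C'.κ (x.1.2⁻¹ * e) = 0; rw [hk']; exact vec_add_self _⟩
      refine ⟨⟨x * z, ?_⟩, mul_inv_cancel_left _ _⟩
      show (QuotientGroup.mk (x * z) : P ⧸ Δ) ∈ Hc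
      rw [QuotientGroup.mk_mul, (QuotientGroup.eq_one_iff z).2 hz, mul_one]
      exact hx
  exact ⟨(MulEquiv.ofBijective f hf).symm.trans (MulEquiv.ofBijective f' hf')⟩

end CfsgLib.Sporadic.ExtSplit
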