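import Cfsg.Agent.Lib.Sporadic.ExtensionForms
import Cfsg.Agent.Lib.Sporadic.MultiplierEngine

/-!
# Relator values of lifts in an extension by `F₂¹¹`

Over a table of a finite group on generators, the values of the relators on chosen lifts determine
every edge, so the consistency of the edges and the conjugations between subgroups give linear
equations satisfied by those values in every extension.
-/

set_option autoImplicit false

namespace CfsgLib.Sporadic.ExtSplit

open Matrix CfsgLib.Sporadic.Mult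

/-- Coordinates on the kernel of an extension. -/
structure Chart (Γ G : Type*) [Group Γ] [Group G] where
  σ : Γ →* G
  surj : Function.Surjective σ
  act : G → Matrix (Fin 11) (Fin 11) F2
  κ : Γ → Vec
  κ_mul : ∀ m n, σ m = 1 → σ n = 1 → κ (m * n) = κ m + κ n
  κ_inj : ∀ m, σ m = 1 → κ m = 0 → m = 1
  κ_surj : ∀ c, ∃ m, σ m = 1 ∧ κ m = c
  κ_conj : ∀ g m, σ m = 1 → κ (g * m * g⁻¹) = act (σ g) *ᵥ κ m

/-- A table with the forms on its edges. -/
structure Ext where
  N : ℕ
  k : ℕ
  next : List ℕ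
  word : List (List ℕ)
  tree : List (ℕ × ℕ)
  rels : List (List ℕ)
  rv : List ℕ
  ai : List (List ℕ)
  defect : List ℕ
  steps : List (ℕ × ℕ × ℕ)

namespace Ext

variable (D : Ext)

def tab : Table := ⟨D.N, D.k, D.next, D.word, D.tree, D.rels, D.steps⟩

def d (p i : ℕ) : ℕ := D.defect.getD (p * D.k + i) 0

def stp (i : ℕ) (F : ℕ) : ℕ := app (D.ai.getD i []) F

/-- Follow a word. -/
def runF : ℕ → ℕ → List ℕ → ℕ × ℕ
  | p, F, [] => (p, F)
  | p, F, i :: l => runF (D.tab.nx p i) (Nat.xor (D.d p i) (D.stp i F)) l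

/-- Follow a word of known edges. -/
def runK (m : ℕ) : ℕ → ℕ → List ℕ → Option (ℕ × ℕ)
  | p, F, [] => some (p, F)
  | p, F, i :: l =>
    cond (D.tab.mem m (p, i)) (runK m (D.tab.nx p i) (Nat.xor (D.d p i) (D.stp i F)) l) none

/-- Follow a word with kernel elements inserted after some letters. -/
def runN : ℕ → ℕ → List (ℕ × ℕ) → ℕ × ℕ
  | p, F, [] => (p, F)
  | p, F, (i, X) :: l => runN (D.tab.nx p i) (Nat.xor (Nat.xor (D.d p i) (D.stp i F)) X) l

def step (st : Option ℕ) (e : ℕ × ℕ × ℕ) : Option ℕ :=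
  match st with
  | none => none
  | some m =>
    let W := D.rels.getD e.1 []
    match D.runK m e.2.1 0 (W.take e.2.2) with
    | none => none
    | some (v, F) =>
      match W.drop e.2.2 with
      | [] => none
      | i :: l =>
        match D.runK m (D.tab.nx v i) (Nat.xor (D.d v i) (D.stp i F)) l with
        | none => none
        | some (u, H) =>
          cond (Nat.beq u e.2.1 && Nat.beq H (D.rv.getD e.1 0)) (some (D.tab.put m (v, i))) none

/-- All checks on a table with forms. -/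
def ok : Bool :=
  decide (0 < D.N) && decide (D.tab.wd 0 = []) &&
  (D.tree.all fun e => decide (e.2 < D.k) && decide (D.tab.wd (D.tab.nx e.1 e.2) = D.tab.wd e.1 ++ [e.2]) &&
    Nat.beq (D.d e.1 e.2) 0) &&
  ((List.range D.N).all fun p => (List.range D.k).all fun i => decide (D.tab.nx p i < D.N)) &&
  ((List.range D.k).all fun i => matOK (D.ai.getD i [])) &&
  (D.rels.all fun W => W.all fun i => decide (i < D.k)) &&
  ((List.range D.N).all fun p => (D.tab.wd p).all fun i => decide (i < D.k)) &&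
  match D.steps.foldl D.step (some D.tab.treeMask) with
  | none => false
  | some m => D.tab.full m

end Ext

variable {Γ G : Type*} [Group Γ] [Group G] (C : Chart Γ G) (D : Ext) (T : ℕ → Γ) (ν : ℕ → F2)

/-- An element is a table element times a kernel element with the given coordinates. -/
def Pr (p F : ℕ) (X : Γ) : Prop :=
  ∃ m, C.σ m = 1 ∧ C.κ m = ev ν F ∧ X = wprod T (D.tab.wd p) * m

def Edge (p i : ℕ) : Prop := Pr C D T ν (D.tab.nx p i) (D.d p i) (wprod T (D.tab.wd p) * T i)

/-- What is assumed of the lifts. -/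
structure Lifts : Prop where
  act_eq : ∀ i < D.k, C.act ((C.σ (T i))⁻¹) = mat (D.ai.getD i [])
  matOK : ∀ i < D.k, ExtSplit.matOK (D.ai.getD i []) = true
  rel : ∀ w < D.rels.length, C.σ (wprod T (D.rels.getD w [])) = 1
  rel_val : ∀ w < D.rels.length, C.κ (wprod T (D.rels.getD w [])) = ev ν (D.rv.getD w 0)

variable {C D T ν}

theorem κ_one : C.κ 1 = 0 := by
  have h := C.κ_mul 1 1 (map_one _) (map_one _)
  rw [one_mul] at h
  exact left_eq_add.1 h

theorem pr_wd (p : ℕ) : Pr C D T ν p 0 (wprod T (D.tab.wd p)) :=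
  ⟨1, map_one _, by rw [κ_one, ev_zero], (mul_one _).symm⟩

theorem pr_mul_ker {p F H : ℕ} {X n : Γ} (h : Pr C D T ν p F X) (hn : C.σ n = 1) (hv : C.κ n = ev ν H) :
    Pr C D T ν p (Nat.xor F H) (X * n) := by
  obtain ⟨m, h1, h2, rfl⟩ := h
  exact ⟨m * n, by rw [map_mul, h1, hn, one_mul], by rw [C.κ_mul _ _ h1 hn, h2, hv, ev_xor], mul_assoc _ _ _⟩

theorem pr_step (L : Lifts C D T ν) {p F i : ℕ} {X : Γ} (hi : i < D.k) (h : Pr C D T ν p F X)
    (he : Edge C D T ν p i) :
    Pr C D T ν (D.tab.nx p i) (Nat.xor (D.d p i) (D.stp i F)) (X * T i) := by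
  obtain ⟨m, h1, h2, rfl⟩ := h
  have hc : C.σ ((T i)⁻¹ * m * T i) = 1 := by rw [map_mul, map_mul, h1, mul_one, map_inv, inv_mul_cancel]
  have hk : C.κ ((T i)⁻¹ * m * T i) = ev ν (D.stp i F) := by
    have := C.κ_conj (T i)⁻¹ m h1
    rw [inv_inv] at this
    rw [this, map_inv, L.act_eq i hi, h2, Ext.stp, ev_app ν (L.matOK i hi)]
  have := pr_mul_ker he hc hk
  rwa [show wprod T (D.tab.wd p) * T i * ((T i)⁻¹ * m * T i) = wprod T (D.tab.wd p) * m * T i by group] at this

theorem runK_sound (L : Lifts C D T ν) {m : ℕ} (hm : ∀ p i, D.tab.mem m (p, i) = true → Edge C D T ν p i) :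
    ∀ (l : List ℕ) (p F : ℕ) (X : Γ) (v H : ℕ), Pr C D T ν p F X → D.runK m p F l = some (v, H) →
      Pr C D T ν v H (X * wprod T l) := by
  intro l
  induction l with
  | nil =>
    intro p F X v H h e
    simp only [Ext.runK, Option.some.injEq, Prod.mk.injEq] at e
    obtain ⟨rfl, rfl⟩ := e
    simpa [wprod] using h
  | cons i l ih =>
    intro p F X v H h e
    rw [Ext.runK] at e
    cases hb : D.tab.mem m (p, i)
    · rw [hb, cond_false] at e; simp at e
    · rw [hb, cond_true] at e
      have hi : i < D.k := by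
        simp only [Table.mem, Bool.and_eq_true, decide_eq_true_eq] at hb
        exact hb.1
      rw [wprod_cons, ← mul_assoc]
      exact ih _ _ _ _ _ (pr_step L hi h (hm p i hb)) e

theorem mem_put {D : Table} {m : ℕ} {p i q j : ℕ} (h : D.mem (D.put m (p, i)) (q, j) = true) :
    D.mem m (q, j) = true ∨ (q = p ∧ j = i) := by
  unfold Table.put at h
  by_cases hi : i < D.k
  · rw [if_pos (by exact hi)] at h
    simp only [Table.mem, Bool.and_eq_true, decide_eq_true_eq, Nat.testBit_or, Bool.or_eq_true,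
      Nat.testBit_two_pow] at h
    obtain ⟨hj, h | h⟩ := h
    · exact Or.inl (by simp [Table.mem, hj, h])
    · simp only [Table.bit] at h
      have h1 : i = j := by
        have := congrArg (· % D.k) h
        simpa [Nat.mul_add_mod', Nat.mod_eq_of_lt hi, Nat.mod_eq_of_lt hj] using this
      subst h1
      exact Or.inr ⟨(Nat.eq_of_mul_eq_mul_right (by omega) (Nat.add_right_cancel h)).symm, rfl⟩
  · rw [if_neg (by exact hi)] at h
    exact Or.inl h

theorem step_sound (L : Lifts C D T ν) {m m' : ℕ} (hm : ∀ p i, D.tab.mem m (p, i) = true → Edge C D T ν p i)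
    {e : ℕ × ℕ × ℕ} (hr : ∀ j ∈ D.rels.getD e.1 [], j < D.k) (hs : D.step (some m) e = some m') :
    ∀ p i, D.tab.mem m' (p, i) = true → Edge C D T ν p i := by
  simp only [Ext.step] at hs
  split at hs
  · simp at hs
  rename_i v F hv
  split at hs
  · simp at hs
  rename_i i l hdrop
  split at hs
  · simp at hs
  rename_i u H hu
  cases hb : (Nat.beq u e.2.1 && Nat.beq H (D.rv.getD e.1 0))
  · rw [hb] at hs; simp at hs
  rw [hb, cond_true, Option.some.injEq] at hs
  simp only [Bool.and_eq_true, Nat.beq_eq] at hb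
  obtain ⟨rfl, rfl⟩ := hb
  subst hs
  intro p j hpj
  rcases mem_put hpj with h | ⟨rfl, rfl⟩
  · exact hm _ _ h
  have hw : e.1 < D.rels.length := by
    by_contra hlt
    rw [List.getD_eq_default _ _ (by omega)] at hdrop
    simp at hdrop
  set W := D.rels.getD e.1 [] with hWdef
  have hi : j < D.k := hr _ (List.mem_of_mem_drop (by rw [hdrop]; exact List.mem_cons_self))
  obtain ⟨m1, hm1, hk1, hX1⟩ := runK_sound L hm _ _ _ _ _ _ (pr_wd e.2.1) hv
  obtain ⟨md, hmd, hkd⟩ := C.κ_surj (ev ν (D.d p j))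
  refine ⟨md, hmd, hkd, ?_⟩
  have hc : C.σ ((T j)⁻¹ * m1 * T j) = 1 := by rw [map_mul, map_mul, hm1, mul_one, map_inv, inv_mul_cancel]
  have hk : C.κ ((T j)⁻¹ * m1 * T j) = ev ν (D.stp j F) := by
    have := C.κ_conj (T j)⁻¹ m1 hm1
    rw [inv_inv] at this
    rw [this, map_inv, L.act_eq j hi, hk1, Ext.stp, ev_app ν (L.matOK j hi)]
  obtain ⟨m2, hm2, hk2, hX2⟩ := runK_sound L hm _ _ _ _ _ _
    (pr_mul_ker (⟨md, hmd, hkd, rfl⟩ : Pr C D T ν (D.tab.nx p j) (D.d p j)
      (wprod T (D.tab.wd (D.tab.nx p j)) * md)) hc hk) hu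
  have hmW : m2 = wprod T W := by
    have h0 : C.σ (m2 * (wprod T W)⁻¹) = 1 := by rw [map_mul, hm2, map_inv, L.rel _ hw, inv_one, one_mul]
    have h1 := C.κ_mul _ _ h0 (L.rel _ hw)
    rw [inv_mul_cancel_right, hk2, L.rel_val _ hw] at h1
    exact mul_inv_eq_one.1 (C.κ_inj _ h0 (right_eq_add.1 h1))
  rw [hmW] at hX2
  have hX1' : wprod T (D.tab.wd e.2.1) * wprod T W = wprod T (D.tab.wd p) * m1 * T j * wprod T l := by
    conv_lhs => rw [← List.take_append_drop e.2.2 W, wprod_append, hdrop, wprod_cons]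
    rw [← hX1]
    simp only [mul_assoc]
  rw [hX1'] at hX2
  have h := mul_right_cancel hX2
  apply mul_right_cancel (b := (T j)⁻¹ * m1 * T j)
  rw [h]
  group

theorem all_edges (L : Lifts C D T ν) (hok : D.ok = true) :
    0 < D.N ∧ D.tab.wd 0 = [] ∧ (∀ W ∈ D.rels, ∀ i ∈ W, i < D.k) ∧
      (∀ p < D.N, ∀ i ∈ D.tab.wd p, i < D.k) ∧
      ∀ p < D.N, ∀ i < D.k, D.tab.nx p i < D.N ∧ Edge C D T ν p i := by
  simp only [Ext.ok, Bool.and_eq_true, decide_eq_true_eq, List.all_eq_true, List.mem_range, Nat.beq_eq] at hok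
  obtain ⟨⟨⟨⟨⟨⟨⟨hN, hw0⟩, htree⟩, hbound⟩, -⟩, hrels⟩, hwords⟩, hfin⟩ := hok
  have htree' : ∀ p i, D.tab.mem D.tab.treeMask (p, i) = true → Edge C D T ν p i := by
    have key : ∀ (l : List (ℕ × ℕ)) (m : ℕ), (∀ e ∈ l, e ∈ D.tree) →
        (∀ p i, D.tab.mem m (p, i) = true → Edge C D T ν p i) →
        ∀ p i, D.tab.mem (l.foldl D.tab.put m) (p, i) = true → Edge C D T ν p i := by
      intro l
      induction l with
      | nil => exact fun _ _ h => h
      | cons e l ih =>
        intro m hl h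
        refine ih _ (fun x hx => hl x (List.mem_cons_of_mem _ hx)) fun p i hpi => ?_
        rcases mem_put (p := e.1) (i := e.2) hpi with h' | ⟨rfl, rfl⟩
        · exact h _ _ h'
        obtain ⟨⟨-, hwd⟩, hd⟩ := htree e (hl e List.mem_cons_self)
        refine ⟨1, map_one _, by rw [κ_one, hd, ev_zero], ?_⟩
        rw [hwd, wprod_append, wprod_cons, mul_one]
        simp [wprod]
    exact key D.tree 0 (fun _ h => h) fun p i h => by simp [Table.mem] at h
  have hsteps : ∀ (l : List (ℕ × ℕ × ℕ)) (st : Option ℕ),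
      (∀ m, st = some m → ∀ p i, D.tab.mem m (p, i) = true → Edge C D T ν p i) →
      ∀ m, l.foldl D.step st = some m → ∀ p i, D.tab.mem m (p, i) = true → Edge C D T ν p i := by
    intro l
    induction l with
    | nil => exact fun _ h => h
    | cons e l ih =>
      intro st h
      refine ih _ fun m hm => ?_
      cases st with
      | none => simp [Ext.step] at hm
      | some m0 =>
        refine step_sound L (h m0 rfl) (fun j hj => ?_) hm
        by_cases hlt : e.1 < D.rels.length
        · rw [List.getD_eq_getElem _ _ hlt] at hj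
          exact hrels _ (List.getElem_mem hlt) j hj
        · rw [List.getD_eq_default _ _ (by omega)] at hj; simp at hj
  revert hfin
  cases hc : D.steps.foldl D.step (some D.tab.treeMask) with
  | none => simp
  | some m =>
    intro hfull
    have hm := hsteps _ _ (fun m' e => by cases e; exact htree') m hc
    refine ⟨hN, hw0, hrels, hwords, fun p hp i hi => ⟨hbound p hp i hi, hm p i ?_⟩⟩
    simp only [Table.full, List.all_eq_true, List.mem_range] at hfull
    exact hfull p hp i hi

theorem runF_sound (L : Lifts C D T ν) (hok : D.ok = true) :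
    ∀ (l : List ℕ) (p F : ℕ) (X : Γ), (∀ i ∈ l, i < D.k) → p < D.N → Pr C D T ν p F X →
      Pr C D T ν (D.runF p F l).1 (D.runF p F l).2 (X * wprod T l) := by
  obtain ⟨-, -, -, -, he⟩ := all_edges L hok
  intro l
  induction l with
  | nil => intro p F X _ _ h; simpa [Ext.runF, wprod] using h
  | cons i l ih =>
    intro p F X hl hp h
    have hi := hl i List.mem_cons_self
    rw [Ext.runF, wprod_cons, ← mul_assoc]
    exact ih _ _ _ (fun j hj => hl j (List.mem_cons_of_mem _ hj)) (he p hp i hi).1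
      (pr_step L hi h (he p hp i hi).2)

/-- Lifts changed by kernel elements. -/
theorem runN_sound (L : Lifts C D T ν) (hok : D.ok = true) :
    ∀ (l : List (ℕ × ℕ)) (p F : ℕ) (X : Γ) (Y : List Γ), p < D.N → Pr C D T ν p F X →
      List.Forall₂ (fun e y => e.1 < D.k ∧ ∃ n, C.σ n = 1 ∧ C.κ n = ev ν e.2 ∧ y = T e.1 * n) l Y →
      Pr C D T ν (D.runN p F l).1 (D.runN p F l).2 (X * Y.prod) := by
  obtain ⟨-, -, -, -, he⟩ := all_edges L hok
  intro l
  induction l with
  | nil => intro p F X Y _ h hY; cases hY; simpa [Ext.runN] using h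
  | cons e l ih =>
    intro p F X Y hp h hY
    cases hY with
    | cons h1 h2 =>
      obtain ⟨hi, n, hn, hk, rfl⟩ := h1
      obtain ⟨i, H⟩ := e
      rw [Ext.runN, List.prod_cons, ← mul_assoc, ← mul_assoc]
      exact ih _ _ _ _ (he p hp i hi).1 (pr_mul_ker (pr_step L hi h (he p hp i hi).2) hn hk) h2

/-- At the base point the kernel element is the product itself. -/
theorem pr_base (L : Lifts C D T ν) (hok : D.ok = true) {F : ℕ} {X : Γ} (h : Pr C D T ν 0 F X) :
    C.σ X = 1 ∧ C.κ X = ev ν F := by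
  obtain ⟨m, h1, h2, rfl⟩ := h
  rw [(all_edges L hok).2.1]
  simp [wprod, h1, h2]

end CfsgLib.Sporadic.ExtSplit
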