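import Cfsg.Prelude.Def_Spor_Conway
import Cfsg.Prelude.Def_KGroupFacts
import Cfsg.Agent.Lib.Sporadic.ConwayKeys
import Cfsg.Agent.Lib.Sporadic.ConwayHsInvolution
import Cfsg.Agent.Lib.Sporadic.MultHs.Checks
import Cfsg.Agent.Lib.Sporadic.MultHs.Points
import Cfsg.Agent.Lib.Schur.SpinWitness

/-!
# The Schur multiplier of the Higman-Sims group has order two

A chain of coset tables bounds the kernel of a stem extension; the double cover of the symmetric group of
degree 100 pulls back to a non-split extension, as an involution moves all hundred points.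
-/

set_option autoImplicit false
set_option maxRecDepth 100000

namespace CfsgLib.Sporadic.HsMult

open Cfsg CfsgLib.ThreeTrans.Leech CfsgLib.Sporadic.Lattice CfsgLib.Sporadic.Conway
open CfsgLib.Schur.Cert (pgetN RepN)
open scoped Pointwise

attribute [local irreducible] OTree.entries hsHundredTree

theorem keys_eq : hsHundredTree.entries.map Prod.fst = MultHs.keys := by decide +kernel

theorem keys_len : MultHs.keys.length = 100 := by decide +kernel

theorem exists_numbered_hs : Nonempty (Numbered [fiveElt, hsElt] [(fiveElt, (24 : ℤ)), (hsElt, -24)] MultHs.keys 100) := by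
  have h := exists_numbered (f := [fiveElt, hsElt]) (ks := [(fiveElt, (24 : ℤ)), (hsElt, -24)]) (by simp)
    hundred_set.2.2 keys_eq (hundred_set.1.trans keys_len.symm)
  rwa [keys_len] at h

noncomputable def num : Numbered [fiveElt, hsElt] [(fiveElt, (24 : ℤ)), (hsElt, -24)] MultHs.keys 100 :=
  exists_numbered_hs.some

/-- The action on the hundred numbers. -/
noncomputable def act : ↥(fixGroup [fiveElt, hsElt]) →* Equiv.Perm (Fin 100) := num.toPermN

theorem act_injective : Function.Injective act := num.injective_of fun g hg h => by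
  have hm : g ∈ pointKernel := ⟨hg, h⟩
  rcases hs_normIn pointKernel_normIn with e | e
  · rwa [e, Subgroup.mem_bot] at hm
  · exfalso
    obtain ⟨a, a5, ah, -, hfree⟩ := free_involution
    have ha : a ∈ pointKernel := e ▸ mem_fixGroup.2 fun v hv => by
      simp at hv
      rcases hv with rfl | rfl
      · exact a5
      · exact ah
    exact hfree hsPt hsPt_mem (ha.2 hsPt hsPt_mem)

theorem words_check : (forallLt 2 fun j => Numbered.wordOK [kFive, kHs] MultHs.keys 100 (MultHs.genWords.getD j [])
      ((chainPerm MultHs.chain).getD j 0)) = true ∧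
    Numbered.wordOK [kFive, kHs] MultHs.keys 100 MultHs.swapWord MultHs.swapPerm = true := by
  decide +kernel

theorem chain_check : (chainPerm MultHs.chain).length = 2 ∧ chainGen MultHs.chain = 2 ∧
    chainSize MultHs.chain = 44352000 ∧ MultHs.lin.bound = 2 := by
  decide +kernel

theorem card_ker_le {Γ : Type*} [Group Γ] [Finite Γ] (σ : Γ →* ↥(fixGroup [fiveElt, hsElt]))
    (hσ : Cfsg.IsStemExtension σ) : Nat.card σ.ker ≤ 2 := by
  obtain ⟨hlen, hgen, hsize, hbound⟩ := chain_check
  have : Finite ↥(fixGroup [fiveElt, hsElt]) := Nat.finite_of_card_ne_zero (by rw [card_fix_hs]; norm_num)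
  rw [← hbound]
  exact CfsgLib.Schur.Cert.card_ker_le_of_chainN act act_injective MultHs.chain MultHs.lin MultHs.rows 2
    (fun j hj => num.exists_repN rfl (forallLt_elim words_check.1 hj))
    hlen hgen MultHs.perms_check MultHs.rows_check.1 MultHs.tables_check
    (MultHs.rows_check.2.trans (by decide +kernel)) (card_fix_hs.trans hsize.symm) MultHs.lin_check σ hσ

theorem swap_check : (forallLt 100 fun i => Nat.beq (pgetN MultHs.swapPerm (pgetN MultHs.swapPerm i)) i) = true ∧
    (MultHs.swapPairs.flatMap fun e => [e.1, e.2]).Nodup ∧ MultHs.swapPairs.length = 50 ∧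
    ∀ i : Fin 100, (CfsgLib.Schur.SpinWitness.sprod MultHs.swapPairs i : ℕ) = pgetN MultHs.swapPerm i := by
  decide +kernel

theorem exists_stem : ∃ (Γ : Type) (_ : Group Γ) (_ : Finite Γ) (τ : Γ →* ↥(fixGroup [fiveElt, hsElt])),
    Cfsg.IsStemExtension τ ∧ Nat.card τ.ker = 2 := by
  have : Finite ↥(fixGroup [fiveElt, hsElt]) := Nat.finite_of_card_ne_zero (by rw [card_fix_hs]; norm_num)
  have hperf : commutator ↥(fixGroup [fiveElt, hsElt]) = ⊤ := by
    have hs := simple_hs
    refine (IsSimpleGroup.eq_bot_or_eq_top_of_normal (commutator _) inferInstance).resolve_left fun h => ?_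
    have hab : ∀ u v : ↥(fixGroup [fiveElt, hsElt]), u * v = v * u := fun u v => by
      refine commutatorElement_eq_one_iff_mul_comm.mp ?_
      have := Subgroup.commutator_mem_commutator (Subgroup.mem_top u) (Subgroup.mem_top v)
      rwa [← commutator_def, h, Subgroup.mem_bot] at this
    let _ : CommGroup ↥(fixGroup [fiveElt, hsElt]) :=
      { (inferInstance : Group ↥(fixGroup [fiveElt, hsElt])) with mul_comm := hab }
    have hp := IsSimpleGroup.prime_card (α := ↥(fixGroup [fiveElt, hsElt]))
    rw [card_fix_hs] at hp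
    norm_num at hp
  obtain ⟨hsq, hnd, hlen, hprod⟩ := swap_check
  obtain ⟨b, hb⟩ := num.exists_repN rfl words_check.2
  refine CfsgLib.Schur.SpinWitness.exists_stem_two act hperf (b := b) (act_injective (Equiv.ext fun i => Fin.ext ?_))
    (l := MultHs.swapPairs) hnd (by rw [hlen]; decide) (Equiv.ext fun i => Fin.ext ?_)
  · show ((act (b * b)) i : ℕ) = act 1 i
    rw [map_mul, map_one, Equiv.Perm.mul_apply, Equiv.Perm.one_apply]
    show ((num.toPermN b) ((num.toPermN b) i) : ℕ) = i
    rw [← hb, ← hb]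
    exact Nat.eq_of_beq_eq_true (forallLt_elim hsq i.2)
  · rw [hprod]
    exact (hb i).symm

theorem multiplier_fix : Cfsg.HasCyclicSchurMultiplier ↥(fixGroup [fiveElt, hsElt]) 2 := by
  obtain ⟨Γ, _, _, τ, hτ, hcard⟩ := exists_stem
  have : Finite ↥(fixGroup [fiveElt, hsElt]) := Nat.finite_of_card_ne_zero (by rw [card_fix_hs]; norm_num)
  have : Fact (Nat.Prime 2) := ⟨Nat.prime_two⟩
  have : IsCyclic τ.ker := isCyclic_of_prime_card hcard
  refine CfsgLib.Schur.hasSchurMultiplier_of_witness τ hτ
    (mulEquivOfCyclicCardEq (by rw [hcard]; simp)) fun Δ _ _ σ hσ => ?_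
  simpa using card_ker_le σ hσ

theorem leechV_eq : Spor.leechV = -fiveElt := by
  refine Subtype.ext ?_
  rw [NegMemClass.coe_neg]
  show Spor.vecV = -pv kFive
  decide +kernel

theorem leechU'_eq : Spor.leechU' = hsElt + fiveElt := by
  refine Subtype.ext ?_
  rw [AddSubgroup.coe_add]
  show Spor.vecU' = pv kHs + pv kFive
  decide +kernel

theorem fix_iff (g : ↥Co0) : g ∈ fixGroup [fiveElt, hsElt] ↔
    g • Spor.leechV = Spor.leechV ∧ g • Spor.leechU' = Spor.leechU' := by
  have hn : ∀ x : ↥leechLattice, g • (-x) = -(g • x) := smul_neg' g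
  have ha : ∀ x y : ↥leechLattice, g • (x + y) = g • x + g • y := map_add (linOf g)
  rw [mem_fixGroup, leechV_eq, leechU'_eq, hn, ha, neg_inj]
  simp only [List.forall_mem_cons]
  constructor
  · rintro ⟨h1, h2, -⟩; exact ⟨h1, by rw [h1, h2]⟩
  · rintro ⟨h1, h2⟩
    rw [h1] at h2
    exact ⟨h1, add_right_cancel h2, by simp⟩

/-- The group as defined is the common stabiliser. -/
def sporEquiv : ↥(fixGroup [fiveElt, hsElt]) ≃* ↥Spor.HS where
  toFun g := ⟨g.1.1, ⟨g.1.2, ((fix_iff g.1).1 g.2).1⟩, ((fix_iff g.1).1 g.2).2⟩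
  invFun g := ⟨⟨g.1, g.2.1.1⟩, (fix_iff _).2 ⟨g.2.1.2, g.2.2⟩⟩
  left_inv g := rfl
  right_inv g := rfl
  map_mul' a b := rfl

end CfsgLib.Sporadic.HsMult
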