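import Cfsg.Agent.Lib.Sporadic.HsOutPointStab
import Cfsg.Agent.Lib.Sporadic.HsGraphAut
import Cfsg.Prelude.Def_Spor_Conway

/-!
# The outer automorphism group of HS

An automorphism permutes the 100 point stabilisers, hence induces an automorphism of the graph, in
which the simple group has index 2.
-/

set_option autoImplicit false

namespace CfsgLib.Sporadic.HsOut

open Cfsg MulAction CfsgLib.Sporadic CfsgLib.Sporadic.Conway CfsgLib.Sporadic.HsGraph
  CfsgLib.ThreeTrans.Leech
open CfsgLib.Sporadic.IndexTwoTwo (M22pt card_M22pt)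
open scoped Pointwise

attribute [local irreducible] OTree.entries hsHundredTree

/-- The stabiliser of the two vectors. -/
noncomputable abbrev G : Subgroup ↥Co0 := fixGroup [fiveElt, hsElt]

/-- The action on the hundred vectors. -/
noncomputable local instance actPts : MulAction ↥G Pts where
  smul g x := ptsHom g x
  one_smul x := by
    show ptsHom 1 x = x
    rw [map_one]
    rfl
  mul_smul a b x := by
    show ptsHom (a * b) x = ptsHom a (ptsHom b x)
    rw [map_mul]
    rfl

theorem smul_val (g : ↥G) (x : Pts) : (g • x).1 = g.1 • x.1 := rfl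

/-- The base point. -/
noncomputable def root : Pts := ⟨hsPt, hsPt_mem⟩

theorem card_pts : Nat.card Pts = 100 := by
  rw [show Nat.card Pts = Nat.card ↥(DS [(fiveElt, (24 : ℤ)), (hsElt, -24)]) from rfl, Nat.card_coe_set_eq,
    hundred_set.1]

theorem finite_pts : Finite Pts := Nat.finite_of_card_ne_zero (by rw [card_pts]; norm_num)

theorem pretransitive : IsPretransitive ↥G Pts := ⟨fun x y => by
  obtain ⟨g, hg, hgf⟩ := hundred_set.2.1 x.1 x.2 y.1 y.2
  exact ⟨⟨g, mem_fixGroup.2 hgf⟩, Subtype.ext hg⟩⟩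

theorem card_stab (a : Pts) : Nat.card ↥(stabilizer ↥G a) = 443520 := by
  haveI := pretransitive
  have h := (stabilizer ↥G a).card_mul_index
  rw [index_stabilizer_of_transitive, card_pts, card_fix_hs] at h
  omega

theorem exists_embedding : ∃ ι : ↥M22pt →* ↥G, Function.Injective ι ∧ ι.range = stabilizer ↥G root := by
  have hmem : ∀ u : ↥M22pt, permHom u.1 ∈ G := fun u => by
    have h : permHom u.1 ∈ fixGroup [hsPt, fiveElt, hsElt] := by
      rw [fix_hs_point, fix_z_five_pair]
      exact Subgroup.mem_map_of_mem _ u.2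
    exact mem_fixGroup.2 fun v hv => mem_fixGroup.1 h v (List.mem_cons_of_mem _ hv)
  let ι : ↥M22pt →* ↥G :=
    { toFun := fun u => ⟨permHom u.1, hmem u⟩
      map_one' := Subtype.ext (map_one permHom)
      map_mul' := fun a b => Subtype.ext (map_mul permHom a.1 b.1) }
  refine ⟨ι, fun a b h => Subtype.ext (permHom_injective (congrArg Subtype.val h)), ?_⟩
  ext g
  constructor
  · rintro ⟨u, rfl⟩
    have h : permHom u.1 ∈ fixGroup [hsPt, fiveElt, hsElt] := by
      rw [fix_hs_point, fix_z_five_pair]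
      exact Subgroup.mem_map_of_mem _ u.2
    exact Subtype.ext (mem_fixGroup.1 h hsPt List.mem_cons_self)
  · intro hg
    have hr : g.1 • hsPt = hsPt := congrArg Subtype.val (show g • root = root from hg)
    have h : g.1 ∈ fixGroup [hsPt, fiveElt, hsElt] := mem_fixGroup.2 fun v hv => by
      rcases List.mem_cons.1 hv with rfl | hv
      · exact hr
      · exact mem_fixGroup.1 g.2 v hv
    rw [fix_hs_point, fix_z_five_pair] at h
    obtain ⟨π, hπ, e⟩ := h
    exact ⟨⟨π, hπ⟩, Subtype.ext e⟩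

theorem stab_map (φ : MulAut ↥G) (a : Pts) :
    ∃ b : Pts, (stabilizer ↥G a).map φ.toMonoidHom = stabilizer ↥G b := by
  haveI := finite_pts
  haveI := pretransitive
  obtain ⟨ι, hι, hr⟩ := exists_embedding
  obtain ⟨g, rfl⟩ := exists_smul_eq ↥G root a
  let ψ : ↥M22pt →* ↥G := φ.toMonoidHom.comp ((MulAut.conj g).toMonoidHom.comp ι)
  have hψr : ψ.range = (stabilizer ↥G (g • root)).map φ.toMonoidHom := by
    rw [stabilizer_smul_eq_stabilizer_map_conj, ← hr, MonoidHom.range_comp, MonoidHom.range_comp]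
  letI : MulAction ↥M22pt Pts := MulAction.compHom Pts ψ
  obtain ⟨b, hb⟩ := exists_fixed (α := Pts) card_pts
  refine ⟨b, ?_⟩
  haveI : Finite ↥G := Nat.finite_of_card_ne_zero (by rw [card_fix_hs]; norm_num)
  refine Subgroup.eq_of_le_of_card_ge ?_ ?_
  · rw [← hψr]
    rintro _ ⟨u, rfl⟩
    exact hb u
  · rw [Subgroup.card_map_of_injective φ.injective, card_stab, card_stab]

theorem smul_eq_iff_ds {k : ℤ} {n : ℕ}
    (hn : (DS [(fiveElt, 24), (hsElt, -24), (hsPt, k)]).ncard = n)
    (ht : Trans [fiveElt, hsElt, hsPt] (DS [(fiveElt, 24), (hsElt, -24), (hsPt, k)]))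
    {y : Pts} (hy : dotInt (hsPt : Vec) (y.1 : Vec) = k) :
    (MulAction.orbit ↥(stabilizer ↥G root) y).ncard = n := by
  have hymem : y.1 ∈ DS [(fiveElt, 24), (hsElt, -24), (hsPt, k)] := ⟨y.2.1, by
    simp only [List.forall_mem_cons]
    exact ⟨y.2.2 _ List.mem_cons_self, y.2.2 (hsElt, -24) (by simp), hy, by simp⟩⟩
  rw [← hn, ← Set.ncard_image_of_injective (f := fun x : Pts => x.1) _ (fun a b h => Subtype.ext h)]
  congr 1
  ext v
  constructor
  · rintro ⟨_, ⟨g, rfl⟩, rfl⟩
    show g.1.1 • y.1 ∈ _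
    refine smul_mem_DS (fun p hp => ?_) hymem
    simp only [List.mem_cons, List.not_mem_nil, or_false] at hp
    rcases hp with rfl | rfl | rfl
    · exact mem_fixGroup.1 g.1.2 _ List.mem_cons_self
    · exact mem_fixGroup.1 g.1.2 _ (by simp)
    · exact congrArg Subtype.val (show g.1 • root = root from g.2)
  · intro hv
    obtain ⟨g, hg, hgf⟩ := ht y.1 hymem v hv
    have hgG : g ∈ G := mem_fixGroup.2 fun w hw => hgf w (by simp at hw ⊢; tauto)
    have hgr : (⟨g, hgG⟩ : ↥G) ∈ stabilizer ↥G root := Subtype.ext (hgf hsPt (by simp))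
    exact ⟨(⟨g, hgG⟩ : ↥G) • y, ⟨⟨⟨g, hgG⟩, hgr⟩, rfl⟩, hg⟩

theorem orbit_root (y : Pts) (hy : y ≠ root) :
    (ptsGraph.Adj root y ∧ (MulAction.orbit ↥(stabilizer ↥G root) y).ncard = 22) ∨
      (¬ ptsGraph.Adj root y ∧ (MulAction.orbit ↥(stabilizer ↥G root) y).ncard = 77) := by
  have hne : y.1 ≠ hsPt := fun e => hy (Subtype.ext e)
  rcases ds_values hundred_set.2.2 (r := hsPt) (root := 62062060636173731114942761100) rfl [8, 16]
    (by decide +kernel) y.2 with e | e
  · exact absurd e hne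
  simp only [List.mem_cons, List.not_mem_nil, or_false] at e
  rcases e with e | e
  · exact Or.inl ⟨e, smul_eq_iff_ds hs_sub8.1 hs_sub8.2.1 e⟩
  · refine Or.inr ⟨fun h => ?_, smul_eq_iff_ds hs_sub16.1 hs_sub16.2.1 e⟩
    have h' : dotInt (hsPt : Vec) (y.1 : Vec) = 8 := h
    rw [e] at h'
    norm_num at h'

theorem orbit_transport (g : ↥G) (a b : Pts) :
    (MulAction.orbit ↥(stabilizer ↥G (g • a)) (g • b)).ncard =
      (MulAction.orbit ↥(stabilizer ↥G a) b).ncard := by
  rw [← Set.ncard_image_of_injective (MulAction.orbit ↥(stabilizer ↥G a) b)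
    (MulAction.injective (β := Pts) g)]
  congr 1
  ext v
  constructor
  · rintro ⟨⟨h, hh⟩, rfl⟩
    refine ⟨(g⁻¹ * h * g) • b, ⟨⟨g⁻¹ * h * g, ?_⟩, rfl⟩, ?_⟩
    · show (g⁻¹ * h * g) • a = a
      rw [mul_smul, mul_smul, show h • g • a = g • a from hh, inv_smul_smul]
    · show g • (g⁻¹ * h * g) • b = h • g • b
      rw [mul_smul, mul_smul, smul_inv_smul]
  · rintro ⟨_, ⟨⟨h, hh⟩, rfl⟩, rfl⟩
    refine ⟨⟨g * h * g⁻¹, ?_⟩, ?_⟩
    · show (g * h * g⁻¹) • g • a = g • a
      rw [mul_smul, mul_smul, inv_smul_smul, show h • a = a from hh]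
    · show (g * h * g⁻¹) • g • b = g • h • b
      rw [mul_smul, mul_smul, inv_smul_smul]

theorem adj_smul (g : ↥G) (a b : Pts) : ptsGraph.Adj (g • a) (g • b) ↔ ptsGraph.Adj a b :=
  (ptsHom g).map_rel_iff

theorem orbit_size (a b : Pts) (hne : b ≠ a) :
    (ptsGraph.Adj a b ∧ (MulAction.orbit ↥(stabilizer ↥G a) b).ncard = 22) ∨
      (¬ ptsGraph.Adj a b ∧ (MulAction.orbit ↥(stabilizer ↥G a) b).ncard = 77) := by
  haveI := pretransitive
  obtain ⟨g, hg⟩ := exists_smul_eq ↥G a root
  have h := orbit_root (g • b) (fun e => hne (smul_left_cancel g (e.trans hg.symm)))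
  rwa [← hg, orbit_transport, adj_smul] at h

theorem stab_sep (a b : Pts) (h : stabilizer ↥G a = stabilizer ↥G b) : a = b := by
  by_contra hne
  have h1 : (MulAction.orbit ↥(stabilizer ↥G a) b).ncard = 1 := by
    rw [Set.ncard_eq_one]
    refine ⟨b, Set.eq_singleton_iff_unique_mem.2 ⟨mem_orbit_self b, ?_⟩⟩
    rintro _ ⟨⟨u, hu⟩, rfl⟩
    show u • b = b
    rw [h] at hu
    exact hu
  rcases orbit_size a b (Ne.symm hne) with ⟨-, h'⟩ | ⟨-, h'⟩ <;> omega

theorem exists_graph_aut (φ : MulAut ↥G) :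
    ∃ π : ptsGraph ≃g ptsGraph, ∀ g, π * ptsHom g = ptsHom (φ g) * π := by
  haveI := finite_pts
  obtain ⟨π, hπ⟩ := MathieuAut.exists_perm φ stab_sep (stab_map φ)
  have horb : ∀ a b, (MulAction.orbit ↥(stabilizer ↥G (π a)) (π b)).ncard =
      (MulAction.orbit ↥(stabilizer ↥G a) b).ncard := by
    intro a b
    rw [← Set.ncard_image_of_injective (MulAction.orbit ↥(stabilizer ↥G a) b) π.injective]
    congr 1
    ext v
    constructor
    · rintro ⟨⟨h, hh⟩, rfl⟩
      refine ⟨(φ.symm h) • b, ⟨⟨φ.symm h, ?_⟩, rfl⟩, ?_⟩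
      · refine π.injective ?_
        rw [hπ, φ.apply_symm_apply]
        exact hh
      · rw [hπ, φ.apply_symm_apply]
        rfl
    · rintro ⟨_, ⟨⟨h, hh⟩, rfl⟩, rfl⟩
      refine ⟨⟨φ h, ?_⟩, (hπ h b).symm⟩
      show φ h • π a = π a
      rw [← hπ, show h • a = a from hh]
  refine ⟨⟨π, fun {a b} => ?_⟩, fun g => RelIso.ext fun x => hπ g x⟩
  by_cases hne : b = a
  · subst hne
    exact iff_of_false (fun h => h.ne rfl) (fun h => h.ne rfl)
  have h1 := orbit_size a b hne
  have h2 := orbit_size (π a) (π b) (fun e => hne (π.injective e))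
  rw [horb] at h2
  rcases h1 with ⟨p, q⟩ | ⟨p, q⟩ <;> rcases h2 with ⟨p', q'⟩ | ⟨p', q'⟩ <;>
    first | exact iff_of_true p' p | exact iff_of_false p' p | (exfalso; omega)

theorem card_graph_aut : Nat.card (ptsGraph ≃g ptsGraph) = 88704000 := by
  classical
  haveI := finite_pts
  letI : Fintype Pts := Fintype.ofFinite _
  have hsrg : ptsGraph.IsSRGWith 100 22 0 6 := pts_srg
  letI : Fintype ↥(blocksAt (G := ptsGraph) root) := Fintype.ofFinite _
  obtain ⟨ψ, -⟩ := iso_pointBlock hsrg (card_points hsrg root) (steiner_at hsrg root) root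
  rw [← graph_aut_card (card_points hsrg root) (steiner_at hsrg root)]
  exact Nat.card_congr
    { toFun := fun φ => (ψ.trans φ).trans ψ.symm
      invFun := fun φ => (ψ.symm.trans φ).trans ψ
      left_inv := fun φ => RelIso.ext fun v => by simp
      right_inv := fun φ => RelIso.ext fun v => by simp }

theorem card_out : Nat.card (Cfsg.Out ↥G) = 2 := by
  haveI := finite_pts
  haveI := pretransitive
  haveI : Finite (ptsGraph ≃g ptsGraph) := Nat.finite_of_card_ne_zero (by rw [card_graph_aut]; norm_num)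
  haveI : Finite ↥G := Nat.finite_of_card_ne_zero (by rw [card_fix_hs]; norm_num)
  let R := (ptsHom : ↥G →* _).range
  let e : ↥G ≃* ↥R := MonoidHom.ofInjective ptsHom_injective
  have hR : R.index = 2 := by
    have h := R.card_mul_index
    rw [← Nat.card_congr e.toEquiv, card_fix_hs, card_graph_aut] at h
    omega
  haveI : R.Normal := Subgroup.normal_of_index_eq_two hR
  let Θ : (ptsGraph ≃g ptsGraph) →* MulAut ↥G := (MulAut.congr e.symm).toMonoidHom.comp MulAut.conjNormal
  have hΘ : ∀ a g, ptsHom (Θ a g) = a * ptsHom g * a⁻¹ := by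
    intro a g
    show ptsHom (e.symm (MulAut.conjNormal a (e g))) = _
    rw [show ptsHom (e.symm (MulAut.conjNormal a (e g))) =
      ((e (e.symm (MulAut.conjNormal a (e g))) : ↥R) : ptsGraph ≃g ptsGraph) from rfl,
      e.apply_symm_apply, MulAut.conjNormal_apply]
    rfl
  have hinj : Function.Injective Θ := by
    refine (injective_iff_map_eq_one Θ).2 fun a ha => RelIso.ext fun p => ?_
    show a p = p
    have hcomm : ∀ g : ↥G, g • a p = a (g • p) := fun g => by
      have h := hΘ a g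
      rw [ha, show (1 : MulAut ↥G) g = g from rfl, eq_mul_inv_iff_mul_eq] at h
      exact congrArg (fun f : ptsGraph ≃g ptsGraph => f p) h
    refine (stab_sep p (a p) (Subgroup.eq_of_le_of_card_ge (fun g hg => ?_) ?_)).symm
    · show g • a p = a p
      rw [hcomm, show g • p = p from hg]
    · rw [card_stab, card_stab]
  have hsurj : Function.Surjective Θ := by
    intro φ
    obtain ⟨π, hπ⟩ := exists_graph_aut φ
    refine ⟨π, MulEquiv.ext fun g => ptsHom_injective ?_⟩
    rw [hΘ, hπ, mul_inv_cancel_right]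
  have hinner : ∀ g : ↥G, Θ (ptsHom g) = MulAut.conj g := fun g => MulEquiv.ext fun x => ptsHom_injective (by
    rw [hΘ, MulAut.conj_apply, map_mul, map_mul, map_inv])
  have hcomap : (Cfsg.Inn ↥G).comap Θ = R := by
    ext a
    constructor
    · rintro ⟨g, hg⟩
      exact ⟨g, hinj ((hinner g).trans hg)⟩
    · rintro ⟨g, rfl⟩
      exact ⟨g, (hinner g).symm⟩
  show Nat.card (MulAut ↥G ⧸ Cfsg.Inn ↥G) = 2
  rw [← Subgroup.index_eq_card, ← Subgroup.index_comap_of_surjective _ hsurj, hcomap, hR]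

theorem leechV_eq : Spor.leechV = -fiveElt := by
  refine Subtype.ext (funext fun i => ?_)
  show Spor.vecV i = -(pv kFive i)
  rw [five_shape i]
  unfold Spor.vecV
  split_ifs <;> rfl

theorem leechU'_eq : Spor.leechU' = twentyPt := by
  refine Subtype.ext (funext fun i => ?_)
  show Spor.vecU' i = pv 62062060636173731114942761092 i
  rw [z_shape i]
  rfl

theorem map_fixGroup_hs : G.map (Cfsg.Co0).subtype = Spor.HS := by
  ext g
  constructor
  · rintro ⟨a, ha, rfl⟩
    have h := mem_fixGroup.1 ha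
    refine ⟨⟨a.2, ?_⟩, ?_⟩
    · show a • Spor.leechV = Spor.leechV
      rw [leechV_eq, smul_neg', h _ (by simp)]
    · show a • Spor.leechU' = Spor.leechU'
      rw [leechU'_eq, show twentyPt = hsElt + fiveElt by rw [hs_eq_z_sub, sub_add_cancel],
        show a • (hsElt + fiveElt) = a • hsElt + a • fiveElt from map_add (linOf a) _ _,
        h hsElt (by simp), h fiveElt (by simp)]
  · rintro ⟨⟨hg, hV⟩, hU⟩
    have h5 : (⟨g, hg⟩ : ↥Cfsg.Co0) • fiveElt = fiveElt := by
      have h : (⟨g, hg⟩ : ↥Cfsg.Co0) • Spor.leechV = Spor.leechV := hV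
      rwa [leechV_eq, smul_neg', neg_inj] at h
    have hz : (⟨g, hg⟩ : ↥Cfsg.Co0) • twentyPt = twentyPt := by
      have h : (⟨g, hg⟩ : ↥Cfsg.Co0) • Spor.leechU' = Spor.leechU' := hU
      rwa [leechU'_eq] at h
    refine ⟨⟨g, hg⟩, mem_fixGroup.2 fun v hv => ?_, rfl⟩
    simp only [List.mem_cons, List.not_mem_nil, or_false] at hv
    rcases hv with rfl | rfl
    · exact h5
    · rw [hs_eq_z_sub, smul_sub', hz, h5]

/-- The HS carrier is the stabiliser of the two vectors. -/
noncomputable def equivHS : ↥Spor.HS ≃* ↥G :=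
  (MulEquiv.subgroupCongr map_fixGroup_hs.symm).trans
    (Subgroup.equivMapOfInjective _ _ (Cfsg.Co0).subtype_injective).symm

theorem card_out_HS : Nat.card (Cfsg.Out ↥Spor.HS) = 2 := by
  rw [← card_out]
  refine Nat.card_congr (QuotientGroup.congr (Cfsg.Inn ↥Spor.HS) (Cfsg.Inn ↥G) (MulAut.congr equivHS) ?_).toEquiv
  ext ψ
  constructor
  · rintro ⟨_, ⟨g, rfl⟩, rfl⟩
    exact ⟨equivHS g, MulEquiv.ext fun x => by simp [MulAut.congr]⟩
  · rintro ⟨h, rfl⟩
    exact ⟨MulAut.conj (equivHS.symm h), ⟨_, rfl⟩, MulEquiv.ext fun x => by simp [MulAut.congr]⟩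

end CfsgLib.Sporadic.HsOut
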