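import Cfsg.Agent.Lib.Sporadic.HexSystem
import Cfsg.Agent.Lib.Sporadic.SteinerUnique
import Cfsg.Agent.S0385

/-!
# The automorphism groups of `S(5,6,12)` and `S(4,5,11)`
-/

set_option autoImplicit false

namespace CfsgLib.Sporadic.Hex

open Cfsg
open scoped Pointwise

/-- The packed permutation moving the last six of the twelve points as the list says. -/
noncomputable def tailPerm (L : List ℕ) : ℕ :=
  Nat.rec 0 (fun i acc => Nat.lor acc (Nat.shiftLeft
    (if i < 6 then i else if i < 12 then L.getD (i - 6) 0 % 32 else i % 32) (Nat.mul 5 i))) 24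

noncomputable def keeps (L : List ℕ) : Bool :=
  !(hexList.all fun h => hexList.any (Nat.beq (mimg (tailPerm L) h))) || L == [6, 7, 8, 9, 10, 11]

theorem keeps_ok : ([6, 7, 8, 9, 10, 11].permutations').all keeps = true := by decide +kernel

theorem hexList_lt : ∀ m ∈ hexList, m < 4096 := by decide +kernel

/-- An automorphism of the hexads fixing five given points is trivial. -/
theorem eq_one_of_fix_five {σ : Equiv.Perm (Fin 12)} (hσ : σ ∈ setSystemAut hexBlocks)
    (hfix : ∀ i : Fin 12, i.val < 5 → σ i = i) : σ = 1 := by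
  have hmem : ∀ s, s ∈ hexBlocks → σ • s ∈ hexBlocks := fun s hs => by
    rw [← MulAction.mem_stabilizer_iff.1 hσ]; exact Set.smul_mem_smul_set hs
  have h5 : σ 5 = 5 := by
    have hb : s12 63 ∈ hexBlocks := by
      show m12set (s12 63) ∈ hexList
      rw [m12set_s12 (by norm_num)]; decide
    have hsub : s12 31 ⊆ σ • s12 63 := fun x hx => by
      have h63 : x ∈ s12 63 := by revert hx; revert x; decide +kernel
      have hx5 : x.val < 5 := by revert hx; revert x; decide +kernel
      rw [← hfix x hx5]
      exact Finset.smul_mem_smul_finset h63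
    have huniq : ∀ m ∈ hexList, m &&& 31 = 31 → m = 63 := by decide +kernel
    have e : m12set (σ • s12 63) = 63 := huniq _ (hmem _ hb) (by
      conv_lhs => rw [show (31 : ℕ) = m12set (s12 31) from (m12set_s12 (by norm_num)).symm, land_m12,
        Finset.inter_eq_right.2 hsub]
      exact m12set_s12 (by norm_num))
    have hσ5 : σ 5 ∈ s12 63 := by
      have : σ • (5 : Fin 12) ∈ σ • s12 63 := Finset.smul_mem_smul_finset (by decide +kernel)
      rwa [← s12_m12set (σ • s12 63), e] at this
    have hlt : (σ 5).val < 6 := by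
      revert hσ5; generalize σ 5 = y; revert y; decide +kernel
    by_contra hne
    have h' : (σ 5).val < 5 := by
      have : (σ 5).val ≠ 5 := fun h => hne (Fin.ext h)
      omega
    exact hne (σ.injective (hfix _ h'))
  have hfix6 : ∀ i : Fin 12, i.val < 6 → σ i = i := fun i hi => by
    by_cases h : i.val < 5
    · exact hfix i h
    · rw [show i = 5 from Fin.ext (by simp; omega)]; exact h5
  have hbig : ∀ i : Fin 12, 6 ≤ i.val → 6 ≤ (σ i).val := fun i hi => by
    by_contra h
    have e : σ i = i := σ.injective (hfix6 _ (by omega))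
    rw [e] at h
    omega
  let T : Fin 6 → Fin 12 := fun k => ⟨k.val + 6, by omega⟩
  let L : List ℕ := List.ofFn fun k : Fin 6 => (σ (T k)).val
  have hL : L.Perm [6, 7, 8, 9, 10, 11] := by
    have hn : L.Nodup := List.nodup_ofFn.2 fun a b h => by
      have := congrArg Fin.val (σ.injective (Fin.ext h))
      exact Fin.ext (by simpa [T] using this)
    refine (hn.subperm ?_).perm_of_length_le (by simp [L])
    intro a ha
    obtain ⟨k, rfl⟩ := (List.mem_ofFn' _ _).1 ha
    have h1 : 6 ≤ (σ (T k)).val := hbig _ (by simp [T])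
    have h2 := (σ (T k)).isLt
    simp only [List.mem_cons, List.not_mem_nil, or_false]
    omega
  let σ' : Equiv.Perm GolayPt := σ.viaEmbedding emb12
  have hrep : Rep σ' (tailPerm L) := by
    intro x
    rw [tailPerm, pget_pmul_aux (fun i => if i < 6 then i else if i < 12 then L.getD (i - 6) 0 % 32 else i % 32)
      (fun i => by split_ifs <;> omega), if_pos (ix_lt x)]
    by_cases hx : ix x < 12
    · have ex : emb12 ⟨ix x, hx⟩ = x := ix_injective (ix_emb12 _)
      have : σ' x = emb12 (σ ⟨ix x, hx⟩) := by
        conv_lhs => rw [← ex]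
        exact Equiv.Perm.viaEmbedding_apply _ _ _
      rw [this, ix_emb12]
      split_ifs with h6
      · rw [hfix6 _ h6]
      · have hk : ix x - 6 < 6 := by omega
        rw [List.getD_eq_getElem _ _ (by simpa [L] using hk), List.getElem_ofFn]
        have eT : T ⟨ix x - 6, hk⟩ = ⟨ix x, hx⟩ := Fin.ext (by simp [T]; omega)
        rw [eT, Nat.mod_eq_of_lt (lt_trans (Fin.isLt _) (by norm_num))]
    · have hnot : x ∉ Set.range emb12 := by
        rintro ⟨i, rfl⟩
        exact hx (by rw [ix_emb12]; exact i.2)
      rw [Equiv.Perm.viaEmbedding_apply_of_notMem _ _ _ hnot, if_neg (by omega), if_neg hx,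
        Nat.mod_eq_of_lt (lt_trans (ix_lt x) (by norm_num))]
  have himg : ∀ s : Finset (Fin 12), m12set (σ • s) = mimg (tailPerm L) (m12set s) := fun s => by
    refine setOfMask_inj (maskOf_lt _) (mimg_lt hrep _) ?_
    rw [setOfMask_mimg hrep]
    simp only [m12set, setOfMask_maskOf, Finset.smul_finset_def, Finset.map_eq_image, Finset.image_image]
    exact Finset.image_congr fun x _ => (Equiv.Perm.viaEmbedding_apply _ _ _).symm
  have hall := List.all_eq_true.1 keeps_ok L (List.mem_permutations'.2 hL)
  simp only [keeps, Bool.or_eq_true, Bool.not_eq_true', beq_iff_eq] at hall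
  rcases hall with h | h
  · exfalso
    rw [← Bool.not_eq_true, List.all_eq_true] at h
    refine h fun m hm => List.any_eq_true.2 ⟨_, hmem (s12 m)
      (show m12set (s12 m) ∈ hexList by rw [m12set_s12 (hexList_lt m hm)]; exact hm), ?_⟩
    rw [himg, m12set_s12 (hexList_lt m hm), Nat.beq_eq]
  · refine Equiv.ext fun i => ?_
    by_cases hi : i.val < 6
    · exact hfix6 i hi
    · have hk : i.val - 6 < 6 := by omega
      have e := congrArg (fun l : List ℕ => l.getD (i.val - 6) 0) h
      simp only [L] at e
      rw [List.getD_eq_getElem _ _ (by simpa using hk), List.getElem_ofFn,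
        show T ⟨i.val - 6, hk⟩ = i from Fin.ext (by simp [T]; omega)] at e
      refine Fin.ext ?_
      rw [e]
      show List.getD _ (i.val - 6) 0 = i.val
      have h12 := i.isLt
      interval_cases h' : i.val <;> rfl

/-- The dodecad system. -/
def dSys : Set (Finset {p : GolayPt // p ∈ setOfMask stdD}) :=
  {h | ∃ o ∈ octads, (o ∩ setOfMask stdD).card = 6 ∧ h = Finset.subtype (fun p => p ∈ setOfMask stdD) o}

theorem exists_dodecad_map :
    ∃ e : {p : GolayPt // p ∈ setOfMask stdD} ≃ Fin 12,
      (fun b : Finset {p : GolayPt // p ∈ setOfMask stdD} => b.image e) '' dSys = hexBlocks :=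
  steiner12 (by rw [Fintype.card_coe]; exact stdD_mem.2) (Cfsg.Agent.S0385.result _ stdD_mem)

/-- The dodecad in the hexad labelling. -/
noncomputable def dLabel : {p : GolayPt // p ∈ setOfMask stdD} ≃ Fin 12 := exists_dodecad_map.choose

/-- Restricting to the dodecad. -/
noncomputable def dRestrict : MulAction.stabilizer ↥M24 (setOfMask stdD) →* Equiv.Perm (Fin 12) where
  toFun g := dLabel.permCongr (Equiv.Perm.subtypePerm g.1.1 fun _ => smul_mem_of_stab g.2)
  map_one' := Equiv.ext fun i => by simp [Equiv.permCongr_apply]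
  map_mul' g h := Equiv.ext fun i => by simp [Equiv.permCongr_apply]

theorem dRestrict_apply (g : MulAction.stabilizer ↥M24 (setOfMask stdD))
    (x : {p : GolayPt // p ∈ setOfMask stdD}) :
    dRestrict g (dLabel x) = dLabel ⟨g.1 • x.1, (smul_mem_of_stab g.2).2 x.2⟩ := by
  show dLabel.permCongr _ (dLabel x) = _
  rw [Equiv.permCongr_apply, Equiv.symm_apply_apply]
  rfl

theorem dRestrict_mem (g : MulAction.stabilizer ↥M24 (setOfMask stdD)) :
    dRestrict g ∈ setSystemAut hexBlocks := by
  show dRestrict g • hexBlocks = hexBlocks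
  refine Set.eq_of_subset_of_ncard_le ?_
    (by rw [← Set.image_smul, Set.ncard_image_of_injective _ (MulAction.injective _)]) (Set.toFinite _)
  rintro _ ⟨s, hs, rfl⟩
  rw [← exists_dodecad_map.choose_spec] at hs ⊢
  obtain ⟨_, ⟨o, ho, h6, rfl⟩, rfl⟩ := hs
  have hstab : g.1 • setOfMask stdD = setOfMask stdD := MulAction.mem_stabilizer_iff.1 g.2
  refine ⟨_, ⟨g.1 • o, (smul_mem_octads g.1.2).2 ho, ?_, rfl⟩, ?_⟩
  · have : g.1 • o ∩ setOfMask stdD = g.1 • (o ∩ setOfMask stdD) := by rw [Finset.smul_finset_inter, hstab]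
    rw [this, Finset.card_smul_finset]
    exact h6
  · show Finset.image dLabel _ = dRestrict g • Finset.image dLabel _
    ext i
    obtain ⟨x, rfl⟩ := dLabel.surjective i
    simp only [Finset.mem_smul_finset, Finset.mem_image, Finset.mem_subtype, EmbeddingLike.apply_eq_iff_eq,
      exists_eq_right]
    constructor
    · rintro ⟨z, hz, e⟩
      have hzd : z ∈ setOfMask stdD := (smul_mem_of_stab g.2).1 (e ▸ x.2)
      refine ⟨dLabel ⟨z, hzd⟩, ⟨⟨z, hzd⟩, hz, rfl⟩, ?_⟩
      rw [Equiv.Perm.smul_def, dRestrict_apply]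
      exact congrArg dLabel (Subtype.ext e)
    · rintro ⟨_, ⟨z, hz, rfl⟩, e⟩
      rw [Equiv.Perm.smul_def, dRestrict_apply] at e
      exact ⟨z.1, hz, congrArg Subtype.val (dLabel.injective e)⟩

theorem hex_transitive : MulAction.IsMultiplyPretransitive (setSystemAut hexBlocks) (Fin 12) 5 := by
  rw [MulAction.isMultiplyPretransitive_iff]
  intro x y
  let up : (Fin 5 ↪ Fin 12) → (Fin 5 ↪ GolayPt) := fun f =>
    f.trans (dLabel.symm.toEmbedding.trans (Function.Embedding.subtype _))
  obtain ⟨g, hg, e⟩ := exists_map_dodecad stdD_mem le_rfl (up x) (up y)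
    (fun i => (dLabel.symm (x i)).2) (fun i => (dLabel.symm (y i)).2)
  refine ⟨⟨dRestrict ⟨g, hg⟩, dRestrict_mem _⟩, Function.Embedding.ext fun i => ?_⟩
  show dRestrict ⟨g, hg⟩ (x i) = y i
  rw [← dLabel.apply_symm_apply (x i), dRestrict_apply, ← dLabel.apply_symm_apply (y i)]
  exact congrArg dLabel (Subtype.ext (e i))

/-- The first five points. -/
def five12 : Fin 5 ↪ Fin 12 := (Fin.castLEEmb (by norm_num))

theorem stab_trivial (x : Fin 5 ↪ Fin 12) :
    MulAction.stabilizer (setSystemAut hexBlocks) x = ⊥ := by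
  rw [eq_bot_iff]
  intro g hg
  obtain ⟨a, ha⟩ := MulAction.isMultiplyPretransitive_iff.1 hex_transitive five12 x
  have hg' : ∀ i, g.1 (x i) = x i := fun i =>
    congrArg (fun f : Fin 5 ↪ Fin 12 => f i) (MulAction.mem_stabilizer_iff.1 hg)
  have ha' : ∀ i, a.1 (five12 i) = x i := fun i => congrArg (fun f : Fin 5 ↪ Fin 12 => f i) ha
  have h2 : a⁻¹ * g * a = 1 := Subtype.ext (eq_one_of_fix_five (a⁻¹ * g * a).2 fun i hi => by
    show a.1⁻¹ (g.1 (a.1 (five12 ⟨i.val, hi⟩))) = five12 ⟨i.val, hi⟩
    rw [ha', hg', ← ha', Equiv.Perm.coe_inv, Equiv.symm_apply_apply])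
  rw [Subgroup.mem_bot]
  calc g = a * (a⁻¹ * g * a) * a⁻¹ := by group
    _ = 1 := by rw [h2]; group

theorem card_hexAut : Nat.card (setSystemAut hexBlocks) = 95040 := by
  have hbij : Function.Bijective (fun g : setSystemAut hexBlocks => g • five12) := by
    refine ⟨fun g h e => ?_, fun x => MulAction.isMultiplyPretransitive_iff.1 hex_transitive five12 x⟩
    have : h⁻¹ * g ∈ MulAction.stabilizer (setSystemAut hexBlocks) five12 := by
      rw [MulAction.mem_stabilizer_iff, mul_smul, inv_smul_eq_iff]; exact e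
    rw [stab_trivial, Subgroup.mem_bot, inv_mul_eq_one] at this
    exact this.symm
  rw [Nat.card_congr (Equiv.ofBijective _ hbij), Nat.card_eq_fintype_card, Fintype.card_embedding_eq,
    Fintype.card_fin, Fintype.card_fin]
  rfl

/-- The stabiliser of the dodecad is the group of the hexads. -/
noncomputable def hexEquiv : MulAction.stabilizer ↥M24 (setOfMask stdD) ≃* setSystemAut hexBlocks :=
  MulEquiv.ofBijective (dRestrict.codRestrict _ dRestrict_mem)
    ((Nat.bijective_iff_injective_and_card _).2 ⟨fun g h e => by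
      have e' : dRestrict g = dRestrict h := congrArg Subtype.val e
      have hsame : ∀ z ∈ setOfMask stdD, g.1 • z = h.1 • z := fun z hz => by
        have := congrArg (fun σ : Equiv.Perm (Fin 12) => σ (dLabel ⟨z, hz⟩)) e'
        rw [dRestrict_apply, dRestrict_apply] at this
        exact congrArg Subtype.val (dLabel.injective this)
      obtain ⟨a, ha⟩ : Nonempty (Fin 5 ↪ {p : GolayPt // p ∈ setOfMask stdD}) :=
        ⟨five12.trans dLabel.symm.toEmbedding⟩
      let x : Fin 5 ↪ GolayPt := (⟨a, ha⟩ : Fin 5 ↪ _).trans (Function.Embedding.subtype _)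
      let y : Fin 5 ↪ GolayPt :=
        ⟨fun i => g.1 • x i, fun i j e => x.injective (MulAction.injective g.1 e)⟩
      obtain ⟨u, -, hu⟩ := existsUnique_map_dodecad stdD_mem x y (fun i => (a i).2)
        (fun i => (smul_mem_of_stab g.2).2 (a i).2)
      exact (hu g fun i => rfl).trans (hu h fun i => (hsame _ (a i).2).symm).symm,
      by rw [card_stab_dodecad stdD_mem, card_hexAut]⟩)

variable {α : Type*} [Fintype α] [DecidableEq α]

theorem aut12 (hα : Fintype.card α = 12) {B : Set (Finset α)} (hB : IsSteinerSystem 5 6 B) :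
    IsM12 (setSystemAut B) ∧ MulAction.IsMultiplyPretransitive (setSystemAut B) α 5 ∧
      ∀ x : Fin 5 ↪ α, MulAction.stabilizer (setSystemAut B) x = ⊥ := by
  obtain ⟨e, he⟩ := steiner12 hα hB
  let E := Uniq.autEquiv e he
  refine ⟨⟨isSimple_congr (hexEquiv.trans E.symm) (M12_isSimple stdD_mem),
    by rw [Nat.card_congr E.toEquiv, card_hexAut]⟩, Uniq.pretransitive_transport e he hex_transitive,
    fun x => ?_⟩
  rw [eq_bot_iff]
  intro g hg
  have hfix : ∀ i, g.1 (x i) = x i := fun i =>
    congrArg (fun f : Fin 5 ↪ α => f i) (MulAction.mem_stabilizer_iff.1 hg)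
  have h1 : E g ∈ MulAction.stabilizer (setSystemAut hexBlocks) (x.trans e.toEmbedding) := by
    refine MulAction.mem_stabilizer_iff.2 (Function.Embedding.ext fun i => ?_)
    show e.permCongr g.1 (e (x i)) = e (x i)
    rw [Equiv.permCongr_apply, Equiv.symm_apply_apply, hfix]
  rw [stab_trivial, Subgroup.mem_bot, MulEquiv.map_eq_one_iff] at h1
  rw [Subgroup.mem_bot, h1]

/-! ### `S(4,5,11)` -/

/-- The extension by one point. -/
def extend11 (B : Set (Finset α)) : Set (Finset (Option α)) :=
  {s | (∃ b ∈ B, Finset.insertNone b = s) ∨ ∃ b ∈ B, (Finset.insertNone b)ᶜ = s}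

theorem card_avoid (hα : Fintype.card α = 11) {B : Set (Finset α)} (hB : IsSteinerSystem 4 5 B)
    {s : Finset α} (hs : s.card = 5) (hsB : s ∉ B) :
    ((Design.blocks B).filter fun b => b ∩ s = ∅).card = 1 := by
  have hlam : ∀ u ⊆ s, (Design.above B u).card = [66, 30, 12, 4, 1, 0].getD u.card 0 := by
    intro u hu
    have hle : u.card ≤ 5 := hs ▸ Finset.card_le_card hu
    by_cases h5 : u.card = 5
    · rw [h5, Finset.eq_of_subset_of_card_le hu (by omega)]
      refine Finset.card_eq_zero.2 (Finset.eq_empty_of_forall_notMem fun b hb => ?_)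
      rw [Design.mem_above] at hb
      exact hsB (Finset.eq_of_subset_of_card_le hb.2 (by rw [hB.1 b hb.1, hs]) ▸ hb.1)
    · refine Design.card_above_le hB (by omega) ?_ (Nat.choose_pos (by omega))
      rw [hα]
      have h4 : u.card ≤ 4 := by omega
      interval_cases u.card <;> decide
  have key : ∀ b : Finset α, (if b ∩ s = ∅ then (1 : ℤ) else 0) =
      ∑ u ∈ s.powerset, if u ⊆ b then (-1 : ℤ) ^ u.card else 0 := by
    intro b
    rw [← Finset.sum_powerset_neg_one_pow_card, ← Finset.sum_filter]
    congr 1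
    ext u
    simp only [Finset.mem_powerset, Finset.mem_filter, Finset.subset_inter_iff]
    tauto
  have : (((Design.blocks B).filter fun b => b ∩ s = ∅).card : ℤ) = 1 := by
    rw [← Finset.sum_boole, Finset.sum_congr rfl fun b _ => key b, Finset.sum_comm,
      Finset.sum_congr rfl (g := fun u => (([66, 30, 12, 4, 1, 0].getD u.card 0 : ℕ) : ℤ) * (-1 : ℤ) ^ u.card)
        fun u hu => ?_]
    · rw [Finset.sum_powerset_apply_card (fun j => (([66, 30, 12, 4, 1, 0].getD j 0 : ℕ) : ℤ) * (-1 : ℤ) ^ j), hs]
      decide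
    · rw [← hlam u (Finset.mem_powerset.1 hu), ← Finset.sum_filter, Finset.sum_const, nsmul_eq_mul]
      rfl
  exact_mod_cast this

theorem extend11_steiner (hα : Fintype.card α = 11) {B : Set (Finset α)} (hB : IsSteinerSystem 4 5 B) :
    IsSteinerSystem 5 6 (extend11 B) := by
  refine ⟨?_, fun s hs => ?_⟩
  · rintro t (⟨b, hb, rfl⟩ | ⟨b, hb, rfl⟩)
    · rw [Finset.card_insertNone, hB.1 b hb]
    · rw [Finset.card_compl, Finset.card_insertNone, hB.1 b hb, Fintype.card_option, hα]
  by_cases hn : none ∈ s
  · obtain ⟨b, ⟨hb, hsub⟩, huniq⟩ := hB.2 (Finset.eraseNone s)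
      (by rw [Finset.card_eraseNone_of_mem hn, hs])
    refine ⟨Finset.insertNone b, ⟨Or.inl ⟨b, hb, rfl⟩, fun o ho => ?_⟩, ?_⟩
    · cases o with
      | none => exact Finset.none_mem_insertNone
      | some a => exact Finset.some_mem_insertNone.2 (hsub (Finset.mem_eraseNone.2 ho))
    · rintro t ⟨⟨c, hc, rfl⟩ | ⟨c, hc, rfl⟩, hst⟩
      · rw [huniq c ⟨hc, fun a ha => Finset.some_mem_insertNone.1 (hst (Finset.mem_eraseNone.1 ha))⟩]
      · exact absurd Finset.none_mem_insertNone (Finset.mem_compl.1 (hst hn))
  · have hs' : (Finset.eraseNone s).card = 5 := by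
      rw [Finset.card_eraseNone_eq_card_erase, Finset.erase_eq_self.2 hn, hs]
    by_cases hb : Finset.eraseNone s ∈ B
    · refine ⟨Finset.insertNone (Finset.eraseNone s), ⟨Or.inl ⟨_, hb, rfl⟩, fun o ho => ?_⟩, ?_⟩
      · cases o with
        | none => exact absurd ho hn
        | some a => exact Finset.some_mem_insertNone.2 (Finset.mem_eraseNone.2 ho)
      · rintro t ⟨⟨c, hc, rfl⟩ | ⟨c, hc, rfl⟩, hst⟩
        · rw [Finset.eq_of_subset_of_card_le (s := Finset.eraseNone s) (t := c)
            (fun a ha => Finset.some_mem_insertNone.1 (hst (Finset.mem_eraseNone.1 ha)))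
            (by rw [hB.1 c hc, hs'])]
        · exfalso
          have hd : Finset.eraseNone s ∩ c = ∅ := Finset.eq_empty_of_forall_notMem fun a ha => by
            obtain ⟨h1, h2⟩ := Finset.mem_inter.1 ha
            exact Finset.mem_compl.1 (hst (Finset.mem_eraseNone.1 h1)) (Finset.some_mem_insertNone.2 h2)
          have hpos := Design.meet_pos (b := Finset.eraseNone s) hc
          rw [hd, Design.card_meet hB (by norm_num) (fun i => [0, 3, 2, 3, 0, 1].getD i 0)
            (by rw [hα]; decide) hb (Finset.empty_subset _), Finset.card_empty] at hpos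
          simp at hpos
    · obtain ⟨c, hc⟩ := Finset.card_eq_one.1 (card_avoid hα hB hs' hb)
      have hcm : c ∈ (Design.blocks B).filter fun b => b ∩ Finset.eraseNone s = ∅ := by rw [hc]; simp
      obtain ⟨hcB, hcd⟩ := Finset.mem_filter.1 hcm
      refine ⟨(Finset.insertNone c)ᶜ, ⟨Or.inr ⟨c, Design.mem_blocks.1 hcB, rfl⟩, fun o ho => ?_⟩, ?_⟩
      · rw [Finset.mem_compl]
        cases o with
        | none => exact absurd ho hn
        | some a =>
          rw [Finset.some_mem_insertNone]
          intro h
          have : a ∈ c ∩ Finset.eraseNone s := Finset.mem_inter.2 ⟨h, Finset.mem_eraseNone.2 ho⟩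
          rw [hcd] at this
          exact Finset.notMem_empty a this
      · rintro t ⟨⟨d, hd, rfl⟩ | ⟨d, hd, rfl⟩, hst⟩
        · exfalso
          refine hb ?_
          rwa [Finset.eq_of_subset_of_card_le (s := Finset.eraseNone s) (t := d)
            (fun a ha => Finset.some_mem_insertNone.1 (hst (Finset.mem_eraseNone.1 ha)))
            (by rw [hB.1 d hd, hs'])]
        · have : d ∈ (Design.blocks B).filter fun b => b ∩ Finset.eraseNone s = ∅ := by
            refine Finset.mem_filter.2 ⟨Design.mem_blocks.2 hd, Finset.eq_empty_of_forall_notMem fun a ha => ?_⟩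
            obtain ⟨h1, h2⟩ := Finset.mem_inter.1 ha
            exact Finset.mem_compl.1 (hst (Finset.mem_eraseNone.1 h2)) (Finset.some_mem_insertNone.2 h1)
          rw [hc, Finset.mem_singleton] at this
          rw [this]

variable {β : Type*} [DecidableEq β]

theorem mem_extend11_insertNone {B : Set (Finset α)} {b : Finset α} :
    Finset.insertNone b ∈ extend11 B ↔ b ∈ B := by
  constructor
  · rintro (⟨c, hc, e⟩ | ⟨c, -, e⟩)
    · rwa [← Finset.insertNone.injective e]
    · exact absurd Finset.none_mem_insertNone (Finset.mem_compl.1 (e ▸ Finset.none_mem_insertNone))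
  · exact fun h => Or.inl ⟨b, h, rfl⟩

theorem extend11_image [Fintype β] (e : α ≃ β) (B : Set (Finset α)) :
    (fun s : Finset (Option α) => s.image e.optionCongr) '' extend11 B =
      extend11 ((fun b : Finset α => b.image e) '' B) := by
  have hc : ∀ b : Finset α, ((Finset.insertNone b)ᶜ).image e.optionCongr =
      (Finset.insertNone (b.image e))ᶜ := fun b => by
    rw [← Uniq.map_insertNone]
    ext t
    simp only [Finset.mem_image, Finset.mem_compl]
    constructor
    · rintro ⟨y, hy, rfl⟩ ⟨z, hz, he⟩
      exact hy (e.optionCongr.injective he ▸ hz)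
    · intro h
      exact ⟨e.optionCongr.symm t, fun hc => h ⟨_, hc, Equiv.apply_symm_apply _ _⟩,
        Equiv.apply_symm_apply _ _⟩
  ext t
  constructor
  · rintro ⟨_, ⟨b, hb, rfl⟩ | ⟨b, hb, rfl⟩, rfl⟩
    · exact Or.inl ⟨_, ⟨b, hb, rfl⟩, (Uniq.map_insertNone e b).symm⟩
    · exact Or.inr ⟨_, ⟨b, hb, rfl⟩, (hc b).symm⟩
  · rintro (⟨_, ⟨b, hb, rfl⟩, rfl⟩ | ⟨_, ⟨b, hb, rfl⟩, rfl⟩)
    · exact ⟨_, Or.inl ⟨b, hb, rfl⟩, Uniq.map_insertNone e b⟩
    · exact ⟨_, Or.inr ⟨b, hb, rfl⟩, hc b⟩

/-- Transporting an extension back. -/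
theorem image_of_extend [Fintype β] (e : α ≃ β) {B : Set (Finset α)} {B' : Set (Finset β)}
    (h : (fun s : Finset (Option α) => s.image e.optionCongr) '' extend11 B = extend11 B') :
    (fun b : Finset α => b.image e) '' B = B' := by
  rw [extend11_image] at h
  ext b
  rw [← mem_extend11_insertNone, h, mem_extend11_insertNone]

theorem steiner11 [Fintype β] (hα : Fintype.card α = 11) (hβ : Fintype.card β = 11) {B : Set (Finset α)}
    {B' : Set (Finset β)} (hB : IsSteinerSystem 4 5 B) (hB' : IsSteinerSystem 4 5 B') :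
    SetSystemIso B B' := by
  obtain ⟨e, he⟩ := steiner12 (by rw [Fintype.card_option, hα]) (extend11_steiner hα hB)
  obtain ⟨e', he'⟩ := steiner12 (by rw [Fintype.card_option, hβ]) (extend11_steiner hβ hB')
  obtain ⟨g, hg⟩ : ∃ g : setSystemAut hexBlocks, g • e none = e' none := by
    haveI : MulAction.IsPretransitive (setSystemAut hexBlocks) (Fin 12) := by
      rw [← MulAction.is_one_pretransitive_iff]
      haveI := hex_transitive
      exact MulAction.isMultiplyPretransitive_of_le (n := 5) (by norm_num) (by simp)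
    exact MulAction.exists_smul_eq _ _ _
  let f : Option α ≃ Option β := (e.trans g.1).trans e'.symm
  have hf : f none = none := by
    show e'.symm (g.1 (e none)) = none
    rw [show g.1 (e none) = e' none from hg, Equiv.symm_apply_apply]
  have hF : f = (Equiv.removeNone f).optionCongr := Equiv.ext fun o => by
    cases o with
    | none => exact hf
    | some a =>
      exact (Equiv.removeNone_some f (Option.ne_none_iff_exists'.1 fun h =>
        Option.some_ne_none a (f.injective (h.trans hf.symm)))).symm
  refine ⟨Equiv.removeNone f, image_of_extend _ ?_⟩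
  rw [← hF]
  have : (fun s : Finset (Option α) => s.image f) =
      (fun t : Finset (Fin 12) => t.image e'.symm) ∘ (fun t : Finset (Fin 12) => g.1 • t) ∘
        (fun s : Finset (Option α) => s.image e) := by
    funext s
    simp only [Function.comp_apply, Finset.smul_finset_def, Finset.image_image]
    rfl
  rw [this, Set.image_comp, Set.image_comp, he,
    show (fun t : Finset (Fin 12) => g.1 • t) '' hexBlocks = hexBlocks from MulAction.mem_stabilizer_iff.1 g.2,
    ← he', ← Set.image_comp]
  convert Set.image_id (extend11 B') using 2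
  simp [Finset.image_image, Function.comp_def]

theorem optionCongr_iff {B : Set (Finset α)} {σ : Equiv.Perm α} :
    (σ.optionCongr : Equiv.Perm (Option α)) ∈ setSystemAut (extend11 B) ↔ σ ∈ setSystemAut B := by
  rw [MulAction.mem_stabilizer_iff, MulAction.mem_stabilizer_iff]
  show (fun s : Finset (Option α) => s.image σ.optionCongr) '' extend11 B = _ ↔
    (fun b : Finset α => b.image σ) '' B = B
  exact ⟨image_of_extend σ, fun h => by rw [extend11_image, h]⟩

theorem aut11 (hα : Fintype.card α = 11) {B : Set (Finset α)} (hB : IsSteinerSystem 4 5 B) :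
    IsM11 (setSystemAut B) ∧ MulAction.IsMultiplyPretransitive (setSystemAut B) α 4 ∧
      ∀ x : Fin 4 ↪ α, MulAction.stabilizer (setSystemAut B) x = ⊥ := by
  obtain ⟨-, htr, hfree⟩ := aut12 (by rw [Fintype.card_option, hα]) (extend11_steiner hα hB)
  let up : (Fin 4 ↪ α) → (Fin 5 ↪ Option α) := fun f =>
    ⟨Fin.cons none (fun i => some (f i)), Fin.cons_injective_iff.2
      ⟨by rintro ⟨i, hi⟩; exact Option.some_ne_none _ hi,
       fun i j h => f.injective (Option.some_injective _ h)⟩⟩
  have htr4 : MulAction.IsMultiplyPretransitive (setSystemAut B) α 4 := by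
    rw [MulAction.isMultiplyPretransitive_iff]
    intro x y
    obtain ⟨g, hg⟩ := MulAction.isMultiplyPretransitive_iff.1 htr (up x) (up y)
    have hgi : ∀ i, g.1 (up x i) = up y i := fun i => congrArg (fun f : Fin 5 ↪ Option α => f i) hg
    have hn : g.1 none = none := hgi 0
    have hs : ∀ a, some (Equiv.removeNone g.1 a) = g.1 (some a) := fun a =>
      Equiv.removeNone_some g.1 (Option.ne_none_iff_exists'.1 fun h =>
        Option.some_ne_none a (g.1.injective (h.trans hn.symm)))
    have he : (Equiv.removeNone g.1).optionCongr = g.1 := Equiv.ext fun o => by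
      cases o with
      | none => exact hn.symm
      | some a => exact hs a
    refine ⟨⟨Equiv.removeNone g.1, optionCongr_iff.1 (he.symm ▸ g.2)⟩,
      Function.Embedding.ext fun i => Option.some_injective _ ?_⟩
    exact (hs (x i)).trans (hgi i.succ)
  have hfree4 : ∀ x : Fin 4 ↪ α, MulAction.stabilizer (setSystemAut B) x = ⊥ := by
    intro x
    rw [eq_bot_iff]
    intro g hg
    have h1 : (⟨g.1.optionCongr, optionCongr_iff.2 g.2⟩ : setSystemAut (extend11 B)) ∈
        MulAction.stabilizer (setSystemAut (extend11 B)) (up x) := by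
      refine MulAction.mem_stabilizer_iff.2 (Function.Embedding.ext fun i => ?_)
      refine Fin.cases ?_ (fun j => ?_) i
      · rfl
      · exact congrArg (Option.some ·) (congrArg (fun f : Fin 4 ↪ α => f j) (MulAction.mem_stabilizer_iff.1 hg))
    rw [hfree, Subgroup.mem_bot] at h1
    rw [Subgroup.mem_bot]
    exact Subtype.ext (Equiv.optionCongr_injective ((congrArg Subtype.val h1).trans Equiv.optionCongr_refl.symm))
  have hcard : Nat.card (setSystemAut B) = 7920 := by
    obtain ⟨x⟩ : Nonempty (Fin 4 ↪ α) := Function.Embedding.nonempty_of_card_le (by simp [hα])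
    have hbij : Function.Bijective (fun g : setSystemAut B => g • x) := by
      refine ⟨fun g h e => ?_, fun y => MulAction.isMultiplyPretransitive_iff.1 htr4 x y⟩
      have : h⁻¹ * g ∈ MulAction.stabilizer (setSystemAut B) x := by
        rw [MulAction.mem_stabilizer_iff, mul_smul, inv_smul_eq_iff]; exact e
      rw [hfree4, Subgroup.mem_bot, inv_mul_eq_one] at this
      exact this.symm
    rw [Nat.card_congr (Equiv.ofBijective _ hbij), Nat.card_eq_fintype_card, Fintype.card_embedding_eq,
      hα, Fintype.card_fin]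
    rfl
  obtain ⟨e, he⟩ := steiner12 (by rw [Fintype.card_option, hα]) (extend11_steiner hα hB)
  let p : GolayPt := (dLabel.symm (e none)).1
  have hp : p ∈ setOfMask stdD := (dLabel.symm (e none)).2
  let E := (Uniq.autEquiv e he).trans hexEquiv.symm
  let F : setSystemAut B →* ↥(MulAction.stabilizer ↥M24 (setOfMask stdD) ⊓ MulAction.stabilizer ↥M24 p) :=
    MonoidHom.codRestrict
      ((MulAction.stabilizer ↥M24 (setOfMask stdD)).subtype.comp (E.toMonoidHom.comp
        (MonoidHom.mk' (fun σ : setSystemAut B => (⟨σ.1.optionCongr, optionCongr_iff.2 σ.2⟩ : setSystemAut (extend11 B)))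
          fun σ τ => Subtype.ext (Equiv.optionCongr_trans τ.1 σ.1))))
      _ fun σ => by
        let q : setSystemAut (extend11 B) := ⟨σ.1.optionCongr, optionCongr_iff.2 σ.2⟩
        refine Subgroup.mem_inf.2 ⟨(E q).2, MulAction.mem_stabilizer_iff.2 ?_⟩
        have hq : dRestrict (E q) (e none) = e none := by
          have : hexEquiv (E q) = Uniq.autEquiv e he q := hexEquiv.apply_symm_apply _
          have h' : dRestrict (E q) = e.permCongr q.1 := congrArg Subtype.val this
          rw [h', Equiv.permCongr_apply, Equiv.symm_apply_apply]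
          rfl
        have h2 : (dLabel.symm (e none)) = ⟨(E q).1 • p, (smul_mem_of_stab (E q).2).2 hp⟩ :=
          dLabel.injective (by rw [← dRestrict_apply, Equiv.apply_symm_apply, hq])
        exact (congrArg Subtype.val h2).symm
  have hFb : Function.Bijective F := by
    refine (Nat.bijective_iff_injective_and_card _).2 ⟨fun σ τ h => ?_, by rw [hcard, card_stab_dodecad_point stdD_mem hp]⟩
    have h1 := E.injective (Subtype.ext (congrArg Subtype.val h : _))
    exact Subtype.ext (Equiv.optionCongr_injective (congrArg Subtype.val h1))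
  exact ⟨⟨isSimple_congr (MulEquiv.ofBijective F hFb).symm (M11_isSimple stdD_mem hp), hcard⟩, htr4, hfree4⟩

end CfsgLib.Sporadic.Hex
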