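import Cfsg.Prelude.Def_SporadicCombinatorics
import Cfsg.Agent.Lib.Sporadic.Bits

/-!
# The ternary code of length 12
-/

set_option autoImplicit false
set_option maxRecDepth 100000

namespace CfsgLib.Sporadic

open Cfsg

/-- Position of an array cell. -/
def cellIx (p : ArrayPt) : ℕ := 3 * p.1.val + p.2.val

def ternRows : List (List ℕ) :=
  [ [1, 0, 0, 0, 0, 1, 0, 0, 1, 1, 1, 2],
    [0, 1, 0, 0, 0, 1, 0, 2, 2, 2, 0, 2],
    [0, 0, 1, 0, 0, 1, 0, 1, 0, 2, 1, 1],
    [0, 0, 0, 1, 0, 2, 0, 2, 1, 2, 1, 0],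
    [0, 0, 0, 0, 1, 2, 0, 1, 2, 0, 1, 2],
    [0, 0, 0, 0, 0, 0, 1, 1, 1, 2, 2, 2] ]

def ternB (j : Fin 6) (p : ArrayPt) : ZMod 3 := (((ternRows.getD j []).getD (cellIx p) 0 : ℕ) : ZMod 3)

def ternPivot : Fin 6 → ArrayPt := ![(0, 0), (0, 1), (0, 2), (1, 0), (1, 1), (2, 0)]

/-- The codeword with given information symbols. -/
def ternEnc (a : Fin 6 → ZMod 3) (p : ArrayPt) : ZMod 3 := ∑ j, a j * ternB j p

def tetraWord (a b : ZMod 3) : Fin 4 → ZMod 3 := a • ![0, 1, 1, 1] + b • ![1, 0, 1, 2]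

theorem isTernary_iff (x : ArrayPt → ZMod 3) : IsTernaryGolayWord x ↔
    ∃ s : ZMod 3, (∀ i : Fin 4, ∑ r : ZMod 3, x (i, r) = -s) ∧
      ∀ a b : ZMod 3, ∑ i : Fin 4, x (i, tetraWord a b i) = s := by
  refine exists_congr fun s => and_congr_right fun _ => ⟨fun h a b => h _ ?_, fun h t ht => ?_⟩
  · exact Submodule.mem_span_pair.2 ⟨a, b, rfl⟩
  · obtain ⟨a, b, rfl⟩ := Submodule.mem_span_pair.1 ht
    exact h a b

theorem ternB_mem (j : Fin 6) : ternB j ∈ ternaryGolayCode := by
  refine (isTernary_iff _).2 ?_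
  revert j
  decide +kernel

theorem ternEnc_eq (a : Fin 6 → ZMod 3) : ternEnc a = ∑ j, a j • ternB j := by
  funext p
  simp [ternEnc, Finset.sum_apply]

theorem ternEnc_mem (a : Fin 6 → ZMod 3) : ternEnc a ∈ ternaryGolayCode := by
  rw [ternEnc_eq]
  exact Submodule.sum_mem _ fun j _ => Submodule.smul_mem _ _ (ternB_mem j)

theorem ternEnc_pivot : ∀ a : Fin 6 → ZMod 3, ∀ j, ternEnc a (ternPivot j) = a j := by
  intro a j
  rw [ternEnc, Finset.sum_eq_single j]
  · rw [show ternB j (ternPivot j) = 1 by revert j; decide +kernel, mul_one]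
  · intro i _ hij
    rw [show ternB i (ternPivot j) = 0 by revert i j; decide +kernel, mul_zero]
  · simp

theorem ternEnc_injective : Function.Injective ternEnc := fun a b h =>
  funext fun j => by rw [← ternEnc_pivot a j, h, ternEnc_pivot]

/-- The word with given values off the pivots. -/
def ternRest (z : Fin 6 → ZMod 3) (p : ArrayPt) : ZMod 3 :=
  [0, 0, 0, 0, 0, z 0, 0, z 1, z 2, z 3, z 4, z 5].getD (cellIx p) 0

theorem ternRest_ker : ∀ z : Fin 6 → ZMod 3,
    (∃ s : ZMod 3, (∀ i : Fin 4, ∑ r : ZMod 3, ternRest z (i, r) = -s) ∧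
      ∀ a b : ZMod 3, ∑ i : Fin 4, ternRest z (i, tetraWord a b i) = s) → z = 0 := by
  decide +kernel

theorem mem_ternary_iff (x : ArrayPt → ZMod 3) : x ∈ ternaryGolayCode ↔ ∃ a, ternEnc a = x := by
  refine ⟨fun hx => ⟨fun j => x (ternPivot j), ?_⟩, fun ⟨a, h⟩ => h ▸ ternEnc_mem a⟩
  have hy := ternaryGolayCode.sub_mem hx (ternEnc_mem fun j => x (ternPivot j))
  generalize hyd : x - ternEnc (fun j => x (ternPivot j)) = y at hy
  have hp : ∀ j, y (ternPivot j) = 0 := fun j => by
    rw [← hyd, Pi.sub_apply, ternEnc_pivot, sub_self]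
  let z : Fin 6 → ZMod 3 := ![y (1, 2), y (2, 1), y (2, 2), y (3, 0), y (3, 1), y (3, 2)]
  have e : y = ternRest z := by
    funext ⟨i, r⟩
    fin_cases i <;> fin_cases r <;> first
      | rfl
      | exact hp 0
      | exact hp 1
      | exact hp 2
      | exact hp 3
      | exact hp 4
      | exact hp 5
  have hy' : IsTernaryGolayWord y := hy
  rw [isTernary_iff, e] at hy'
  have hz := ternRest_ker z hy'
  have y0 : y = 0 := by
    rw [e, hz]; funext ⟨i, r⟩; fin_cases i <;> fin_cases r <;> rfl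
  rw [y0, sub_eq_zero] at hyd
  exact hyd.symm

theorem ncard_ternary (P : (ArrayPt → ZMod 3) → Prop) [DecidablePred P] :
    {x : ArrayPt → ZMod 3 | x ∈ ternaryGolayCode ∧ P x}.ncard =
      (Finset.univ.filter fun a => P (ternEnc a)).card := by
  rw [← Set.ncard_coe_finset, ← Set.ncard_image_of_injective _ ternEnc_injective]
  congr 1
  ext x
  simp only [Set.mem_ofPred_eq, Set.mem_image, Finset.coe_filter, Finset.mem_univ, true_and,
    mem_ternary_iff]
  constructor
  · rintro ⟨⟨a, rfl⟩, h⟩; exact ⟨a, h, rfl⟩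
  · rintro ⟨a, h, rfl⟩; exact ⟨⟨a, rfl⟩, h⟩

theorem ternary_orth {x y : ArrayPt → ZMod 3} (hx : x ∈ ternaryGolayCode) (hy : y ∈ ternaryGolayCode) :
    ∑ p, x p * y p = 0 := by
  have hb : ∀ i j, ∑ p, ternB i p * ternB j p = 0 := by decide +kernel
  obtain ⟨a, rfl⟩ := (mem_ternary_iff x).1 hx
  obtain ⟨b, rfl⟩ := (mem_ternary_iff y).1 hy
  simp only [ternEnc, Finset.sum_mul_sum]
  rw [Finset.sum_comm]
  refine Finset.sum_eq_zero fun i _ => ?_
  rw [Finset.sum_comm]
  refine Finset.sum_eq_zero fun j _ => ?_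
  simp only [mul_mul_mul_comm (a i), ← Finset.mul_sum, hb, mul_zero]

/-- Monomial maps with trivial permutation part. -/
theorem ternary_diag : ∀ c : ArrayPt → ZMod 3, (∀ p, c p ≠ 0) →
    (∀ j, ∃ a : Fin 6 → ZMod 3, ∀ p, c p * ternB j p = ternEnc a p) →
    ∀ p q, c p = c q := by
  intro c hc h p q
  have step : ∀ j r, ternB j r ≠ 0 → c r = c (ternPivot j) := by
    intro j r hr
    obtain ⟨a, ha⟩ := h j
    have hpi : ∀ i, a i = c (ternPivot i) * ternB j (ternPivot i) := fun i =>
      ((ha _).trans (ternEnc_pivot a i)).symm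
    have h1 : ternB j (ternPivot j) = 1 := by clear hr ha hpi; revert j; decide +kernel
    have h0 : ∀ i, i ≠ j → ternB j (ternPivot i) = 0 := by clear hr ha hpi h1; revert j; decide +kernel
    have e := ha r
    rw [ternEnc, Finset.sum_eq_single j (fun i _ hij => by rw [hpi, h0 i hij, mul_zero, zero_mul])
      (fun hj => absurd (Finset.mem_univ j) hj), hpi, h1, mul_one] at e
    exact mul_right_cancel₀ hr e
  have key : ∀ j, c (ternPivot j) = c (1, 2) := by
    have five : ∀ j : Fin 6, j ≠ 5 → c (ternPivot j) = c (1, 2) := fun j hj =>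
      (step j (1, 2) (by revert j; decide +kernel)).symm
    intro j
    by_cases hj : j = 5
    · rw [hj, ← step 5 (2, 1) (by decide +kernel), step 1 (2, 1) (by decide +kernel)]
      exact five 1 (by decide)
    · exact five j hj
  have all : ∀ r : ArrayPt, c r = c (1, 2) := fun r => by
    obtain ⟨j, hj⟩ : ∃ j, ternB j r ≠ 0 := by revert r; decide +kernel
    rw [step j r hj, key j]
  rw [all p, all q]

/-- An array cell as one of the 24 points. -/
def cellEmb : ArrayPt ↪ GolayPt := ⟨fun p => pt (cellIx p), by decide +kernel⟩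

def hexList : List ℕ :=
  [63, 222, 237, 243, 347, 366, 373, 413, 427, 438, 455, 504, 591, 630, 633, 667, 679, 700, 725, 746, 791, 813, 826, 860, 867, 910, 945, 969, 978, 996, 1117, 1127, 1146, 1175, 1198, 1209, 1227, 1268, 1295, 1331, 1340, 1366, 1385, 1434, 1445, 1484, 1489, 1506, 1566, 1579, 1589, 1619, 1644, 1677, 1714, 1734, 1752, 1761, 1817, 1830, 1861, 1866, 1904, 1923, 1940, 1960, 2135, 2155, 2172, 2191, 2229, 2234, 2265, 2278, 2334, 2343, 2361, 2381, 2418, 2451, 2476, 2506, 2516, 2529, 2589, 2606, 2611, 2650, 2661, 2710, 2729, 2755, 2764, 2800, 2827, 2868, 2886, 2897, 2920, 2949, 2968, 2978, 3099, 3117, 3126, 3150, 3185, 3228, 3235, 3269, 3282, 3304, 3349, 3370, 3395, 3416, 3428, 3462, 3465, 3504, 3591, 3640, 3657, 3668, 3682, 3722, 3729, 3748, 3852, 3858, 3873, 4032]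

def ternMask (x : ArrayPt → ZMod 3) : ℕ := maskOf ((ternarySupport x).map cellEmb)

noncomputable def fiveOK : Bool :=
  forallLt 4096 fun m => !(Nat.beq (popc m) 5) ||
    Nat.beq ((hexList.filter fun h => Nat.beq (Nat.land m h) m).length) 1

theorem fiveOK_eq : fiveOK = true := by decide +kernel

theorem hexList_spec : (∀ a : Fin 6 → ZMod 3, (ternarySupport (ternEnc a)).card = 6 →
      ternMask (ternEnc a) ∈ hexList) ∧ hexList.Nodup ∧
    ((Finset.univ.filter fun a => (ternarySupport (ternEnc a)).card = 6).image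
      fun a => ternMask (ternEnc a)).card = 132 := by
  refine ⟨by decide +kernel, by decide +kernel, by decide +kernel⟩

theorem hexads_ternary :
    IsSteinerSystem 5 6 {h : Finset ArrayPt | ∃ x ∈ ternaryGolayCode, ternarySupport x = h ∧ h.card = 6} ∧
    {h : Finset ArrayPt | ∃ x ∈ ternaryGolayCode, ternarySupport x = h ∧ h.card = 6}.ncard = 132 := by
  obtain ⟨h1, h2, h3⟩ := hexList_spec
  let H : Finset (Finset ArrayPt) :=
    (Finset.univ.filter fun a => (ternarySupport (ternEnc a)).card = 6).image fun a => ternarySupport (ternEnc a)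
  have hH : {h : Finset ArrayPt | ∃ x ∈ ternaryGolayCode, ternarySupport x = h ∧ h.card = 6} = ↑H := by
    ext h
    simp only [Set.mem_ofPred_eq, H, Finset.coe_image, Set.mem_image, Finset.coe_filter,
      Finset.mem_univ, true_and]
    constructor
    · rintro ⟨x, hx, rfl, h6⟩
      obtain ⟨a, rfl⟩ := (mem_ternary_iff x).1 hx
      exact ⟨a, h6, rfl⟩
    · rintro ⟨a, h6, rfl⟩
      exact ⟨_, ternEnc_mem a, rfl, h6⟩
  let φ : Finset ArrayPt → ℕ := fun s => maskOf (s.map cellEmb)
  have hφ : Function.Injective φ := fun s t e => Finset.map_injective _ (maskOf_injective e)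
  have hHφ : H.image φ = hexList.toFinset := by
    refine Finset.eq_of_subset_of_card_le ?_ ?_
    · intro m hm
      simp only [H, Finset.mem_image, Finset.mem_filter, Finset.mem_univ, true_and] at hm
      obtain ⟨_, ⟨a, ha, rfl⟩, rfl⟩ := hm
      exact List.mem_toFinset.2 (h1 a ha)
    · rw [List.toFinset_card_of_nodup h2, Finset.image_image]
      exact le_of_eq h3.symm
  rw [hH]
  refine ⟨⟨fun b hb => ?_, fun s hs => ?_⟩, ?_⟩
  · simp only [H, Finset.mem_coe, Finset.mem_image, Finset.mem_filter] at hb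
    obtain ⟨a, ⟨-, ha⟩, rfl⟩ := hb
    exact ha
  · have hlt : φ s < 4096 := by
      refine Nat.lt_pow_two_of_testBit (n := 12) _ fun i hi => ?_
      by_contra hne
      rw [Bool.not_eq_false] at hne
      have hi24 : i < 24 := by
        by_contra h24
        rw [Nat.testBit_eq_false_of_lt (lt_of_lt_of_le (maskOf_lt _)
          (Nat.pow_le_pow_right (by norm_num) (by omega)))] at hne
        simp at hne
      have : pt i ∈ s.map cellEmb := by
        rw [mem_iff_bitAt, ix_pt hi24, bitAt_eq, if_pos hne]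
      obtain ⟨p, -, e⟩ := Finset.mem_map.1 this
      have hp : ∀ p : ArrayPt, cellIx p < 12 := by decide +kernel
      have e' := congrArg ix e
      rw [ix_pt hi24, show cellEmb p = pt (cellIx p) from rfl, ix_pt (by have := hp p; omega)] at e'
      have := hp p
      omega
    have hf := forallLt_elim fiveOK_eq hlt
    rw [popc_maskOf, Finset.card_map, hs, Bool.or_eq_true] at hf
    rcases hf with hf | hf
    · simp at hf
    rw [Nat.beq_eq, List.length_eq_one_iff] at hf
    obtain ⟨m0, hm0⟩ := hf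
    have hmem : m0 ∈ hexList ∧ φ s &&& m0 = φ s := by
      have := hm0 ▸ List.mem_singleton_self m0
      rw [List.mem_filter, Nat.beq_eq] at this
      exact this
    rw [← List.mem_toFinset, ← hHφ, Finset.mem_image] at hmem
    obtain ⟨⟨b, hb, rfl⟩, hsub⟩ := hmem
    refine ⟨b, ⟨hb, ?_⟩, fun c hc => hφ ?_⟩
    · exact (Finset.map_subset_map (f := cellEmb)).1 ((subset_iff_land _ _).2 hsub)
    · have : φ c ∈ hexList.filter fun h => Nat.beq (Nat.land (φ s) h) (φ s) := by
        rw [List.mem_filter, Nat.beq_eq]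
        refine ⟨List.mem_toFinset.1 (hHφ ▸ Finset.mem_image_of_mem φ hc.1), ?_⟩
        exact (subset_iff_land _ _).1 ((Finset.map_subset_map (f := cellEmb)).2 hc.2)
      rw [hm0, List.mem_singleton] at this
      exact this
  · rw [Set.ncard_coe_finset, ← Finset.card_image_of_injective H hφ, hHφ, List.toFinset_card_of_nodup h2]
    decide +kernel

end CfsgLib.Sporadic
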