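import Cfsg.Agent.Lib.Sporadic.HexSystemData
import Cfsg.Agent.Lib.Sporadic.Design
import Cfsg.Agent.Lib.Sporadic.Ternary
import Cfsg.Agent.Lib.Sporadic.PermList

/-!
# Uniqueness of `S(5,6,12)`

A checked case analysis: from one block, each five-set not yet covered is completed in every
possible way, and each branch either breaks an intersection number or reaches the hexads.
-/

set_option autoImplicit false

namespace CfsgLib.Sporadic.Hex

open Cfsg

/-- Twelve of the points. -/
def emb12 : Fin 12 ↪ GolayPt := ⟨fun i => pt i.val, by decide +kernel⟩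

theorem ix_emb12 (i : Fin 12) : ix (emb12 i) = i.val := by revert i; decide +kernel

/-- The mask of a set of the twelve points. -/
def m12set (s : Finset (Fin 12)) : ℕ := maskOf (s.map emb12)

theorem popc_m12 (s : Finset (Fin 12)) : popc (m12set s) = s.card := by
  rw [m12set, popc_maskOf, Finset.card_map]

theorem land_m12 (s t : Finset (Fin 12)) : m12set s &&& m12set t = m12set (s ∩ t) := by
  rw [m12set, m12set, m12set, Finset.map_inter, maskOf_inter]

theorem m12set_injective : Function.Injective m12set := fun _ _ e =>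
  Finset.map_injective _ (maskOf_injective e)

/-- The set of the twelve points with a given mask. -/
def s12 (m : ℕ) : Finset (Fin 12) := Finset.univ.filter fun i => m.testBit i.val

theorem s12_m12set (s : Finset (Fin 12)) : s12 (m12set s) = s := by
  ext i
  simp only [s12, Finset.mem_filter, Finset.mem_univ, true_and]
  rw [← ix_emb12, m12set, testBit_maskOf, decide_eq_true_eq, Finset.mem_map' emb12]

theorem m12_lt (s : Finset (Fin 12)) : m12set s < 4096 := by
  refine Nat.lt_pow_two_of_testBit (n := 12) _ fun i hi => ?_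
  by_contra hne
  rw [Bool.not_eq_false, m12set] at hne
  have h24 : i < 24 := by
    by_contra h24
    rw [Nat.testBit_eq_false_of_lt (lt_of_lt_of_le (maskOf_lt _)
      (Nat.pow_le_pow_right (by norm_num) (by omega)))] at hne
    simp at hne
  have : pt i ∈ s.map emb12 := by rw [mem_iff_bitAt, ix_pt h24, bitAt_eq]; exact if_pos hne
  obtain ⟨j, -, e⟩ := Finset.mem_map.1 this
  have e' := congrArg ix e
  rw [ix_emb12, ix_pt h24] at e'
  omega

theorem m12set_s12 {m : ℕ} (hm : m < 4096) : m12set (s12 m) = m := by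
  refine Nat.eq_of_testBit_eq fun i => ?_
  by_cases hi : i < 12
  · rw [show i = ((⟨i, hi⟩ : Fin 12) : ℕ) from rfl, ← ix_emb12, m12set, testBit_maskOf, ix_emb12]
    simp [s12]
  · rw [Nat.testBit_eq_false_of_lt (lt_of_lt_of_le (m12_lt _)
      (show 2 ^ 12 ≤ 2 ^ i from Nat.pow_le_pow_right (by norm_num) (by omega))),
      Nat.testBit_eq_false_of_lt (lt_of_lt_of_le hm
      (show 2 ^ 12 ≤ 2 ^ i from Nat.pow_le_pow_right (by norm_num) (by omega)))]

theorem card_s12 {m : ℕ} (hm : m < 4096) : (s12 m).card = popc m := by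
  rw [← popc_m12, m12set_s12 hm]

theorem m12_compl (s : Finset (Fin 12)) : m12set sᶜ = 4095 ^^^ m12set s := by
  have h : sᶜ = symmDiff Finset.univ s := by ext x; simp [Finset.mem_symmDiff]
  have hu : m12set Finset.univ = 4095 := by decide +kernel
  rw [h, m12set, Finset.map_eq_image, Finset.image_symmDiff _ _ emb12.injective,
    ← Finset.map_eq_image, ← Finset.map_eq_image, maskOf_symmDiff]
  exact congrArg (· ^^^ _) hu

/-- The properties of the masks of the blocks that are used. -/
structure IsHex (H : ℕ → Prop) : Prop where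
  lt : ∀ m, H m → m < 4096
  six : ∀ m, H m → popc m = 6
  compl : ∀ m, H m → H (4095 ^^^ m)
  meet : ∀ m m', H m → H m' → m ≠ m' → popc (m &&& m') ≠ 1 ∧ popc (m &&& m') ≠ 5
  cover : ∀ f, f < 4096 → popc f = 5 → ∃ i, i < 12 ∧ bitAt f i = 0 ∧ H (f ||| 1 <<< i)

theorem isHex_of_steiner {B : Set (Finset (Fin 12))} (hB : IsSteinerSystem 5 6 B) :
    IsHex fun m => ∃ b ∈ B, m12set b = m where
  lt := by rintro _ ⟨b, -, rfl⟩; exact m12_lt b
  six := by rintro _ ⟨b, hb, rfl⟩; rw [popc_m12, hB.1 b hb]
  compl := by
    rintro _ ⟨b, hb, rfl⟩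
    exact ⟨bᶜ, Design.compl12 (Fintype.card_fin 12) hB hb, m12_compl b⟩
  meet := by
    rintro _ _ ⟨b, hb, rfl⟩ ⟨c, hc, rfl⟩ hne
    rw [land_m12, popc_m12]
    rcases Design.inter12 (Fintype.card_fin 12) hB hb hc (fun e => hne (e ▸ rfl)) with e | e | e | e <;>
      omega
  cover := by
    intro f hf h5
    obtain ⟨b, ⟨hb, hsub⟩, -⟩ := hB.2 (s12 f) (by rw [card_s12 hf, h5])
    obtain ⟨i, hi⟩ : ∃ i, i ∈ b \ s12 f := by
      refine Finset.card_pos.1 ?_
      rw [Finset.card_sdiff_of_subset hsub, hB.1 b hb, card_s12 hf, h5]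
      norm_num
    obtain ⟨hib, hif⟩ := Finset.mem_sdiff.1 hi
    have hbit : bitAt f i.val = 0 := by
      rw [bitAt_eq, if_neg]
      intro h
      exact hif (by simp [s12, h])
    refine ⟨i.val, i.2, hbit, b, hb, ?_⟩
    have hins : b = insert i (s12 f) := (Finset.eq_of_subset_of_card_le (Finset.insert_subset hib hsub)
      (by rw [hB.1 b hb, Finset.card_insert_of_notMem hif, card_s12 hf, h5])).symm
    have e : (insert i (s12 f)).map emb12 = {emb12 i} ∪ (s12 f).map emb12 := by
      rw [Finset.map_insert, Finset.insert_eq]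
    rw [hins, m12set, e, maskOf_union, maskOf_singleton, ix_emb12, ← m12set, m12set_s12 hf, Nat.or_comm]

/-- `m` or its complement is listed. -/
noncomputable def known (K : List ℕ) (m : ℕ) : Bool :=
  K.any fun b => Nat.beq m b || Nat.beq m (Nat.xor 4095 b)

/-- The candidates through a five-set. -/
noncomputable def cand (f : ℕ) : List ℕ :=
  ([0, 1, 2, 3, 4, 5, 6, 7, 8, 9, 10, 11].filter fun i => Nat.beq (bitAt f i) 0).map fun i =>
    Nat.lor f (Nat.shiftLeft 1 i)

/-- Two masks cannot both be blocks. -/
noncomputable def bad (c b : ℕ) : Bool :=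
  Nat.beq (popc (Nat.land c b)) 1 || Nat.beq (popc (Nat.land c b)) 5

/-- One step over a candidate. -/
noncomputable def arm (rec' : List ℕ → List ℕ → Option (List ℕ)) (K : List ℕ)
    (s : ℕ × Option (List ℕ)) (c : ℕ) : ℕ × Option (List ℕ) :=
  (Nat.div s.1 128, s.2.bind fun r =>
    match Nat.mod s.1 128 with
    | 0 => rec' (c :: K) r
    | d + 1 => if Nat.blt d K.length && Nat.beq (popc c) 6 && bad c (K.getD d 0) then some r else none)

/-- The checker: an even entry is a leaf with its permutation, an odd one a five-set with the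
reasons against its candidates. -/
noncomputable def chk (T : List ℕ) : ℕ → List ℕ → List ℕ → Option (List ℕ)
  | 0, _, _ => none
  | _ + 1, _, [] => none
  | n + 1, K, x :: rest =>
    if Nat.beq (Nat.mod x 2) 0 then
      (if okPerm (Nat.div x 2) && forallLt 12 (fun i => Nat.blt (pget (Nat.div x 2) i) 12) &&
          T.all (fun t => known K (mimg (Nat.div x 2) t)) then some rest else none)
    else
      (if Nat.beq (popc (Nat.mod (Nat.div x 2) 4096)) 5 then
        ((cand (Nat.mod (Nat.div x 2) 4096)).foldl (arm (chk T n) K)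
          (Nat.div (Nat.div x 2) 4096, some rest)).2
      else none)

theorem foldl_arm_none (g : List ℕ → List ℕ → Option (List ℕ)) (K : List ℕ) :
    ∀ (l : List ℕ) (a : ℕ), (l.foldl (arm g K) (a, none)).2 = none := by
  intro l
  induction l with
  | nil => intro a; rfl
  | cons c l ih => intro a; exact ih _

theorem foldl_arm (g : List ℕ → List ℕ → Option (List ℕ)) (K : List ℕ) :
    ∀ (l : List ℕ) (a : ℕ) (r r' : List ℕ), (l.foldl (arm g K) (a, some r)).2 = some r' →
      ∀ c ∈ l, (∃ u v, g (c :: K) u = some v) ∨ ∃ d < K.length, popc c = 6 ∧ bad c (K.getD d 0) = true := by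
  intro l
  induction l with
  | nil => simp
  | cons c l ih =>
    intro a r r' h c' hc'
    rw [List.foldl_cons] at h
    rcases hm : (arm g K (a, some r) c).2 with - | r₁
    · rw [show arm g K (a, some r) c = ((arm g K (a, some r) c).1, none) from Prod.ext rfl hm,
        foldl_arm_none] at h
      exact absurd h (by simp)
    rw [show arm g K (a, some r) c = ((arm g K (a, some r) c).1, some r₁) from Prod.ext rfl hm] at h
    rcases List.mem_cons.1 hc' with rfl | hc'
    · simp only [arm, Option.bind_some] at hm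
      split at hm
      · exact Or.inl ⟨_, _, hm⟩
      · split at hm
        · rename_i d _ hd
          simp only [Bool.and_eq_true, Nat.blt_eq, Nat.beq_eq] at hd
          exact Or.inr ⟨d, hd.1.1, hd.1.2, hd.2⟩
        · exact absurd hm (by simp)
    · exact ih _ _ _ h c' hc'

theorem chk_spec (T : List ℕ) : ∀ (n : ℕ) (K L r : List ℕ), chk T n K L = some r →
    ∀ H : ℕ → Prop, IsHex H → (∀ b ∈ K, H b) →
      ∃ q, okPerm q = true ∧ (∀ i < 12, pget q i < 12) ∧ ∀ t ∈ T, H (mimg q t) := by
  intro n
  induction n with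
  | zero => intro K L r h; exact absurd h (by simp [chk])
  | succ n ih =>
    intro K L r h H hH hK
    rcases L with - | ⟨x, rest⟩
    · exact absurd h (by simp [chk])
    rw [chk] at h
    split at h
    · split at h
      · rename_i hq
        simp only [Bool.and_eq_true, List.all_eq_true, forallLt_iff, Nat.blt_eq] at hq
        refine ⟨_, hq.1.1, hq.1.2, fun t ht => ?_⟩
        have := hq.2 t ht
        simp only [known, List.any_eq_true, Bool.or_eq_true, Nat.beq_eq] at this
        obtain ⟨b, hb, e | e⟩ := this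
        · rw [e]; exact hK b hb
        · rw [e]; exact hH.compl b (hK b hb)
      · exact absurd h (by simp)
    · split at h
      · rename_i hf
        rw [Nat.beq_eq] at hf
        obtain ⟨i, hi, hbit, hmem⟩ := hH.cover _ (Nat.mod_lt _ (by norm_num)) hf
        have hc : Nat.mod (Nat.div x 2) 4096 ||| 1 <<< i ∈ cand (Nat.mod (Nat.div x 2) 4096) := by
          refine List.mem_map.2 ⟨i, List.mem_filter.2 ⟨?_, by rw [Nat.beq_eq]; exact hbit⟩, rfl⟩
          interval_cases i <;> simp
        rcases foldl_arm _ _ _ _ _ _ h _ hc with ⟨u, v, e⟩ | ⟨d, hd, h6, hbad⟩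
        · exact ih _ _ _ e H hH fun b hb => by
            rcases List.mem_cons.1 hb with rfl | hb
            exacts [hmem, hK b hb]
        · exfalso
          have hb : H (K.getD d 0) := hK _ (by rw [List.getD_eq_getElem _ _ hd]; exact List.getElem_mem _)
          simp only [bad, Bool.or_eq_true, Nat.beq_eq] at hbad
          by_cases e : Nat.mod (Nat.div x 2) 4096 ||| 1 <<< i = K.getD d 0
          · change popc (_ &&& _) = 1 ∨ popc (_ &&& _) = 5 at hbad
            rw [← e, Nat.and_self, h6] at hbad
            omega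
          · obtain ⟨n1, n5⟩ := hH.meet _ _ hmem hb e
            rcases hbad with h | h
            exacts [n1 h, n5 h]
      · exact absurd h (by simp)

set_option maxRecDepth 100000 in
theorem cert1_ok : (chk hexStart 8 [63] hexCert1).isSome = true := by decide +kernel

set_option maxRecDepth 100000 in
theorem cert2_ok : (chk hexList 70 hexStart hexCert2).isSome = true := by decide +kernel

theorem exists_of_cert {T K L : List ℕ} {n : ℕ} (h : (chk T n K L).isSome = true)
    {B : Set (Finset (Fin 12))} (hB : IsSteinerSystem 5 6 B) (hK : ∀ b ∈ K, ∃ c ∈ B, m12set c = b)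
    (hT : ∀ t ∈ T, t < 4096) :
    ∃ π : Equiv.Perm (Fin 12), ∀ t ∈ T, (s12 t).image π ∈ B := by
  obtain ⟨r, hr⟩ := Option.isSome_iff_exists.1 h
  obtain ⟨q, hok, hlt, hall⟩ := chk_spec T n K L r hr _ (isHex_of_steiner hB) hK
  obtain ⟨σ, hσ⟩ := exists_rep hok
  let g : Fin 12 → Fin 12 := fun i => ⟨pget q i.val, hlt i.val i.2⟩
  have hg : ∀ i, σ (emb12 i) = emb12 (g i) := fun i => ix_injective (by
    rw [← hσ (emb12 i), ix_emb12, ix_emb12])
  have hginj : Function.Injective g := fun i j e => emb12.injective (σ.injective (by rw [hg, hg, e]))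
  refine ⟨Equiv.ofBijective g (Finite.injective_iff_bijective.1 hginj), fun t ht => ?_⟩
  obtain ⟨b, hb, e⟩ := hall t ht
  convert hb using 1
  apply m12set_injective
  refine setOfMask_inj (maskOf_lt _) (maskOf_lt _) ?_
  show setOfMask (m12set _) = setOfMask (m12set b)
  rw [e, setOfMask_mimg hσ]
  conv_rhs => rw [← m12set_s12 (hT t ht)]
  simp only [m12set, setOfMask_maskOf]
  rw [Finset.map_eq_image, Finset.map_eq_image, Finset.image_image, Finset.image_image]
  exact Finset.image_congr fun x _ => (hg x).symm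

/-- The hexads on twelve points. -/
def hexBlocks : Set (Finset (Fin 12)) := {s | m12set s ∈ hexList}

theorem ncard_hexBlocks : hexBlocks.ncard = 132 := by
  have h : hexBlocks = ↑(hexList.toFinset.image s12) := by
    ext s
    simp only [hexBlocks, Set.mem_ofPred_eq, Finset.coe_image, Set.mem_image, List.coe_toFinset]
    constructor
    · exact fun h => ⟨_, h, s12_m12set s⟩
    · rintro ⟨m, hm, rfl⟩
      have : ∀ m ∈ hexList, m < 4096 := by decide +kernel
      rwa [m12set_s12 (this m hm)]
  rw [h, Set.ncard_coe_finset, Finset.card_image_of_injOn, List.toFinset_card_of_nodup hexList_spec.2.1]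
  · rfl
  · intro a ha b hb e
    have : ∀ m ∈ hexList, m < 4096 := by decide +kernel
    simp only [List.coe_toFinset, Set.mem_ofPred_eq] at ha hb
    rw [← m12set_s12 (this a ha), e, m12set_s12 (this b hb)]

theorem ncard12 {α : Type*} [Fintype α] [DecidableEq α] (hα : Fintype.card α = 12) {B : Set (Finset α)}
    (hB : IsSteinerSystem 5 6 B) : B.ncard = 132 := by
  have h := Design.card_above_le hB (lam := 132) (s := (∅ : Finset α)) (by simp)
    (by rw [hα, Finset.card_empty]; decide) (Nat.choose_pos (by simp))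
  rw [← Design.card_blocks, ← h]
  congr 1
  ext b; simp [Design.mem_above, Design.mem_blocks]

theorem steiner_image {α β : Type*} [Fintype α] [DecidableEq α] [DecidableEq β] {t k : ℕ}
    {B : Set (Finset α)} (hB : IsSteinerSystem t k B) (e : α ≃ β) :
    IsSteinerSystem t k ((fun b : Finset α => b.image e) '' B) := by
  refine ⟨?_, fun s hs => ?_⟩
  · rintro _ ⟨b, hb, rfl⟩
    rw [Finset.card_image_of_injective _ e.injective, hB.1 b hb]
  · obtain ⟨b, ⟨hb, hsb⟩, huniq⟩ := hB.2 (s.image e.symm)
      (by rw [Finset.card_image_of_injective _ e.symm.injective, hs])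
    refine ⟨b.image e, ⟨⟨b, hb, rfl⟩, fun x hx => Finset.mem_image.2
      ⟨e.symm x, hsb (Finset.mem_image_of_mem _ hx), e.apply_symm_apply x⟩⟩, ?_⟩
    rintro _ ⟨⟨c, hc, rfl⟩, hsc⟩
    rw [huniq c ⟨hc, fun y hy => ?_⟩]
    obtain ⟨x, hx, rfl⟩ := Finset.mem_image.1 hy
    obtain ⟨z, hz, rfl⟩ := Finset.mem_image.1 (hsc hx)
    rwa [e.symm_apply_apply]

/-- Any `S(5,6,12)` maps onto the hexads. -/
theorem steiner12 {α : Type*} [Fintype α] [DecidableEq α] (hα : Fintype.card α = 12)
    {B : Set (Finset α)} (hB : IsSteinerSystem 5 6 B) :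
    ∃ e : α ≃ Fin 12, (fun b : Finset α => b.image e) '' B = hexBlocks := by
  let e₀ : α ≃ Fin 12 := Fintype.equivFinOfCardEq hα
  obtain ⟨b, hb⟩ : B.Nonempty := Set.nonempty_of_ncard_ne_zero (by rw [ncard12 hα hB]; norm_num)
  have hc : (b.image e₀).card = (s12 63).card := by
    rw [Finset.card_image_of_injective _ e₀.injective, hB.1 b hb]; decide +kernel
  let e₁ : α ≃ Fin 12 := e₀.trans ((Finset.equivOfCardEq hc).extendSubtype)
  have h1 : b.image e₁ = s12 63 := by
    refine Finset.eq_of_subset_of_card_le (fun x hx => ?_)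
      (by rw [← hc, Finset.card_image_of_injective _ e₁.injective, Finset.card_image_of_injective _ e₀.injective])
    obtain ⟨a, ha, rfl⟩ := Finset.mem_image.1 hx
    exact Equiv.extendSubtype_mem _ _ (Finset.mem_image_of_mem _ ha)
  have hB1 := steiner_image hB e₁
  obtain ⟨π, hπ⟩ := exists_of_cert cert1_ok hB1
    (fun m hm => by
      rw [List.mem_singleton] at hm
      exact ⟨_, ⟨b, hb, rfl⟩, by show m12set (b.image e₁) = m; rw [h1, hm, m12set_s12 (by norm_num)]⟩)
    (by decide +kernel)
  let e₂ : α ≃ Fin 12 := e₁.trans π.symm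
  have hB2 := steiner_image hB e₂
  have hstart : ∀ m ∈ hexStart, ∃ c ∈ (fun b : Finset α => b.image e₂) '' B, m12set c = m := by
    intro m hm
    obtain ⟨c, hc, e⟩ := hπ m hm
    refine ⟨_, ⟨c, hc, rfl⟩, ?_⟩
    show m12set (c.image e₂) = m
    have : c.image e₂ = s12 m := by
      apply Finset.image_injective π.injective
      rw [← e, Finset.image_image]
      exact Finset.image_congr fun x _ => by simp [e₂]
    rw [this]
    exact m12set_s12 ((by decide +kernel : ∀ m ∈ hexStart, m < 4096) m hm)
  obtain ⟨ρ, hρ⟩ := exists_of_cert cert2_ok hB2 hstart (by decide +kernel)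
  refine ⟨e₂.trans ρ.symm, (Set.eq_of_subset_of_ncard_le ?_ ?_ (Set.toFinite _)).symm⟩
  · intro s hs
    obtain ⟨c, hc, e⟩ := hρ _ hs
    refine ⟨c, hc, ?_⟩
    apply Finset.image_injective ρ.injective
    rw [s12_m12set] at e
    rw [← e]
    show Finset.image ρ (Finset.image _ c) = _
    rw [Finset.image_image]
    exact Finset.image_congr fun x _ => by simp
  · rw [ncard_hexBlocks, Set.ncard_image_of_injective _ (Finset.image_injective (Equiv.injective _)),
      ncard12 hα hB]

end CfsgLib.Sporadic.Hex
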