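import Cfsg.Prelude.Def_SporadicCombinatorics

/-!
# The hexacode and its monomial automorphisms
-/

set_option autoImplicit false
set_option maxRecDepth 100000

namespace CfsgLib.Sporadic.Hexa

open Cfsg

/-- Sum in the field of four elements, elements numbered 0, 1, ω, ω + 1. -/
def add4 (i j : Fin 4) : Fin 4 :=
  ![![0, 1, 2, 3], ![1, 0, 3, 2], ![2, 3, 0, 1], ![3, 2, 1, 0]] i j

/-- Product in the field of four elements. -/
def mul4 (i j : Fin 4) : Fin 4 :=
  ![![0, 0, 0, 0], ![0, 1, 2, 3], ![0, 2, 3, 1], ![0, 3, 1, 2]] i j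

def gen (k : Fin 3) : Fin 6 → Fin 4 :=
  ![![2, 3, 3, 2, 3, 2], ![3, 2, 2, 3, 3, 2], ![3, 2, 3, 2, 2, 3]] k

def word (a : Fin 3 → Fin 4) (i : Fin 6) : Fin 4 :=
  add4 (add4 (mul4 (a 0) (gen 0 i)) (mul4 (a 1) (gen 1 i))) (mul4 (a 2) (gen 2 i))

theorem word_injective : ∀ a b, word a = word b → a = b := by decide +kernel

/-- A monomial map sends the code to itself, tested on the generators. -/
def okMap (s : Fin 6 → Fin 6) (c : Fin 6 → Fin 4) : Prop :=
  ∀ k, ∃ a, ∀ i, word a (s i) = mul4 (c (s i)) (gen k i)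

instance (s : Fin 6 → Fin 6) (c : Fin 6 → Fin 4) : Decidable (okMap s c) := by unfold okMap; infer_instance

def witList : List ((List (Fin 6)) × (List (Fin 4))) :=
  [ ([1,2,0,3,4,5], [1,1,1,1,3,2]),
    ([1,3,2,0,4,5], [1,1,1,1,2,3]),
    ([1,4,2,3,0,5], [1,1,3,2,1,1]),
    ([1,5,2,3,4,0], [1,1,2,3,1,1]),
    ([2,0,1,3,4,5], [1,1,1,1,2,3]),
    ([2,1,3,0,4,5], [1,1,1,1,3,2]),
    ([2,1,4,3,0,5], [1,3,2,1,3,2]),
    ([2,1,5,3,4,0], [1,2,3,1,3,2]),
    ([3,0,2,1,4,5], [1,1,1,1,3,2]),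
    ([3,1,0,2,4,5], [1,1,1,1,2,3]),
    ([3,1,2,4,0,5], [1,2,1,3,2,3]),
    ([3,1,2,5,4,0], [1,3,1,2,2,3]),
    ([4,0,2,3,1,5], [1,1,2,3,1,1]),
    ([4,1,0,3,2,5], [1,3,3,2,2,1]),
    ([4,1,2,0,3,5], [1,2,3,2,3,1]),
    ([4,1,2,3,5,0], [1,1,3,2,1,1]),
    ([5,0,2,3,4,1], [1,1,3,2,1,1]),
    ([5,1,0,3,4,2], [1,2,2,3,1,3]),
    ([5,1,2,0,4,3], [1,3,2,3,1,2]),
    ([5,1,2,3,0,4], [1,1,2,3,1,1]),
    ([0,2,3,1,4,5], [1,1,1,1,2,3]),
    ([0,2,4,3,1,5], [1,3,2,3,1,2]),
    ([0,2,5,3,4,1], [1,2,3,2,3,1]),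
    ([0,3,1,2,4,5], [1,1,1,1,3,2]),
    ([0,3,2,4,1,5], [1,2,2,3,1,3]),
    ([0,3,2,5,4,1], [1,3,3,2,2,1]),
    ([0,4,1,3,2,5], [1,3,1,2,2,3]),
    ([0,4,2,1,3,5], [1,2,3,1,3,2]),
    ([0,4,2,3,5,1], [1,1,2,3,1,1]),
    ([0,5,1,3,4,2], [1,2,1,3,2,3]),
    ([0,5,2,1,4,3], [1,3,2,1,3,2]),
    ([0,5,2,3,1,4], [1,1,3,2,1,1]),
    ([0,1,3,4,2,5], [1,3,2,2,2,2]),
    ([0,1,3,5,4,2], [1,2,3,3,3,3]),
    ([0,1,4,2,3,5], [1,2,3,3,3,3]),
    ([0,1,4,3,5,2], [1,3,2,2,2,2]),
    ([0,1,5,2,4,3], [1,3,2,2,2,2]),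
    ([0,1,5,3,2,4], [1,2,3,3,3,3]),
    ([0,1,2,4,5,3], [1,2,3,3,3,3]),
    ([0,1,2,5,3,4], [1,3,2,2,2,2]) ]

theorem witList_ok : ∀ w ∈ witList, (∀ i, w.2.getD (i : Fin 6).val 0 ≠ 0) ∧
    okMap (fun i => w.1.getD i.val 0) (fun i => w.2.getD i.val 0) := by decide +kernel

theorem three_cycles : ∀ a b c : Fin 6, a ≠ b → a ≠ c → b ≠ c →
    ∃ w ∈ witList, ∀ i : Fin 6, w.1.getD i.val 0 = (Equiv.swap a b * Equiv.swap a c) i := by decide +kernel

theorem no_swap : ∀ c : Fin 6 → Fin 4, (∀ i, c i ≠ 0) → ¬ okMap (fun i => Equiv.swap 0 1 i) c := by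
  decide +kernel

theorem diag_const : ∀ c : Fin 6 → Fin 4, (∀ i, c i ≠ 0) → okMap (fun i => i) c → ∀ i, c i = c 0 := by
  decide +kernel

variable {F : Type*} [Field F] (ω : F)

def el (i : Fin 4) : F := ![0, 1, ω, ω + 1] i

variable {ω}

theorem two_eq [Fintype F] (hF : Fintype.card F = 4) : (2 : F) = 0 := by
  have h := Nat.cast_card_eq_zero F
  rw [hF] at h
  have : ((2 : F)) * 2 = 0 := by
    norm_num
    exact h
  exact mul_self_eq_zero.1 this

section

variable (h2 : (2 : F) = 0) (hω : ω ^ 2 + ω + 1 = 0)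
include h2 hω

theorem el_sq : ω ^ 2 = ω + 1 := by linear_combination hω - (ω + 1) * h2

theorem el_add (i j : Fin 4) : el ω i + el ω j = el ω (add4 i j) := by
  fin_cases i <;> fin_cases j <;> simp [el, add4] <;>
    first
      | ring1
      | linear_combination h2
      | linear_combination ω * h2
      | linear_combination (ω + 1) * h2

theorem el_mul (i j : Fin 4) : el ω i * el ω j = el ω (mul4 i j) := by
  fin_cases i <;> fin_cases j <;> simp [el, mul4] <;>
    first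
      | linear_combination hω - (ω + 1) * h2
      | linear_combination hω
      | linear_combination hω - h2
      | linear_combination hω - ω * h2

theorem el_injective : Function.Injective (el ω) := by
  have z : ω ≠ 0 := fun e => by subst e; simp at hω
  have o : ω ≠ 1 := fun e => by
    subst e
    exact one_ne_zero (by linear_combination hω - h2 : (1 : F) = 0)
  have p : ω + 1 ≠ 0 := fun e => o (by linear_combination e - h2)
  intro i j h
  fin_cases i <;> fin_cases j <;> first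
    | rfl
    | (exfalso; revert h; simp [el, z, o, p, z.symm, o.symm, p.symm])

theorem el_bijective [Fintype F] (hF : Fintype.card F = 4) : Function.Bijective (el ω) :=
  (Fintype.bijective_iff_injective_and_card _).2 ⟨el_injective h2 hω, by rw [Fintype.card_fin, hF]⟩

theorem el_word (a : Fin 3 → Fin 4) (i : Fin 6) : el ω (word a i) =
    el ω (a 0) * el ω (gen 0 i) + el ω (a 1) * el ω (gen 1 i) + el ω (a 2) * el ω (gen 2 i) := by
  rw [word, ← el_add h2 hω, ← el_add h2 hω, ← el_mul h2 hω, ← el_mul h2 hω, ← el_mul h2 hω]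

theorem gen_vec : (![ω, ω ^ 2, ω ^ 2, ω, ω ^ 2, ω] : Fin 6 → F) = el ω ∘ gen 0 ∧
    (![ω ^ 2, ω, ω, ω ^ 2, ω ^ 2, ω] : Fin 6 → F) = el ω ∘ gen 1 ∧
    (![ω ^ 2, ω, ω ^ 2, ω, ω, ω ^ 2] : Fin 6 → F) = el ω ∘ gen 2 := by
  refine ⟨?_, ?_, ?_⟩ <;>
  · funext i
    fin_cases i <;> simp [el, gen, el_sq h2 hω]

theorem mem_hexacode [Fintype F] (hF : Fintype.card F = 4) (x : Fin 6 → F) :
    x ∈ hexacode F ω ↔ ∃ a, el ω ∘ word a = x := by
  obtain ⟨g0, g1, g2⟩ := gen_vec h2 hω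
  rw [hexacode, g0, g1, g2, Submodule.mem_span_triple]
  constructor
  · rintro ⟨a, b, c, rfl⟩
    obtain ⟨a', rfl⟩ := (el_bijective h2 hω hF).2 a
    obtain ⟨b', rfl⟩ := (el_bijective h2 hω hF).2 b
    obtain ⟨c', rfl⟩ := (el_bijective h2 hω hF).2 c
    exact ⟨![a', b', c'], funext fun i => el_word h2 hω _ i⟩
  · rintro ⟨a, rfl⟩
    exact ⟨_, _, _, funext fun i => (el_word h2 hω a i).symm⟩

theorem gen_mem [Fintype F] (hF : Fintype.card F = 4) (k : Fin 3) : el ω ∘ gen k ∈ hexacode F ω := by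
  refine (mem_hexacode h2 hω hF _).2 ?_
  obtain ⟨a, ha⟩ : ∃ a, word a = gen k := by revert k; decide +kernel
  exact ⟨a, by rw [ha]⟩

theorem ncard_hexacode [Fintype F] [DecidableEq F] (hF : Fintype.card F = 4) (w : ℕ) :
    {x : Fin 6 → F | x ∈ hexacode F ω ∧ (Finset.univ.filter fun i => x i ≠ 0).card = w}.ncard =
      (Finset.univ.filter fun a => (Finset.univ.filter fun i => word a i ≠ 0).card = w).card := by
  have hinj : Function.Injective fun a => el ω ∘ word a := fun a b e =>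
    word_injective a b ((el_injective h2 hω).comp_left e)
  have hsupp : ∀ a, (Finset.univ.filter fun i => (el ω ∘ word a) i ≠ 0) =
      Finset.univ.filter fun i => word a i ≠ 0 := fun a => Finset.filter_congr fun i _ => by
    exact ((el_injective h2 hω).ne_iff' (by simp [el] : el ω 0 = 0))
  rw [← Set.ncard_coe_finset, ← Set.ncard_image_of_injective _ hinj]
  congr 1
  ext x
  simp only [Set.mem_ofPred_eq, Set.mem_image, Finset.coe_filter, Finset.mem_univ, true_and,
    mem_hexacode h2 hω hF]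
  constructor
  · rintro ⟨⟨a, rfl⟩, h⟩; exact ⟨a, by rwa [hsupp] at h, rfl⟩
  · rintro ⟨a, h, rfl⟩; exact ⟨⟨a, rfl⟩, by rwa [hsupp]⟩

end

/-- `(σ, c)` is a monomial automorphism. -/
def Good (ω : F) (σ : Equiv.Perm (Fin 6)) (c : Fin 6 → Fˣ) : Prop :=
  ∀ x ∈ hexacode F ω, monomialMap σ c x ∈ hexacode F ω

theorem monomial_comp (σ τ : Equiv.Perm (Fin 6)) (c d : Fin 6 → Fˣ) (x : Fin 6 → F) :
    monomialMap σ c (monomialMap τ d x) = monomialMap (σ * τ) (fun i => c i * d (σ.symm i)) x := by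
  funext i
  simp only [monomialMap, Units.val_mul, mul_assoc]
  rfl

theorem Good.mul {σ τ : Equiv.Perm (Fin 6)} {c d : Fin 6 → Fˣ} (h1 : Good ω σ c) (h2 : Good ω τ d) :
    Good ω (σ * τ) fun i => c i * d (σ.symm i) := fun x hx => by
  rw [← monomial_comp]; exact h1 _ (h2 x hx)

theorem good_one : Good ω (1 : Equiv.Perm (Fin 6)) fun _ => 1 := fun x hx => by
  convert hx using 1
  funext i; simp [monomialMap, Equiv.Perm.one_def]

theorem good_smul {σ : Equiv.Perm (Fin 6)} {c : Fin 6 → Fˣ} (h : Good ω σ c) (u : Fˣ) :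
    Good ω σ fun i => u * c i := fun x hx => by
  convert (hexacode F ω).smul_mem (u : F) (h x hx) using 1
  funext i; simp [monomialMap, mul_assoc]

theorem monomial_linear (σ : Equiv.Perm (Fin 6)) (c : Fin 6 → Fˣ) (a : F) (x y : Fin 6 → F) :
    monomialMap σ c (a • x + y) = a • monomialMap σ c x + monomialMap σ c y := by
  funext i; simp [monomialMap]; ring

section

variable [Fintype F] (hF : Fintype.card F = 4) (h2 : (2 : F) = 0) (hω : ω ^ 2 + ω + 1 = 0)
include hF h2 hω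

theorem good_of_gens {σ : Equiv.Perm (Fin 6)} {c : Fin 6 → Fˣ}
    (h : ∀ k, monomialMap σ c (el ω ∘ gen k) ∈ hexacode F ω) : Good ω σ c := by
  intro x hx
  obtain ⟨g0, g1, g2⟩ := gen_vec h2 hω
  have hx' : x ∈ Submodule.span F {el ω ∘ gen 0, el ω ∘ gen 1, el ω ∘ gen 2} := by
    rw [← g0, ← g1, ← g2]; exact hx
  induction hx' using Submodule.span_induction with
  | mem v hv => rcases hv with rfl | rfl | rfl <;> apply h
  | zero => convert (hexacode F ω).zero_mem using 1; funext i; simp [monomialMap]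
  | add u v hu hv iu iv =>
    have hu' : u ∈ hexacode F ω := by rw [hexacode, g0, g1, g2]; exact hu
    have hv' : v ∈ hexacode F ω := by rw [hexacode, g0, g1, g2]; exact hv
    rw [← one_smul F u, monomial_linear, one_smul]
    exact (hexacode F ω).add_mem (iu hu') (iv hv')
  | smul a u hu iu =>
    have hu' : u ∈ hexacode F ω := by rw [hexacode, g0, g1, g2]; exact hu
    convert (hexacode F ω).smul_mem a (iu hu') using 1
    funext i; simp [monomialMap, mul_left_comm]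

theorem good_iff {σ : Equiv.Perm (Fin 6)} {c : Fin 6 → Fˣ} {c' : Fin 6 → Fin 4}
    (hc : ∀ i, el ω (c' i) = c i) : Good ω σ c ↔ okMap (fun i => σ i) c' := by
  constructor
  · intro h k
    obtain ⟨a, ha⟩ := (mem_hexacode h2 hω hF _).1 (h _ (gen_mem h2 hω hF k))
    refine ⟨a, fun i => el_injective h2 hω ?_⟩
    rw [← el_mul h2 hω, hc]
    have := congrFun ha (σ i)
    simpa [monomialMap] using this
  · intro h
    refine good_of_gens hF h2 hω fun k => ?_
    obtain ⟨a, ha⟩ := h k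
    refine (mem_hexacode h2 hω hF _).2 ⟨a, funext fun j => ?_⟩
    have := ha (σ.symm j)
    simp only [Equiv.apply_symm_apply] at this
    rw [Function.comp_apply, this, ← el_mul h2 hω, hc]
    rfl

theorem exists_code (c : Fin 6 → Fˣ) : ∃ c' : Fin 6 → Fin 4, (∀ i, el ω (c' i) = c i) ∧ ∀ i, c' i ≠ 0 := by
  choose c' hc using fun i => (el_bijective h2 hω hF).2 (c i : F)
  exact ⟨c', hc, fun i e => (c i).ne_zero (by rw [← hc i, e]; simp [el])⟩

theorem good_diag {c : Fin 6 → Fˣ} (h : Good ω 1 c) (i j : Fin 6) : c i = c j := by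
  obtain ⟨c', hc, h0⟩ := exists_code hF h2 hω c
  have := diag_const c' h0 ((good_iff hF h2 hω hc).1 h)
  ext
  rw [← hc i, ← hc j, this i, this j]

theorem good_swap (c : Fin 6 → Fˣ) : ¬ Good ω (Equiv.swap 0 1) c := fun h => by
  obtain ⟨c', hc, h0⟩ := exists_code hF h2 hω c
  exact no_swap c' h0 ((good_iff hF h2 hω hc).1 h)

theorem good_even {σ : Equiv.Perm (Fin 6)} (hσ : σ ∈ alternatingGroup (Fin 6)) : ∃ c, Good ω σ c := by
  rw [← Equiv.Perm.closure_three_cycles_eq_alternating] at hσ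
  have hfin : σ ∈ Submonoid.closure {τ : Equiv.Perm (Fin 6) | τ.IsThreeCycle} := by
    rwa [← Subgroup.closure_toSubmonoid_of_finite, Subgroup.mem_toSubmonoid]
  clear hσ
  induction hfin using Submonoid.closure_induction with
  | mem τ hτ =>
    obtain ⟨a, b, c, hab, hac, hbc, rfl⟩ : ∃ a b c, a ≠ b ∧ a ≠ c ∧ b ≠ c ∧
        Equiv.swap a b * Equiv.swap a c = τ := by
      have : ∀ τ : Equiv.Perm (Fin 6), τ.cycleType = {3} → ∃ a b c, a ≠ b ∧ a ≠ c ∧ b ≠ c ∧
          Equiv.swap a b * Equiv.swap a c = τ := by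
        intro τ h3
        have hT : τ.IsThreeCycle := h3
        obtain ⟨a, ha⟩ := Finset.card_pos.1 (by rw [hT.card_support]; norm_num : 0 < τ.support.card)
        rw [Equiv.Perm.mem_support] at ha
        have h3 : τ (τ (τ a)) = a := by
          have := congrArg (fun g : Equiv.Perm (Fin 6) => g a)
            (hT.orderOf ▸ pow_orderOf_eq_one τ : τ ^ 3 = 1)
          simpa [pow_succ] using this
        have hb : τ (τ a) ≠ a := fun e => ha (by rwa [e] at h3)
        refine ⟨a, τ (τ a), τ a, Ne.symm hb, Ne.symm ha, fun e => ha (τ.injective e), Equiv.ext fun x => ?_⟩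
        have hs : τ.support = {a, τ a, τ (τ a)} := by
          refine (Finset.eq_of_subset_of_card_le ?_ ?_).symm
          · intro y hy
            simp only [Finset.mem_insert, Finset.mem_singleton] at hy
            rcases hy with rfl | rfl | rfl
            · exact Equiv.Perm.mem_support.2 ha
            · exact Equiv.Perm.apply_mem_support.2 (Equiv.Perm.mem_support.2 ha)
            · exact Equiv.Perm.apply_mem_support.2 (Equiv.Perm.apply_mem_support.2 (Equiv.Perm.mem_support.2 ha))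
          · rw [hT.card_support, Finset.card_eq_three.2 ⟨a, τ a, τ (τ a), Ne.symm ha, Ne.symm hb,
              fun e => ha (τ.injective e).symm, rfl⟩]
        have hne : τ (τ a) ≠ τ a := fun e => ha (τ.injective e)
        by_cases h1 : x = a
        · subst h1; simp [Equiv.swap_apply_of_ne_of_ne ha hne.symm]
        by_cases h4 : x = τ a
        · subst h4; simp
        by_cases h5 : x = τ (τ a)
        · subst h5; simp [Equiv.swap_apply_of_ne_of_ne hb hne, h3]
        have : x ∉ τ.support := by rw [hs]; simp [h1, h4, h5]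
        rw [Equiv.Perm.notMem_support] at this
        simp [Equiv.swap_apply_of_ne_of_ne h1 h4, Equiv.swap_apply_of_ne_of_ne h1 h5, this]
      exact this τ hτ
    obtain ⟨w, hw, e⟩ := three_cycles a b c hab hac hbc
    obtain ⟨h0, hok⟩ := witList_ok w hw
    have hu : ∀ i : Fin 6, el ω (w.2.getD i.val 0) ≠ 0 := fun i he =>
      h0 i (el_injective h2 hω (he.trans (by simp [el])))
    refine ⟨fun i => Units.mk0 _ (hu i), (good_iff hF h2 hω (c' := fun i => w.2.getD i.val 0)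
      (fun _ => rfl)).2 ?_⟩
    rwa [show (fun i => (Equiv.swap a b * Equiv.swap a c) i) = fun i => w.1.getD i.val 0 from
      funext fun i => (e i).symm]
  | one => exact ⟨_, good_one⟩
  | mul x y _ _ ix iy =>
    obtain ⟨c, hc⟩ := ix
    obtain ⟨d, hd⟩ := iy
    exact ⟨_, hc.mul hd⟩

theorem good_iff_even (σ : Equiv.Perm (Fin 6)) : (∃ c, Good ω σ c) ↔ σ ∈ alternatingGroup (Fin 6) := by
  refine ⟨fun ⟨c, hc⟩ => ?_, good_even hF h2 hω⟩
  by_contra hσ
  have hσ' : Equiv.Perm.sign σ = -1 := (Int.units_eq_one_or _).resolve_left hσ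
  obtain ⟨d, hd⟩ := good_even hF h2 hω (σ := Equiv.swap 0 1 * σ⁻¹) (by
    rw [Equiv.Perm.mem_alternatingGroup, map_mul, map_inv, hσ', Equiv.Perm.sign_swap (by decide)]
    rfl)
  have := hd.mul hc
  rw [inv_mul_cancel_right] at this
  exact good_swap hF h2 hω _ this

theorem good_unique {σ : Equiv.Perm (Fin 6)} {c d : Fin 6 → Fˣ} (hc : Good ω σ c) (hd : Good ω σ d) :
    ∃ u : Fˣ, d = fun i => u * c i := by
  obtain ⟨e, he⟩ := good_even hF h2 hω
    (inv_mem ((good_iff_even hF h2 hω σ).1 ⟨c, hc⟩))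
  have h1 := hc.mul he
  have h3 := hd.mul he
  rw [mul_inv_cancel] at h1 h3
  refine ⟨d 0 / c 0, funext fun i => ?_⟩
  have a1 := good_diag hF h2 hω h1 i 0
  have a3 := good_diag hF h2 hω h3 i 0
  have r : d i / c i = d 0 / c 0 := by
    have := congrArg₂ (· / ·) a3 a1
    simp only [mul_div_mul_right_eq_div] at this
    exact this
  rw [← r, div_mul_cancel]

theorem card_good : Nat.card {f : Equiv.Perm (Fin 6) × (Fin 6 → Fˣ) // Good ω f.1 f.2} = 1080 := by
  choose c hc using fun σ : alternatingGroup (Fin 6) => good_even hF h2 hω σ.2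
  have hb : Function.Bijective (fun p : alternatingGroup (Fin 6) × Fˣ =>
      (⟨(p.1.1, fun i => p.2 * c p.1 i), good_smul (hc p.1) p.2⟩ :
        {f : Equiv.Perm (Fin 6) × (Fin 6 → Fˣ) // Good ω f.1 f.2})) := by
    constructor
    · rintro ⟨σ, u⟩ ⟨τ, v⟩ h
      simp only [Subtype.mk.injEq, Prod.mk.injEq] at h
      obtain ⟨e, h'⟩ := h
      obtain rfl := Subtype.ext e
      exact Prod.ext rfl (mul_right_cancel (congrFun h' 0))
    · rintro ⟨⟨σ, d⟩, h⟩
      have hσ := (good_iff_even hF h2 hω σ).1 ⟨d, h⟩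
      obtain ⟨u, rfl⟩ := good_unique hF h2 hω (hc ⟨σ, hσ⟩) h
      exact ⟨(⟨σ, hσ⟩, u), rfl⟩
  rw [← Nat.card_eq_of_bijective _ hb, Nat.card_prod, nat_card_alternatingGroup, Nat.card_fin,
    Nat.card_units, Nat.card_eq_fintype_card, hF]
  decide

end

end CfsgLib.Sporadic.Hexa
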