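import Cfsg.Agent.Lib.Sporadic.MathieuTwoTwoIndex

/-!
# The two-point stabiliser in M24 acting on at most 100 points

It fixes a point as soon as the number of points is 100: the only other small indices would be
excluded by the Sylow counts for 7 and 11 or by the absence of subgroups of order 7920.
-/

set_option autoImplicit false

namespace CfsgLib.Sporadic.HsOut

open Cfsg MulAction CfsgLib.Sporadic CfsgLib.Sporadic.IndexTwoTwo CfsgLib.Sporadic.MathieuAut
open scoped Pointwise

/-- The packed element of order 7. -/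
def p7 : ℕ := 963636508119918896843785411337304640

theorem sylow_count_eleven : Nat.card (Sylow 11 ↥M22pt) = 8064 := by
  classical
  have h11 : Fact (Nat.Prime 11) := ⟨by norm_num⟩
  obtain ⟨x, hx⟩ := exists_elt (p := IndexTwoTwo.px) (by decide +kernel)
  have ox : orderOf x = 11 := orderOf_coe' hx (by decide +kernel)
  have hC : Nat.card (Subgroup.centralizer ({x} : Set ↥M22pt)) ≤ 24 := by
    have hok : coverOK IndexTwoTwo.px 11 16263287
        [4271202, 9968772, 10513600, 11046145, 11669008, 9178690, 12594948] [1, 23, 0] = true := by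
      decide +kernel
    refine (card_centralizer_le M22pt.subtype Subtype.coe_injective hx hok (r := 1) (f := 1) (fun j hj => ?_)
      ((Finset.univ : Finset GolayPt).image fun y => (y, y))
      (fun u _ => Finset.mem_image.2 ⟨_, Finset.mem_univ _, rfl⟩)).trans
      (Finset.card_image_le.trans card_univ_point.le)
    simp only [List.mem_cons, List.not_mem_nil, or_false] at hj
    rcases hj with rfl | rfl | rfl
    · exact Or.inl rfl
    · exact Or.inr (Or.inr fun v => (fixes_two v).1)
    · exact Or.inr (Or.inr fun v => (fixes_two v).2)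
  obtain ⟨c, k, n, hc, hc0, hk, hn, hN, hG⟩ := exists_normalizer_factors ox
    (by rw [card_M22pt]; norm_num) hC
  rw [card_M22pt] at hG
  have hS : Nat.card (Subgroup.zpowers x) = 11 ^ (Nat.card ↥M22pt).factorization 11 := by
    rw [Nat.card_zpowers, ox, card_M22pt,
      show Nat.factorization 443520 11 = 1 by
        rw [show (443520 : ℕ) = 11 ^ 1 * 40320 from rfl, Nat.factorization_mul (by norm_num) (by norm_num),
          Finsupp.add_apply, Nat.factorization_pow, Finsupp.smul_apply,
          Nat.Prime.factorization_self (by norm_num), Nat.factorization_eq_zero_of_not_dvd (by norm_num)]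
        rfl, pow_one]
  have hcount : Nat.card (Sylow 11 ↥M22pt) =
      (Subgroup.normalizer (Subgroup.zpowers x : Set ↥M22pt)).index :=
    (Sylow.ofCard _ hS).card_eq_index_normalizer
  have hmul := (Subgroup.normalizer (Subgroup.zpowers x : Set ↥M22pt)).card_mul_index
  rw [← hcount, hN, card_M22pt] at hmul
  have hk' : k ≤ 10 := Nat.le_of_dvd (by norm_num) hk
  have hc' : c ≤ 2 := by omega
  interval_cases c <;> interval_cases k <;> omega

theorem sylow_count_seven : Nat.card (Sylow 7 ↥M22pt) = 21120 := by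
  classical
  have h7 : Fact (Nat.Prime 7) := ⟨by norm_num⟩
  obtain ⟨x, hx⟩ := exists_elt (p := p7) (by decide +kernel)
  have ox : orderOf x = 7 := orderOf_coe' hx (by decide +kernel)
  have hC : Nat.card (Subgroup.centralizer ({x} : Set ↥M22pt)) ≤ 24 := by
    have hok : coverOK p7 7 8802327
        [346141, 8849458, 4216883, 153797, 8657159, 8546577, 1460739, 8407702, 8834052, 924689]
        [1, 23, 0] = true := by
      decide +kernel
    refine (card_centralizer_le M22pt.subtype Subtype.coe_injective hx hok (r := 1) (f := 1) (fun j hj => ?_)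
      ((Finset.univ : Finset GolayPt).image fun y => (y, y))
      (fun u _ => Finset.mem_image.2 ⟨_, Finset.mem_univ _, rfl⟩)).trans
      (Finset.card_image_le.trans card_univ_point.le)
    simp only [List.mem_cons, List.not_mem_nil, or_false] at hj
    rcases hj with rfl | rfl | rfl
    · exact Or.inl rfl
    · exact Or.inr (Or.inr fun v => (fixes_two v).1)
    · exact Or.inr (Or.inr fun v => (fixes_two v).2)
  obtain ⟨c, k, n, hc, hc0, hk, hn, hN, hG⟩ := exists_normalizer_factors ox
    (by rw [card_M22pt]; norm_num) hC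
  rw [card_M22pt] at hG
  have hS : Nat.card (Subgroup.zpowers x) = 7 ^ (Nat.card ↥M22pt).factorization 7 := by
    rw [Nat.card_zpowers, ox, card_M22pt,
      show Nat.factorization 443520 7 = 1 by
        rw [show (443520 : ℕ) = 7 ^ 1 * 63360 from rfl, Nat.factorization_mul (by norm_num) (by norm_num),
          Finsupp.add_apply, Nat.factorization_pow, Finsupp.smul_apply,
          Nat.Prime.factorization_self (by norm_num), Nat.factorization_eq_zero_of_not_dvd (by norm_num)]
        rfl, pow_one]
  have hcount : Nat.card (Sylow 7 ↥M22pt) =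
      (Subgroup.normalizer (Subgroup.zpowers x : Set ↥M22pt)).index :=
    (Sylow.ofCard _ hS).card_eq_index_normalizer
  have hmul := (Subgroup.normalizer (Subgroup.zpowers x : Set ↥M22pt)).card_mul_index
  rw [← hcount, hN, card_M22pt] at hmul
  have hk' : k ≤ 6 := Nat.le_of_dvd (by norm_num) hk
  have hc' : c ≤ 3 := by omega
  interval_cases c <;> interval_cases k <;> omega

/-- A subgroup containing an element of prime order `q` that divides the group order exactly has
order `m * n` with `m` the order of a normaliser and `n ≡ 1 (mod q)`. -/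
theorem sub_factors {G : Type*} [Group G] [Finite G] (H : Subgroup G) {q r : ℕ} [Fact q.Prime]
    (hG : Nat.card G = q * r) (hr : ¬ q ∣ r) (hH : q ∣ Nat.card H) :
    ∃ m n : ℕ, Nat.card H = m * n ∧ n % q = 1 ∧ q ∣ m ∧ m * Nat.card (Sylow q G) ∣ Nat.card G := by
  classical
  have hq := (Fact.out : q.Prime)
  obtain ⟨x, hx⟩ := exists_prime_orderOf_dvd_card' (G := ↥H) q hH
  have hq2 : ¬ q ^ 2 ∣ Nat.card G := fun h => hr (by
    rw [hG, pow_two] at h
    exact Nat.dvd_of_mul_dvd_mul_left hq.pos h)
  have hfac : (Nat.card G).factorization q = 1 := by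
    rw [hG, Nat.factorization_mul hq.ne_zero (fun e => hr (by rw [e]; exact dvd_zero q)), Finsupp.add_apply,
      Nat.Prime.factorization_self hq, Nat.factorization_eq_zero_of_not_dvd hr]
  have hxG : orderOf (x : G) = q := by rw [Subgroup.orderOf_coe, hx]
  let S : Sylow q G := Sylow.ofCard (Subgroup.zpowers (x : G)) (by rw [Nat.card_zpowers, hxG, hfac, pow_one])
  have hcount : Nat.card (Sylow q G) = (Subgroup.normalizer (Subgroup.zpowers (x : G) : Set G)).index :=
    S.card_eq_index_normalizer
  obtain ⟨c, k, n, -, hc0, -, hn, hN, hcard⟩ := exists_normalizer_factors hx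
    (fun h => hq2 (h.trans (Subgroup.card_subgroup_dvd_card H))) (le_refl _)
  refine ⟨c * q * k, n, hcard, hn, dvd_mul_of_dvd_left (dvd_mul_left q c) k, ?_⟩
  rw [← (Subgroup.normalizer (Subgroup.zpowers (x : G) : Set G)).card_mul_index, hcount, ← hN]
  refine Nat.mul_dvd_mul_right ?_ _
  have hsub : (Subgroup.normalizer (Subgroup.zpowers x : Set ↥H)).map H.subtype ≤
      Subgroup.normalizer (Subgroup.zpowers (x : G) : Set G) := by
    rintro _ ⟨v, hv, rfl⟩
    rw [Subgroup.mem_normalizer_iff, show Subgroup.zpowers (x : G) = (Subgroup.zpowers x).map H.subtype from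
      (MonoidHom.map_zpowers H.subtype x).symm]
    intro w
    constructor
    · rintro ⟨w', hw', rfl⟩
      exact ⟨v * w' * v⁻¹, (Subgroup.mem_normalizer_iff.1 hv w').1 hw', rfl⟩
    · rintro ⟨w', hw', e'⟩
      refine ⟨v⁻¹ * w' * v, (Subgroup.mem_normalizer_iff.1 hv _).2 (by simpa [mul_assoc] using hw'), ?_⟩
      show (v : G)⁻¹ * (w' : G) * v = w
      rw [show (w' : G) = (v : G) * w * (v : G)⁻¹ from e']
      group
  have h := Subgroup.card_dvd_of_le hsub
  rwa [Subgroup.card_map_of_injective H.subtype_injective] at h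

theorem dvd_fifty_five : ∀ m < 56, m ∣ 55 → 11 ∣ m → m ∈ ([11, 55] : List ℕ) := by decide +kernel

theorem dvd_twenty_one : ∀ m < 22, m ∣ 21 → 7 ∣ m → m ∈ ([7, 21] : List ℕ) := by decide +kernel

/-- The numerical test for an index. -/
def indexTest (d m m' : ℕ) : Bool :=
  Nat.beq d 0 || ! Nat.beq (443520 % d) 0 || ! Nat.beq ((443520 / d) % m) 0 ||
    ! Nat.beq ((443520 / d / m) % 11) 1 ||
    (Nat.beq ((443520 / d) % 7) 0 &&
      ! (Nat.beq ((443520 / d) % m') 0 && Nat.beq ((443520 / d / m') % 7) 1)) ||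
    Nat.beq d 1 || Nat.beq d 56

theorem index_test : ∀ d < 101, ∀ m ∈ ([11, 55] : List ℕ), ∀ m' ∈ ([7, 21] : List ℕ),
    indexTest d m m' = true := by
  decide +kernel

/-- The possible indices. -/
theorem index_cases {d m m' : ℕ} (hd : d < 101) (hm : m ∈ ([11, 55] : List ℕ))
    (hm' : m' ∈ ([7, 21] : List ℕ)) (hd0 : d ≠ 0) (h1 : 443520 % d = 0) (h2 : (443520 / d) % m = 0)
    (h3 : (443520 / d / m) % 11 = 1)
    (h4 : (443520 / d) % 7 ≠ 0 ∨ ((443520 / d) % m' = 0 ∧ (443520 / d / m') % 7 = 1)) :
    d = 1 ∨ d = 56 := by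
  have h := index_test d hd m hm m' hm'
  simp only [indexTest, Bool.or_eq_true, Bool.and_eq_true, Bool.not_eq_true', Bool.eq_false_iff,
    Nat.beq_eq, ne_eq] at h
  tauto

theorem index_le_hundred (H : Subgroup ↥M22pt) (h11 : 11 ∣ Nat.card H) (h : H.index ≤ 100) : H = ⊤ := by
  classical
  have : Fact (Nat.Prime 11) := ⟨by norm_num⟩
  have : Fact (Nat.Prime 7) := ⟨by norm_num⟩
  have hmul := H.card_mul_index
  rw [card_M22pt] at hmul
  have hd0 : H.index ≠ 0 := fun e => by simp [e] at hmul
  have hcardH : 443520 / H.index = Nat.card H := by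
    rw [← hmul, Nat.mul_div_cancel _ (Nat.pos_of_ne_zero hd0)]
  obtain ⟨m, n, hmn, hn, hm11, hm⟩ := sub_factors H (q := 11) (r := 40320)
    (by rw [card_M22pt]) (by norm_num) h11
  rw [sylow_count_eleven, card_M22pt] at hm
  have hm55 : m ∣ 55 := Nat.dvd_of_mul_dvd_mul_right (by norm_num : 0 < 8064) (by simpa using hm)
  have hmL : m ∈ ([11, 55] : List ℕ) :=
    dvd_fifty_five m (Nat.lt_succ_of_le (Nat.le_of_dvd (by norm_num) hm55)) hm55 hm11
  have hmpos : 0 < m := Nat.pos_of_dvd_of_pos hm55 (by norm_num)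
  have hN11 : (443520 / H.index) % m = 0 ∧ (443520 / H.index / m) % 11 = 1 := by
    rw [hcardH, hmn]
    exact ⟨Nat.mul_mod_right m n, by rwa [Nat.mul_div_cancel_left _ hmpos]⟩
  have h7 : ∃ m' ∈ ([7, 21] : List ℕ), (443520 / H.index) % 7 ≠ 0 ∨
      ((443520 / H.index) % m' = 0 ∧ (443520 / H.index / m') % 7 = 1) := by
    by_cases h7d : 7 ∣ Nat.card H
    · obtain ⟨m', n', hmn', hn', hm7, hm'⟩ := sub_factors H (q := 7) (r := 63360)
        (by rw [card_M22pt]) (by norm_num) h7d
      rw [sylow_count_seven, card_M22pt] at hm'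
      have hm21 : m' ∣ 21 := Nat.dvd_of_mul_dvd_mul_right (by norm_num : 0 < 21120) (by simpa using hm')
      have hmpos' : 0 < m' := Nat.pos_of_dvd_of_pos hm21 (by norm_num)
      refine ⟨m', dvd_twenty_one m' (Nat.lt_succ_of_le (Nat.le_of_dvd (by norm_num) hm21)) hm21 hm7,
        Or.inr ?_⟩
      · rw [hcardH, hmn']
        exact ⟨Nat.mul_mod_right m' n', by rwa [Nat.mul_div_cancel_left _ hmpos']⟩
    · exact ⟨7, by simp, Or.inl (by rw [hcardH]; exact fun e => h7d (Nat.dvd_of_mod_eq_zero e))⟩
  obtain ⟨m', hm'L, h7⟩ := h7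
  rcases index_cases (by omega) hmL hm'L hd0
    (by rw [← hmul]; exact Nat.mul_mod_left _ _) hN11.1 hN11.2 h7 with e | e
  · exact Subgroup.index_eq_one.1 e
  · exfalso
    rw [e] at hmul
    exact false_of_card H (Or.inl (by omega))

/-- On 100 points the two-point stabiliser fixes one. -/
theorem exists_fixed {α : Type*} [Finite α] [MulAction ↥M22pt α] (hα : Nat.card α = 100) :
    ∃ a : α, ∀ g : ↥M22pt, g • a = a := by
  classical
  have : Fact (Nat.Prime 11) := ⟨by norm_num⟩
  obtain ⟨u, hu⟩ := exists_prime_orderOf_dvd_card' (G := ↥M22pt) 11 (by rw [card_M22pt]; norm_num)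
  have hP : IsPGroup 11 (Subgroup.zpowers u) :=
    IsPGroup.of_card (n := 1) (by rw [Nat.card_zpowers, hu, pow_one])
  have hne : (fixedPoints (Subgroup.zpowers u) α).Nonempty :=
    hP.nonempty_fixed_point_of_prime_not_dvd_card α (by rw [hα]; norm_num)
  obtain ⟨a, ha⟩ := hne
  refine ⟨a, fun g => ?_⟩
  have hstab : stabilizer ↥M22pt a = ⊤ := by
    refine index_le_hundred _ ?_ ?_
    · rw [← hu]
      exact Subgroup.orderOf_dvd_natCard _ (show u ∈ stabilizer ↥M22pt a from
        ha ⟨u, Subgroup.mem_zpowers u⟩)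
    · rw [index_stabilizer, ← hα, ← Nat.card_coe_set_eq]
      exact Finite.card_subtype_le _
  exact (show g ∈ stabilizer ↥M22pt a from hstab ▸ Subgroup.mem_top g)

end CfsgLib.Sporadic.HsOut
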