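import Mathlib
import Cfsg.Prelude.Def_Spor_J3

/-!
# Matrices over the field with four elements as bit planes

A `9 × 9` matrix over `F₄ = F₂ + F₂ω` is coded by one natural number: bit `9a + b` is the constant
part and bit `81 + 9a + b` the `ω`-part of the entry in row `a`, column `b`.  Products of codes are
computed by nine carry-free multiplications per pair of planes.
-/

set_option autoImplicit false

namespace CfsgLib.Sporadic.J3

open Cfsg Cfsg.Spor Finset

noncomputable def colMask : ℕ := 4731607904558235517441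

noncomputable def planeMask : ℕ := 2417851639229258349412351

/-- Product of two planes. -/
noncomputable def m2 (A B : ℕ) : ℕ :=
  Nat.rec 0 (fun k acc => Nat.xor acc (Nat.mul (Nat.land (Nat.shiftRight A k) colMask)
    (Nat.land (Nat.shiftRight B (Nat.mul 9 k)) 511))) 9

noncomputable def p0 (M : ℕ) : ℕ := Nat.land M planeMask

noncomputable def p1 (M : ℕ) : ℕ := Nat.shiftRight M 81

/-- Product of two codes. -/
noncomputable def mm (M N : ℕ) : ℕ :=
  (fun a b c d => (fun e => Nat.lor (Nat.xor (m2 a c) e)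
      (Nat.shiftLeft (Nat.xor (Nat.xor (m2 a d) (m2 b c)) e) 81)) (m2 b d))
    (p0 M) (p1 M) (p0 N) (p1 N)

/-- The code of the identity. -/
noncomputable def one : ℕ := 1210107565283851686118401

noncomputable def mpow (M n : ℕ) : ℕ := Nat.rec one (fun _ acc => mm M acc) n

/-- The sum with the lowest bit of each nine. -/
def digits (f : ℕ → Bool) : ℕ → ℕ
  | 0 => 0
  | n + 1 => (f 0).toNat + 512 * digits (fun i => f (i + 1)) n

theorem testBit_digits_mul (r : ℕ) (hr : r < 512) : ∀ (n : ℕ) (f : ℕ → Bool) (i j : ℕ), j < 9 →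
    (digits f n * r).testBit (9 * i + j) = (decide (i < n) && f i && r.testBit j)
  | 0, f, i, j, _ => by simp [digits]
  | n + 1, f, i, j, hj => by
    have e : digits f (n + 1) * r = 2 ^ 9 * (digits (fun i => f (i + 1)) n * r) + (f 0).toNat * r := by
      rw [digits]; ring
    have hb : (f 0).toNat * r < 2 ^ 9 := by cases f 0 <;> simp <;> omega
    rw [e, Nat.testBit_two_pow_mul_add _ hb]
    rcases Nat.eq_zero_or_pos i with rfl | hi
    · rw [if_pos (by omega)]
      cases f 0 <;> simp
    · rw [if_neg (by omega), show 9 * i + j - 9 = 9 * (i - 1) + j by omega,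
        testBit_digits_mul r hr n _ _ _ hj]
      rw [show i - 1 + 1 = i by omega]
      simp only [show (i < n + 1) = (i - 1 < n) from propext (by omega)]

theorem testBit_digits (n : ℕ) (f : ℕ → Bool) (m : ℕ) :
    (digits f n).testBit m = (decide (m / 9 < n) && f (m / 9) && decide (m % 9 = 0)) := by
  have h := testBit_digits_mul 1 (by norm_num) n f (m / 9) (m % 9) (Nat.mod_lt _ (by norm_num))
  rw [mul_one, Nat.div_add_mod] at h
  rw [h]
  congr 1
  rcases Nat.eq_zero_or_pos (m % 9) with e | e
  · simp [e]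
  · rw [Nat.testBit_lt_two_pow (Nat.one_lt_two_pow (by omega)), eq_comm, decide_eq_false_iff_not]
    omega

theorem col_eq (A : ℕ) : Nat.land A colMask = digits (fun i => A.testBit (9 * i)) 9 := by
  have hc : colMask = digits (fun _ => true) 9 := by decide +kernel
  refine Nat.eq_of_testBit_eq fun m => ?_
  show (A &&& colMask).testBit m = _
  rw [Nat.testBit_and, hc, testBit_digits, testBit_digits]
  by_cases h : m % 9 = 0
  · have : 9 * (m / 9) = m := by omega
    simp [h, this, Bool.and_comm]
  · simp [h]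

theorem testBit_term (A B k i j : ℕ) (hi : i < 9) (hj : j < 9) :
    (Nat.mul (Nat.land (Nat.shiftRight A k) colMask)
      (Nat.land (Nat.shiftRight B (Nat.mul 9 k)) 511)).testBit (9 * i + j)
      = (A.testBit (9 * i + k) && B.testBit (9 * k + j)) := by
  rw [col_eq]
  show (digits _ 9 * ((B >>> (9 * k)) &&& 511)).testBit _ = _
  rw [testBit_digits_mul _ (lt_of_le_of_lt Nat.and_le_right (by norm_num)) _ _ _ _ hj]
  show (decide (i < 9) && (A >>> k).testBit (9 * i) && ((B >>> (9 * k)) &&& 511).testBit j) = _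
  rw [Nat.testBit_shiftRight, Nat.testBit_and, Nat.testBit_shiftRight,
    show (511 : ℕ) = 2 ^ 9 - 1 by norm_num, Nat.testBit_two_pow_sub_one]
  simp [hi, hj, Nat.add_comm]

theorem digits_lt : ∀ (n : ℕ) (f : ℕ → Bool), digits f n * 512 < 512 ^ (n + 1)
  | 0, _ => by simp [digits]
  | n + 1, f => by
    have h := digits_lt n (fun i => f (i + 1))
    have hb : (f 0).toNat ≤ 1 := Bool.toNat_le _
    rw [digits, pow_succ]
    have h2 : digits (fun i => f (i + 1)) n * 512 + 512 ≤ 512 ^ (n + 1) := by
      have h3 : digits (fun i => f (i + 1)) n < 512 ^ n := by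
        rw [pow_succ] at h
        exact Nat.lt_of_mul_lt_mul_right h
      rw [pow_succ]
      nlinarith
    nlinarith

theorem term_lt (A B k : ℕ) : Nat.mul (Nat.land (Nat.shiftRight A k) colMask)
    (Nat.land (Nat.shiftRight B (Nat.mul 9 k)) 511) < 2 ^ 81 := by
  show ((A >>> k) &&& colMask) * ((B >>> (9 * k)) &&& 511) < _
  refine lt_of_le_of_lt (Nat.mul_le_mul Nat.and_le_right Nat.and_le_right) ?_
  rw [colMask]
  norm_num

theorem m2_lt (A B : ℕ) : m2 A B < 2 ^ 81 := by
  unfold m2
  suffices ∀ n, (Nat.rec 0 (fun k acc => Nat.xor acc (Nat.mul (Nat.land (Nat.shiftRight A k) colMask)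
      (Nat.land (Nat.shiftRight B (Nat.mul 9 k)) 511))) n : ℕ) < 2 ^ 81 from this 9
  intro n
  induction n with
  | zero => exact Nat.two_pow_pos _
  | succ n ih => exact Nat.xor_lt_two_pow ih (term_lt _ _ _)

variable {F : Type*} [Field F]

/-- A bit in `F`. -/
def bF (b : Bool) : F := if b then 1 else 0

theorem bF_xor [CharP F 2] (a b : Bool) : (bF (a ^^ b) : F) = bF a + bF b := by
  cases a <;> cases b <;> simp [bF, CharTwo.add_self_eq_zero]

theorem bF_and (a b : Bool) : (bF (a && b) : F) = bF a * bF b := by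
  cases a <;> cases b <;> simp [bF]

theorem bF_m2 [CharP F 2] (A B i j : ℕ) (hi : i < 9) (hj : j < 9) :
    (bF ((m2 A B).testBit (9 * i + j)) : F) =
      ∑ k ∈ range 9, bF (A.testBit (9 * i + k)) * bF (B.testBit (9 * k + j)) := by
  unfold m2
  suffices ∀ n ≤ 9, (bF ((Nat.rec 0 (fun k acc => Nat.xor acc
      (Nat.mul (Nat.land (Nat.shiftRight A k) colMask)
        (Nat.land (Nat.shiftRight B (Nat.mul 9 k)) 511))) n : ℕ).testBit (9 * i + j)) : F) =
      ∑ k ∈ range n, bF (A.testBit (9 * i + k)) * bF (B.testBit (9 * k + j)) from this 9 le_rfl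
  intro n hn
  induction n with
  | zero => simp [bF]
  | succ n ih =>
    rw [sum_range_succ, ← ih (by omega), ← bF_and, ← testBit_term A B n i j hi hj, ← bF_xor]
    congr 1
    exact Nat.testBit_xor _ _ _

/-- The index of an element of `F9`. -/
def ix (z : F9) : ℕ := 3 * z.1.val + z.2.val

/-- The element with a given index. -/
def ofIx (i : ℕ) : F9 := ((i / 3 : ℕ), (i % 3 : ℕ))

theorem ix_lt (z : F9) : ix z < 9 := by revert z; decide

theorem ofIx_ix (z : F9) : ofIx (ix z) = z := by revert z; decide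

theorem ix_ofIx : ∀ i < 9, ix (ofIx i) = i := by decide

theorem sum_F9 (f : ℕ → F) : ∑ k ∈ range 9, f k = ∑ z : F9, f (ix z) := by
  refine (Finset.sum_bij' (fun z _ => ix z) (fun i _ => ofIx i) ?_ ?_ ?_ ?_ ?_).symm
  · exact fun z _ => mem_range.2 (ix_lt z)
  · exact fun i _ => mem_univ _
  · exact fun z _ => ofIx_ix z
  · exact fun i hi => ix_ofIx i (mem_range.1 hi)
  · exact fun z _ => rfl

/-- The scalar with two given bits. -/
def val (ω : F) (a b : Bool) : F := bF a + bF b * ω

/-- The matrix of a code. -/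
noncomputable def dec (ω : F) (M : ℕ) : Matrix F9 F9 F :=
  Matrix.of fun a b => val ω ((p0 M).testBit (9 * ix a + ix b)) ((p1 M).testBit (9 * ix a + ix b))

theorem dec_apply (ω : F) (M : ℕ) (a b : F9) :
    dec ω M a b = val ω ((p0 M).testBit (9 * ix a + ix b)) ((p1 M).testBit (9 * ix a + ix b)) := rfl

theorem mm_planes (M N : ℕ) :
    p0 (mm M N) = Nat.xor (m2 (p0 M) (p0 N)) (m2 (p1 M) (p1 N)) ∧
    p1 (mm M N) = Nat.xor (Nat.xor (m2 (p0 M) (p1 N)) (m2 (p1 M) (p0 N))) (m2 (p1 M) (p1 N)) := by
  have hlo : Nat.xor (m2 (p0 M) (p0 N)) (m2 (p1 M) (p1 N)) < 2 ^ 81 :=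
    Nat.xor_lt_two_pow (m2_lt _ _) (m2_lt _ _)
  unfold mm
  dsimp only
  generalize Nat.xor (m2 (p0 M) (p0 N)) (m2 (p1 M) (p1 N)) = lo at hlo ⊢
  generalize Nat.xor (Nat.xor (m2 (p0 M) (p1 N)) (m2 (p1 M) (p0 N))) (m2 (p1 M) (p1 N)) = hi
  have hm : planeMask = 2 ^ 81 - 1 := by norm_num [planeMask]
  constructor
  · show (lo ||| hi <<< 81) &&& planeMask = lo
    refine Nat.eq_of_testBit_eq fun m => ?_
    rw [Nat.testBit_and, Nat.testBit_or, Nat.testBit_shiftLeft, hm, Nat.testBit_two_pow_sub_one]
    by_cases h : m < 81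
    · simp [h, show ¬ 81 ≤ m by omega]
    · have := Nat.testBit_lt_two_pow (lt_of_lt_of_le hlo (Nat.pow_le_pow_right (by norm_num) (by omega : 81 ≤ m)))
      simp [h, this]
  · show (lo ||| hi <<< 81) >>> 81 = hi
    refine Nat.eq_of_testBit_eq fun m => ?_
    rw [Nat.testBit_shiftRight, Nat.testBit_or, Nat.testBit_shiftLeft]
    have := Nat.testBit_lt_two_pow (lt_of_lt_of_le hlo (Nat.pow_le_pow_right (by norm_num) (by omega : 81 ≤ 81 + m)))
    simp [this]

theorem charTwo [Fintype F] (hF : Fintype.card F = 4) : CharP F 2 := by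
  refine CharTwo.of_one_ne_zero_of_two_eq_zero one_ne_zero ?_
  have h : ((Fintype.card F : ℕ) : F) = 0 := Nat.cast_card_eq_zero F
  rw [hF] at h
  have h2 : (2 : F) * 2 = 0 := by norm_num; exact_mod_cast h
  rcases mul_eq_zero.1 h2 with e | e <;> exact e

variable [CharP F 2] {ω : F} (hω : ω ^ 2 + ω + 1 = 0)
include hω

theorem omega_sq : ω * ω = ω + 1 := by
  have h2 : ω * ω + (ω + 1) = 0 := by rw [← hω]; ring
  exact CharTwo.add_eq_zero.1 h2

theorem dec_mm (M N : ℕ) : dec ω (mm M N) = dec ω M * dec ω N := by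
  funext a b
  rw [Matrix.mul_apply, dec_apply, (mm_planes M N).1, (mm_planes M N).2]
  simp only [val, show ∀ x y : ℕ, Nat.xor x y = x ^^^ y from fun _ _ => rfl, Nat.testBit_xor, bF_xor,
    bF_m2 _ _ _ _ (ix_lt a) (ix_lt b)]
  simp only [sum_F9, add_mul, sum_mul, ← sum_add_distrib]
  refine sum_congr rfl fun z _ => ?_
  rw [dec_apply, dec_apply]
  simp only [val]
  have := omega_sq hω
  linear_combination (-(bF ((p1 M).testBit (9 * ix a + ix z)) * bF ((p1 N).testBit (9 * ix z + ix b)))) * this

omit hω [CharP F 2] in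
theorem dec_one : dec ω one = 1 := by
  funext a b
  have h : ∀ a b : F9, (p0 one).testBit (9 * ix a + ix b) = decide (a = b) ∧
      (p1 one).testBit (9 * ix a + ix b) = false := by decide +kernel
  rw [dec_apply, (h a b).1, (h a b).2]
  by_cases e : a = b <;> simp [val, bF, e, Matrix.one_apply]

theorem dec_mpow (M : ℕ) : ∀ n, dec ω (mpow M n) = dec ω M ^ n
  | 0 => by rw [pow_zero]; exact dec_one
  | n + 1 => by
    rw [pow_succ', ← dec_mpow M n]
    exact dec_mm hω _ _

theorem val_inj {a b c d : Bool} (h : val ω a b = val ω c d) : a = c ∧ b = d := by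
  have h0 : ω ≠ 0 := fun e => by rw [e] at hω; simp at hω
  have h1 : ω ≠ 1 := fun e => by rw [e] at hω; simp [CharTwo.add_self_eq_zero] at hω
  have h2 : (1 : F) + ω ≠ 0 := fun e => h1 (CharTwo.add_eq_zero.1 e).symm
  cases a <;> cases b <;> cases c <;> cases d <;>
    simp_all [val, bF, h0.symm, h1.symm, h2.symm]

/-- The code is determined by the matrix. -/
theorem dec_inj {M N : ℕ} (hM : M < 2 ^ 162) (hN : N < 2 ^ 162) (h : dec ω M = dec ω N) : M = N := by
  have key : ∀ m < 81, (p0 M).testBit m = (p0 N).testBit m ∧ (p1 M).testBit m = (p1 N).testBit m := by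
    intro m hm
    have h1 := congrFun (congrFun h (ofIx (m / 9))) (ofIx (m % 9))
    rw [dec_apply, dec_apply, ix_ofIx _ (by omega), ix_ofIx _ (by omega), Nat.div_add_mod] at h1
    exact val_inj hω h1
  refine Nat.eq_of_testBit_eq fun m => ?_
  have hm : planeMask = 2 ^ 81 - 1 := by norm_num [planeMask]
  by_cases h1 : m < 81
  · have := (key m h1).1
    simp only [p0, show ∀ x y : ℕ, Nat.land x y = x &&& y from fun _ _ => rfl, Nat.testBit_and, hm,
      Nat.testBit_two_pow_sub_one, decide_eq_true h1, Bool.and_true] at this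
    exact this
  · by_cases h2 : m < 162
    · have := (key (m - 81) (by omega)).2
      simp only [p1, show ∀ x y : ℕ, Nat.shiftRight x y = x >>> y from fun _ _ => rfl,
        Nat.testBit_shiftRight, show 81 + (m - 81) = m by omega] at this
      exact this
    · rw [Nat.testBit_lt_two_pow (hM.trans_le (Nat.pow_le_pow_right (by norm_num) (by omega))),
        Nat.testBit_lt_two_pow (hN.trans_le (Nat.pow_le_pow_right (by norm_num) (by omega)))]

omit hω in
theorem dec_xor (M N : ℕ) : dec ω (M ^^^ N) = dec ω M + dec ω N := by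
  funext a b
  rw [Matrix.add_apply, dec_apply, dec_apply, dec_apply]
  simp only [p0, p1, show ∀ x y : ℕ, Nat.shiftRight x y = x >>> y from fun _ _ => rfl,
    show ∀ x y : ℕ, Nat.land x y = x &&& y from fun _ _ => rfl, Nat.testBit_and, Nat.testBit_shiftRight,
    Nat.testBit_xor, val]
  cases planeMask.testBit (9 * ix a + ix b) <;>
    simp only [Bool.and_false, Bool.and_true, bF_xor, show (bF false : F) = 0 from if_neg Bool.false_ne_true] <;>
    ring

end CfsgLib.Sporadic.J3
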