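import Cfsg.Agent.Lib.Sporadic.J3Group
import Cfsg.Agent.Lib.Sporadic.J3Valid.Center

/-!
# The centre of the triple cover of J3, and perfectness

A matrix commuting with an element of order 19 and one of order 17 is a scalar.
-/

set_option autoImplicit false

namespace CfsgLib.Sporadic.J3

open Cfsg Cfsg.Spor Data Matrix
open scoped MatrixGroups

variable {F : Type*} [Field F] [CharP F 2] {ω : F}

theorem dec_zero : dec ω 0 = 0 := by
  funext a b
  simp [dec_apply, val, bF, p0, p1]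

theorem dec_natxor (M N : ℕ) : dec ω (Nat.xor M N) = dec ω M + dec ω N := dec_xor M N

theorem ix_zero : ix 0 = 0 := rfl

/-- The first basis vector. -/
def e₀ : F9 → F := Pi.single 0 1

theorem mulVec_e₀ (M : Matrix F9 F9 F) (a : F9) : (M *ᵥ e₀) a = M a 0 := by
  simp [e₀, Matrix.mulVec_single]

variable (hω : ω ^ 2 + ω + 1 = 0)
include hω

/-- The element of order 19. -/
noncomputable def X19 (ω : F) : Matrix F9 F9 F := dec ω (wcode word19)

/-- The element of order 17. -/
noncomputable def X17 (ω : F) : Matrix F9 F9 F := dec ω (wcode word17)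

theorem vMat_apply (a i : F9) : dec ω vMat a i = ((X19 ω) ^ (ix i) *ᵥ e₀) a := by
  rw [mulVec_e₀, X19, ← dec_mpow hω, dec_apply, dec_apply, ix_zero, add_zero,
    (Valid.vMat_bits i a).1, (Valid.vMat_bits i a).2]

theorem cvec_comm (i : ℕ) (hi : i < 9) (Y : Matrix F9 F9 F) : Commute Y (dec ω (cvec.getD i 0)) := by
  rcases Valid.cvec_ok i hi with e | e | e | e <;> rw [e]
  · rw [dec_zero]; exact Commute.zero_right _
  · exact sc_comm hω ⟨0, by norm_num⟩ Y
  · exact sc_comm hω ⟨1, by norm_num⟩ Y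
  · exact sc_comm hω ⟨2, by norm_num⟩ Y

theorem commute_mSum {Y : Matrix F9 F9 F} (hY : Commute Y (X19 ω)) :
    ∀ n ≤ 9, Commute Y (dec ω (mSum (wcode word19) n))
  | 0, _ => by show Commute Y (dec ω 0); rw [dec_zero]; exact Commute.zero_right _
  | n + 1, hn => by
    show Commute Y (dec ω (mSum (wcode word19) n ^^^ mm (cvec.getD n 0) (mpow (wcode word19) n)))
    rw [dec_xor, dec_mm hω, dec_mpow hω]
    exact (commute_mSum hY n (by omega)).add_right ((cvec_comm hω n (by omega) Y).mul_right (hY.pow_right n))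

/-- A matrix commuting with the element of order 19 is determined by the image of the first vector. -/
theorem eq_of_commute {Y Z : Matrix F9 F9 F} (hY : Commute Y (X19 ω)) (hZ : Commute Z (X19 ω))
    (h : Y *ᵥ e₀ = Z *ᵥ e₀) : Y = Z := by
  have hV : dec ω vMat * dec ω vInv = 1 := by
    have h := Valid.comm_ok
    rw [Bool.and_eq_true] at h
    exact dec_base hω h.1
  have hVV : Y * dec ω vMat = Z * dec ω vMat := by
    ext a i
    have e1 : ∀ W : Matrix F9 F9 F, (W * dec ω vMat) a i = (W *ᵥ ((X19 ω) ^ (ix i) *ᵥ e₀)) a := fun W => by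
      rw [Matrix.mul_apply]
      show _ = ∑ z, W a z * ((X19 ω) ^ (ix i) *ᵥ e₀) z
      exact Finset.sum_congr rfl fun z _ => by rw [vMat_apply hω z i]
    rw [e1, e1, mulVec_mulVec, mulVec_mulVec, (hY.pow_right _).eq, (hZ.pow_right _).eq, ← mulVec_mulVec,
      ← mulVec_mulVec, h]
  calc Y = Y * dec ω vMat * dec ω vInv := by rw [mul_assoc, hV, mul_one]
    _ = Z := by rw [hVV, mul_assoc, hV, mul_one]

omit hω in
theorem commute_natxor' {Y : Matrix F9 F9 F} {M N : ℕ} (h1 : Commute Y (dec ω M)) (h2 : Commute Y (dec ω N)) :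
    Commute Y (dec ω (Nat.xor M N)) := by
  rw [dec_natxor]; exact h1.add_right h2

theorem commute_natxor {Y : Matrix F9 F9 F} {M N : ℕ} (h1 : Commute Y (dec ω M)) (h2 : Commute Y (dec ω N)) :
    Commute Y (dec ω (Nat.xor M N)) := commute_natxor' h1 h2

/-- Only scalars commute with both elements. -/
theorem scalar_of_commute {Y : Matrix F9 F9 F} (hY : Commute Y (X19 ω)) (hY' : Commute Y (X17 ω)) :
    Y = Y 0 0 • (1 : Matrix F9 F9 F) := by
  have hm : Commute Y (dec ω mCode) := by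
    delta mCode
    exact commute_natxor hω (commute_mSum hω hY 9 le_rfl) hY'
  have h0 : dec ω mCode *ᵥ (e₀ : F9 → F) = 0 := by
    funext a
    rw [mulVec_e₀, dec_apply, ix_zero, add_zero, (Valid.mCode_bits a).1, (Valid.mCode_bits a).2]
    simp [val, bF]
  have hq : dec ω qMat *ᵥ (Y *ᵥ e₀) = 0 := by
    have h := Valid.comm_ok
    rw [Bool.and_eq_true] at h
    rw [← Nat.eq_of_beq_eq_true h.2, dec_mm hω, ← mulVec_mulVec, mulVec_mulVec (M := dec ω mCode),
      ← hm.eq, ← mulVec_mulVec, h0, mulVec_zero, mulVec_zero]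
  refine eq_of_commute hω hY ((Commute.one_left _).smul_left _) ?_
  funext a
  rw [mulVec_e₀, mulVec_e₀]
  by_cases ha : a = 0
  · subst ha; simp
  · have := congrFun hq a
    rw [Matrix.mulVec, dotProduct, Finset.sum_eq_single a, mulVec_e₀, dec_apply,
      (Valid.qMat_bits a a).1, (Valid.qMat_bits a a).2] at this
    · simp only [decide_true, ne_eq, ha, not_false_eq_true, Bool.and_self, val, bF, if_true,
        Bool.false_eq_true, if_false, zero_mul, add_zero, one_mul, Pi.zero_apply] at this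
      simp [this, Ne.symm ha, Matrix.one_apply_ne ha]
    · intro b _ hb
      rw [dec_apply, (Valid.qMat_bits a b).1, (Valid.qMat_bits a b).2]
      simp [Ne.symm hb, val, bF]
    · simp

variable [Fintype F]

theorem mem_threeJ3_word {w : List ℕ} (hw : w.all (Nat.blt · 2) = true) :
    ∃ g ∈ threeJ3 F ω, (g : Matrix F9 F9 F) = dec ω (wcode w) := by
  rw [threeJ3_eq hω]; exact in_word hω hw

omit [Fintype F] in
theorem words_all : (word19.all (Nat.blt · 2)) = true ∧ (word17.all (Nat.blt · 2)) = true := by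
  have h := Valid.words_ok
  simp only [Bool.and_eq_true] at h
  obtain ⟨⟨⟨⟨⟨⟨⟨⟨⟨⟨⟨⟨a19, a17⟩, -⟩, -⟩, -⟩, -⟩, -⟩, -⟩, -⟩, -⟩, -⟩, -⟩, -⟩ := h
  exact ⟨a19, a17⟩

theorem mem_center_iff (g : threeJ3 F ω) :
    g ∈ Subgroup.center (threeJ3 F ω) ↔ ∃ c : F, ((g : GL F9 F) : Matrix F9 F9 F) = c • 1 := by
  constructor
  · intro hg
    obtain ⟨x, hx, ex⟩ := mem_threeJ3_word hω (words_all hω).1
    obtain ⟨z, hz, ez⟩ := mem_threeJ3_word hω (words_all hω).2
    have c1 : ∀ y (hy : y ∈ threeJ3 F ω),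
        Commute ((g : GL F9 F) : Matrix F9 F9 F) (y : Matrix F9 F9 F) := fun y hy => by
      have := congrArg (fun u : threeJ3 F ω => ((u : GL F9 F) : Matrix F9 F9 F))
        (Subgroup.mem_center_iff.1 hg ⟨y, hy⟩)
      exact this.symm
    exact ⟨_, scalar_of_commute hω (by rw [X19, ← ex]; exact c1 x hx) (by rw [X17, ← ez]; exact c1 z hz)⟩
  · rintro ⟨c, hc⟩
    refine Subgroup.mem_center_iff.2 fun y => Subtype.ext (Units.ext ?_)
    show ((y : GL F9 F) : Matrix F9 F9 F) * _ = _ * ((y : GL F9 F) : Matrix F9 F9 F)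
    rw [hc, Matrix.mul_smul, Matrix.smul_mul, mul_one, one_mul]

theorem card_center (hF : Fintype.card F = 4) : Nat.card (Subgroup.center (threeJ3 F ω)) = 3 := by
  classical
  have hc : ∀ g : Subgroup.center (threeJ3 F ω), ∃ c : Fˣ,
      (((g : threeJ3 F ω) : GL F9 F) : Matrix F9 F9 F) = (c : F) • 1 := fun g => by
    obtain ⟨c, hc⟩ := (mem_center_iff hω g.1).1 g.2
    refine ⟨Units.mk0 c fun e => ?_, hc⟩
    rw [e, zero_smul] at hc
    exact Units.ne_zero ((g : threeJ3 F ω) : GL F9 F) hc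
  choose f ef using hc
  have hinj : Function.Injective f := fun g h e =>
    Subtype.ext (Subtype.ext (Units.ext (by rw [ef, ef, e])))
  have hsur : Function.Surjective f := fun c => by
    have hex : ∃ n < 3, (c : F) = val ω (decide (n ≠ 1)) (decide (n ≠ 0)) := by
      have h3 : (c : F) ^ 3 = 1 := by
        have := FiniteField.pow_card_sub_one_eq_one (c : F) c.ne_zero
        rwa [hF] at this
      have hs := omega_sq hω
      have hfac : ((c : F) - 1) * ((c : F) - ω) * ((c : F) - (1 + ω)) = 0 := by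
        have h2 : (2 : F) = 0 := CharTwo.two_eq_zero
        linear_combination h3 + (-(c : F) ^ 2 * (1 + ω) + (c : F) * (1 + ω)) * h2 + ((c : F) - 1) * hs + (ω * ((c : F) - 1)) * h2
      rcases mul_eq_zero.1 hfac with h | h
      · rcases mul_eq_zero.1 h with h | h
        · exact ⟨0, by norm_num, by simp [val, bF, sub_eq_zero.1 h]⟩
        · exact ⟨1, by norm_num, by simp [val, bF, sub_eq_zero.1 h]⟩
      · exact ⟨2, by norm_num, by simp [val, bF, sub_eq_zero.1 h]⟩
    obtain ⟨n, hn, hcn⟩ := hex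
    obtain ⟨g, hg, eg⟩ := in_sc hω hn
    rw [dec_sc hn, ← hcn] at eg
    have hg' : g ∈ threeJ3 F ω := by rw [threeJ3_eq hω]; exact hg
    refine ⟨⟨⟨g, hg'⟩, (mem_center_iff hω _).2 ⟨_, eg⟩⟩, Units.ext ?_⟩
    have h1 := (ef ⟨⟨g, hg'⟩, (mem_center_iff hω _).2 ⟨_, eg⟩⟩).symm.trans eg
    simpa using congrFun (congrFun h1 0) 0
  rw [Nat.card_eq_of_bijective f ⟨hinj, hsur⟩, Nat.card_eq_fintype_card, Fintype.card_units, hF]

theorem card_J3 (hF : Fintype.card F = 4) : Nat.card (J3 F ω) = 50232960 := by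
  have h := Subgroup.card_eq_card_quotient_mul_card_subgroup (Subgroup.center (threeJ3 F ω))
  rw [card_threeJ3 hω, card_center hω hF] at h
  show Nat.card (threeJ3 F ω ⧸ Subgroup.center (threeJ3 F ω)) = _
  omega

/-- The image of a word in an abelian group. -/
theorem map_word {A : Type*} [CommGroup A] (φ : X hω →* A) : ∀ {w : List ℕ}, w.all (Nat.blt · 2) = true →
    ∀ (g : X hω), ((g : GL F9 F) : Matrix F9 F9 F) = dec ω (wcode w) →
      φ g = φ ⟨sUnit hω 0, Subgroup.subset_closure ⟨0, rfl⟩⟩ ^ w.count 0 *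
        φ ⟨sUnit hω 1, Subgroup.subset_closure ⟨1, rfl⟩⟩ ^ w.count 1
  | [], _, g, eg => by
    have : g = 1 := Subtype.ext (Units.ext (by rw [eg]; exact dec_one))
    simp [this]
  | x :: w, hw, g, eg => by
    rw [List.all_cons, Bool.and_eq_true, Nat.blt_eq] at hw
    obtain ⟨h, hh, eh⟩ := in_word hω hw.2
    have hsx : g = ⟨sUnit hω ⟨x, hw.1⟩, Subgroup.subset_closure ⟨_, rfl⟩⟩ * ⟨h, hh⟩ := Subtype.ext (Units.ext (by
      rw [eg]
      show dec ω (mm (sgen.getD x 0) (wcode w)) = dec ω (sgen.getD x 0) * (h : Matrix F9 F9 F)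
      rw [dec_mm hω, eh]))
    rw [hsx, map_mul, map_word φ hw.2 ⟨h, hh⟩ eh]
    obtain rfl | rfl : x = 0 ∨ x = 1 := by have := hw.1; omega
    · rw [List.count_cons_self, List.count_cons_of_ne (by norm_num), pow_succ']
      exact (mul_assoc _ _ _).symm
    · rw [List.count_cons_self, List.count_cons_of_ne (by norm_num), pow_succ', mul_left_comm]
      rfl

theorem phi_pow {A : Type*} [CommGroup A] (φ : X hω →* A) (g : X hω) (n : ℕ)
    (h : ((g : GL F9 F) : Matrix F9 F9 F) ^ n = 1) : φ g ^ n = 1 := by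
  rw [← map_pow]
  refine (congrArg φ (Subtype.ext (Units.ext ?_) : g ^ n = 1)).trans (map_one φ)
  show (((g : GL F9 F) ^ n : GL F9 F) : Matrix F9 F9 F) = 1
  rw [Units.val_pow_eq_pow_val, h]

/-- A homomorphism of the triple cover to an abelian group is trivial. -/
theorem hom_trivial {A : Type*} [CommGroup A] (φ : X hω →* A) (g : X hω) : φ g = 1 := by
  have h := Valid.words_ok
  simp only [Bool.and_eq_true] at h
  obtain ⟨⟨⟨⟨-, aT⟩, aS⟩, oT⟩, oS⟩ := h
  have hk := Valid.kill_ok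
  simp only [Bool.and_eq_true, Nat.beq_eq] at hk
  obtain ⟨⟨⟨k1, k2⟩, k3⟩, k4⟩ := hk
  set a := φ ⟨sUnit hω 0, Subgroup.subset_closure ⟨0, rfl⟩⟩
  set b := φ ⟨sUnit hω 1, Subgroup.subset_closure ⟨1, rfl⟩⟩
  have ha : a ^ 2 = 1 := phi_pow hω φ _ 2 (by
    rw [pow_two]
    exact dec_base hω (Nat.beq_eq.symm ▸ k1))
  have hb : b ^ 9 = 1 := phi_pow hω φ _ 9 (by
    show dec ω (sgen.getD 1 0) ^ 9 = 1
    rw [← dec_mpow hω, k2, dec_one])
  have hword : ∀ {w : List ℕ} {o : ℕ}, w.all (Nat.blt · 2) = true → Nat.beq (mpow (wcode w) o) one = true →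
      a ^ (w.count 0 * o) * b ^ (w.count 1 * o) = 1 := fun {w o} hw ho => by
    obtain ⟨y, hy, ey⟩ := in_word hω hw
    rw [pow_mul, pow_mul, ← mul_pow, ← map_word hω φ hw ⟨y, hy⟩ ey]
    refine phi_pow hω φ _ o ?_
    show (y : Matrix F9 F9 F) ^ o = 1
    rw [ey, ← dec_mpow hω, Nat.eq_of_beq_eq_true ho, dec_one]
  have hb1 : b = 1 := by
    have e := congrArg (· ^ 2) (hword aT oT)
    simp only [mul_pow, one_pow] at e
    rw [← pow_mul a, mul_comm _ 2, pow_mul a, ha, one_pow, one_mul, ← pow_mul] at e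
    have := pow_gcd_eq_one.2 ⟨(show b ^ (2 * killT.1.count 1 * killT.2) = 1 by
      rw [show 2 * killT.1.count 1 * killT.2 = killT.1.count 1 * killT.2 * 2 by ring]; exact e), hb⟩
    rwa [k3, pow_one] at this
  have ha1 : a = 1 := by
    have e := hword aS oS
    rw [hb1, one_pow, mul_one] at e
    have := pow_gcd_eq_one.2 ⟨e, ha⟩
    rwa [k4, pow_one] at this
  obtain ⟨g, hg⟩ := g
  induction hg using Subgroup.closure_induction with
  | mem x hx =>
    obtain ⟨i, rfl⟩ := hx
    fin_cases i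
    · exact ha1
    · exact hb1
  | one => exact map_one φ
  | mul x y hx hy ihx ihy => rw [show (⟨x * y, _⟩ : X hω) = ⟨x, hx⟩ * ⟨y, hy⟩ from rfl, map_mul, ihx, ihy, mul_one]
  | inv x hx ih => rw [show (⟨x⁻¹, _⟩ : X hω) = ⟨x, hx⟩⁻¹ from rfl, map_inv, ih, inv_one]

theorem J3_hom_trivial {A : Type*} [CommGroup A] (φ : J3 F ω →* A) (g : J3 F ω) : φ g = 1 := by
  obtain ⟨y, rfl⟩ := QuotientGroup.mk_surjective g
  exact hom_trivial hω ((φ.comp (QuotientGroup.mk' _)).comp
    (MulEquiv.subgroupCongr (threeJ3_eq hω)).symm.toMonoidHom) ⟨y.1, threeJ3_eq hω ▸ y.2⟩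

end CfsgLib.Sporadic.J3
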