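import Cfsg.Agent.Lib.Sporadic.J3Out
import Cfsg.Agent.Lib.Sporadic.J3CenData
import Cfsg.Agent.Lib.PGroups.Extraspecial

/-!
# The centraliser of an involution of the third Janko group

It is the semidirect product of a listed extraspecial group of order 32 with a listed copy of the
alternating group of degree 5.
-/

set_option autoImplicit false
set_option Elab.async false
set_option maxRecDepth 20000

namespace CfsgLib.Sporadic.J3

open Cfsg Cfsg.Spor CenData
open scoped commutatorElement

noncomputable def qAt (i : ℕ) : ℕ := qElts.getD i 0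

noncomputable def hAt (i : ℕ) : ℕ := hElts.getD i 0

/-- The multiplication table of the normal subgroup. -/
noncomputable def qm (x y : ℕ) : ℕ := get2 qMul (Nat.add (Nat.mul 32 x) y)

/-- Composition of image lists. -/
def pcomp (p r : List ℕ) : List ℕ := r.map fun x => p.getD x 0

noncomputable def qMulOK (n : ℕ) : Bool :=
  Nat.blt (qm (Nat.div n 32) (Nat.mod n 32)) 32 &&
    chkEq [qAt (Nat.div n 32), qAt (Nat.mod n 32)] [qAt (qm (Nat.div n 32) (Nat.mod n 32))]

noncomputable def hMulOK (n : ℕ) : Bool :=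
  chkEq [hAt (Nat.div n 60), hAt (Nat.mod n 60)]
    [hAt (perms.idxOf (pcomp (perms.getD (Nat.div n 60) []) (perms.getD (Nat.mod n 60) [])))]

noncomputable def hConjOK (n : ℕ) : Bool :=
  Nat.blt (get2 hConj n) 32 &&
    chkEq [hAt (Nat.div n 32), qAt (Nat.mod n 32)] [qAt (get2 hConj n), hAt (Nat.div n 32)] &&
    (Nat.beq (Nat.div n 32) 0 || !(chkEq [hAt (Nat.div n 32)] [qAt (Nat.mod n 32)]))

/-- An element commutes with all of the table. -/
noncomputable def qCen (x : ℕ) : Bool := forallLt 32 fun y => Nat.beq (qm x y) (qm y x)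

noncomputable def qCommOK (n : ℕ) : Bool :=
  (List.range 32).any fun c => qCen c &&
    Nat.beq (qm c (qm (Nat.mod n 32) (Nat.div n 32))) (qm (Nat.div n 32) (Nat.mod n 32))

/-- No three independent commuting involutions. -/
noncomputable def noEightOK (x y z : ℕ) : Bool :=
  !(!Nat.beq x 0 && !Nat.beq y 0 && !Nat.beq z 0 && !Nat.beq x y && !Nat.beq x z && !Nat.beq y z &&
    !Nat.beq z (qm x y) && Nat.beq (qm x x) 0 && Nat.beq (qm y y) 0 && Nat.beq (qm z z) 0 &&
    Nat.beq (qm x y) (qm y x) && Nat.beq (qm x z) (qm z x) && Nat.beq (qm y z) (qm z y))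

theorem qMul_all : forallLt 1024 qMulOK = true := by decide +kernel

theorem hMul_all : forallLt 3600 hMulOK = true := by decide +kernel

theorem hConj_all : forallLt 1920 hConjOK = true := by decide +kernel

theorem qComm_all : forallLt 1024 qCommOK = true := by decide +kernel

theorem noEight_all :
    (forallLt 32 fun x => forallLt 32 fun y => forallLt 32 fun z => noEightOK x y z) = true := by
  decide +kernel

theorem cen_table : ((List.range 32).filter qCen).length = 2 ∧
    (forallLt 32 fun x => qCen (qm x x)) = true ∧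
    (forallLt 32 qCen) = false ∧ chkEq [qAt 0] [] = true ∧
    sepOK ((List.range 32).map fun i => [qAt i]) = true ∧
    (∀ i : Fin 32, chkEq [qAt i, MultData.baseA] [MultData.baseA, qAt i] = true) ∧
    ∀ i : Fin 60, chkEq [hAt i, MultData.baseA] [MultData.baseA, hAt i] = true := by
  decide +kernel

theorem forallLt_of : ∀ {n : ℕ} {f : ℕ → Bool}, (∀ i < n, f i = true) → forallLt n f = true
  | 0, _, _ => rfl
  | n + 1, f, h => by
    rw [forallLt_succ, h n (by omega), forallLt_of fun i hi => h i (by omega)]; rfl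

/-- The image list of a permutation. -/
def imgList (σ : Equiv.Perm (Fin 5)) : List ℕ := [(σ 0).val, (σ 1).val, (σ 2).val, (σ 3).val, (σ 4).val]

theorem perm_listed : ∀ σ : Equiv.Perm (Fin 5), Equiv.Perm.sign σ = 1 →
    perms.idxOf (imgList σ) < 60 ∧ perms.getD (perms.idxOf (imgList σ)) [] = imgList σ ∧
      (perms.idxOf (imgList σ) = 0 → σ = 1) := by
  decide +kernel

theorem imgList_mul (σ τ : Equiv.Perm (Fin 5)) : imgList (σ * τ) = pcomp (imgList σ) (imgList τ) := by
  have h : ∀ i : Fin 5, (imgList σ).getD i.val 0 = (σ i).val := by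
    intro i; fin_cases i <;> rfl
  show [(σ (τ 0)).val, (σ (τ 1)).val, (σ (τ 2)).val, (σ (τ 3)).val, (σ (τ 4)).val] =
    [(imgList σ).getD (τ 0).val 0, (imgList σ).getD (τ 1).val 0, (imgList σ).getD (τ 2).val 0,
      (imgList σ).getD (τ 3).val 0, (imgList σ).getD (τ 4).val 0]
  rw [h, h, h, h, h]
  
variable {F : Type*} [Field F] [Fintype F] [CharP F 2] {ω : F} (hω : ω ^ 2 + ω + 1 = 0)
include hω

set_option maxHeartbeats 1000000 in
theorem centralizer_structure (hF : Fintype.card F = 4) :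
    ∃ t : J3 F ω, orderOf t = 2 ∧ ∃ (Q : Subgroup ↥(Subgroup.centralizer ({t} : Set (J3 F ω)))) (_ : Q.Normal),
      Cfsg.IsExtraspecial 2 Q ∧ Nat.card Q = 32 ∧
        (∀ E : Subgroup Q, Cfsg.IsElementaryAbelian 2 E → Nat.card E ≤ 2 ^ 2) ∧
        (∃ H : Subgroup ↥(Subgroup.centralizer ({t} : Set (J3 F ω))), Q.IsComplement' H) ∧
        Nonempty (↥(Subgroup.centralizer ({t} : Set (J3 F ω))) ⧸ Q ≃* ↥(alternatingGroup (Fin 5))) := by
  classical
  haveI : Finite (J3 F ω) := Nat.finite_of_card_ne_zero (by rw [card_J3 hω hF]; norm_num)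
  haveI : Fact (Nat.Prime 2) := ⟨Nat.prime_two⟩
  obtain ⟨hcen2, hsq, hna, hq0, hsep, hqa, hha⟩ := cen_table
  obtain ⟨ha2, ha1⟩ := invA_order hω hF
  set a := invA hω
  refine ⟨a, orderOf_eq_prime (by rw [sq]; exact ha2) ha1, ?_⟩
  set C := Subgroup.centralizer ({a} : Set (J3 F ω))
  have hC : ∀ g, g ∈ C ↔ g * a = a * g := fun g => Subgroup.mem_centralizer_singleton_iff
  -- the two families
  let q : Fin 32 → C := fun i => ⟨el hω (qAt i), (hC _).2 (by
    simpa [a, invA] using eq_of_chkEq hω (hqa i))⟩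
  have qv : ∀ i, (q i : J3 F ω) = el hω (qAt i) := fun _ => rfl
  have q0 : q 0 = 1 := Subtype.ext (by simpa [qv] using eq_of_chkEq hω hq0)
  have qinj : Function.Injective q := fun i j e => by
    refine Fin.ext (injOn_of_sepOK hω hF hsep (by simp) (by simp) ?_)
    have e' := congrArg Subtype.val e
    rw [qv, qv] at e'
    simpa [List.getD_eq_getElem?_getD, i.2, j.2] using e'
  have qmul : ∀ i j : Fin 32, ∃ k : Fin 32, q i * q j = q k ∧ k.val = qm i j := by
    intro i j
    have h := forallLt_elim qMul_all (show 32 * i.val + j.val < 1024 by omega)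
    simp only [qMulOK, Bool.and_eq_true, Nat.blt_eq, show Nat.div (32 * i.val + j.val) 32 = i.val from
      show (32 * i.val + j.val) / 32 = i.val by omega, show Nat.mod (32 * i.val + j.val) 32 = j.val from
      show (32 * i.val + j.val) % 32 = j.val by omega] at h
    exact ⟨⟨_, h.1⟩, Subtype.ext (by simpa [qv] using eq_of_chkEq hω h.2), rfl⟩
  let Q : Subgroup C := subgroupOfIdempotent (Set.range q) ⟨1, 0, q0⟩ (by
    refine Set.Subset.antisymm ?_ ?_
    · rintro _ ⟨_, ⟨i, rfl⟩, _, ⟨j, rfl⟩, rfl⟩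
      obtain ⟨k, hk, -⟩ := qmul i j
      exact ⟨k, hk.symm⟩
    · rintro _ ⟨i, rfl⟩
      exact ⟨q i, ⟨i, rfl⟩, 1, ⟨0, q0⟩, mul_one _⟩)
  have memQ : ∀ x, x ∈ Q ↔ ∃ i, q i = x := fun _ => Iff.rfl
  have cardQ : Nat.card Q = 32 := by
    show Nat.card (Set.range q) = 32
    rw [Nat.card_range_of_injective qinj, Nat.card_fin]
  -- the complement
  have hidx : ∀ σ : alternatingGroup (Fin 5), perms.idxOf (imgList σ.1) < 60 := fun σ =>
    (perm_listed σ.1 (Equiv.Perm.mem_alternatingGroup.1 σ.2)).1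
  let h0 : alternatingGroup (Fin 5) → C := fun σ => ⟨el hω (hAt (perms.idxOf (imgList σ.1))), (hC _).2 (by
    simpa [a, invA] using eq_of_chkEq hω (hha ⟨_, hidx σ⟩))⟩
  have hmul : ∀ σ τ, h0 (σ * τ) = h0 σ * h0 τ := by
    intro σ τ
    have hσ := perm_listed σ.1 (Equiv.Perm.mem_alternatingGroup.1 σ.2)
    have hτ := perm_listed τ.1 (Equiv.Perm.mem_alternatingGroup.1 τ.2)
    set i := perms.idxOf (imgList σ.1) with hi
    set j := perms.idxOf (imgList τ.1) with hj
    have h := forallLt_elim hMul_all (show 60 * i + j < 3600 by omega)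
    simp only [hMulOK, show Nat.div (60 * i + j) 60 = i from show (60 * i + j) / 60 = i by omega,
      show Nat.mod (60 * i + j) 60 = j from show (60 * i + j) % 60 = j by omega, hσ.2.1, hτ.2.1,
      ← imgList_mul] at h
    refine Subtype.ext ?_
    have e := eq_of_chkEq hω h
    simp only [List.map_cons, List.map_nil, List.prod_cons, List.prod_nil, mul_one] at e
    exact e.symm
  let h : alternatingGroup (Fin 5) →* C := MonoidHom.mk' h0 hmul
  have hh : ∀ σ, ((h σ : C) : J3 F ω) = el hω (hAt (perms.idxOf (imgList σ.1))) := fun _ => rfl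
  have hQ : ∀ σ, h σ ∈ Q → σ = 1 := by
    intro σ hσ
    obtain ⟨x, hx⟩ := (memQ _).1 hσ
    obtain ⟨h1, -, h3⟩ := perm_listed σ.1 (Equiv.Perm.mem_alternatingGroup.1 σ.2)
    by_contra hne
    have hk := forallLt_elim hConj_all (show 32 * perms.idxOf (imgList σ.1) + x.val < 1920 by omega)
    simp only [hConjOK, Bool.and_eq_true, Bool.or_eq_true, Nat.beq_eq, Bool.not_eq_true',
      show Nat.div (32 * perms.idxOf (imgList σ.1) + x.val) 32 = perms.idxOf (imgList σ.1) from
        show (32 * perms.idxOf (imgList σ.1) + x.val) / 32 = _ by omega,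
      show Nat.mod (32 * perms.idxOf (imgList σ.1) + x.val) 32 = x.val from
        show (32 * perms.idxOf (imgList σ.1) + x.val) % 32 = _ by omega] at hk
    rcases hk.2 with e | e
    · exact hne (Subtype.ext (h3 e))
    · have hok1 := (chkEq_ok (hha ⟨_, h1⟩)).1
      have hok2 := (chkEq_ok (hqa x)).1
      simp only [List.all_cons, List.all_nil, Bool.and_eq_true] at hok1 hok2
      refine chkEq_false hω hF (by simp [hok1.1]) (by simp [hok2.1]) e ?_
      have e' := congrArg Subtype.val hx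
      rw [qv, hh] at e'
      simpa using e'.symm
  have hconj : ∀ σ i, ∃ k, h σ * q i = q k * h σ := by
    intro σ i
    obtain ⟨h1, -, -⟩ := perm_listed σ.1 (Equiv.Perm.mem_alternatingGroup.1 σ.2)
    have hk := forallLt_elim hConj_all (show 32 * perms.idxOf (imgList σ.1) + i.val < 1920 by omega)
    simp only [hConjOK, Bool.and_eq_true, Nat.blt_eq,
      show Nat.div (32 * perms.idxOf (imgList σ.1) + i.val) 32 = perms.idxOf (imgList σ.1) from
        show (32 * perms.idxOf (imgList σ.1) + i.val) / 32 = _ by omega,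
      show Nat.mod (32 * perms.idxOf (imgList σ.1) + i.val) 32 = i.val from
        show (32 * perms.idxOf (imgList σ.1) + i.val) % 32 = _ by omega] at hk
    exact ⟨⟨_, hk.1.1⟩, Subtype.ext (by simpa [qv, hh] using eq_of_chkEq hω hk.1.2)⟩
  -- every element is a product
  let μ : Q × alternatingGroup (Fin 5) → C := fun p => (p.1 : C) * h p.2
  have μinj : Function.Injective μ := fun p r e => by
    have e1 : ((r.1 : C))⁻¹ * (p.1 : C) = h (r.2 * p.2⁻¹) := by
      rw [map_mul, map_inv, eq_mul_inv_iff_mul_eq, mul_assoc, inv_mul_eq_iff_eq_mul]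
      exact e
    have e2 := hQ _ (e1 ▸ mul_mem (inv_mem r.1.2) p.1.2)
    rw [mul_inv_eq_one] at e2
    have e3 : (p.1 : C) * h p.2 = (r.1 : C) * h r.2 := e
    rw [e2] at e3
    exact Prod.ext (Subtype.ext (mul_right_cancel e3)) e2.symm
  have cardC : Nat.card C ≤ 1920 := by
    choose f hf1 hf2 using fun g : C => (cen_list hω hF g.1).1 ((hC _).1 g.2)
    refine (Nat.card_le_card_of_injective (fun g : C => (⟨f g, hf1 g⟩ : Fin 1920)) fun g g' e => ?_).trans
      (Nat.card_fin _).le
    exact Subtype.ext (by rw [hf2 g, hf2 g', Fin.mk.inj e])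
  have cardA : Nat.card (alternatingGroup (Fin 5)) = 60 := by
    rw [nat_card_alternatingGroup, Nat.card_fin]; rfl
  have μbij : Function.Bijective μ := μinj.bijective_of_nat_card_le (by
    rw [Nat.card_prod, cardQ, cardA]; exact cardC)
  have μsurj : ∀ g, ∃ p, μ p = g := μbij.2
  haveI hQn : Q.Normal := ⟨fun x hx g => by
    obtain ⟨⟨u, σ⟩, rfl⟩ := μsurj g
    obtain ⟨i, rfl⟩ := (memQ x).1 hx
    obtain ⟨k, hk⟩ := hconj σ i
    have : μ (u, σ) * q i * (μ (u, σ))⁻¹ = (u : C) * q k * (u : C)⁻¹ := by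
      show (u : C) * h σ * q i * ((u : C) * h σ)⁻¹ = _
      rw [mul_assoc (u : C) (h σ), hk]; group
    rw [this]
    exact mul_mem (mul_mem u.2 ⟨k, rfl⟩) (inv_mem u.2)⟩
  -- the table and the group
  let e : Fin 32 → Q := fun i => ⟨q i, ⟨i, rfl⟩⟩
  have esurj : ∀ x : Q, ∃ i, e i = x := fun x => by
    obtain ⟨i, hi⟩ := (memQ _).1 x.2
    exact ⟨i, Subtype.ext hi⟩
  have einj : Function.Injective e := fun i j hij => qinj (congrArg Subtype.val hij)
  have e0 : e 0 = 1 := Subtype.ext q0
  have emul : ∀ i j : Fin 32, ∃ k : Fin 32, e i * e j = e k ∧ k.val = qm i j := fun i j => by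
    obtain ⟨k, h1, h2⟩ := qmul i j
    exact ⟨k, Subtype.ext h1, h2⟩
  have hcomm : ∀ i j : Fin 32, e i * e j = e j * e i ↔ qm i j = qm j i := by
    intro i j
    obtain ⟨k, h1, h2⟩ := emul i j
    obtain ⟨l, h3, h4⟩ := emul j i
    rw [h1, h3, einj.eq_iff, ← h2, ← h4, Fin.ext_iff]
  have hcen : ∀ i : Fin 32, e i ∈ Subgroup.center Q ↔ qCen i = true := by
    intro i
    rw [Subgroup.mem_center_iff]
    constructor
    · intro hi
      refine forallLt_of fun y hy => ?_
      rw [Nat.beq_eq]
      exact ((hcomm ⟨y, hy⟩ i).1 (hi _)).symm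
    · intro hi x
      obtain ⟨j, rfl⟩ := esurj x
      have := forallLt_elim hi j.2
      rw [Nat.beq_eq] at this
      exact (hcomm j i).2 this.symm
  refine ⟨Q, hQn, ?_, cardQ, ?_, ⟨h.range, ?_⟩, ?_⟩
  · refine CfsgLib.PGroups.isExtraspecial_of (IsPGroup.of_card (n := 5) cardQ) ?_ ?_ ?_ ?_
    · intro hab
      have : (forallLt 32 qCen) = true := forallLt_of fun i hi =>
        (hcen ⟨i, hi⟩).1 (Subgroup.mem_center_iff.2 fun g => mul_comm' g _)
      rw [this] at hna
      exact Bool.noConfusion hna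
    · rw [← hcen2]
      have hf : ((List.range 32).filter qCen).length = Nat.card {i : Fin 32 // qCen i = true} := by
        rw [Nat.card_eq_fintype_card, Fintype.card_subtype]
        rw [← List.toFinset_card_of_nodup (List.nodup_range.filter _)]
        refine Finset.card_bij (fun i hi => (⟨i, by simpa using (List.mem_filter.1 (List.mem_toFinset.1 hi)).1⟩ : Fin 32))
          ?_ ?_ ?_
        · intro i hi
          simpa using (List.mem_filter.1 (List.mem_toFinset.1 hi)).2
        · intro i _ j _ hij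
          exact Fin.mk.inj hij
        · intro j hj
          exact ⟨j.val, List.mem_toFinset.2 (List.mem_filter.2 ⟨List.mem_range.2 j.2, by simpa using hj⟩), rfl⟩
      rw [hf]
      refine Nat.card_congr (Equiv.ofBijective (fun i : {i : Fin 32 // qCen i = true} =>
        (⟨e i.1, (hcen i.1).2 i.2⟩ : Subgroup.center Q)) ⟨fun i j hij => Subtype.ext (einj (congrArg Subtype.val hij)),
          fun x => ?_⟩).symm
      obtain ⟨i, hi⟩ := esurj x.1
      exact ⟨⟨i, (hcen i).1 (hi ▸ x.2)⟩, Subtype.ext hi⟩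
    · rw [commutator_def, Subgroup.commutator_le]
      intro x _ y _
      obtain ⟨i, rfl⟩ := esurj x
      obtain ⟨j, rfl⟩ := esurj y
      have hc := forallLt_elim qComm_all (show 32 * i.val + j.val < 1024 by omega)
      simp only [qCommOK, List.any_eq_true, List.mem_range, Bool.and_eq_true, Nat.beq_eq,
        show Nat.div (32 * i.val + j.val) 32 = i.val from show (32 * i.val + j.val) / 32 = i.val by omega,
        show Nat.mod (32 * i.val + j.val) 32 = j.val from show (32 * i.val + j.val) % 32 = j.val by omega] at hc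
      obtain ⟨c, hc32, hcc, hce⟩ := hc
      obtain ⟨k, h1, h2⟩ := emul i j
      obtain ⟨l, h3, h4⟩ := emul j i
      obtain ⟨r, h5, h6⟩ := emul ⟨c, hc32⟩ l
      have e1 : r = k := Fin.ext (by rw [h6, h4, h2]; exact hce)
      have e2 : ⁅e i, e j⁆ = e ⟨c, hc32⟩ := by
        rw [commutatorElement_def]
        calc e i * e j * (e i)⁻¹ * (e j)⁻¹ = e i * e j * (e j * e i)⁻¹ := by group
          _ = e k * (e l)⁻¹ := by rw [h1, h3]
          _ = e ⟨c, hc32⟩ * e l * (e l)⁻¹ := by rw [h5, e1]
          _ = e ⟨c, hc32⟩ := mul_inv_cancel_right _ _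
      rw [e2]
      exact (hcen _).2 hcc
    · intro x
      obtain ⟨i, rfl⟩ := esurj x
      obtain ⟨k, h1, h2⟩ := emul i i
      rw [sq, h1, hcen, h2]
      exact forallLt_elim hsq i.2
  · intro E hE
    obtain ⟨hab, hexp⟩ := hE
    by_contra hlt
    have h5 : 5 ≤ Nat.card E := by omega
    haveI : Fintype E := Fintype.ofFinite _
    rw [Nat.card_eq_fintype_card] at h5
    obtain ⟨x, hx⟩ : ∃ x : E, x ∉ ({1} : Finset E) :=
      ⟨_, (Finset.exists_mem_notMem_of_card_lt_card (s := ({1} : Finset E)) (t := Finset.univ)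
        (by simp; omega)).choose_spec.2⟩
    obtain ⟨y, hy⟩ : ∃ y : E, y ∉ ({1, x} : Finset E) :=
      ⟨_, (Finset.exists_mem_notMem_of_card_lt_card (s := ({1, x} : Finset E)) (t := Finset.univ)
        (by have := Finset.card_le_two (a := (1 : E)) (b := x); rw [Finset.card_univ]; omega)).choose_spec.2⟩
    obtain ⟨z, hz⟩ : ∃ z : E, z ∉ ({1, x, y, x * y} : Finset E) :=
      ⟨_, (Finset.exists_mem_notMem_of_card_lt_card (s := ({1, x, y, x * y} : Finset E)) (t := Finset.univ)
        (by have := Finset.card_le_four (a := (1 : E)) (b := x) (c := y) (d := x * y)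
            rw [Finset.card_univ]; omega)).choose_spec.2⟩
    simp only [Finset.mem_insert, Finset.mem_singleton, not_or] at hx hy hz
    obtain ⟨i, hi⟩ := esurj x.1
    obtain ⟨j, hj⟩ := esurj y.1
    obtain ⟨k, hk⟩ := esurj z.1
    have hsq' : ∀ (w : E) (m : Fin 32), e m = w.1 → qm m m = 0 := fun w m hm => by
      obtain ⟨n, h1, h2⟩ := emul m m
      have : e n = e 0 := by rw [← h1, e0, hm, ← sq]; exact hexp _ w.2
      rw [← h2, einj this]; rfl
    have hcm : ∀ (w w' : E) (m m' : Fin 32), e m = w.1 → e m' = w'.1 → qm m m' = qm m' m :=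
      fun w w' m m' hm hm' => (hcomm m m').1 (by
        rw [hm, hm']; exact congrArg Subtype.val (mul_comm' w w'))
    obtain ⟨n, hn1, hn2⟩ := emul i j
    have hne : ∀ (w w' : E) (m m' : Fin 32), e m = w.1 → e m' = w'.1 → w ≠ w' → Nat.beq m m' = false :=
      fun w w' m m' hm hm' hww => by
        rw [Bool.eq_false_iff]
        intro hb
        exact hww (Subtype.ext (by rw [← hm, ← hm', Fin.ext (Nat.eq_of_beq_eq_true hb)]))
    have hone : e 0 = ((1 : E) : Q) := e0
    have hk2 := forallLt_elim (forallLt_elim (forallLt_elim noEight_all i.2) j.2) k.2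
    simp only [noEightOK, Bool.not_eq_true', Bool.and_eq_false_iff] at hk2
    have b1 := hne x 1 i 0 hi hone hx
    have b2 := hne y 1 j 0 hj hone hy.1
    have b3 := hne z 1 k 0 hk hone hz.1
    have b4 := hne x y i j hi hj (Ne.symm hy.2)
    have b5 := hne x z i k hi hk (Ne.symm hz.2.1)
    have b6 := hne y z j k hj hk (Ne.symm hz.2.2.1)
    have b7 := hne z (x * y) k n hk (by rw [← hn1, hi, hj]; rfl) hz.2.2.2
    simp only [Fin.val_zero] at b1 b2 b3
    rw [hn2] at b7
    simp [b1, b2, b3, b4, b5, b6, b7, hsq' x i hi, hsq' y j hj, hsq' z k hk, hcm x y i j hi hj,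
      hcm x z i k hi hk, hcm y z j k hj hk] at hk2
    rw [← hcm x y i j hi hj] at hk2
    rw [hk2, Nat.beq_refl] at b7
    exact Bool.noConfusion b7
  · refine ⟨fun p r e => ?_, fun g => ?_⟩
    · obtain ⟨⟨_, σ, rfl⟩⟩ := Nonempty.intro p.2
      obtain ⟨⟨_, τ, rfl⟩⟩ := Nonempty.intro r.2
      have := μinj (a₁ := (p.1, p.2.2.choose)) (a₂ := (r.1, r.2.2.choose)) (by
        show (p.1 : C) * h p.2.2.choose = (r.1 : C) * h r.2.2.choose
        rw [p.2.2.choose_spec, r.2.2.choose_spec]; exact e)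
      simp only [Prod.mk.injEq] at this
      exact Prod.ext this.1 (Subtype.ext (by rw [← p.2.2.choose_spec, this.2, r.2.2.choose_spec]))
    · obtain ⟨⟨u, σ⟩, hu⟩ := μsurj g
      exact ⟨(u, ⟨h σ, σ, rfl⟩), hu⟩
  · refine ⟨(MulEquiv.ofBijective ((QuotientGroup.mk' Q).comp h) ⟨?_, fun g => ?_⟩).symm⟩
    · exact (injective_iff_map_eq_one _).2 fun σ hσ => hQ σ ((QuotientGroup.eq_one_iff _).1 hσ)
    · obtain ⟨g, rfl⟩ := QuotientGroup.mk_surjective g
      obtain ⟨⟨u, σ⟩, rfl⟩ := μsurj g
      refine ⟨σ, ?_⟩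
      show (QuotientGroup.mk (h σ) : C ⧸ Q) = QuotientGroup.mk ((u : C) * h σ)
      rw [QuotientGroup.mk_mul, (QuotientGroup.eq_one_iff _).2 u.2, one_mul]

end CfsgLib.Sporadic.J3
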