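import Cfsg.Agent.Lib.Sporadic.Bits
import Cfsg.Agent.Lib.Sporadic.J3Bits
import Cfsg.Agent.Lib.Sporadic.J3Data.Kel
import Cfsg.Agent.Lib.Sporadic.J3Data.Kmaps
import Cfsg.Agent.Lib.Sporadic.J3Data.Rel
import Cfsg.Agent.Lib.Sporadic.J3Data.Edges
import Cfsg.Agent.Lib.Sporadic.J3Data.Small

/-!
# The certificate for the order of the triple cover of the third Janko group

The group generated by two of the matrices has 6156 cosets of a subgroup `3 × L₂(16):2`, listed with
the products of the two generators; the subgroup is a list of 8160 matrices times three scalars.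
-/

set_option autoImplicit false

namespace CfsgLib.Sporadic.J3

open Data

noncomputable def get2 (L : List (List ℕ)) (i : ℕ) : ℕ :=
  (L.getD (Nat.div i 80) []).getD (Nat.mod i 80) 0

/-- The code of a word in the two generators and their inverses. -/
noncomputable def wcode : List ℕ → ℕ
  | [] => one
  | i :: w => mm (sgen.getD i 0) (wcode w)

/-- The scalars `1, ω, ω²`. -/
noncomputable def sc (c : ℕ) : ℕ :=
  cond (Nat.beq c 0) one (cond (Nat.beq c 1) (Nat.shiftLeft one 81) (Nat.lor one (Nat.shiftLeft one 81)))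

/-- The element with packed coordinates. -/
noncomputable def triple (e : ℕ) : ℕ :=
  mm (get2 rel (Nat.land e 8191)) (mm (sc (Nat.land (Nat.shiftRight e 13) 3)) (get2 kel (Nat.shiftRight e 15)))

/-- Bounds on packed coordinates. -/
noncomputable def tripleOK (e : ℕ) : Bool :=
  Nat.blt (Nat.land e 8191) 6156 && Nat.blt (Nat.land (Nat.shiftRight e 13) 3) 3 &&
    Nat.blt (Nat.shiftRight e 15) 8160

noncomputable def kParOK (i : ℕ) : Bool :=
  Nat.beq i 0 || (Nat.blt (Nat.shiftRight (get2 kpar i) 2) i && Nat.blt (Nat.land (get2 kpar i) 3) 3 &&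
    Nat.beq (get2 kel i) (mm (get2 kel (Nat.shiftRight (get2 kpar i) 2)) (kgen.getD (Nat.land (get2 kpar i) 3) 0)))

noncomputable def kTrOK (n : ℕ) : Bool :=
  Nat.blt (get2 ktr n) 8160 &&
    Nat.beq (mm (get2 kel (Nat.div n 3)) (kgen.getD (Nat.mod n 3) 0)) (get2 kel (get2 ktr n))

noncomputable def rParOK (i : ℕ) : Bool :=
  Nat.beq i 0 || (Nat.blt (Nat.shiftRight (get2 rpar i) 1) i &&
    Nat.beq (get2 rel i) (mm (sgen.getD (Nat.land (get2 rpar i) 1) 0) (get2 rel (Nat.shiftRight (get2 rpar i) 1))))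

noncomputable def edgeOK (n : ℕ) : Bool :=
  tripleOK (get2 edge n) &&
    Nat.beq (mm (sgen.getD (Nat.mod n 2) 0) (get2 rel (Nat.div n 2))) (triple (get2 edge n))

/-- A loop over a block of indices. -/
noncomputable def block (f : ℕ → Bool) (lo n : ℕ) : Bool := forallLt n fun i => f (Nat.add lo i)

theorem block_elim {f : ℕ → Bool} {lo n : ℕ} (h : block f lo n = true) {i : ℕ} (h1 : lo ≤ i)
    (h2 : i < lo + n) : f i = true := by
  have := forallLt_elim h (k := i - lo) (by omega)
  rwa [show Nat.add lo (i - lo) = i from Nat.add_sub_cancel' h1] at this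

/-- A finite group given by the list of its elements. -/
structure Listed where
  size : ℕ
  ngen : ℕ
  gen : List ℕ
  tri : List ℕ
  el : List (List ℕ)
  par : List (List ℕ)
  tr : List (List ℕ)
  srt : List (List ℕ)

noncomputable def Listed.parOK (L : Listed) (i : ℕ) : Bool :=
  Nat.beq i 0 || (Nat.blt (Nat.shiftRight (get2 L.par i) 3) i && Nat.blt (Nat.land (get2 L.par i) 7) L.ngen &&
    Nat.beq (get2 L.el i) (mm (get2 L.el (Nat.shiftRight (get2 L.par i) 3)) (L.gen.getD (Nat.land (get2 L.par i) 7) 0)))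

noncomputable def Listed.trOK (L : Listed) (n : ℕ) : Bool :=
  Nat.blt (get2 L.tr n) L.size &&
    Nat.beq (mm (get2 L.el (Nat.div n L.ngen)) (L.gen.getD (Nat.mod n L.ngen) 0)) (get2 L.el (get2 L.tr n))

noncomputable def Listed.srtOK (L : Listed) (i : ℕ) : Bool :=
  Nat.blt (get2 L.el i) (2 ^ 162) && Nat.blt (get2 L.srt i) L.size && (Nat.beq (Nat.add i 1) L.size ||
    Nat.blt (get2 L.el (get2 L.srt i)) (get2 L.el (get2 L.srt (Nat.add i 1))))

noncomputable def Listed.genOK (L : Listed) (a : ℕ) : Bool :=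
  tripleOK (L.tri.getD a 0) && Nat.beq (triple (L.tri.getD a 0)) (L.gen.getD a 0)

/-- All checks of a listed group. -/
noncomputable def Listed.ok (L : Listed) : Bool :=
  Nat.blt 0 L.size && Nat.beq (get2 L.el 0) one && forallLt L.size L.parOK && forallLt (L.size * L.ngen) L.trOK &&
    forallLt L.size L.srtOK && forallLt L.ngen L.genOK

noncomputable def two : Listed := ⟨128, 7, twoGen, twoTri, twoEl, twoPar, twoTr, twoSrt⟩

noncomputable def three : Listed := ⟨729, 5, threeGen, threeTri, threeEl, threePar, threeTr, threeSrt⟩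

end CfsgLib.Sporadic.J3
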