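import Cfsg.Agent.Lib.Sporadic.J3Check

/-!
# The defining matrices of the triple cover of J3 as codes
-/

set_option autoImplicit false

namespace CfsgLib.Sporadic.J3

open Cfsg Cfsg.Spor Data

/-- The bits of a power of `ω`. -/
def opc (n : ZMod 3) : Bool × Bool :=
  if n = 0 then (true, false) else if n = 1 then (false, true) else (true, true)

def bitsA (Z a b : F9) : Bool × Bool :=
  if a = b then opc (Z.1 * a.1 + Z.2 * a.2) else (false, false)

def bitsE (Z a b : F9) : Bool × Bool :=
  if a = b then opc ((Z.1 - a.1) ^ 2 + (Z.2 - a.2) ^ 2) else (false, false)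

def bitsD (Z w z : F9) : Bool × Bool :=
  if w = z + Z then
    (if z = 0 then (true, false)
    else if F9.div Z z = F9.I - F9.one then (false, true)
    else if F9.div Z z = -F9.I - F9.one then (true, true)
    else (true, false))
  else (false, false)

def bitsB (Z w z : F9) : Bool × Bool := if w = F9.mul Z z then (true, false) else (false, false)

def bitsC (Z w z : F9) : Bool × Bool :=
  if z = 0 then (if w = 0 then (true, false) else (false, false))
  else if w = -F9.div Z z ∨ w = F9.mul F9.I (F9.div Z z) ∨ w = -F9.mul F9.I (F9.div Z z) then (true, false)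
  else (false, false)

/-- The code at index `n` has the given bits. -/
noncomputable def codeIs (n : ℕ) (f : F9 → F9 → Bool × Bool) : Bool :=
  decide (∀ a b : F9, ((p0 (gcode.getD n 0)).testBit (9 * ix a + ix b),
    (p1 (gcode.getD n 0)).testBit (9 * ix a + ix b)) = f a b)

theorem codeA : ∀ Z : F9, codeIs (ix Z) (bitsA Z) = true := by decide +kernel

theorem codeE : ∀ Z : F9, codeIs (9 + ix Z) (bitsE Z) = true := by decide +kernel

theorem codeD : ∀ Z : F9, codeIs (18 + ix Z) (bitsD Z) = true := by decide +kernel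

theorem codeB : ∀ Z : F9, Z ≠ 0 → codeIs (27 + ix Z) (bitsB Z) = true := by decide +kernel

theorem codeC : ∀ Z : F9, Z ≠ 0 → codeIs (36 + ix Z) (bitsC Z) = true := by decide +kernel

theorem code_ne_zero : ∀ Z : F9, gcode.getD (ix Z) 0 ≠ 0 ∧ gcode.getD (9 + ix Z) 0 ≠ 0 ∧
    gcode.getD (18 + ix Z) 0 ≠ 0 ∧ (Z ≠ 0 → gcode.getD (27 + ix Z) 0 ≠ 0 ∧ gcode.getD (36 + ix Z) 0 ≠ 0) := by
  decide +kernel

variable {F : Type*} [Field F] {ω : F}

theorem dec_of_codeIs {n : ℕ} {f : F9 → F9 → Bool × Bool} (h : codeIs n f = true) (a b : F9) :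
    dec ω (gcode.getD n 0) a b = val ω (f a b).1 (f a b).2 := by
  rw [dec_apply, ← (of_decide_eq_true h) a b]

variable [CharP F 2] (hω : ω ^ 2 + ω + 1 = 0)
include hω

theorem val_opc : ∀ n : ZMod 3, val ω (opc n).1 (opc n).2 = omegaPow F ω n := by
  have hsq := omega_sq hω
  intro n
  rcases (show ∀ n : ZMod 3, n = 0 ∨ n = 1 ∨ n = 2 by decide) n with rfl | rfl | rfl
  · simp [opc, val, bF, omegaPow]
  · simp [opc, val, bF, omegaPow, ZMod.val_one]
  · rw [show opc 2 = (true, true) from rfl, omegaPow, show (2 : ZMod 3).val = 2 from rfl, pow_two, hsq]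
    simp [val, bF, add_comm]

omit [CharP F 2] hω in
theorem val_zero : val ω false false = 0 := by simp [val, bF]

omit [CharP F 2] hω in
theorem val_one : val ω true false = 1 := by simp [val, bF]

omit [CharP F 2] hω in
theorem val_omega : val ω false true = ω := by simp [val, bF]

theorem val_omega_sq : val ω true true = ω ^ 2 := by
  rw [pow_two, omega_sq hω]; simp [val, bF, add_comm]

theorem eqD (Z : F9) : j3D F ω Z = dec ω (gcode.getD (18 + ix Z) 0) := by
  funext a b
  rw [dec_of_codeIs (codeD Z), bitsD]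
  show (if a = b + Z then j3Lam F ω Z b else 0) = _
  unfold j3Lam
  split_ifs <;> simp [val_zero, val_one, val_omega, val_omega_sq hω]

omit hω in
theorem eqC (Z : F9) (hZ : Z ≠ 0) : j3C F Z = dec ω (gcode.getD (36 + ix Z) 0) := by
  funext a b
  rw [dec_of_codeIs (codeC Z hZ), bitsC]
  show (if b = 0 then (if a = 0 then (1 : F) else 0) else if _ then (1 : F) else 0) = _
  split_ifs <;> simp [val_zero, val_one]

/-- Every defining matrix is a listed code. -/
theorem exists_code {A : Matrix F9 F9 F} (hA : A ∈ j3Gens F ω) :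
    ∃ n < 45, gcode.getD n 0 ≠ 0 ∧ A = dec ω (gcode.getD n 0) := by
  have v0 : val ω false false = 0 := by simp [val, bF]
  have v1 : val ω true false = 1 := by simp [val, bF]
  have v2 : val ω false true = ω := by simp [val, bF]
  have v3 : val ω true true = ω ^ 2 := by rw [pow_two, omega_sq hω]; simp [val, bF, add_comm]
  have hix := ix_lt
  simp only [j3Gens, Set.mem_union, Set.mem_range, Set.mem_setOf_eq] at hA
  rcases hA with (((⟨Z, rfl⟩ | ⟨Z, rfl⟩) | ⟨Z, rfl⟩) | ⟨Z, hZ, rfl⟩) | ⟨Z, hZ, rfl⟩
  · refine ⟨ix Z, by have := hix Z; omega, (code_ne_zero Z).1, funext fun a => funext fun b => ?_⟩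
    rw [dec_of_codeIs (codeA Z), j3A, Matrix.diagonal_apply, bitsA]
    split_ifs with h
    · exact (val_opc hω _).symm
    · exact v0.symm
  · refine ⟨9 + ix Z, by have := hix Z; omega, (code_ne_zero Z).2.1, funext fun a => funext fun b => ?_⟩
    rw [dec_of_codeIs (codeE Z), j3E, Matrix.diagonal_apply, bitsE]
    split_ifs with h
    · exact (val_opc hω _).symm
    · exact v0.symm
  · exact ⟨18 + ix Z, by have := hix Z; omega, (code_ne_zero Z).2.2.1, eqD hω Z⟩
  · refine ⟨27 + ix Z, by have := hix Z; omega, ((code_ne_zero Z).2.2.2 hZ).1, funext fun a => funext fun b => ?_⟩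
    rw [dec_of_codeIs (codeB Z hZ), bitsB]
    show (if a = F9.mul Z b then (1 : F) else 0) = _
    split_ifs <;> simp [v0, v1]
  · exact ⟨36 + ix Z, by have := hix Z; omega, ((code_ne_zero Z).2.2.2 hZ).2, eqC Z hZ⟩

end CfsgLib.Sporadic.J3
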