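import Cfsg.Agent.Lib.Sporadic.J3Gens
import Cfsg.Agent.Lib.Sporadic.J3Valid.KPar
import Cfsg.Agent.Lib.Sporadic.J3Valid.KTr
import Cfsg.Agent.Lib.Sporadic.J3Valid.RPar
import Cfsg.Agent.Lib.Sporadic.J3Valid.Edge
import Cfsg.Agent.Lib.Sporadic.J3Valid.Small

/-!
# The order of the triple cover of J3 and its centre

Two of the defining matrices generate the group; the listed cosets bound the order from above, and
subgroups of orders `2^7`, `3^6`, `5`, `17`, `19` from below.
-/

set_option autoImplicit false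

namespace CfsgLib.Sporadic.J3

open Cfsg Cfsg.Spor Data
open scoped MatrixGroups

variable {F : Type*} [Field F] [CharP F 2] {ω : F} (hω : ω ^ 2 + ω + 1 = 0)
include hω

theorem dec_base {a b : ℕ} (h : Nat.beq (mm a b) one = true) : dec ω a * dec ω b = 1 := by
  rw [← dec_mm hω, Nat.eq_of_beq_eq_true h, dec_one]

theorem base : (get2 kel 0 = one ∧ get2 rel 0 = one) ∧
    ∀ x < 2, dec ω (sgen.getD x 0) * dec ω (sgen.getD (x + 2) 0) = 1 ∧
      dec ω (sgen.getD (x + 2) 0) * dec ω (sgen.getD x 0) = 1 := by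
  have h := Valid.base_ok
  simp only [Bool.and_eq_true] at h
  obtain ⟨⟨⟨⟨⟨h1, h2⟩, h3⟩, h4⟩, h5⟩, h6⟩ := h
  refine ⟨⟨Nat.eq_of_beq_eq_true h1, Nat.eq_of_beq_eq_true h2⟩, fun x hx => ?_⟩
  obtain rfl | rfl : x = 0 ∨ x = 1 := by omega
  exacts [⟨dec_base hω h3, dec_base hω h4⟩, ⟨dec_base hω h5, dec_base hω h6⟩]

/-- The two generators. -/
noncomputable def sUnit (x : Fin 2) : GL F9 F :=
  ⟨dec ω (sgen.getD x.val 0), dec ω (sgen.getD (x.val + 2) 0), ((base hω).2 _ x.isLt).1,
    ((base hω).2 _ x.isLt).2⟩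

/-- The group they generate. -/
noncomputable def X : Subgroup (GL F9 F) := Subgroup.closure (Set.range (sUnit hω))

/-- The code is that of a member of the group. -/
def In (M : ℕ) : Prop := ∃ g ∈ X hω, (g : Matrix F9 F9 F) = dec ω M

theorem in_one : In hω one := ⟨1, one_mem _, by rw [Units.val_one, dec_one]⟩

theorem in_mm {M N : ℕ} (hM : In hω M) (hN : In hω N) : In hω (mm M N) := by
  obtain ⟨g, hg, eg⟩ := hM
  obtain ⟨h, hh, eh⟩ := hN
  exact ⟨g * h, mul_mem hg hh, by rw [Units.val_mul, eg, eh, dec_mm hω]⟩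

theorem in_mpow {M : ℕ} (hM : In hω M) : ∀ n, In hω (mpow M n)
  | 0 => in_one hω
  | n + 1 => in_mm hω hM (in_mpow hM n)

theorem in_sgen {x : ℕ} (hx : x < 2) : In hω (sgen.getD x 0) :=
  ⟨sUnit hω ⟨x, hx⟩, Subgroup.subset_closure ⟨_, rfl⟩, rfl⟩

theorem in_word : ∀ {w : List ℕ}, w.all (Nat.blt · 2) = true → In hω (wcode w)
  | [], _ => in_one hω
  | x :: w, h => by
    rw [List.all_cons, Bool.and_eq_true] at h
    exact in_mm hω (in_sgen hω (by simpa using h.1)) (in_word h.2)

theorem in_kgen {a : ℕ} (ha : a < 3) : In hω (kgen.getD a 0) := by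
  have h := forallLt_elim Valid.kword_ok ha
  rw [Bool.and_eq_true] at h
  rw [Nat.eq_of_beq_eq_true h.1]
  exact in_mpow hω (in_word hω h.2) _

omit hω [CharP F 2] in
theorem kPar_spec {i : ℕ} (hi : i < 8160) (h0 : i ≠ 0) : ∃ p a, p < i ∧ a < 3 ∧
    get2 kel i = mm (get2 kel p) (kgen.getD a 0) := by
  have h := Valid.kPar_all i hi
  simp only [kParOK, Bool.or_eq_true, Bool.and_eq_true, Nat.beq_eq, Nat.blt_eq] at h
  rcases h with h | ⟨⟨h1, h2⟩, h3⟩
  · exact absurd h h0
  · exact ⟨_, _, h1, h2, h3⟩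

theorem in_kel {i : ℕ} (hi : i < 8160) : In hω (get2 kel i) := by
  induction i using Nat.strong_induction_on with
  | _ i ih =>
    rcases eq_or_ne i 0 with rfl | h0
    · rw [(base hω).1.1]; exact in_one hω
    · obtain ⟨p, a, hp, ha, e⟩ := kPar_spec hi h0
      rw [e]
      exact in_mm hω (ih p hp (by omega)) (in_kgen hω ha)

theorem in_sc {c : ℕ} (hc : c < 3) : In hω (sc c) := by
  have h := Valid.scal_ok
  rw [Bool.and_eq_true] at h
  have h1 : In hω (sc 1) := by
    rw [← Nat.eq_of_beq_eq_true h.1]; exact in_mpow hω (in_word hω h.2) _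
  obtain rfl | rfl | rfl : c = 0 ∨ c = 1 ∨ c = 2 := by omega
  · exact in_one hω
  · exact h1
  · have e : mm (sc 1) (sc 1) = sc 2 := Nat.eq_of_beq_eq_true (forallLt_elim Valid.sc_mul_ok (k := 4) (by norm_num))
    rw [← e]; exact in_mm hω h1 h1

theorem in_rel {i : ℕ} (hi : i < 6156) : In hω (get2 rel i) := by
  induction i using Nat.strong_induction_on with
  | _ i ih =>
    rcases eq_or_ne i 0 with rfl | h0
    · rw [(base hω).1.2]; exact in_one hω
    · have h := Valid.rPar_all i hi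
      simp only [rParOK, Bool.or_eq_true, Bool.and_eq_true, Nat.beq_eq, Nat.blt_eq] at h
      rcases h with h | ⟨h1, h2⟩
      · exact absurd h h0
      · rw [h2]
        exact in_mm hω (in_sgen hω (lt_of_le_of_lt Nat.and_le_right one_lt_two)) (ih _ h1 (by omega))

theorem in_triple {e : ℕ} (he : tripleOK e = true) : In hω (triple e) := by
  simp only [tripleOK, Bool.and_eq_true, Nat.blt_eq] at he
  exact in_mm hω (in_rel hω he.1.1) (in_mm hω (in_sc hω he.1.2) (in_kel hω he.2))

theorem threeJ3_eq : threeJ3 F ω = X hω := by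
  refine le_antisymm ((Subgroup.closure_le _).2 fun g hg => ?_) ((Subgroup.closure_le _).2 ?_)
  · obtain ⟨n, hn, h0, e⟩ := exists_code hω hg
    have h := forallLt_elim Valid.gtri_ok hn
    simp only [Bool.or_eq_true, Bool.and_eq_true, Nat.beq_eq] at h
    rcases h with h | ⟨h1, h2⟩
    · exact absurd h h0
    · obtain ⟨y, hy, ey⟩ := in_triple hω h1
      rw [show g = y from Units.ext (by rw [e, ey, h2])]
      exact hy
  · rintro _ ⟨x, rfl⟩
    refine Subgroup.subset_closure ?_
    show dec ω (sgen.getD x.val 0) ∈ j3Gens F ω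
    obtain ⟨x, hx⟩ := x
    obtain rfl | rfl : x = 0 ∨ x = 1 := by omega
    · show dec ω (sgen.getD 0 0) ∈ j3Gens F ω
      rw [show sgen.getD 0 0 = gcode.getD (36 + ix ((0, 1) : F9)) 0 by decide +kernel,
        ← eqC (ω := ω) (0, 1) (by decide)]
      exact Or.inr ⟨(0, 1), by decide, rfl⟩
    · show dec ω (sgen.getD 1 0) ∈ j3Gens F ω
      rw [show sgen.getD 1 0 = gcode.getD (18 + ix ((0, 1) : F9)) 0 by decide +kernel,
        ← eqD hω (0, 1)]
      exact Or.inl (Or.inl (Or.inr ⟨(0, 1), rfl⟩))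

/-! ### The upper bound -/

theorem kel_mul {i m : ℕ} (hi : i < 8160) (hm : m < 8160) :
    ∃ q < 8160, dec ω (get2 kel i) * dec ω (get2 kel m) = dec ω (get2 kel q) := by
  induction m using Nat.strong_induction_on with
  | _ m ih =>
    rcases eq_or_ne m 0 with rfl | h0
    · exact ⟨i, hi, by rw [(base hω).1.1, dec_one, mul_one]⟩
    · obtain ⟨p, a, hp, ha, e⟩ := kPar_spec hm h0
      obtain ⟨q, hq, eq⟩ := ih p hp (by omega)
      have h := Valid.kTr_all (3 * q + a) (by omega)
      simp only [kTrOK, Bool.and_eq_true, Nat.blt_eq, Nat.beq_eq] at h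
      rw [show Nat.div (3 * q + a) 3 = q from show (3 * q + a) / 3 = q by omega,
        show Nat.mod (3 * q + a) 3 = a from show (3 * q + a) % 3 = a by omega] at h
      refine ⟨_, h.1, ?_⟩
      rw [e, dec_mm hω, ← mul_assoc, eq, ← dec_mm hω, h.2]

omit hω [CharP F 2] in
theorem sc_bits : ∀ c : Fin 3, ∀ a b : F9,
    (p0 (sc c)).testBit (9 * ix a + ix b) = (decide (a = b) && decide (c.val ≠ 1)) ∧
      (p1 (sc c)).testBit (9 * ix a + ix b) = (decide (a = b) && decide (c.val ≠ 0)) := by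
  decide +kernel

omit hω [CharP F 2] in
theorem dec_sc {c : ℕ} (hc : c < 3) :
    dec ω (sc c) = (val ω (decide (c ≠ 1)) (decide (c ≠ 0))) • (1 : Matrix F9 F9 F) := by
  funext a b
  rw [dec_apply, (sc_bits ⟨c, hc⟩ a b).1, (sc_bits ⟨c, hc⟩ a b).2]
  by_cases e : a = b
  · simp [e]
  · simp [e, val, bF]

theorem edge_spec {x j : ℕ} (hx : x < 2) (hj : j < 6156) : ∃ (j' : Fin 6156) (c : Fin 3) (m : Fin 8160),
    dec ω (sgen.getD x 0) * dec ω (get2 rel j) =
      dec ω (get2 rel j') * (dec ω (sc c) * dec ω (get2 kel m)) := by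
  have h := Valid.edge_all (2 * j + x) (by omega)
  simp only [edgeOK, Bool.and_eq_true, Nat.beq_eq] at h
  rw [show Nat.mod (2 * j + x) 2 = x from show (2 * j + x) % 2 = x by omega,
    show Nat.div (2 * j + x) 2 = j from show (2 * j + x) / 2 = j by omega] at h
  obtain ⟨h1, h2⟩ := h
  simp only [tripleOK, Bool.and_eq_true, Nat.blt_eq] at h1
  exact ⟨⟨_, h1.1.1⟩, ⟨_, h1.1.2⟩, ⟨_, h1.2⟩, by rw [← dec_mm hω, h2, triple, dec_mm hω, dec_mm hω]⟩

theorem sc_mul (c d : Fin 3) : dec ω (sc c) * dec ω (sc d) = dec ω (sc ((c.val + d.val) % 3)) := by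
  have h := forallLt_elim Valid.sc_mul_ok (k := 3 * c.val + d.val) (by omega)
  rw [Nat.beq_eq, show Nat.div (3 * c.val + d.val) 3 = c from show (3 * c.val + d.val) / 3 = c by omega,
    show Nat.mod (3 * c.val + d.val) 3 = d from show (3 * c.val + d.val) % 3 = d by omega] at h
  rw [← dec_mm hω, h]
  rfl

theorem sc_comm (c : Fin 3) (M : Matrix F9 F9 F) : M * dec ω (sc c) = dec ω (sc c) * M := by
  rw [dec_sc c.isLt, Matrix.mul_smul, Matrix.smul_mul, mul_one, one_mul]

variable [Fintype F]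

theorem mem_listed {g : GL F9 F} (hg : g ∈ X hω) : ∃ (j : Fin 6156) (c : Fin 3) (m : Fin 8160),
    (g : Matrix F9 F9 F) = dec ω (get2 rel j) * (dec ω (sc c) * dec ω (get2 kel m)) := by
  have hg' : g ∈ Submonoid.closure (Set.range (sUnit hω)) := by
    rw [← Subgroup.closure_toSubmonoid_of_finite]; exact hg
  clear hg
  induction hg' using Submonoid.closure_induction_left with
  | one =>
    refine ⟨⟨0, by norm_num⟩, ⟨0, by norm_num⟩, ⟨0, by norm_num⟩, ?_⟩
    show _ = dec ω (get2 rel 0) * (dec ω (sc 0) * dec ω (get2 kel 0))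
    rw [Units.val_one, (base hω).1.1, (base hω).1.2, show sc 0 = one from rfl, dec_one, mul_one, mul_one]
  | mul_left x hx y _ ih =>
    obtain ⟨x, rfl⟩ := hx
    obtain ⟨j, c, m, e⟩ := ih
    obtain ⟨j', c', m', e'⟩ := edge_spec hω x.isLt j.isLt
    obtain ⟨q, hq, eq⟩ := kel_mul hω m'.isLt m.isLt
    refine ⟨j', ⟨(c'.val + c.val) % 3, Nat.mod_lt _ (by norm_num)⟩, ⟨q, hq⟩, ?_⟩
    show dec ω (sgen.getD x.val 0) * (y : Matrix F9 F9 F) = _
    rw [e, ← mul_assoc, e', ← sc_mul hω, ← eq]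
    simp only [mul_assoc]
    congr 2
    rw [← mul_assoc, sc_comm hω, mul_assoc]

theorem card_le : Nat.card (X hω) ≤ 150698880 := by
  choose j c m e using fun g : X hω => mem_listed hω g.2
  refine (Nat.card_le_card_of_injective (fun g => (j g, c g, m g)) fun g h hgh => ?_).trans_eq (by simp)
  simp only [Prod.mk.injEq] at hgh
  apply Subtype.ext
  apply Units.ext
  rw [e g, e h, hgh.1, hgh.2.1, hgh.2.2]

/-! ### The lower bound -/

theorem listed_spec {L : Listed} (hok : L.ok = true) :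
    ∃ H : Subgroup (GL F9 F), H ≤ X hω ∧ Nat.card H = L.size := by
  classical
  simp only [Listed.ok, Bool.and_eq_true, Nat.blt_eq, Nat.beq_eq] at hok
  obtain ⟨⟨⟨⟨⟨hpos, h0⟩, hpar⟩, htr⟩, hsrt⟩, hgen⟩ := hok
  have hin : ∀ a < L.ngen, In hω (L.gen.getD a 0) := fun a ha => by
    have h := forallLt_elim hgen ha
    simp only [Listed.genOK, Bool.and_eq_true, Nat.beq_eq] at h
    rw [← h.2]; exact in_triple hω h.1
  let S : Set (GL F9 F) := {g | g ∈ X hω ∧ ∃ a < L.ngen, (g : Matrix F9 F9 F) = dec ω (L.gen.getD a 0)}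
  refine ⟨Subgroup.closure S, (Subgroup.closure_le _).2 fun g hg => hg.1, ?_⟩
  have hel : ∀ i < L.size, ∃ g ∈ Subgroup.closure S, (g : Matrix F9 F9 F) = dec ω (get2 L.el i) := by
    intro i
    induction i using Nat.strong_induction_on with
    | _ i ih =>
      intro hi
      have h := forallLt_elim hpar hi
      simp only [Listed.parOK, Bool.or_eq_true, Bool.and_eq_true, Nat.beq_eq, Nat.blt_eq] at h
      rcases h with rfl | ⟨⟨h1, h2⟩, h3⟩
      · exact ⟨1, one_mem _, by rw [Units.val_one, h0, dec_one]⟩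
      · obtain ⟨g, hg, eg⟩ := ih _ h1 (by omega)
        obtain ⟨y, hy, ey⟩ := hin _ h2
        exact ⟨g * y, mul_mem hg (Subgroup.subset_closure ⟨hy, _, h2, ey⟩),
          by rw [Units.val_mul, eg, ey, h3, dec_mm hω]⟩
  choose f hf ef using fun i : Fin L.size => hel i i.isLt
  have hlt : ∀ i < L.size, get2 L.el i < 2 ^ 162 := fun i hi => by
    have h := forallLt_elim hsrt hi
    simp only [Listed.srtOK, Bool.and_eq_true, Nat.blt_eq] at h
    exact h.1.1
  have hmono : ∀ i, i + 1 < L.size → get2 L.el (get2 L.srt i) < get2 L.el (get2 L.srt (i + 1)) := fun i hi => by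
    have h := forallLt_elim hsrt (k := i) (by omega)
    simp only [Listed.srtOK, Bool.and_eq_true, Bool.or_eq_true, Nat.blt_eq, Nat.beq_eq] at h
    exact h.2.resolve_left (show ¬ i + 1 = L.size by omega)
  have hsr : ∀ i : Fin L.size, get2 L.srt i < L.size := fun i => by
    have h := forallLt_elim hsrt i.isLt
    simp only [Listed.srtOK, Bool.and_eq_true, Nat.blt_eq] at h
    exact h.1.2
  let σ : Fin L.size → Fin L.size := fun i => ⟨_, hsr i⟩
  have hσ : StrictMono fun i : Fin L.size => get2 L.el (σ i) := by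
    obtain ⟨n, hn⟩ : ∃ n, L.size = n + 1 := ⟨L.size - 1, by omega⟩
    intro i j hij
    have key : ∀ d k, k + d + 1 < L.size → get2 L.el (get2 L.srt k) < get2 L.el (get2 L.srt (k + d + 1)) := by
      intro d
      induction d with
      | zero => exact hmono
      | succ d ih => intro k hk; exact (ih k (by omega)).trans (hmono (k + d + 1) hk)
    have := key (j.val - i.val - 1) i.val (by have : i.val < j.val := hij; omega)
    rwa [show i.val + (j.val - i.val - 1) + 1 = j.val by have : i.val < j.val := hij; omega] at this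
  have hσs : Function.Surjective σ := Finite.surjective_of_injective fun i j h => hσ.injective (by rw [h])
  have hinj : Function.Injective f := by
    intro i j h
    obtain ⟨i, rfl⟩ := hσs i
    obtain ⟨j, rfl⟩ := hσs j
    have := dec_inj hω (hlt _ (σ i).isLt) (hlt _ (σ j).isLt) (by rw [← ef, ← ef, h])
    rw [hσ.injective this]
  have hsur : ∀ g ∈ Subgroup.closure S, ∃ i, f i = g := by
    intro g hg
    have hg' : g ∈ Submonoid.closure S := by rw [← Subgroup.closure_toSubmonoid_of_finite]; exact hg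
    clear hg
    induction hg' using Submonoid.closure_induction_right with
    | one => exact ⟨⟨0, hpos⟩, Units.ext (by rw [ef, Units.val_one]; simp only [h0]; exact dec_one)⟩
    | mul_right y _ x hx ih =>
      obtain ⟨i, rfl⟩ := ih
      obtain ⟨-, a, ha, ea⟩ := hx
      have h := forallLt_elim htr (k := L.ngen * i.val + a) (by
        have : L.ngen * (i.val + 1) ≤ L.ngen * L.size := Nat.mul_le_mul_left _ i.isLt
        rw [Nat.mul_comm L.size]; linarith)
      simp only [Listed.trOK, Bool.and_eq_true, Nat.blt_eq, Nat.beq_eq] at h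
      rw [show Nat.div (L.ngen * i.val + a) L.ngen = i.val from by
          show (L.ngen * i.val + a) / L.ngen = i.val
          rw [Nat.mul_add_div (by omega), Nat.div_eq_of_lt ha, add_zero],
        show Nat.mod (L.ngen * i.val + a) L.ngen = a from by
          show (L.ngen * i.val + a) % L.ngen = a
          rw [Nat.mul_add_mod, Nat.mod_eq_of_lt ha]] at h
      refine ⟨⟨_, h.1⟩, Units.ext ?_⟩
      have e1 := ef ⟨_, h.1⟩
      rw [e1, Units.val_mul, ea, ef i, ← dec_mm hω]
      exact (congrArg (dec ω) h.2).symm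
  have hb : Function.Bijective fun i => (⟨f i, hf i⟩ : Subgroup.closure S) :=
    ⟨fun i j h => hinj (congrArg Subtype.val h), fun ⟨g, hg⟩ => by
      obtain ⟨i, hi⟩ := hsur g hg; exact ⟨i, Subtype.ext hi⟩⟩
  rw [← Nat.card_eq_of_bijective _ hb, Nat.card_fin]

theorem prime_dvd {w : List ℕ} {p : ℕ} (hp : p.Prime) (hw : w.all (Nat.blt · 2) = true)
    (h1 : Nat.beq (mpow (wcode w) p) one = true) (h2 : Nat.beq (wcode w) one = false) (hlt : wcode w < 2 ^ 162) :
    p ∣ Nat.card (X hω) := by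
  haveI := Fact.mk hp
  obtain ⟨g, hg, eg⟩ := in_word hω hw
  have e1 : (⟨g, hg⟩ : X hω) ^ p = 1 := Subtype.ext (Units.ext (by
    show ((g ^ p : GL F9 F) : Matrix F9 F9 F) = 1
    rw [Units.val_pow_eq_pow_val, eg, ← dec_mpow hω, Nat.eq_of_beq_eq_true h1, dec_one]))
  have e2 : (⟨g, hg⟩ : X hω) ≠ 1 := fun e => by
    have : (g : Matrix F9 F9 F) = 1 := by
      rw [show g = 1 from congrArg Subtype.val e, Units.val_one]
    rw [eg, ← dec_one (ω := ω)] at this
    have := dec_inj hω hlt (by decide +kernel) this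
    rw [this] at h2
    simp at h2
  rw [← orderOf_eq_prime e1 e2]
  exact orderOf_dvd_natCard _

theorem card_X : Nat.card (X hω) = 150698880 := by
  obtain ⟨H2, l2, c2⟩ := listed_spec hω Valid.two_ok
  obtain ⟨H3, l3, c3⟩ := listed_spec hω Valid.three_ok
  have d2 : 128 ∣ Nat.card (X hω) := (show Nat.card H2 = 128 from c2) ▸ Subgroup.card_dvd_of_le l2
  have d3 : 729 ∣ Nat.card (X hω) := (show Nat.card H3 = 729 from c3) ▸ Subgroup.card_dvd_of_le l3
  have h := Valid.words_ok
  simp only [Bool.and_eq_true, Bool.not_eq_true'] at h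
  obtain ⟨⟨⟨⟨⟨⟨⟨⟨⟨⟨⟨⟨a19, a17⟩, a5⟩, b19⟩, b17⟩, b5⟩, n19⟩, n17⟩, n5⟩, -⟩, -⟩, -⟩, -⟩ := h
  have d19 := prime_dvd hω (by norm_num) a19 b19 n19 (by decide +kernel)
  have d17 := prime_dvd hω (by norm_num) a17 b17 n17 (by decide +kernel)
  have d5 := prime_dvd hω (by norm_num) a5 b5 n5 (by decide +kernel)
  refine le_antisymm (card_le hω) (Nat.le_of_dvd Nat.card_pos ?_)
  have e1 := Nat.Coprime.mul_dvd_of_dvd_of_dvd (by norm_num) d2 d3
  have e2 := Nat.Coprime.mul_dvd_of_dvd_of_dvd (by norm_num) e1 d19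
  have e3 := Nat.Coprime.mul_dvd_of_dvd_of_dvd (by norm_num) e2 d17
  exact Nat.Coprime.mul_dvd_of_dvd_of_dvd (by norm_num) e3 d5

theorem card_threeJ3 : Nat.card (threeJ3 F ω) = 150698880 := by
  rw [threeJ3_eq hω]; exact card_X hω

end CfsgLib.Sporadic.J3
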