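import Cfsg.Agent.Lib.Sporadic.J3Check
import Cfsg.Agent.Lib.Sporadic.J3Lines.AxisVec
import Cfsg.Agent.Lib.Sporadic.J3Lines.AxisEdge
import Cfsg.Agent.Lib.Sporadic.J3Lines.AxisInfo
import Cfsg.Agent.Lib.Sporadic.J3Lines.IsoVec
import Cfsg.Agent.Lib.Sporadic.J3Lines.IsoEdge
import Cfsg.Agent.Lib.Sporadic.J3Lines.IsoInfo

/-!
# Certificates for orbits of the triple cover of J3 on lines

Each line is given by the vector with leading entry one, coded as a matrix with one column.
-/

set_option autoImplicit false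

namespace CfsgLib.Sporadic.J3

open Data

/-- An orbit: vectors, images under the two generators, and per vector a parent, pivot and sorting index. -/
structure Orb where
  size : ℕ
  vec : T4
  edge : T4
  info : T4

noncomputable def Orb.v (O : Orb) (i : ℕ) : ℕ := O.vec.field 162 i

noncomputable def Orb.par (O : Orb) (i : ℕ) : ℕ := Nat.land (O.info.field 40 i) 1048575

noncomputable def Orb.piv (O : Orb) (i : ℕ) : ℕ := Nat.land (Nat.shiftRight (O.info.field 40 i) 20) 15

noncomputable def Orb.srt (O : Orb) (i : ℕ) : ℕ := Nat.shiftRight (O.info.field 40 i) 24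

noncomputable def Orb.target (O : Orb) (n : ℕ) : ℕ := Nat.shiftRight (O.edge.field 18 n) 2

noncomputable def Orb.scal (O : Orb) (n : ℕ) : ℕ := Nat.land (O.edge.field 18 n) 3

noncomputable def Orb.edgeOK (O : Orb) (n : ℕ) : Bool :=
  Nat.blt (O.target n) O.size && Nat.blt (O.scal n) 3 &&
    Nat.beq (mm (sgen.getD (Nat.mod n 2) 0) (O.v (Nat.div n 2))) (mm (sc (O.scal n)) (O.v (O.target n)))

noncomputable def Orb.infoOK (O : Orb) (i : ℕ) : Bool :=
  (Nat.beq i 0 || (Nat.blt (Nat.div (O.par i) 2) i && Nat.beq (O.target (O.par i)) i)) &&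
  Nat.beq (Nat.land (O.v i) (Nat.lor colMask (Nat.shiftLeft colMask 81))) (O.v i) &&
  (Nat.blt (O.piv i) 9 && (p0 (O.v i)).testBit (Nat.mul 9 (O.piv i)) && ! (p1 (O.v i)).testBit (Nat.mul 9 (O.piv i)) &&
    forallLt (O.piv i) (fun k => ! (p0 (O.v i)).testBit (Nat.mul 9 k) && ! (p1 (O.v i)).testBit (Nat.mul 9 k))) &&
  Nat.blt (O.srt i) O.size && (Nat.beq (Nat.add i 1) O.size || Nat.blt (O.v (O.srt i)) (O.v (O.srt (Nat.add i 1))))

noncomputable def axis : Orb := ⟨23256, axisVec, axisEdge, axisInfo⟩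

noncomputable def iso : Orb := ⟨43605, isoVec, isoEdge, isoInfo⟩

end CfsgLib.Sporadic.J3
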