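import Mathlib.Logic.Basic
import Mathlib.Data.Nat.Notation

/-!
# Quaternary trees for kernel lookup
-/

set_option autoImplicit false

namespace CfsgLib.Sporadic.J3

/-- A tree of packed numbers. -/
inductive T4
  | leaf (v : ℕ)
  | node (a b c d : T4)

/-- The leaf with a given index, read from the low pair of bits. -/
noncomputable def T4.get (t : T4) : ℕ → ℕ :=
  T4.rec (motive := fun _ => ℕ → ℕ) (fun v _ => v)
    (fun _ _ _ _ a b c d i =>
      cond (Nat.beq (Nat.land i 2) 0)
        (cond (Nat.beq (Nat.land i 1) 0) (a (Nat.shiftRight i 2)) (b (Nat.shiftRight i 2)))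
        (cond (Nat.beq (Nat.land i 1) 0) (c (Nat.shiftRight i 2)) (d (Nat.shiftRight i 2)))) t

/-- The `i`-th field of width `w`, 64 fields to a leaf. -/
noncomputable def T4.field (t : T4) (w i : ℕ) : ℕ :=
  Nat.land (Nat.shiftRight (t.get (Nat.shiftRight i 6)) (Nat.mul w (Nat.land i 63))) (Nat.sub (Nat.shiftLeft 1 w) 1)

end CfsgLib.Sporadic.J3
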