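import Cfsg.Agent.Lib.Sporadic.J3Unitary
import Cfsg.Agent.Lib.Sporadic.J3Lines.AxisEdgeOK
import Cfsg.Agent.Lib.Sporadic.J3Lines.AxisInfoOK
import Cfsg.Agent.Lib.Sporadic.J3Lines.IsoEdgeOK
import Cfsg.Agent.Lib.Sporadic.J3Lines.IsoInfoOK

/-!
# Orbits of the triple cover of J3 on lines

The listed orbit of the axis has 23256 lines; the listed isotropic orbit has as many lines as there
are isotropic lines altogether.
-/

set_option autoImplicit false

namespace CfsgLib.Sporadic.J3

open Cfsg Cfsg.Spor Data Matrix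
open scoped MatrixGroups

theorem orb_ok_axis : (∀ n < 2 * axis.size, axis.edgeOK n = true) ∧ ∀ i < axis.size, axis.infoOK i = true :=
  ⟨fun n hn => Valid.axisEdge_all n (by have : axis.size = 23256 := rfl; omega),
    fun i hi => Valid.axisInfo_all i (by have : axis.size = 23256 := rfl; omega)⟩

theorem orb_ok_iso : (∀ n < 2 * iso.size, iso.edgeOK n = true) ∧ ∀ i < iso.size, iso.infoOK i = true :=
  ⟨fun n hn => Valid.isoEdge_all n (by have : iso.size = 43605 := rfl; omega),
    fun i hi => Valid.isoInfo_all i (by have : iso.size = 43605 := rfl; omega)⟩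

variable {F : Type*} [Field F]

/-- The vector of a code. -/
noncomputable def vecOf (ω : F) (O : Orb) (i : ℕ) : F9 → F := dec ω (O.v i) *ᵥ e₀

variable [CharP F 2] {ω : F} (hω : ω ^ 2 + ω + 1 = 0) {O : Orb}
  (hO : (∀ n < 2 * O.size, O.edgeOK n = true) ∧ ∀ i < O.size, O.infoOK i = true)
include hω hO

omit hO in
theorem vec_apply (i : ℕ) (a : F9) :
    vecOf ω O i a = val ω ((p0 (O.v i)).testBit (9 * ix a)) ((p1 (O.v i)).testBit (9 * ix a)) := by
  rw [vecOf, mulVec_e₀, dec_apply, ix_zero, add_zero]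

theorem piv_spec {i : ℕ} (hi : i < O.size) : O.piv i < 9 ∧ vecOf ω O i (ofIx (O.piv i)) = 1 ∧
    ∀ k < O.piv i, vecOf ω O i (ofIx k) = 0 := by
  have h := hO.2 i hi
  simp only [Orb.infoOK, Bool.and_eq_true, Nat.blt_eq, Bool.not_eq_true'] at h
  obtain ⟨⟨⟨⟨-, -⟩, ⟨⟨h1, h2⟩, h3⟩, h4⟩, -⟩, -⟩ := h
  refine ⟨h1, ?_, fun k hk => ?_⟩
  · rw [vec_apply hω, ix_ofIx _ h1]
    rw [show Nat.mul 9 (O.piv i) = 9 * O.piv i from rfl] at h2 h3
    rw [h2, h3]; simp [val, bF]
  · have := forallLt_elim h4 hk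
    simp only [Bool.and_eq_true, Bool.not_eq_true', show Nat.mul 9 k = 9 * k from rfl] at this
    rw [vec_apply hω, ix_ofIx _ (by omega), this.1, this.2]; simp [val, bF]

theorem vec_ne_zero {i : ℕ} (hi : i < O.size) : vecOf ω O i ≠ 0 := fun h => by
  have := (piv_spec hω hO hi).2.1
  rw [h] at this
  simp at this

theorem bits_eq {M N : ℕ} (hM : Nat.land M (Nat.lor colMask (Nat.shiftLeft colMask 81)) = M)
    (hN : Nat.land N (Nat.lor colMask (Nat.shiftLeft colMask 81)) = N)
    (h : ∀ a, a < 9 → (p0 M).testBit (9 * a) = (p0 N).testBit (9 * a) ∧ (p1 M).testBit (9 * a) = (p1 N).testBit (9 * a)) :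
    M = N := by
  refine Nat.eq_of_testBit_eq fun m => ?_
  have hc : colMask = digits (fun _ => true) 9 := by decide +kernel
  have hp : planeMask = 2 ^ 81 - 1 := by norm_num [planeMask]
  rw [← hM, ← hN]
  show (M &&& (colMask ||| colMask <<< 81)).testBit m = (N &&& (colMask ||| colMask <<< 81)).testBit m
  rw [Nat.testBit_and, Nat.testBit_and]
  cases hb : (colMask ||| colMask <<< 81).testBit m
  · simp
  · rw [Nat.testBit_or, Nat.testBit_shiftLeft, hc, testBit_digits, testBit_digits] at hb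
    simp only [Bool.or_eq_true, Bool.and_eq_true, decide_eq_true_eq, Bool.and_true] at hb
    simp only [Bool.and_true]
    rcases hb with ⟨h1, h2⟩ | ⟨h0, h1, h2⟩
    · have e := (h (m / 9) h1).1
      simp only [p0, show ∀ x y : ℕ, Nat.land x y = x &&& y from fun _ _ => rfl, Nat.testBit_and, hp,
        Nat.testBit_two_pow_sub_one] at e
      rw [show 9 * (m / 9) = m by omega] at e
      simpa [show m < 81 by omega] using e
    · have e := (h ((m - 81) / 9) h1).2
      simp only [p1, show ∀ x y : ℕ, Nat.shiftRight x y = x >>> y from fun _ _ => rfl, Nat.testBit_shiftRight] at e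
      rwa [show 81 + 9 * ((m - 81) / 9) = m by omega] at e

theorem vec_inj {i j : ℕ} (hi : i < O.size) (hj : j < O.size) {c : F} (h : vecOf ω O i = c • vecOf ω O j) :
    O.v i = O.v j ∧ c = 1 := by
  obtain ⟨a1, a2, a3⟩ := piv_spec hω hO hi
  obtain ⟨b1, b2, b3⟩ := piv_spec hω hO hj
  have hc0 : c ≠ 0 := fun e => vec_ne_zero hω hO hi (by rw [h, e, zero_smul])
  have hp : O.piv i = O.piv j := by
    rcases lt_trichotomy (O.piv i) (O.piv j) with l | l | l
    · have := congrFun h (ofIx (O.piv i))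
      rw [a2, Pi.smul_apply, b3 _ l, smul_zero] at this
      exact absurd this one_ne_zero
    · exact l
    · have := congrFun h (ofIx (O.piv j))
      rw [a3 _ l, Pi.smul_apply, b2, smul_eq_mul, mul_one] at this
      exact absurd this.symm hc0
  have hc : c = 1 := by
    have := congrFun h (ofIx (O.piv i))
    rw [a2, Pi.smul_apply, hp, b2, smul_eq_mul, mul_one] at this
    exact this.symm
  refine ⟨?_, hc⟩
  rw [hc, one_smul] at h
  have hmask : ∀ {k}, k < O.size → Nat.land (O.v k) (Nat.lor colMask (Nat.shiftLeft colMask 81)) = O.v k := fun {k} hk => by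
    have := hO.2 k hk
    simp only [Orb.infoOK, Bool.and_eq_true, Nat.beq_eq] at this
    exact this.1.1.1.2
  refine bits_eq hω hO (hmask hi) (hmask hj) fun a ha => ?_
  have := congrFun h (ofIx a)
  rw [vec_apply hω, vec_apply hω, ix_ofIx a ha] at this
  exact val_inj hω this

theorem line_inj : Function.Injective fun i : Fin O.size => Submodule.span F {vecOf ω O i} := by
  classical
  have hsr : ∀ i : Fin O.size, O.srt i < O.size := fun i => by
    have := hO.2 i i.isLt
    simp only [Orb.infoOK, Bool.and_eq_true, Nat.blt_eq] at this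
    exact this.1.2
  have hstep : ∀ i, i + 1 < O.size → O.v (O.srt i) < O.v (O.srt (i + 1)) := fun i hi => by
    have := hO.2 i (by omega)
    simp only [Orb.infoOK, Bool.and_eq_true, Bool.or_eq_true, Nat.blt_eq, Nat.beq_eq] at this
    exact this.2.resolve_left (show ¬ i + 1 = O.size by omega)
  let σ : Fin O.size → Fin O.size := fun i => ⟨_, hsr i⟩
  have hσ : StrictMono fun i : Fin O.size => O.v (σ i) := by
    intro i j hij
    have key : ∀ d k, k + d + 1 < O.size → O.v (O.srt k) < O.v (O.srt (k + d + 1)) := by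
      intro d
      induction d with
      | zero => exact hstep
      | succ d ih => intro k hk; exact (ih k (by omega)).trans (hstep (k + d + 1) hk)
    have hij' : i.val < j.val := hij
    have := key (j.val - i.val - 1) i.val (by omega)
    rwa [show i.val + (j.val - i.val - 1) + 1 = j.val by omega] at this
  have hσs : Function.Surjective σ := Finite.surjective_of_injective fun i j h => hσ.injective (by rw [h])
  intro i j h
  obtain ⟨i', rfl⟩ := hσs i
  obtain ⟨j', rfl⟩ := hσs j
  have hmem : vecOf ω O (σ i') ∈ Submodule.span F {vecOf ω O (σ j')} := by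
    rw [← show Submodule.span F {vecOf ω O (σ i')} = Submodule.span F {vecOf ω O (σ j')} from h]
    exact Submodule.mem_span_singleton_self _
  obtain ⟨c, hc⟩ := Submodule.mem_span_singleton.1 hmem
  rw [hσ.injective (vec_inj hω hO (σ i').isLt (σ j').isLt hc.symm).1]

theorem step_spec {x i : ℕ} (hx : x < 2) (hi : i < O.size) : O.target (2 * i + x) < O.size ∧
    ∃ c : F, c ≠ 0 ∧ dec ω (sgen.getD x 0) *ᵥ vecOf ω O i = c • vecOf ω O (O.target (2 * i + x)) := by
  have h := hO.1 (2 * i + x) (by omega)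
  simp only [Orb.edgeOK, Bool.and_eq_true, Nat.blt_eq, Nat.beq_eq] at h
  rw [show Nat.mod (2 * i + x) 2 = x from show (2 * i + x) % 2 = x by omega,
    show Nat.div (2 * i + x) 2 = i from show (2 * i + x) / 2 = i by omega] at h
  obtain ⟨⟨h1, h2⟩, h3⟩ := h
  refine ⟨h1, val ω (decide (O.scal (2 * i + x) ≠ 1)) (decide (O.scal (2 * i + x) ≠ 0)), fun e => ?_, ?_⟩
  · have := val_inj hω (e.trans (show (0 : F) = val ω false false by simp [val, bF]))
    simp only [decide_eq_false_iff_not, not_not] at this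
    omega
  · rw [vecOf, mulVec_mulVec, ← dec_mm hω, h3, dec_mm hω, dec_sc h2, Matrix.smul_mul, one_mul,
      Matrix.smul_mulVec]
    rfl

variable [Fintype F]

theorem reached {i : ℕ} (hi : i < O.size) : ∃ g ∈ threeJ3 F ω, ∃ c : F, c ≠ 0 ∧
    (g : Matrix F9 F9 F) *ᵥ vecOf ω O 0 = c • vecOf ω O i := by
  induction i using Nat.strong_induction_on with
  | _ i ih =>
    rcases eq_or_ne i 0 with rfl | h0
    · exact ⟨1, one_mem _, 1, one_ne_zero, by rw [Units.val_one, one_mulVec, one_smul]⟩
    · have h := hO.2 i hi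
      simp only [Orb.infoOK, Bool.and_eq_true, Bool.or_eq_true, Nat.blt_eq, Nat.beq_eq] at h
      rcases h.1.1.1.1 with h' | ⟨h1, h2⟩
      · exact absurd h' h0
      · have hp : O.par i / 2 < i := h1
        obtain ⟨g, hg, c, hc, e⟩ := ih _ hp (by omega)
        have hx : O.par i % 2 < 2 := Nat.mod_lt _ (by norm_num)
        obtain ⟨-, d, hd, e'⟩ := step_spec hω hO hx (show O.par i / 2 < O.size by omega)
        rw [Nat.div_add_mod, h2] at e'
        obtain ⟨s, hs, es⟩ := in_sgen hω hx
        refine ⟨s * g, mul_mem (by rw [threeJ3_eq hω]; exact hs) hg, c * d, mul_ne_zero hc hd, ?_⟩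
        rw [Units.val_mul, ← mulVec_mulVec, e, mulVec_smul, es, e', smul_smul]

theorem stays {g : GL F9 F} (hg : g ∈ threeJ3 F ω) (hpos : 0 < O.size) : ∃ i < O.size, ∃ c : F, c ≠ 0 ∧
    (g : Matrix F9 F9 F) *ᵥ vecOf ω O 0 = c • vecOf ω O i := by
  have hg' : g ∈ Submonoid.closure (Set.range (sUnit hω)) := by
    rw [← Subgroup.closure_toSubmonoid_of_finite]
    rw [threeJ3_eq hω] at hg
    exact hg
  clear hg
  induction hg' using Submonoid.closure_induction_left with
  | one => exact ⟨0, hpos, 1, one_ne_zero, by rw [Units.val_one, one_mulVec, one_smul]⟩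
  | mul_left x hx y _ ih =>
    obtain ⟨x, rfl⟩ := hx
    obtain ⟨i, hi, c, hc, e⟩ := ih
    obtain ⟨ht, d, hd, e'⟩ := step_spec hω hO x.isLt hi
    refine ⟨_, ht, c * d, mul_ne_zero hc hd, ?_⟩
    rw [Units.val_mul, ← mulVec_mulVec, e, mulVec_smul]
    show c • (dec ω (sgen.getD x.val 0) *ᵥ vecOf ω O i) = _
    rw [e', smul_smul]

theorem orbit_ncard (hpos : 0 < O.size) :
    {L : Submodule F (F9 → F) | ∃ g ∈ threeJ3 F ω,
      L = Submodule.span F {(g : Matrix F9 F9 F) *ᵥ vecOf ω O 0}}.ncard = O.size := by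
  have e : {L : Submodule F (F9 → F) | ∃ g ∈ threeJ3 F ω,
      L = Submodule.span F {(g : Matrix F9 F9 F) *ᵥ vecOf ω O 0}} =
      Set.range fun i : Fin O.size => Submodule.span F {vecOf ω O i} := by
    ext L
    constructor
    · rintro ⟨g, hg, rfl⟩
      obtain ⟨i, hi, c, hc, e⟩ := stays hω hO hg hpos
      exact ⟨⟨i, hi⟩, by rw [e, Submodule.span_singleton_smul_eq (IsUnit.mk0 c hc)]⟩
    · rintro ⟨i, rfl⟩
      obtain ⟨g, hg, c, hc, e⟩ := reached hω hO i.isLt
      exact ⟨g, hg, by rw [e, Submodule.span_singleton_smul_eq (IsUnit.mk0 c hc)]⟩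
  rw [e, Set.ncard_range_of_injective (line_inj hω hO), Nat.card_fin]

end CfsgLib.Sporadic.J3

namespace CfsgLib.Sporadic.J3

open Cfsg Cfsg.Spor Data Matrix Finset
open scoped MatrixGroups

variable {F : Type*} [Field F] [Fintype F] {ω : F}

theorem cube_eq (hF : Fintype.card F = 4) (t : F) [Decidable (t = 0)] : t ^ 3 = if t = 0 then 0 else 1 := by
  split_ifs with h
  · rw [h]; simp
  · have := FiniteField.pow_card_sub_one_eq_one t h
    rwa [hF] at this

open Classical in
theorem card_isotropic (hF : Fintype.card F = 4) :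
    (univ.filter fun v : F9 → F => ∑ z, (v z) ^ 3 = 0).card = 130816 := by
  haveI := charTwo hF
  let χ : F → ℤ := fun t => if t = 0 then 1 else -1
  have hχ : ∀ v : F9 → F, ∏ z, χ (v z) = if ∑ z, (v z) ^ 3 = 0 then 1 else -1 := by
    intro v
    generalize (univ : Finset F9) = s
    induction s using Finset.induction with
    | empty => simp
    | insert a s ha ih =>
      rw [prod_insert ha, sum_insert ha, ih]
      have hb : ∀ t : F, t ^ 3 = 0 ∨ t ^ 3 = 1 := fun t => by rw [cube_eq hF]; split_ifs <;> simp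
      have hs : ∑ z ∈ s, (v z) ^ 3 = 0 ∨ ∑ z ∈ s, (v z) ^ 3 = 1 := by
        generalize s = u
        induction u using Finset.induction with
        | empty => simp
        | insert b u hb' ihu =>
          rw [sum_insert hb']
          rcases hb (v b) with e | e <;> rcases ihu with e' | e' <;> simp [e, e', CharTwo.add_self_eq_zero]
      by_cases h : v a = 0
      · simp [χ, h]
      · have hva : v a ^ 3 = 1 := by rw [cube_eq hF, if_neg h]
        rcases hs with e | e <;> simp [χ, h, hva, e, CharTwo.add_self_eq_zero]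
  have h1 : ∑ v : F9 → F, ∏ z, χ (v z) = -512 := by
    rw [← Fintype.piFinset_univ, ← Finset.prod_univ_sum]
    have : ∑ t : F, χ t = -2 := by
      rw [← Finset.add_sum_erase _ _ (mem_univ (0 : F)), Finset.sum_congr rfl
        (fun t ht => if_neg (Finset.ne_of_mem_erase ht))]
      rw [Finset.sum_const, card_erase_of_mem (mem_univ _), card_univ, hF]
      simp [χ]
    rw [Finset.prod_const, this, card_univ]
    rfl
  simp only [hχ] at h1
  rw [Finset.sum_ite, sum_const, sum_const] at h1
  have h2 := Finset.card_filter_add_card_filter_not (s := (univ : Finset (F9 → F)))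
    (fun v : F9 → F => ∑ z, (v z) ^ 3 = 0)
  rw [card_univ, Fintype.card_fun, hF, show Fintype.card F9 = 9 from rfl] at h2
  simp only [nsmul_eq_mul, mul_one, mul_neg] at h1
  push_cast at h1
  omega

variable [CharP F 2] (hω : ω ^ 2 + ω + 1 = 0)
include hω

theorem iso_of_mem {g : GL F9 F} (hg : g ∈ threeJ3 F ω) (v : F9 → F) :
    ∑ z, ((g : Matrix F9 F9 F) *ᵥ v) z ^ 3 = ∑ z, v z ^ 3 := by
  have := threeJ3_le_preserving hω hg v v
  simp only [herm9, Units.coeHom_apply] at this
  simpa only [← pow_succ'] using this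

theorem axis_vec : vecOf ω axis 0 = Pi.single (0 : F9) (1 : F) := by
  funext a
  have h : ∀ a : F9, (p0 (axis.v 0)).testBit (9 * ix a) = decide (a = 0) ∧ (p1 (axis.v 0)).testBit (9 * ix a) = false := by
    decide +kernel
  rw [vec_apply hω, (h a).1, (h a).2]
  by_cases e : a = 0 <;> simp [val, bF, e]

theorem isotropic_transitive (hF : Fintype.card F = 4) (v w : F9 → F) (hv : v ≠ 0) (hw : w ≠ 0)
    (hv' : ∑ z, (v z) ^ 3 = 0) (hw' : ∑ z, (w z) ^ 3 = 0) :
    ∃ g ∈ threeJ3 F ω, ∃ c : F, c ≠ 0 ∧ (g : Matrix F9 F9 F) *ᵥ v = c • w := by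
  classical
  have hpos : 0 < iso.size := Nat.succ_pos 43604
  let S : Finset (F9 → F) := univ.filter fun u => u ≠ 0 ∧ ∑ z, (u z) ^ 3 = 0
  have h0 : ∑ z, (vecOf ω iso 0 z) ^ 3 = 0 := by
    have hb : (p0 (iso.v 0)).testBit 0 = true ∨ True := Or.inr trivial
    have e : ∀ a : F9, vecOf ω iso 0 a ^ 3 =
        if ((p0 (iso.v 0)).testBit (9 * ix a) || (p1 (iso.v 0)).testBit (9 * ix a)) then 1 else 0 := by
      intro a
      rw [cube_eq hF, vec_apply hω]
      cases h1 : (p0 (iso.v 0)).testBit (9 * ix a) <;> cases h2 : (p1 (iso.v 0)).testBit (9 * ix a)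
      · simp [val, bF]
      all_goals
        rw [if_neg fun e => ?_]
        · simp
        · have := val_inj hω (e.trans (show (0 : F) = val ω false false by simp [val, bF]))
          simp at this
    simp only [e, Finset.sum_boole]
    have : (univ.filter fun a : F9 =>
        ((p0 (iso.v 0)).testBit (9 * ix a) || (p1 (iso.v 0)).testBit (9 * ix a)) = true).card % 2 = 0 := by
      decide +kernel
    obtain ⟨k, hk⟩ := Nat.dvd_of_mod_eq_zero this
    rw [hk, Nat.cast_mul, Nat.cast_two, CharTwo.two_eq_zero, zero_mul]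
  let f : Fˣ × Fin iso.size → F9 → F := fun p => (p.1 : F) • vecOf ω iso p.2
  have hmaps : ∀ p, f p ∈ S := fun p => by
    obtain ⟨g, hg, c, hc, e⟩ := reached hω orb_ok_iso p.2.isLt
    refine mem_filter.2 ⟨mem_univ _, smul_ne_zero p.1.ne_zero (vec_ne_zero hω orb_ok_iso p.2.isLt), ?_⟩
    have h1 := iso_of_mem hω hg (vecOf ω iso 0)
    rw [h0, e] at h1
    simp only [f, Pi.smul_apply, smul_eq_mul, mul_pow, ← mul_sum] at h1 ⊢
    rw [(mul_eq_zero.1 h1).resolve_left (pow_ne_zero _ hc), mul_zero]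
  have hinj : Function.Injective f := by
    rintro ⟨a, i⟩ ⟨b, j⟩ h
    have hab : vecOf ω iso i = ((a : F)⁻¹ * b) • vecOf ω iso j := by
      rw [mul_smul, ← show (a : F) • vecOf ω iso i = (b : F) • vecOf ω iso j from h, smul_smul,
        inv_mul_cancel₀ a.ne_zero, one_smul]
    have hij : i = j := line_inj hω orb_ok_iso (by
      show Submodule.span F {vecOf ω iso i} = Submodule.span F {vecOf ω iso j}
      rw [hab, Submodule.span_singleton_smul_eq (IsUnit.mk0 _ (mul_ne_zero (inv_ne_zero a.ne_zero) b.ne_zero))])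
    subst hij
    have := (vec_inj hω orb_ok_iso i.isLt i.isLt hab).2
    exact Prod.ext (Units.ext ((inv_mul_eq_one₀ a.ne_zero).1 this)) rfl
  have hS : S.card ≤ (univ.image f).card := by
    rw [card_image_of_injective _ hinj, card_univ, Fintype.card_prod, Fintype.card_units, Fintype.card_fin, hF]
    have hS1 : S = (univ.filter fun u : F9 → F => ∑ z, (u z) ^ 3 = 0).erase 0 := by
      ext u; simp [S, and_comm]
    rw [hS1, card_erase_of_mem (mem_filter.2 ⟨mem_univ _, by simp⟩), card_isotropic hF]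
    rfl
  have hsur : univ.image f = S := eq_of_subset_of_card_le (fun u hu => by
    obtain ⟨p, -, rfl⟩ := mem_image.1 hu; exact hmaps p) hS
  have key : ∀ u : F9 → F, u ≠ 0 → ∑ z, (u z) ^ 3 = 0 → ∃ g ∈ threeJ3 F ω, ∃ c : F, c ≠ 0 ∧
      (g : Matrix F9 F9 F) *ᵥ vecOf ω iso 0 = c • u := by
    intro u h1 h2
    have : u ∈ univ.image f := hsur ▸ mem_filter.2 ⟨mem_univ _, h1, h2⟩
    obtain ⟨p, -, rfl⟩ := mem_image.1 this
    obtain ⟨g, hg, c, hc, e⟩ := reached hω orb_ok_iso p.2.isLt
    exact ⟨g, hg, c * (p.1 : F)⁻¹, mul_ne_zero hc (inv_ne_zero p.1.ne_zero),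
      by rw [e, smul_smul, mul_assoc, inv_mul_cancel₀ p.1.ne_zero, mul_one]⟩
  obtain ⟨g, hg, c, hc, e⟩ := key v hv hv'
  obtain ⟨h, hh, d, hd, e'⟩ := key w hw hw'
  refine ⟨h * g⁻¹, mul_mem hh (inv_mem hg), c⁻¹ * d, mul_ne_zero (inv_ne_zero hc) hd, ?_⟩
  have ev : v = c⁻¹ • ((g : Matrix F9 F9 F) *ᵥ vecOf ω iso 0) := by
    rw [e, smul_smul, inv_mul_cancel₀ hc, one_smul]
  rw [ev, mulVec_smul, mulVec_mulVec, ← Units.val_mul, inv_mul_cancel_right, e', smul_smul]

end CfsgLib.Sporadic.J3
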