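import Cfsg.Agent.Lib.Sporadic.J3OutChecks.Cen
import Cfsg.Agent.Lib.Sporadic.J3OutChecks.Surv
import Cfsg.Agent.Lib.Sporadic.J3OutChecks.InvEdgeA
import Cfsg.Agent.Lib.Sporadic.J3OutChecks.InvEdgeB
import Cfsg.Agent.Lib.Sporadic.J3OutChecks.KCenA
import Cfsg.Agent.Lib.Sporadic.J3OutChecks.KCenB

/-!
# Checks for the outer automorphism group of the third Janko group
-/

set_option autoImplicit false
set_option maxRecDepth 20000

namespace CfsgLib.Sporadic.J3

open MultData OutData Data

theorem invEdge_all : forallLt 6156 invEdgeOK = true :=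
  of_four_blocks (by decide) invEdge_block0 invEdge_block1 invEdge_block2 invEdge_block3

theorem kCen_all : forallLt 8160 kCenOK = true :=
  of_four_blocks (by decide) kCen_block0 kCen_block1 kCen_block2 kCen_block3

theorem lengths : fixed.length = 76 ∧ kCen.length = 32 ∧ kInvo < 8160 := by decide +kernel

theorem pair_checks : chkEq [shiftB, baseA] [elB, shiftB] = true ∧ chkEq (subW [[elC], [elE]] bWord) [elB] = true ∧
    chkEq [elB, elD] [elD, elB] = true ∧ chkEq [shiftB, fromB] [] = true ∧
    chkEq [elC, baseA] [baseA, elC] = true ∧ chkEq [elE, baseA] [baseA, elE] = true ∧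
    chkEq (repW 5 [elC]) [] = true ∧ chkEq [elC] [] = false ∧
    chkEq [toInvo, invK] [baseA, toInvo] = true ∧ chkEq [baseA, baseA] [] = true ∧
    chkEq [baseA] [] = false ∧ chkEq [elO, baseA] [baseA, elO] = true ∧
    chkEq (repW 3 [elO]) [] = true ∧ chkEq [elO] [] = false ∧
    (∀ i : Fin 7, chkEq [twoGenAt i, baseA] [baseA, twoGenAt i] = true) ∧
    condsOK [[elC], [elE]] eConds = true ∧ condsOK [[elC], [elE], [elD]] dConds = true ∧
    chkEq (repW 3 [elC, elC, elE]) [] = false := by
  decide +kernel

/-- The code of the image of a code under the outer automorphism. -/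
noncomputable def outImg (M : ℕ) : ℕ :=
  mm (mm matP (Nat.lor (Nat.xor (p0 M) (p1 M)) (Nat.shiftLeft (p1 M) 81))) matPInv

theorem gen_checks : mm matP matPInv = one ∧ mm matPInv matP = one ∧
    tripleOK imgGen0 = true ∧ outImg (sgen.getD 0 0) = triple imgGen0 ∧
    tripleOK imgGen1 = true ∧ outImg (sgen.getD 1 0) = triple imgGen1 ∧
    eqv (outImg (triple baseA)) (triple baseA) = true ∧
    eqv (outImg (triple elC)) (tprod [elC, elC]) = true ∧
    (subW [[elC], [elE], [elD]] genWord0).all tripleOK = true ∧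
    eqv (tprod (subW [[elC], [elE], [elD]] genWord0)) (sgen.getD 0 0) = true ∧
    (subW [[elC], [elE], [elD]] genWord1).all tripleOK = true ∧
    eqv (tprod (subW [[elC], [elE], [elD]] genWord1)) (sgen.getD 1 0) = true := by
  decide +kernel

end CfsgLib.Sporadic.J3
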