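import Mathlib.Logic.Basic
import Mathlib.Data.Nat.Notation

/-!
# Data for the 2-fusion system of the third Janko group

Subsets of the listed Sylow 2-subgroup as bit masks, cosets as two-bit fields, and packed elements:
one of order 3 normalizing the subgroup, and two involutions with product equal to it normalizing
the extraspecial subgroup of order 32.
-/

set_option autoImplicit false

namespace CfsgLib.Sporadic.J3.TwoData

def maskC : ℕ := 7975743516199812850383035794904434433

def maskK : ℕ := 7975367974709495237422842361683116033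

def maskB : ℕ := 200649734734512463699211693108921223137

def maskQ : ℕ := 135581631111551911524428704215339222815

def maskZ : ℕ := 1048577

def fieldA : ℕ := 58802430687106212116508494133993728801243698866902194082706960579662553572352

def fieldK : ℕ := 321079277614555861349272804491764559930081652238006344784741597184

def elG : ℕ := 24396618

def elU : ℕ := 97072305

def elV : ℕ := 208098106

def gperm : List ℕ :=
  [0, 57, 1, 3, 4, 44, 119, 83, 29, 108, 105, 106, 54, 94, 35, 9, 10, 22, 88, 114, 20, 31, 81, 99, 12, 66, 120, 25, 49, 98, 73, 87, 48, 71, 123, 103, 42, 74, 77, 79, 118, 60, 51, 52, 107, 40, 84, 101, 58, 75, 19, 36, 100, 116, 24, 11, 63, 2, 32, 53, 112, 68, 6, 97, 124, 47, 27, 67, 104, 26, 102, 127, 72, 93, 125, 28, 13, 126, 90, 117, 23, 17, 96, 113, 111, 92, 34, 21, 95, 85, 115, 70, 89, 30, 76, 18, 110, 56, 8, 80, 43, 65, 91, 14, 61, 16, 55, 5, 15, 64, 82, 46, 41, 7, 50, 78, 59, 39, 45, 62, 69, 121, 122, 86, 109, 37, 38, 33]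

def invList : List ℕ :=
  [0, 1, 2, 3, 4, 5, 6, 7, 14, 10, 9, 13, 22, 11, 8, 16, 15, 24, 30, 26, 20, 27, 12, 34, 17, 31, 19, 21, 32, 35, 18, 25, 28, 33, 23, 29, 36, 38, 37, 45, 79, 43, 42, 41, 44, 39, 56, 47, 49, 48, 69, 51, 60, 53, 81, 76, 46, 57, 75, 59, 52, 61, 62, 84, 64, 65, 87, 72, 68, 50, 82, 71, 67, 88, 77, 58, 55, 74, 85, 40, 86, 54, 70, 83, 63, 78, 80, 66, 73, 115, 92, 110, 90, 95, 106, 93, 102, 111, 103, 123, 112, 101, 96, 98, 104, 108, 94, 107, 105, 109, 91, 97, 100, 113, 120, 89, 116, 118, 117, 119, 114, 121, 122, 99, 124, 126, 125, 127]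

def witList : List (ℕ × ℕ) :=
  [(0, 0), (1, 32), (1, 6), (1, 12), (1, 28), (2, 11), (2, 5), (1, 2), (1, 7), (1, 5), (2, 6), (2, 12), (3, 28), (3, 32), (5, 8), (5, 6)]

def qMoves : List (ℕ × ℕ × ℕ) :=
  [(0, 0, 0), (1, 2, 57), (2, 1, 2), (3, 122, 122), (4, 121, 121), (8, 14, 103), (9, 77, 38), (10, 74, 37), (14, 8, 98), (15, 126, 77), (16, 125, 74), (20, 20, 20), (29, 103, 35), (35, 98, 29), (36, 42, 36), (37, 105, 10), (38, 108, 9), (42, 36, 51), (51, 51, 42), (57, 57, 1), (67, 72, 72), (72, 67, 67), (74, 10, 16), (77, 9, 15), (98, 35, 14), (103, 29, 8), (105, 37, 125), (108, 38, 126), (121, 4, 4), (122, 3, 3), (125, 16, 105), (126, 15, 108)]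

end CfsgLib.Sporadic.J3.TwoData
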