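import Cfsg.Agent.Lib.Sporadic.J3Multiplier
import Cfsg.Agent.Lib.Sporadic.J3TwoData

/-!
# Arithmetic in the table of the Sylow 2-subgroup of the third Janko group

All facts about the table are checked on natural numbers; the facts about matrices are the
equations needed to realise the table inside the group.
-/

set_option autoImplicit false
set_option maxRecDepth 20000

namespace CfsgLib.Sporadic.J3.TwoData

open Cfsg CfsgLib.Sporadic CfsgLib.Sporadic.Mult MultData

/-- The product in the table. -/
def mulT (p q : ℕ) : ℕ := (twoTable.wd q).foldl twoTable.nx p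

/-- The inverse in the table. -/
def invT (p : ℕ) : ℕ := invList.getD p 0

/-- The commutator in the table. -/
def cmT (a b : ℕ) : ℕ := mulT (mulT a b) (mulT (invT a) (invT b))

/-- The position of a generator. -/
def genT (i : ℕ) : ℕ := twoTable.nx 0 i

/-- Membership in a mask. -/
def mem (m p : ℕ) : Bool := m.testBit p

/-- The coset of the commutator subgroup. -/
def lA (p : ℕ) : ℕ := (fieldA >>> (2 * p)) &&& 3

/-- The coset in the commutator subgroup, matched with `lA`. -/
def lK (p : ℕ) : ℕ := (fieldK >>> (2 * p)) &&& 3

/-- All elements. -/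
def maskS : ℕ := 2 ^ 128 - 1

/-- A mask is closed. -/
noncomputable def closedT (m : ℕ) : Bool :=
  mem m 0 && forallLt 128 fun p => !mem m p || (mem m (invT p) &&
    forallLt 128 fun q => !mem m q || mem m (mulT p q))

/-- A mask is the centralizer of another. -/
noncomputable def cenT (m n : ℕ) : Bool :=
  forallLt 128 fun p =>
    (mem m p == forallLt 128 fun a => !mem n a || Nat.beq (mulT p a) (mulT a p))

/-- The complement of one mask in another is one coset of it. -/
noncomputable def stepT (m n : ℕ) : Bool :=
  forallLt 128 fun p => !mem n p || mem m p ||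
    forallLt 128 fun q => !mem n q || mem m q || mem m (mulT (invT p) q)

theorem closed_ok : closedT maskZ = true ∧ closedT maskK = true ∧ closedT maskC = true ∧
    closedT maskB = true ∧ closedT maskQ = true ∧ closedT 1 = true := by decide +kernel

theorem inv_ok : forallLt 128 (fun p => Nat.blt (invT p) 128 && Nat.beq (mulT p (invT p)) 0 &&
    mem maskS p) = true := by decide +kernel

theorem cen_ok : cenT maskZ maskS = true ∧ cenT maskK maskC = true ∧ cenT maskB maskK = true := by
  decide +kernel

theorem comm_ok : forallLt 128 (fun p => forallLt 128 fun q => mem maskC (cmT p q)) = true ∧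
    forallLt 128 (fun a => !mem maskC a || witList.any fun w =>
      Nat.blt w.1 128 && Nat.blt w.2 128 && Nat.beq (cmT w.1 w.2) a) = true := by
  decide +kernel

theorem order_ok : mem maskZ 20 = true ∧
    forallLt 128 (fun p => !mem maskZ p || Nat.beq p 0 || Nat.beq p 20) = true ∧
    forallLt 128 (fun p => !mem maskC p || mem maskB p) = true := by decide +kernel

theorem step_ok : stepT 1 maskZ = true ∧ stepT maskZ maskK = true ∧ stepT maskB maskS = true := by
  decide +kernel

theorem labelA_ok :
    forallLt 128 (fun p => !mem maskB p || (Nat.beq (lA p) 0 == mem maskC p)) = true ∧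
    forallLt 128 (fun p => !mem maskB p || forallLt 128 fun q => !mem maskB q ||
      Nat.beq (lA (mulT p q)) (lA p ^^^ lA q)) = true ∧
    forallLt 4 (fun c => (List.range 128).any fun p => mem maskB p && Nat.beq (lA p) c) = true := by
  decide +kernel

theorem labelK_ok :
    forallLt 128 (fun p => !mem maskC p || forallLt 128 fun q => !mem maskC q ||
      (Nat.beq (lK p) (lK q) == mem maskK (mulT (invT p) q))) = true ∧
    forallLt 128 (fun p => !mem maskB p || forallLt 128 fun s => mem maskB s ||
      Nat.beq (lK (cmT p s)) (lA p)) = true ∧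
    mem maskB 1 = false := by
  decide +kernel

theorem quot_ok :
    forallLt 128 (fun p => mem maskQ p || !forallLt 128 (fun q => !mem maskQ q ||
      Nat.beq (mulT p q) (mulT q p))) = true ∧
    forallLt 128 (fun p => forallLt 128 fun q => !mem maskQ q ||
      mem maskQ (mulT (mulT p q) (invT p))) = true ∧
    forallLt 128 (fun q => !mem maskQ q || qMoves.any fun e => Nat.beq e.1 q) = true ∧
    (qMoves.all fun e => Nat.blt e.1 128 && Nat.blt e.2.1 128 && Nat.blt e.2.2 128 &&
      mem maskQ e.2.1 && mem maskQ e.2.2) = true := by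
  decide +kernel

theorem gperm_ok :
    Nat.beq (gperm.getD 0 0) 0 = true ∧
    forallLt 128 (fun p => Nat.blt (gperm.getD p 0) 128 &&
      forallLt 7 fun i => Nat.beq (gperm.getD (twoTable.nx p i) 0)
        (mulT (gperm.getD p 0) (gperm.getD (genT i) 0))) = true ∧
    forallLt 128 (fun p => !mem maskB p || (mem maskB (gperm.getD p 0) &&
      Nat.beq (lA (gperm.getD p 0)) ([0, 2, 3, 1].getD (lA p) 0))) = true := by
  decide +kernel

/-- Squares of automorphisms of a four-group are powers of one of order 3. -/
theorem square_four : ∀ a b : Fin 4, a ≠ 0 → b ≠ 0 → a ≠ b → ∃ i : Fin 3, ∀ c : Fin 4,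
    [0, a.1, b.1, a.1 ^^^ b.1].getD ([0, a.1, b.1, a.1 ^^^ b.1].getD c.1 0) 0 =
      ((fun d => [0, 2, 3, 1].getD d 0)^[i.1]) c.1 := by
  decide +kernel

theorem elems_ok :
    chkEq [elU, elU] [] = true ∧ chkEq [elV, elV] [] = true ∧ chkEq [elU, elV] [elG] = true ∧
    chkEq ((twoTable.wd 20).map twoGenAt) [baseA] = true ∧
    forallLt 7 (fun i => chkEq [elG, twoGenAt i]
      ((twoTable.wd (gperm.getD (genT i) 0)).map twoGenAt ++ [elG])) = true ∧
    (qMoves.all fun e => chkEq (elU :: (twoTable.wd e.1).map twoGenAt)
        ((twoTable.wd e.2.1).map twoGenAt ++ [elU]) &&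
      chkEq (elV :: (twoTable.wd e.1).map twoGenAt)
        ((twoTable.wd e.2.2).map twoGenAt ++ [elV])) = true ∧
    (twoTable.rels.all fun W => chkEq (W.map twoGenAt) []) = true := by
  decide +kernel

end CfsgLib.Sporadic.J3.TwoData
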