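import Cfsg.Agent.Lib.Sporadic.J3Perm
import Cfsg.Prelude.Def_Classical

/-!
# The triple cover of J3 inside a special unitary group

The two generators preserve the standard Hermitian form; the determinant is trivial on a perfect group.
-/

set_option autoImplicit false
set_option maxRecDepth 4000

namespace CfsgLib.Sporadic.J3

open Cfsg Cfsg.Spor Data Matrix
open scoped MatrixGroups

/-- The bit at `(b, a)` of the transpose. -/
noncomputable def planeTr (A : ℕ) : ℕ :=
  Nat.rec 0 (fun n acc => Nat.lor acc (cond (A.testBit (Nat.add (Nat.mul 9 (Nat.mod n 9)) (Nat.div n 9)))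
    (Nat.shiftLeft 1 n) 0)) 81

noncomputable def trCode (M : ℕ) : ℕ := Nat.lor (planeTr (p0 M)) (Nat.shiftLeft (planeTr (p1 M)) 81)

noncomputable def conjCode (M : ℕ) : ℕ := Nat.lor (Nat.xor (p0 M) (p1 M)) (Nat.shiftLeft (p1 M) 81)

theorem unitary_data : ∀ x : Fin 2,
    mm (trCode (sgen.getD x.val 0)) (conjCode (sgen.getD x.val 0)) = one ∧ ∀ a b : F9,
      ((p0 (trCode (sgen.getD x.val 0))).testBit (9 * ix a + ix b) = (p0 (sgen.getD x.val 0)).testBit (9 * ix b + ix a) ∧
      (p1 (trCode (sgen.getD x.val 0))).testBit (9 * ix a + ix b) = (p1 (sgen.getD x.val 0)).testBit (9 * ix b + ix a)) ∧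
      ((p0 (conjCode (sgen.getD x.val 0))).testBit (9 * ix a + ix b) =
        ((p0 (sgen.getD x.val 0)).testBit (9 * ix a + ix b) ^^ (p1 (sgen.getD x.val 0)).testBit (9 * ix a + ix b)) ∧
      (p1 (conjCode (sgen.getD x.val 0))).testBit (9 * ix a + ix b) = (p1 (sgen.getD x.val 0)).testBit (9 * ix a + ix b)) := by
  decide +kernel

variable {F : Type*} [Field F] [CharP F 2] {ω : F} (hω : ω ^ 2 + ω + 1 = 0)
include hω

/-- The standard Hermitian form. -/
def herm9 (u v : F9 → F) : F := ∑ z, u z * v z ^ 2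

theorem sUnit_preserving (x : Fin 2) :
    sUnit hω x ∈ Cfsg.preserving (Units.coeHom (Matrix F9 F9 F)) (herm9 (F := F)) := by
  intro u v
  obtain ⟨hmul, hb⟩ := unitary_data x
  set M := dec ω (sgen.getD x.val 0)
  have ht : dec ω (trCode (sgen.getD x.val 0)) = Mᵀ := by
    funext a b
    show _ = dec ω (sgen.getD x.val 0) b a
    rw [dec_apply, dec_apply, (hb a b).1.1, (hb a b).1.2]
  have hc : dec ω (conjCode (sgen.getD x.val 0)) = M.map (fun t => t ^ 2) := by
    funext a b
    show _ = dec ω (sgen.getD x.val 0) a b ^ 2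
    rw [dec_apply, dec_apply, (hb a b).2.1, (hb a b).2.2]
    have hs := omega_sq hω
    cases (p0 (sgen.getD x.val 0)).testBit (9 * ix a + ix b) <;>
      cases (p1 (sgen.getD x.val 0)).testBit (9 * ix a + ix b) <;>
      simp [val, bF, pow_two, hs, CharTwo.add_self_eq_zero, add_comm]
    rw [← CharTwo.add_eq_zero]
    linear_combination hs + (2 * ω + 1) * (CharTwo.two_eq_zero : (2 : F) = 0)
  have e1 : Mᵀ * M.map (fun t => t ^ 2) = 1 := by rw [← ht, ← hc, ← dec_mm hω, hmul, dec_one]
  have hv : (fun z => (M *ᵥ v) z ^ 2) = M.map (fun t => t ^ 2) *ᵥ fun z => v z ^ 2 := by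
    funext z
    simp only [Matrix.mulVec, dotProduct, Matrix.map_apply, CharTwo.sum_sq, mul_pow]
  show (M *ᵥ u) ⬝ᵥ (fun z => (M *ᵥ v) z ^ 2) = u ⬝ᵥ fun z => v z ^ 2
  rw [hv, Matrix.dotProduct_mulVec, ← Matrix.mulVec_transpose, Matrix.mulVec_mulVec]
  have e2 : (M.map (fun t => t ^ 2))ᵀ * M = 1 := by
    have := congrArg Matrix.transpose e1
    rwa [Matrix.transpose_mul, Matrix.transpose_transpose, Matrix.transpose_one] at this
  rw [e2, Matrix.one_mulVec]

variable [Fintype F]

theorem threeJ3_le_preserving :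
    threeJ3 F ω ≤ Cfsg.preserving (Units.coeHom (Matrix F9 F9 F)) (herm9 (F := F)) := by
  rw [threeJ3_eq hω, X, Subgroup.closure_le]
  rintro _ ⟨x, rfl⟩
  exact sUnit_preserving hω x

theorem det_threeJ3 (g : threeJ3 F ω) : Matrix.det ((g : GL F9 F) : Matrix F9 F9 F) = 1 := by
  have h := hom_trivial hω ((Matrix.GeneralLinearGroup.det).comp (X hω).subtype)
    ⟨g, threeJ3_eq hω ▸ g.2⟩
  have h' : Matrix.GeneralLinearGroup.det (g : GL F9 F) = 1 := h
  rw [← Matrix.GeneralLinearGroup.val_det_apply, h', Units.val_one]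

end CfsgLib.Sporadic.J3

namespace CfsgLib.Sporadic.J3

open Cfsg Cfsg.Spor Matrix

theorem unitary_realization : ∃ (F : Type) (_ : Field F) (_ : Fintype F), Fintype.card F = 4 ∧
    ∃ H : Subgroup (Cfsg.SU 9 F 2), Nat.card (Subgroup.center H) = 3 ∧ Cfsg.IsJ3 (H ⧸ Subgroup.center H) := by
  classical
  obtain ⟨F, i1, i2, ω, hF, hω⟩ := exists_field_four
  haveI := charTwo hF
  refine ⟨F, i1, i2, hF, ?_⟩
  let e : F9 ≃ Fin 9 := Fintype.equivFinOfCardEq (by decide)
  let φ : threeJ3 F ω →* Matrix (Fin 9) (Fin 9) F :=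
    (Matrix.reindexAlgEquiv F F e).toMonoidHom.comp ((Units.coeHom (Matrix F9 F9 F)).comp (threeJ3 F ω).subtype)
  have hφ : ∀ g, φ g = Matrix.reindex e e ((g : GL F9 F) : Matrix F9 F9 F) := fun g => rfl
  let ψ : threeJ3 F ω →* Cfsg.SU 9 F 2 :=
    { toFun := fun g => ⟨⟨φ g, by rw [hφ, Matrix.det_reindex_self, det_threeJ3 hω]⟩, fun u v => by
        show hermForm 9 F 2 (φ g *ᵥ u) (φ g *ᵥ v) = _
        have h := threeJ3_le_preserving hω g.2 (u ∘ e) (v ∘ e)
        rw [hφ]
        simp only [hermForm, Matrix.reindex_apply, Matrix.submatrix_mulVec_equiv, Equiv.symm_symm]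
        simp only [herm9, Units.coeHom_apply] at h
        rw [← e.sum_comp, ← e.sum_comp (fun i => u i * v i ^ 2)]
        simpa [Function.comp] using h⟩
      map_one' := Subtype.ext (Subtype.ext (map_one φ))
      map_mul' := fun a b => Subtype.ext (Subtype.ext (map_mul φ a b)) }
  have hinj : Function.Injective ψ := fun a b h => by
    have h1 : φ a = φ b := congrArg (fun u : Cfsg.SU 9 F 2 => (u.1 : Matrix (Fin 9) (Fin 9) F)) h
    rw [hφ, hφ] at h1
    exact Subtype.ext (Units.ext ((Matrix.reindex e e).injective h1))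
  let iso := MonoidHom.ofInjective hinj
  refine ⟨ψ.range, ?_, ?_⟩
  · exact ((Nat.card_congr (Subgroup.centerCongr iso).toEquiv).symm).trans (card_center hω hF)
  · have hc : (Subgroup.center (threeJ3 F ω)).map iso.toMonoidHom = Subgroup.center ψ.range := by
      refine le_antisymm ?_ fun y hy => ?_
      · rintro _ ⟨u, hu, rfl⟩
        refine Subgroup.mem_center_iff.2 fun z => ?_
        obtain ⟨z, rfl⟩ := iso.surjective z
        show iso z * iso u = iso u * iso z
        rw [← map_mul, ← map_mul, Subgroup.mem_center_iff.1 hu z]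
      refine ⟨iso.symm y, ?_, iso.apply_symm_apply y⟩
      exact Subgroup.mem_center_iff.2 fun z => iso.injective (by
        rw [map_mul, map_mul, MulEquiv.apply_symm_apply]; exact Subgroup.mem_center_iff.1 hy (iso z))
    have eq := QuotientGroup.congr (Subgroup.center (threeJ3 F ω)) (Subgroup.center ψ.range) iso hc
    haveI := isSimple_J3 hω hF
    exact ⟨eq.symm.isSimpleGroup, by rw [← Nat.card_congr eq.toEquiv]; exact card_J3 hω hF⟩

end CfsgLib.Sporadic.J3
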