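import Mathlib
import Cfsg.Agent.Lib.Sporadic.Simplicity

/-!
# Jordan's theorem on sharply multiply transitive groups
-/

set_option autoImplicit false

namespace CfsgLib.Sporadic.Jordan

open MulAction

variable {G α : Type*} [Group G] [MulAction G α]

/-- Regular on injective tuples of length `k`. -/
def Sharp (G : Type*) (α : Type*) [Group G] [MulAction G α] (k : ℕ) : Prop :=
  ∀ x y : Fin k ↪ α, ∃! g : G, g • x = y

theorem sharp_of_pretransitive {k : ℕ} (h : IsMultiplyPretransitive G α k)
    (hs : ∀ x : Fin k ↪ α, stabilizer G x = ⊥) : Sharp G α k := by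
  intro x y
  haveI : IsPretransitive G (Fin k ↪ α) := h
  obtain ⟨g, hg⟩ := exists_smul_eq G x y
  refine ⟨g, hg, fun g' hg' => ?_⟩
  have hmem : g⁻¹ * g' ∈ stabilizer G x := by
    rw [mem_stabilizer_iff, mul_smul, hg', ← hg, inv_smul_smul]
  rw [hs x, Subgroup.mem_bot, inv_mul_eq_one] at hmem
  exact hmem.symm

/-- The action of a point stabiliser on the other points. -/
@[instance_reducible]
def stabAction (a : α) : MulAction (stabilizer G a) {x // x ≠ a} where
  smul g x := ⟨(g : G) • x.1, fun e => x.2 (MulAction.injective (g : G) (e.trans g.2.symm))⟩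
  one_smul x := Subtype.ext (one_smul G x.1)
  mul_smul g h x := Subtype.ext (mul_smul (g : G) (h : G) x.1)

theorem Sharp.stab {k : ℕ} (h : Sharp G α (k + 1)) (a : α) :
    @Sharp (stabilizer G a) {x // x ≠ a} _ (stabAction a) k := by
  intro x y
  letI := stabAction (G := G) a
  let ext : (Fin k ↪ {x // x ≠ a}) → (Fin (k + 1) ↪ α) := fun z =>
    ⟨Fin.cons a fun i => (z i).1, Fin.cons_injective_iff.2 ⟨fun ⟨i, e⟩ => (z i).2 e,
      fun i j e => z.injective (Subtype.ext e)⟩⟩
  obtain ⟨g, hg, huniq⟩ := h (ext x) (ext y)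
  have e0 : g • a = a := congrArg (fun f : Fin (k + 1) ↪ α => f 0) hg
  refine ⟨⟨g, e0⟩, ?_, fun g' hg' => Subtype.ext (huniq g'.1 ?_)⟩
  · exact DFunLike.ext _ _ fun i => Subtype.ext (congrArg (fun f : Fin (k + 1) ↪ α => f i.succ) hg)
  · refine DFunLike.ext _ _ fun i => ?_
    refine Fin.cases ?_ (fun j => ?_) i
    · exact g'.2
    · exact congrArg (fun f : Fin k ↪ {x // x ≠ a} => (f j).1) hg'

theorem stab_faithful [FaithfulSMul G α] (a : α) :
    @FaithfulSMul (stabilizer G a) {x // x ≠ a} (stabAction a).toSMul := by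
  letI := stabAction (G := G) a
  exact ⟨fun {g h} e => Subtype.ext (eq_of_smul_eq_smul (α := α) fun x => by
    by_cases hx : x = a
    · rw [hx, g.2, h.2]
    · exact congrArg Subtype.val (e ⟨x, hx⟩))⟩

theorem card_eq [Finite α] {k : ℕ} (h : Sharp G α k) (hk : k ≤ Nat.card α) :
    Nat.card G = (Nat.card α).descFactorial k := by
  classical
  haveI := Fintype.ofFinite α
  obtain ⟨x⟩ : Nonempty (Fin k ↪ α) := by
    rw [Function.Embedding.nonempty_iff_card_le]
    simpa [Nat.card_eq_fintype_card] using hk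
  rw [Nat.card_eq_of_bijective (fun g : G => g • x)
      ⟨fun g g' e => (h x (g' • x)).unique e rfl, fun y => (h x y).exists⟩,
    Nat.card_eq_fintype_card, Fintype.card_embedding_eq, Fintype.card_fin, Nat.card_eq_fintype_card]

/-- Four distinct points as an embedding. -/
def emb4 (x y z w : α) (h : List.Nodup [x, y, z, w]) : Fin 4 ↪ α :=
  ⟨fun i => [x, y, z, w].get i, fun i j e => h.injective_get e⟩

theorem eq_of_agree (h : Sharp G α 4) {g g' : G} {x y z w : α} (hn : List.Nodup [x, y, z, w])
    (h1 : g • x = g' • x) (h2 : g • y = g' • y) (h3 : g • z = g' • z) (h4 : g • w = g' • w) : g = g' :=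
  (h (emb4 x y z w hn) (g' • emb4 x y z w hn)).unique
    (DFunLike.ext _ _ fun i => by fin_cases i <;> assumption) rfl

theorem exists_four (h : Sharp G α 4) {x y z w x' y' z' w' : α} (hn : List.Nodup [x, y, z, w])
    (hn' : List.Nodup [x', y', z', w']) :
    ∃ g : G, g • x = x' ∧ g • y = y' ∧ g • z = z' ∧ g • w = w' := by
  obtain ⟨g, hg, -⟩ := h (emb4 x y z w hn) (emb4 x' y' z' w' hn')
  have e := fun i => congrArg (fun f : Fin 4 ↪ α => f i) hg
  exact ⟨g, e 0, e 1, e 2, e 3⟩

open Classical in
theorem fixed_le [Fintype α] (h : Sharp G α 4) {g : G} (hg : g ≠ 1) :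
    (Finset.univ.filter fun x : α => g • x = x).card ≤ 3 := by
  by_contra hc
  push Not at hc
  obtain ⟨s, hs, hsc⟩ := Finset.exists_subset_card_eq (n := 4)
    (s := Finset.univ.filter fun x : α => g • x = x) (by omega)
  obtain ⟨x, y, z, w, hxy, hxz, hxw, hyz, hyw, hzw, rfl⟩ := Finset.card_eq_four.1 hsc
  have hm : ∀ p ∈ ({x, y, z, w} : Finset α), g • p = (1 : G) • p := fun p hp => by
    rw [one_smul]; exact (Finset.mem_filter.1 (hs hp)).2
  exact hg (eq_of_agree h (by simp [hxy, hxz, hxw, hyz, hyw, hzw]) (hm x (by simp)) (hm y (by simp))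
    (hm z (by simp)) (hm w (by simp)))

open Classical in
/-- A sharply four-fold transitive group has degree at most 6, or 7, 9 or 11. -/
theorem degree_four_aux [Finite G] [Finite α] (h : Sharp G α 4) (hn : 7 ≤ Nat.card α) :
    Nat.card α = 7 ∨ Nat.card α = 11 := by
  haveI := Fintype.ofFinite α
  rw [Nat.card_eq_fintype_card] at hn ⊢
  obtain ⟨e⟩ : Nonempty (Fin 4 ↪ α) := by
    rw [Function.Embedding.nonempty_iff_card_le]; simp; omega
  obtain ⟨a, b, c, d, hab, hac, had, hbc, hbd, hcd⟩ : ∃ a b c d : α,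
      a ≠ b ∧ a ≠ c ∧ a ≠ d ∧ b ≠ c ∧ b ≠ d ∧ c ≠ d := by
    refine ⟨e 0, e 1, e 2, e 3, ?_, ?_, ?_, ?_, ?_, ?_⟩ <;> exact e.injective.ne (by decide)
  have hN : List.Nodup [a, b, c, d] := by simp [hab, hac, had, hbc, hbd, hcd]
  obtain ⟨u, ua, ub, uc, ud⟩ := exists_four h hN
    (show List.Nodup [b, a, d, c] by simp [hab.symm, hac, had, hbc, hbd, hcd.symm])
  obtain ⟨t, ta, tb, tc, td⟩ := exists_four h hN
    (show List.Nodup [b, a, c, d] by simp [hab.symm, hac, had, hbc, hbd, hcd])
  have hu2 : u * u = 1 := eq_of_agree h hN (by rw [mul_smul, ua, ub, one_smul])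
    (by rw [mul_smul, ub, ua, one_smul]) (by rw [mul_smul, uc, ud, one_smul])
    (by rw [mul_smul, ud, uc, one_smul])
  have ht2 : t * t = 1 := eq_of_agree h hN (by rw [mul_smul, ta, tb, one_smul])
    (by rw [mul_smul, tb, ta, one_smul]) (by rw [mul_smul, tc, tc, one_smul])
    (by rw [mul_smul, td, td, one_smul])
  have hu1 : u ≠ 1 := fun e => hab (by rw [e, one_smul] at ua; exact ua)
  have ht1 : t ≠ 1 := fun e => hab (by rw [e, one_smul] at ta; exact ta)
  have huu : ∀ x : α, u • u • x = x := fun x => by rw [← mul_smul, hu2, one_smul]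
  let F : Finset α := Finset.univ.filter fun x => u • x = x
  have hF3 : F.card ≤ 3 := fixed_le h hu1
  -- all involutions are conjugate
  have hconj : ∀ g : G, g * g = 1 → g ≠ 1 → ∃ k : G, k * u * k⁻¹ = g := by
    intro g hg2 hg1
    have hgg : ∀ x : α, g • g • x = x := fun x => by rw [← mul_smul, hg2, one_smul]
    have hfix := fixed_le h hg1
    obtain ⟨x, hx⟩ : ∃ x : α, g • x ≠ x := by
      by_contra hne
      push Not at hne
      rw [Finset.filter_true_of_mem fun x _ => hne x, Finset.card_univ] at hfix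
      omega
    obtain ⟨y, hy⟩ : ∃ y, y ∉ (Finset.univ.filter fun x : α => g • x = x) ∪ {x, g • x} := by
      by_contra hne
      push Not at hne
      have h1 := Finset.card_union_le (Finset.univ.filter fun x : α => g • x = x) {x, g • x}
      have h2 := Finset.card_le_two (a := x) (b := g • x)
      rw [Finset.eq_univ_of_forall hne, Finset.card_univ] at h1
      omega
    simp only [Finset.mem_union, Finset.mem_filter, Finset.mem_univ, true_and, Finset.mem_insert,
      Finset.mem_singleton, not_or] at hy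
    obtain ⟨hy1, hy2, hy3⟩ := hy
    have hn4 : List.Nodup [x, g • x, y, g • y] := by
      simp only [List.nodup_cons, List.mem_cons, List.not_mem_nil, or_false, not_or, List.nodup_nil,
        and_true, not_false_eq_true]
      refine ⟨⟨Ne.symm hx, Ne.symm hy2, fun e => hy3 ?_⟩, ⟨Ne.symm hy3, fun e => hy2 ?_⟩, Ne.symm hy1⟩
      · rw [e, hgg]
      · rw [MulAction.injective g e]
    obtain ⟨k, k1, k2, k3, k4⟩ := exists_four h hN hn4
    have i1 : k⁻¹ • x = a := by rw [inv_smul_eq_iff, k1]
    have i2 : k⁻¹ • g • x = b := by rw [inv_smul_eq_iff, k2]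
    have i3 : k⁻¹ • y = c := by rw [inv_smul_eq_iff, k3]
    have i4 : k⁻¹ • g • y = d := by rw [inv_smul_eq_iff, k4]
    refine ⟨k, eq_of_agree h hn4 ?_ ?_ ?_ ?_⟩
    · rw [mul_smul, mul_smul, i1, ua, k2]
    · rw [mul_smul, mul_smul, i2, ub, k1, hgg]
    · rw [mul_smul, mul_smul, i3, uc, k4]
    · rw [mul_smul, mul_smul, i4, ud, k3, hgg]
  have hF2 : 2 ≤ F.card := by
    obtain ⟨k, hk⟩ := hconj t ht2 ht1
    have hsub : ({k⁻¹ • c, k⁻¹ • d} : Finset α) ⊆ F := by
      intro z hz
      simp only [Finset.mem_insert, Finset.mem_singleton] at hz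
      simp only [F, Finset.mem_filter, Finset.mem_univ, true_and]
      apply MulAction.injective k
      rcases hz with rfl | rfl
      · show k • u • k⁻¹ • c = k • k⁻¹ • c
        rw [← mul_smul k u, ← mul_smul (k * u), hk, tc, smul_inv_smul]
      · show k • u • k⁻¹ • d = k • k⁻¹ • d
        rw [← mul_smul k u, ← mul_smul (k * u), hk, td, smul_inv_smul]
    refine le_trans ?_ (Finset.card_le_card hsub)
    rw [Finset.card_pair ((MulAction.injective k⁻¹).ne hcd)]
  -- the centraliser is regular on ordered pairs of cycles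
  let C : Subgroup G := Subgroup.centralizer {u}
  have hC : ∀ g : G, g ∈ C ↔ g * u = u * g := fun g => Subgroup.mem_centralizer_singleton_iff
  have hCu : ∀ g ∈ C, ∀ x : α, g • u • x = u • g • x := fun g hg x => by
    rw [← mul_smul, (hC g).1 hg, mul_smul]
  let M : Finset α := Finset.univ.filter fun x => u • x ≠ x
  have hMF : F.card + M.card = Fintype.card α := Finset.card_filter_add_card_filter_not _
  let T : Finset (α × α) := (M ×ˢ M).filter fun p => p.2 ≠ p.1 ∧ p.2 ≠ u • p.1
  have hT : T.card = M.card * (M.card - 2) := by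
    have : T = M.biUnion fun x => ((M.erase x).erase (u • x)).image fun y => (x, y) := by
      ext ⟨x, y⟩
      simp only [T, Finset.mem_filter, Finset.mem_product, Finset.mem_biUnion, Finset.mem_image,
        Finset.mem_erase, Prod.mk.injEq]
      constructor
      · rintro ⟨⟨hx, hy⟩, h1, h2⟩; exact ⟨x, hx, y, ⟨h2, h1, hy⟩, rfl, rfl⟩
      · rintro ⟨x', hx, y', ⟨h2, h1, hy⟩, rfl, rfl⟩; exact ⟨⟨hx, hy⟩, h1, h2⟩
    rw [this, Finset.card_biUnion]
    · rw [Finset.sum_congr rfl (g := fun _ => M.card - 2), Finset.sum_const, smul_eq_mul]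
      intro x hx
      have hx' : u • x ≠ x := (Finset.mem_filter.1 hx).2
      rw [Finset.card_image_of_injective _ (fun p q e => (Prod.mk.injEq _ _ _ _ ▸ e : x = x ∧ p = q).2),
        Finset.card_erase_of_mem (Finset.mem_erase.2 ⟨hx', Finset.mem_filter.2
          ⟨Finset.mem_univ _, fun e => hx' (MulAction.injective u e)⟩⟩),
        Finset.card_erase_of_mem hx]
      omega
    · intro x _ y _ hne
      simp only [Finset.disjoint_left, Finset.mem_image]
      rintro p ⟨_, _, rfl⟩ ⟨_, _, e⟩
      exact hne (congrArg Prod.fst e).symm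
  have hCT : Nat.card C = M.card * (M.card - 2) := by
    rw [← hT, ← Nat.card_eq_finsetCard]
    refine Nat.card_eq_of_bijective (fun g => (⟨(g.1 • a, g.1 • c), ?_⟩ : ↥T)) ⟨fun g g' e => ?_, ?_⟩
    · have hm : ∀ x : α, u • x ≠ x → u • g.1 • x ≠ g.1 • x := fun x hx e => by
        rw [← hCu _ g.2] at e; exact hx (MulAction.injective g.1 e)
      simp only [T, M, Finset.mem_filter, Finset.mem_product, Finset.mem_univ, true_and]
      refine ⟨⟨hm a (by rw [ua]; exact hab.symm), hm c (by rw [uc]; exact hcd.symm)⟩,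
        fun e => hac (MulAction.injective g.1 e).symm, fun e => hbc ?_⟩
      rw [← hCu _ g.2, ua] at e
      exact (MulAction.injective g.1 e).symm
    · simp only [Subtype.mk.injEq, Prod.mk.injEq] at e
      refine Subtype.ext (eq_of_agree h hN e.1 ?_ e.2 ?_)
      · rw [← ua, hCu _ g.2, hCu _ g'.2, e.1]
      · rw [← uc, hCu _ g.2, hCu _ g'.2, e.2]
    · rintro ⟨⟨x, y⟩, hp⟩
      simp only [T, M, Finset.mem_filter, Finset.mem_product, Finset.mem_univ, true_and] at hp
      obtain ⟨⟨hx, hy⟩, h1, h2⟩ := hp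
      have hn4 : List.Nodup [x, u • x, y, u • y] := by
        simp only [List.nodup_cons, List.mem_cons, List.not_mem_nil, or_false, not_or, List.nodup_nil,
          and_true, not_false_eq_true]
        refine ⟨⟨Ne.symm hx, Ne.symm h1, fun e => h2 ?_⟩, ⟨Ne.symm h2, fun e => h1 ?_⟩, Ne.symm hy⟩
        · rw [e, huu]
        · rw [MulAction.injective u e]
      obtain ⟨k, k1, k2, k3, k4⟩ := exists_four h hN hn4
      have hk : k * u = u * k := eq_of_agree h hN (by rw [mul_smul, mul_smul, ua, k2, k1])
        (by rw [mul_smul, mul_smul, ub, k1, k2, huu]) (by rw [mul_smul, mul_smul, uc, k4, k3])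
        (by rw [mul_smul, mul_smul, ud, k3, k4, huu])
      exact ⟨⟨k, (hC k).2 hk⟩, Subtype.ext (Prod.ext k1 k3)⟩
  -- its action on the fixed points
  have hCF : ∀ g ∈ C, ∀ x, g • x ∈ F ↔ x ∈ F := fun g hg x => by
    simp only [F, Finset.mem_filter, Finset.mem_univ, true_and, ← hCu g hg]
    exact (MulAction.injective g).eq_iff
  let φ : C →* Equiv.Perm F :=
    { toFun := fun g => Equiv.Perm.subtypePerm (MulAction.toPerm (g : G)) (hCF g g.2)
      map_one' := Equiv.ext fun x => Subtype.ext (one_smul G (x : α))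
      map_mul' := fun g k => Equiv.ext fun x => Subtype.ext (mul_smul (g : G) (k : G) (x : α)) }
  have hker : ∀ k ∈ φ.ker, ∀ x ∈ F, (k : G) • x = x := fun k hk x hx =>
    congrArg (fun e : Equiv.Perm F => (e ⟨x, hx⟩ : α)) (MonoidHom.mem_ker.1 hk)
  have hK1 : Nat.card φ.ker ≤ M.card := by
    rw [← Nat.card_eq_finsetCard M]
    refine Nat.card_le_card_of_injective (fun k => (⟨(k.1 : G) • a, Finset.mem_filter.2 ⟨Finset.mem_univ _, ?_⟩⟩ : ↥M)) ?_
    · rw [← hCu _ k.1.2, ua]
      exact fun e => hab (MulAction.injective (k.1 : G) e).symm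
    · intro k k' e
      have ea : (k.1 : G) • a = (k'.1 : G) • a := congrArg Subtype.val e
      have eb : (k.1 : G) • b = (k'.1 : G) • b := by rw [← ua, hCu _ k.1.2, hCu _ k'.1.2, ea]
      obtain ⟨p, hp, q, hq, hpq⟩ := Finset.one_lt_card.1 (show 1 < F.card by omega)
      have hpF := (Finset.mem_filter.1 hp).2
      have hqF := (Finset.mem_filter.1 hq).2
      refine Subtype.ext (Subtype.ext (eq_of_agree h (x := a) (y := b) (z := p) (w := q) ?_ ea eb
        (by rw [hker _ k.2 _ hp, hker _ k'.2 _ hp]) (by rw [hker _ k.2 _ hq, hker _ k'.2 _ hq])))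
      have na : ∀ z ∈ F, a ≠ z ∧ b ≠ z := fun z hz => by
        have hzF := (Finset.mem_filter.1 hz).2
        exact ⟨fun e => hab.symm (by rw [← e, ua] at hzF; exact hzF),
          fun e => hab (by rw [← e, ub] at hzF; exact hzF)⟩
      simp [hab, na p hp, na q hq, hpq]
  have hdiv : Nat.card φ.range ∣ F.card.factorial := by
    have := Subgroup.card_subgroup_dvd_card φ.range
    rwa [Nat.card_perm, Nat.card_eq_finsetCard] at this
  have hprod : Nat.card φ.ker * Nat.card φ.range = M.card * (M.card - 2) := by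
    rw [← hCT, ← φ.ker.card_mul_index, Subgroup.index_ker]
  have hKdvd : F.card = 3 → Nat.card φ.ker ∣ Fintype.card α - 3 := by
    intro h3
    obtain ⟨p, q, r, hpq, hpr, hqr, hF⟩ := Finset.card_eq_three.1 h3
    let S : Subgroup G := stabilizer G p ⊓ stabilizer G q ⊓ stabilizer G r
    have hS : Nat.card S = Fintype.card α - 3 := by
      rw [← h3, ← Finset.card_compl, ← Nat.card_eq_finsetCard]
      obtain ⟨z, hz⟩ : ∃ z, z ∈ Fᶜ := Finset.card_pos.1 (by rw [Finset.card_compl]; omega)
      have hzF : z ≠ p ∧ z ≠ q ∧ z ≠ r := by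
        rw [Finset.mem_compl, hF] at hz
        simpa using hz
      have hn4 : List.Nodup [p, q, r, z] := by simp [hpq, hpr, hqr, hzF.1.symm, hzF.2.1.symm, hzF.2.2.symm]
      refine Nat.card_eq_of_bijective (fun g => (⟨g.1 • z, ?_⟩ : ↥Fᶜ)) ⟨fun g g' e => ?_, fun y => ?_⟩
      · obtain ⟨⟨g1, g2⟩, g3⟩ := g.2
        rw [Finset.mem_compl, hF]
        simp only [Finset.mem_insert, Finset.mem_singleton, not_or]
        exact ⟨fun e => hzF.1 (MulAction.injective g.1 (e.trans g1.symm)),
          fun e => hzF.2.1 (MulAction.injective g.1 (e.trans g2.symm)),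
          fun e => hzF.2.2 (MulAction.injective g.1 (e.trans g3.symm))⟩
      · obtain ⟨⟨g1, g2⟩, g3⟩ := g.2
        obtain ⟨⟨k1, k2⟩, k3⟩ := g'.2
        exact Subtype.ext (eq_of_agree h hn4 (g1.trans k1.symm) (g2.trans k2.symm) (g3.trans k3.symm)
          (congrArg Subtype.val e))
      · obtain ⟨y, hy⟩ := y
        rw [Finset.mem_compl, hF] at hy
        simp only [Finset.mem_insert, Finset.mem_singleton, not_or] at hy
        obtain ⟨g, g1, g2, g3, g4⟩ := exists_four h hn4
          (show List.Nodup [p, q, r, y] by simp [hpq, hpr, hqr, Ne.symm hy.1, Ne.symm hy.2.1, Ne.symm hy.2.2])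
        exact ⟨⟨g, ⟨⟨g1, g2⟩, g3⟩⟩, Subtype.ext g4⟩
    rw [← hS]
    refine Subgroup.card_dvd_of_injective
      ({ toFun := fun k => ⟨(k.1 : G), ⟨⟨hker _ k.2 p (by simp [hF]), hker _ k.2 q (by simp [hF])⟩,
          hker _ k.2 r (by simp [hF])⟩⟩
         map_one' := rfl
         map_mul' := fun _ _ => rfl } : φ.ker →* S) ?_
    intro k k' e
    exact Subtype.ext (Subtype.ext (congrArg (fun z : S => (z : G)) e))
  -- parity
  have hM2 : 4 ≤ M.card := by omega
  have hrl := Nat.le_of_dvd (Nat.factorial_pos _) hdiv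
  rcases (by omega : F.card = 2 ∨ F.card = 3) with hf | hf <;> rw [hf] at hrl hdiv
  · exfalso
    rw [show Nat.factorial 2 = 2 from rfl] at hrl
    have h1 : Nat.card φ.ker * Nat.card φ.range ≤ M.card * 2 := Nat.mul_le_mul hK1 hrl
    rw [hprod] at h1
    have := Nat.le_of_mul_le_mul_left h1 (by omega)
    omega
  · rw [show Nat.factorial 3 = 6 from rfl] at hrl hdiv
    have h1 : Nat.card φ.ker * Nat.card φ.range ≤ M.card * 6 := Nat.mul_le_mul hK1 hrl
    rw [hprod] at h1
    have h2 := Nat.le_of_mul_le_mul_left h1 (by omega)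
    have heven : Even M.card := by
      rw [even_iff_two_dvd]
      have hinv : (M.map ⟨fun x => u • x, MulAction.injective u⟩) = M := by
        refine Finset.eq_of_subset_of_card_le (fun x hx => ?_) (by rw [Finset.card_map])
        obtain ⟨z, hz, rfl⟩ := Finset.mem_map.1 hx
        exact Finset.mem_filter.2 ⟨Finset.mem_univ _,
          fun e => (Finset.mem_filter.1 hz).2 (MulAction.injective u e)⟩
      have hsum : ∑ x ∈ M, (1 : ZMod 2) = 0 := by
        refine Finset.sum_involution (fun x _ => u • x) (fun _ _ => by decide)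
          (fun x hx _ => (Finset.mem_filter.1 hx).2) (fun x hx => ?_) (fun x _ => huu x)
        exact Finset.mem_filter.2 ⟨Finset.mem_univ _, fun e => (Finset.mem_filter.1 hx).2
          (MulAction.injective u e)⟩
      rw [Finset.sum_const, nsmul_one] at hsum
      exact (ZMod.natCast_eq_zero_iff_even.1 hsum).two_dvd
    obtain ⟨j, hj⟩ := heven
    rcases (by omega : M.card = 4 ∨ M.card = 6 ∨ M.card = 8) with hm | hm | hm
    · left; omega
    · exfalso
      have hk6 := hKdvd hf
      rw [show Fintype.card α - 3 = 6 by omega] at hk6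
      have h36 := Nat.mul_dvd_mul hk6 hdiv
      rw [hprod, hm] at h36
      norm_num at h36
    · right; omega

theorem not_degree_seven [Finite G] [Finite α] [FaithfulSMul G α] (h : Sharp G α 4) :
    Nat.card α ≠ 7 := by
  intro hα
  have hG : Nat.card G = 840 := by rw [card_eq h (by omega), hα]; decide
  haveI : Fact (Nat.Prime 7) := ⟨by norm_num⟩
  have : Nonempty α := (Nat.card_pos_iff.1 (by omega)).1
  obtain ⟨P⟩ : Nonempty (Sylow 7 G) := inferInstance
  have hPc : Nat.card (P : Subgroup G) = 7 := by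
    rw [P.card_eq_multiplicity, hG, show (840 : ℕ) = 7 * 120 by norm_num,
      Nat.factorization_mul (by norm_num) (by norm_num), Finsupp.add_apply,
      Nat.Prime.factorization_self (by norm_num),
      Nat.factorization_eq_zero_of_not_dvd (show ¬ 7 ∣ 120 by norm_num), pow_one]
  obtain ⟨d, m, hd, hN, hc, hm⟩ := Simplicity.exists_card_normalizer hα P hPc
  have hd1 : d = 1 := by
    rw [hG, mul_assoc] at hc
    have hdm : d * m = 120 := by omega
    have h6 : d ∣ 6 := hd
    have := Nat.le_of_dvd (by norm_num) h6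
    interval_cases d <;> omega
  subst hd1
  have hNP : Subgroup.normalizer ((P : Subgroup G) : Set G) = P :=
    (Subgroup.eq_of_le_of_card_ge Subgroup.le_normalizer (by rw [hN, hPc])).symm
  haveI := isCyclic_of_prime_card hPc
  have hnc : Subgroup.normalizer ((P : Subgroup G) : Set G) ≤ Subgroup.centralizer ((P : Subgroup G) : Set G) := by
    rw [hNP]; exact Subgroup.le_centralizer_iff_isMulCommutative.2 inferInstance
  have hcompl := MonoidHom.ker_transferSylow_isComplement' P hnc
  let K := (MonoidHom.transferSylow P hnc).ker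
  have hK : Nat.card K = 120 := by
    have : Nat.card K * Nat.card (P : Subgroup G) = Nat.card G := hcompl.card_mul
    rw [hPc, hG] at this
    omega
  haveI : IsPretransitive G α := ⟨fun x y => by
    obtain ⟨e⟩ : Nonempty (Fin 4 ↪ α) := by
      haveI := Fintype.ofFinite α
      rw [Function.Embedding.nonempty_iff_card_le, Fintype.card_fin, ← Nat.card_eq_fintype_card, hα]
      norm_num
    classical
    obtain ⟨g, hg, -⟩ := h (e.trans (Equiv.swap (e 0) x).toEmbedding) (e.trans (Equiv.swap (e 0) y).toEmbedding)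
    have := congrArg (fun f : Fin 4 ↪ α => f 0) hg
    exact ⟨g, by simpa using this⟩⟩
  haveI : IsPreprimitive G α := IsPreprimitive.of_prime_card (hα ▸ (by norm_num : Nat.Prime 7))
  have hne : K ≠ ⊥ := fun e => by rw [e, Subgroup.card_bot] at hK; omega
  have h7 := Simplicity.card_dvd_of_pretransitive (Simplicity.pretransitive_of_normal (α := α) hne)
  rw [hα, hK] at h7
  norm_num at h7

theorem degree_four [Finite G] [Finite α] [FaithfulSMul G α] (h : Sharp G α 4) (hn : 4 ≤ Nat.card α) :
    Nat.card α = 4 ∨ Nat.card α = 5 ∨ Nat.card α = 6 ∨ Nat.card α = 11 := by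
  by_cases h7 : 7 ≤ Nat.card α
  · rcases degree_four_aux h h7 with e | e
    · exact absurd e (not_degree_seven h)
    · exact Or.inr (Or.inr (Or.inr e))
  · omega

theorem card_others [Finite α] (a : α) : Nat.card {x // x ≠ a} = Nat.card α - 1 := by
  classical
  haveI := Fintype.ofFinite α
  rw [Nat.card_eq_fintype_card, Nat.card_eq_fintype_card, Fintype.card_subtype_compl,
    Fintype.card_subtype_eq]

theorem degree_five [Finite G] [Finite α] [FaithfulSMul G α] (h : Sharp G α 5) (hn : 5 ≤ Nat.card α) :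
    Nat.card α = 5 ∨ Nat.card α = 6 ∨ Nat.card α = 7 ∨ Nat.card α = 12 := by
  obtain ⟨a⟩ := (Nat.card_pos_iff.1 (show 0 < Nat.card α by omega)).1
  letI := stabAction (G := G) a
  haveI := stab_faithful (G := G) a
  have := degree_four (h.stab a) (by rw [card_others]; omega)
  rw [card_others] at this
  omega

theorem no_thirteen [Finite G] [Finite α] [FaithfulSMul G α] (h : Sharp G α 6) : Nat.card α ≠ 13 := by
  intro hα
  have hG : Nat.card G = 1235520 := by rw [card_eq h (by omega), hα]; decide
  haveI : Fact (Nat.Prime 13) := ⟨by norm_num⟩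
  obtain ⟨P⟩ : Nonempty (Sylow 13 G) := inferInstance
  have hPc : Nat.card (P : Subgroup G) = 13 := by
    rw [P.card_eq_multiplicity, hG, show (1235520 : ℕ) = 13 * 95040 by norm_num,
      Nat.factorization_mul (by norm_num) (by norm_num), Finsupp.add_apply,
      Nat.Prime.factorization_self (by norm_num),
      Nat.factorization_eq_zero_of_not_dvd (show ¬ 13 ∣ 95040 by norm_num), pow_one]
  obtain ⟨d, m, hd, -, hc, hm⟩ := Simplicity.exists_card_normalizer hα P hPc
  rw [hG, mul_assoc] at hc
  have hdm : d * m = 95040 := by omega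
  have h12 : d ∣ 12 := hd
  have := Nat.le_of_dvd (by norm_num) h12
  interval_cases d <;> omega

theorem degree_large : ∀ (j : ℕ) {G α : Type*} [Group G] [MulAction G α] [Finite G] [Finite α]
    [FaithfulSMul G α], Sharp G α (6 + j) → 6 + j ≤ Nat.card α →
      Nat.card α = 6 + j ∨ Nat.card α = 6 + j + 1 ∨ Nat.card α = 6 + j + 2 := by
  intro j
  induction j with
  | zero =>
    intro G α _ _ _ _ _ h hn
    obtain ⟨a⟩ := (Nat.card_pos_iff.1 (show 0 < Nat.card α by omega)).1
    letI := stabAction (G := G) a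
    haveI := stab_faithful (G := G) a
    have h5 := degree_five (h.stab a) (by rw [card_others]; omega)
    rw [card_others] at h5
    have := no_thirteen h
    omega
  | succ j ih =>
    intro G α _ _ _ _ _ h hn
    obtain ⟨a⟩ := (Nat.card_pos_iff.1 (show 0 < Nat.card α by omega)).1
    letI := stabAction (G := G) a
    haveI := stab_faithful (G := G) a
    have h5 := ih (h.stab a) (by rw [card_others]; omega)
    rw [card_others] at h5
    omega

end CfsgLib.Sporadic.Jordan
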