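import Mathlib

/-!
Poisson summation over `ℤ^ι` for continuous functions with Gaussian decay.
-/

set_option autoImplicit false

namespace CfsgLib.Sporadic.Theta

open MeasureTheory Filter Topology Real
open scoped BigOperators

variable {ι : Type*} [Fintype ι]

theorem summable_exp_neg_int_sq {a : ℝ} (ha : 0 < a) :
    Summable fun n : ℤ => Real.exp (-a * (n : ℝ) ^ 2) := by
  have h : Summable fun k : ℕ => Real.exp (-a * (k : ℝ) ^ 2) := by
    refine (Real.summable_exp_nat_mul_iff.mpr (neg_lt_zero.mpr ha)).of_nonneg_of_le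
      (fun k => (Real.exp_pos _).le) fun k => Real.exp_le_exp.mpr ?_
    have : (k : ℝ) ≤ (k : ℝ) ^ 2 := by exact_mod_cast Nat.le_self_pow two_ne_zero k
    nlinarith
  refine Summable.of_nat_of_neg ?_ ?_
  · simpa using h
  · simpa using h

theorem summable_pi_prod_fin {g : ℤ → ℝ} (hg : Summable g) (h0 : ∀ n, 0 ≤ g n) :
    ∀ k : ℕ, Summable fun x : Fin k → ℤ => ∏ i, g (x i) := by
  intro k
  induction k with
  | zero => exact Summable.of_finite
  | succ k ih =>
    rw [← (Fin.consEquiv fun _ : Fin (k + 1) => ℤ).summable_iff]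
    have h := hg.mul_of_nonneg ih h0 (fun x => Finset.prod_nonneg fun i _ => h0 _)
    refine h.congr fun p => ?_
    simp [Fin.prod_univ_succ]

theorem summable_pi_prod {g : ℤ → ℝ} (hg : Summable g) (h0 : ∀ n, 0 ≤ g n) :
    Summable fun x : ι → ℤ => ∏ i, g (x i) := by
  let e := Fintype.equivFin ι
  rw [← (Equiv.arrowCongr e (Equiv.refl ℤ)).symm.summable_iff]
  refine (summable_pi_prod_fin hg h0 _).congr fun x => ?_
  exact (Fintype.prod_equiv e _ _ fun i => by simp [Equiv.arrowCongr]).symm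

/-- The integer vector `n` as a real vector. -/
def intVec (n : ι → ℤ) : ι → ℝ := fun i => (n i : ℝ)

theorem summable_gauss {a : ℝ} (ha : 0 < a) :
    Summable fun n : ι → ℤ => Real.exp (-a * ∑ i, (n i : ℝ) ^ 2) := by
  refine (summable_pi_prod (summable_exp_neg_int_sq ha) fun n => (Real.exp_pos _).le).congr
    fun n => ?_
  rw [← Real.exp_sum, Finset.mul_sum]

theorem gauss_shift_le {a R : ℝ} (ha : 0 ≤ a) {x : ι → ℝ} (hx : ∑ i, x i ^ 2 ≤ R) (n : ι → ℤ) :
    Real.exp (-a * ∑ i, (x i + n i) ^ 2)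
      ≤ Real.exp (a * R) * Real.exp (-(a / 2) * ∑ i, (n i : ℝ) ^ 2) := by
  rw [← Real.exp_add]
  refine Real.exp_le_exp.mpr ?_
  have h : ∑ i, (n i : ℝ) ^ 2 ≤ 2 * ∑ i, (x i + n i) ^ 2 + 2 * ∑ i, x i ^ 2 := by
    rw [Finset.mul_sum, Finset.mul_sum, ← Finset.sum_add_distrib]
    refine Finset.sum_le_sum fun i _ => ?_
    nlinarith [sq_nonneg (2 * x i + (n i : ℝ))]
  nlinarith

theorem integrable_gauss {a : ℝ} (ha : 0 < a) :
    Integrable fun v : ι → ℝ => Real.exp (-a * ∑ i, v i ^ 2) := by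
  have : (fun v : ι → ℝ => Real.exp (-a * ∑ i, v i ^ 2))
      = fun v => ∏ i, Real.exp (-a * v i ^ 2) := by
    funext v; rw [← Real.exp_sum, Finset.mul_sum]
  rw [this]
  exact Integrable.fintype_prod fun _ => integrable_exp_neg_mul_sq ha

/-- The Fourier integral at an integral frequency. -/
noncomputable def fourierAt (f : (ι → ℝ) → ℂ) (m : ι → ℤ) : ℂ :=
  ∫ v : ι → ℝ, Complex.exp (-(2 * π * Complex.I) * ∑ i, (m i : ℂ) * v i) * f v

theorem norm_char (m : ι → ℤ) (v : ι → ℝ) :
    ‖Complex.exp (-(2 * π * Complex.I) * ∑ i, (m i : ℂ) * v i)‖ = 1 := by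
  have : -(2 * π * Complex.I) * ∑ i, (m i : ℂ) * v i
      = ((-(2 * π * ∑ i, (m i : ℝ) * v i) : ℝ) : ℂ) * Complex.I := by
    push_cast; ring
  rw [this, Complex.norm_exp_ofReal_mul_I]

variable {f : (ι → ℝ) → ℂ} {a : ℝ}

/-- The periodization. -/
noncomputable def periodize (f : (ι → ℝ) → ℂ) (x : ι → ℝ) : ℂ :=
  ∑' n : ι → ℤ, f (x + intVec n)

theorem periodize_add_int (x : ι → ℝ) (k : ι → ℤ) :
    periodize f (x + intVec k) = periodize f x := by
  unfold periodize
  rw [← (Equiv.addLeft k).tsum_eq fun n => f (x + intVec n)]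
  refine tsum_congr fun n => ?_
  congr 1
  funext i
  simp [intVec, add_assoc]

theorem continuous_periodize (hf : Continuous f) (ha : 0 < a)
    (hb : ∀ v, ‖f v‖ ≤ Real.exp (-a * ∑ i, v i ^ 2)) : Continuous (periodize f) := by
  refine continuous_iff_continuousAt.mpr fun x => ?_
  set U := {y : ι → ℝ | ∑ i, y i ^ 2 < ∑ i, x i ^ 2 + 1}
  have hU : IsOpen U := isOpen_lt (by fun_prop) continuous_const
  have hxU : x ∈ U := by simp [U]
  refine (continuousOn_tsum (f := fun (n : ι → ℤ) (y : ι → ℝ) => f (y + intVec n))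
    (u := fun n : ι → ℤ =>
    Real.exp (a * (∑ i, x i ^ 2 + 1)) * Real.exp (-(a / 2) * ∑ i, (n i : ℝ) ^ 2))
    (fun n => (hf.comp (continuous_add_right (intVec n))).continuousOn)
    ((summable_gauss (half_pos ha)).mul_left _) fun n y hy => ?_).continuousAt (hU.mem_nhds hxU)
  exact (hb _).trans (gauss_shift_le ha.le (le_of_lt hy) n)

/-- The periodization on the torus. -/
noncomputable def torusFun (f : (ι → ℝ) → ℂ) (t : UnitAddTorus ι) : ℂ :=
  periodize f fun i => (AddCircle.equivIco (1 : ℝ) 0 (t i) : ℝ)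

theorem torusFun_coe (x : ι → ℝ) :
    torusFun f (fun i => (x i : UnitAddCircle)) = periodize f x := by
  have h : ∀ i, ∃ k : ℤ, x i - (AddCircle.equivIco (1 : ℝ) 0 (x i : UnitAddCircle) : ℝ) = k := by
    intro i
    obtain ⟨k, hk⟩ := (AddCircle.coe_eq_zero_iff (1 : ℝ)).1
      (show ((x i - (AddCircle.equivIco (1 : ℝ) 0 (x i : UnitAddCircle) : ℝ) : ℝ) : UnitAddCircle)
        = 0 by rw [AddCircle.coe_sub, AddCircle.coe_equivIco, sub_self])
    exact ⟨k, by rw [← hk]; simp⟩
  choose k hk using h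
  show periodize f _ = _
  rw [← periodize_add_int _ k]
  congr 1
  funext i
  simp only [Pi.add_apply, intVec, ← hk i]
  ring

theorem continuous_torusFun (hf : Continuous f) (ha : 0 < a)
    (hb : ∀ v, ‖f v‖ ≤ Real.exp (-a * ∑ i, v i ^ 2)) : Continuous (torusFun f) := by
  have hq : IsOpenQuotientMap (Pi.map fun (_ : ι) (r : ℝ) => (r : UnitAddCircle)) :=
    IsOpenQuotientMap.piMap fun _ => QuotientAddGroup.isOpenQuotientMap_mk
  rw [← hq.continuous_comp_iff]
  exact (continuous_periodize hf ha hb).congr fun x => (torusFun_coe x).symm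

theorem mFourier_coe (m : ι → ℤ) (x : ι → ℝ) :
    UnitAddTorus.mFourier (-m) (fun i => (x i : UnitAddCircle)) =
      Complex.exp (-(2 * π * Complex.I) * ∑ i, (m i : ℂ) * x i) := by
  show (∏ i, fourier ((-m) i) (x i : UnitAddCircle)) = _
  rw [Finset.mul_sum, Complex.exp_sum]
  refine Finset.prod_congr rfl fun i _ => ?_
  rw [fourier_coe_apply]
  congr 1
  simp only [Pi.neg_apply, Int.cast_neg, Complex.ofReal_one, div_one]
  ring

/-- The unit cube based at an integral point. -/
def cube (n : ι → ℤ) : Set (ι → ℝ) := {v | ∀ i, v i ∈ Set.Ioc (n i : ℝ) (n i + 1)}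

theorem measurableSet_cube (n : ι → ℤ) : MeasurableSet (cube n) := by
  have : cube n = Set.univ.pi fun i => Set.Ioc (n i : ℝ) (n i + 1) := by
    ext v; simp [cube, Set.mem_pi]
  rw [this]
  exact MeasurableSet.univ_pi fun _ => measurableSet_Ioc

theorem cube_floor {n : ι → ℤ} {v : ι → ℝ} (hv : v ∈ cube n) (i : ι) : ⌈v i⌉ = n i + 1 := by
  rw [Int.ceil_eq_iff]
  push_cast
  obtain ⟨h1, h2⟩ := hv i
  exact ⟨by linarith, h2⟩

theorem pairwise_cube : Pairwise (fun n k : ι → ℤ => Disjoint (cube n) (cube k)) := by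
  intro n k hnk
  rw [Set.disjoint_left]
  intro v hv hv'
  exact hnk (funext fun i => by have h1 := cube_floor hv i; have h2 := cube_floor hv' i; omega)

theorem iUnion_cube : (⋃ n : ι → ℤ, cube n) = Set.univ := by
  refine Set.eq_univ_of_forall fun v => Set.mem_iUnion.mpr ⟨fun i => ⌈v i⌉ - 1, fun i => ?_⟩
  push_cast
  exact ⟨by linarith [Int.ceil_lt_add_one (v i)], by linarith [Int.le_ceil (v i)]⟩

theorem setIntegral_shift (g : (ι → ℝ) → ℂ) (n : ι → ℤ) :
    ∫ x in cube (0 : ι → ℤ), g (x + intVec n) = ∫ x in cube n, g x := by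
  have hpre : (fun x : ι → ℝ => x + intVec n) ⁻¹' cube n = cube (0 : ι → ℤ) := by
    ext x
    simp only [cube, intVec, Set.mem_preimage, Set.mem_Ioc, Set.mem_ofPred_eq, Pi.add_apply,
      Pi.zero_apply, Int.cast_zero]
    refine forall_congr' fun i => ⟨fun h => ⟨by linarith [h.1], by linarith [h.2]⟩,
      fun h => ⟨by linarith [h.1], by linarith [h.2]⟩⟩
  rw [← hpre]
  exact (measurePreserving_add_right volume (intVec n)).setIntegral_preimage_emb
    (MeasurableEquiv.addRight (intVec n)).measurableEmbedding g (cube n)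

theorem mFourierCoeff_torusFun (hf : Continuous f) (ha : 0 < a)
    (hb : ∀ v, ‖f v‖ ≤ Real.exp (-a * ∑ i, v i ^ 2)) (m : ι → ℤ) :
    UnitAddTorus.mFourierCoeff (torusFun f) m = fourierAt f m := by
  set e : (ι → ℝ) → ℂ := fun v => Complex.exp (-(2 * π * Complex.I) * ∑ i, (m i : ℂ) * v i)
    with he
  have hec : Continuous e := by rw [he]; fun_prop
  have heper : ∀ (x : ι → ℝ) (n : ι → ℤ), e (x + intVec n) = e x := by
    intro x n
    simp only [he, intVec, Pi.add_apply, Complex.ofReal_add, Complex.ofReal_intCast, mul_add,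
      Finset.sum_add_distrib]
    rw [Complex.exp_add]
    convert mul_one _
    rw [Complex.exp_eq_one_iff]
    exact ⟨-∑ i, m i * n i, by push_cast; ring⟩
  rw [UnitAddTorus.mFourierCoeff_eq_integral (torusFun f) m 0]
  have hS : {x : ι → ℝ | ∀ i, x i ∈ Set.Ioc ((0 : ι → ℝ) i) ((0 : ι → ℝ) i + 1)}
      = cube (0 : ι → ℤ) := by simp [cube]
  rw [hS]
  simp only [torusFun_coe, mFourier_coe, smul_eq_mul]
  have hint : Integrable fun v => e v * f v := by
    refine (integrable_gauss ha).mono' (hec.mul hf).aestronglyMeasurable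
      (ae_of_all _ fun v => ?_)
    rw [norm_mul, he, norm_char, one_mul]
    exact hb v
  have hterm : ∀ n : ι → ℤ, IntegrableOn (fun x => e x * f (x + intVec n)) (cube 0) := fun n => by
    have h := hint.comp_add_right (intVec n)
    simp only [heper] at h
    exact h.integrableOn
  have hfin : volume (cube (0 : ι → ℤ)) ≠ ⊤ := by
    have : cube (0 : ι → ℤ) = Set.univ.pi fun _ : ι => Set.Ioc (0 : ℝ) 1 := by
      ext v; simp [cube, Set.mem_pi]
    rw [this, volume_pi, Measure.pi_pi]
    simp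
  have hsum : Summable fun n : ι → ℤ => ∫ x in cube (0 : ι → ℤ), ‖e x * f (x + intVec n)‖ := by
    refine (((summable_gauss (ι := ι) (half_pos ha)).mul_left
      (Real.exp (a * Fintype.card ι))).mul_right (volume.real (cube (0 : ι → ℤ)))).of_nonneg_of_le
      (fun n => integral_nonneg fun x => norm_nonneg _) fun n => ?_
    refine (Real.le_norm_self _).trans
      (norm_setIntegral_le_of_norm_le_const hfin.lt_top fun x hx => ?_)
    rw [Real.norm_eq_abs, abs_norm, norm_mul, he, norm_char, one_mul]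
    refine (hb _).trans (gauss_shift_le ha.le ?_ n)
    calc ∑ i, x i ^ 2 ≤ ∑ _i : ι, (1 : ℝ) := Finset.sum_le_sum fun i _ => by
          obtain ⟨h1, h2⟩ := hx i
          simp only [Pi.zero_apply, Int.cast_zero] at h1 h2
          nlinarith
      _ = Fintype.card ι := by simp
  calc ∫ x in cube (0 : ι → ℤ), e x * periodize f x
      = ∫ x in cube (0 : ι → ℤ), ∑' n, e x * f (x + intVec n) := by
        simp only [periodize, tsum_mul_left]
    _ = ∑' n, ∫ x in cube (0 : ι → ℤ), e x * f (x + intVec n) :=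
        (hasSum_integral_of_summable_integral_norm hterm hsum).tsum_eq.symm
    _ = ∑' n, ∫ x in cube n, e x * f x := tsum_congr fun n => by
        rw [← setIntegral_shift (fun x => e x * f x) n]
        simp only [heper]
    _ = ∫ x in ⋃ n, cube n, e x * f x :=
        (integral_iUnion measurableSet_cube pairwise_cube hint.integrableOn).symm
    _ = fourierAt f m := by rw [iUnion_cube, setIntegral_univ]; rfl

/-- Poisson summation on `ℤ^ι`. -/
theorem poisson (hf : Continuous f) (ha : 0 < a)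
    (hb : ∀ v, ‖f v‖ ≤ Real.exp (-a * ∑ i, v i ^ 2)) (hs : Summable (fourierAt f)) :
    ∑' n : ι → ℤ, f (intVec n) = ∑' m, fourierAt f m := by
  have hcoef : UnitAddTorus.mFourierCoeff (torusFun f) = fourierAt f :=
    funext (mFourierCoeff_torusFun hf ha hb)
  have h := UnitAddTorus.hasSum_mFourier_series_apply_of_summable
    (f := ⟨torusFun f, continuous_torusFun hf ha hb⟩) (hcoef.symm ▸ hs) 0
  have h0 : torusFun f 0 = ∑' n : ι → ℤ, f (intVec n) := by
    have := torusFun_coe (f := f) (0 : ι → ℝ)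
    simp only [periodize, zero_add, Pi.zero_apply, AddCircle.coe_zero] at this
    exact this
  rw [← h0]
  refine (h.tsum_eq.symm.trans (tsum_congr fun m => ?_))
  rw [ContinuousMap.coe_mk, hcoef]
  simp [UnitAddTorus.mFourier]

end CfsgLib.Sporadic.Theta
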