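import Mathlib
import Cfsg.Agent.Lib.Sporadic.LatticePoisson

/-!
The theta series of an even unimodular positive lattice of rank 24, and its first coefficients.
-/

set_option autoImplicit false

namespace CfsgLib.Sporadic.Theta

open MeasureTheory Filter Topology Real Matrix UpperHalfPlane ModularForm EisensteinSeries
open scoped BigOperators MatrixGroups Manifold Matrix.Norms.L2Operator MatrixOrder

variable (B : Matrix (Fin 24) (Fin 24) ℤ)

/-- The quadratic form on integral vectors. -/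
def qz (x : Fin 24 → ℤ) : ℤ := x ⬝ᵥ (B *ᵥ x)

/-- The matrix over the reals. -/
def realMat : Matrix (Fin 24) (Fin 24) ℝ := B.map (Int.cast : ℤ → ℝ)

/-- The quadratic form on real vectors. -/
def qr (v : Fin 24 → ℝ) : ℝ := v ⬝ᵥ (realMat B *ᵥ v)

theorem qr_intVec (x : Fin 24 → ℤ) : qr B (intVec x) = (qz B x : ℝ) := by
  simp only [qr, qz, realMat, intVec, dotProduct, mulVec, Matrix.map_apply]
  push_cast
  rfl

theorem qr_smul (r : ℝ) (v : Fin 24 → ℝ) : qr B (r • v) = r ^ 2 * qr B v := by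
  simp only [qr, mulVec_smul, smul_dotProduct, dotProduct_smul, smul_eq_mul]
  ring

theorem continuous_qr : Continuous (qr B) := by
  unfold qr dotProduct mulVec dotProduct
  fun_prop

section Lattice

variable (hsymm : B.IsSymm) (hpos : ∀ x : Fin 24 → ℤ, x ≠ 0 → 0 < qz B x) (hdet : B.det = 1)

include hpos in
theorem qr_nonneg (v : Fin 24 → ℝ) : 0 ≤ qr B v := by
  have hN : Tendsto (fun N : ℕ => ((N : ℝ) + 1)) atTop atTop :=
    tendsto_atTop_add_const_right _ _ tendsto_natCast_atTop_atTop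
  have hw : Tendsto (fun N : ℕ => ((N : ℝ) + 1)⁻¹ • intVec (fun i => ⌊v i * ((N : ℝ) + 1)⌋))
      atTop (𝓝 v) := by
    rw [tendsto_pi_nhds]
    intro i
    have h := tendsto_inv_atTop_zero.comp hN
    refine tendsto_of_tendsto_of_tendsto_of_le_of_le
      (g := fun N : ℕ => v i - ((N : ℝ) + 1)⁻¹) (h := fun _ => v i) ?_ tendsto_const_nhds
      (fun N => ?_) (fun N => ?_)
    · simpa using (tendsto_const_nhds (x := v i)).sub h
    · have hp : (0 : ℝ) < (N : ℝ) + 1 := by positivity
      simp only [Pi.smul_apply, intVec, smul_eq_mul]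
      have := Int.sub_one_lt_floor (v i * ((N : ℝ) + 1))
      have h2 : ((N : ℝ) + 1)⁻¹ * (v i * ((N : ℝ) + 1) - 1) = v i - ((N : ℝ) + 1)⁻¹ := by
        field_simp
      rw [← h2]
      exact mul_le_mul_of_nonneg_left this.le (inv_pos.mpr hp).le
    · have hp : (0 : ℝ) < (N : ℝ) + 1 := by positivity
      simp only [Pi.smul_apply, intVec, smul_eq_mul]
      have := Int.floor_le (v i * ((N : ℝ) + 1))
      rw [inv_mul_le_iff₀ hp]
      linarith
  refine ge_of_tendsto' (((continuous_qr B).tendsto v).comp hw) fun N => ?_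
  simp only [Function.comp_apply, qr_smul, qr_intVec]
  refine mul_nonneg (sq_nonneg _) (Int.cast_nonneg ?_)
  rcases eq_or_ne (fun i => ⌊v i * ((N : ℝ) + 1)⌋) 0 with h | h
  · rw [h]; simp [qz]
  · exact (hpos _ h).le

include hsymm hpos hdet in
theorem exists_factor : ∃ L : Matrix (Fin 24) (Fin 24) ℝ, |L.det| = 1 ∧ realMat B = Lᵀ * L := by
  have hH : (realMat B).IsHermitian := by
    ext i j
    simp [realMat, hsymm.apply i j]
  have hS : (realMat B).PosSemidef :=
    PosSemidef.of_dotProduct_mulVec_nonneg hH fun v => by simpa [qr] using qr_nonneg B hpos v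
  obtain ⟨L, hL⟩ := CStarAlgebra.nonneg_iff_eq_star_mul_self.mp hS.nonneg
  rw [star_eq_conjTranspose, conjTranspose_eq_transpose_of_trivial] at hL
  refine ⟨L, ?_, hL⟩
  have h1 : (realMat B).det = 1 := by
    have := RingHom.map_det (Int.castRingHom ℝ) B
    rw [hdet, map_one] at this
    exact this.symm
  rw [hL, det_mul, det_transpose] at h1
  rcases mul_self_eq_one_iff.mp h1 with h | h <;> simp [h]

variable {L : Matrix (Fin 24) (Fin 24) ℝ} (hLd : |L.det| = 1) (hL : realMat B = Lᵀ * L)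

include hL in
theorem qr_eq_sum (v : Fin 24 → ℝ) : qr B v = ∑ i, (L *ᵥ v) i ^ 2 := by
  rw [qr, hL, ← mulVec_mulVec, dotProduct_mulVec, vecMul_transpose, dotProduct]
  simp only [sq]

include hL hLd in
theorem exists_lower : ∃ c : ℝ, 0 < c ∧ ∀ v : Fin 24 → ℝ, c * ∑ i, v i ^ 2 ≤ qr B v := by
  have hu : IsUnit L.det := isUnit_iff_ne_zero.mpr fun h => by simp [h] at hLd
  set K := ∑ i, ∑ j, L⁻¹ i j ^ 2 with hK
  have hK0 : 0 ≤ K := Finset.sum_nonneg fun i _ => Finset.sum_nonneg fun j _ => sq_nonneg _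
  refine ⟨(K + 1)⁻¹, by positivity, fun v => ?_⟩
  rw [qr_eq_sum B hL, inv_mul_le_iff₀ (by positivity)]
  have h1 : ∑ i, v i ^ 2 ≤ K * ∑ i, (L *ᵥ v) i ^ 2 := by
    conv_lhs => rw [show v = L⁻¹ *ᵥ (L *ᵥ v) by rw [mulVec_mulVec, nonsing_inv_mul _ hu, one_mulVec]]
    rw [hK, Finset.sum_mul]
    exact Finset.sum_le_sum fun i _ =>
      Finset.sum_mul_sq_le_sq_mul_sq Finset.univ (fun j => L⁻¹ i j) (fun j => (L *ᵥ v) j)
  have h2 : (0 : ℝ) ≤ ∑ i, (L *ᵥ v) i ^ 2 := Finset.sum_nonneg fun i _ => sq_nonneg _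
  nlinarith

end Lattice

/-- A term of the theta series. -/
noncomputable def term (x : Fin 24 → ℤ) (z : ℂ) : ℂ :=
  Complex.exp (π * Complex.I * z * (qz B x : ℂ))

/-- The theta series. -/
noncomputable def theta (z : ℂ) : ℂ := ∑' x, term B x z

/-- The Gaussian attached to a point of the upper half plane. -/
noncomputable def gauss (z : ℂ) (v : Fin 24 → ℝ) : ℂ :=
  Complex.exp (π * Complex.I * z * (qr B v : ℂ))

theorem gauss_intVec (z : ℂ) (x : Fin 24 → ℤ) : gauss B z (intVec x) = term B x z := by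
  simp [gauss, term, qr_intVec]

theorem norm_gauss (z : ℂ) (v : Fin 24 → ℝ) :
    ‖gauss B z v‖ = Real.exp (-(π * z.im) * qr B v) := by
  rw [gauss, Complex.norm_exp]
  congr 1
  simp [Complex.mul_re, Complex.mul_im]

section Analysis

variable {c : ℝ} (hc : 0 < c) (hlow : ∀ v : Fin 24 → ℝ, c * ∑ i, v i ^ 2 ≤ qr B v)

include hc hlow in
theorem norm_gauss_le {z : ℂ} {e : ℝ} (he : 0 ≤ e) (hez : e ≤ z.im) (v : Fin 24 → ℝ) :
    ‖gauss B z v‖ ≤ Real.exp (-(π * e * c) * ∑ i, v i ^ 2) := by
  rw [norm_gauss]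
  refine Real.exp_le_exp.mpr ?_
  have h1 := hlow v
  have h2 : 0 ≤ qr B v - c * ∑ i, v i ^ 2 := by linarith
  have h3 : 0 ≤ ∑ i, v i ^ 2 := Finset.sum_nonneg fun i _ => sq_nonneg _
  nlinarith [mul_nonneg (mul_nonneg pi_pos.le he) h2,
    mul_nonneg (mul_nonneg pi_pos.le (sub_nonneg.mpr hez)) (le_trans (mul_nonneg hc.le h3) h1)]

include hc hlow in
theorem summable_term {z : ℂ} (hz : 0 < z.im) : Summable fun x => term B x z := by
  refine Summable.of_norm_bounded
    (summable_gauss (mul_pos (mul_pos pi_pos hz) hc)) fun x => ?_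
  rw [← gauss_intVec]
  exact norm_gauss_le B hc hlow hz.le le_rfl _

include hc hlow in
theorem finite_level (N : ℤ) : {x | qz B x = N}.Finite := by
  have hs := (summable_term B hc hlow (z := Complex.I) (by simp)).norm
  have ht := hs.tendsto_cofinite_zero
  have := ht.eventually_lt_const (show (0 : ℝ) < Real.exp (-π * N) from Real.exp_pos _)
  refine this.subset fun x hx => ?_
  simp only [Set.mem_compl_iff, Set.mem_ofPred_eq, not_lt] at hx ⊢
  rw [← gauss_intVec, norm_gauss, qr_intVec, hx]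
  simp

include hc hlow in
theorem differentiableOn_theta : DifferentiableOn ℂ (theta B) {z : ℂ | 0 < z.im} := by
  intro z hz
  have hU : IsOpen {w : ℂ | z.im / 2 < w.im} := isOpen_lt continuous_const Complex.continuous_im
  have hzU : z ∈ {w : ℂ | z.im / 2 < w.im} := by
    simp only [Set.mem_ofPred_eq] at hz ⊢; linarith
  have hz2 : 0 < z.im / 2 := half_pos hz
  have h := Complex.differentiableOn_tsum_of_summable_norm (F := fun x w => term B x w)
    (summable_gauss (mul_pos (mul_pos pi_pos hz2) hc))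
    (fun x => by unfold term; fun_prop) hU fun x w hw => by
      rw [← gauss_intVec]
      exact norm_gauss_le B hc hlow hz2.le (le_of_lt hw) _
  exact ((h z hzU).differentiableAt (hU.mem_nhds hzU)).differentiableWithinAt

end Analysis

section Transform

variable (hsymm : B.IsSymm) (hdet : B.det = 1)
  {L : Matrix (Fin 24) (Fin 24) ℝ} (hLd : |L.det| = 1) (hL : realMat B = Lᵀ * L)

include hLd hL in
theorem fourierAt_gauss {z : ℂ} (hz : 0 < z.im) (x : Fin 24 → ℤ) :
    fourierAt (gauss B z) (B *ᵥ x) = 1 / z ^ 12 * term B x (-z⁻¹) := by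
  have hL0 : L.det ≠ 0 := fun h => by simp [h] at hLd
  set b : ℂ := -(π * Complex.I * z) with hb
  have hbre : 0 < b.re := by simp [hb, Complex.mul_re]; positivity
  set cv : Fin 24 → ℂ := fun j => -(2 * π * Complex.I) * ((L *ᵥ intVec x) j : ℂ) with hcv
  set h : (Fin 24 → ℝ) → ℂ := fun u =>
    Complex.exp (-b * ∑ i, (u i : ℂ) ^ 2 + ∑ i, cv i * (u i : ℂ)) with hh
  have hcomp : ∀ v, Complex.exp (-(2 * π * Complex.I) * ∑ i, ((B *ᵥ x) i : ℂ) * v i)
      * gauss B z v = h (toLin' L v) := by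
    intro v
    rw [hh, gauss, ← Complex.exp_add, toLin'_apply]
    congr 1
    have h1 : (qr B v : ℂ) = ∑ i, ((L *ᵥ v) i : ℂ) ^ 2 := by
      rw [qr_eq_sum B hL]; push_cast; rfl
    have h2 : (∑ i, ((B *ᵥ x) i : ℂ) * (v i : ℂ))
        = ∑ j, ((L *ᵥ intVec x) j : ℂ) * ((L *ᵥ v) j : ℂ) := by
      have e : ((fun i => ((B *ᵥ x) i : ℝ)) ⬝ᵥ v : ℝ) = (L *ᵥ intVec x) ⬝ᵥ (L *ᵥ v) := by
        have e1 : (fun i => ((B *ᵥ x) i : ℝ)) = Lᵀ *ᵥ (L *ᵥ intVec x) := by
          rw [mulVec_mulVec, ← hL]
          funext i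
          simp only [realMat, mulVec, dotProduct, intVec, Matrix.map_apply]
          push_cast
          rfl
        rw [e1, mulVec_transpose, ← dotProduct_mulVec]
      have := congrArg (fun r : ℝ => (r : ℂ)) e
      simpa [dotProduct] using this
    rw [h1, h2, hb, hcv, Finset.mul_sum _ _ (-(2 * π * Complex.I))]
    simp only [neg_neg]
    rw [add_comm]
    congr 1
    exact Finset.sum_congr rfl fun i _ => by ring
  have hmap : Measure.map (toLin' L) (volume : Measure (Fin 24 → ℝ)) = volume := by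
    rw [Real.map_matrix_volume_pi_eq_smul_volume_pi hL0, abs_inv, hLd]
    simp
  unfold fourierAt
  simp_rw [hcomp]
  rw [← integral_map (φ := toLin' L) (f := h)
    (toLin' L).continuous_of_finiteDimensional.measurable.aemeasurable
    (by rw [hh]; exact (by fun_prop : Continuous _).aestronglyMeasurable), hmap, hh,
    GaussianFourier.integral_cexp_neg_mul_sum_add hbre cv]
  have hz0 : z ≠ 0 := fun h0 => by simp [h0] at hz
  congr 1
  · rw [show ((Fintype.card (Fin 24) : ℂ) / 2) = ((12 : ℕ) : ℂ) by norm_num, Complex.cpow_natCast, hb]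
    have : (π : ℂ) / -(π * Complex.I * z) = Complex.I / z := by
      have hpi : (π : ℂ) ≠ 0 := Complex.ofReal_ne_zero.mpr pi_ne_zero
      field_simp
      rw [Complex.I_sq]
    rw [this, div_pow, show Complex.I ^ 12 = 1 by
      rw [show (12 : ℕ) = 4 * 3 from rfl, pow_mul, Complex.I_pow_four, one_pow]]
  · rw [term]
    congr 1
    have h1 : (qz B x : ℂ) = ∑ j, ((L *ᵥ intVec x) j : ℂ) ^ 2 := by
      have := qr_intVec B x
      rw [qr_eq_sum B hL] at this
      exact_mod_cast this.symm
    have h2 : ∑ i, cv i ^ 2 = -(4 * π ^ 2 : ℂ) * (qz B x : ℂ) := by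
      rw [h1, Finset.mul_sum]
      refine Finset.sum_congr rfl fun i _ => ?_
      simp only [hcv, mul_pow, neg_sq, Complex.I_sq]
      ring
    rw [h2, hb]
    have hpi : (π : ℂ) ≠ 0 := Complex.ofReal_ne_zero.mpr pi_ne_zero
    field_simp
    ring_nf
    simp [Complex.I_sq]

/-- Multiplication by a unimodular matrix, as a permutation. -/
noncomputable def mulEquiv (hdet : B.det = 1) : (Fin 24 → ℤ) ≃ (Fin 24 → ℤ) where
  toFun x := B *ᵥ x
  invFun x := B.adjugate *ᵥ x
  left_inv x := by
    show B.adjugate *ᵥ (B *ᵥ x) = x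
    rw [mulVec_mulVec, adjugate_mul, hdet, one_smul, one_mulVec]
  right_inv x := by
    show B *ᵥ (B.adjugate *ᵥ x) = x
    rw [mulVec_mulVec, mul_adjugate, hdet, one_smul, one_mulVec]

variable {c : ℝ} (hc : 0 < c) (hlow : ∀ v : Fin 24 → ℝ, c * ∑ i, v i ^ 2 ≤ qr B v)

include hdet hLd hL hc hlow in
theorem theta_inv {z : ℂ} (hz : 0 < z.im) : theta B (-z⁻¹) = z ^ 12 * theta B z := by
  have hz0 : z ≠ 0 := fun h0 => by simp [h0] at hz
  have hw : 0 < (-z⁻¹).im := by
    simp [Complex.inv_im, neg_div]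
    exact div_pos hz (Complex.normSq_pos.mpr hz0)
  have hs : Summable (fourierAt (gauss B z)) := by
    rw [← (mulEquiv B hdet).summable_iff]
    exact ((summable_term B hc hlow hw).mul_left (1 / z ^ 12)).congr
      fun x => (fourierAt_gauss B hLd hL hz x).symm
  have hcont : Continuous (gauss B z) := by
    unfold gauss
    have := continuous_qr B
    fun_prop
  have hp := poisson hcont (mul_pos (mul_pos pi_pos hz) hc)
    (norm_gauss_le B hc hlow hz.le le_rfl) hs
  simp only [gauss_intVec] at hp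
  rw [← (mulEquiv B hdet).tsum_eq (fourierAt (gauss B z))] at hp
  have he : ∀ x, fourierAt (gauss B z) (mulEquiv B hdet x) = 1 / z ^ 12 * term B x (-z⁻¹) :=
    fun x => fourierAt_gauss B hLd hL hz x
  simp only [he, tsum_mul_left] at hp
  rw [theta, theta, hp, ← mul_assoc, mul_one_div, div_self (pow_ne_zero _ hz0), one_mul]

end Transform

section Series

variable (heven : ∀ x : Fin 24 → ℤ, (2 : ℤ) ∣ qz B x)

include heven in
theorem theta_add_one (z : ℂ) : theta B (z + 1) = theta B z := by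
  refine tsum_congr fun x => ?_
  obtain ⟨k, hk⟩ := heven x
  rw [term, term, mul_add, add_mul, Complex.exp_add]
  convert mul_one _
  rw [Complex.exp_eq_one_iff]
  exact ⟨k, by rw [hk]; push_cast; ring⟩

/-- The number of vectors of norm `2 * N`. -/
noncomputable def count (N : ℕ) : ℕ := {x | qz B x = 2 * (N : ℤ)}.ncard

variable {c : ℝ} (hc : 0 < c) (hlow : ∀ v : Fin 24 → ℝ, c * ∑ i, v i ^ 2 ≤ qr B v)

include hc hlow in
theorem qz_nonneg (x : Fin 24 → ℤ) : 0 ≤ qz B x := by
  have h : (0 : ℝ) ≤ qr B (intVec x) :=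
    le_trans (mul_nonneg hc.le (Finset.sum_nonneg fun i _ => sq_nonneg _)) (hlow _)
  rw [qr_intVec] at h
  exact_mod_cast h

include heven hc hlow in
theorem hasSum_theta (τ : ℍ) :
    HasSum (fun N => (count B N : ℂ) • Function.Periodic.qParam 1 (τ : ℂ) ^ N) (theta B τ) := by
  have hs : HasSum (fun x => term B x τ) (theta B τ) := (summable_term B hc hlow τ.im_pos).hasSum
  set g : (Fin 24 → ℤ) → ℕ := fun x => (qz B x / 2).toNat with hg
  have hgN : ∀ x N, g x = N ↔ qz B x = 2 * (N : ℤ) := by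
    intro x N
    obtain ⟨k, hk⟩ := heven x
    have := qz_nonneg B hc hlow x
    simp only [hg]
    omega
  rw [← (Equiv.sigmaFiberEquiv g).hasSum_iff] at hs
  refine hs.sigma fun N => ?_
  haveI : Fintype {x // g x = N} :=
    ((finite_level B hc hlow (2 * (N : ℤ))).subset fun x hx => (hgN x N).1 hx).fintype
  have hcard : count B N = Fintype.card {x // g x = N} := by
    rw [count, ← Nat.card_eq_fintype_card, ← Nat.card_coe_set_eq]
    exact Nat.card_congr (Equiv.subtypeEquivRight fun x => (hgN x N).symm)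
  have hterm : ∀ x : {x // g x = N}, term B x.1 τ = Function.Periodic.qParam 1 (τ : ℂ) ^ N := by
    intro x
    rw [term, (hgN x.1 N).1 x.2, Function.Periodic.qParam, ← Complex.exp_nat_mul]
    congr 1
    push_cast
    ring
  have h := hasSum_fintype (fun x : {x // g x = N} => term B x.1 (τ : ℂ))
  rw [Finset.sum_congr rfl (fun x _ => hterm x), Finset.sum_const, Finset.card_univ, nsmul_eq_mul,
    ← hcard] at h
  simpa [smul_eq_mul] using h

end Series

section Form

variable (hsymm : B.IsSymm) (hpos : ∀ x : Fin 24 → ℤ, x ≠ 0 → 0 < qz B x) (hdet : B.det = 1)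
  (heven : ∀ x : Fin 24 → ℤ, (2 : ℤ) ∣ qz B x)

/-- The theta series as a function on the upper half plane. -/
noncomputable def thetaH : ℍ → ℂ := fun τ => theta B τ

include hsymm hpos hdet in
theorem slash_S : thetaH B ∣[(12 : ℤ)] ModularGroup.S = thetaH B := by
  obtain ⟨L, hLd, hL⟩ := exists_factor B hsymm hpos hdet
  obtain ⟨c, hc, hlow⟩ := exists_lower B hLd hL
  ext τ
  rw [SL_slash_apply, UpperHalfPlane.modular_S_smul]
  have h := theta_inv B hdet hLd hL hc hlow τ.im_pos
  simp only [thetaH]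
  rw [ModularGroup.denom_S]
  simp only [inv_neg]
  rw [h, _root_.zpow_neg, mul_comm ((τ : ℂ) ^ 12), mul_assoc,
    show ((τ : ℂ) ^ (12 : ℤ)) = (τ : ℂ) ^ (12 : ℕ) from zpow_natCast _ 12,
    mul_inv_cancel₀ (pow_ne_zero _ τ.ne_zero), mul_one]

include heven in
theorem slash_T : thetaH B ∣[(12 : ℤ)] ModularGroup.T = thetaH B := by
  ext τ
  rw [SL_slash_apply, UpperHalfPlane.modular_T_smul,
    ModularGroup.denom_apply, ModularGroup.T]
  simp [thetaH, UpperHalfPlane.coe_vadd, add_comm (1 : ℂ), theta_add_one B heven]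

/-- The theta series as a modular form of weight 12. -/
noncomputable def form : ModularForm 𝒮ℒ 12 where
  toFun := thetaH B
  slash_action_eq' := fun A hA => by
    obtain ⟨A, rfl⟩ := hA
    exact SlashInvariantForm.slash_action_generators_SL2Z (slash_S B hsymm hpos hdet)
      (slash_T B heven) A
  holo' := by
    obtain ⟨L, hLd, hL⟩ := exists_factor B hsymm hpos hdet
    obtain ⟨c, hc, hlow⟩ := exists_lower B hLd hL
    rw [UpperHalfPlane.mdifferentiable_iff]
    refine (differentiableOn_theta B hc hlow).congr fun z hz => ?_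
    simp [thetaH, UpperHalfPlane.ofComplex_apply_of_im_pos hz]
  bdd_at_cusps' := fun {p} hp => by
    rw [Subgroup.IsArithmetic.isCusp_iff_isCusp_SL2Z] at hp
    rw [OnePoint.isBoundedAt_iff_forall_SL2Z hp]
    intro γ _
    rw [SlashInvariantForm.slash_action_generators_SL2Z (slash_S B hsymm hpos hdet)
      (slash_T B heven)]
    obtain ⟨L, hLd, hL⟩ := exists_factor B hsymm hpos hdet
    obtain ⟨c, hc, hlow⟩ := exists_lower B hLd hL
    exact UpperHalfPlane.isBoundedAtImInfty_of_hasSum_qExpansion one_pos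
      (hasSum_theta B heven hc hlow)

theorem qExpansion_form (N : ℕ) :
    (qExpansion 1 (form B hsymm hpos hdet heven)).coeff N = (count B N : ℂ) := by
  obtain ⟨L, hLd, hL⟩ := exists_factor B hsymm hpos hdet
  obtain ⟨c, hc, hlow⟩ := exists_lower B hLd hL
  exact (ModularFormClass.qExpansion_coeff_unique (f := form B hsymm hpos hdet heven) one_pos
    one_mem_strictPeriods_SL (fun τ => hasSum_theta B heven hc hlow τ) N).symm

/-- The combination of Eisenstein series equal to the theta series of a rootless lattice. -/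
noncomputable def target : ModularForm 𝒮ℒ 12 :=
  (7 / 12 : ℂ) • ModularForm.mcast (by decide) (E₄.pow 3) +
    (5 / 12 : ℂ) • ModularForm.mcast (by decide) (E₆.pow 2)

theorem qExpansion_target : qExpansion 1 target =
    (7 / 12 : ℂ) • (qExpansion 1 E₄ * qExpansion 1 E₄ * qExpansion 1 E₄) +
      (5 / 12 : ℂ) • (qExpansion 1 E₆ * qExpansion 1 E₆) := by
  rw [target, FunLike.coe_add, ModularForm.qExpansion_add one_pos one_mem_strictPeriods_SL,
    FunLike.coe_smul, FunLike.coe_smul, ModularForm.qExpansion_smul one_pos one_mem_strictPeriods_SL,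
    ModularForm.qExpansion_smul one_pos one_mem_strictPeriods_SL, coe_mcast, coe_mcast,
    ModularForm.qExpansion_pow one_pos one_mem_strictPeriods_SL,
    ModularForm.qExpansion_pow one_pos one_mem_strictPeriods_SL]
  simp [pow_succ]

theorem coeff_four (m : ℕ) : (qExpansion 1 E₄).coeff m =
    if m = 0 then 1 else (240 : ℂ) * (ArithmeticFunction.sigma 3 m : ℕ) := by
  rw [E_qExpansion_coeff _ ⟨2, rfl⟩]
  norm_num [show bernoulli 4 = -1 / 30 by decide +kernel]

theorem coeff_six (m : ℕ) : (qExpansion 1 E₆).coeff m =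
    if m = 0 then 1 else (-504 : ℂ) * (ArithmeticFunction.sigma 5 m : ℕ) := by
  rw [E_qExpansion_coeff _ ⟨3, rfl⟩]
  norm_num [show bernoulli 6 = 1 / 42 by decide +kernel]

theorem target_coeffs :
    (qExpansion 1 target).coeff 0 = 1 ∧ (qExpansion 1 target).coeff 1 = 0 ∧
    (qExpansion 1 target).coeff 2 = 196560 ∧ (qExpansion 1 target).coeff 3 = 16773120 ∧
    (qExpansion 1 target).coeff 4 = 398034000 := by
  have s1 : ArithmeticFunction.sigma 3 1 = 1 ∧ ArithmeticFunction.sigma 3 2 = 9 ∧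
      ArithmeticFunction.sigma 3 3 = 28 ∧ ArithmeticFunction.sigma 3 4 = 73 ∧
      ArithmeticFunction.sigma 5 1 = 1 ∧ ArithmeticFunction.sigma 5 2 = 33 ∧
      ArithmeticFunction.sigma 5 3 = 244 ∧ ArithmeticFunction.sigma 5 4 = 1057 := by decide +kernel
  obtain ⟨a1, a2, a3, a4, b1, b2, b3, b4⟩ := s1
  refine ⟨?_, ?_, ?_, ?_, ?_⟩ <;>
    norm_num [qExpansion_target, PowerSeries.coeff_mul, Finset.Nat.antidiagonal_succ, coeff_four,
      coeff_six, a1, a2, a3, a4, b1, b2, b3, b4, -PowerSeries.coeff_zero_eq_constantCoeff]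

include hsymm hpos hdet heven in
theorem counts (h2 : ∀ x : Fin 24 → ℤ, qz B x ≠ 2) :
    count B 2 = 196560 ∧ count B 3 = 16773120 ∧ count B 4 = 398034000 := by
  obtain ⟨t0, t1, t2, t3, t4⟩ := target_coeffs
  have c0 : count B 0 = 1 := by
    have : {x : Fin 24 → ℤ | qz B x = 2 * ((0 : ℕ) : ℤ)} = {0} := by
      ext x
      constructor
      · intro hx
        by_contra hne
        have := hpos x hne
        simp only [Set.mem_ofPred_eq] at hx
        omega
      · rintro rfl; simp [qz]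
    rw [count, this, Set.ncard_singleton]
  have c1 : count B 1 = 0 := by
    have : {x : Fin 24 → ℤ | qz B x = 2 * ((1 : ℕ) : ℤ)} = ∅ :=
      Set.eq_empty_iff_forall_notMem.mpr fun x hx => h2 x (by simpa using hx)
    rw [count, this, Set.ncard_empty]
  have heq : form B hsymm hpos hdet heven = target := by
    refine sub_eq_zero.mp (ModularForm.sturm_bound_levelOne ?_)
    refine lt_of_lt_of_le (b := ((2 : ℕ) : ℕ∞)) (Nat.cast_lt.mpr (by decide)) (PowerSeries.nat_le_order _ 2 ?_)
    intro i hi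
    rw [FunLike.coe_sub, ModularForm.qExpansion_sub one_pos one_mem_strictPeriods_SL, map_sub,
      qExpansion_form]
    interval_cases i
    · rw [c0, t0]; simp
    · rw [c1, t1]; simp
  refine ⟨?_, ?_, ?_⟩
  · have h := qExpansion_form B hsymm hpos hdet heven 2
    rw [heq, t2] at h; exact_mod_cast h.symm
  · have h := qExpansion_form B hsymm hpos hdet heven 3
    rw [heq, t3] at h; exact_mod_cast h.symm
  · have h := qExpansion_form B hsymm hpos hdet heven 4
    rw [heq, t4] at h; exact_mod_cast h.symm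

end Form

end CfsgLib.Sporadic.Theta
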