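import Cfsg.Agent.Lib.ThreeTrans.Leech
import Cfsg.Agent.Lib.Sporadic.SteinerUnique

/-!
# The lattice: symmetries and index
-/

set_option autoImplicit false

namespace CfsgLib.Sporadic.Lattice

open Cfsg Finset CfsgLib.ThreeTrans.Leech
open scoped Pointwise

theorem even_inter {s t : Finset GolayPt} (hs : s ∈ supports (golayCode : Set (GolayPt → ZMod 2)))
    (ht : t ∈ supports (golayCode : Set (GolayPt → ZMod 2))) : Even (s ∩ t).card := by
  have h1 := card_code_support hs
  have h2 := card_code_support ht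
  have h3 := card_code_support (symmDiff_mem_supports hs ht)
  have h4 := Uniq.card_symmDiff' s t
  rw [Nat.even_iff]
  omega

theorem comp_mem_code {σ : Equiv.Perm GolayPt} (hσ : σ ∈ M24) {w : GolayPt → ZMod 2}
    (hw : w ∈ golayCode) : (fun i => w (σ i)) ∈ golayCode := by
  have hmem : σ⁻¹ • support₂ w ∈ supports (golayCode : Set (GolayPt → ZMod 2)) := by
    rw [← (MulAction.mem_stabilizer_iff.1 (inv_mem hσ) :
      σ⁻¹ • supports (golayCode : Set (GolayPt → ZMod 2)) = _)]
    exact Set.smul_mem_smul_set ⟨w, hw, rfl⟩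
  obtain ⟨v, hv, e⟩ := hmem
  have : v = fun i => w (σ i) := by
    refine code_ext fun i => ?_
    have hi := Finset.ext_iff.1 e i
    rw [Finset.mem_inv_smul_finset_iff] at hi
    simpa [support₂] using hi
  exact this ▸ hv

theorem perm_mem {σ : Equiv.Perm GolayPt} (hσ : σ ∈ M24) {x : GolayPt → ℤ} (hx : IsL x) :
    IsL fun i => x (σ i) := by
  obtain ⟨m, d, h1, h2, h3⟩ := hx
  refine ⟨m, fun i => d (σ i), fun i => h1 _, comp_mem_code hσ h2, ?_⟩
  rwa [Equiv.sum_comp σ x]

theorem sign_mem {c : Finset GolayPt} (hc : c ∈ supports (golayCode : Set (GolayPt → ZMod 2)))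
    {x : GolayPt → ℤ} (hx : IsL x) : IsL fun i => if i ∈ c then -x i else x i := by
  obtain ⟨m, d, h1, h2, h3⟩ := hx
  obtain ⟨w, hw, rfl⟩ := hc
  let d' : GolayPt → ℤ := fun i => if i ∈ support₂ w then -m - d i else d i
  refine ⟨m, d', fun i => ?_, ?_, ?_⟩
  · simp only [d']
    split
    · rw [h1]; ring
    · exact h1 i
  · have : red d' = red d + ((m : ℤ) : ZMod 2) • w := by
      funext i
      simp only [d', red, Pi.add_apply, Pi.smul_apply, smul_eq_mul]
      by_cases hi : i ∈ support₂ w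
      · rw [if_pos hi, (eq_one_of_ne_zero (by simpa [support₂] using hi) : w i = 1), mul_one, Int.cast_sub,
          Int.cast_neg, CharTwo.neg_eq, CharTwo.sub_eq_add, add_comm]
      · rw [if_neg hi, (by simpa [support₂] using hi : w i = 0), mul_zero, add_zero]
    rw [this]
    exact add_mem h2 (Submodule.smul_mem _ _ hw)
  · have hsum : (∑ i, if i ∈ support₂ w then -x i else x i) = (∑ i, x i) - 2 * ∑ i ∈ support₂ w, x i := by
      rw [← Finset.sum_ite_mem_eq (support₂ w) x, Finset.mul_sum, ← Finset.sum_sub_distrib]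
      exact Finset.sum_congr rfl fun i _ => by split <;> ring
    have hcs : (∑ i ∈ support₂ w, x i) = (support₂ w).card * m + 2 * ∑ i ∈ support₂ w, d i := by
      rw [Finset.sum_congr rfl fun i _ => h1 i, Finset.sum_add_distrib, Finset.sum_const,
        ← Finset.mul_sum, nsmul_eq_mul]
    obtain ⟨k, hk⟩ : (4 : ℤ) ∣ ((support₂ w).card : ℤ) := by exact_mod_cast (weight hw).2
    have hev : (2 : ℤ) ∣ ∑ i ∈ support₂ w, d i := by
      rw [← Nat.cast_two, ← ZMod.intCast_zmod_eq_zero_iff_dvd, Int.cast_sum]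
      have : (∑ i ∈ support₂ w, (d i : ZMod 2)) = ((support₂ w ∩ support₂ (red d)).card : ZMod 2) := by
        rw [← Uniq.sum_ind_left, ← Uniq.sum_ind]
        refine Finset.sum_congr rfl fun i _ => ?_
        rw [Uniq.ind_support₂ (red d)]
        rfl
      rw [this, ZMod.natCast_eq_zero_iff_even]
      exact even_inter ⟨w, hw, rfl⟩ ⟨red d, h2, rfl⟩
    obtain ⟨l, hl⟩ := hev
    rw [hsum, hcs, hk, hl]
    obtain ⟨q, hq⟩ := Int.modEq_iff_dvd.1 h3
    exact Int.modEq_iff_dvd.2 ⟨q + k * m + l, by linarith⟩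

/-! ### the index -/

/-- All coordinates have one parity. -/
def parHom : (GolayPt → ℤ) →+ (ZMod 23 → ZMod 2) where
  toFun x j := ((x (some j) - x none : ℤ) : ZMod 2)
  map_zero' := by funext j; simp
  map_add' x y := by funext j; simp only [Pi.add_apply]; push_cast; ring

theorem mem_parHom {x : GolayPt → ℤ} : x ∈ parHom.ker ↔ ∀ i, (x i - x none) % 2 = 0 := by
  rw [AddMonoidHom.mem_ker]
  constructor
  · intro h i
    cases i with
    | none => simp
    | some j =>
      have := congrFun h j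
      simp only [parHom, AddMonoidHom.coe_mk, ZeroHom.coe_mk, Pi.zero_apply,
        ZMod.intCast_zmod_eq_zero_iff_dvd] at this
      exact Int.emod_eq_zero_of_dvd this
  · intro h
    funext j
    simp only [parHom, AddMonoidHom.coe_mk, ZeroHom.coe_mk, Pi.zero_apply,
      ZMod.intCast_zmod_eq_zero_iff_dvd]
    exact Int.dvd_of_emod_eq_zero (h (some j))

/-- The word of a vector relative to infinity. -/
def wordOfVec (x : GolayPt → ℤ) : GolayPt → ZMod 2 := red fun i => (x i - x none) / 2

theorem wordOfVec_add {x : GolayPt → ℤ} (hx : x ∈ parHom.ker) (y : GolayPt → ℤ) :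
    wordOfVec (x + y) = wordOfVec x + wordOfVec y := by
  funext i
  have h := mem_parHom.1 hx i
  simp only [wordOfVec, red, Pi.add_apply]
  rw [← Int.cast_add,
    show (x i + y i - (x none + y none)) / 2 = (x i - x none) / 2 + (y i - y none) / 2 by omega]

/-- The class of the word modulo the code. -/
def wordHom : parHom.ker →+ (GolayPt → ZMod 2) ⧸ golayCode where
  toFun x := Submodule.Quotient.mk (wordOfVec x.1)
  map_zero' := by
    rw [Submodule.Quotient.mk_eq_zero]
    have : wordOfVec (0 : GolayPt → ℤ) = 0 := by funext i; simp [wordOfVec, red]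
    exact this ▸ zero_mem _
  map_add' x y := by
    rw [AddSubgroup.coe_add, wordOfVec_add x.2, Submodule.Quotient.mk_add]

/-- Parity and word conditions. -/
def midGroup : AddSubgroup (GolayPt → ℤ) := wordHom.ker.map parHom.ker.subtype

theorem mem_midGroup {x : GolayPt → ℤ} : x ∈ midGroup ↔ x ∈ parHom.ker ∧ wordOfVec x ∈ golayCode := by
  constructor
  · rintro ⟨y, hy, rfl⟩
    exact ⟨y.2, (Submodule.Quotient.mk_eq_zero _).1 hy⟩
  · rintro ⟨hx, hw⟩
    exact ⟨⟨x, hx⟩, (Submodule.Quotient.mk_eq_zero _).2 hw, rfl⟩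

theorem sum_mod_four {x : GolayPt → ℤ} (hx : x ∈ midGroup) :
    (4 : ℤ) ∣ (∑ i, x i) - 4 * x none := by
  obtain ⟨hp, hw⟩ := mem_midGroup.1 hx
  rw [mem_parHom] at hp
  let d : GolayPt → ℤ := fun i => (x i - x none) / 2
  have hd : ∀ i, x i = x none + 2 * d i := fun i => by have := hp i; simp only [d]; omega
  have hev : (2 : ℤ) ∣ ∑ i, d i := by
    obtain ⟨k, hk⟩ := (weight (c := red d) hw).2
    have h := card_odd d
    rw [hk] at h
    have h2 : (2 : ℤ) ∣ (∑ i, d i) - ∑ i, d i % 2 := dvd_sum_of_forall_mod fun i => by omega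
    push_cast at h
    omega
  obtain ⟨u, hu⟩ := hev
  refine ⟨5 * x none + u, ?_⟩
  rw [Finset.sum_congr rfl fun i _ => hd i, Finset.sum_add_distrib, ← Finset.mul_sum, hu,
    Finset.sum_const, card_pts, nsmul_eq_mul]
  push_cast
  ring

/-- The last bit. -/
def lastHom : midGroup →+ ZMod 2 where
  toFun x := ((((∑ i, x.1 i) - 4 * x.1 none) / 4 : ℤ) : ZMod 2)
  map_zero' := by simp
  map_add' x y := by
    have h1 := sum_mod_four x.2
    have h2 := sum_mod_four y.2
    rw [← Int.cast_add]
    congr 1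
    simp only [AddSubgroup.coe_add, Pi.add_apply, Finset.sum_add_distrib]
    rw [← Int.add_ediv_of_dvd_left h1]
    congr 1
    ring

theorem lattice_le : leechLattice ≤ midGroup := by
  intro x hx
  obtain ⟨m, d, h1, h2, -⟩ := mem_iff.1 hx
  refine mem_midGroup.2 ⟨mem_parHom.2 fun i => by rw [h1, h1]; omega, ?_⟩
  have : wordOfVec x = red d + ((d none : ℤ) : ZMod 2) • (1 : GolayPt → ZMod 2) := by
    funext i
    simp only [wordOfVec, red, Pi.add_apply, Pi.smul_apply, Pi.one_apply, smul_eq_mul, mul_one, h1]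
    rw [show (m + 2 * d i - (m + 2 * d none)) / 2 = d i - d none by omega, Int.cast_sub,
      CharTwo.sub_eq_add]
  rw [this]
  exact add_mem h2 (Submodule.smul_mem _ _ one_mem_code)

theorem lattice_eq_ker : leechLattice.addSubgroupOf midGroup = lastHom.ker := by
  ext x
  rw [AddSubgroup.mem_addSubgroupOf, AddMonoidHom.mem_ker, mem_iff]
  show _ ↔ ((((∑ i, x.1 i) - 4 * x.1 none) / 4 : ℤ) : ZMod 2) = 0
  rw [ZMod.intCast_zmod_eq_zero_iff_dvd]
  obtain ⟨k, hk⟩ := sum_mod_four x.2
  rw [hk, Int.mul_ediv_cancel_left _ (by norm_num : (4 : ℤ) ≠ 0)]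
  constructor
  · rintro ⟨m, d, h1, -, h3⟩
    obtain ⟨q, hq⟩ := Int.modEq_iff_dvd.1 h3
    have h0 := h1 none
    exact ⟨-q - d none, by push_cast at *; linarith⟩
  · rintro ⟨q, hq⟩
    obtain ⟨hp, hw⟩ := mem_midGroup.1 x.2
    rw [mem_parHom] at hp
    refine ⟨x.1 none, fun i => (x.1 i - x.1 none) / 2, fun i => by have := hp i; dsimp only; omega, hw, ?_⟩
    exact Int.modEq_iff_dvd.2 ⟨-q, by subst hq; push_cast at *; linarith⟩

theorem index_lattice : leechLattice.index = 2 ^ 36 := by
  have h1 : parHom.ker.index = 2 ^ 23 := by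
    have hsurj : Function.Surjective parHom := fun f => by
      refine ⟨fun i => Option.elim i 0 fun j => ((f j).val : ℤ), funext fun j => ?_⟩
      show (((((f j).val : ℤ)) - 0 : ℤ) : ZMod 2) = f j
      rw [sub_zero, Int.cast_natCast, ZMod.natCast_zmod_val]
    rw [AddSubgroup.index_ker, AddMonoidHom.range_eq_top.2 hsurj, AddSubgroup.card_top]
    simp
  have h2 : midGroup.relIndex parHom.ker = 2 ^ 12 := by
    have hker : midGroup.addSubgroupOf parHom.ker = wordHom.ker :=
      AddSubgroup.comap_map_eq_self_of_injective Subtype.val_injective _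
    have hsurj : Function.Surjective wordHom := fun q => by
      obtain ⟨w, rfl⟩ := Submodule.Quotient.mk_surjective _ q
      let w' : GolayPt → ZMod 2 := w + w none • (1 : GolayPt → ZMod 2)
      have hw0 : w' none = 0 := by
        simp only [w', Pi.add_apply, Pi.smul_apply, Pi.one_apply, smul_eq_mul, mul_one, CharTwo.add_self_eq_zero]
      refine ⟨⟨fun i => 2 * ((w' i).val : ℤ), mem_parHom.2 fun i => by omega⟩, ?_⟩
      refine (Submodule.Quotient.eq _).2 ?_
      have : wordOfVec (fun i => 2 * ((w' i).val : ℤ)) = w' := by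
        funext i
        simp only [wordOfVec, red, hw0, ZMod.val_zero, Nat.cast_zero, mul_zero, sub_zero,
          Int.mul_ediv_cancel_left _ (by norm_num : (2 : ℤ) ≠ 0), Int.cast_natCast, ZMod.natCast_zmod_val]
      rw [this]
      simp only [w', add_sub_cancel_left]
      exact Submodule.smul_mem _ _ one_mem_code
    rw [AddSubgroup.relIndex, hker, AddSubgroup.index_ker, AddMonoidHom.range_eq_top.2 hsurj,
      AddSubgroup.card_top, Module.natCard_eq_pow_finrank (K := ZMod 2), Nat.card_zmod]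
    have := Submodule.finrank_quotient_add_finrank golayCode
    rw [Module.finrank_fintype_fun_eq_card, Uniq.finrank_golay,
      show Fintype.card GolayPt = 24 from rfl] at this
    rw [show Module.finrank (ZMod 2) ((GolayPt → ZMod 2) ⧸ golayCode) = 12 by omega]
  have h3 : leechLattice.relIndex midGroup = 2 := by
    have hsurj : Function.Surjective lastHom := fun a => by
      rcases (by revert a; decide : ∀ a : ZMod 2, a = 0 ∨ a = 1) a with rfl | rfl
      · exact ⟨0, map_zero _⟩
      refine ⟨⟨Pi.single (some 0) 4, mem_midGroup.2 ⟨mem_parHom.2 fun i => ?_, ?_⟩⟩, ?_⟩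
      · rw [Pi.single_eq_of_ne (by simp : (none : GolayPt) ≠ some 0)]
        by_cases hi : i = some 0
        · subst hi; simp
        · rw [Pi.single_eq_of_ne hi]; simp
      · have : wordOfVec (Pi.single (some 0) 4) = 0 := by
          funext i
          simp only [wordOfVec, red, Pi.zero_apply, Pi.single_eq_of_ne (by simp : (none : GolayPt) ≠ some 0)]
          by_cases hi : i = some 0
          · subst hi; simp; decide
          · rw [Pi.single_eq_of_ne hi]; simp
        rw [this]; exact zero_mem _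
      · show (((((∑ i, (Pi.single (some 0) 4 : GolayPt → ℤ) i) -
          4 * (Pi.single (some 0) 4 : GolayPt → ℤ) none) / 4 : ℤ)) : ZMod 2) = 1
        rw [Finset.sum_pi_single', if_pos (Finset.mem_univ _),
          Pi.single_eq_of_ne (by simp : (none : GolayPt) ≠ some 0)]
        norm_num
    rw [AddSubgroup.relIndex, lattice_eq_ker, AddSubgroup.index_ker, AddMonoidHom.range_eq_top.2 hsurj,
      AddSubgroup.card_top, Nat.card_zmod]
  have hle : midGroup ≤ parHom.ker := fun x hx => (mem_midGroup.1 hx).1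
  rw [← AddSubgroup.relIndex_mul_index lattice_le, h3, ← AddSubgroup.relIndex_mul_index hle, h2, h1]
  norm_num

/-! ### vectors congruent modulo two -/

theorem norm_eight_congr {ι : Type*} [Fintype ι] (B : Matrix ι ι ℤ) (hsymm : B.IsSymm)
    (hpos : ∀ x : ι → ℤ, x ≠ 0 → 0 < x ⬝ᵥ (B.mulVec x))
    (heven : ∀ x : ι → ℤ, (2 : ℤ) ∣ x ⬝ᵥ (B.mulVec x)) (h2 : ∀ x : ι → ℤ, x ⬝ᵥ (B.mulVec x) ≠ 2)
    (x y : ι → ℤ) (hx : x ⬝ᵥ (B.mulVec x) = 8) (hy : y ⬝ᵥ (B.mulVec y) = 8)
    (hc : ∀ i, (2 : ℤ) ∣ (x - y) i) : y = x ∨ y = -x ∨ x ⬝ᵥ (B.mulVec y) = 0 := by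
  let u : ι → ℤ := fun i => (x - y) i / 2
  have hu : x - y = (2 : ℤ) • u := funext fun i => by
    show (x - y) i = 2 * ((x - y) i / 2)
    exact (Int.mul_ediv_cancel' (hc i)).symm
  let v : ι → ℤ := u + y
  have hv : x + y = (2 : ℤ) • v := by
    simp only [v, smul_add, ← hu, two_smul]; abel
  by_cases hu0 : u = 0
  · left; rw [hu0, smul_zero, sub_eq_zero] at hu; exact hu.symm
  by_cases hv0 : v = 0
  · right; left; rw [hv0, smul_zero, add_eq_zero_iff_eq_neg] at hv; rw [hv, neg_neg]
  right; right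
  have hcomm : y ⬝ᵥ (B.mulVec x) = x ⬝ᵥ (B.mulVec y) := by
    rw [Matrix.dotProduct_mulVec, dotProduct_comm, ← Matrix.mulVec_transpose, hsymm.eq]
  have q1 : (x - y) ⬝ᵥ (B.mulVec (x - y)) = 16 - 2 * (x ⬝ᵥ (B.mulVec y)) := by
    simp only [Matrix.mulVec_sub, dotProduct_sub, sub_dotProduct, hx, hy, hcomm]; ring
  have q2 : (x + y) ⬝ᵥ (B.mulVec (x + y)) = 16 + 2 * (x ⬝ᵥ (B.mulVec y)) := by
    simp only [Matrix.mulVec_add, dotProduct_add, add_dotProduct, hx, hy, hcomm]; ring
  rw [hu, Matrix.mulVec_smul, dotProduct_smul, smul_dotProduct, smul_eq_mul, smul_eq_mul] at q1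
  rw [hv, Matrix.mulVec_smul, dotProduct_smul, smul_dotProduct, smul_eq_mul, smul_eq_mul] at q2
  obtain ⟨a, ha⟩ := heven u
  obtain ⟨b, hb⟩ := heven v
  have := hpos u hu0
  have := hpos v hv0
  have := h2 u
  have := h2 v
  omega

end CfsgLib.Sporadic.Lattice
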