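import Cfsg.Agent.Lib.Sporadic.LeechCharFrames
import Cfsg.Agent.Lib.Sporadic.ConwayBasic
import Cfsg.Agent.Lib.Sporadic.CodeUnique

/-!
# The lattice is determined by its vector counts

A frame gives coordinates.  There the even vectors give a doubly even code without words of weight
four, and the number of minimal vectors forces its dimension to be twelve.
-/

set_option autoImplicit false

namespace CfsgLib.Sporadic.Lattice

open Cfsg Finset CfsgLib.ThreeTrans.Leech Module

local notation "F₂" => ZMod 2

set_option maxRecDepth 8000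

theorem dot_comm' (x y : Vec) : dotInt x y = dotInt y x := Finset.sum_congr rfl fun i _ => mul_comm _ _

theorem dot_pair (y : Vec) (i j : GolayPt) : dotInt y (pairVec i j) = 4 * (y i + y j) := by
  have : ∀ k, y k * pairVec i j k = 4 * ((if k = i then y k else 0) + (if k = j then y k else 0)) := fun k => by
    simp only [pairVec]; split_ifs <;> ring
  rw [dotInt, Finset.sum_congr rfl fun k _ => this k, ← Finset.mul_sum, Finset.sum_add_distrib,
    Finset.sum_ite_eq', Finset.sum_ite_eq', if_pos (Finset.mem_univ _), if_pos (Finset.mem_univ _)]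

theorem two_mul_eq (a : GolayPt → ℤ) : (fun i => 2 * a i) = (2 : ℤ) • a := by funext i; simp

/-- A lattice in coordinates that might be the Leech lattice. -/
structure Cand (M : AddSubgroup Vec) : Prop where
  low : ∀ x ∈ M, x ≠ 0 → 32 ≤ sqNorm x
  dvd : ∀ x ∈ M, (16 : ℤ) ∣ sqNorm x
  dot : ∀ x ∈ M, ∀ y ∈ M, (8 : ℤ) ∣ dotInt x y
  pairs : ∀ i j, pairVec i j ∈ M
  count : {x : Vec | x ∈ M ∧ sqNorm x = 32}.ncard = 196560

variable {M : AddSubgroup Vec}

theorem Cand.parity (h : Cand M) {y : Vec} (hy : y ∈ M) (i : GolayPt) : (y i - y none) % 2 = 0 := by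
  have := h.dot y hy _ (h.pairs i none)
  rw [dot_pair] at this
  omega

theorem Cand.four_mem (h : Cand M) {d : Vec} (hd : (∑ i, d i) % 2 = 0) : (fun k => 4 * d k) ∈ M := by
  rw [single_four none d]
  refine M.sub_mem (M.sum_mem fun j _ => M.zsmul_mem (h.pairs j none) _) ?_
  obtain ⟨t, ht⟩ : ∃ t, (∑ j, d j) = 2 * t := ⟨(∑ j, d j) / 2, by omega⟩
  have : (∑ j, d j) • (fun k : GolayPt => if k = none then (4 : ℤ) else 0) = t • pairVec none none := by
    funext k
    simp only [Pi.smul_apply, smul_eq_mul, pairVec, ht]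
    split_ifs <;> ring
  rw [this]
  exact M.zsmul_mem (h.pairs none none) _

/-- The code of the even vectors. -/
def evCode (M : AddSubgroup Vec) : Submodule F₂ (GolayPt → F₂) where
  carrier := {w | ∃ e : Vec, (fun i => 2 * e i) ∈ M ∧ red e = w}
  zero_mem' := ⟨0, by convert M.zero_mem using 1; funext i; simp, red_zero⟩
  add_mem' := by
    rintro _ _ ⟨a, ha, rfl⟩ ⟨b, hb, rfl⟩
    refine ⟨a + b, ?_, red_add a b⟩
    convert M.add_mem ha hb using 1
    funext i; simp [mul_add]
  smul_mem' := fun c w ⟨e, he, hw⟩ => by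
    rcases (by revert c; decide : ∀ c : F₂, c = 0 ∨ c = 1) c with hc | hc <;> subst hc
    · exact ⟨0, by convert M.zero_mem using 1; funext i; simp, by rw [red_zero, zero_smul]⟩
    · exact ⟨e, he, by rw [one_smul, hw]⟩

theorem sq_two (e : Vec) : sqNorm (fun i => 2 * e i) = 4 * ∑ i, e i ^ 2 := by
  rw [sqNorm, Finset.mul_sum]; exact Finset.sum_congr rfl fun i _ => by ring

theorem dot_two (e f : Vec) : dotInt (fun i => 2 * e i) (fun i => 2 * f i) = 4 * ∑ i, e i * f i := by
  rw [dotInt, Finset.mul_sum]; exact Finset.sum_congr rfl fun i _ => by ring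

theorem Cand.code_four (h : Cand M) {w : GolayPt → F₂} (hw : w ∈ evCode M) : 4 ∣ (support₂ w).card := by
  obtain ⟨e, he, rfl⟩ := hw
  have h16 := h.dvd _ he
  rw [sq_two] at h16
  have hs : (4 : ℤ) ∣ (∑ i, e i ^ 2) - ∑ i, e i % 2 :=
    dvd_sum_of_forall_mod fun i => by have := sq_mod_four (e i); omega
  rw [← card_odd] at hs
  omega

theorem Cand.code_orth (h : Cand M) {v w : GolayPt → F₂} (hv : v ∈ evCode M) (hw : w ∈ evCode M) :
    ∑ i, v i * w i = 0 := by
  obtain ⟨e, he, rfl⟩ := hv
  obtain ⟨f, hf, rfl⟩ := hw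
  have h8 := h.dot _ he _ hf
  rw [dot_two] at h8
  have h2 : ((2 : ℕ) : ℤ) ∣ ∑ i, e i * f i := by push_cast; omega
  rw [← ZMod.intCast_zmod_eq_zero_iff_dvd, Int.cast_sum] at h2
  rw [← h2]
  exact Finset.sum_congr rfl fun i _ => by simp [red]

/-- `2` on a set, up to one sign, lies in `M` as soon as its word is in the code. -/
theorem Cand.ind_or_flip (h : Cand M) {S : Finset GolayPt} {a : GolayPt} (hw : Uniq.ind S ∈ evCode M) :
    octVec S ∈ M ∨ (fun k => octVec S k - if k = a then 4 else 0) ∈ M := by
  obtain ⟨e, he, hr⟩ := hw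
  let d : Vec := fun k => (e k - if k ∈ S then 1 else 0) / 2
  have hd : ∀ k, 2 * e k = octVec S k + 4 * d k := fun k => by
    have := congrFun hr k
    simp only [red, Uniq.ind] at this
    have h' : ((e k - if k ∈ S then 1 else 0 : ℤ) : F₂) = 0 := by
      rw [Int.cast_sub, this]; split_ifs <;> simp
    have hdvd := (ZMod.intCast_zmod_eq_zero_iff_dvd _ 2).1 h'
    simp only [octVec, d]
    split_ifs at hdvd ⊢ <;> omega
  rcases Int.emod_two_eq (∑ k, d k) with hp | hp
  · left
    have := M.sub_mem he (h.four_mem hp)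
    convert this using 1
    funext k
    have := hd k
    simp only [Pi.sub_apply]; omega
  · right
    have hp' : (∑ k, (d k + if k = a then 1 else 0)) % 2 = 0 := by
      rw [Finset.sum_add_distrib, Finset.sum_ite_eq', if_pos (Finset.mem_univ _)]; omega
    have := M.sub_mem he (h.four_mem hp')
    convert this using 1
    funext k
    have := hd k
    simp only [Pi.sub_apply]; split_ifs <;> omega

theorem Cand.code_nofour (h : Cand M) {w : GolayPt → F₂} (hw : w ∈ evCode M) : (support₂ w).card ≠ 4 := by
  intro h4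
  obtain ⟨a, ha⟩ := Finset.card_pos.1 (by omega : 0 < (support₂ w).card)
  rcases h.ind_or_flip (a := a) (S := support₂ w) (by rwa [Uniq.ind_support₂]) with hm | hm
  all_goals
    have hn := h.low _ hm (fun e => by
      have := congrFun e a
      simp [octVec, ha] at this)
  · have : sqNorm (octVec (support₂ w)) = 16 := by
      simp [sqNorm, octVec, ite_pow, Finset.sum_ite_mem, h4]
    omega
  · have : sqNorm (fun k => octVec (support₂ w) k - if k = a then 4 else 0) = 16 := by
      rw [sqNorm, Finset.sum_congr rfl (g := fun k => if k ∈ support₂ w then 4 else 0) fun k _ => by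
        simp only [octVec]
        by_cases hk : k = a
        · subst hk; simp [ha]
        · simp [hk, ite_pow]]
      simp [Finset.sum_ite_mem, h4]
    omega

theorem Cand.inter_le (h : Cand M) {S T : Finset GolayPt} (hS : Uniq.ind S ∈ evCode M)
    (hT : Uniq.ind T ∈ evCode M) (hSc : S.card = 8) (hTc : T.card = 8) (h5 : 5 ≤ (S ∩ T).card) : S = T := by
  have hd : Uniq.ind (symmDiff S T) ∈ evCode M := by rw [Uniq.ind_symmDiff]; exact add_mem hS hT
  have h4 := h.code_four hd
  have hn := h.code_nofour hd
  rw [Uniq.support₂_ind] at h4 hn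
  have := Uniq.card_symmDiff' S T
  have := Finset.card_le_card (Finset.inter_subset_left : S ∩ T ⊆ S)
  have h0 : (symmDiff S T).card = 0 := by omega
  rwa [Finset.card_eq_zero, Finset.symmDiff_eq_empty] at h0

open Classical in
theorem Cand.eightSets_le (h : Cand M) :
    ((Finset.univ.powersetCard 8).filter fun S => Uniq.ind S ∈ evCode M).card ≤ 759 := by
  classical
  set O := (Finset.univ.powersetCard 8).filter fun S => Uniq.ind S ∈ evCode M with hO
  have hO' : ∀ S ∈ O, S.card = 8 ∧ Uniq.ind S ∈ evCode M := fun S hS => by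
    simpa [hO] using hS
  have hle : (O.biUnion fun S => S.powersetCard 5).card ≤ 42504 := by
    refine (Finset.card_le_card (t := (Finset.univ : Finset GolayPt).powersetCard 5) fun s hs => ?_).trans ?_
    · simp only [Finset.mem_biUnion, Finset.mem_powersetCard] at hs
      obtain ⟨S, -, -, h5⟩ := hs
      simp [h5]
    · rw [Finset.card_powersetCard]; rfl
  rw [Finset.card_biUnion, Finset.sum_congr rfl (g := fun _ => 56) fun S hS => by
      rw [Finset.card_powersetCard, (hO' S hS).1]; rfl,
    Finset.sum_const, smul_eq_mul] at hle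
  · omega
  · intro S hS T hT hne
    simp only [Function.onFun, Finset.disjoint_left, Finset.mem_powersetCard]
    rintro s ⟨h1, h2⟩ ⟨h3, -⟩
    exact hne (h.inter_le (hO' S hS).2 (hO' T hT).2 (hO' S hS).1 (hO' T hT).1
      (h2 ▸ Finset.card_le_card (Finset.subset_inter h1 h3)))

/-- The minimal vectors as a finset. -/
noncomputable def candShell (M : AddSubgroup Vec) : Finset Vec := by
  classical
  exact ((Fintype.piFinset fun _ : GolayPt => Finset.Icc (-5 : ℤ) 5).filter fun x => x ∈ M ∧ sqNorm x = 32)

theorem mem_candShell {x : Vec} : x ∈ candShell M ↔ x ∈ M ∧ sqNorm x = 32 := by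
  classical
  simp only [candShell, Finset.mem_filter, Fintype.mem_piFinset, Finset.mem_Icc, and_iff_right_iff_imp]
  intro h i
  have : x i ^ 2 ≤ 32 := h.2 ▸ Finset.single_le_sum (f := fun j => x j ^ 2) (fun j _ => sq_nonneg _) (Finset.mem_univ i)
  constructor <;> nlinarith

theorem Cand.card_candShell (h : Cand M) : (candShell M).card = 196560 := by
  rw [← h.count, ← Set.ncard_coe_finset]
  congr 1
  ext x; simp [mem_candShell]

theorem Cand.even_split (h : Cand M) {x : Vec} (hx : x ∈ candShell M) (hev : x none % 2 = 0) :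
    (∀ i, x i = 0 ∨ x i = 4 ∨ x i = -4) ∧ (Finset.univ.filter fun i => x i ≠ 0).card = 2 ∨
    (∀ i, x i = 0 ∨ x i = 2 ∨ x i = -2) ∧ (Finset.univ.filter fun i => x i ≠ 0).card = 8 ∧
      Uniq.ind (Finset.univ.filter fun i => x i ≠ 0) ∈ evCode M := by
  obtain ⟨hxM, hn⟩ := mem_candShell.1 hx
  let e : Vec := fun i => x i / 2
  have he : x = fun i => 2 * e i := funext fun i => by
    have := h.parity hxM i; simp only [e]; omega
  have hw : red e ∈ evCode M := ⟨e, he ▸ hxM, rfl⟩
  rw [he, sq_two] at hn
  have h4 := h.code_four hw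
  have hn4 := h.code_nofour hw
  have hb : ∀ i, -2 ≤ e i ∧ e i ≤ 2 := fun i => by
    have : e i ^ 2 ≤ 8 := by
      have := Finset.single_le_sum (f := fun j => e j ^ 2) (fun j _ => sq_nonneg _) (Finset.mem_univ i)
      omega
    constructor <;> nlinarith
  set A : Finset GolayPt := Finset.univ.filter fun i => e i = 1 ∨ e i = -1 with hA
  set T : Finset GolayPt := Finset.univ.filter fun i => e i = 2 ∨ e i = -2 with hT
  have hsupp : support₂ (red e) = A := by
    ext i
    simp only [support₂, hA, Finset.mem_filter, Finset.mem_univ, true_and, red, cast_ne_zero_iff]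
    have := hb i; omega
  rw [hsupp] at h4 hn4
  have e2 : ∀ i, e i ^ 2 = (if i ∈ A then 1 else 0) + 4 * (if i ∈ T then 1 else 0) := fun i => by
    have := hb i
    simp only [hA, hT, Finset.mem_filter, Finset.mem_univ, true_and]
    rcases (by omega : e i = 0 ∨ e i = 1 ∨ e i = -1 ∨ e i = 2 ∨ e i = -2) with q | q | q | q | q <;>
      rw [q] <;> norm_num
  rw [Finset.sum_congr rfl fun i _ => e2 i, Finset.sum_add_distrib, ← Finset.mul_sum, Finset.sum_boole,
    Finset.sum_boole, Finset.filter_univ_mem, Finset.filter_univ_mem] at hn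
  have hcount : (A.card = 0 ∧ T.card = 2) ∨ (A.card = 8 ∧ T.card = 0) := by omega
  rcases hcount with ⟨hA0, hT2⟩ | ⟨hA8, hT0⟩
  · left
    have n1 : ∀ i, ¬ (e i = 1 ∨ e i = -1) := fun i hi => by
      have := Finset.card_pos.2 ⟨i, show i ∈ A by simpa [hA] using hi⟩; omega
    refine ⟨fun i => ?_, hT2 ▸ congrArg Finset.card (Finset.ext fun i => ?_)⟩
    · rw [he]; have := hb i; have := n1 i; dsimp only; omega
    · simp only [he, hT, Finset.mem_filter, Finset.mem_univ, true_and]
      have := hb i; have := n1 i; omega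
  · right
    have n2 : ∀ i, ¬ (e i = 2 ∨ e i = -2) := fun i hi => by
      have := Finset.card_pos.2 ⟨i, show i ∈ T by simpa [hT] using hi⟩; omega
    have hS : (Finset.univ.filter fun i => x i ≠ 0) = A := by
      ext i
      simp only [he, hA, Finset.mem_filter, Finset.mem_univ, true_and]
      have := hb i; have := n2 i; omega
    refine ⟨fun i => ?_, by rw [hS]; exact hA8, by rw [hS, ← hsupp, Uniq.ind_support₂]; exact hw⟩
    rw [he]; have := hb i; have := n2 i; dsimp only; omega

theorem odd_split {x : Vec} (hodd : ∀ i, x i % 2 = 1) (hn : sqNorm x = 32) :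
    ∃ j, (x j = 3 ∨ x j = -3) ∧ ∀ i, i ≠ j → (x i = 1 ∨ x i = -1) := by
  obtain ⟨j, hj⟩ : ∃ j, x j ≠ 1 ∧ x j ≠ -1 := by
    by_contra hne
    push Not at hne
    have : ∀ i, x i ^ 2 = 1 := fun i => by
      by_cases h1 : x i = 1
      · rw [h1]; norm_num
      · rw [hne i h1]; norm_num
    rw [sqNorm, Finset.sum_congr rfl fun i _ => this i, Finset.sum_const, card_pts] at hn
    norm_num at hn
  have hsplit := Finset.add_sum_erase _ (fun i => x i ^ 2) (Finset.mem_univ j)
  have hrest : (23 : ℤ) ≤ ∑ i ∈ Finset.univ.erase j, x i ^ 2 := by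
    refine le_trans (le_of_eq ?_) (Finset.card_nsmul_le_sum _ _ 1 fun i _ => le_sq_of_odd (hodd i))
    simp [Finset.card_erase_of_mem]
  simp only [sqNorm] at hn
  have hj3 : x j = 3 ∨ x j = -3 := by
    have h9 : x j ^ 2 ≤ 9 := by omega
    have := hodd j
    have : -3 ≤ x j ∧ x j ≤ 3 := by constructor <;> nlinarith
    omega
  refine ⟨j, hj3, fun i hi => ?_⟩
  by_contra hne
  have h9 : 9 ≤ x i ^ 2 := by
    have := hodd i
    rcases le_or_gt 3 (x i) with q | q
    · nlinarith
    · have : x i ≤ -3 := by omega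
      nlinarith
  have h2 := Finset.add_sum_erase (Finset.univ.erase j) (fun k => x k ^ 2) (Finset.mem_erase.2 ⟨hi, Finset.mem_univ i⟩)
  have h22 : (22 : ℤ) ≤ ∑ k ∈ (Finset.univ.erase j).erase i, x k ^ 2 := by
    refine le_trans (le_of_eq ?_) (Finset.card_nsmul_le_sum _ _ 1 fun k _ => le_sq_of_odd (hodd k))
    simp [Finset.card_erase_of_mem, hi]
  rcases hj3 with q | q <;> rw [q] at hsplit <;> omega

theorem Cand.finrank_le (h : Cand M) : finrank F₂ (evCode M) ≤ 12 := by
  let B : LinearMap.BilinForm F₂ (GolayPt → F₂) := Matrix.toBilin' (1 : Matrix GolayPt GolayPt F₂)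
  have hB : ∀ a b, B a b = ∑ i, a i * b i := fun a b => by
    simp [B, Matrix.toBilin'_apply, Matrix.one_apply]
  have hBnd : B.Nondegenerate :=
    LinearMap.BilinForm.nondegenerate_toBilin'_of_det_ne_zero' _ (by simp)
  have hle : evCode M ≤ B.orthogonal (evCode M) := fun c hc w hw => by
    show B w c = 0
    rw [hB]; exact h.code_orth hw hc
  have := Submodule.finrank_mono hle
  rw [LinearMap.BilinForm.finrank_orthogonal hBnd (evCode M), finrank_fintype_fun_eq_card,
    show Fintype.card GolayPt = 24 from rfl] at this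
  omega

theorem Cand.good_and_odd (h : Cand M) :
    Uniq.Good (evCode M) ∧ ∃ y ∈ M, ∀ i, y i % 2 = 1 := by
  classical
  set F := candShell M with hF
  set Fe := F.filter fun x => x none % 2 = 0 with hFe
  set Fo := F.filter fun x => ¬ x none % 2 = 0 with hFo
  have hsum : Fe.card + Fo.card = 196560 := by
    rw [← h.card_candShell]; exact Finset.card_filter_add_card_filter_not _
  set O := (Finset.univ.powersetCard 8).filter fun S => Uniq.ind S ∈ evCode M with hO
  let supp : Vec → Finset GolayPt := fun x => Finset.univ.filter fun i => x i ≠ 0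
  let neg : Vec → Finset GolayPt := fun x => Finset.univ.filter fun i => x i < 0
  let P : Finset ((_ : Finset GolayPt) × Finset GolayPt) :=
    ((Finset.univ : Finset GolayPt).powersetCard 2).sigma fun S => S.powerset
  let anchor : Finset GolayPt → GolayPt := fun S => if hS : S.Nonempty then hS.choose else none
  let Q : Finset ((_ : Finset GolayPt) × Finset GolayPt) := O.sigma fun S => (S.erase (anchor S)).powerset
  have hP : P.card = 1104 := by
    rw [Finset.card_sigma, Finset.sum_congr rfl (g := fun _ => 4) fun S hS => by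
      rw [Finset.card_powerset, (Finset.mem_powersetCard.1 hS).2]; rfl,
      Finset.sum_const, Finset.card_powersetCard]
    rfl
  have hQ : Q.card ≤ 97152 := by
    rw [Finset.card_sigma, Finset.sum_congr rfl (g := fun _ => 128) fun S hS => ?_, Finset.sum_const,
      smul_eq_mul]
    · have := h.eightSets_le
      rw [← hO] at this
      omega
    · simp only [hO, Finset.mem_filter, Finset.mem_powersetCard] at hS
      have hne : S.Nonempty := Finset.card_pos.1 (by omega)
      rw [Finset.card_powerset, Finset.card_erase_of_mem (by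
        simp only [anchor, dif_pos hne]; exact hne.choose_spec), hS.1.2]
      rfl
  have hFe_le : Fe.card ≤ 1104 + 97152 := by
    have hsplit := Finset.card_filter_add_card_filter_not (s := Fe) (fun x => (supp x).card = 2)
    have h1 : (Fe.filter fun x => (supp x).card = 2).card ≤ P.card := by
      refine Finset.card_le_card_of_injOn (fun x => ⟨supp x, neg x⟩) (fun x hx => ?_) ?_
      · obtain ⟨-, hc⟩ := Finset.mem_filter.1 hx
        simp only [Finset.mem_coe, P, Finset.mem_sigma, Finset.mem_powersetCard, Finset.mem_powerset]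
        exact ⟨⟨Finset.subset_univ _, hc⟩, fun i hi => by
          simp only [neg, supp, Finset.mem_filter, Finset.mem_univ, true_and] at hi ⊢; omega⟩
      · intro x hx y hy e
        obtain ⟨e1, e2⟩ := Sigma.mk.inj_iff.1 e
        have e2 := eq_of_heq e2
        obtain ⟨hx', hxc⟩ := Finset.mem_filter.1 hx
        obtain ⟨hy', hyc⟩ := Finset.mem_filter.1 hy
        obtain ⟨hx1, hx2⟩ := Finset.mem_filter.1 hx'
        obtain ⟨hy1, hy2⟩ := Finset.mem_filter.1 hy'
        obtain ⟨hvx, -⟩ := (h.even_split hx1 hx2).resolve_right fun q => by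
          have := q.2.1; simp only [supp] at hxc; omega
        obtain ⟨hvy, -⟩ := (h.even_split hy1 hy2).resolve_right fun q => by
          have := q.2.1; simp only [supp] at hyc; omega
        funext i
        have a := Finset.ext_iff.1 e1 i
        have b := Finset.ext_iff.1 e2 i
        simp only [supp, neg, Finset.mem_filter, Finset.mem_univ, true_and] at a b
        have := hvx i; have := hvy i
        omega
    have h2 : (Fe.filter fun x => ¬ (supp x).card = 2).card ≤ Q.card := by
      refine Finset.card_le_card_of_injOn (fun x => ⟨supp x, (neg x).erase (anchor (supp x))⟩)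
        (fun x hx => ?_) ?_
      · obtain ⟨hx', hc⟩ := Finset.mem_filter.1 hx
        obtain ⟨hx1, hx2⟩ := Finset.mem_filter.1 hx'
        obtain ⟨-, h8, hind⟩ := (h.even_split hx1 hx2).resolve_left fun q => hc q.2
        simp only [Finset.mem_coe, Q, Finset.mem_sigma, hO, Finset.mem_filter, Finset.mem_powersetCard,
          Finset.mem_powerset]
        refine ⟨⟨⟨Finset.subset_univ _, h8⟩, hind⟩, Finset.erase_subset_erase _ fun i hi => ?_⟩
        simp only [neg, supp, Finset.mem_filter, Finset.mem_univ, true_and] at hi ⊢; omega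
      · intro x hx y hy e
        obtain ⟨e1, e2⟩ := Sigma.mk.inj_iff.1 e
        have e2 := eq_of_heq e2
        obtain ⟨hx', hxc⟩ := Finset.mem_filter.1 hx
        obtain ⟨hy', hyc⟩ := Finset.mem_filter.1 hy
        obtain ⟨hx1, hx2⟩ := Finset.mem_filter.1 hx'
        obtain ⟨hy1, hy2⟩ := Finset.mem_filter.1 hy'
        obtain ⟨hvx, -, -⟩ := (h.even_split hx1 hx2).resolve_left fun q => hxc q.2
        obtain ⟨hvy, -, -⟩ := (h.even_split hy1 hy2).resolve_left fun q => hyc q.2
        have hagree : ∀ i, i ≠ anchor (supp x) → x i = y i := fun i hi => by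
          have a := Finset.ext_iff.1 e1 i
          have b := Finset.ext_iff.1 e2 i
          rw [← e1] at b
          simp only [supp, neg, Finset.mem_erase, Finset.mem_filter, Finset.mem_univ, true_and, ne_eq] at a b
          simp only [supp] at hi
          simp only [hi, not_false_eq_true, true_and] at b
          have := hvx i; have := hvy i
          omega
        by_contra hne
        set p := anchor (supp x) with hp
        have hp' : x p ≠ y p := fun q => hne (funext fun i => by
          by_cases hi : i = p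
          · rw [hi]; exact q
          · exact hagree i hi)
        have hd := h.low _ (M.sub_mem (mem_candShell.1 hx1).1 (mem_candShell.1 hy1).1)
          (sub_ne_zero.2 hne)
        rw [sqNorm, Finset.sum_eq_single p (fun i _ hi => by simp [hagree i hi]) (by simp)] at hd
        have := hvx p; have := hvy p
        have : (x - y) p = 4 ∨ (x - y) p = -4 ∨ (x - y) p = 2 ∨ (x - y) p = -2 := by
          simp only [Pi.sub_apply]; omega
        rcases this with q | q | q | q <;> rw [q] at hd <;> norm_num at hd
    omega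
  have hodd : ∀ x ∈ Fo, ∀ i, x i % 2 = 1 := fun x hx i => by
    obtain ⟨hx1, hx2⟩ := Finset.mem_filter.1 hx
    have := h.parity (mem_candShell.1 hx1).1 i
    omega
  have hFo_le : Fo.card ≤ 24 * 2 ^ finrank F₂ (evCode M) := by
    by_cases hne : Fo.Nonempty
    swap
    · rw [Finset.not_nonempty_iff_eq_empty.1 hne]; simp
    obtain ⟨y₀, hy₀⟩ := hne
    letI : Fintype (evCode M) := Fintype.ofFinite _
    have hspec : ∀ x : ↥Fo, ∃ j, (x.1 j = 3 ∨ x.1 j = -3) ∧ ∀ i, i ≠ j → (x.1 i = 1 ∨ x.1 i = -1) :=
      fun x => odd_split (hodd _ x.2) (mem_candShell.1 (Finset.mem_filter.1 x.2).1).2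
    choose pos hpos hrest using hspec
    have hword : ∀ x : ↥Fo, red (fun i => (x.1 i - y₀ i) / 2) ∈ evCode M := fun x => by
      refine ⟨fun i => (x.1 i - y₀ i) / 2, ?_, rfl⟩
      convert M.sub_mem (mem_candShell.1 (Finset.mem_filter.1 x.2).1).1
        (mem_candShell.1 (Finset.mem_filter.1 hy₀).1).1 using 1
      funext i
      have := hodd _ x.2 i; have := hodd _ hy₀ i
      simp only [Pi.sub_apply]; omega
    have hle := Fintype.card_le_of_injective
      (fun x : ↥Fo => ((pos x, ⟨_, hword x⟩) : GolayPt × evCode M)) (fun a b e => by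
        obtain ⟨e1, e2⟩ := Prod.ext_iff.1 e
        refine Subtype.ext (funext fun i => ?_)
        have e3 := congrFun (congrArg Subtype.val e2) i
        simp only [red] at e3
        rw [ZMod.intCast_eq_intCast_iff_dvd_sub] at e3
        have := hodd _ a.2 i; have := hodd _ b.2 i; have := hodd _ hy₀ i
        dsimp only at e1
        by_cases hi : i = pos a
        · have ha3 := hpos a; have hb3 := hpos b
          rw [← e1, ← hi] at hb3; rw [← hi] at ha3
          push_cast at e3
          omega
        · have ha1 := hrest a i hi; have hb1 := hrest b i (e1 ▸ hi)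
          push_cast at e3
          omega)
    rw [Fintype.card_coe, Fintype.card_prod, ← Nat.card_eq_fintype_card (α := evCode M),
      Module.natCard_eq_pow_finrank (K := F₂), Nat.card_zmod] at hle
    exact hle
  have hdim : finrank F₂ (evCode M) = 12 := by
    by_contra hne
    have : finrank F₂ (evCode M) ≤ 11 := by have := h.finrank_le; omega
    have : 2 ^ finrank F₂ (evCode M) ≤ 2 ^ 11 := Nat.pow_le_pow_right (by norm_num) this
    omega
  refine ⟨⟨rfl, hdim, fun v hv w hw => h.code_orth hv hw, fun w hw => h.code_four hw,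
    fun w hw => h.code_nofour hw⟩, ?_⟩
  obtain ⟨y, hy⟩ := Finset.card_pos.1 (by omega : 0 < Fo.card)
  exact ⟨y, (mem_candShell.1 (Finset.mem_filter.1 hy).1).1, hodd y hy⟩

/-! ### changing coordinates -/

/-- Moving coordinates. -/
def permHom (σ : Equiv.Perm GolayPt) : Vec →+ Vec where
  toFun := permVec σ
  map_zero' := rfl
  map_add' _ _ := rfl

/-- Changing signs. -/
def flipHom (c : Finset GolayPt) : Vec →+ Vec where
  toFun := flipVec c
  map_zero' := funext fun i => by simp [flipVec]
  map_add' x y := funext fun i => by simp only [flipVec, Pi.add_apply]; split_ifs <;> ring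

theorem Cand.map (h : Cand M) (φ : Vec →+ Vec) (hinj : Function.Injective φ)
    (hdot : ∀ x y, dotInt (φ x) (φ y) = dotInt x y) (hpairs : ∀ i j, pairVec i j ∈ M.map φ) :
    Cand (M.map φ) := by
  have hnorm : ∀ x, sqNorm (φ x) = sqNorm x := fun x => by
    have := hdot x x
    simp only [dotInt, ← sq] at this
    exact this
  refine ⟨?_, ?_, ?_, hpairs, ?_⟩
  · rintro _ ⟨x, hx, rfl⟩ hne
    rw [hnorm]; exact h.low x hx fun e => hne (by rw [e, map_zero])
  · rintro _ ⟨x, hx, rfl⟩; rw [hnorm]; exact h.dvd x hx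
  · rintro _ ⟨x, hx, rfl⟩ _ ⟨y, hy, rfl⟩; rw [hdot]; exact h.dot x hx y hy
  · rw [← h.count, ← Set.ncard_image_of_injective {x : Vec | x ∈ M ∧ sqNorm x = 32} hinj]
    congr 1
    ext z
    constructor
    · intro hz
      obtain ⟨hz1, hn⟩ := (hz : z ∈ M.map φ ∧ sqNorm z = 32)
      obtain ⟨x, hx, hxz⟩ := hz1
      exact ⟨x, ⟨hx, by rw [← hnorm x, hxz]; exact hn⟩, hxz⟩
    · rintro ⟨x, hx, hxz⟩
      obtain ⟨hx1, hx2⟩ := (hx : x ∈ M ∧ sqNorm x = 32)
      exact ⟨⟨x, hx1, hxz⟩, by rw [← hxz, hnorm x]; exact hx2⟩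

theorem Cand.map_perm (h : Cand M) (σ : Equiv.Perm GolayPt) : Cand (M.map (permHom σ)) := by
  refine h.map _ (fun x y e => funext fun i => ?_)
    (fun x y => Equiv.sum_comp σ.symm fun i => x i * y i) fun i j => ?_
  · have : permVec σ x (σ i) = permVec σ y (σ i) := congrFun e (σ i)
    simpa [permVec] using this
  · refine ⟨pairVec (σ.symm i) (σ.symm j), h.pairs _ _, funext fun k => ?_⟩
    show pairVec (σ.symm i) (σ.symm j) (σ.symm k) = _
    simp only [pairVec, EmbeddingLike.apply_eq_iff_eq]

theorem Cand.map_flip (h : Cand M) (c : Finset GolayPt) : Cand (M.map (flipHom c)) := by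
  refine h.map _ (Function.LeftInverse.injective (g := flipVec c) (ThreeTrans.Leech.flip_flip c))
    (fun x y => Finset.sum_congr rfl fun i _ => by
      show flipVec c x i * flipVec c y i = _
      simp only [flipVec]; split_ifs <;> ring) fun i j => ?_
  refine ⟨flipVec c (pairVec i j), ?_, ThreeTrans.Leech.flip_flip c _⟩
  let d : Vec := fun k => (if k = i then (if k ∈ c then -1 else 1) else 0) +
    (if k = j then (if k ∈ c then -1 else 1) else 0)
  have : flipVec c (pairVec i j) = fun k => 4 * d k := funext fun k => by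
    simp only [flipVec, pairVec, d]; split_ifs <;> ring
  rw [this]
  refine h.four_mem ?_
  rw [Finset.sum_add_distrib, Finset.sum_ite_eq', Finset.sum_ite_eq', if_pos (Finset.mem_univ _),
    if_pos (Finset.mem_univ _)]
  split_ifs <;> norm_num

theorem evCode_perm (σ : Equiv.Perm GolayPt) (w : GolayPt → F₂) :
    w ∈ evCode (M.map (permHom σ)) ↔ (fun i => w (σ i)) ∈ evCode M := by
  constructor
  · rintro ⟨e, ⟨x, hx, he⟩, rfl⟩
    refine ⟨fun i => e (σ i), ?_, rfl⟩
    have hxe : (fun i => 2 * e (σ i)) = x := funext fun i => by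
      have : permVec σ x (σ i) = 2 * e (σ i) := congrFun he (σ i)
      simpa [permVec] using this.symm
    show (fun i => 2 * e (σ i)) ∈ M
    exact hxe ▸ hx
  · rintro ⟨e, he, hw⟩
    refine ⟨fun i => e (σ.symm i), ⟨_, he, rfl⟩, funext fun i => ?_⟩
    have := congrFun hw (σ.symm i)
    simpa [red] using this

theorem evCode_flip (c : Finset GolayPt) : evCode M ≤ evCode (M.map (flipHom c)) := by
  rintro _ ⟨e, he, rfl⟩
  refine ⟨fun i => if i ∈ c then -e i else e i, ⟨_, he, funext fun i => ?_⟩, funext fun i => ?_⟩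
  · show flipVec c (fun i => 2 * e i) i = 2 * (if i ∈ c then -e i else e i)
    simp only [flipVec]; split_ifs <;> ring
  · simp only [red]; split_ifs <;> simp [CharTwo.neg_eq]

theorem Cand.eq_leech (h : Cand M) (hC : evCode M = golayCode) {y : Vec} (hy : y ∈ M)
    (h1 : ∀ i, y i % 4 = 1) : M = leechLattice := by
  have homega : omegaVec ∈ M := by
    let d : Vec := fun i => (y i - omegaVec i) / 4
    have hd : ∀ i, y i = omegaVec i + 4 * d i := fun i => by
      have := h1 i
      simp only [d, omegaVec]; split_ifs <;> omega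
    rcases Int.emod_two_eq (∑ i, d i) with hp | hp
    · convert M.sub_mem hy (h.four_mem hp) using 1
      funext i; have := hd i; simp only [Pi.sub_apply]; omega
    · exfalso
      have hp' : (∑ i, (d i - if i = none then 1 else 0)) % 2 = 0 := by
        rw [Finset.sum_sub_distrib, Finset.sum_ite_eq', if_pos (Finset.mem_univ _)]; omega
      have := h.dvd _ (M.sub_mem hy (h.four_mem hp'))
      rw [show y - (fun k => 4 * (d k - if k = none then 1 else 0)) = fun _ => (1 : ℤ) from funext fun i => by
        have := hd i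
        simp only [Pi.sub_apply, omegaVec] at this ⊢
        split_ifs at this ⊢ <;> omega] at this
      simp [sqNorm] at this
  have even_case : ∀ z ∈ M, z none % 2 = 0 → z ∈ leechLattice := fun z hz hp => by
    let e : Vec := fun i => z i / 2
    have he : z = fun i => 2 * e i := funext fun i => by have := h.parity hz i; simp only [e]; omega
    have h8 := h.dot _ hz _ homega
    have hdot : dotInt z omegaVec = 2 * (∑ i, e i) - 8 * e none := by
      have : ∀ i, z i * omegaVec i = 2 * e i - (if i = none then 8 * e i else 0) := fun i => by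
        rw [he]; simp only [omegaVec]; split_ifs <;> ring
      rw [dotInt, Finset.sum_congr rfl fun i _ => this i, Finset.sum_sub_distrib, ← Finset.mul_sum,
        Finset.sum_ite_eq', if_pos (Finset.mem_univ _)]
    rw [hdot] at h8
    rw [he, mem_iff, isL_two]
    exact ⟨hC ▸ (⟨e, he ▸ hz, rfl⟩ : red e ∈ evCode M), by omega⟩
  refine le_antisymm (fun x hx => ?_) (le_of_gen fun x hx => ?_)
  · rcases Int.emod_two_eq (x none) with hp | hp
    swap
    · have hz := M.sub_mem hx homega
      suffices x - omegaVec ∈ leechLattice by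
        have := add_mem this (mem_iff.2 isL_omega); rwa [sub_add_cancel] at this
      revert hz
      have : (x - omegaVec) none % 2 = 0 := by simp [omegaVec]; omega
      revert this
      generalize x - omegaVec = z
      intro hp hz
      exact even_case z hz hp
    · exact even_case x hx hp
  · rcases hx with rfl | ⟨i, rfl⟩ | ⟨b, hb, rfl⟩
    · exact homega
    · exact h.pairs i none
    · have hw : Uniq.ind (setOfMask (basisMask b)) ∈ evCode M := by
        rw [hC]
        obtain ⟨w, hw, e⟩ := basis_supports hb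
        rw [← e, Uniq.ind_support₂]; exact hw
      obtain ⟨a, ha⟩ : (setOfMask (basisMask b)).Nonempty :=
        (by decide +kernel : ∀ b < 12, (setOfMask (basisMask b)).Nonempty) b hb
      rcases h.ind_or_flip (a := a) hw with hm | hm
      · exact hm
      · exfalso
        have h8 := h.dot _ hm _ homega
        have e : dotInt (fun k => octVec (setOfMask (basisMask b)) k - if k = a then 4 else 0) omegaVec =
            dotInt (octVec (setOfMask (basisMask b))) omegaVec - 4 * omegaVec a := by
          have : ∀ k, (octVec (setOfMask (basisMask b)) k - if k = a then 4 else 0) * omegaVec k =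
              octVec (setOfMask (basisMask b)) k * omegaVec k - (if k = a then 4 * omegaVec k else 0) := fun k => by
            split_ifs <;> ring
          rw [dotInt, Finset.sum_congr rfl fun k _ => this k, Finset.sum_sub_distrib, Finset.sum_ite_eq',
            if_pos (Finset.mem_univ _)]
          rfl
        have h0 : dotInt (octVec (setOfMask (basisMask b))) omegaVec % 8 = 0 :=
          (by decide +kernel : ∀ b < 12, dotInt (octVec (setOfMask (basisMask b))) omegaVec % 8 = 0) b hb
        rw [e] at h8
        have := (by decide : ∀ a, omegaVec a % 2 = 1) a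
        omega

/-- The candidate is the lattice after a signed permutation. -/
theorem Cand.exists_monomial (h : Cand M) :
    ∃ (σ : Equiv.Perm GolayPt) (c : Finset GolayPt), (M.map (permHom σ)).map (flipHom c) = leechLattice := by
  obtain ⟨hgood, y, hy, hodd⟩ := h.good_and_odd
  obtain ⟨σ, hσ⟩ := Uniq.code_unique hgood
  have h' := h.map_perm σ
  have hC : evCode (M.map (permHom σ)) = golayCode := by
    ext w; rw [evCode_perm]; exact (hσ w).symm
  let y' : Vec := permVec σ y
  let c : Finset GolayPt := Finset.univ.filter fun i => y' i % 4 = 3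
  refine ⟨σ, c, (h'.map_flip c).eq_leech ?_ (y := flipVec c y') ⟨y', ⟨y, hy, rfl⟩, rfl⟩ fun i => ?_⟩
  · refine (Submodule.eq_of_le_of_finrank_le (hC ▸ evCode_flip c) ?_).symm
    rw [Uniq.finrank_golay]
    exact (h'.map_flip c).finrank_le
  · have : y' i % 2 = 1 := hodd _
    simp only [flipVec, c, Finset.mem_filter, Finset.mem_univ, true_and]
    split_ifs <;> omega

/-! ### from a Gram matrix -/

variable {B : Matrix (Fin 24) (Fin 24) ℤ}

theorem orth_count (h : Rootless B) {ι : Type*} [Fintype ι] (v : ι → Fin 24 → ℤ)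
    (ho : ∀ i j, i ≠ j → ip B (v i) (v j) = 0) (hne : ∀ i, v i ≠ 0) : Fintype.card ι ≤ 24 := by
  let w : ι → Fin 24 → ℚ := fun S i => (v S i : ℚ)
  have hli : LinearIndependent ℚ w := by
    rw [Fintype.linearIndependent_iff]
    intro c hc S
    let φ : (Fin 24 → ℚ) → ℚ := fun z => ∑ i, z i * ((B.mulVec (v S)) i : ℚ)
    have hcast : ∀ S', φ (w S') = ((ip B (v S') (v S) : ℤ) : ℚ) := fun S' => by
      simp [φ, w, ip, dotProduct]
    have hsum : ∑ S', c S' * φ (w S') = 0 := by
      simp only [φ, Finset.mul_sum]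
      rw [Finset.sum_comm]
      refine Finset.sum_eq_zero fun i _ => ?_
      have := congrFun hc i
      simp only [Finset.sum_apply, Pi.smul_apply, smul_eq_mul, Pi.zero_apply] at this
      simp only [← mul_assoc, ← Finset.sum_mul, this, zero_mul]
    rw [Finset.sum_eq_single S (fun S' _ hS => by rw [hcast, ho _ _ hS]; simp) (by simp), hcast] at hsum
    rcases mul_eq_zero.1 hsum with e | e
    · exact e
    · exact absurd (Int.cast_eq_zero.1 e) (h.pos _ (hne S)).ne'
  have := hli.fintype_card_le_finrank
  rwa [Module.finrank_fintype_fun_eq_card, Fintype.card_fin] at this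

theorem exists_frame_basis (h : Rootless B)
    (h4 : {x : Fin 24 → ℤ | x ⬝ᵥ B.mulVec x = 4}.ncard = 196560)
    (h6 : {x : Fin 24 → ℤ | x ⬝ᵥ B.mulVec x = 6}.ncard = 16773120)
    (h8 : {x : Fin 24 → ℤ | x ⬝ᵥ B.mulVec x = 8}.ncard = 398034000) :
    ∃ f : GolayPt → Fin 24 → ℤ, (∀ i, ip B (f i) (f i) = 8) ∧ (∀ i j, i ≠ j → ip B (f i) (f j) = 0) ∧
      ∀ i j k, (2 : ℤ) ∣ (f i - f j) k := by
  classical
  obtain ⟨x₀, hx₀⟩ := Finset.card_pos.1 (by rw [card_normShell h, h8]; norm_num : 0 < (normShell B 8).card)
  rw [mem_normShell h] at hx₀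
  set F := (normShell B 8).filter fun y => cls y = cls x₀ with hF
  have hFc : F.card = 48 := frame_card h h4 h6 h8 hx₀
  have hF' : ∀ v ∈ F, ip B v v = 8 ∧ cls v = cls x₀ := fun v hv => by
    rw [hF, Finset.mem_filter, mem_normShell h] at hv; exact hv
  have hneg : ∀ v ∈ F, -v ∈ F ∧ v ≠ -v := fun v hv => by
    obtain ⟨h1, h2⟩ := hF' v hv
    refine ⟨Finset.mem_filter.2 ⟨(mem_normShell h).2 (by rw [ip_neg_left, ip_neg_right, neg_neg, h1]), ?_⟩, ?_⟩
    · rw [← h2]; funext i; simp [cls, CharTwo.neg_eq]
    · intro e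
      have : v = 0 := funext fun i => by have := congrFun e i; simp at this; simp; omega
      rw [this, ip_zero_right] at h1; norm_num at h1
  let g : (Fin 24 → ℤ) → Finset (Fin 24 → ℤ) := fun v => {v, -v}
  have hmul := Finset.card_eq_sum_card_image g F
  rw [Finset.sum_congr rfl (g := fun _ => 2) fun S hS => ?_, Finset.sum_const, smul_eq_mul, hFc] at hmul
  swap
  · obtain ⟨v, hv, rfl⟩ := Finset.mem_image.1 hS
    rw [← Finset.card_pair (hneg v hv).2]
    congr 1
    ext u
    simp only [Finset.mem_filter, g]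
    constructor
    · rintro ⟨-, e⟩; rw [← e]; exact Finset.mem_insert_self _ _
    · intro hu
      rcases Finset.mem_insert.1 hu with rfl | hu
      · exact ⟨hv, rfl⟩
      · rw [Finset.mem_singleton] at hu; subst hu
        exact ⟨(hneg v hv).1, by rw [neg_neg, Finset.pair_comm]⟩
  obtain ⟨e⟩ : Nonempty (GolayPt ≃ ↥(F.image g)) :=
    Fintype.card_eq.1 (by rw [Fintype.card_coe]; show 24 = _; omega)
  have hex : ∀ i, ∃ v ∈ F, g v = (e i).1 := fun i => Finset.mem_image.1 (e i).2
  choose f hf hg using hex
  refine ⟨f, fun i => (hF' _ (hf i)).1, fun i j hij => ?_, fun i j =>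
    cls_eq_iff.1 ((hF' _ (hf i)).2.trans (hF' _ (hf j)).2.symm)⟩
  rcases short_pair h ((hF' _ (hf i)).2.trans (hF' _ (hf j)).2.symm) (hF' _ (hf i)).1.le (hF' _ (hf j)).1.le
    with q | q | ⟨-, -, q⟩
  · exact absurd (e.injective (Subtype.ext (by rw [← hg i, ← hg j, q]))) hij
  · exact absurd (e.injective (Subtype.ext (by rw [← hg i, ← hg j, q]; simp [g, Finset.pair_comm]))) hij
  · exact q

theorem characterisation (h : Rootless B)
    (h4 : {x : Fin 24 → ℤ | x ⬝ᵥ B.mulVec x = 4}.ncard = 196560)
    (h6 : {x : Fin 24 → ℤ | x ⬝ᵥ B.mulVec x = 6}.ncard = 16773120)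
    (h8 : {x : Fin 24 → ℤ | x ⬝ᵥ B.mulVec x = 8}.ncard = 398034000) :
    ∃ F : (Fin 24 → ℤ) ≃+ leechLattice,
      ∀ x : Fin 24 → ℤ, sqNorm ((F x : leechLattice) : Vec) = 8 * (x ⬝ᵥ B.mulVec x) := by
  classical
  obtain ⟨f, hf8, hf0, hf2⟩ := exists_frame_basis h h4 h6 h8
  let ψ : (Fin 24 → ℤ) →+ Vec :=
    { toFun := fun x i => ip B x (f i)
      map_zero' := funext fun i => by simp [ip]
      map_add' := fun x y => funext fun i => ip_add_left x y (f i) }
  have hψ : ∀ x i, ψ x i = ip B x (f i) := fun _ _ => rfl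
  have ipsum : ∀ (x : Fin 24 → ℤ) (a : GolayPt → ℤ),
      ip B x (∑ i, a i • f i) = ∑ i, a i * ip B x (f i) := fun x a => by
    simp only [ip, Matrix.mulVec_sum, dotProduct_sum, Matrix.mulVec_smul, dotProduct_smul, smul_eq_mul]
  have expand : ∀ x, (8 : ℤ) • x = ∑ i, ψ x i • f i := by
    intro x
    by_contra hne
    have hz : (8 : ℤ) • x - ∑ i, ψ x i • f i ≠ 0 := sub_ne_zero.2 hne
    have hzo : ∀ j, ip B ((8 : ℤ) • x - ∑ i, ψ x i • f i) (f j) = 0 := fun j => by
      rw [sub_eq_add_neg, ip_add_left, ip_smul_left, ip_neg_left,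
        ip_comm h (∑ i, ψ x i • f i) (f j), ipsum,
        Finset.sum_eq_single j (fun i _ hi => by rw [hf0 j i (Ne.symm hi), mul_zero]) (by simp),
        hf8, hψ]
      ring
    have := orth_count h (fun o : Option GolayPt => o.elim ((8 : ℤ) • x - ∑ i, ψ x i • f i) f)
      (by
        rintro (- | i) (- | j) hij
        · exact absurd rfl hij
        · exact hzo j
        · rw [Option.elim_some, Option.elim_none, ip_comm h]; exact hzo i
        · exact hf0 i j fun e => hij (congrArg some e))
      (by
        rintro (- | i)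
        · exact hz
        · intro e
          have := hf8 i
          rw [show f i = 0 from e, ip_zero_right] at this
          norm_num at this)
    rw [Fintype.card_option, show Fintype.card GolayPt = 24 from rfl] at this
    omega
  have hdot : ∀ x y, dotInt (ψ x) (ψ y) = 8 * ip B x y := fun x y => by
    have := ipsum x (ψ y)
    rw [← expand y, ip_smul_right] at this
    rw [this, dotInt]
    exact Finset.sum_congr rfl fun i _ => mul_comm _ _
  have hnorm : ∀ x, sqNorm (ψ x) = 8 * ip B x x := fun x => by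
    rw [← hdot]; exact Finset.sum_congr rfl fun i _ => sq _
  have hinj : Function.Injective ψ := fun x y e => by
    by_contra hne
    have hp : 0 < ip B (x - y) (x - y) := h.pos _ (sub_ne_zero.2 hne)
    have := hnorm (x - y)
    rw [map_sub, e, sub_self] at this
    simp [sqNorm] at this
    omega
  have hψf : ∀ i, ψ (f i) = pairVec i i := fun i => funext fun k => by
    rw [hψ]
    simp only [pairVec]
    by_cases hk : k = i
    · subst hk; rw [hf8]; simp
    · rw [hf0 i k (Ne.symm hk), if_neg hk]; simp
  have hcand : Cand ψ.range := by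
    refine ⟨?_, ?_, ?_, fun i j => ?_, ?_⟩
    · rintro _ ⟨x, rfl⟩ hne
      rw [hnorm]
      have hp : 0 < ip B x x := h.pos x fun e => hne (by rw [e, map_zero])
      have h2' : ip B x x ≠ 2 := h.noRoot x
      obtain ⟨k, hk⟩ : (2 : ℤ) ∣ ip B x x := h.even x
      omega
    · rintro _ ⟨x, rfl⟩
      rw [hnorm]
      obtain ⟨k, hk⟩ : (2 : ℤ) ∣ ip B x x := h.even x
      exact ⟨k, by rw [hk]; ring⟩
    · rintro _ ⟨x, rfl⟩ _ ⟨y, rfl⟩
      rw [hdot]; exact dvd_mul_right 8 _
    · by_cases hij : i = j
      · exact hij ▸ ⟨f i, hψf i⟩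
      refine ⟨fun k => (f i k + f j k) / 2, funext fun k => ?_⟩
      have hu : (2 : ℤ) • (fun k => (f i k + f j k) / 2) = f i + f j := funext fun k => by
        have := hf2 i j k
        simp only [Pi.sub_apply] at this
        simp only [Pi.smul_apply, Pi.add_apply, smul_eq_mul]
        omega
      have h2 : 2 * ψ (fun k => (f i k + f j k) / 2) k = ψ (f i) k + ψ (f j) k := by
        rw [hψ, ← ip_smul_left, hu, ip_add_left, ← hψ, ← hψ]
      rw [hψf, hψf] at h2
      simp only [pairVec] at h2 ⊢
      split_ifs at h2 ⊢ <;> omega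
    · rw [← h4, ← Set.ncard_image_of_injective _ hinj]
      congr 1
      ext z
      constructor
      · rintro ⟨⟨x, rfl⟩, hn⟩
        rw [hnorm] at hn
        exact ⟨x, show ip B x x = 4 by omega, rfl⟩
      · rintro ⟨x, hx, rfl⟩
        exact ⟨⟨x, rfl⟩, by rw [hnorm, show ip B x x = 4 from hx]; norm_num⟩
  obtain ⟨σ, c, hM⟩ := hcand.exists_monomial
  let T : (Fin 24 → ℤ) →+ Vec := (flipHom c).comp ((permHom σ).comp ψ)
  have hmem : ∀ x, T x ∈ leechLattice := fun x => hM ▸ ⟨_, ⟨_, ⟨x, rfl⟩, rfl⟩, rfl⟩
  refine ⟨AddEquiv.ofBijective (T.codRestrict leechLattice hmem) ⟨fun a b e => hinj ?_, fun v => ?_⟩,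
    fun x => ?_⟩
  · have e1 : flipVec c (permVec σ (ψ a)) = flipVec c (permVec σ (ψ b)) := congrArg Subtype.val e
    have e2 := Function.LeftInverse.injective (g := flipVec c) (ThreeTrans.Leech.flip_flip c) e1
    funext i
    have := congrFun e2 (σ i)
    simpa [permVec] using this
  · obtain ⟨_, ⟨_, ⟨x, rfl⟩, rfl⟩, hv⟩ :=
      (hM.symm ▸ v.2 : (v : Vec) ∈ (ψ.range.map (permHom σ)).map (flipHom c))
    exact ⟨x, Subtype.ext hv⟩
  · show sqNorm (flipVec c (permVec σ (ψ x))) = _
    rw [norm_flip, norm_perm, hnorm]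
    rfl

end CfsgLib.Sporadic.Lattice
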