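import Cfsg.Agent.Lib.Sporadic.LeechBasic

/-!
# Frames in an even lattice with the vector counts of the Leech lattice
-/

set_option autoImplicit false

namespace CfsgLib.Sporadic.Lattice

open Finset Matrix

variable {B : Matrix (Fin 24) (Fin 24) ℤ}

/-- The inner product. -/
def ip (B : Matrix (Fin 24) (Fin 24) ℤ) (x y : Fin 24 → ℤ) : ℤ := x ⬝ᵥ B *ᵥ y

/-- Rootless positive even symmetric. -/
structure Rootless (B : Matrix (Fin 24) (Fin 24) ℤ) : Prop where
  symm : B.IsSymm
  pos : ∀ x : Fin 24 → ℤ, x ≠ 0 → 0 < x ⬝ᵥ B *ᵥ x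
  even : ∀ x : Fin 24 → ℤ, (2 : ℤ) ∣ x ⬝ᵥ B *ᵥ x
  noRoot : ∀ x : Fin 24 → ℤ, x ⬝ᵥ B *ᵥ x ≠ 2

theorem ip_add_left (x y z : Fin 24 → ℤ) : ip B (x + y) z = ip B x z + ip B y z := add_dotProduct _ _ _

theorem ip_add_right (x y z : Fin 24 → ℤ) : ip B x (y + z) = ip B x y + ip B x z := by
  simp only [ip, mulVec_add, dotProduct_add]

theorem ip_neg_left (x y : Fin 24 → ℤ) : ip B (-x) y = -ip B x y := neg_dotProduct _ _

theorem ip_neg_right (x y : Fin 24 → ℤ) : ip B x (-y) = -ip B x y := by
  simp only [ip, mulVec_neg, dotProduct_neg]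

theorem ip_smul_left (a : ℤ) (x y : Fin 24 → ℤ) : ip B (a • x) y = a * ip B x y := by
  simp only [ip, smul_dotProduct, smul_eq_mul]

theorem ip_smul_right (a : ℤ) (x y : Fin 24 → ℤ) : ip B x (a • y) = a * ip B x y := by
  simp only [ip, mulVec_smul, dotProduct_smul, smul_eq_mul]

theorem ip_comm (h : Rootless B) (x y : Fin 24 → ℤ) : ip B x y = ip B y x := by
  rw [ip, ip, Matrix.dotProduct_mulVec, ← Matrix.mulVec_transpose, h.symm.eq, dotProduct_comm]

theorem ip_zero_right (x : Fin 24 → ℤ) : ip B x 0 = 0 := by simp [ip]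

theorem ip_sq_le (h : Rootless B) (x y : Fin 24 → ℤ) : ip B x y ^ 2 ≤ ip B x x * ip B y y := by
  by_cases hy : y = 0
  · subst hy; simp [ip_zero_right]
  have hpy : 0 < ip B y y := h.pos y hy
  have hq : 0 ≤ ip B (ip B y y • x + (-ip B x y) • y) (ip B y y • x + (-ip B x y) • y) := by
    by_cases hz : ip B y y • x + (-ip B x y) • y = 0
    · rw [hz, ip_zero_right]
    · exact (h.pos _ hz).le
  simp only [ip_add_left, ip_add_right, ip_smul_left, ip_smul_right, ip_comm h y x] at hq
  nlinarith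

theorem finite_norm_eq (h : Rootless B) (n : ℤ) : {x : Fin 24 → ℤ | ip B x x = n}.Finite := by
  classical
  have hinj : Function.Injective fun x : Fin 24 → ℤ => B *ᵥ x := by
    intro x y e
    by_contra hne
    have := h.pos (x - y) (sub_ne_zero.2 hne)
    rw [mulVec_sub, show B *ᵥ x = B *ᵥ y from e, sub_self, dotProduct_zero] at this
    exact lt_irrefl _ this
  let bnd : Fin 24 → ℤ := fun i => |n| * ip B (Pi.single i 1) (Pi.single i 1) + 1
  refine Set.Finite.of_finite_image (f := fun x => B *ᵥ x)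
    (((Fintype.piFinset fun i => Finset.Icc (-bnd i) (bnd i)).finite_toSet).subset ?_) hinj.injOn
  rintro _ ⟨x, hx, rfl⟩
  rw [Finset.mem_coe, Fintype.mem_piFinset]
  intro i
  have e : (B *ᵥ x) i = ip B (Pi.single i 1) x := by simp [ip]
  have h1 := ip_sq_le h (Pi.single i 1) x
  rw [show ip B x x = n from hx] at h1
  have h2 : 0 ≤ ip B (Pi.single i 1) (Pi.single i 1) := (h.pos _ (by simp)).le
  have h3 := mul_le_mul_of_nonneg_left (le_abs_self n) h2
  rw [Finset.mem_Icc]
  dsimp only
  rw [e]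
  simp only [bnd]
  constructor <;> nlinarith

open Classical in
/-- The vectors of a given norm. -/
noncomputable def normShell (B : Matrix (Fin 24) (Fin 24) ℤ) (n : ℤ) : Finset (Fin 24 → ℤ) :=
  if h : {x : Fin 24 → ℤ | ip B x x = n}.Finite then h.toFinset else ∅

theorem mem_normShell (h : Rootless B) {n : ℤ} {x : Fin 24 → ℤ} : x ∈ normShell B n ↔ ip B x x = n := by
  rw [normShell, dif_pos (finite_norm_eq h n), Set.Finite.mem_toFinset]; rfl

theorem card_normShell (h : Rootless B) (n : ℤ) :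
    (normShell B n).card = {x : Fin 24 → ℤ | x ⬝ᵥ B *ᵥ x = n}.ncard := by
  rw [normShell, dif_pos (finite_norm_eq h n)]
  exact (Set.ncard_eq_toFinset_card _ _).symm

/-- The class modulo two. -/
def cls (x : Fin 24 → ℤ) : Fin 24 → ZMod 2 := fun i => (x i : ZMod 2)

theorem cls_eq_iff {x y : Fin 24 → ℤ} : cls x = cls y ↔ ∀ i, (2 : ℤ) ∣ (x - y) i := by
  rw [funext_iff]
  refine forall_congr' fun i => ?_
  rw [Pi.sub_apply]
  show _ ↔ ((2 : ℕ) : ℤ) ∣ _
  rw [← ZMod.intCast_zmod_eq_zero_iff_dvd, Int.cast_sub, sub_eq_zero]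
  rfl

theorem short_pair (h : Rootless B) {x y : Fin 24 → ℤ} (hxy : cls x = cls y) (hx : ip B x x ≤ 8)
    (hy : ip B y y ≤ 8) : y = x ∨ y = -x ∨ (ip B x x = 8 ∧ ip B y y = 8 ∧ ip B x y = 0) := by
  rw [cls_eq_iff] at hxy
  let u : Fin 24 → ℤ := fun i => (x - y) i / 2
  have hu : x - y = (2 : ℤ) • u := funext fun i => by
    show (x - y) i = 2 * ((x - y) i / 2)
    exact (Int.mul_ediv_cancel' (hxy i)).symm
  have hv : x + y = (2 : ℤ) • (u + y) := by rw [smul_add, ← hu, two_smul]; abel
  by_cases hu0 : u = 0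
  · left; rw [hu0, smul_zero, sub_eq_zero] at hu; exact hu.symm
  by_cases hv0 : u + y = 0
  · right; left; rw [hv0, smul_zero, add_eq_zero_iff_eq_neg] at hv; rw [hv, neg_neg]
  right; right
  have q1 : ip B (x - y) (x - y) = ip B x x + ip B y y - 2 * ip B x y := by
    rw [sub_eq_add_neg, ip_add_left, ip_add_right, ip_add_right, ip_neg_left, ip_neg_left, ip_neg_right,
      ip_neg_right, ip_comm h y x]; ring
  have q2 : ip B (x + y) (x + y) = ip B x x + ip B y y + 2 * ip B x y := by
    rw [ip_add_left, ip_add_right, ip_add_right, ip_comm h y x]; ring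
  rw [hu, ip_smul_left, ip_smul_right] at q1
  rw [hv, ip_smul_left, ip_smul_right] at q2
  obtain ⟨a, ha⟩ := h.even u
  obtain ⟨b, hb⟩ := h.even (u + y)
  have := h.pos u hu0
  have := h.pos (u + y) hv0
  have := h.noRoot u
  have := h.noRoot (u + y)
  simp only [ip] at *
  omega

theorem card_orth_le' (h : Rootless B) (F : Finset (Fin 24 → ℤ)) (hn : ∀ x ∈ F, ip B x x = 8)
    (ho : ∀ x ∈ F, ∀ y ∈ F, y = x ∨ y = -x ∨ ip B x y = 0) : F.card ≤ 48 := by
  classical
  let g : (Fin 24 → ℤ) → Finset (Fin 24 → ℤ) := fun v => {v, -v}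
  have h2 := Finset.card_le_mul_card_image (f := g) F 2 fun S hS => by
    refine (Finset.card_le_card (t := S) fun v hv => ?_).trans ?_
    · rw [← (Finset.mem_filter.1 hv).2]; exact Finset.mem_insert_self _ _
    · obtain ⟨v, -, rfl⟩ := Finset.mem_image.1 hS
      exact Finset.card_insert_le _ _
  suffices (F.image g).card ≤ 24 by omega
  have hex : ∀ S : ↥(F.image g), ∃ v ∈ F, g v = S.1 := fun S => Finset.mem_image.1 S.2
  choose v hv hgv using hex
  let w : ↥(F.image g) → Fin 24 → ℚ := fun S i => (v S i : ℚ)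
  have hli : LinearIndependent ℚ w := by
    rw [Fintype.linearIndependent_iff]
    intro c hc S
    let φ : (Fin 24 → ℚ) → ℚ := fun z => ∑ i, z i * ((B *ᵥ v S) i : ℚ)
    have hdot : ∀ S', φ (w S') = if S' = S then 8 else 0 := by
      intro S'
      have hcast : φ (w S') = ((ip B (v S') (v S) : ℤ) : ℚ) := by
        simp [φ, w, ip, dotProduct]
      rw [hcast]
      split
      · rename_i h'
        subst h'
        rw [hn _ (hv S')]; norm_num
      · rename_i h'
        rcases ho _ (hv S') _ (hv S) with e | e | e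
        · exact absurd (Subtype.ext (by rw [← hgv S', ← hgv S, e])) h'
        · exact absurd (Subtype.ext (by rw [← hgv S', ← hgv S, e]; simp [g, Finset.pair_comm])) h'
        · rw [e]; norm_num
    have hsum : ∑ S', c S' * φ (w S') = 0 := by
      simp only [φ, Finset.mul_sum]
      rw [Finset.sum_comm]
      refine Finset.sum_eq_zero fun i _ => ?_
      have := congrFun hc i
      simp only [Finset.sum_apply, Pi.smul_apply, smul_eq_mul, Pi.zero_apply] at this
      simp only [← mul_assoc, ← Finset.sum_mul, this, zero_mul]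
    rw [Finset.sum_congr rfl fun S' _ => by rw [hdot S']] at hsum
    simp at hsum
    exact hsum
  have := hli.fintype_card_le_finrank
  rw [Fintype.card_coe, Module.finrank_fintype_fun_eq_card, Fintype.card_fin] at this
  exact this

theorem cls_fibre (h : Rootless B) {n : ℤ} (hn : n = 4 ∨ n = 6) (q : Fin 24 → ZMod 2) :
    ((normShell B n).filter fun x => cls x = q).card ≤ 2 := by
  classical
  by_contra hh
  obtain ⟨x, hx⟩ := Finset.card_pos.1 (by omega : 0 < ((normShell B n).filter fun x => cls x = q).card)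
  obtain ⟨hxs, hxq⟩ := Finset.mem_filter.1 hx
  refine hh (le_trans (Finset.card_le_card (t := {x, -x}) fun y hy => ?_) (Finset.card_insert_le _ _))
  obtain ⟨hys, hyq⟩ := Finset.mem_filter.1 hy
  rw [mem_normShell h] at hxs hys
  rcases short_pair h (hxq.trans hyq.symm) (by omega) (by omega) with rfl | rfl | ⟨e, -, -⟩
  · simp
  · simp
  · omega

theorem cls_fibre8 (h : Rootless B) (q : Fin 24 → ZMod 2) :
    ((normShell B 8).filter fun x => cls x = q).card ≤ 48 := by
  refine card_orth_le' h _ (fun x hx => (mem_normShell h).1 (Finset.mem_filter.1 hx).1) fun x hx y hy => ?_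
  obtain ⟨hxs, hxq⟩ := Finset.mem_filter.1 hx
  obtain ⟨hys, hyq⟩ := Finset.mem_filter.1 hy
  rw [mem_normShell h] at hxs hys
  rcases short_pair h (hxq.trans hyq.symm) (by omega) (by omega) with e | e | ⟨-, -, e⟩
  exacts [Or.inl e, Or.inr (Or.inl e), Or.inr (Or.inr e)]

/-- Each class of a norm 8 vector holds 48 of them. -/
theorem frame_card (h : Rootless B) (h4 : {x : Fin 24 → ℤ | x ⬝ᵥ B *ᵥ x = 4}.ncard = 196560)
    (h6 : {x : Fin 24 → ℤ | x ⬝ᵥ B *ᵥ x = 6}.ncard = 16773120)
    (h8 : {x : Fin 24 → ℤ | x ⬝ᵥ B *ᵥ x = 8}.ncard = 398034000) {x : Fin 24 → ℤ} (hx : ip B x x = 8) :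
    ((normShell B 8).filter fun y => cls y = cls x).card = 48 := by
  classical
  have e4 := Finset.card_le_mul_card_image (f := cls) (normShell B 4) 2 fun q _ => cls_fibre h (Or.inl rfl) q
  have e6 := Finset.card_le_mul_card_image (f := cls) (normShell B 6) 2 fun q _ => cls_fibre h (Or.inr rfl) q
  have e8 := Finset.card_le_mul_card_image (f := cls) (normShell B 8) 48 fun q _ => cls_fibre8 h q
  rw [card_normShell h, h4] at e4
  rw [card_normShell h, h6] at e6
  rw [card_normShell h, h8] at e8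
  have hdis : ∀ a b : ℤ, a ≤ 8 → b ≤ 8 → a ≠ b →
      Disjoint ((normShell B a).image cls) ((normShell B b).image cls) := by
    intro a b ha hb hab
    rw [Finset.disjoint_left]
    intro q hq hq'
    obtain ⟨u, hu, rfl⟩ := Finset.mem_image.1 hq
    obtain ⟨v, hv, e⟩ := Finset.mem_image.1 hq'
    rw [mem_normShell h] at hu hv
    rcases short_pair h e.symm (by omega) (by omega) with rfl | rfl | ⟨e1, e2, -⟩
    · omega
    · rw [ip_neg_left, ip_neg_right, neg_neg] at hv; omega
    · omega
  have hzero : ∀ a : ℤ, a ≤ 8 → 0 < a → (0 : Fin 24 → ZMod 2) ∉ (normShell B a).image cls := by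
    intro a ha ha0 hq
    obtain ⟨u, hu, e⟩ := Finset.mem_image.1 hq
    rw [mem_normShell h] at hu
    rcases short_pair h (x := u) (y := 0) (e.trans (funext fun i => by simp [cls])) (by omega)
      (by rw [ip_zero_right]; norm_num) with rfl | e' | ⟨-, e', -⟩
    · rw [ip_zero_right] at hu; omega
    · rw [neg_eq_zero.1 e'.symm, ip_zero_right] at hu; omega
    · rw [ip_zero_right] at e'; omega
  let U : Finset (Fin 24 → ZMod 2) := insert 0
    ((normShell B 4).image cls ∪ (normShell B 6).image cls ∪ (normShell B 8).image cls)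
  have hU : U.card = 1 + ((normShell B 4).image cls).card + ((normShell B 6).image cls).card +
      ((normShell B 8).image cls).card := by
    rw [Finset.card_insert_of_notMem, Finset.card_union_of_disjoint, Finset.card_union_of_disjoint]
    · ring
    · exact hdis 4 6 (by norm_num) (by norm_num) (by norm_num)
    · exact Finset.disjoint_union_left.2
        ⟨hdis 4 8 (by norm_num) (by norm_num) (by norm_num), hdis 6 8 (by norm_num) (by norm_num) (by norm_num)⟩
    · simp only [Finset.mem_union, not_or]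
      exact ⟨⟨hzero 4 (by norm_num) (by norm_num), hzero 6 (by norm_num) (by norm_num)⟩,
        hzero 8 (by norm_num) (by norm_num)⟩
  have hle := U.card_le_univ
  rw [Fintype.card_fun, ZMod.card, Fintype.card_fin] at hle
  have hp : (2 : ℕ) ^ 24 = 16777216 := by norm_num
  by_contra hne
  have hlt := lt_of_le_of_ne (cls_fibre8 h (cls x)) hne
  have hxs : x ∈ normShell B 8 := (mem_normShell h).2 hx
  have hstrict : (normShell B 8).card < ((normShell B 8).image cls).card * 48 := by
    rw [Finset.card_eq_sum_card_image cls (normShell B 8), ← smul_eq_mul, ← Finset.sum_const]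
    exact Finset.sum_lt_sum (fun q _ => cls_fibre8 h q) ⟨cls x, Finset.mem_image_of_mem _ hxs, hlt⟩
  rw [card_normShell h, h8] at hstrict
  omega

theorem frame_ncard (h : Rootless B) (h4 : {x : Fin 24 → ℤ | x ⬝ᵥ B *ᵥ x = 4}.ncard = 196560)
    (h6 : {x : Fin 24 → ℤ | x ⬝ᵥ B *ᵥ x = 6}.ncard = 16773120)
    (h8 : {x : Fin 24 → ℤ | x ⬝ᵥ B *ᵥ x = 8}.ncard = 398034000) {x : Fin 24 → ℤ} (hx : ip B x x = 8) :
    {y : Fin 24 → ℤ | y ⬝ᵥ B *ᵥ y = 8 ∧ ∀ i, (2 : ℤ) ∣ (x - y) i}.ncard = 48 := by
  rw [← frame_card h h4 h6 h8 hx, ← Set.ncard_coe_finset]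
  congr 1
  ext y
  simp only [Set.mem_ofPred_eq, Finset.coe_filter, mem_normShell h]
  exact and_congr Iff.rfl (cls_eq_iff.symm.trans eq_comm)

end CfsgLib.Sporadic.Lattice
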