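import Cfsg.Agent.Lib.Sporadic.LeechBasic
import Cfsg.Agent.Lib.Sporadic.ThetaData

/-!
# Counting short vectors of the lattice

The vectors fall into the even ones, one family for each code word, and the odd ones, which are
the sign changes along code words of those congruent to one modulo four in every coordinate.
-/

set_option autoImplicit false

namespace CfsgLib.Sporadic.Lattice

open Cfsg Finset CfsgLib.ThreeTrans.Leech

/-! ### counting tuples -/

/-- Tuples with given values, sum of squares and residue of the sum. -/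
def tuples (P : ℕ → List ℤ) (M n N r : ℕ) : Finset (Fin n → ℤ) :=
  (Fintype.piFinset fun i : Fin n => (P i.val).toFinset).filter fun f =>
    ∑ i, f i ^ 2 = (N : ℤ) ∧ (∑ i, f i) % (M : ℤ) = (r : ℤ)

theorem mem_tuples {P : ℕ → List ℤ} {M n N r : ℕ} {f : Fin n → ℤ} :
    f ∈ tuples P M n N r ↔ (∀ i : Fin n, f i ∈ P i.val) ∧ ∑ i, f i ^ 2 = (N : ℤ) ∧
      (∑ i, f i) % (M : ℤ) = (r : ℤ) := by
  simp [tuples, Fintype.mem_piFinset]

/-- Squares and residues. -/
def pairsOf (M : ℕ) (l : List ℤ) : List (ℕ × ℕ) := l.map fun v => (v.natAbs ^ 2, (v % (M : ℤ)).toNat)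

/-- A field of a packed table. -/
noncomputable def field (t M N r : ℕ) : ℕ :=
  Nat.mod (Nat.shiftRight t (Nat.mul 40 (Nat.add (Nat.mul N M) r))) 1099511627776

noncomputable def entrySum (t M N r : ℕ) (V : List (ℕ × ℕ)) : ℕ :=
  List.rec 0 (fun v _ ih => Nat.add
    (cond (Nat.ble v.1 N) (field t M (Nat.sub N v.1) (Nat.mod (Nat.sub (Nat.add r M) v.2) M)) 0) ih) V

noncomputable def stepTable (M Nmax t u : ℕ) (V : List (ℕ × ℕ)) : Bool :=
  forallLt (Nmax + 1) fun N => forallLt M fun r => Nat.beq (field u M N r) (entrySum t M N r V)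

noncomputable def baseTable (M Nmax t : ℕ) : Bool :=
  forallLt (Nmax + 1) fun N => forallLt M fun r =>
    Nat.beq (field t M N r) (cond (Nat.beq N 0 && Nat.beq r 0) 1 0)

/-- Two value lists, split at `w`, and the tables of all levels. -/
noncomputable def tableOK (M Nmax w : ℕ) (a b : List ℤ) (T : List ℕ) : Bool :=
  baseTable M Nmax (T.getD 0 0) && forallLt 24 fun k =>
    stepTable M Nmax (T.getD k 0) (T.getD (k + 1) 0) (pairsOf M (if k < w then a else b))

theorem entrySum_eq (t M N r : ℕ) (V : List (ℕ × ℕ)) :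
    entrySum t M N r V =
      (V.map fun v => if v.1 ≤ N then field t M (N - v.1) ((r + M - v.2) % M) else 0).sum := by
  induction V with
  | nil => rfl
  | cons v V ih =>
    rw [List.map_cons, List.sum_cons, ← ih]
    show cond (Nat.ble v.1 N) _ 0 + entrySum t M N r V = _
    by_cases h : v.1 ≤ N
    · rw [if_pos h, show Nat.ble v.1 N = true by rw [Nat.ble_eq]; exact h]; rfl
    · rw [if_neg h, show Nat.ble v.1 N = false by rw [← Bool.not_eq_true, Nat.ble_eq]; exact h]; rfl

theorem card_tuples {M Nmax w : ℕ} {a b : List ℤ} {T : List ℕ} (hM : 0 < M) (ha : a.Nodup) (hb : b.Nodup)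
    (hT : tableOK M Nmax w a b T = true) :
    ∀ k ≤ 24, ∀ N ≤ Nmax, ∀ r < M,
      (tuples (fun i => if i < w then a else b) M k N r).card = field (T.getD k 0) M N r := by
  simp only [tableOK, Bool.and_eq_true, forallLt_iff] at hT
  obtain ⟨h0, hstep⟩ := hT
  intro k
  induction k with
  | zero =>
    intro _ N hN r hr
    have h := Nat.eq_of_beq_eq_true (forallLt_elim (forallLt_elim h0 (show N < Nmax + 1 by omega)) hr)
    rw [h]
    by_cases hc : N = 0 ∧ r = 0
    · obtain ⟨rfl, rfl⟩ := hc
      show _ = 1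
      rw [Finset.card_eq_one]
      exact ⟨Fin.elim0, Finset.eq_singleton_iff_unique_mem.2
        ⟨mem_tuples.2 ⟨fun i => i.elim0, by simp, by simp⟩, fun f _ => funext fun i => i.elim0⟩⟩
    · have : (Nat.beq N 0 && Nat.beq r 0) = false := by
        rw [← Bool.not_eq_true, Bool.and_eq_true, Nat.beq_eq, Nat.beq_eq]; exact hc
      rw [this]
      refine Finset.card_eq_zero.2 (Finset.eq_empty_of_forall_notMem fun f hf => hc ?_)
      obtain ⟨-, h1, h2⟩ := mem_tuples.1 hf
      simp at h1 h2
      omega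
  | succ k ih =>
    intro hk N hN r hr
    have h := Nat.eq_of_beq_eq_true (forallLt_elim (forallLt_elim (hstep k (by omega))
      (show N < Nmax + 1 by omega)) hr)
    rw [h, entrySum_eq, pairsOf, List.map_map]
    set P : ℕ → List ℤ := fun i => if i < w then a else b with hP
    change _ = ((P k).map _).sum
    have hnd : (P k).Nodup := by simp only [hP]; split <;> assumption
    rw [← List.sum_toFinset _ hnd]
    have hsplit : tuples P M (k + 1) N r = (P k).toFinset.biUnion fun v =>
        (if v.natAbs ^ 2 ≤ N then tuples P M k (N - v.natAbs ^ 2) ((r + M - (v % (M : ℤ)).toNat) % M)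
          else ∅).image fun f => Fin.snoc (α := fun _ => ℤ) f v := by
      ext f
      simp only [Finset.mem_biUnion, List.mem_toFinset, Finset.mem_image]
      constructor
      · intro hf
        obtain ⟨hm, hs, hr'⟩ := mem_tuples.1 hf
        refine ⟨f (Fin.last k), hm (Fin.last k), Fin.init f, ?_, Fin.snoc_init_self f⟩
        rw [Fin.sum_univ_castSucc] at hs hr'
        have hsq : ((f (Fin.last k)).natAbs ^ 2 : ℕ) = (f (Fin.last k)) ^ 2 := by
          push_cast; rw [sq_abs]
        have hnn : 0 ≤ ∑ i : Fin k, f i.castSucc ^ 2 := Finset.sum_nonneg fun i _ => sq_nonneg _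
        have hle : (f (Fin.last k)).natAbs ^ 2 ≤ N := by omega
        rw [if_pos hle]
        refine mem_tuples.2 ⟨fun i => hm i.castSucc, ?_, ?_⟩
        · show ∑ i : Fin k, f i.castSucc ^ 2 = _
          rw [Nat.cast_sub hle]; omega
        · show (∑ i : Fin k, f i.castSucc) % (M : ℤ) = _
          have hvM := Int.emod_nonneg (f (Fin.last k)) (show (M : ℤ) ≠ 0 by omega)
          have hvM' := Int.emod_lt_of_pos (f (Fin.last k)) (show (0 : ℤ) < M by omega)
          rw [Int.natCast_mod, Nat.cast_sub (by omega), Int.toNat_of_nonneg hvM]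
          push_cast
          rw [← hr']
          have h1 := Int.mod_modEq ((∑ i : Fin k, f i.castSucc) + f (Fin.last k)) (M : ℤ)
          have h2 := Int.mod_modEq (f (Fin.last k)) (M : ℤ)
          exact (((h1.add_right (M : ℤ)).sub h2).trans (Int.modEq_iff_dvd.2 ⟨-1, by ring⟩)).symm
      · rintro ⟨v, hv, g, hg, rfl⟩
        split at hg
        · rename_i hle
          obtain ⟨hm, hs, hr'⟩ := mem_tuples.1 hg
          refine mem_tuples.2 ⟨fun i => ?_, ?_, ?_⟩
          · refine Fin.lastCases ?_ (fun j => ?_) i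
            · simpa using hv
            · simpa using hm j
          · rw [Fin.sum_univ_castSucc]
            simp only [Fin.snoc_castSucc, Fin.snoc_last]
            rw [hs, Nat.cast_sub hle]
            push_cast
            rw [sq_abs]; ring
          · rw [Fin.sum_univ_castSucc]
            simp only [Fin.snoc_castSucc, Fin.snoc_last]
            have hvM := Int.emod_nonneg v (show (M : ℤ) ≠ 0 by omega)
            have hvM' := Int.emod_lt_of_pos v (show (0 : ℤ) < M by omega)
            have h1 : (∑ i : Fin k, g i) ≡ (r : ℤ) + M - v % M [ZMOD M] := by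
              have := hr'
              rw [Int.natCast_mod, Nat.cast_sub (by omega), Int.toNat_of_nonneg hvM] at this
              push_cast at this
              exact (Int.mod_modEq _ _).symm.trans (this ▸ Int.mod_modEq _ _)
            have h2 := (h1.add (Int.mod_modEq v (M : ℤ)).symm).trans
              (Int.modEq_iff_dvd.2 ⟨-1, by ring⟩ : _ ≡ (r : ℤ) [ZMOD M])
            exact Eq.trans h2 (Int.emod_eq_of_lt (by omega) (by omega))
        · exact absurd hg (Finset.notMem_empty _)
    rw [hsplit, Finset.card_biUnion]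
    · refine Finset.sum_congr rfl fun v hv => ?_
      rw [Finset.card_image_of_injective _ (fun f g h => by simpa using congrArg Fin.init h)]
      simp only [Function.comp_apply]
      split
      · rw [ih (by omega) _ (by omega) _ (Nat.mod_lt _ hM)]
      · rfl
    · intro v _ u _ hvu
      simp only [Function.onFun, Finset.disjoint_left, Finset.mem_image]
      rintro _ ⟨f, -, rfl⟩ ⟨g, -, e⟩
      exact hvu (by simpa using (congrFun e (Fin.last k)).symm)

/-- Tuples indexed by the points, with two value lists. -/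
def ptTuples (S : Finset GolayPt) (a b : List ℤ) (M N r : ℕ) : Finset (GolayPt → ℤ) :=
  (Fintype.piFinset fun i => (if i ∈ S then a else b).toFinset).filter fun f =>
    ∑ i, f i ^ 2 = (N : ℤ) ∧ (∑ i, f i) % (M : ℤ) = (r : ℤ)

theorem mem_ptTuples {S : Finset GolayPt} {a b : List ℤ} {M N r : ℕ} {f : GolayPt → ℤ} :
    f ∈ ptTuples S a b M N r ↔ (∀ i, f i ∈ if i ∈ S then a else b) ∧ ∑ i, f i ^ 2 = (N : ℤ) ∧
      (∑ i, f i) % (M : ℤ) = (r : ℤ) := by
  simp [ptTuples, Fintype.mem_piFinset]

theorem card_ptTuples {M Nmax : ℕ} {a b : List ℤ} {T : List ℕ} (S : Finset GolayPt) (hM : 0 < M)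
    (ha : a.Nodup) (hb : b.Nodup) (hT : tableOK M Nmax S.card a b T = true) {N r : ℕ} (hN : N ≤ Nmax)
    (hr : r < M) : (ptTuples S a b M N r).card = field (T.getD 24 0) M N r := by
  rw [← card_tuples hM ha hb hT 24 le_rfl N hN r hr]
  let e₀ : Fin 24 ≃ GolayPt := (Fintype.equivFinOfCardEq (rfl : Fintype.card GolayPt = 24)).symm
  let A : Finset GolayPt := (Finset.univ.filter fun i : Fin 24 => i.val < S.card).map e₀.toEmbedding
  have hA : A.card = S.card := by
    rw [Finset.card_map]
    have h24 : S.card ≤ 24 := S.card_le_univ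
    exact (Fin.card_filter_val_lt).trans (min_eq_right h24)
  let σ : Fin 24 ≃ GolayPt := e₀.trans (Finset.equivOfCardEq hA).extendSubtype
  have hσ : ∀ i : Fin 24, σ i ∈ S ↔ i.val < S.card := fun i => by
    constructor
    · intro h
      by_contra hc
      exact Equiv.extendSubtype_not_mem _ _
        (by simp only [A, Finset.mem_map', Equiv.toEmbedding_apply]; rw [Finset.mem_map]; rintro ⟨j, hj, e⟩; exact hc (e₀.injective e ▸ (Finset.mem_filter.1 hj).2)) h
    · intro h
      exact Equiv.extendSubtype_mem _ _ (Finset.mem_map.2 ⟨i, Finset.mem_filter.2 ⟨Finset.mem_univ _, h⟩, rfl⟩)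
  refine Finset.card_bij (fun f _ => f ∘ σ) (fun f hf => ?_) (fun f _ g _ e => ?_) (fun g hg => ?_)
  · obtain ⟨h1, h2, h3⟩ := mem_ptTuples.1 hf
    refine mem_tuples.2 ⟨fun i => ?_, ?_, ?_⟩
    · have := h1 (σ i)
      simp only [hσ] at this
      exact this
    · rw [← h2]; exact Equiv.sum_comp σ fun j => f j ^ 2
    · rw [← h3]; exact congrArg (· % (M : ℤ)) (Equiv.sum_comp σ f)
  · exact σ.surjective.injective_comp_right e
  · obtain ⟨h1, h2, h3⟩ := mem_tuples.1 hg
    refine ⟨g ∘ σ.symm, mem_ptTuples.2 ⟨fun i => ?_, ?_, ?_⟩, by funext i; simp⟩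
    · have := h1 (σ.symm i)
      simp only [← hσ, Equiv.apply_symm_apply] at this
      exact this
    · rw [← h2, ← Equiv.sum_comp σ fun j => (g ∘ σ.symm) j ^ 2]
      exact Finset.sum_congr rfl fun i _ => by simp
    · rw [← h3, ← Equiv.sum_comp σ (g ∘ σ.symm)]
      congr 1
      exact Finset.sum_congr rfl fun i _ => by simp

/-! ### the code as a finset -/

/-- The code words. -/
noncomputable def codeFin : Finset (GolayPt → ZMod 2) :=
  (Finset.range 4096).image fun k => wordOf (enc k)

theorem mem_codeFin {c : GolayPt → ZMod 2} : c ∈ codeFin ↔ c ∈ golayCode := by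
  rw [mem_golayCode_iff]; simp [codeFin]

theorem sum_codeFin (g : ℕ → ℕ) :
    ∑ c ∈ codeFin, g (support₂ c).card =
      (Nat.rec 0 (fun k acc => Nat.add acc (g (popc (enc k)))) 4096 : ℕ) := by
  have hrec : ∀ n : ℕ, (Nat.rec 0 (fun k acc => Nat.add acc (g (popc (enc k)))) n : ℕ) =
      ∑ k ∈ Finset.range n, g (popc (enc k)) := by
    intro n
    induction n with
    | zero => rfl
    | succ n ih => rw [Finset.sum_range_succ, ← ih]; rfl
  rw [hrec, codeFin, Finset.sum_image]
  · refine Finset.sum_congr rfl fun k hk => ?_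
    rw [support₂_wordOf, card_setOfMask]
  · intro p hp q hq e
    simp only [Finset.coe_range, Set.mem_Iio] at hp hq
    exact enc_inj hp hq (wordOf_inj (enc_lt hp) (enc_lt hq) e)

theorem card_codeFin : codeFin.card = 4096 := by
  rw [Finset.card_eq_sum_ones, sum_codeFin fun _ => 1]
  decide +kernel

/-! ### even vectors -/

theorem isL_two {e : GolayPt → ℤ} :
    IsL (fun i => 2 * e i) ↔ red e ∈ golayCode ∧ (∑ i, e i) % 4 = 0 := by
  constructor
  · rintro ⟨m, d, h1, h2, h3⟩
    dsimp only at h1 h3
    have hev : m % 2 = 0 := by have := h1 none; omega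
    have : red e = red d + ((m / 2 : ℤ) : ZMod 2) • (1 : GolayPt → ZMod 2) := by
      funext i
      simp only [red, Pi.add_apply, Pi.smul_apply, Pi.one_apply, smul_eq_mul, mul_one]
      rw [← Int.cast_add]
      congr 1
      have := h1 i
      omega
    refine ⟨this ▸ add_mem h2 (Submodule.smul_mem _ _ one_mem_code), ?_⟩
    rw [← Finset.mul_sum] at h3
    simp only [Int.ModEq] at h3
    omega
  · rintro ⟨h1, h2⟩
    refine ⟨0, e, fun i => by ring, h1, ?_⟩
    rw [← Finset.mul_sum]
    simp only [Int.ModEq]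
    omega

/-- Even vectors with halves in the given lists. -/
def evenFam (a b : List ℤ) (N : ℕ) : Set (GolayPt → ℤ) :=
  {x | IsL x ∧ sqNorm x = 4 * (N : ℤ) ∧ ∀ i, ∃ v ∈ a ++ b, x i = 2 * v}

theorem evenFam_eq (a b : List ℤ) (N : ℕ) (ha : ∀ v ∈ a, v % 2 = 1) (hb : ∀ v ∈ b, v % 2 = 0) :
    evenFam a b N = (fun e : GolayPt → ℤ => fun i => 2 * e i) ''
      ↑(codeFin.biUnion fun c => ptTuples (support₂ c) a b 4 N 0) := by
  ext x
  simp only [Set.mem_image, Finset.coe_biUnion, Set.mem_iUnion, Finset.mem_coe, mem_ptTuples, mem_codeFin]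
  constructor
  · rintro ⟨hL, hn, hv⟩
    choose e he hxe using hv
    have hx : x = fun i => 2 * e i := funext hxe
    subst hx
    obtain ⟨hc, hs⟩ := isL_two.1 hL
    refine ⟨e, ⟨red e, hc, fun i => ?_, ?_, by exact_mod_cast hs⟩, rfl⟩
    · rcases List.mem_append.1 (he i) with h | h
      · rw [if_pos (by simp [support₂, red, cast_ne_zero_iff, ha _ h])]; exact h
      · rw [if_neg (by simp [support₂, red, cast_ne_zero_iff, hb _ h])]; exact h
    · simp only [sqNorm, mul_pow, ← Finset.mul_sum] at hn
      linarith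
  · rintro ⟨e, ⟨c, hc, hv, hs, hm⟩, rfl⟩
    have hred : red e = c := code_ext fun i => by
      rw [red, cast_ne_zero_iff]
      have := hv i
      by_cases h : i ∈ support₂ c
      · rw [if_pos h] at this
        exact iff_of_true (ha _ this) (by simpa [support₂] using h)
      · rw [if_neg h] at this
        exact iff_of_false (by rw [hb _ this]; norm_num) (by simpa [support₂] using h)
    refine ⟨isL_two.2 ⟨hred ▸ hc, by exact_mod_cast hm⟩, ?_, fun i => ⟨e i, ?_, rfl⟩⟩
    · simp only [sqNorm, mul_pow, ← Finset.mul_sum, hs]; ring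
    · have := hv i
      rw [List.mem_append]
      split at this
      · exact Or.inl this
      · exact Or.inr this

theorem ncard_evenFam (a b : List ℤ) (N Nmax : ℕ) (tbl : ℕ → List ℕ) (ha : ∀ v ∈ a, v % 2 = 1)
    (hb : ∀ v ∈ b, v % 2 = 0) (han : a.Nodup) (hbn : b.Nodup)
    (hT : ∀ w ∈ [0, 8, 12, 16, 24], tableOK 4 Nmax w a b (tbl w) = true) (hN : N ≤ Nmax) :
    (evenFam a b N).Finite ∧ (evenFam a b N).ncard =
      (Nat.rec 0 (fun k acc => Nat.add acc (field ((tbl (popc (enc k))).getD 24 0) 4 N 0)) 4096 : ℕ) := by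
  rw [evenFam_eq a b N ha hb]
  refine ⟨(Finset.finite_toSet _).image _, ?_⟩
  rw [Set.ncard_image_of_injective _ (fun e e' h => funext fun i => by have := congrFun h i; simpa using this),
    Set.ncard_coe_finset, Finset.card_biUnion]
  · rw [← sum_codeFin fun w => field ((tbl w).getD 24 0) 4 N 0]
    refine Finset.sum_congr rfl fun c hc => card_ptTuples _ (by norm_num) han hbn (hT _ ?_) hN (by norm_num)
    rcases card_code_support (s := support₂ c) ⟨c, mem_codeFin.1 hc, rfl⟩ with h | h | h | h | h <;>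
      simp [h]
  · intro c hc c' hc' hne
    simp only [Function.onFun, Finset.disjoint_left, mem_ptTuples]
    rintro e ⟨h1, -, -⟩ ⟨h2, -, -⟩
    refine hne (code_ext fun i => ?_)
    have := h1 i
    have := h2 i
    by_cases p : i ∈ support₂ c <;> by_cases q : i ∈ support₂ c'
    · exact iff_of_true (by simpa [support₂] using p) (by simpa [support₂] using q)
    · rw [if_pos p] at *; rw [if_neg q] at *
      have := ha _ (by assumption : e i ∈ a); have := hb _ (by assumption : e i ∈ b); omega
    · rw [if_neg p] at *; rw [if_pos q] at *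
      have := ha _ (by assumption : e i ∈ a); have := hb _ (by assumption : e i ∈ b); omega
    · exact iff_of_false (by simpa [support₂] using p) (by simpa [support₂] using q)

/-! ### odd vectors -/

/-- Change of sign on the support of a word. -/
def flip (c : GolayPt → ZMod 2) (x : GolayPt → ℤ) : GolayPt → ℤ :=
  fun i => if i ∈ support₂ c then -x i else x i

theorem flip_flip (c : GolayPt → ZMod 2) (x : GolayPt → ℤ) : flip c (flip c x) = x := by
  funext i; simp only [flip]; split <;> simp

theorem sq_flip (c : GolayPt → ZMod 2) (x : GolayPt → ℤ) : ∑ i, flip c x i ^ 2 = ∑ i, x i ^ 2 :=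
  Finset.sum_congr rfl fun i _ => by simp only [flip]; split <;> simp

/-- Odd vectors whose coordinates are up to sign in the given list. -/
def oddFam (a : List ℤ) (N : ℕ) : Set (GolayPt → ℤ) :=
  {x | IsL x ∧ sqNorm x = (N : ℤ) ∧ ∀ i, x i ∈ a ∨ -x i ∈ a}

theorem oddFam_eq (a : List ℤ) (N : ℕ) (ha : ∀ v ∈ a, v % 4 = 1) :
    oddFam a N = ↑(codeFin.biUnion fun c => (ptTuples Finset.univ a [] 8 N 4).image (flip c)) := by
  ext x
  simp only [Finset.coe_biUnion, Set.mem_iUnion, Finset.mem_coe, Finset.coe_image, Set.mem_image,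
    mem_ptTuples, mem_codeFin, Finset.mem_univ, if_true, exists_prop]
  constructor
  · rintro ⟨hL, hn, hv⟩
    obtain ⟨m, d, h1, h2, h3⟩ := hL
    have hm : m % 2 = 1 := by
      rcases hv none with h | h <;> have := ha _ h <;> have := h1 none <;> omega
    let d' : GolayPt → ℤ := fun i => d i + (m - 1) / 2
    have hd' : red d' = red d + (((m - 1) / 2 : ℤ) : ZMod 2) • (1 : GolayPt → ZMod 2) := by
      funext i; simp [red, d']
    have hc : red d' ∈ golayCode := hd' ▸ add_mem h2 (Submodule.smul_mem _ _ one_mem_code)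
    have hmem : ∀ i, flip (red d') x i ∈ a := fun i => by
      have := h1 i
      simp only [flip, support₂, Finset.mem_filter, Finset.mem_univ, true_and, red, cast_ne_zero_iff, d']
      rcases hv i with h | h <;> have := ha _ h <;> split <;> first
        | assumption
        | (exfalso; omega)
    have hL' : IsL (flip (red d') x) := sign_mem ⟨_, hc, rfl⟩ ⟨m, d, h1, h2, h3⟩
    refine ⟨red d', hc, flip (red d') x, ⟨hmem, by rw [sq_flip]; exact hn, ?_⟩, flip_flip _ _⟩
    obtain ⟨n, f, k1, -, k3⟩ := hL'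
    have := k1 none
    have := ha _ (hmem none)
    simp only [Int.ModEq] at k3
    push_cast
    omega
  · rintro ⟨c, hc, y, ⟨hy, hs, hsum⟩, rfl⟩
    push_cast at hsum
    have hL : IsL y := by
      refine ⟨1, fun i => (y i - 1) / 2, fun i => by have := ha _ (hy i); dsimp only; omega, ?_, ?_⟩
      · have : red (fun i => (y i - 1) / 2) = 0 := by
          funext i
          simp only [red, Pi.zero_apply, ZMod.intCast_zmod_eq_zero_iff_dvd]
          have := ha _ (hy i); omega
        rw [this]; exact zero_mem _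
      · simp only [Int.ModEq]; omega
    refine ⟨sign_mem ⟨c, hc, rfl⟩ hL, by rw [sqNorm, sq_flip]; exact hs, fun i => ?_⟩
    simp only [flip]
    split
    · exact Or.inr (by rw [neg_neg]; exact hy i)
    · exact Or.inl (hy i)

theorem ncard_oddFam (a : List ℤ) (N Nmax : ℕ) (T : List ℕ) (ha : ∀ v ∈ a, v % 4 = 1) (han : a.Nodup)
    (hT : tableOK 8 Nmax 24 a [] T = true) (hN : N ≤ Nmax) :
    (oddFam a N).Finite ∧ (oddFam a N).ncard = 4096 * field (T.getD 24 0) 8 N 4 := by
  rw [oddFam_eq a N ha]
  refine ⟨Finset.finite_toSet _, ?_⟩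
  rw [Set.ncard_coe_finset, Finset.card_biUnion, Finset.sum_congr rfl
    (g := fun _ => field (T.getD 24 0) 8 N 4) fun c _ => ?_, Finset.sum_const, card_codeFin, smul_eq_mul]
  · rw [Finset.card_image_of_injective _ (Function.LeftInverse.injective (g := flip c) (flip_flip c)),
      card_ptTuples (Finset.univ : Finset GolayPt) (by norm_num) han List.nodup_nil hT hN (by norm_num)]
  · intro c hc c' hc' hne
    simp only [Function.onFun, Finset.disjoint_left, Finset.mem_image, mem_ptTuples, Finset.mem_univ, if_true]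
    rintro x ⟨y, ⟨hy, -, -⟩, rfl⟩ ⟨y', ⟨hy', -, -⟩, e⟩
    refine hne (code_ext fun i => ?_)
    have e' := congrFun e i
    have := ha _ (hy i)
    have := ha _ (hy' i)
    simp only [flip, support₂, Finset.mem_filter, Finset.mem_univ, true_and] at e'
    by_cases p : c i ≠ 0 <;> by_cases q : c' i ≠ 0 <;>
      first | exact iff_of_true p q | exact iff_of_false p q | (exfalso; rw [if_pos p, if_neg q] at e'; omega) | (exfalso; rw [if_neg p, if_pos q] at e'; omega)

/-! ### the tables -/

def evOdd : List ℤ := [1, -1, 3, -3]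
def evEven : List ℤ := [0, 2, -2, 4, -4]

theorem full_ok : ∀ w ∈ [0, 8, 12, 16, 24], tableOK 4 16 w evOdd evEven (theta_full w) = true := by
  decide +kernel

theorem small_ok : ∀ w ∈ [0, 8, 12, 16, 24], tableOK 4 12 w [1, -1] [0] (theta_small w) = true := by
  decide +kernel

theorem nofour_ok : ∀ w ∈ [0, 8, 12, 16, 24], tableOK 4 12 w evOdd [0, 4, -4] (theta_nofour w) = true := by
  decide +kernel

theorem odd_full_ok : tableOK 8 64 24 [1, -3, 5, -7] [] theta_odd_full = true := by decide +kernel

theorem odd_nofive_ok : tableOK 8 48 24 [1, -3] [] theta_odd_nofive = true := by decide +kernel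

/-! ### the census -/

theorem abs_le_of_sq {x : GolayPt → ℤ} {n b : ℤ} (h : sqNorm x ≤ n) (hn : n < (b + 1) ^ 2) (hb : 0 ≤ b)
    (i : GolayPt) : -b ≤ x i ∧ x i ≤ b := by
  have hi : x i ^ 2 ≤ n :=
    le_trans (Finset.single_le_sum (f := fun j => x j ^ 2) (fun j _ => sq_nonneg _) (Finset.mem_univ i)) h
  constructor <;> nlinarith

theorem split_family {x : GolayPt → ℤ} (hx : IsL x) {N : ℕ} (hN : N ≤ 16) (h : sqNorm x = 4 * (N : ℤ)) :
    x ∈ evenFam evOdd evEven N ∨ x ∈ oddFam [1, -3, 5, -7] (4 * N) := by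
  obtain ⟨m, d, h1, h2, h3⟩ := hx
  have hx : IsL x := ⟨m, d, h1, h2, h3⟩
  have hb : ∀ i, -8 ≤ x i ∧ x i ≤ 8 := fun i =>
    abs_le_of_sq (n := 64) (b := 8) (by omega) (by norm_num) (by norm_num) i
  rcases Int.emod_two_eq m with hm | hm
  · refine Or.inl ⟨hx, h, fun i => ⟨x i / 2, ?_, by have := h1 i; omega⟩⟩
    have := hb i
    have := h1 i
    simp only [evOdd, evEven, List.cons_append, List.nil_append, List.mem_cons, List.not_mem_nil, or_false]
    omega
  · refine Or.inr ⟨hx, by push_cast; exact h, fun i => ?_⟩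
    have := hb i
    have := h1 i
    simp only [List.mem_cons, List.not_mem_nil, or_false]
    omega

theorem count_norm (N : ℕ) (hN : N ≤ 16) :
    {x : GolayPt → ℤ | x ∈ leechLattice ∧ sqNorm x = 4 * (N : ℤ)}.ncard =
      (evenFam evOdd evEven N).ncard + (oddFam [1, -3, 5, -7] (4 * N)).ncard := by
  have he := (ncard_evenFam evOdd evEven N 16 theta_full (by decide) (by decide) (by decide) (by decide) full_ok hN).1
  have ho := (ncard_oddFam [1, -3, 5, -7] (4 * N) 64 theta_odd_full (by decide) (by decide) odd_full_ok (by omega)).1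
  rw [← Set.ncard_union_eq ?_ he ho]
  · congr 1
    ext x
    simp only [Set.mem_ofPred_eq, Set.mem_union, mem_iff]
    constructor
    · exact fun ⟨h1, h2⟩ => split_family h1 hN h2
    · rintro (⟨h1, h2, -⟩ | ⟨h1, h2, -⟩)
      · exact ⟨h1, h2⟩
      · exact ⟨h1, by push_cast at h2; exact h2⟩
  · rw [Set.disjoint_left]
    rintro x ⟨-, -, he⟩ ⟨-, -, ho⟩
    obtain ⟨v, -, hv⟩ := he none
    simp only [List.mem_cons, List.not_mem_nil, or_false] at ho
    have := ho none
    omega

theorem count32 : {x : GolayPt → ℤ | x ∈ leechLattice ∧ sqNorm x = 32}.ncard = 196560 := by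
  rw [show (32 : ℤ) = 4 * ((8 : ℕ) : ℤ) by norm_num, count_norm 8 (by norm_num),
    (ncard_evenFam evOdd evEven 8 16 theta_full (by decide) (by decide) (by decide) (by decide) full_ok (by norm_num)).2,
    (ncard_oddFam [1, -3, 5, -7] (4 * 8) 64 theta_odd_full (by decide) (by decide) odd_full_ok (by norm_num)).2]
  decide +kernel

theorem count48 : {x : GolayPt → ℤ | x ∈ leechLattice ∧ sqNorm x = 48}.ncard = 16773120 := by
  rw [show (48 : ℤ) = 4 * ((12 : ℕ) : ℤ) by norm_num, count_norm 12 (by norm_num),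
    (ncard_evenFam evOdd evEven 12 16 theta_full (by decide) (by decide) (by decide) (by decide) full_ok (by norm_num)).2,
    (ncard_oddFam [1, -3, 5, -7] (4 * 12) 64 theta_odd_full (by decide) (by decide) odd_full_ok (by norm_num)).2]
  decide +kernel

theorem count64 : {x : GolayPt → ℤ | x ∈ leechLattice ∧ sqNorm x = 64}.ncard = 398034000 := by
  rw [show (64 : ℤ) = 4 * ((16 : ℕ) : ℤ) by norm_num, count_norm 16 (by norm_num),
    (ncard_evenFam evOdd evEven 16 16 theta_full (by decide) (by decide) (by decide) (by decide) full_ok (by norm_num)).2,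
    (ncard_oddFam [1, -3, 5, -7] (4 * 16) 64 theta_odd_full (by decide) (by decide) odd_full_ok (by norm_num)).2]
  decide +kernel

theorem census48 :
    {x : GolayPt → ℤ | x ∈ leechLattice ∧ sqNorm x = 48 ∧ ∀ i, x i = 0 ∨ x i = 2 ∨ x i = -2}.ncard = 5275648 ∧
    {x : GolayPt → ℤ | x ∈ leechLattice ∧ sqNorm x = 48 ∧ ∃ i j k, i ≠ j ∧ j ≠ k ∧ i ≠ k ∧
      |x i| = 3 ∧ |x j| = 3 ∧ |x k| = 3}.ncard = 8290304 ∧
    {x : GolayPt → ℤ | x ∈ leechLattice ∧ sqNorm x = 48 ∧ ∃ i, |x i| = 4}.ncard = 3108864 ∧
    {x : GolayPt → ℤ | x ∈ leechLattice ∧ sqNorm x = 48 ∧ ∃ i, |x i| = 5}.ncard = 98304 := by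
  obtain ⟨-, cs⟩ := ncard_evenFam [1, -1] [0] 12 12 theta_small (by decide) (by decide) (by decide) (by decide) small_ok le_rfl
  obtain ⟨fF, cF⟩ := ncard_evenFam evOdd evEven 12 16 theta_full (by decide) (by decide) (by decide) (by decide) full_ok (by norm_num)
  obtain ⟨fN, cN⟩ := ncard_evenFam evOdd [0, 4, -4] 12 12 theta_nofour (by decide) (by decide) (by decide) (by decide) nofour_ok le_rfl
  obtain ⟨fO, cO⟩ := ncard_oddFam [1, -3, 5, -7] 48 64 theta_odd_full (by decide) (by decide) odd_full_ok (by norm_num)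
  obtain ⟨fP, cP⟩ := ncard_oddFam [1, -3] 48 48 theta_odd_nofive (by decide) (by decide) odd_nofive_ok le_rfl
  refine ⟨?_, ?_, ?_, ?_⟩
  · rw [show {x : GolayPt → ℤ | x ∈ leechLattice ∧ sqNorm x = 48 ∧ ∀ i, x i = 0 ∨ x i = 2 ∨ x i = -2} =
      evenFam [1, -1] [0] 12 from ?_, cs]
    · decide +kernel
    ext x
    simp only [Set.mem_ofPred_eq, evenFam, mem_iff]
    norm_num
    refine fun _ _ => forall_congr' fun i => ?_
    omega
  · rw [show {x : GolayPt → ℤ | x ∈ leechLattice ∧ sqNorm x = 48 ∧ ∃ i j k, i ≠ j ∧ j ≠ k ∧ i ≠ k ∧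
        |x i| = 3 ∧ |x j| = 3 ∧ |x k| = 3} = oddFam [1, -3] 48 from ?_, cP]
    · decide +kernel
    ext x
    simp only [Set.mem_ofPred_eq, oddFam, mem_iff, Nat.cast_ofNat, List.mem_cons, List.not_mem_nil, or_false]
    constructor
    · rintro ⟨hL, hn, i, j, k, hij, hjk, hik, hi, hj, hk⟩
      refine ⟨hL, hn, fun l => ?_⟩
      obtain ⟨m, d, h1, -, -⟩ := hL
      have h9 : ∀ p, |x p| = 3 → x p ^ 2 = 9 := fun p hp => by rw [← sq_abs, hp]; norm_num
      by_cases hl : l = i ∨ l = j ∨ l = k
      · rcases hl with rfl | rfl | rfl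
        all_goals (first | (have := abs_eq (by norm_num : (0 : ℤ) ≤ 3) |>.1 hi; omega) | skip)
        all_goals (first | (have := abs_eq (by norm_num : (0 : ℤ) ≤ 3) |>.1 hj; omega) | skip)
        all_goals (have := abs_eq (by norm_num : (0 : ℤ) ≤ 3) |>.1 hk; omega)
      · push Not at hl
        have hsum : x i ^ 2 + x j ^ 2 + x k ^ 2 + x l ^ 2 ≤ 48 := by
          rw [← hn]
          refine le_trans (le_of_eq ?_) (Finset.sum_le_sum_of_subset_of_nonneg
            (s := {i, j, k, l}) (Finset.subset_univ _) fun p _ _ => sq_nonneg (x p))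
          rw [Finset.sum_insert (by simp [hij, hik, hl.1.symm]), Finset.sum_insert (by simp [hjk, hl.2.1.symm]),
            Finset.sum_pair hl.2.2.symm]
          ring
        rw [h9 i hi, h9 j hj, h9 k hk] at hsum
        have : -4 ≤ x l ∧ x l ≤ 4 := by constructor <;> nlinarith
        have := h1 l
        have := h1 i
        have := abs_eq (by norm_num : (0 : ℤ) ≤ 3) |>.1 hi
        omega
    · rintro ⟨hL, hn, hv⟩
      refine ⟨hL, hn, ?_⟩
      let T : Finset GolayPt := Finset.univ.filter fun l => x l = 3 ∨ x l = -3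
      have hT : T.card = 3 := by
        have e : ∀ l, x l ^ 2 = 1 + 8 * if x l = 3 ∨ x l = -3 then 1 else 0 := fun l => by
          rcases hv l with (h | h) | (h | h) <;> first
            | (rw [h]; norm_num)
            | (rw [show x l = -1 by omega]; norm_num)
            | (rw [show x l = 3 by omega]; norm_num)
        rw [sqNorm, Finset.sum_congr rfl fun l _ => e l, Finset.sum_add_distrib, ← Finset.mul_sum,
          Finset.sum_boole, Finset.sum_const, card_pts, nsmul_eq_mul] at hn
        push_cast at hn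
        have : ((T.card : ℕ) : ℤ) = 3 := by simp only [T]; linarith
        exact_mod_cast this
      obtain ⟨i, j, k, hij, hik, hjk, he⟩ := Finset.card_eq_three.1 hT
      have hmem : ∀ l ∈ T, |x l| = 3 := fun l hl => by
        rcases (Finset.mem_filter.1 hl).2 with h | h <;> rw [h] <;> norm_num
      exact ⟨i, j, k, hij, hjk, hik, hmem i (by simp [he]), hmem j (by simp [he]), hmem k (by simp [he])⟩
  · rw [show {x : GolayPt → ℤ | x ∈ leechLattice ∧ sqNorm x = 48 ∧ ∃ i, |x i| = 4} =
      evenFam evOdd evEven 12 \ evenFam evOdd [0, 4, -4] 12 from ?_, Set.ncard_sdiff ?_ fN, cF, cN]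
    · decide +kernel
    · rintro x ⟨h1, h2, h3⟩
      exact ⟨h1, h2, fun i => by
        obtain ⟨v, hv, e⟩ := h3 i
        exact ⟨v, by simp [evOdd, evEven] at hv ⊢; omega, e⟩⟩
    · ext x
      simp only [Set.mem_ofPred_eq, Set.mem_diff, mem_iff]
      constructor
      · rintro ⟨hL, hn, i, hi⟩
        have hi' := abs_eq (by norm_num : (0 : ℤ) ≤ 4) |>.1 hi
        rcases split_family hL (N := 12) (by norm_num) (by rw [hn]; norm_num) with h | h
        · refine ⟨h, fun h' => ?_⟩
          obtain ⟨v, hv, e⟩ := h'.2.2 i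
          simp [evOdd] at hv
          omega
        · have := h.2.2 i
          simp at this
          omega
      · rintro ⟨h, h'⟩
        refine ⟨h.1, by rw [h.2.1]; norm_num, ?_⟩
        by_contra hne
        push Not at hne
        refine h' ⟨h.1, h.2.1, fun i => ?_⟩
        obtain ⟨v, hv, e⟩ := h.2.2 i
        refine ⟨v, ?_, e⟩
        have := hne i
        have h4 : x i ≠ 4 ∧ x i ≠ -4 := ⟨fun q => this (by rw [q]; norm_num), fun q => this (by rw [q]; norm_num)⟩
        simp [evOdd, evEven] at hv ⊢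
        omega
  · rw [show {x : GolayPt → ℤ | x ∈ leechLattice ∧ sqNorm x = 48 ∧ ∃ i, |x i| = 5} =
      oddFam [1, -3, 5, -7] 48 \ oddFam [1, -3] 48 from ?_, Set.ncard_sdiff ?_ fP, cO, cP]
    · decide +kernel
    · rintro x ⟨h1, h2, h3⟩
      exact ⟨h1, h2, fun i => (h3 i).imp (fun h => by simp at h ⊢; omega) (fun h => by simp at h ⊢; omega)⟩
    · ext x
      simp only [Set.mem_ofPred_eq, Set.mem_diff, mem_iff]
      constructor
      · rintro ⟨hL, hn, i, hi⟩
        have hi' := abs_eq (by norm_num : (0 : ℤ) ≤ 5) |>.1 hi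
        rcases split_family hL (N := 12) (by norm_num) (by rw [hn]; norm_num) with h | h
        · obtain ⟨v, -, e⟩ := h.2.2 i
          omega
        · refine ⟨h, fun h' => ?_⟩
          have := h'.2.2 i
          simp at this
          omega
      · rintro ⟨h, h'⟩
        refine ⟨h.1, by rw [h.2.1]; norm_num, ?_⟩
        by_contra hne
        push Not at hne
        refine h' ⟨h.1, h.2.1, fun i => ?_⟩
        have hb := abs_le_of_sq (x := x) (n := 48) (b := 6) (by rw [h.2.1]; norm_num) (by norm_num) (by norm_num) i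
        have := h.2.2 i
        have := hne i
        have h5 : x i ≠ 5 ∧ x i ≠ -5 := ⟨fun q => this (by rw [q]; norm_num), fun q => this (by rw [q]; norm_num)⟩
        simp only [List.mem_cons, List.not_mem_nil, or_false] at *
        omega

end CfsgLib.Sporadic.Lattice
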