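import Cfsg.Agent.Lib.Sporadic.M12

/-!
# Literal certificates for M11 on the complement of its dodecad, and for M12 fixing three points
-/

set_option autoImplicit false

namespace CfsgLib.Sporadic

def m11Gens0 : List ℕ :=
  [487611556412621434507757589405020736, 845470600540495796453238970990662016]

def m11Ops0 : List ℕ :=
  [1, 1, 1, 1, 1, 1, 1, 1, 1, 1, 0, 0, 0, 0, 2]

def m11Gens1 : List ℕ :=
  [978352025200019703243888774164776320, 982261183818827002400291405684687232]

def m11Ops1 : List ℕ :=
  [1, 1, 1, 1, 2, 2, 1, 1, 1, 1]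

def m11Gens2 : List ℕ :=
  [969196510957040032812623886447679744, 975431393081540716718668934846948608]

def m11Ops2 : List ℕ :=
  [1, 1, 2, 1, 1, 2, 1, 1, 2]

def m12ThreeGens : List ℕ :=
  [227578386318009578406903204956702752, 891385682027558266148352467872712736]

def m12ThreeOps : List ℕ :=
  [1, 2, 1, 1, 1, 2, 1, 1, 1, 2, 1]

end CfsgLib.Sporadic
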