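import Cfsg.Agent.Lib.Sporadic.ChainCertificate

/-!
# A chain of coset tables for the Mathieu group M12
-/

set_option autoImplicit false
set_option maxRecDepth 100000
set_option maxHeartbeats 0
set_option linter.unusedSimpArgs false
set_option Elab.async false

namespace CfsgLib.Sporadic.M12Chain

open CfsgLib.Schur.Cert

/-- data -/
def next0 : Trie (ℕ) := .node (.node (.node (.node (.node (.leaf 1) (.leaf 9)) (.leaf 6)) (.node (.node (.leaf 2) (.leaf 11)) (.leaf 4))) (.node (.node (.node (.leaf 0) (.leaf 8)) (.leaf 5)) (.node (.node (.leaf 3) (.leaf 10)) (.leaf 7)))) (.node (.node (.node (.node (.leaf 2) (.leaf 6)) (.leaf 0)) (.node (.node (.leaf 4) (.leaf 11)) (.leaf 7))) (.node (.node (.node (.leaf 3) (.leaf 10)) (.leaf 1)) (.node (.node (.leaf 5) (.leaf 9)) (.leaf 8))))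

/-- data -/
def prev0 : Trie (ℕ) := .node (.node (.node (.node (.node (.leaf 1) (.leaf 9)) (.leaf 6)) (.node (.node (.leaf 2) (.leaf 11)) (.leaf 4))) (.node (.node (.node (.leaf 0) (.leaf 8)) (.leaf 5)) (.node (.node (.leaf 3) (.leaf 10)) (.leaf 7)))) (.node (.node (.node (.node (.leaf 4) (.leaf 7)) (.leaf 2)) (.node (.node (.leaf 0) (.leaf 9)) (.leaf 8))) (.node (.node (.node (.leaf 5) (.leaf 11)) (.leaf 3)) (.node (.node (.leaf 1) (.leaf 10)) (.leaf 6))))

/-- data -/
def lab0 : Trie (Word) := .node (.node (.node (.node (.node (.leaf []) (.leaf [])) (.leaf [])) (.node (.node (.leaf [(0, true)]) (.leaf [])) (.leaf []))) (.node (.node (.node (.leaf []) (.leaf [])) (.leaf [(0, true), (1, true), (1, true), (1, true), (0, true), (1, true), (0, true), (1, true), (1, true), (1, true), (0, true), (1, true)])) (.node (.node (.leaf [(1, true), (0, true), (1, false), (1, false), (0, true), (1, true), (0, true), (1, false), (1, false), (1, false), (1, false)]) (.leaf [])) (.leaf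 [(1, false), (1, false), (0, true), (1, true), (1, true)])))) (.node (.node (.node (.node (.leaf []) (.leaf [])) (.leaf [])) (.node (.node (.leaf []) (.leaf [(1, false)])) (.leaf []))) (.node (.node (.node (.leaf []) (.leaf [])) (.leaf [])) (.node (.node (.leaf []) (.leaf [(1, true)])) (.leaf []))))

/-- data -/
def val0 : Trie (Vec) := .node (.node (.node (.node (.node (.leaf []) (.leaf [])) (.leaf [])) (.node (.node (.leaf []) (.leaf [])) (.leaf [0, 0, 0, 0, 0, 0, 0, 0, 0, 0, 0, 0, 0, 0, 0, 0, 0, 1]))) (.node (.node (.node (.leaf [0, 0, 0, 0, 0, 0, 0, 0, 0, 0, 0, 0, 0, 0, 0, 0, 0, 1]) (.leaf [0, 0, 0, 0, 0, 0, 0, 0, 0, 0, 0, 0, 0, 0, 0, 0, 0, 1])) (.leaf [18, 27, (-21), (-19), (-15), 10, (-11), (-2), 2, (-8), (-13), 2, (-1), (-1), 0, (-2), 0, (-2), (-4), 2, 1])) (.node (.node (.leaf [0, 0, 0, 0, 0, 0, 0, 0, 0, 0, 0, 0, 0, 0, 0, 0, 0, 0, 0, 0, 1]) (.leaf [0, 0, 0, 0, 0, 0, 0, 0, 0, 0, 0, 0, 0, 0, 0, 0, 0, 1])) (.leaf [0, 0, 0, 0, 0, 0, 0, 0, 0, 0, 0, 0, 0, 0, 0, 0, 0, 0,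 0, 1])))) (.node (.node (.node (.node (.leaf []) (.leaf [0, 0, 0, 0, 0, 0, 0, 0, 0, 0, 0, 0, 0, 0, 0, 0, 0, 0, 1])) (.leaf [0, 0, 0, 0, 0, 0, 0, 0, 0, 0, 0, 0, 0, 0, 0, 0, 0, 0, 1])) (.node (.node (.leaf []) (.leaf [0, 0, 0, 0, 0, 0, 0, 0, 0, 0, 0, 0, 0, 0, 0, 0, 0, 0, 1])) (.leaf []))) (.node (.node (.node (.leaf []) (.leaf [])) (.leaf [0, 0, 0, 0, 0, 0, 0, 0, 0, 0, 0, 0, 0, 0, 0, 0, 0, 0, 1])) (.node (.node (.leaf []) (.leaf [])) (.leaf []))))

/-- data -/
def rank0 : Trie (ℕ) := .node (.node (.node (.node (.node (.leaf 0) (.leaf 0)) (.leaf 0)) (.node (.node (.leaf 1) (.leaf 0)) (.leaf 4))) (.node (.node (.node (.leaf 3) (.leaf 5)) (.leaf 13)) (.node (.node (.leaf 12) (.leaf 6)) (.leaf 11)))) (.node (.node (.node (.node (.leaf 0) (.leaf 9)) (.leaf 7)) (.node (.node (.leaf 0) (.leaf 10)) (.leaf 0))) (.node (.node (.node (.leaf 0) (.leaf 0)) (.leaf 8)) (.node (.node (.leaf 0) (.leaf 2)) (.leaf 0))))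

/-- data -/
def tree0 : Trie (ℕ × ℕ) := .node (.node (.node (.node (.leaf (0, 0)) (.leaf (7, 1))) (.leaf (2, 1))) (.node (.node (.leaf (0, 1)) (.leaf (9, 1))) (.leaf (4, 0)))) (.node (.node (.node (.leaf (0, 0)) (.leaf (8, 0))) (.leaf (3, 1))) (.node (.node (.leaf (1, 1)) (.leaf (10, 0))) (.leaf (6, 1))))

/-- data -/
def cert0 : Trie (ℕ × ℕ × ℕ) := .node (.node (.node (.node (.leaf (0, 0, 1)) (.leaf (3, 6, 2))) (.node (.leaf (2, 8, 1)) (.leaf (5, 4, 64)))) (.node (.node (.leaf (2, 0, 1)) (.leaf (4, 0, 4))) (.leaf (3, 0, 2)))) (.node (.node (.node (.leaf (1, 0, 8)) (.leaf (3, 9, 1))) (.leaf (2, 10, 1))) (.node (.node (.leaf (2, 4, 1)) (.leaf (5, 0, 2))) (.leaf (3, 1, 2))))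

/-- data -/
def pot0 : Trie Vec := .node (.node (.node (.node (.leaf []) (.leaf [1, 4])) (.leaf [0, 2])) (.node (.node (.leaf [0, 1]) (.leaf [2, 5])) (.leaf [1, 2]))) (.node (.node (.node (.leaf [1]) (.leaf [2, 4])) (.leaf [1, 2])) (.node (.node (.leaf [1, 1]) (.leaf [3, 5])) (.leaf [1, 3])))

/-- level 0 -/
def table0 : Table where
  size := 12
  ngen := 2
  next g x := next0.get (2 * g + x)
  prev g x := prev0.get (2 * g + x)
  lab g x := lab0.get (2 * g + x)
  val g x := val0.get (2 * g + x)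
  rank g x := rank0.get (2 * g + x)
  tree g := tree0.get g
  cert j := cert0.get j
  nded := 13
  rels := [⟨[(1, true), (0, true), (1, false)], [(0, true)], []⟩,
    ⟨[(1, true), (1, true), (0, true), (1, true), (1, true), (0, true), (1, true), (0, true), (1, true), (0, false), (1, false), (1, false), (0, false), (1, false), (1, false)], [(1, true)], []⟩,
    ⟨[(0, true), (0, true)], [], [0, 0, 0, 0, 0, 0, 0, 0, 0, 0, 0, 0, 0, 0, 0, 0, 0, 1]⟩,
    ⟨[(1, true), (1, true), (1, true)], [], [0, 0, 0, 0, 0, 0, 0, 0, 0, 0, 0, 0, 0, 0, 0, 0, 0, 0, 1]⟩,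
    ⟨[(1, true), (1, true), (0, true), (1, true), (0, true), (1, true), (0, true), (1, false), (0, false), (1, false), (1, false), (0, false), (1, false), (0, false), (1, false), (1, false), (0, false), (1, false), (0, false), (1, true), (0, true), (1, true), (1, true), (0, true), (1, true), (0, true), (1, true), (1, true), (0, true), (1, true), (0, false), (1, false), (1, false), (0, false), (1, false), (1, false)], [], [0, 0, 0, 0, 0, 0, 0, 0, 0, 0, 0, 0, 0, 0, 0, 0, 0, 0, 0, 1]⟩,
    ⟨[(0, true), (1, true), (0, true), (1, false), (0, false), (1, true), (1, true), (0, true), (1, true), (1, true), (0, true), (1, true), (0, true), (1, true), (1, true), (0, true), (1, true), (1, true), (0, true), (1, true), (1, true), (0, true), (1, true), (0, false), (1, false), (1, false), (0, false), (1, false), (0, false), (1, true), (0, true), (1, true), (1, true), (0, true), (1, false), (0, false), (1, false), (0, false), (1, false), (1, false), (0, false), (1, false), (0, false), (1,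 true), (0, true), (1, true), (1, true), (0, true), (1, true), (0, true), (1, true), (1, true), (0, true), (1, true), (0, false), (1, false), (1, false), (0, false), (1, false), (0, false), (1, true), (0, true), (1, true), (1, true), (0, true), (1, false), (0, false), (1, false), (0, false), (1, false), (1, false), (0, false), (1, false), (1, false)], [], [0, 0, 0, 0, 0, 0, 0, 0, 0, 0, 0, 0, 0, 0, 0, 0, 0, 0, 0, 0, 1]⟩]
  pot g := pot0.get g
  innerSize := 7920
  innerGen := 2

/-- level 0 with its checks -/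
def level0 : ChainLevel where
  table := table0
  gexp := [[1], [0, 1]]
  perm := [735169454220620259303390075137100166, 733033818089269021391309307321123218]
  pinv := [735169454220620259303390075137100166, 817328540038781485888038724382771490]
  defs := [[(1, true), (0, true), (1, false)], [(1, true), (1, true), (0, true), (1, true), (1, true), (0, true), (1, true), (0, true), (1, true), (0, false), (1, false), (1, false), (0, false), (1, false), (1, false)]]
  eqs := [(2, 2, [0, 0, 0, 0, 0, 0, 0, 0, 0, 0, 0, 1, 0, 0, 0, 0, 0, (-1)]),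
    (4, 5, [(-4), (-7), 6, 3, 1, (-1), (-1), (-1), (-3), 1, 2, 0, 0, 1, (-1), 0, 0, 0, 0, (-1)]),
    (5, 2, [(-5), (-8), 4, 4, 3, (-1), 1, (-1), (-4), 7, 2, 2, 0, 1, (-1), 0, 0, 0, 4, 1]),
    (5, 8, [0, 0, (-2), (-5), (-2), 7, (-6), (-1), (-3), (-10), 1, 0, (-1), (-3), 1, 0, 2, (-3), (-4), 1, (-1)])]
  pts := [0]

/-- data -/
def next1 : Trie (ℕ) := .node (.node (.node (.node (.node (.leaf 1) (.leaf 9)) (.leaf 3)) (.node (.node (.leaf 2) (.leaf 10)) (.leaf 7))) (.node (.node (.node (.leaf 0) (.leaf 8)) (.leaf 5)) (.node (.leaf 4) (.leaf 6)))) (.node (.node (.node (.node (.leaf 2) (.leaf 10)) (.leaf 6)) (.node (.node (.leaf 4) (.leaf 7)) (.leaf 8))) (.node (.node (.node (.leaf 3) (.leaf 1)) (.leaf 0)) (.node (.leaf 5) (.leaf 9))))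

/-- data -/
def prev1 : Trie (ℕ) := .node (.node (.node (.node (.node (.leaf 1) (.leaf 9)) (.leaf 3)) (.node (.node (.leaf 2) (.leaf 10)) (.leaf 7))) (.node (.node (.node (.leaf 0) (.leaf 8)) (.leaf 5)) (.node (.leaf 4) (.leaf 6)))) (.node (.node (.node (.node (.leaf 5) (.leaf 6)) (.leaf 2)) (.node (.node (.leaf 0) (.leaf 8)) (.leaf 4))) (.node (.node (.node (.leaf 9) (.leaf 7)) (.leaf 3)) (.node (.leaf 1) (.leaf 10))))

/-- data -/
def lab1 : Trie (Word) := .node (.node (.node (.node (.node (.leaf []) (.leaf [(1, true), (0, true), (1, true), (1, true), (0, true), (1, true), (0, true), (1, true), (0, true), (1, false)])) (.leaf [(1, true), (0, true), (1, false), (0, true), (1, true)])) (.node (.node (.leaf [(0, true)]) (.leaf [(0, true), (1, true), (0, true), (1, true), (1, true), (0, true), (1, false), (0, true)])) (.leaf []))) (.node (.node (.node (.leaf []) (.leaf [(1, true), (0, true), (1, false), (0, true), (1, false), (0, true), (1, true), (1, true), (0, true), (1,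 false)])) (.leaf [(0, true), (1, true), (0, true), (1, true), (0, true), (1, true), (0, true), (1, true)])) (.node (.leaf [(1, false), (0, true), (1, true), (0, true), (1, false)]) (.leaf [])))) (.node (.node (.node (.node (.leaf []) (.leaf [])) (.leaf [])) (.node (.node (.leaf []) (.leaf [(1, true)])) (.leaf []))) (.node (.node (.node (.leaf []) (.leaf [(0, true), (1, true), (0, true), (1, true), (1, true), (0, true), (1, true), (0, true), (1, true)])) (.leaf [(1, false), (0, true), (1, false), (0, true), (1, true), (1, true), (0, true), (1, false), (0, true), (1, false)])) (.node (.leaf []) (.leaf []))))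

/-- data -/
def val1 : Trie (Vec) := .node (.node (.node (.node (.node (.leaf []) (.leaf [(-8), (-12), 8, 7, 6, (-3), 2, (-3), (-2), 2, 4, (-1)])) (.leaf [4, 6, (-4), (-4), (-3), 2, (-2), (-1), 2, (-4), (-2), 1, (-1)])) (.node (.node (.leaf []) (.leaf [0, 0, 0, 0, 0, 0, 0, 0, 0, 0, 0, 0, 0, 0, 1])) (.leaf []))) (.node (.node (.node (.leaf [0, 0, 0, 0, 0, 0, 0, 0, 0, 0, 0, 1]) (.leaf [8, 12, (-8), (-7), (-6), 3, (-2), (-1), 1, (-2), (-4), 2])) (.leaf [0, 0, 0, 0, 0, 0, 0, 0, 0, 0, 0, 0, 0, 1])) (.node (.leaf [0, 0, 0, 0, 0, 0, 0, 0, 0, 0, 0, 0, 1]) (.leaf [0, 0, 0, 0, 0, 0, 0, 0, 0, 0, 0, 1])))) (.node (.node (.node (.node (.leaf []) (.leaf [])) (.leaf [])) (.node (.node (.leaf []) (.leaf [])) (.leaf []))) (.node (.node (.node (.leaf []) (.leaf [0, 0, 0, 0, 0, 0, 0, 0, 0, 0, 0, 0, 0, 0, 0, 1])) (.leaf [0, 0, 0, 0, 0, 0, 0, 0, 0, 0, 0, 0, 0, 0, 0, 0, 1])) (.node (.leaf []) (.leaf []))))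

/-- data -/
def rank1 : Trie (ℕ) := .node (.node (.node (.node (.node (.leaf 0) (.leaf 11)) (.leaf 6)) (.node (.node (.leaf 1) (.leaf 8)) (.leaf 0))) (.node (.node (.node (.leaf 3) (.leaf 10)) (.leaf 7)) (.node (.leaf 5) (.leaf 4)))) (.node (.node (.node (.node (.leaf 0) (.leaf 0)) (.leaf 0)) (.node (.node (.leaf 0) (.leaf 2)) (.leaf 0))) (.node (.node (.node (.leaf 0) (.leaf 9)) (.leaf 12)) (.node (.leaf 0) (.leaf 0))))

/-- data -/
def tree1 : Trie (ℕ × ℕ) := .node (.node (.node (.node (.leaf (0, 0)) (.leaf (6, 1))) (.leaf (2, 1))) (.node (.node (.leaf (0, 1)) (.leaf (8, 1))) (.leaf (4, 1)))) (.node (.node (.node (.leaf (0, 0)) (.leaf (7, 1))) (.leaf (3, 1))) (.node (.leaf (1, 1)) (.leaf (6, 0))))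

/-- data -/
def cert1 : Trie (ℕ × ℕ × ℕ) := .node (.node (.node (.node (.leaf (0, 0, 1)) (.leaf (6, 0, 5))) (.leaf (3, 0, 2))) (.node (.node (.leaf (2, 0, 1)) (.leaf (2, 8, 0))) (.leaf (4, 0, 3)))) (.node (.node (.node (.leaf (1, 0, 5)) (.leaf (3, 9, 0))) (.leaf (2, 3, 1))) (.node (.node (.leaf (2, 6, 1)) (.leaf (7, 0, 3))) (.leaf (5, 0, 5))))

/-- data -/
def pot1 : Trie Vec := .node (.node (.node (.node (.leaf []) (.leaf [4, 8])) (.leaf [2, 4])) (.node (.node (.leaf [1, 2]) (.leaf [5, 10])) (.leaf [3, 6]))) (.node (.node (.node (.leaf [1]) (.leaf [5, 8])) (.leaf [3, 4])) (.node (.leaf [2, 2]) (.leaf [4, 6])))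

/-- level 1 -/
def table1 : Table where
  size := 11
  ngen := 2
  next g x := next1.get (2 * g + x)
  prev g x := prev1.get (2 * g + x)
  lab g x := lab1.get (2 * g + x)
  val g x := val1.get (2 * g + x)
  rank g x := rank1.get (2 * g + x)
  tree g := tree1.get g
  cert j := cert1.get j
  nded := 12
  rels := [⟨[(1, true), (0, true), (1, false)], [(0, true)], []⟩,
    ⟨[(1, true), (1, true), (1, true), (1, true), (1, true), (1, true), (0, false), (1, false), (1, false), (1, false)], [(1, true)], []⟩,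
    ⟨[(0, true), (0, true)], [], [0, 0, 0, 0, 0, 0, 0, 0, 0, 0, 0, 1]⟩,
    ⟨[(0, true), (1, true), (0, true), (1, true), (1, true), (1, true), (1, true), (0, false), (1, false), (1, false), (0, false), (1, true), (1, true), (0, true), (1, false), (1, false), (1, false), (1, false), (1, false), (0, false), (1, true), (1, true), (1, true), (1, true), (1, true), (0, false), (1, false), (1, false), (1, false)], [], [0, 0, 0, 0, 0, 0, 0, 0, 0, 0, 0, 0, 1]⟩,
    ⟨[(0, true), (1, true), (1, true), (0, true), (1, false), (1, false), (0, false), (1, true), (1, true), (1, true), (0, true), (1, false), (1, false), (1, false), (1, false), (1, false), (0, false), (1, true), (1, true), (0, true), (1, false), (1, false), (1, false), (1, false), (1, false), (0, false), (1, true), (1, true), (0, true), (1, false), (1, false), (1, false), (1, false), (1, false), (0, false), (1, true), (1, true), (0, true), (1, false), (1, false), (1, false), (1, false), (1, false), (0, false), (1, false)],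 [], [0, 0, 0, 0, 0, 0, 0, 0, 0, 0, 0, 0, 0, 1]⟩,
    ⟨[(1, true), (1, true), (1, true), (1, true), (1, true), (0, true), (1, false), (1, false), (1, false), (1, false), (0, false), (1, true), (1, true), (1, true), (1, true), (1, true), (0, false), (1, false), (1, false), (0, false), (1, true), (1, true), (0, true), (1, false), (1, false), (1, false), (0, true), (1, false), (1, false), (1, false), (1, false), (1, false), (0, false), (1, true), (1, true), (0, true), (1, false), (1, false), (1, false), (1, false), (1, false), (0, false), (1, false)], [], [0, 0, 0, 0, 0, 0, 0, 0, 0, 0, 0, 0, 0, 0, 1]⟩,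
    ⟨[(1, true), (1, true), (1, true), (0, true), (1, true), (1, true), (0, false), (1, true), (1, true), (1, true), (0, true), (1, false), (1, false), (1, false), (1, false), (1, false), (0, false), (1, true), (1, true), (0, true), (1, false), (1, false), (1, false), (1, false), (1, false), (0, false), (1, true), (1, true), (0, true), (1, false), (1, false), (1, false), (0, true), (1, false), (1, false), (1, false), (1, false), (1, false), (0, false), (1, true), (1, true), (0, true), (1, false), (1, false), (1, false), (1, false), (1, false), (0, false), (1, false)], [], [0, 0, 0, 0, 0, 0, 0, 0, 0, 0, 0, 0, 0, 0, 0, 1]⟩,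
    ⟨[(0, true), (1, true), (1, true), (1, true), (1, true), (1, true), (1, true), (1, true), (1, true), (1, true), (0, false), (1, false), (1, false), (0, false), (1, true), (1, true), (1, true), (1, true), (1, true), (0, false), (1, false), (1, false), (0, false), (1, true), (1, true), (0, true), (1, false), (1, false), (1, false), (0, true), (1, false), (1, false), (1, false), (1, false), (1, false), (0, false), (1, true), (1, true), (1, true), (1, true), (1, true), (0, false), (1, false), (1, false), (0, false), (1, true), (1, true), (1, true), (1, true), (1, true), (0, false), (1, false), (1, false), (1, false)], [], [0, 0, 0, 0, 0, 0, 0, 0, 0, 0, 0, 0, 0, 0, 0, 0, 1]⟩]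
  pot g := pot1.get g
  innerSize := 720
  innerGen := 2

/-- level 1 with its checks -/
def level1 : ChainLevel where
  table := table1
  gexp := [[1, 0], [1, 2]]
  perm := [435164862652805219953057134465356032, 321413412111974789032418687257561184]
  pinv := [435164862652805219953057134465356032, 920640956927401523036784468688937376]
  defs := [[(1, true), (0, true), (1, false)], [(1, true), (1, true), (1, true), (1, true), (1, true), (1, true), (0, false), (1, false), (1, false), (1, false)]]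
  eqs := [(2, 2, [0, 0, 0, 0, 0, 0, 0, 1, 0, 0, 0, (-1)]),
    (2, 10, [0, 0, 0, 0, 1, 0, 0, 4, 0, 0, 0, (-1), 0, 0, 2]),
    (3, 1, [(-1), (-2), 2, 1, (-1), 0, 1, (-4), 2, 0, 1, 1, (-1), 0, (-1), 1, (-2)]),
    (3, 3, [(-1), (-2), 0, 3, 0, (-1), (-2), (-1), 1, (-1), 3, (-1), (-1), (-1), 0, 1]),
    (5, 9, [1, 2, (-2), 0, 1, 0, (-1), (-2), 1, (-2), (-3), 0, 0, 0, (-1), 0, (-2)]),
    (7, 2, [2, 2, 0, 0, 0, (-2), 1, (-3), 1, 4, (-5), 1, 1, (-1), (-1), 2, (-4)]),
    (7, 6, [3, 3, 2, (-1), (-3), (-1), 4, 0, 0, (-1), (-2), (-1), (-1), (-1), (-1), 1])]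
  pts := [1]

/-- data -/
def next2 : Trie (ℕ) := .node (.node (.node (.node (.node (.leaf 1) (.leaf 8)) (.leaf 2)) (.node (.leaf 4) (.leaf 3))) (.node (.node (.node (.leaf 0) (.leaf 7)) (.leaf 5)) (.node (.leaf 6) (.leaf 9)))) (.node (.node (.node (.node (.leaf 2) (.leaf 0)) (.leaf 1)) (.node (.leaf 5) (.leaf 6))) (.node (.node (.node (.leaf 3) (.leaf 9)) (.leaf 8)) (.node (.leaf 7) (.leaf 4))))

/-- data -/
def prev2 : Trie (ℕ) := .node (.node (.node (.node (.node (.leaf 1) (.leaf 8)) (.leaf 2)) (.node (.leaf 4) (.leaf 3))) (.node (.node (.node (.leaf 0) (.leaf 7)) (.leaf 5)) (.node (.leaf 6) (.leaf 9)))) (.node (.node (.node (.node (.leaf 8) (.leaf 5)) (.leaf 7)) (.node (.leaf 0) (.leaf 6))) (.node (.node (.node (.leaf 4) (.leaf 9)) (.leaf 2)) (.node (.leaf 1) (.leaf 3))))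

/-- data -/
def lab2 : Trie (Word) := .node (.node (.node (.node (.node (.leaf []) (.leaf [(0, true), (1, true), (1, true), (0, false)])) (.leaf [])) (.node (.leaf []) (.leaf []))) (.node (.node (.node (.leaf []) (.leaf [])) (.leaf [(0, true), (1, false), (0, false), (1, true)])) (.node (.leaf []) (.leaf [])))) (.node (.node (.node (.node (.leaf []) (.leaf [])) (.leaf [(0, true)])) (.node (.leaf []) (.leaf [(1, true)]))) (.node (.node (.node (.leaf []) (.leaf [(0, false), (1, false)])) (.leaf [])) (.node (.leaf []) (.leaf [(0, false)]))))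

/-- data -/
def val2 : Trie (Vec) := .node (.node (.node (.node (.node (.leaf []) (.leaf [(-2), (-3), 2, 2, 1, (-1), 1, 0, (-1), 2, 1])) (.leaf [0, 0, 0, 0, 0, 0, 0, 1])) (.node (.leaf []) (.leaf [0, 0, 0, 0, 0, 0, 0, 1]))) (.node (.node (.node (.leaf [0, 0, 0, 0, 0, 0, 0, 1]) (.leaf [0, 0, 0, 0, 0, 0, 0, 1])) (.leaf [0, 0, 0, 0, 0, 0, 0, 0, 0, 0, 1])) (.node (.leaf []) (.leaf [])))) (.node (.node (.node (.node (.leaf []) (.leaf [0, 0, 0, 0, 0, 0, 0, 0, 1])) (.leaf [])) (.node (.leaf []) (.leaf []))) (.node (.node (.node (.leaf []) (.leaf [0, 0, 0, 0, 0, 0, 0, 0, 0, 1])) (.leaf [])) (.node (.leaf []) (.leaf [0, 0, 0, 0, 0, 0, 0, 0, 1]))))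

/-- data -/
def rank2 : Trie (ℕ) := .node (.node (.node (.node (.node (.leaf 0) (.leaf 11)) (.leaf 4)) (.node (.leaf 0) (.leaf 5))) (.node (.node (.node (.leaf 3) (.leaf 6)) (.leaf 10)) (.node (.leaf 0) (.leaf 0)))) (.node (.node (.node (.node (.leaf 0) (.leaf 7)) (.leaf 1)) (.node (.leaf 0) (.leaf 2))) (.node (.node (.node (.leaf 0) (.leaf 9)) (.leaf 0)) (.node (.leaf 0) (.leaf 8))))

/-- data -/
def tree2 : Trie (ℕ × ℕ) := .node (.node (.node (.node (.leaf (0, 0)) (.leaf (5, 1))) (.leaf (2, 0))) (.node (.leaf (0, 1)) (.leaf (3, 0)))) (.node (.node (.node (.leaf (0, 0)) (.leaf (7, 0))) (.leaf (2, 1))) (.node (.leaf (1, 1)) (.leaf (3, 1))))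

/-- data -/
def cert2 : Trie (ℕ × ℕ × ℕ) := .node (.node (.node (.node (.leaf (0, 0, 2)) (.leaf (4, 0, 4))) (.leaf (2, 3, 1))) (.node (.node (.leaf (2, 0, 1)) (.leaf (5, 3, 5))) (.leaf (3, 0, 3)))) (.node (.node (.node (.leaf (1, 0, 3)) (.leaf (5, 0, 2))) (.leaf (2, 7, 1))) (.node (.leaf (2, 2, 1)) (.leaf (3, 1, 2))))

/-- data -/
def pot2 : Trie Vec := .node (.node (.node (.node (.leaf []) (.leaf [6, 18])) (.leaf [3, 6])) (.node (.leaf [2, 6]) (.leaf [4, 6]))) (.node (.node (.node (.leaf [1]) (.leaf [6, 12])) (.leaf [4, 12])) (.node (.leaf [3, 6]) (.leaf [5, 12])))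

/-- level 2 -/
def table2 : Table where
  size := 10
  ngen := 2
  next g x := next2.get (2 * g + x)
  prev g x := prev2.get (2 * g + x)
  lab g x := lab2.get (2 * g + x)
  val g x := val2.get (2 * g + x)
  rank g x := rank2.get (2 * g + x)
  tree g := tree2.get g
  cert j := cert2.get j
  nded := 11
  rels := [⟨[(1, true), (0, true), (1, true), (0, false)], [(0, true)], []⟩,
    ⟨[(0, true), (1, true), (0, true), (1, true), (0, false), (1, false), (0, false)], [(1, true)], []⟩,
    ⟨[(0, true), (0, true)], [], [0, 0, 0, 0, 0, 0, 0, 1]⟩,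
    ⟨[(1, true), (1, true), (1, true), (1, true)], [], [0, 0, 0, 0, 0, 0, 0, 0, 1]⟩,
    ⟨[(0, true), (1, true), (1, true), (0, true), (1, true), (0, false), (1, false), (0, true), (1, true), (0, false), (1, false), (0, false), (1, true), (0, true), (1, true), (0, false)], [], [0, 0, 0, 0, 0, 0, 0, 0, 0, 1]⟩,
    ⟨[(1, true), (1, true), (0, true), (1, false), (1, false), (0, true), (1, true), (0, true), (1, false), (0, false), (1, false), (0, false), (1, true), (0, true), (1, true), (1, true), (0, true), (1, true), (0, false), (1, false), (1, false), (0, false), (1, false)], [], [0, 0, 0, 0, 0, 0, 0, 0, 0, 0, 1]⟩]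
  pot g := pot2.get g
  innerSize := 72
  innerGen := 2

/-- level 2 with its checks -/
def level2 : ChainLevel where
  table := table2
  gexp := [[1, 0], [2, 6]]
  perm := [735500604421669808992593446508235808, 817410662159366529876783750365843488]
  pinv := [735500604421669808992593446508235808, 858933084926103158887724677119395872]
  defs := [[(1, true), (0, true), (1, true), (0, false)], [(0, true), (1, true), (0, true), (1, true), (0, false), (1, false), (0, false)]]
  eqs := [(2, 5, [(-1), (-1), 1, 0, 2, (-1), (-1), (-1), 0, 0, 2]),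
    (3, 6, [0, 0, 0, 0, 1, 0, 0, 0, (-1)]),
    (5, 2, [(-1), (-1), 1, 1, 0, 0, 2, 1, (-2), 2, (-2)]),
    (5, 6, [0, 0, 0, 0, 0, 0, 0, 0, (-1), 1])]
  pts := [2]

/-- data -/
def next3 : Trie (ℕ) := .node (.node (.node (.node (.node (.leaf 1) (.leaf 8)) (.leaf 6)) (.node (.leaf 4) (.leaf 7))) (.node (.node (.leaf 3) (.leaf 0)) (.node (.leaf 5) (.leaf 2)))) (.node (.node (.node (.node (.leaf 2) (.leaf 5)) (.leaf 4)) (.node (.leaf 1) (.leaf 8))) (.node (.node (.leaf 3) (.leaf 7)) (.node (.leaf 0) (.leaf 6))))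

/-- data -/
def prev3 : Trie (ℕ) := .node (.node (.node (.node (.node (.leaf 5) (.leaf 8)) (.leaf 2)) (.node (.leaf 7) (.leaf 4))) (.node (.node (.leaf 0) (.leaf 3)) (.node (.leaf 1) (.leaf 6)))) (.node (.node (.node (.node (.leaf 3) (.leaf 6)) (.leaf 4)) (.node (.leaf 0) (.leaf 7))) (.node (.node (.leaf 2) (.leaf 8)) (.node (.leaf 1) (.leaf 5))))

/-- data -/
def lab3 : Trie (Word) := .node (.node (.node (.node (.node (.leaf []) (.leaf [(0, true)])) (.leaf [])) (.node (.leaf []) (.leaf [(0, true), (0, true)]))) (.node (.node (.leaf []) (.leaf [])) (.node (.leaf []) (.leaf [(0, true), (0, true)])))) (.node (.node (.node (.node (.leaf []) (.leaf [(0, true), (1, true)])) (.leaf [(1, true)])) (.node (.leaf [(0, true)]) (.leaf []))) (.node (.node (.leaf [(0, true), (1, true)]) (.leaf [])) (.node (.leaf [(1, true)]) (.leaf [(0, true), (1, false)]))))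

/-- data -/
def val3 : Trie (Vec) := .node (.node (.node (.node (.node (.leaf []) (.leaf [1, 2, (-1), 0, (-1), 0, 1])) (.leaf [])) (.node (.leaf []) (.leaf [(-1), (-1), 1, 1, 1, (-1)]))) (.node (.node (.leaf []) (.leaf [0, 0, 0, 1])) (.node (.leaf []) (.leaf [0, 1, (-1), 0, (-1), 1])))) (.node (.node (.node (.node (.leaf []) (.leaf [0, 0, 0, (-1), 0, 0, (-1)])) (.leaf [0, 0, 0, 0, 0, 0, 1])) (.node (.leaf []) (.leaf []))) (.node (.node (.leaf [(-1), (-1), 0, 0, 1]) (.leaf [])) (.node (.leaf []) (.leaf [0, 1, (-1), (-1), 0, 1, (-1)]))))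

/-- data -/
def rank3 : Trie (ℕ) := .node (.node (.node (.node (.node (.leaf 0) (.leaf 10)) (.leaf 0)) (.node (.leaf 0) (.leaf 6))) (.node (.node (.leaf 0) (.leaf 3)) (.node (.leaf 0) (.leaf 5)))) (.node (.node (.node (.node (.leaf 0) (.leaf 9)) (.leaf 7)) (.node (.leaf 1) (.leaf 0))) (.node (.node (.leaf 4) (.leaf 0)) (.node (.leaf 2) (.leaf 8))))

/-- data -/
def tree3 : Trie (ℕ × ℕ) := .node (.node (.node (.node (.leaf (0, 0)) (.leaf (6, 1))) (.leaf (2, 0))) (.node (.leaf (0, 1)) (.leaf (4, 0)))) (.node (.node (.leaf (0, 0)) (.leaf (3, 0))) (.node (.leaf (1, 0)) (.leaf (5, 1))))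

/-- data -/
def cert3 : Trie (ℕ × ℕ × ℕ) := .node (.node (.node (.node (.leaf (0, 0, 1)) (.leaf (5, 4, 5))) (.leaf (4, 0, 4))) (.node (.leaf (2, 0, 3)) (.leaf (5, 1, 3)))) (.node (.node (.node (.leaf (1, 0, 2)) (.leaf (5, 6, 4))) (.leaf (2, 2, 2))) (.node (.leaf (3, 0, 2)) (.leaf (5, 3, 5))))

/-- data -/
def pot3 : Trie Vec := .node (.node (.node (.node (.leaf []) (.leaf [12, 36])) (.leaf [6, 18])) (.node (.leaf [2, 6]) (.leaf [10, 30]))) (.node (.node (.leaf [4, 12]) (.leaf [12, 36])) (.node (.leaf [8, 24]) (.leaf [14, 42])))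

/-- level 3 -/
def table3 : Table where
  size := 9
  ngen := 2
  next g x := next3.get (2 * g + x)
  prev g x := prev3.get (2 * g + x)
  lab g x := lab3.get (2 * g + x)
  val g x := val3.get (2 * g + x)
  rank g x := rank3.get (2 * g + x)
  tree g := tree3.get g
  cert j := cert3.get j
  nded := 10
  rels := [⟨[(1, true), (1, true), (0, false)], [(0, true)], []⟩,
    ⟨[(0, true), (0, true), (1, true)], [(1, true)], []⟩,
    ⟨[(0, true), (0, true), (0, true), (0, true)], [], [0, 0, 0, 1]⟩,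
    ⟨[(1, true), (1, true), (1, true), (1, true)], [], [0, 0, 0, 0, 1]⟩,
    ⟨[(0, true), (1, true), (0, true), (1, true), (0, true), (1, true), (0, true), (1, true)], [], [0, 0, 0, 0, 0, 1]⟩,
    ⟨[(0, false), (1, true), (0, true), (1, true), (0, false), (1, false), (1, false), (0, false)], [], [0, 0, 0, 0, 0, 0, 1]⟩]
  pot g := pot3.get g
  innerSize := 8
  innerGen := 2

/-- level 3 with its checks -/
def level3 : ChainLevel where
  table := table3
  gexp := [[4, 12], [2, 6]]
  perm := [719748774308089385568610015441717280, 899214583888558003150069357295700000]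
  pinv := [438228640608320839931147656307705888, 891440084380668137666183104591693856]
  defs := [[(1, true), (1, true), (0, false)], [(0, true), (0, true), (1, true)]]
  eqs := [(3, 4, [1, 2, 0, 0, (-1), 0, 4]),
    (3, 6, [0, 0, 0, (-2), (-1), 1, (-2)]),
    (4, 2, [2, 3, (-1), 0, (-1), (-1), 1]),
    (5, 5, [(-1), (-1), 1, (-1), 1, 0, (-1)])]
  pts := [3]

/-- data -/
def next4 : Trie (ℕ) := .node (.node (.node (.node (.leaf 1) (.leaf 2)) (.node (.leaf 5) (.leaf 0))) (.node (.node (.leaf 3) (.leaf 7)) (.node (.leaf 6) (.leaf 4)))) (.node (.node (.node (.leaf 2) (.leaf 6)) (.node (.leaf 3) (.leaf 5))) (.node (.node (.leaf 4) (.leaf 1)) (.node (.leaf 7) (.leaf 0))))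

/-- data -/
def prev4 : Trie (ℕ) := .node (.node (.node (.node (.leaf 6) (.leaf 7)) (.node (.leaf 4) (.leaf 3))) (.node (.node (.leaf 0) (.leaf 2)) (.node (.leaf 1) (.leaf 5)))) (.node (.node (.node (.leaf 7) (.leaf 1)) (.node (.leaf 0) (.leaf 4))) (.node (.node (.leaf 5) (.leaf 6)) (.node (.leaf 2) (.leaf 3))))

/-- data -/
def lab4 : Trie (Word) := .node (.node (.node (.node (.leaf []) (.leaf [])) (.node (.leaf []) (.leaf []))) (.node (.node (.leaf []) (.leaf [])) (.node (.leaf []) (.leaf [])))) (.node (.node (.node (.leaf []) (.leaf [])) (.node (.leaf []) (.leaf []))) (.node (.node (.leaf []) (.leaf [])) (.node (.leaf []) (.leaf []))))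

/-- data -/
def val4 : Trie (Vec) := .node (.node (.node (.node (.leaf []) (.leaf [0, (-1), 1])) (.node (.leaf []) (.leaf [1]))) (.node (.node (.leaf []) (.leaf [])) (.node (.leaf []) (.leaf [0, (-1), 1])))) (.node (.node (.node (.leaf []) (.leaf [0, 1])) (.node (.leaf [0, 1]) (.leaf [0, (-1), 1]))) (.node (.node (.leaf []) (.leaf [0, 0, 1])) (.node (.leaf []) (.leaf [1, 1]))))

/-- data -/
def rank4 : Trie (ℕ) := .node (.node (.node (.node (.leaf 0) (.leaf 7)) (.node (.leaf 0) (.leaf 1))) (.node (.node (.leaf 0) (.leaf 4)) (.node (.leaf 0) (.leaf 9)))) (.node (.node (.node (.leaf 0) (.leaf 3)) (.node (.leaf 2) (.leaf 8))) (.node (.node (.leaf 0) (.leaf 6)) (.node (.leaf 0) (.leaf 5))))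

/-- data -/
def tree4 : Trie (ℕ × ℕ) := .node (.node (.node (.leaf (0, 0)) (.leaf (1, 1))) (.node (.leaf (0, 1)) (.leaf (3, 0)))) (.node (.node (.leaf (0, 0)) (.leaf (2, 0))) (.node (.leaf (1, 0)) (.leaf (3, 1))))

/-- data -/
def cert4 : Trie (ℕ × ℕ × ℕ) := .node (.node (.node (.node (.leaf (0, 0, 3)) (.leaf (2, 3, 1))) (.leaf (1, 6, 2))) (.node (.leaf (1, 3, 2)) (.leaf (2, 1, 1)))) (.node (.node (.leaf (1, 1, 2)) (.leaf (2, 0, 2))) (.node (.leaf (1, 5, 3)) (.leaf (2, 2, 2))))

/-- data -/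
def pot4 : Trie Vec := .node (.node (.node (.leaf []) (.leaf [10, 30])) (.node (.leaf [10, 30]) (.leaf []))) (.node (.node (.leaf []) (.leaf [10, 30])) (.node (.leaf []) (.leaf [10, 30])))

/-- level 4 -/
def table4 : Table where
  size := 8
  ngen := 2
  next g x := next4.get (2 * g + x)
  prev g x := prev4.get (2 * g + x)
  lab g x := lab4.get (2 * g + x)
  val g x := val4.get (2 * g + x)
  rank g x := rank4.get (2 * g + x)
  tree g := tree4.get g
  cert j := cert4.get j
  nded := 9
  rels := [⟨[(0, true), (0, true), (0, true), (0, true)], [], [1]⟩,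
    ⟨[(0, false), (1, true), (1, true), (0, false)], [], [0, 1]⟩,
    ⟨[(1, true), (0, true), (1, true), (0, false)], [], [0, 0, 1]⟩]
  pot g := pot4.get g
  innerSize := 1
  innerGen := 0

/-- level 4 with its checks -/
def level4 : ChainLevel where
  table := table4
  gexp := [[0, 0], [10, 30]]
  perm := [719923664328491199848526586197411872, 608405391266436187982588441666881568]
  pinv := [715872302521680643580706198532491296, 609271311764373893382231684089481248]
  defs := []
  eqs := [(0, 2, [(-1), (-2), 2])]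
  pts := [4]

/-- the chain -/
def chain : List ChainLevel := [level0, level1, level2, level3, level4]

/-- exponents of the relations -/
def rows : List Vec :=
  [[0, 0],
    [20, 60],
    [20, 60],
    [16, 48],
    [8, 24],
    [24, 72],
    [(-8), (-24)],
    [2, 0],
    [8, 24],
    [8, 24],
    [1, 0],
    [2, 0],
    [1, 4],
    [(-11), (-24)],
    [(-7), (-12)],
    [(-9), (-20)],
    [4, 18],
    [2],
    [0, 3],
    [0, 0],
    [2, 8]]

/-- the linear algebra -/
def lin : LinCert where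
  basis := [[1], [0, 1, 0, 0, 0, 0, 0, 0, 0, 0, 0, 0, 0, 0, 0, 0, 0, 2, 12, 0, (-12)], [0, 0, 1, 0, 0, 0, 0, 0, 0, 0, 0, 0, 0, 0, 0, 0, 0, 2, 12, 0, (-12)], [0, 0, 0, 1, 0, 0, 0, 0, 0, 0, 0, 0, 0, 0, 0, 0, 0, 1, 8, 0, (-9)], [0, 0, 0, 0, 1, 0, 0, 0, 0, 0, 0, 0, 0, 0, 0, 0, 0, 2, 8, 0, (-6)], [0, 0, 0, 0, 0, 1, 0, 0, 0, 0, 0, 0, 0, 0, 0, 0, 0, 0, 8, 0, (-12)], [0, 0, 0, 0, 0, 0, 1, 0, 0, 0, 0, 0, 0, 0, 0, 0, 0, 1, 0, 0, 3], [0, 0, 0, 0, 0, 0, 0, 1, 0, 0, 0, 0, 0, 0, 0, 0, 0, 2, 8, 0, (-3)], [0, 0, 0, 0, 0, 0, 0, 0, 1, 0, 0, 0, 0, 0, 0, 0, 0, 2, 8, 0, (-6)], [0, 0, 0, 0, 0, 0, 0, 0, 0, 1, 0, 0, 0, 0, 0, 0, 0, 2, 8, 0, (-6)], [0, 0, 0, 0, 0, 0, 0, 0, 0, 0, 1, 0, 0, 0, 0, 1, 0, 0, (-4), 0, 4], [0, 0, 0, 0, 0, 0, 0, 0, 0, 0, 0, 1, 0, 0, 0, 0, 0, 2, 8, 0, (-3)], [0, 0, 0, 0, 0, 0, 0, 0, 0, 0, 0, 0, 1, 0, 0, 1, 0, 2, 0, 0, 2], [0, 0, 0, 0, 0, 0, 0, 0, 0, 0, 0, 0, 0, 1, 0, 1, 0, 0, (-12), 0, 10], [0, 0, 0, 0, 0, 0, 0, 0, 0, 0, 0, 0, 0, 0, 1, 1, 0, 1, (-8), 0, 7], [0, 0, 0, 0, 0,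 0, 0, 0, 0, 0, 0, 0, 0, 0, 0, 2, 0, 1, (-8), 0, 8], [0, 0, 0, 0, 0, 0, 0, 0, 0, 0, 0, 0, 0, 0, 0, 0, 0, 0, 0, 1], [0, 0, 0, 0, 0, 0, 0, 0, 0, 0, 0, 0, 0, 0, 0, (-10), 2, 0, 52, 0, (-49)], [0, 0, 0, 0, 0, 0, 0, 0, 0, 0, 0, 0, 0, 0, 0, 138, (-27), 0, (-718), 0, 675], [0, 0, 0, 0, 0, 0, 0, 0, 0, 0, 0, 0, 0, 0, 0, 46, (-9), 0, (-239), 0, 225], [0, 0, 0, 0, 0, 0, 0, 0, 0, 0, 0, 0, 0, 0, 0, (-5), 1, 0, 26, 0, (-25)]]
  dual := [[1], [0, 1], [0, 0, 1], [0, 0, 0, 1], [0, 0, 0, 0, 1], [0, 0, 0, 0, 0, 1], [0, 0, 0, 0, 0, 0, 1], [0, 0, 0, 0, 0, 0, 0, 1], [0, 0, 0, 0, 0, 0, 0, 0, 1], [0, 0, 0, 0, 0, 0, 0, 0, 0, 1], [0, 0, 0, 0, 0, 0, 0, 0, 0, 0, 1], [0, 0, 0, 0, 0, 0, 0, 0, 0, 0, 0, 1], [0, 0, 0, 0, 0, 0, 0, 0, 0, 0, 0, 0, 1], [0, 0, 0, 0, 0, 0, 0, 0, 0, 0, 0, 0, 0, 1], [0, 0, 0, 0, 0, 0, 0, 0, 0, 0, 0, 0, 0, 0, 1], [0, (-2), (-2), (-1), (-2), 0, (-1), (-2), (-2), (-2), 0, (-2), (-2), 0, (-1), 0, 0, 1], [0, 0, 0, 0, 0, 0, 0, 0, 0, 0, 0, 0, 0, 0, 0, 0, 0, 0, 0, 1], [0, 28, 28, 17, 22,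 12, 5, 19, 22, 22, (-4), 19, 14, (-10), 1, 0, 25, (-8), 0, 0, 1], [0, 8, 8, 6, 4, 8, (-2), 4, 4, 4, 1, 4, 1, (-7), (-5), (-5), 1, 2, (-1)], [0, (-20), (-20), (-16), (-8), (-24), 8, (-8), (-8), (-8), (-4), (-8), 0, 20, 16, 16, 2, (-8), 3], [0, (-20), (-20), (-16), (-8), (-24), 8, (-2), (-8), (-8), (-1), (-2), (-1), 11, 7, 9, (-4), (-2), 0, 0, (-2)]]
  kind := [(false, 0, [0, 0, 0, 0, 3, (-3), 0, 6, 0, 0, (-6), (-35), 6, (-20), 40, 8, (-22), 13, 48, 16]), (false, 0, [(-38), 27, 15, 12, (-24), 8, (-10), 24, 14, 4, (-22), (-294), (-157), (-224), 450, 68, (-263), 63, 467, 4]), (false, 0, [(-38), 27, 15, 12, (-21), 5, (-10), 30, 14, 4, (-28), (-328), (-151), (-243), 488, 76, (-284), 76, 514, 20]), (false, 0, [(-28), 20, 11, 9, (-17), 6, (-7), 17, 10, 3, (-16), (-216), (-117), (-165), 332, 49, (-195), 46, 343, 2]), (false, 0, [(-20), 14, 8, 6, (-15), 5, (-6), 12, 8, 2, (-10), (-147), (-82), (-114), 228, 35, (-132), 29, 234]), (false, 0, [(-36), 26, 14, 12, (-17), 5, (-8), 26, 12,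 4, (-26), (-309), (-148), (-230), 464, 69, (-273), 71, 486, 14]), (false, 0, [8, (-6), (-3), (-3), 8, (-7), 1, 7, (-2), (-1), (-6), 4, 47, 16, (-34), 2, 24, 9, (-19), 28]), (false, 0, [(-11), 8, 5, 3, (-10), 2, (-5), 11, 6, 1, (-8), (-98), (-43), (-73), 144, 26, (-80), 21, 152, 8]), (false, 0, [(-20), 14, 8, 6, (-15), 5, (-6), 12, 8, 2, (-10), (-147), (-83), (-114), 228, 35, (-132), 29, 234]), (false, 0, [(-20), 14, 8, 6, (-15), 5, (-6), 12, 8, 2, (-10), (-147), (-83), (-114), 229, 35, (-132), 29, 234]), (false, 0, [12, (-9), (-5), (-4), 14, (-8), 4, 2, (-6), (-1), (-3), 44, 67, 47, (-99), (-10), 57, 2, (-81), 22]), (false, 0, [(-11), 8, 5, 3, (-11), 2, (-5), 11, 6, 1, (-8), (-98), (-43), (-73), 144, 26, (-80), 21, 152, 8]), (false, 0, [4, (-4), (-2), (-2), 8, (-7), 1, 8, (-3), 0, (-8), (-14), 41, 4, (-16), 5, 9, 15, 9, 26]), (false, 0, [30, (-23), (-13), (-10), 29, (-13), 11, (-11), (-15), (-3), 7, 192, 152, 163, (-334), (-47), 190, (-26), (-317), 20]), (false, 0, [20,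 (-16), (-9), (-7), 17, (-8), 7, (-8), (-10), (-2), 6, 139, 104, 116, (-237), (-33), 136, (-21), (-228), 12]), (false, 0, [23, (-18), (-10), (-8), 23, (-12), 8, (-4), (-12), (-2), 2, 131, 126, 118, (-246), (-31), 140, (-13), (-222), 24]), (false, 0, [0, (-1), 0, 0, 2, 0, 1, (-2), (-1), 0, 1, 12, 4, 9, (-20), (-4), 9, (-1), (-18), (-2)]), (false, 0, [(-147), 111, 62, 49, (-134), 62, (-49), 48, 71, 13, (-35), (-931), (-742), (-790), 1628, 220, (-931), 131, 1538, (-96)]), (false, 0, [4050, (-3059), (-1709), (-1350), 3698, (-1712), 1352, (-1319), (-1959), (-358), 959, 25628, 20455, 21757, (-44838), (-6059), 25637, (-3597), (-42344), 2656]), (true, 1, [(-4), 1]), (true, 1, [(-1)])]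
  tor := 18
  bound := 2

/-- the top generators as words -/
def top : List Word := (List.range 2).map fun j => [(j, true)]

theorem perms_check : permsOK chain = true := by decide +kernel

theorem rows_check : rows = relRows (chainRels chain top) ∧ chainExp chain = top.map (wexp vunit) := by decide +kernel

theorem shape0 : shapeOK (chainRels chain top) rows level0 [level1, level2, level3, level4] (top) = true := by decide +kernel

theorem deds0 : dedsOK level0 [level1, level2, level3, level4] = true := by decide +kernel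

theorem eqn0_0 : eqnOK level0 [level1, level2, level3, level4] 0 = true := by decide +kernel

theorem eqn0_1 : eqnOK level0 [level1, level2, level3, level4] 1 = true := by decide +kernel

theorem eqn0_2 : eqnOK level0 [level1, level2, level3, level4] 2 = true := by decide +kernel

theorem eqn0_3 : eqnOK level0 [level1, level2, level3, level4] 3 = true := by decide +kernel

theorem eqns0 : eqnsOK level0 [level1, level2, level3, level4] = true := by
  have hlen : level0.eqs.length = 4 := rfl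
  simp only [eqnsOK, hlen, List.range_succ, List.range_zero, List.nil_append, List.cons_append, List.all_cons, List.all_nil, Bool.and_self, eqn0_0, eqn0_1, eqn0_2, eqn0_3]

theorem shape1 : shapeOK (chainRels chain top) rows level1 [level2, level3, level4] (nextWords (top) level0) = true := by decide +kernel

theorem deds1 : dedsOK level1 [level2, level3, level4] = true := by decide +kernel

theorem eqn1_0 : eqnOK level1 [level2, level3, level4] 0 = true := by decide +kernel

theorem eqn1_1 : eqnOK level1 [level2, level3, level4] 1 = true := by decide +kernel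

theorem eqn1_2 : eqnOK level1 [level2, level3, level4] 2 = true := by decide +kernel

theorem eqn1_3 : eqnOK level1 [level2, level3, level4] 3 = true := by decide +kernel

theorem eqn1_4 : eqnOK level1 [level2, level3, level4] 4 = true := by decide +kernel

theorem eqn1_5 : eqnOK level1 [level2, level3, level4] 5 = true := by decide +kernel

theorem eqn1_6 : eqnOK level1 [level2, level3, level4] 6 = true := by decide +kernel

theorem eqns1 : eqnsOK level1 [level2, level3, level4] = true := by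
  have hlen : level1.eqs.length = 7 := rfl
  simp only [eqnsOK, hlen, List.range_succ, List.range_zero, List.nil_append, List.cons_append, List.all_cons, List.all_nil, Bool.and_self, eqn1_0, eqn1_1, eqn1_2, eqn1_3, eqn1_4, eqn1_5, eqn1_6]

theorem shape2 : shapeOK (chainRels chain top) rows level2 [level3, level4] (nextWords (nextWords (top) level0) level1) = true := by decide +kernel

theorem deds2 : dedsOK level2 [level3, level4] = true := by decide +kernel

theorem eqn2_0 : eqnOK level2 [level3, level4] 0 = true := by decide +kernel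

theorem eqn2_1 : eqnOK level2 [level3, level4] 1 = true := by decide +kernel

theorem eqn2_2 : eqnOK level2 [level3, level4] 2 = true := by decide +kernel

theorem eqn2_3 : eqnOK level2 [level3, level4] 3 = true := by decide +kernel

theorem eqns2 : eqnsOK level2 [level3, level4] = true := by
  have hlen : level2.eqs.length = 4 := rfl
  simp only [eqnsOK, hlen, List.range_succ, List.range_zero, List.nil_append, List.cons_append, List.all_cons, List.all_nil, Bool.and_self, eqn2_0, eqn2_1, eqn2_2, eqn2_3]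

theorem shape3 : shapeOK (chainRels chain top) rows level3 [level4] (nextWords (nextWords (nextWords (top) level0) level1) level2) = true := by decide +kernel

theorem deds3 : dedsOK level3 [level4] = true := by decide +kernel

theorem eqn3_0 : eqnOK level3 [level4] 0 = true := by decide +kernel

theorem eqn3_1 : eqnOK level3 [level4] 1 = true := by decide +kernel

theorem eqn3_2 : eqnOK level3 [level4] 2 = true := by decide +kernel

theorem eqn3_3 : eqnOK level3 [level4] 3 = true := by decide +kernel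

theorem eqns3 : eqnsOK level3 [level4] = true := by
  have hlen : level3.eqs.length = 4 := rfl
  simp only [eqnsOK, hlen, List.range_succ, List.range_zero, List.nil_append, List.cons_append, List.all_cons, List.all_nil, Bool.and_self, eqn3_0, eqn3_1, eqn3_2, eqn3_3]

theorem shape4 : shapeOK (chainRels chain top) rows level4 [] (nextWords (nextWords (nextWords (nextWords (top) level0) level1) level2) level3) = true := by decide +kernel

theorem deds4 : dedsOK level4 [] = true := by decide +kernel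

theorem eqn4_0 : eqnOK level4 [] 0 = true := by decide +kernel

theorem eqns4 : eqnsOK level4 [] = true := by
  have hlen : level4.eqs.length = 1 := rfl
  simp only [eqnsOK, hlen, List.range_succ, List.range_zero, List.nil_append, List.cons_append, List.all_cons, List.all_nil, Bool.and_self, eqn4_0]

theorem lastWords : (nextWords (nextWords (nextWords (nextWords (nextWords (top) level0) level1) level2) level3) level4).isEmpty = true := by decide +kernel

theorem tables_check : tablesOK (chainRels chain top) rows chain top = true := by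
  show tablesOK (chainRels chain top) rows [level0, level1, level2, level3, level4] top = true
  simp only [tablesOK, shape0, deds0, eqns0, shape1, deds1, eqns1, shape2, deds2, eqns2, shape3, deds3, eqns3, shape4, deds4, eqns4, lastWords, Bool.and_self]

theorem lin_check : lin.ok rows 2 (chainEqns chain) = true := by decide +kernel

end CfsgLib.Sporadic.M12Chain
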