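import Cfsg.Agent.Lib.Sporadic.Ternary
import Cfsg.Agent.Lib.Sporadic.HexAut
import Cfsg.Agent.Lib.Sporadic.TernaryMonomialData

/-!
# The monomial group of the ternary code of length 12

Fifty witnesses give a transitive chain on five cells, so the permutation parts fill the group of the hexad
system; the diagonal part is the scalars.
-/

set_option autoImplicit false
set_option maxRecDepth 100000

namespace CfsgLib.Sporadic.TernMon

open Cfsg CfsgLib.Sporadic
open scoped Pointwise

local notation "F₃" => ZMod 3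

/-- The cell at a position. -/
def cell (i : ℕ) : ArrayPt := (⟨i / 3 % 4, Nat.mod_lt _ (by norm_num)⟩, ((i % 3 : ℕ) : ZMod 3))

/-- The map read off a list of positions. -/
def readList (l : List ℕ) (p : ArrayPt) : ArrayPt := cell (l.getD (cellIx p) 0)

/-- The negation pattern of a mask. -/
def signOf (m : ℕ) (p : ArrayPt) : F₃ˣ := if m.testBit (cellIx p) then -1 else 1

theorem witness_check : ∀ w ∈ witnesses, (∀ p, readList w.2.1 (readList w.1 p) = p) ∧
    (∀ p, readList w.1 (readList w.2.1 p) = p) ∧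
    ∀ (j : Fin 6) (p : ArrayPt),
      (signOf w.2.2 p : F₃) * ternB j (readList w.2.1 p) =
        ternEnc (fun i => (signOf w.2.2 (ternPivot i) : F₃) * ternB j (readList w.2.1 (ternPivot i))) p := by
  decide +kernel

theorem chain_check : ∀ k : Fin 5, ∀ t : Fin 12, k.val ≤ t.val → ∃ w ∈ witnesses,
    readList w.1 (cell k) = cell t ∧ ∀ i : Fin 5, i.val < k.val → readList w.1 (cell i) = cell i := by
  decide +kernel

theorem cell_facts : (∀ p : ArrayPt, cell (cellIx p) = p ∧ cellIx p < 12) ∧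
    ∀ i j : Fin 12, cell i = cell j → i = j := by decide +kernel

/-- The monomial map preserves the code. -/
def Pres (σ : Equiv.Perm ArrayPt) (c : ArrayPt → F₃ˣ) : Prop :=
  ∀ x ∈ ternaryGolayCode, monomialMap σ c x ∈ ternaryGolayCode

theorem Pres.mul {σ τ : Equiv.Perm ArrayPt} {c d : ArrayPt → F₃ˣ} (h : Pres σ c) (h' : Pres τ d) :
    Pres (σ * τ) (fun i => c i * d (σ.symm i)) := fun x hx => by
  have := h _ (h' x hx)
  convert this using 1
  funext i
  simp only [monomialMap, Units.val_mul, mul_assoc]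
  rfl

theorem pres_one : Pres 1 1 := fun x hx => by
  have e : monomialMap (1 : Equiv.Perm ArrayPt) (1 : ArrayPt → F₃ˣ) x = x := by
    funext i
    simp [monomialMap, Equiv.Perm.one_symm]
  rwa [e]

theorem monomial_support (σ : Equiv.Perm ArrayPt) (c : ArrayPt → F₃ˣ) (x : ArrayPt → F₃) :
    ternarySupport (monomialMap σ c x) = σ • ternarySupport x := by
  ext i
  rw [← Finset.inv_smul_mem_iff]
  simp [ternarySupport, monomialMap, Equiv.Perm.smul_def]

/-- The hexads. -/
abbrev hexads : Set (Finset ArrayPt) :=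
  {h : Finset ArrayPt | ∃ x ∈ ternaryGolayCode, ternarySupport x = h ∧ h.card = 6}

theorem mem_aut_of_pres {σ : Equiv.Perm ArrayPt} {c : ArrayPt → F₃ˣ} (h : Pres σ c) :
    σ ∈ setSystemAut hexads := by
  have hsub : σ • hexads ⊆ (hexads : Set (Finset ArrayPt)) := by
    rintro _ ⟨b, ⟨x, hx, rfl, h6⟩, rfl⟩
    exact ⟨_, h x hx, monomial_support σ c x, by rw [Finset.card_smul_finset]; exact h6⟩
  rw [setSystemAut, MulAction.mem_stabilizer_iff]
  exact Set.eq_of_subset_of_ncard_le hsub (by
    show hexads.ncard ≤ ((σ • ·) '' hexads).ncard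
    rw [Set.ncard_image_of_injective _ (MulAction.injective σ)]) (Set.toFinite _)

theorem exists_witness {w : List ℕ × List ℕ × ℕ} (hw : w ∈ witnesses) :
    ∃ σ : Equiv.Perm ArrayPt, (∀ p, σ p = readList w.1 p) ∧ Pres σ (signOf w.2.2) := by
  obtain ⟨h1, h2, h3⟩ := witness_check w hw
  refine ⟨⟨readList w.1, readList w.2.1, h1, h2⟩, fun p => rfl, fun x hx => ?_⟩
  obtain ⟨a, rfl⟩ := (mem_ternary_iff x).1 hx
  refine (mem_ternary_iff _).2 ⟨fun i => ∑ j, a j *
    ((signOf w.2.2 (ternPivot i) : F₃) * ternB j (readList w.2.1 (ternPivot i))), ?_⟩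
  funext p
  show _ = (signOf w.2.2 p : F₃) * ternEnc a (readList w.2.1 p)
  simp only [ternEnc, Finset.mul_sum, Finset.sum_mul, mul_assoc]
  rw [Finset.sum_comm]
  refine Finset.sum_congr rfl fun j _ => ?_
  rw [mul_left_comm, h3 j p, ternEnc, Finset.mul_sum]
  simp only [mul_assoc]

theorem exists_pres {σ : Equiv.Perm ArrayPt} (hσ : σ ∈ setSystemAut hexads) : ∃ c, Pres σ c := by
  let emb : Fin 5 ↪ ArrayPt := ⟨fun i => cell i, fun i j e => Fin.ext (Fin.val_eq_of_eq
    (cell_facts.2 ⟨i, by omega⟩ ⟨j, by omega⟩ e) :)⟩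
  have hfix := (Hex.aut12 (B := hexads) (α := ArrayPt) (by decide) hexads_ternary.1).2.2 emb
  have key : ∀ n, n ≤ 5 → ∀ τ ∈ setSystemAut hexads,
      (∀ i : Fin 5, i.val < 5 - n → τ (cell i) = cell i) → ∃ c, Pres τ c := by
    intro n
    induction n with
    | zero =>
      intro _ τ hτ h
      have : (⟨τ, hτ⟩ : ↥(setSystemAut hexads)) ∈ MulAction.stabilizer ↥(setSystemAut hexads) emb := by
        rw [MulAction.mem_stabilizer_iff]
        refine Function.Embedding.ext fun i => ?_
        show τ (cell i) = cell i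
        exact h i (by omega)
      rw [hfix, Subgroup.mem_bot] at this
      rw [show τ = 1 from congrArg Subtype.val this]
      exact ⟨1, pres_one⟩
    | succ n ih =>
      intro hn τ hτ h
      have hk : 5 - (n + 1) < 5 := by omega
      have hkt : (5 - (n + 1)) ≤ cellIx (τ (cell (5 - (n + 1)))) := by
        by_contra hlt
        have := h ⟨cellIx (τ (cell (5 - (n + 1)))), by omega⟩ (by simp only; omega)
        rw [(cell_facts.1 _).1, τ.apply_eq_iff_eq] at this
        have h3 := cell_facts.2 ⟨5 - (n + 1), by omega⟩ ⟨cellIx (τ (cell (5 - (n + 1)))), by omega⟩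
          (by rw [(cell_facts.1 _).1]; exact this.symm)
        have := Fin.val_eq_of_eq h3
        simp only at this
        omega
      obtain ⟨w, hw, hw1, hw2⟩ := chain_check ⟨5 - (n + 1), hk⟩ ⟨_, (cell_facts.1 (τ (cell (5 - (n + 1))))).2⟩ hkt
      obtain ⟨g, hg, hgp⟩ := exists_witness hw
      obtain ⟨c, hc⟩ := ih (by omega) (g⁻¹ * τ) (mul_mem (inv_mem (mem_aut_of_pres hgp)) hτ) fun i hi => by
        rw [Equiv.Perm.mul_apply, Equiv.Perm.inv_eq_iff_eq, hg]
        rcases Nat.lt_or_ge i.val (5 - (n + 1)) with hlt | hge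
        · rw [h i hlt]; exact (hw2 i hlt).symm
        · have he : i.val = 5 - (n + 1) := by omega
          rw [he, hw1]
          exact ((cell_facts.1 _).1).symm
      have := hgp.mul hc
      rw [mul_inv_cancel_left] at this
      exact ⟨_, this⟩
  exact key 5 le_rfl σ hσ fun i hi => absurd hi (by omega)

theorem pres_unique {σ : Equiv.Perm ArrayPt} {c d : ArrayPt → F₃ˣ} (hc : Pres σ c) (hd : Pres σ d) :
    ∃ ε : F₃ˣ, c = fun i => ε * d i := by
  let T : ↥ternaryGolayCode → ↥ternaryGolayCode := fun y => ⟨monomialMap σ d y, hd y y.2⟩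
  have hT : Function.Injective T := fun y z e => by
    refine Subtype.ext (funext fun i => ?_)
    have := congrFun (congrArg Subtype.val e) (σ i)
    simpa [T, monomialMap] using this
  have hq : ∀ (x : ArrayPt → F₃) (hx : x ∈ ternaryGolayCode), ∀ i, ((c i * (d i)⁻¹ : F₃ˣ) : F₃) * x i = monomialMap σ c
      (Classical.choose (Finite.surjective_of_injective hT ⟨x, hx⟩)).1 i := fun x hx i => by
    have e := congrFun (congrArg Subtype.val
      (Classical.choose_spec (Finite.surjective_of_injective hT ⟨x, hx⟩))) i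
    conv_lhs => rw [← show monomialMap σ d _ i = x i from e]
    simp only [monomialMap, Units.val_mul]
    rw [mul_assoc, ← mul_assoc ((d i)⁻¹ : F₃ˣ).val, Units.inv_mul, one_mul]
  have hconst := ternary_diag (fun i => ((c i * (d i)⁻¹ : F₃ˣ) : F₃)) (fun i => Units.ne_zero _) fun j => by
    have hy := Classical.choose (Finite.surjective_of_injective hT ⟨ternB j, ternB_mem j⟩)
    obtain ⟨a, ha⟩ := (mem_ternary_iff _).1 (hc _
      (Classical.choose (Finite.surjective_of_injective hT ⟨ternB j, ternB_mem j⟩)).2)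
    exact ⟨a, fun p => by rw [hq _ (ternB_mem j) p, ha]⟩
  refine ⟨c (0, 0) * (d (0, 0))⁻¹, funext fun i => ?_⟩
  rw [show c (0, 0) * (d (0, 0))⁻¹ = c i * (d i)⁻¹ from Units.ext (hconst (0, 0) i), inv_mul_cancel_right]

theorem monomial_group :
    Nat.card {f : Equiv.Perm ArrayPt × (ArrayPt → F₃ˣ) //
        (∀ x ∈ ternaryGolayCode, monomialMap f.1 f.2 x ∈ ternaryGolayCode)} = 190080 ∧
    {σ : Equiv.Perm ArrayPt | ∃ c : ArrayPt → F₃ˣ,
        (∀ x ∈ ternaryGolayCode, monomialMap σ c x ∈ ternaryGolayCode)} =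
      (setSystemAut hexads : Set (Equiv.Perm ArrayPt)) := by
  refine ⟨?_, Set.ext fun σ => ⟨fun ⟨c, hc⟩ => mem_aut_of_pres hc, exists_pres⟩⟩
  have hcard : Nat.card ↥(setSystemAut hexads) = 95040 :=
    (Hex.aut12 (B := hexads) (α := ArrayPt) (by decide) hexads_ternary.1).1.2
  let Φ : ↥(setSystemAut hexads) × F₃ˣ → {f : Equiv.Perm ArrayPt × (ArrayPt → F₃ˣ) // Pres f.1 f.2} :=
    fun z => ⟨(z.1.1, fun i => z.2 * (exists_pres z.1.2).choose i), fun x hx => by
      have := ternaryGolayCode.smul_mem (z.2 : F₃) ((exists_pres z.1.2).choose_spec x hx)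
      convert this using 1
      funext i
      simp [monomialMap, mul_assoc]⟩
  have hΦ : Function.Bijective Φ := by
    constructor
    · rintro ⟨⟨σ, hσ⟩, ε⟩ ⟨⟨τ, hτ⟩, δ⟩ e
      have e1 : σ = τ := congrArg (fun f => f.1.1) e
      subst e1
      have e2 := congrFun (congrArg (fun f => f.1.2) e) (0, 0)
      exact Prod.ext rfl (mul_right_cancel e2)
    · rintro ⟨⟨σ, c⟩, hc⟩
      obtain ⟨ε, he⟩ := pres_unique hc (exists_pres (mem_aut_of_pres hc)).choose_spec
      exact ⟨(⟨σ, mem_aut_of_pres hc⟩, ε), Subtype.ext (Prod.ext rfl he.symm)⟩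
  show Nat.card {f : Equiv.Perm ArrayPt × (ArrayPt → F₃ˣ) // Pres f.1 f.2} = _
  rw [← Nat.card_congr (Equiv.ofBijective Φ hΦ), Nat.card_prod, hcard, Nat.card_units, Nat.card_zmod]

end CfsgLib.Sporadic.TernMon
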