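import Cfsg.Agent.Lib.Schur.Multiplier
import Cfsg.Agent.Lib.Sporadic.SporMathieu
import Cfsg.Agent.Lib.Sporadic.TernaryMonomial
import Cfsg.Agent.Lib.Sporadic.M12Chain

/-!
# The Schur multiplier of M12

The monomial group of the ternary code is the cover; a chain of coset tables gives the bound.
-/

set_option autoImplicit false
set_option maxRecDepth 100000

namespace CfsgLib.Sporadic.M12Chain

open Cfsg CfsgLib.Schur.Cert CfsgLib.Sporadic.Hex
open scoped Pointwise

local notation "F₃" => ZMod 3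

/-- a monomial map on signed cells -/
def mon (σ : Equiv.Perm ArrayPt) (c : ArrayPt → F₃ˣ) : Equiv.Perm (ArrayPt × F₃ˣ) where
  toFun x := (σ x.1, c (σ x.1) * x.2)
  invFun x := (σ.symm x.1, (c x.1)⁻¹ * x.2)
  left_inv x := by simp
  right_inv x := by simp

theorem mon_mul (σ τ : Equiv.Perm ArrayPt) (c d : ArrayPt → F₃ˣ) :
    mon σ c * mon τ d = mon (σ * τ) (fun i => c i * d (σ.symm i)) :=
  Equiv.ext fun x => by simp [mon, Equiv.Perm.mul_apply, mul_assoc]

/-- the monomial group of the ternary code -/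
noncomputable def monGroup : Subgroup (Equiv.Perm (ArrayPt × F₃ˣ)) where
  carrier := {f | ∃ σ c, TernMon.Pres σ c ∧ f = mon σ c}
  one_mem' := ⟨1, 1, TernMon.pres_one, Equiv.ext fun x => by simp [mon]⟩
  mul_mem' := by
    rintro _ _ ⟨σ, c, h, rfl⟩ ⟨τ, d, h', rfl⟩
    exact ⟨_, _, h.mul h', mon_mul σ τ c d⟩
  inv_mem' := by
    rintro _ ⟨σ, c, h, rfl⟩
    have key : ∀ n : ℕ, ∃ τ d, TernMon.Pres τ d ∧ mon σ c ^ n = mon τ d := by
      intro n
      induction n with
      | zero => exact ⟨1, 1, TernMon.pres_one, Equiv.ext fun x => by simp [mon]⟩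
      | succ n ih =>
        obtain ⟨τ, d, hd, e⟩ := ih
        exact ⟨_, _, hd.mul h, by rw [pow_succ, e, mon_mul]⟩
    have e : (mon σ c)⁻¹ = mon σ c ^ (orderOf (mon σ c) - 1) := by
      refine inv_eq_of_mul_eq_one_right ?_
      rw [← pow_succ', Nat.sub_add_cancel (orderOf_pos _), pow_orderOf_eq_one]
    obtain ⟨τ, d, hd, e'⟩ := key (orderOf (mon σ c) - 1)
    exact ⟨τ, d, hd, e.trans e'⟩

theorem shadow_data (f : monGroup) : ∃ σ : setSystemAut TernMon.hexads,
    ∀ x : ArrayPt × F₃ˣ, ((f : Equiv.Perm (ArrayPt × F₃ˣ)) x).1 = σ.1 x.1 := by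
  obtain ⟨_, σ, c, h, rfl⟩ := f
  exact ⟨⟨σ, TernMon.mem_aut_of_pres h⟩, fun x => rfl⟩

/-- the permutation part -/
noncomputable def shadow : monGroup →* setSystemAut TernMon.hexads :=
  MonoidHom.mk' (fun f => (shadow_data f).choose) fun f g => by
    refine Subtype.ext (Equiv.ext fun i => ?_)
    have h := (shadow_data (f * g)).choose_spec (i, 1)
    have h' : ((f : Equiv.Perm (ArrayPt × F₃ˣ)) ((g : Equiv.Perm (ArrayPt × F₃ˣ)) (i, 1))).1 =
        (shadow_data (f * g)).choose.1 i := h
    rw [(shadow_data f).choose_spec, (shadow_data g).choose_spec] at h'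
    exact h'.symm

theorem shadow_apply (f : monGroup) (x : ArrayPt × F₃ˣ) :
    ((f : Equiv.Perm (ArrayPt × F₃ˣ)) x).1 = (shadow f).1 x.1 := (shadow_data f).choose_spec x

theorem shadow_surjective : Function.Surjective shadow := fun σ => by
  obtain ⟨c, hc⟩ := TernMon.exists_pres σ.2
  refine ⟨⟨mon σ.1 c, σ.1, c, hc, rfl⟩, Subtype.ext (Equiv.ext fun i => ?_)⟩
  rw [← shadow_apply _ (i, 1)]
  rfl

theorem ker_scalar {f : monGroup} (hf : f ∈ shadow.ker) :
    ∃ ε : F₃ˣ, ∀ x : ArrayPt × F₃ˣ, (f : Equiv.Perm (ArrayPt × F₃ˣ)) x = (x.1, ε * x.2) := by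
  obtain ⟨f, σ, c, h, rfl⟩ := f
  have hσ : σ = 1 := Equiv.ext fun i => by
    have e := shadow_apply ⟨mon σ c, σ, c, h, rfl⟩ (i, 1)
    rw [MonoidHom.mem_ker.mp hf] at e
    exact e
  subst hσ
  obtain ⟨ε, he⟩ := TernMon.pres_unique h TernMon.pres_one
  exact ⟨ε, fun x => by subst he; simp [mon]⟩

theorem ker_central : shadow.ker ≤ Subgroup.center monGroup := fun f hf => by
  obtain ⟨ε, he⟩ := ker_scalar hf
  refine Subgroup.mem_center_iff.mpr fun ⟨g, σ, c, h, hg⟩ => Subtype.ext (Equiv.ext fun x => ?_)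
  subst hg
  rw [Subgroup.coe_mul, Subgroup.coe_mul, Equiv.Perm.mul_apply, Equiv.Perm.mul_apply, he, he]
  simp [mon, mul_left_comm]

theorem card_ker_shadow : Nat.card shadow.ker ≤ 2 := by
  choose ε hε using fun f : shadow.ker => ker_scalar f.2
  refine (Nat.card_le_card_of_injective ε fun f g e => Subtype.ext (Subtype.ext (Equiv.ext fun x => ?_))).trans
    (by rw [Nat.card_units, Nat.card_zmod])
  rw [hε, hε, e]

/-- the iteration of a witness -/
def readIter (w : List ℕ × List ℕ × ℕ) : ℕ → ArrayPt × F₃ˣ → ArrayPt × F₃ˣ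
  | 0, x => x
  | n + 1, x =>
    let y := readIter w n x
    (TernMon.readList w.1 y.1, TernMon.signOf w.2.2 (TernMon.readList w.1 y.1) * y.2)

theorem square_check : (TernMon.witnesses.getD 8 ([], [], 0)) ∈ TernMon.witnesses ∧
    (∀ x, readIter (TernMon.witnesses.getD 8 ([], [], 0)) 6 x = (x.1, -x.2)) := by
  refine ⟨?_, by decide +kernel⟩
  rw [List.getD_eq_getElem _ _ (by decide)]
  exact List.getElem_mem _

theorem exists_sq : ∃ g : monGroup, g ^ 2 ∈ shadow.ker ∧ g ^ 2 ≠ 1 := by
  obtain ⟨hw, hx⟩ := square_check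
  generalize TernMon.witnesses.getD 8 ([], [], 0) = w at hw hx
  obtain ⟨σ, hσ, hp⟩ := TernMon.exists_witness hw
  let e : monGroup := ⟨mon σ (TernMon.signOf w.2.2), σ, _, hp, rfl⟩
  have hit : ∀ n x, ((e ^ n : monGroup) : Equiv.Perm (ArrayPt × F₃ˣ)) x = readIter w n x := by
    intro n
    induction n with
    | zero => intro x; rfl
    | succ n ih =>
      intro x
      rw [pow_succ', Subgroup.coe_mul, Equiv.Perm.mul_apply, ih]
      show (σ _, TernMon.signOf w.2.2 (σ _) * _) = _
      rw [hσ]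
      rfl
  refine ⟨e ^ 3, ?_, fun h => ?_⟩ <;> rw [← pow_mul] at *
  · refine MonoidHom.mem_ker.mpr (Subtype.ext (Equiv.ext fun i => ?_))
    rw [← shadow_apply _ (i, 1), hit, hx]
    rfl
  · have e1 := hit (3 * 2) ((0, 0), 1)
    rw [h, hx] at e1
    exact absurd (congrArg Prod.snd e1) (by decide)

/-- the group of the hexads is the dodecad stabiliser -/
theorem exists_equiv : Nonempty (setSystemAut TernMon.hexads ≃* ↥Spor.M12) := by
  obtain ⟨e, he⟩ := steiner12 (α := ArrayPt) (by decide) hexads_ternary.1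
  exact ⟨((Uniq.autEquiv e he).trans hexEquiv.symm).trans
    ((MulEquiv.subgroupCongr (by rw [squareDodecad_eq])).trans sporM12Equiv)⟩

theorem gens_check : ((chainPerm chain).all fun p => isAut p && Nat.beq (mimg p stdD) stdD) = true ∧
    (chainPerm chain).length = 2 ∧ chainGen chain = 2 ∧ chainSize chain = 95040 ∧ lin.bound = 2 := by
  decide +kernel

theorem multiplier_two : Cfsg.HasCyclicSchurMultiplier ↥Spor.M12 2 := by
  obtain ⟨iso⟩ := exists_equiv
  let τ : monGroup →* Spor.M12 := (iso : _ →* Spor.M12).comp shadow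
  have hker : τ.ker = shadow.ker := by ext x; simp [τ]
  have hsurj : Function.Surjective τ := iso.surjective.comp shadow_surjective
  obtain ⟨g, hg, hne⟩ := exists_sq
  have hc2 : Nat.card shadow.ker = 2 := le_antisymm card_ker_shadow
    (Subgroup.one_lt_card_iff_ne_bot _ |>.mpr fun h => hne (by rw [h, Subgroup.mem_bot] at hg; exact hg))
  have hcomm : shadow.ker ≤ commutator monGroup := by
    have := sporM12_isSimple
    have htop : commutator ↥Spor.M12 = ⊤ := by
      refine (IsSimpleGroup.eq_bot_or_eq_top_of_normal (commutator ↥Spor.M12) inferInstance).resolve_left fun h => ?_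
      have hab : ∀ u v : ↥Spor.M12, u * v = v * u := fun u v => by
        refine commutatorElement_eq_one_iff_mul_comm.mp ?_
        have := Subgroup.commutator_mem_commutator (Subgroup.mem_top u) (Subgroup.mem_top v)
        rwa [← commutator_def, h, Subgroup.mem_bot] at this
      let _ : CommGroup ↥Spor.M12 := { (inferInstance : Group ↥Spor.M12) with mul_comm := hab }
      have hp := IsSimpleGroup.prime_card (α := ↥Spor.M12)
      rw [card_sporM12] at hp
      norm_num at hp
    have hmap : (commutator monGroup).map τ = ⊤ := by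
      rw [commutator_def, Subgroup.map_commutator, Subgroup.map_top_of_surjective τ hsurj, ← commutator_def, htop]
    obtain ⟨c, hc, ec⟩ := (hmap.symm ▸ Subgroup.mem_top (τ g) : τ g ∈ (commutator monGroup).map τ)
    have hd : c⁻¹ * g ∈ shadow.ker := hker ▸ MonoidHom.mem_ker.mpr (by rw [map_mul, map_inv, ec, inv_mul_cancel])
    have hd2 : (c⁻¹ * g) ^ 2 = 1 := by
      have h := pow_card_eq_one' (x := (⟨_, hd⟩ : shadow.ker))
      rw [hc2] at h
      exact congrArg Subtype.val h
    have hcom : Commute c (c⁻¹ * g) := Subgroup.mem_center_iff.mp (ker_central hd) c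
    have hsq : g ^ 2 ∈ commutator monGroup := by
      rw [show g = c * (c⁻¹ * g) by group, hcom.mul_pow, hd2, mul_one]
      exact pow_mem hc 2
    intro z hz
    have hle : Subgroup.zpowers (g ^ 2) ≤ shadow.ker := Subgroup.zpowers_le.mpr hg
    have heq : Subgroup.zpowers (g ^ 2) = shadow.ker := Subgroup.eq_of_le_of_card_ge hle (by
      rw [hc2]; exact Subgroup.one_lt_card_iff_ne_bot _ |>.mpr (by rwa [Ne, Subgroup.zpowers_eq_bot]))
    rw [← heq] at hz
    exact Subgroup.zpowers_le.mpr hsq hz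
  have hτ : Cfsg.IsStemExtension τ := ⟨hsurj, hker ▸ ker_central, hker ▸ hcomm⟩
  have hcard : Nat.card τ.ker = 2 := by rw [hker, hc2]
  have : Fact (Nat.Prime 2) := ⟨Nat.prime_two⟩
  have : IsCyclic τ.ker := isCyclic_of_prime_card hcard
  refine CfsgLib.Schur.hasSchurMultiplier_of_witness τ hτ
    (mulEquivOfCyclicCardEq (by rw [hcard]; simp)) fun Γ _ _ σ hσ => ?_
  obtain ⟨hmem, hlen, hgen, hsize, hbound⟩ := gens_check
  simp only [List.all_eq_true, Bool.and_eq_true, Nat.beq_eq] at hmem
  have h := card_ker_le_of_chain (G := Spor.M12) (fun g hg => hg.1) chain lin rows 2 (fun j hj => by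
      have hp := hmem ((chainPerm chain).getD j 0) (by
        rw [List.getD_eq_getElem _ _ (by omega)]; exact List.getElem_mem _)
      obtain ⟨σ', hσ', hr⟩ := exists_mem_M24 hp.1
      have hd : σ' • Spor.squareDodecad = Spor.squareDodecad := by
        rw [squareDodecad_eq]
        conv_rhs => rw [← hp.2, setOfMask_mimg hr]
        rfl
      exact ⟨⟨σ', hσ', hd⟩, hr⟩)
    hlen hgen perms_check rows_check.1 tables_check (rows_check.2.trans (by decide +kernel))
    (card_sporM12.trans hsize.symm) lin_check σ hσ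
  rw [hbound] at h
  simpa using h

end CfsgLib.Sporadic.M12Chain
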