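import Cfsg.Agent.Lib.Sporadic.M11Data
import Cfsg.Agent.Lib.Sporadic.Mathieu

/-!
# M12 fixing three points is transitive on the other dodecad
-/

set_option autoImplicit false

namespace CfsgLib.Sporadic

open Cfsg MulAction
open scoped Pointwise

theorem m12Three_stdD :
    ∃ pts : List GolayPt, pts = [some 0, some 1, some 2] ∧
      stabGens m12ThreeGens stdD (pts.map ix) = true ∧
      ∀ z : GolayPt, z ∉ setOfMask stdD →
        z ∈ setOfMask (bitmap id (walk (stepPoint m12ThreeGens) m12ThreeOps (ix (none : GolayPt)))) :=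
  ⟨_, rfl, by decide +kernel, by decide +kernel⟩

theorem card_stab_dodecad_three {d : Finset GolayPt} (hd : d ∈ dodecads) {p q r : GolayPt}
    (hp : p ∈ d) (hq : q ∈ d) (hr : r ∈ d) (hpq : p ≠ q) (hpr : p ≠ r) (hqr : q ≠ r) :
    Nat.card ↥(stabilizer ↥M24 d ⊓ stabilizer ↥M24 p ⊓ stabilizer ↥M24 q ⊓ stabilizer ↥M24 r) = 72 := by
  have emap : ∀ (k : ℕ), k ≤ 5 → ∀ xs ys : List GolayPt, ∀ (hx : xs.Nodup) (hy : ys.Nodup),
      xs.length = k → ys.length = k → (∀ a ∈ xs, a ∈ d) → (∀ a ∈ ys, a ∈ d) →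
      ∃ g ∈ stabilizer ↥M24 d, xs.map (g • ·) = ys := by
    intro k hk xs ys hx hy lx ly mx my
    obtain ⟨g, hg, e⟩ := exists_map_dodecad hd hk
      ⟨fun i => xs.get (i.cast lx.symm), fun i j h => by simpa using hx.get_inj_iff.1 h⟩
      ⟨fun i => ys.get (i.cast ly.symm), fun i j h => by simpa using hy.get_inj_iff.1 h⟩
      (fun i => mx _ (List.get_mem _ _)) (fun i => my _ (List.get_mem _ _))
    refine ⟨g, hg, List.ext_getElem (by simp [lx, ly]) fun i h1 h2 => ?_⟩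
    simpa using e ⟨i, by omega⟩
  let S : Subgroup ↥M24 := stabilizer ↥M24 d
  have c1 : Nat.card ↥(S ⊓ stabilizer ↥M24 p) = 7920 := card_stab_dodecad_point hd hp
  have c2 : Nat.card ↥(S ⊓ stabilizer ↥M24 p ⊓ stabilizer ↥M24 q) = 720 := by
    have := card_eq_orbit_mul (S ⊓ stabilizer ↥M24 p) q (↑(d.erase p) : Set GolayPt)
      (fun g hg => by
        obtain ⟨h1, h2⟩ := Subgroup.mem_inf.1 hg
        refine Finset.mem_coe.2 (Finset.mem_erase.2 ⟨fun e => hpq.symm ?_, (smul_mem_of_stab h1).2 hq⟩)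
        exact MulAction.injective g (e.trans (mem_stabilizer_iff.1 h2).symm))
      fun y hy => by
        obtain ⟨hy1, hy2⟩ := Finset.mem_erase.1 (Finset.mem_coe.1 hy)
        obtain ⟨g, hg, e⟩ := emap 2 (by norm_num) [p, q] [p, y] (by simp [hpq]) (by simp [Ne.symm hy1])
          rfl rfl (by simp [hp, hq]) (by simp [hp, hy2])
        simp only [List.map_cons, List.map_nil, List.cons.injEq, and_true] at e
        exact ⟨g, Subgroup.mem_inf.2 ⟨hg, e.1⟩, e.2⟩
    rw [c1, Set.ncard_coe_finset, Finset.card_erase_of_mem hp, hd.2] at this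
    omega
  have := card_eq_orbit_mul (S ⊓ stabilizer ↥M24 p ⊓ stabilizer ↥M24 q) r
    (↑((d.erase p).erase q) : Set GolayPt)
    (fun g hg => by
      obtain ⟨h12, h3⟩ := Subgroup.mem_inf.1 hg
      obtain ⟨h1, h2⟩ := Subgroup.mem_inf.1 h12
      refine Finset.mem_coe.2 (Finset.mem_erase.2 ⟨fun e => hqr.symm ?_,
        Finset.mem_erase.2 ⟨fun e => hpr.symm ?_, (smul_mem_of_stab h1).2 hr⟩⟩)
      · exact MulAction.injective g (e.trans (mem_stabilizer_iff.1 h3).symm)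
      · exact MulAction.injective g (e.trans (mem_stabilizer_iff.1 h2).symm))
    fun y hy => by
      obtain ⟨hy1, hy'⟩ := Finset.mem_erase.1 (Finset.mem_coe.1 hy)
      obtain ⟨hy2, hy3⟩ := Finset.mem_erase.1 hy'
      obtain ⟨g, hg, e⟩ := emap 3 (by norm_num) [p, q, r] [p, q, y] (by simp [hpq, hpr, hqr])
        (by simp [hpq, Ne.symm hy1, Ne.symm hy2]) rfl rfl (by simp [hp, hq, hr]) (by simp [hp, hq, hy3])
      simp only [List.map_cons, List.map_nil, List.cons.injEq, and_true] at e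
      exact ⟨g, Subgroup.mem_inf.2 ⟨Subgroup.mem_inf.2 ⟨hg, e.1⟩, e.2.1⟩, e.2.2⟩
  rw [c2, Set.ncard_coe_finset, Finset.card_erase_of_mem (Finset.mem_erase.2 ⟨hpq.symm, hq⟩),
    Finset.card_erase_of_mem hp, hd.2] at this
  simp only [S] at this ⊢
  omega

theorem exists_map_three_compl {d : Finset GolayPt} (hd : d ∈ dodecads) {p q r : GolayPt}
    (hp : p ∈ d) (hq : q ∈ d) (hr : r ∈ d) (hpq : p ≠ q) (hpr : p ≠ r) (hqr : q ≠ r)
    {x y : GolayPt} (hx : x ∉ d) (hy : y ∉ d) :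
    ∃ g ∈ stabilizer ↥M24 d ⊓ stabilizer ↥M24 p ⊓ stabilizer ↥M24 q ⊓ stabilizer ↥M24 r, g • x = y := by
  obtain ⟨pts, rfl, hgens, hcov⟩ := m12Three_stdD
  obtain ⟨t, rfl⟩ := exists_smul_stdD hd
  have inv : ∀ z : GolayPt, z ∈ t • setOfMask stdD → t⁻¹ • z ∈ setOfMask stdD := by
    intro z hz; rwa [← mem_smul_set t, smul_inv_smul]
  obtain ⟨u, hu, eu⟩ := exists_map_dodecad stdD_mem (k := 3) (by norm_num)
    ⟨![some 0, some 1, some 2], by decide +kernel⟩
    ⟨(fun a => t⁻¹ • a) ∘ ![p, q, r], (MulAction.injective _).comp fun i j h => by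
      fin_cases i <;> fin_cases j <;> first | rfl | (exfalso; revert h; simp [hpq, hpr, hqr, hpq.symm, hpr.symm, hqr.symm])⟩
    (by decide +kernel)
    (fun i => by fin_cases i <;> [exact inv p hp; exact inv q hq; exact inv r hr])
  have ep : u • (some 0 : GolayPt) = t⁻¹ • p := eu 0
  have eq' : u • (some 1 : GolayPt) = t⁻¹ • q := eu 1
  have er : u • (some 2 : GolayPt) = t⁻¹ • r := eu 2
  have hD : (t * u) • setOfMask stdD = t • setOfMask stdD := by
    rw [mul_smul, mem_stabilizer_iff.1 hu]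
  let H : Subgroup ↥M24 := stabilizer ↥M24 (setOfMask stdD) ⊓ stabilizer ↥M24 (some 0 : GolayPt) ⊓
    stabilizer ↥M24 (some 1 : GolayPt) ⊓ stabilizer ↥M24 (some 2 : GolayPt)
  have hH : GensIn H m12ThreeGens := fun a ha => by
    obtain ⟨g, h1, h2, h3⟩ := stabGens_in hgens a ha
    exact ⟨g, Subgroup.mem_inf.2 ⟨Subgroup.mem_inf.2 ⟨Subgroup.mem_inf.2 ⟨h1, h3 _ (by simp)⟩,
      h3 _ (by simp)⟩, h3 _ (by simp)⟩, h2⟩
  have move : ∀ z : GolayPt, z ∉ t • setOfMask stdD → ∃ g ∈ H, (t * u) • g • (none : GolayPt) = z := by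
    intro z hz
    have hz' : (t * u)⁻¹ • z ∉ setOfMask stdD := by
      rwa [← mem_smul_set (t * u), smul_inv_smul, hD]
    obtain ⟨g, hg, e⟩ := exists_smul_point hH rfl (hcov _ hz')
    exact ⟨g, hg, by rw [e, smul_inv_smul]⟩
  obtain ⟨g, hg, rfl⟩ := move x hx
  obtain ⟨h, hh, rfl⟩ := move y hy
  obtain ⟨⟨⟨h1, h2⟩, h3⟩, h4⟩ := mul_mem hh (inv_mem hg)
  refine ⟨(t * u) * (h * g⁻¹) * (t * u)⁻¹, ⟨⟨⟨?_, ?_⟩, ?_⟩, ?_⟩, by simp [mul_smul]⟩
  · rw [← hD]; exact (stab_conj _).2 h1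
  · rw [show p = (t * u) • some 0 by rw [mul_smul, ep, smul_inv_smul]]; exact (stab_conj _).2 h2
  · rw [show q = (t * u) • some 1 by rw [mul_smul, eq', smul_inv_smul]]; exact (stab_conj _).2 h3
  · rw [show r = (t * u) • some 2 by rw [mul_smul, er, smul_inv_smul]]; exact (stab_conj _).2 h4

end CfsgLib.Sporadic
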