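import Cfsg.Agent.Lib.Sporadic.ChainCertificate

/-!
# A chain of coset tables for the Mathieu group M22
-/

set_option autoImplicit false
set_option maxRecDepth 100000
set_option maxHeartbeats 0
set_option linter.unusedSimpArgs false
set_option Elab.async false

namespace CfsgLib.Sporadic.M22Chain

open CfsgLib.Schur.Cert

/-- data -/
def next0 : Trie (ℕ) := .node (.node (.node (.node (.node (.node (.leaf 1) (.leaf 13)) (.leaf 12)) (.node (.node (.leaf 2) (.leaf 19)) (.leaf 8))) (.node (.node (.node (.leaf 4) (.leaf 18)) (.leaf 7)) (.node (.leaf 3) (.leaf 14)))) (.node (.node (.node (.node (.leaf 0) (.leaf 15)) (.leaf 9)) (.node (.node (.leaf 5) (.leaf 21)) (.leaf 16))) (.node (.node (.node (.leaf 6) (.leaf 20)) (.leaf 11)) (.node (.leaf 10) (.leaf 17))))) (.node (.node (.node (.node (.node (.leaf 2) (.leaf 16)) (.leaf 0)) (.node (.node (.leaf 4) (.leaf 21)) (.leaf 15))) (.node (.node (.node (.leaf 5) (.leaf 19)) (.leaf 14)) (.node (.leaf 9) (.leaf 10)))) (.node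 (.node (.node (.node (.leaf 3) (.leaf 6)) (.leaf 13)) (.node (.node (.leaf 8) (.leaf 20)) (.leaf 17))) (.node (.node (.node (.leaf 7) (.leaf 12)) (.leaf 1)) (.node (.leaf 11) (.leaf 18)))))

/-- data -/
def prev0 : Trie (ℕ) := .node (.node (.node (.node (.node (.node (.leaf 1) (.leaf 13)) (.leaf 12)) (.node (.node (.leaf 2) (.leaf 19)) (.leaf 8))) (.node (.node (.node (.leaf 4) (.leaf 18)) (.leaf 7)) (.node (.leaf 3) (.leaf 14)))) (.node (.node (.node (.node (.leaf 0) (.leaf 15)) (.leaf 9)) (.node (.node (.leaf 5) (.leaf 21)) (.leaf 16))) (.node (.node (.node (.leaf 6) (.leaf 20)) (.leaf 11)) (.node (.leaf 10) (.leaf 17))))) (.node (.node (.node (.node (.node (.leaf 8) (.leaf 16)) (.leaf 5)) (.node (.node (.leaf 4) (.leaf 21)) (.leaf 19))) (.node (.node (.node (.leaf 0) (.leaf 15)) (.leaf 14)) (.node (.leaf 17) (.leaf 10)))) (.node (.node (.node (.node (.leaf 11) (.leaf 13)) (.leaf 6)) (.node (.node (.leaf 2) (.leaf 20)) (.leaf 9))) (.node (.node (.node (.leaf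 1) (.leaf 18)) (.leaf 7)) (.node (.leaf 3) (.leaf 12)))))

/-- data -/
def lab0 : Trie (Word) := .node (.node (.node (.node (.node (.node (.leaf []) (.leaf [])) (.leaf [])) (.node (.node (.leaf []) (.leaf [])) (.leaf []))) (.node (.node (.node (.leaf []) (.leaf [(0, true), (0, true)])) (.leaf [])) (.node (.leaf []) (.leaf [(0, true), (1, true), (0, true), (1, false), (0, true), (1, true), (0, true), (1, true), (0, true), (1, false), (0, false), (1, true), (0, true)])))) (.node (.node (.node (.node (.leaf []) (.leaf [(1, true)])) (.leaf [(0, true), (1, true), (0, false), (1, false), (0, true), (1, false), (0, true), (0, true), (1, true), (0, true), (0, true), (1, false), (0, false), (1, true)])) (.node (.node (.leaf [(0, true), (1, true), (0, true), (0, true), (1, false), (0, false)]) (.leaf [(0, true), (0, true), (1, true), (0, true), (0, true), (1, false), (0, true), (0, true), (1, true), (0, true), (0, true), (1, true)])) (.leaf []))) (.node (.node (.node (.leaf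 []) (.leaf [])) (.leaf [(0, true), (1, true), (0, false), (1, false), (0, false), (1, false), (0, false), (1, true), (0, false), (1, false), (0, true), (0, true), (1, false)])) (.node (.leaf []) (.leaf [(1, false)]))))) (.node (.node (.node (.node (.node (.leaf []) (.leaf [(0, true), (1, true), (0, false), (1, true), (0, true), (1, false), (0, true), (1, false), (0, false), (1, false), (0, false), (1, true)])) (.leaf [])) (.node (.node (.leaf [(0, true)]) (.leaf [])) (.leaf []))) (.node (.node (.node (.leaf []) (.leaf [])) (.leaf [])) (.node (.leaf []) (.leaf [(0, true), (1, true), (0, true), (0, true), (1, false), (0, false)])))) (.node (.node (.node (.node (.leaf []) (.leaf [])) (.leaf [])) (.node (.node (.leaf []) (.leaf [(0, false), (1, true), (0, true), (1, true), (0, true), (1, false), (0, true), (1, false), (0, false), (1, false), (0, true), (1, false), (0, true), (1, true)])) (.leaf []))) (.node (.node (.node (.leaf []) (.leaf [])) (.leaf [])) (.node (.leaf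 []) (.leaf [])))))

/-- data -/
def val0 : Trie (Vec) := .node (.node (.node (.node (.node (.node (.leaf []) (.leaf [0, 0, 0, 0, 0, 0, 0, 0, 0, 0, 0, 0, 0, 0, 0, 0, 0, 1])) (.leaf [])) (.node (.node (.leaf [0, 0, 0, 0, 0, 0, 0, 0, 0, 0, 0, 0, 0, 0, 0, 0, 0, 1]) (.leaf [0, 0, 0, 0, 0, 0, 0, 0, 0, 0, 0, 0, 0, 0, 0, 0, 0, 1])) (.leaf [0, 0, 0, 0, 0, 0, 0, 0, 0, 0, 0, 0, 0, 0, 0, 0, 0, 1]))) (.node (.node (.node (.leaf []) (.leaf [0, 0, 0, 0, 0, 0, 0, 0, 0, 0, 0, 0, 0, 0, 0, 0, 0, 0, 0, 1])) (.leaf [0, 0, 0, 0, 0, 0, 0, 0, 0, 0, 0, 0, 0, 0, 0, 0, 0, 1])) (.node (.leaf [0, 0, 0, 0, 0, 0, 0, 0, 0, 0, 0, 0, 0, 0, 0, 0, 0, 1]) (.leaf [(-69), 92, (-12), (-36), 51, (-21), (-67), (-4), (-6), 23, (-13), 2, 7, (-1), (-13), 20, (-12), 1, 2, 0, 0, 1])))) (.node (.node (.node (.node (.leaf [0, 0, 0, 0, 0, 0, 0, 0, 0, 0, 0, 0, 0, 0, 0, 0, 0, 1]) (.leaf [])) (.leaf [(-46), 47, (-1), (-26), 49, (-2), (-39), (-5), (-3), 9, 3, 5, 5, (-1), (-7), 4, (-5), 1, 0, 0, (-1), 0, (-2)])) (.node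 (.node (.leaf [0, 0, 0, 0, 0, 0, 0, 0, 0, 0, 0, 0, 0, 0, 0, 0, 0, 0, 0, 0, 1]) (.leaf [0, 0, 0, 0, 0, 0, 0, 0, 0, 0, 0, 0, 0, 0, 0, 0, 0, 0, 0, 0, 0, 1])) (.leaf []))) (.node (.node (.node (.leaf []) (.leaf [])) (.leaf [10, (-43), 6, 28, (-18), 10, 25, 10, 2, (-7), (-5), 1, (-5), (-3), 4, 1, 3, 0, 0, 1, 0, 0, 2])) (.node (.leaf []) (.leaf [0, 0, 0, 0, 0, 0, 0, 0, 0, 0, 0, 0, 0, 0, 0, 0, 0, 1]))))) (.node (.node (.node (.node (.node (.leaf []) (.leaf [0, 0, 0, 0, 0, 0, 0, 0, 0, 0, 0, 0, 0, 0, 0, 0, 0, 0, 0, 0, 0, 0, 1])) (.leaf [0, 0, 0, 0, 0, 0, 0, 0, 0, 0, 0, 0, 0, 0, 0, 0, 0, 0, 1])) (.node (.node (.leaf []) (.leaf [])) (.leaf []))) (.node (.node (.node (.leaf []) (.leaf [])) (.leaf [])) (.node (.leaf []) (.leaf [5, (-6), 0, (-1), 0, 7, 5, 3, 2, (-6), 2, 0, 0, 0, 0, 0, 0, 0, 0, 1, (-1)])))) (.node (.node (.node (.node (.leaf []) (.leaf [0, 0, 0, 0, 0, 0, 0, 0, 0, 0, 0, 0, 0, 0, 0, 0, 0, 0, 1])) (.leaf [])) (.node (.node (.leaf []) (.leaf [(-22), 32, (-13), (-7),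 2, (-7), (-22), 1, (-9), 15, (-17), (-8), 4, 1, 0, 13, (-9), 0, 1, 1, (-1), 0, (-2)])) (.leaf []))) (.node (.node (.node (.leaf []) (.leaf [0, 0, 0, 0, 0, 0, 0, 0, 0, 0, 0, 0, 0, 0, 0, 0, 0, 0, 1])) (.leaf [0, 0, 0, 0, 0, 0, 0, 0, 0, 0, 0, 0, 0, 0, 0, 0, 0, 0, 1])) (.node (.leaf []) (.leaf [])))))

/-- data -/
def rank0 : Trie (ℕ) := .node (.node (.node (.node (.node (.node (.leaf 0) (.leaf 8)) (.leaf 0)) (.node (.node (.leaf 4) (.leaf 10)) (.leaf 7))) (.node (.node (.node (.leaf 0) (.leaf 15)) (.leaf 6)) (.node (.leaf 5) (.leaf 23)))) (.node (.node (.node (.node (.leaf 3) (.leaf 2)) (.leaf 21)) (.node (.node (.leaf 16) (.leaf 18)) (.leaf 0))) (.node (.node (.node (.leaf 0) (.leaf 0)) (.leaf 20)) (.node (.leaf 0) (.leaf 9))))) (.node (.node (.node (.node (.node (.leaf 0) (.leaf 19)) (.leaf 11)) (.node (.node (.leaf 1) (.leaf 0)) (.leaf 0))) (.node (.node (.node (.leaf 0) (.leaf 0)) (.leaf 0)) (.node (.leaf 0) (.leaf 17)))) (.node (.node (.node (.node (.leaf 0)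 (.leaf 13)) (.leaf 0)) (.node (.node (.leaf 0) (.leaf 22)) (.leaf 0))) (.node (.node (.node (.leaf 0) (.leaf 14)) (.leaf 12)) (.node (.leaf 0) (.leaf 0)))))

/-- data -/
def tree0 : Trie (ℕ × ℕ) := .node (.node (.node (.node (.node (.leaf (0, 0)) (.leaf (13, 0))) (.leaf (5, 1))) (.node (.node (.leaf (2, 0)) (.leaf (19, 0))) (.leaf (8, 0)))) (.node (.node (.node (.leaf (0, 1)) (.leaf (15, 1))) (.leaf (7, 0))) (.node (.leaf (3, 0)) (.leaf (10, 1))))) (.node (.node (.node (.node (.leaf (0, 0)) (.leaf (13, 1))) (.leaf (6, 1))) (.node (.node (.leaf (2, 1)) (.leaf (20, 1))) (.leaf (9, 1)))) (.node (.node (.node (.leaf (1, 1)) (.leaf (18, 1))) (.leaf (7, 1))) (.node (.leaf (3, 1)) (.leaf (12, 1)))))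

/-- data -/
def cert0 : Trie (ℕ × ℕ × ℕ) := .node (.node (.node (.node (.node (.leaf (0, 0, 2)) (.leaf (5, 12, 20))) (.leaf (2, 15, 0))) (.node (.node (.leaf (2, 3, 1)) (.leaf (5, 5, 27))) (.leaf (3, 6, 3)))) (.node (.node (.node (.leaf (2, 0, 1)) (.leaf (7, 0, 6))) (.leaf (3, 0, 3))) (.node (.node (.leaf (2, 8, 1)) (.leaf (6, 3, 49))) (.leaf (4, 0, 6))))) (.node (.node (.node (.node (.leaf (1, 0, 6)) (.leaf (6, 0, 9))) (.leaf (2, 19, 1))) (.node (.node (.leaf (2, 7, 1)) (.leaf (5, 9, 17))) (.leaf (3, 12, 3)))) (.node (.node (.node (.leaf (2, 2, 1)) (.leaf (4, 1, 3))) (.leaf (3, 1, 3))) (.node (.leaf (2, 13, 1)) (.leaf (5, 0, 2)))))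

/-- data -/
def pot0 : Trie Vec := .node (.node (.node (.node (.node (.leaf []) (.leaf [3, 3])) (.leaf [0, 3])) (.node (.node (.leaf [1, 1]) (.leaf [2, 6])) (.leaf [1, 3]))) (.node (.node (.node (.leaf [0, 1]) (.leaf [1, 5])) (.leaf [2, 2])) (.node (.leaf [2, 1]) (.leaf [2, 3])))) (.node (.node (.node (.node (.leaf [1]) (.leaf [2, 4])) (.leaf [2, 2])) (.node (.node (.leaf [0, 2]) (.leaf [2, 7])) (.leaf [2, 3]))) (.node (.node (.node (.leaf [1, 1]) (.leaf [1, 6])) (.leaf [1, 3])) (.node (.leaf [1, 2]) (.leaf [1, 4]))))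

/-- level 0 -/
def table0 : Table where
  size := 22
  ngen := 2
  next g x := next0.get (2 * g + x)
  prev g x := prev0.get (2 * g + x)
  lab g x := lab0.get (2 * g + x)
  val g x := val0.get (2 * g + x)
  rank g x := rank0.get (2 * g + x)
  tree g := tree0.get g
  cert j := cert0.get j
  nded := 23
  rels := [⟨[(1, true), (0, true), (1, true), (0, false), (1, false)], [(0, true)], []⟩,
    ⟨[(0, true), (1, true), (0, true), (1, true), (1, true), (1, true), (0, true), (1, false), (0, false), (1, false), (1, false), (1, false)], [(1, true)], []⟩,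
    ⟨[(0, true), (0, true)], [], [0, 0, 0, 0, 0, 0, 0, 0, 0, 0, 0, 0, 0, 0, 0, 0, 0, 1]⟩,
    ⟨[(1, true), (1, true), (1, true), (1, true)], [], [0, 0, 0, 0, 0, 0, 0, 0, 0, 0, 0, 0, 0, 0, 0, 0, 0, 0, 1]⟩,
    ⟨[(1, true), (1, true), (1, true), (0, true), (1, true), (1, true), (0, true), (1, false), (1, false), (0, false), (1, false), (1, false), (0, true), (1, false), (1, false), (0, false), (1, false)], [], [0, 0, 0, 0, 0, 0, 0, 0, 0, 0, 0, 0, 0, 0, 0, 0, 0, 0, 0, 1]⟩,
    ⟨[(1, true), (1, true), (0, true), (1, false), (0, true), (1, true), (0, false), (1, false), (0, true), (1, true), (0, true), (1, true), (1, true), (1, true), (0, true), (1, false), (0, false), (1, false), (1, false), (0, true), (1, false), (1, false), (0, false), (1, true), (1, true), (0, true), (1, true), (0, false), (1, false), (1, false), (1, false), (0, false), (1, false), (0, false), (1, true), (0, true), (1, false), (0, false), (1, false)], [], [0, 0, 0, 0, 0, 0, 0, 0, 0, 0, 0, 0, 0,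 0, 0, 0, 0, 0, 0, 0, 1]⟩,
    ⟨[(1, true), (1, true), (1, true), (0, true), (1, true), (1, true), (1, true), (0, true), (1, true), (0, true), (1, false), (0, false), (1, false), (1, false), (0, false), (1, false), (1, false), (1, false), (0, false), (1, false), (0, false), (1, true), (0, true), (1, false), (1, false), (0, false), (1, true), (1, true), (0, true), (1, true), (0, false), (1, false), (1, false), (1, false), (0, false), (1, false), (0, false), (1, true), (0, true), (1, false), (1, false), (0, false), (1, false), (0, true), (1, true), (0, true), (1, true), (1, true), (1, true), (0, true), (1, false), (0, false), (1, false), (1, false), (0, true), (1, false), (1, false), (0, false), (1, true), (1, true), (0, true), (1, true), (0, false), (1, false), (1, false), (1, false), (0, false), (1, false), (0, false), (1, true), (0, true), (1, false), (1, false), (0, false), (1, false)], [], [0, 0, 0, 0, 0, 0, 0, 0, 0, 0, 0, 0, 0, 0, 0, 0, 0, 0, 0, 0, 0, 1]⟩,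
    ⟨[(0, true), (1, true), (0, true), (1, true), (1, true), (0, true), (1, true), (0, false), (1, false), (1, false), (0, false), (1, false), (0, false), (1, true), (1, true), (1, true), (0, true), (1, true), (0, false), (1, false), (1, false), (1, false), (0, false), (1, false), (0, false), (1, true), (0, true), (1, true), (0, false), (1, false), (0, true), (1, true), (0, true), (1, true), (1, true), (1, true), (0, true), (1, false), (0, false), (1, false), (1, false), (0, true), (1, true), (0, false), (1, false), (0, true), (1, true), (0, true), (1, true), (1, true), (1, true), (0, true), (1, false), (0, false), (1, false), (1, false), (0, true), (1, false), (0, false), (1, false), (0, true), (1, true), (0, true), (1, true), (1, true), (1, true), (0, true), (1, false), (0, false), (1, false), (1, false), (0, true), (1, false), (0, false), (1, true), (1, true), (0, true), (1, true), (0, false), (1, false), (1, false), (1, false), (0, false), (1, false), (0,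 false), (1, true), (0, true), (1, true), (0, false), (1, true), (1, true), (0, true), (1, true), (0, false), (1, false), (1, false), (1, false), (0, false), (1, false), (0, false), (1, true), (0, true), (1, false), (0, false), (1, false)], [], [0, 0, 0, 0, 0, 0, 0, 0, 0, 0, 0, 0, 0, 0, 0, 0, 0, 0, 0, 0, 0, 0, 1]⟩]
  pot g := pot0.get g
  innerSize := 20160
  innerGen := 2

/-- level 0 with its checks -/
def level0 : ChainLevel where
  table := table0
  gexp := [[1], [0, 1]]
  perm := [957271565643156653568879347899142848, 977661207569263211449270873055707488]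
  pinv := [957271565643156653568879347899142848, 980264249545014233882424207601778976]
  defs := [[(1, true), (0, true), (1, true), (0, false), (1, false)], [(0, true), (1, true), (0, true), (1, true), (1, true), (1, true), (0, true), (1, false), (0, false), (1, false), (1, false), (1, false)]]
  eqs := [(2, 5, [0, 0, 0, 0, 0, 0, 0, 0, 0, 0, 0, 0, 1, 0, 0, 0, 0, (-1), 0, 0, 2]),
    (4, 4, [0, 0, 0, 0, 0, 0, 0, 0, 0, 0, 0, 0, 0, 0, 0, 0, 0, 1, (-1), (-2)]),
    (5, 15, [11, (-22), (-14), 22, (-28), 13, 10, 16, 2, (-17), (-17), (-14), (-1), 3, 8, 6, (-2), 0, 0, 0, (-1), 1]),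
    (6, 1, [15, (-12), (-19), 40, (-68), (-14), 11, 15, (-1), 3, (-42), (-11), (-4), 3, (-2), 26, (-7), (-3), (-1), 0, 3, (-1), 3]),
    (6, 14, [(-10), 70, 0, (-18), (-12), (-35), (-25), 15, (-2), (-7), (-22), (-1), 2, 3, (-7), 23, (-11), 0, (-3), 0, (-2), (-2)]),
    (6, 16, [55, 9, 2, (-17), (-48), (-25), 32, (-19), (-14), 38, (-9), 4, 1, 0, (-2), 4, (-2), (-1), (-4), (-1), 1, (-2)]),
    (7, 18, [(-55), (-25), (-4), (-6), 60, 55, (-15), 19, (-10), (-1), 4, 12, (-3), (-14), 12, (-3), 3, (-2), 0, 2, 0, 0, (-5)])]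
  pts := [1]

/-- data -/
def next1 : Trie (ℕ) := .node (.node (.node (.node (.node (.node (.leaf 1) (.leaf 15)) (.leaf 10)) (.node (.node (.leaf 6) (.leaf 20)) (.leaf 16))) (.node (.node (.node (.leaf 3) (.leaf 12)) (.leaf 13)) (.node (.leaf 9) (.leaf 19)))) (.node (.node (.node (.node (.leaf 0) (.leaf 8)) (.leaf 11)) (.node (.leaf 7) (.leaf 17))) (.node (.node (.node (.leaf 5) (.leaf 14)) (.leaf 4)) (.node (.leaf 2) (.leaf 18))))) (.node (.node (.node (.node (.node (.leaf 0) (.leaf 9)) (.leaf 6)) (.node (.node (.leaf 1) (.leaf 13)) (.leaf 16))) (.node (.node (.node (.leaf 4) (.leaf 20)) (.leaf 14)) (.node (.leaf 5) (.leaf 7)))) (.node (.node (.node (.node (.leaf 2) (.leaf 17)) (.leaf 12)) (.node (.leaf 8) (.leaf 18))) (.node (.node (.node (.leaf 3) (.leaf 11)) (.leaf 15)) (.node (.leaf 10) (.leaf 19)))))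

/-- data -/
def prev1 : Trie (ℕ) := .node (.node (.node (.node (.node (.node (.leaf 1) (.leaf 12)) (.leaf 17)) (.node (.node (.leaf 11) (.leaf 20)) (.leaf 18))) (.node (.node (.node (.leaf 7) (.leaf 15)) (.leaf 8)) (.node (.leaf 4) (.leaf 19)))) (.node (.node (.node (.node (.leaf 0) (.leaf 13)) (.leaf 6)) (.node (.leaf 3) (.leaf 10))) (.node (.node (.node (.leaf 2) (.leaf 14)) (.leaf 9)) (.node (.leaf 5) (.leaf 16))))) (.node (.node (.node (.node (.node (.leaf 0) (.leaf 12)) (.leaf 5)) (.node (.node (.leaf 2) (.leaf 18)) (.leaf 9))) (.node (.node (.node (.leaf 1) (.leaf 13)) (.leaf 7)) (.node (.leaf 8) (.leaf 10)))) (.node (.node (.node (.node (.leaf 4) (.leaf 17)) (.leaf 16)) (.node (.leaf 6) (.leaf 20))) (.node (.node (.node (.leaf 3) (.leaf 15)) (.leaf 19)) (.node (.leaf 14) (.leaf 11)))))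

/-- data -/
def lab1 : Trie (Word) := .node (.node (.node (.node (.node (.node (.leaf []) (.leaf [(0, false), (1, false), (0, false), (1, true), (0, false), (1, false), (0, false), (1, false), (0, true)])) (.leaf [(1, false), (0, false), (1, false), (0, false)])) (.node (.node (.leaf []) (.leaf [(1, true), (0, false), (1, true), (0, false), (1, false), (0, false), (1, true), (0, true), (1, true), (0, false)])) (.leaf []))) (.node (.node (.node (.leaf []) (.leaf [(1, false), (0, false), (1, false), (0, false), (1, true), (0, true), (1, true), (0, false), (1, false)])) (.leaf [])) (.node (.leaf []) (.leaf [])))) (.node (.node (.node (.node (.leaf [(0, true), (1, true), (0, false), (1, false), (0, false), (1, false), (0, true), (1, true), (0, true)]) (.leaf [(0, true), (1, true), (0, true), (1, true)])) (.leaf [])) (.node (.leaf []) (.leaf []))) (.node (.node (.node (.leaf []) (.leaf [(1, true), (0, true), (1, false), (0, false), (1, false), (0, false), (1, true),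 (0, true), (1, true), (0, false), (1, true)])) (.leaf [])) (.node (.leaf []) (.leaf [(0, true), (1, true), (0, true), (1, true), (0, false), (1, false), (0, false), (1, true), (0, false), (1, false)]))))) (.node (.node (.node (.node (.node (.leaf [(0, true)]) (.leaf [(0, true), (1, false), (0, true), (1, false), (0, false)])) (.leaf [(1, false), (0, true), (1, false), (0, false), (1, false), (0, true), (1, true)])) (.node (.node (.leaf []) (.leaf [])) (.leaf [(0, true), (1, true), (0, false), (1, true), (0, false)]))) (.node (.node (.node (.leaf []) (.leaf [])) (.leaf [])) (.node (.leaf [(1, false), (0, false), (1, true), (0, true), (1, true), (0, false), (1, true)]) (.leaf [])))) (.node (.node (.node (.node (.leaf []) (.leaf [(0, true), (1, false), (0, false), (1, false), (0, false), (1, true), (0, true), (1, true), (0, false), (1, true)])) (.leaf [])) (.node (.leaf []) (.leaf []))) (.node (.node (.node (.leaf [(1, true)]) (.leaf [(1, true), (0, false), (1, false),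 (0, false), (1, false), (0, true), (1, true), (0, true), (1, false), (0, true)])) (.leaf [])) (.node (.leaf []) (.leaf [(0, false), (1, true), (0, false), (1, false), (0, true), (1, false), (0, false), (1, false), (0, false), (1, true)])))))

/-- data -/
def val1 : Trie (Vec) := .node (.node (.node (.node (.node (.node (.leaf []) (.leaf [6, (-3), (-3), 2, (-7), 0, 1, 2, 2, (-3), 3, 2, (-2), (-1), 1, (-1), 2])) (.leaf [0, 0, 0, 0, 0, 0, 0, 0, 0, 0, 0, 0, 0, 1])) (.node (.node (.leaf []) (.leaf [11, (-16), (-1), 14, (-18), 1, 11, 5, 1, (-6), (-5), (-4), (-1), 2, 1, 2])) (.leaf []))) (.node (.node (.node (.leaf []) (.leaf [(-5), (-9), 3, 7, 3, 4, 3, 4, 1, (-4), (-3), (-1), 1, 0, 1, (-1)])) (.leaf [])) (.node (.leaf []) (.leaf [])))) (.node (.node (.node (.node (.leaf [0, 0, 0, 0, 0, 0, 0, 0, 0, 0, 0, 0, 0, 0, 0, 1]) (.leaf [0, 0, 0, 0, 0, 0, 0, 0, 0, 0, 0, 0, 1, (-1)])) (.leaf [])) (.node (.leaf []) (.leaf []))) (.node (.node (.node (.leaf []) (.leaf [(-10), (-12),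 6, 6, 11, 8, 3, 6, 0, (-4), 0, 3, (-1), (-3), 1, 0, 1])) (.leaf [0, 0, 0, 0, 0, 0, 0, 0, 0, 0, 0, 0, 1])) (.node (.leaf [0, 0, 0, 0, 0, 0, 0, 0, 0, 0, 0, 0, 1]) (.leaf [(-5), 17, (-4), (-12), 8, (-1), (-10), (-2), (-1), 3, 2, (-1), 2, 1, (-2), 2, (-2)]))))) (.node (.node (.node (.node (.node (.leaf []) (.leaf [0, 0, 0, 0, 0, 0, 0, 0, 0, 0, 0, 0, 0, 0, 1])) (.leaf [(-3), 3, 0, 1, 0, (-2), (-2), 0, 0, 0, (-3), (-1), 1, 1, 0, 1, (-1)])) (.node (.node (.leaf [0, 0, 0, 0, 0, 0, 0, 0, 0, 0, 0, 1]) (.leaf [0, 0, 0, 0, 0, 0, 0, 0, 0, 0, 0, 1])) (.leaf [0, 0, 0, 0, 0, 0, 0, 0, 0, 0, 0, 1, 0, 0, (-1)]))) (.node (.node (.node (.leaf []) (.leaf [])) (.leaf [])) (.node (.leaf [3, (-3), 0, (-1), 0, 2, 2, 0, 0, 0, 3, 2, (-1), (-1), 0, (-1), 1]) (.leaf [0, 0, 0, 0, 0, 0, 0, 0, 0, 0, 0, 1])))) (.node (.node (.node (.node (.leaf []) (.leaf [(-19), 1, 0, (-6), 26, 12, (-10), (-1), 0, (-1), 7, 4, 1, (-1), (-1), (-4), 1])) (.leaf [])) (.node (.leaf []) (.leaf []))) (.node (.node (.node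 (.leaf []) (.leaf [(-5), (-13), 5, 4, 9, 8, 4, 3, 2, (-4), 3, 4, (-1), (-3), 1, (-3), 2])) (.leaf [])) (.node (.leaf []) (.leaf [(-1), 15, (-2), (-10), 6, (-4), (-9), (-4), 0, 1, 5, (-4), 2, 3, 0, (-2), (-1)])))))

/-- data -/
def rank1 : Trie (ℕ) := .node (.node (.node (.node (.node (.node (.leaf 0) (.leaf 16)) (.leaf 8)) (.node (.node (.leaf 0) (.leaf 20)) (.leaf 0))) (.node (.node (.node (.leaf 0) (.leaf 15)) (.leaf 0)) (.node (.leaf 0) (.leaf 0)))) (.node (.node (.node (.node (.leaf 12) (.leaf 9)) (.leaf 0)) (.node (.leaf 0) (.leaf 0))) (.node (.node (.node (.leaf 0) (.leaf 19)) (.leaf 7)) (.node (.leaf 6) (.leaf 17))))) (.node (.node (.node (.node (.node (.leaf 1) (.leaf 10)) (.leaf 13)) (.node (.node (.leaf 3) (.leaf 5)) (.leaf 11))) (.node (.node (.node (.leaf 0) (.leaf 0)) (.leaf 0)) (.node (.leaf 14) (.leaf 4)))) (.node (.node (.node (.node (.leaf 0) (.leaf 22)) (.leaf 0)) (.node (.leaf 0) (.leaf 0))) (.node (.node (.node (.leaf 2) (.leaf 18)) (.leaf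 0)) (.node (.leaf 0) (.leaf 21)))))

/-- data -/
def tree1 : Trie (ℕ × ℕ) := .node (.node (.node (.node (.node (.leaf (0, 0)) (.leaf (12, 0))) (.leaf (5, 1))) (.node (.node (.leaf (2, 1)) (.leaf (18, 1))) (.leaf (9, 1)))) (.node (.node (.node (.leaf (1, 1)) (.leaf (13, 1))) (.leaf (7, 1))) (.node (.leaf (4, 0)) (.leaf (10, 1))))) (.node (.node (.node (.node (.leaf (0, 0)) (.leaf (13, 0))) (.leaf (6, 0))) (.node (.leaf (3, 0)) (.leaf (10, 0)))) (.node (.node (.node (.leaf (2, 0)) (.leaf (14, 0))) (.leaf (9, 0))) (.node (.leaf (5, 0)) (.leaf (11, 1)))))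

/-- data -/
def cert1 : Trie (ℕ × ℕ × ℕ) := .node (.node (.node (.node (.node (.leaf (0, 0, 0)) (.leaf (3, 12, 2))) (.leaf (3, 8, 3))) (.node (.node (.leaf (2, 13, 2)) (.leaf (4, 19, 14))) (.leaf (7, 0, 3)))) (.node (.node (.node (.leaf (2, 1, 2)) (.leaf (4, 11, 19))) (.leaf (2, 9, 1))) (.node (.leaf (3, 4, 3)) (.leaf (6, 2, 7))))) (.node (.node (.node (.node (.leaf (1, 0, 3)) (.leaf (4, 3, 10))) (.leaf (5, 0, 7))) (.node (.node (.leaf (3, 2, 3)) (.leaf (4, 20, 24))) (.leaf (2, 5, 2)))) (.node (.node (.node (.leaf (2, 7, 2)) (.leaf (4, 12, 15))) (.leaf (6, 0, 1))) (.node (.leaf (4, 0, 5)) (.leaf (7, 2, 6)))))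

/-- data -/
def pot1 : Trie Vec := .node (.node (.node (.node (.node (.leaf []) (.leaf [6, 4])) (.leaf [4, 3])) (.node (.node (.leaf [4, 1]) (.leaf [8, 5])) (.leaf [6, 3]))) (.node (.node (.node (.leaf [2, 1]) (.leaf [6, 5])) (.leaf [4, 4])) (.node (.leaf [4, 2]) (.leaf [6, 4])))) (.node (.node (.node (.node (.leaf [0, 1]) (.leaf [4, 6])) (.leaf [4, 3])) (.node (.leaf [2, 3]) (.leaf [4, 5]))) (.node (.node (.node (.leaf [2, 2]) (.leaf [6, 5])) (.leaf [4, 4])) (.node (.leaf [2, 4]) (.leaf [6, 4]))))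

/-- level 1 -/
def table1 : Table where
  size := 21
  ngen := 2
  next g x := next1.get (2 * g + x)
  prev g x := prev1.get (2 * g + x)
  lab g x := lab1.get (2 * g + x)
  val g x := val1.get (2 * g + x)
  rank g x := rank1.get (2 * g + x)
  tree g := tree1.get g
  cert j := cert1.get j
  nded := 22
  rels := [⟨[(1, true)], [(0, true)], []⟩,
    ⟨[(0, true), (1, true), (0, true), (1, true), (0, false), (1, false), (0, false)], [(1, true)], []⟩,
    ⟨[(1, true), (1, true), (1, true)], [], [0, 0, 0, 0, 0, 0, 0, 0, 0, 0, 0, 1]⟩,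
    ⟨[(0, true), (0, true), (0, true), (0, true)], [], [0, 0, 0, 0, 0, 0, 0, 0, 0, 0, 0, 0, 1]⟩,
    ⟨[(0, true), (1, true), (0, true), (0, true), (1, true), (0, true), (1, false), (0, false), (0, false), (0, false), (1, false), (0, false), (1, true), (0, true), (1, true), (0, true), (1, true), (0, false), (1, false), (0, false), (1, true), (0, true), (1, true), (0, true), (1, true), (0, false), (1, false), (0, false)], [], [0, 0, 0, 0, 0, 0, 0, 0, 0, 0, 0, 0, 0, 1]⟩,
    ⟨[(0, true), (1, true), (1, true), (0, true), (0, true), (1, true), (0, true), (1, true), (0, false), (0, false), (1, false), (1, false), (0, false), (1, true), (0, true), (1, true), (0, true), (1, true), (0, false), (1, false), (0, false), (1, false), (0, true), (1, true), (0, true), (1, true), (0, false), (1, false), (0, false), (1, false)], [], [0, 0, 0, 0, 0, 0, 0, 0, 0, 0, 0, 0, 0, 0, 1]⟩,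
    ⟨[(0, true), (0, true), (1, false), (0, true), (1, true), (0, true), (1, false), (0, false), (1, false), (0, false), (1, false), (0, true), (1, true), (0, true), (1, true), (0, false), (1, false), (0, false), (1, true), (0, true), (1, true), (0, true), (1, true), (0, false), (1, false), (0, false), (1, true), (0, true), (1, true), (0, true), (1, false), (0, false), (1, false), (0, false), (1, false)], [], [0, 0, 0, 0, 0, 0, 0, 0, 0, 0, 0, 0, 0, 0, 0, 1]⟩,
    ⟨[(0, true), (1, false), (0, true), (1, false), (0, true), (1, false), (0, true), (1, false), (0, true), (1, false)], [], [0, 0, 0, 0, 0, 0, 0, 0, 0, 0, 0, 0, 0, 0, 0, 0, 1]⟩]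
  pot g := pot1.get g
  innerSize := 960
  innerGen := 2

/-- level 1 with its checks -/
def level1 : ChainLevel where
  table := table1
  gexp := [[0, 1], [2, 0]]
  perm := [968663880807741016713066009382833184, 967601124949432676426012475972028448]
  pinv := [959571031746606194622217296989998112, 980659945285429986483690699286415392]
  defs := [[(1, true)], [(0, true), (1, true), (0, true), (1, true), (0, false), (1, false), (0, false)]]
  eqs := [(2, 0, [0, 0, 0, 0, 0, 0, 0, 1, 0, 0, 0, (-1)]),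
    (2, 3, [0, 0, 0, 0, 0, 0, 0, 0, 1, 0, 0, (-1)]),
    (3, 0, [3, 1, 0, 2, (-6), (-6), 1, (-3), (-2), 6, (-1), 0, (-1), 0, 0, 2]),
    (4, 5, [1, (-5), (-6), (-5), 5, 11, 0, (-4), 1, 3, 8, 0, 2, 0, (-2), (-3)]),
    (4, 8, [4, (-1), 4, 9, (-10), (-11), 2, (-2), (-1), 1, (-4), (-2), (-1), 0, 3, (-2), 1]),
    (5, 18, [(-10), 2, 2, 4, 6, (-1), (-5), 3, 1, (-6), (-1), 0, 1, 1, 0, (-2)]),
    (7, 12, [2, 4, (-1), (-3), 0, (-1), (-2), 1, (-3), (-1), 2, (-5), 0, 0, 5, 0, (-1)])]
  pts := [2]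

/-- data -/
def next2 : Trie (ℕ) := .node (.node (.node (.node (.node (.node (.leaf 1) (.leaf 7)) (.leaf 12)) (.node (.leaf 6) (.leaf 5))) (.node (.node (.node (.leaf 2) (.leaf 18)) (.leaf 15)) (.node (.leaf 9) (.leaf 13)))) (.node (.node (.node (.node (.leaf 3) (.leaf 14)) (.leaf 4)) (.node (.leaf 8) (.leaf 17))) (.node (.node (.node (.leaf 0) (.leaf 10)) (.leaf 16)) (.node (.leaf 11) (.leaf 19))))) (.node (.node (.node (.node (.node (.leaf 2) (.leaf 16)) (.leaf 13)) (.node (.leaf 7) (.leaf 17))) (.node (.node (.node (.leaf 5) (.leaf 9)) (.leaf 3)) (.node (.leaf 10) (.leaf 18)))) (.node (.node (.node (.node (.leaf 4) (.leaf 19)) (.leaf 14)) (.node (.leaf 0) (.leaf 11))) (.node (.node (.node (.leaf 6) (.leaf 12)) (.leaf 8)) (.node (.leaf 1) (.leaf 15)))))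

/-- data -/
def prev2 : Trie (ℕ) := .node (.node (.node (.node (.node (.node (.leaf 3) (.leaf 11)) (.leaf 5)) (.node (.leaf 9) (.leaf 8))) (.node (.node (.node (.leaf 2) (.leaf 18)) (.leaf 19)) (.node (.leaf 4) (.leaf 17)))) (.node (.node (.node (.node (.leaf 0) (.leaf 13)) (.leaf 6)) (.node (.leaf 12) (.leaf 14))) (.node (.node (.node (.leaf 1) (.leaf 15)) (.leaf 7)) (.node (.leaf 16) (.leaf 10))))) (.node (.node (.node (.node (.node (.leaf 5) (.leaf 16)) (.leaf 11)) (.node (.leaf 1) (.leaf 19))) (.node (.node (.node (.leaf 0) (.leaf 14)) (.leaf 6)) (.node (.leaf 3) (.leaf 9)))) (.node (.node (.node (.node (.leaf 7) (.leaf 12)) (.leaf 18)) (.node (.leaf 2) (.leaf 8))) (.node (.node (.node (.leaf 10) (.leaf 17)) (.leaf 13)) (.node (.leaf 4) (.leaf 15)))))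

/-- data -/
def lab2 : Trie (Word) := .node (.node (.node (.node (.node (.node (.leaf []) (.leaf [])) (.leaf [])) (.node (.leaf [(1, true)]) (.leaf []))) (.node (.node (.node (.leaf [(0, true)]) (.leaf [(1, false), (0, true)])) (.leaf [])) (.node (.leaf []) (.leaf [(0, true), (1, false), (2, true)])))) (.node (.node (.node (.node (.leaf []) (.leaf [(1, false), (2, false), (0, false)])) (.leaf [(1, false)])) (.node (.leaf []) (.leaf [(2, true)]))) (.node (.node (.node (.leaf []) (.leaf [])) (.leaf [])) (.node (.leaf []) (.leaf []))))) (.node (.node (.node (.node (.node (.leaf []) (.leaf [(1, true), (2, true), (0, true)])) (.leaf [])) (.node (.leaf []) (.leaf []))) (.node (.node (.node (.leaf []) (.leaf [])) (.leaf [])) (.node (.leaf []) (.leaf [])))) (.node (.node (.node (.node (.leaf []) (.leaf [(2, false), (0, false)])) (.leaf [])) (.node (.leaf []) (.leaf [(2, true), (0, true)]))) (.node (.node (.node (.leaf []) (.leaf [(0, true), (2, true)])) (.leaf [(0, false),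 (2, false)])) (.node (.leaf []) (.leaf [(1, false), (2, false), (0, false)])))))

/-- data -/
def val2 : Trie (Vec) := .node (.node (.node (.node (.node (.node (.leaf []) (.leaf [0, 0, 0, 0, 0, 0, 0, 1])) (.leaf [])) (.node (.leaf []) (.leaf [0, 0, 0, 0, 0, 0, 0, 1]))) (.node (.node (.node (.leaf []) (.leaf [0, 0, 0, 0, 0, 0, 0, 0, 0, 0, 1])) (.leaf [])) (.node (.leaf []) (.leaf [(-3), 0, 1, 2, 2, 0, (-1), 3, 1, (-4), (-1)])))) (.node (.node (.node (.node (.leaf []) (.leaf [0, 3, (-1), (-1), 0, 0, (-2), 1, 1, (-2), 1])) (.leaf [0, 0, 0, 0, 0, 0, 0, 1])) (.node (.leaf []) (.leaf []))) (.node (.node (.node (.leaf [0, 0, 0, 0, 0, 0, 0, 1]) (.leaf [0, 0, 0, 0, 0, 0, 0, 1])) (.leaf [])) (.node (.leaf []) (.leaf []))))) (.node (.node (.node (.node (.node (.leaf []) (.leaf [0, 0, 0, 0, 0, 0, 0, 1, 1, (-2)])) (.leaf [])) (.node (.leaf []) (.leaf []))) (.node (.node (.node (.leaf []) (.leaf [0, 0, 0, 0, 0, 0, 0, 0, 1])) (.leaf [0, 0, 0, 0, 0, 0, 0, 0, 1])) (.node (.leaf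 []) (.leaf [])))) (.node (.node (.node (.node (.leaf []) (.leaf [1, 0, 0, 0, (-1), 0, 0, 0, 1, (-1), 1])) (.leaf [])) (.node (.leaf [0, 0, 0, 0, 0, 0, 0, 0, 1]) (.leaf [3, 1, (-1), (-1), (-4), (-3), 1, (-3), (-1), 5]))) (.node (.node (.node (.leaf []) (.leaf [(-5), (-1), 1, 1, 5, 3, (-1), 4, 2, (-5), (-1)])) (.leaf [0, 0, 0, 0, 0, 0, 0, 0, 0, 1])) (.node (.leaf [0, 0, 0, 0, 0, 0, 0, 0, 1]) (.leaf [(-4), 4, 0, (-1), 4, 0, (-4), 1, 1, (-2)])))))

/-- data -/
def rank2 : Trie (ℕ) := .node (.node (.node (.node (.node (.node (.leaf 0) (.leaf 7)) (.leaf 0)) (.node (.leaf 2) (.leaf 6))) (.node (.node (.node (.leaf 1) (.leaf 16)) (.leaf 0)) (.node (.leaf 0) (.leaf 19)))) (.node (.node (.node (.node (.leaf 0) (.leaf 17)) (.leaf 5)) (.node (.leaf 0) (.leaf 3))) (.node (.node (.node (.leaf 4) (.leaf 8)) (.leaf 0)) (.node (.leaf 0) (.leaf 0))))) (.node (.node (.node (.node (.node (.leaf 0) (.leaf 14)) (.leaf 0)) (.node (.leaf 0) (.leaf 0))) (.node (.node (.node (.leaf 0)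 (.leaf 12)) (.leaf 11)) (.node (.leaf 0) (.leaf 0)))) (.node (.node (.node (.node (.leaf 0) (.leaf 20)) (.leaf 0)) (.node (.leaf 9) (.leaf 15))) (.node (.node (.node (.leaf 0) (.leaf 18)) (.leaf 13)) (.node (.leaf 10) (.leaf 21)))))

/-- data -/
def tree2 : Trie (ℕ × ℕ) := .node (.node (.node (.node (.node (.leaf (0, 0)) (.leaf (11, 0))) (.leaf (5, 0))) (.node (.leaf (1, 1)) (.leaf (8, 0)))) (.node (.node (.node (.leaf (0, 1)) (.leaf (14, 1))) (.leaf (6, 1))) (.node (.leaf (3, 1)) (.leaf (9, 1))))) (.node (.node (.node (.node (.leaf (0, 0)) (.leaf (12, 1))) (.leaf (6, 0))) (.node (.leaf (2, 1)) (.leaf (8, 1)))) (.node (.node (.node (.leaf (1, 0)) (.leaf (15, 0))) (.leaf (7, 0))) (.node (.leaf (4, 1)) (.leaf (10, 0)))))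

/-- data -/
def cert2 : Trie (ℕ × ℕ × ℕ) := .node (.node (.node (.node (.node (.leaf (0, 0, 1)) (.leaf (6, 5, 3))) (.leaf (4, 0, 2))) (.node (.node (.leaf (3, 4, 2)) (.leaf (5, 9, 7))) (.leaf (5, 0, 4)))) (.node (.node (.node (.leaf (2, 0, 4)) (.leaf (6, 15, 9))) (.leaf (4, 3, 2))) (.node (.leaf (3, 7, 2)) (.leaf (5, 5, 2))))) (.node (.node (.node (.node (.leaf (1, 0, 2)) (.leaf (6, 8, 15))) (.leaf (4, 1, 2))) (.node (.leaf (3, 5, 2)) (.leaf (5, 4, 10)))) (.node (.node (.node (.leaf (3, 0, 2)) (.leaf (6, 16, 5))) (.leaf (4, 9, 2))) (.node (.leaf (3, 10, 2)) (.leaf (6, 0, 6)))))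

/-- data -/
def pot2 : Trie Vec := .node (.node (.node (.node (.node (.leaf []) (.leaf [10])) (.leaf [6])) (.node (.leaf [4]) (.leaf [8]))) (.node (.node (.node (.leaf [2]) (.leaf [12])) (.leaf [8])) (.node (.leaf [6]) (.leaf [10])))) (.node (.node (.node (.node (.leaf [2]) (.leaf [10])) (.leaf [8])) (.node (.leaf [4]) (.leaf [8]))) (.node (.node (.node (.leaf [4]) (.leaf [12])) (.leaf [8])) (.node (.leaf [6]) (.leaf [10]))))

/-- level 2 -/
def table2 : Table where
  size := 20
  ngen := 2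
  next g x := next2.get (2 * g + x)
  prev g x := prev2.get (2 * g + x)
  lab g x := lab2.get (2 * g + x)
  val g x := val2.get (2 * g + x)
  rank g x := rank2.get (2 * g + x)
  tree g := tree2.get g
  cert j := cert2.get j
  nded := 21
  rels := [⟨[(1, true), (0, true), (1, false)], [(0, true)], []⟩,
    ⟨[(0, true), (1, true), (0, true), (1, false), (0, false), (0, false)], [(1, true)], []⟩,
    ⟨[(1, true), (1, true), (0, true), (1, true), (0, true), (1, false), (0, false), (0, false), (1, false), (1, false)], [(2, true)], []⟩,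
    ⟨[(0, true), (0, true), (0, true)], [], [0, 0, 0, 0, 0, 0, 0, 1]⟩,
    ⟨[(1, true), (1, true), (1, true)], [], [0, 0, 0, 0, 0, 0, 0, 0, 1]⟩,
    ⟨[(0, true), (1, true), (1, true), (0, true), (1, true), (1, true), (0, true), (1, false), (0, false), (0, false), (1, false), (0, true), (1, false)], [], [0, 0, 0, 0, 0, 0, 0, 0, 0, 1]⟩,
    ⟨[(0, true), (0, true), (1, true), (0, true), (1, true), (1, true), (0, true), (1, false), (1, false), (0, false), (1, false), (0, false), (0, false), (1, true), (0, false), (1, false), (0, true), (1, true), (0, true), (1, false), (0, false), (0, false)], [], [0, 0, 0, 0, 0, 0, 0, 0, 0, 0, 1]⟩]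
  pot g := pot2.get g
  innerSize := 48
  innerGen := 3

/-- level 2 with its checks -/
def level2 : ChainLevel where
  table := table2
  gexp := [[2, 0], [2, 0]]
  perm := [967601124949432676426012475972028448, 971255728718065559142170291336546336]
  pinv := [980659945285429986483690699286415392, 974345705122079120476387247824046112]
  defs := [[(1, true), (0, true), (1, false)], [(0, true), (1, true), (0, true), (1, false), (0, false), (0, false)], [(1, true), (1, true), (0, true), (1, true), (0, true), (1, false), (0, false), (0, false), (1, false), (1, false)]]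
  eqs := [(3, 2, [1, 0, 0, 0, 0, 0, 0, (-1)]),
    (4, 16, [1, (-1), 1, 1, 0, 1, 1, 3, 2, (-6)]),
    (5, 14, [2, 1, 0, 0, (-3), (-3), 0, 0, 0, 0, 1]),
    (6, 1, [(-2), (-1), 0, 3, 0, 0, 0, 0, 0, 0, (-3)]),
    (6, 14, [(-4), 1, 1, 0, 4, 0, (-2), 0, 0, 0, (-2)]),
    (6, 18, [0, (-1), 0, 0, 0, 0, 0, 0, 0, 0, (-1)])]
  pts := [3]

/-- data -/
def next3 : Trie (ℕ) := .node (.node (.node (.node (.node (.node (.node (.node (.leaf 1) (.leaf 46)) (.leaf 40)) (.node (.leaf 17) (.leaf 6))) (.node (.node (.leaf 15) (.leaf 45)) (.node (.leaf 35) (.leaf 47)))) (.node (.node (.node (.node (.leaf 9) (.leaf 30)) (.leaf 31)) (.node (.leaf 7) (.leaf 18))) (.node (.node (.leaf 22) (.leaf 32)) (.node (.leaf 15) (.leaf 26))))) (.node (.node (.node (.node (.node (.leaf 5) (.leaf 21)) (.leaf 41)) (.node (.leaf 14) (.leaf 22))) (.node (.node (.leaf 19) (.leaf 45)) (.node (.leaf 37) (.leaf 24)))) (.node (.node (.node (.node (.leaf 0) (.leaf 35)) (.leaf 43)) (.node (.leaf 32) (.leaf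 41))) (.node (.node (.leaf 12) (.leaf 10)) (.node (.leaf 2) (.leaf 45)))))) (.node (.node (.node (.node (.node (.node (.leaf 3) (.leaf 23)) (.leaf 5)) (.node (.leaf 27) (.leaf 4))) (.node (.node (.leaf 17) (.leaf 3)) (.node (.leaf 36) (.leaf 25)))) (.node (.node (.node (.node (.leaf 11) (.leaf 36)) (.leaf 39)) (.node (.leaf 30) (.leaf 21))) (.node (.node (.leaf 23) (.leaf 12)) (.node (.leaf 39) (.leaf 13))))) (.node (.node (.node (.node (.node (.leaf 7) (.leaf 20)) (.leaf 25)) (.node (.leaf 0) (.leaf 28))) (.node (.node (.leaf 4) (.leaf 27)) (.node (.leaf 29) (.leaf 16)))) (.node (.node (.node (.node (.leaf 14) (.leaf 17)) (.leaf 27)) (.node (.leaf 1) (.leaf 5))) (.node (.node (.leaf 19) (.leaf 46)) (.node (.leaf 37) (.leaf 47))))))) (.node (.node (.node (.node (.node (.node (.node (.leaf 2) (.leaf 18)) (.leaf 31)) (.node (.leaf 16) (.leaf 42))) (.node (.node (.leaf 16) (.leaf 40)) (.node (.leaf 19) (.leaf 44)))) (.node (.node (.node (.node (.leaf 10) (.leaf 33))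 (.leaf 34)) (.node (.leaf 29) (.leaf 11))) (.node (.node (.leaf 0) (.leaf 40)) (.node (.leaf 3) (.leaf 35))))) (.node (.node (.node (.node (.node (.leaf 6) (.leaf 10)) (.leaf 42)) (.node (.leaf 28) (.leaf 26))) (.node (.node (.leaf 20) (.leaf 9)) (.node (.leaf 30) (.leaf 44)))) (.node (.node (.node (.node (.leaf 13) (.leaf 23)) (.leaf 2)) (.node (.leaf 33) (.leaf 24))) (.node (.node (.leaf 25) (.leaf 9)) (.node (.leaf 33) (.leaf 47)))))) (.node (.node (.node (.node (.node (.node (.leaf 4) (.leaf 28)) (.leaf 20)) (.node (.leaf 8) (.leaf 13))) (.node (.node (.leaf 18) (.leaf 43)) (.node (.leaf 32) (.leaf 6)))) (.node (.node (.node (.node (.leaf 12) (.leaf 14)) (.leaf 37)) (.node (.leaf 31) (.leaf 42))) (.node (.node (.leaf 24) (.leaf 41)) (.node (.leaf 1) (.leaf 46))))) (.node (.node (.node (.node (.node (.leaf 8) (.leaf 34)) (.leaf 11)) (.node (.leaf 15) (.leaf 36))) (.node (.node (.leaf 21) (.leaf 43)) (.node (.leaf 38) (.leaf 38)))) (.node (.node (.node (.node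 (.leaf 8) (.leaf 22)) (.leaf 44)) (.node (.leaf 34) (.leaf 38))) (.node (.node (.leaf 26) (.leaf 7)) (.node (.leaf 39) (.leaf 29)))))))

/-- data -/
def prev3 : Trie (ℕ) := .node (.node (.node (.node (.node (.node (.node (.node (.leaf 4) (.leaf 35)) (.leaf 35)) (.node (.leaf 30) (.leaf 17))) (.node (.node (.leaf 1) (.leaf 33)) (.node (.leaf 11) (.leaf 17)))) (.node (.node (.node (.node (.leaf 25) (.leaf 41)) (.leaf 9)) (.node (.leaf 4) (.leaf 15))) (.node (.node (.leaf 5) (.leaf 42)) (.node (.leaf 34) (.leaf 27))))) (.node (.node (.node (.node (.node (.leaf 15) (.leaf 39)) (.leaf 47)) (.node (.leaf 30) (.leaf 20))) (.node (.node (.leaf 1) (.leaf 34)) (.node (.leaf 47) (.leaf 39)))) (.node (.node (.node (.node (.leaf 1) (.leaf 42)) (.leaf 23)) (.node (.leaf 4) (.leaf 46))) (.node (.node (.leaf 28) (.leaf 17)) (.node (.leaf 7) (.leaf 30)))))) (.node (.node (.node (.node (.node (.node (.leaf 12) (.leaf 25)) (.leaf 8)) (.node (.leaf 3) (.leaf 14))) (.node (.node (.leaf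 32) (.leaf 11)) (.node (.leaf 5) (.leaf 37)))) (.node (.node (.node (.node (.leaf 27) (.leaf 41)) (.leaf 38)) (.node (.leaf 12) (.leaf 40))) (.node (.node (.leaf 11) (.leaf 14)) (.node (.leaf 16) (.leaf 29))))) (.node (.node (.node (.node (.node (.leaf 20) (.leaf 37)) (.leaf 43)) (.node (.leaf 3) (.leaf 45))) (.node (.node (.leaf 13) (.leaf 43)) (.node (.leaf 43) (.leaf 19)))) (.node (.node (.node (.node (.leaf 32) (.leaf 37)) (.leaf 40)) (.node (.leaf 5) (.leaf 16))) (.node (.node (.leaf 3) (.leaf 14)) (.node (.leaf 44) (.leaf 23))))))) (.node (.node (.node (.node (.node (.node (.node (.leaf 8) (.leaf 29)) (.leaf 7)) (.node (.leaf 35) (.leaf 29))) (.node (.node (.leaf 36) (.leaf 26)) (.node (.leaf 39) (.leaf 20)))) (.node (.node (.node (.node (.leaf 19) (.leaf 26)) (.leaf 36)) (.node (.leaf 40) (.leaf 16))) (.node (.node (.leaf 2) (.leaf 13)) (.node (.leaf 10) (.leaf 21))))) (.node (.node (.node (.node (.node (.leaf 19) (.leaf 26)) (.leaf 47)) (.node (.leaf 9)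 (.leaf 45))) (.node (.node (.leaf 2) (.leaf 12)) (.node (.leaf 10) (.leaf 21)))) (.node (.node (.node (.node (.leaf 7) (.leaf 42)) (.leaf 9)) (.node (.leaf 13) (.leaf 34))) (.node (.node (.leaf 2) (.leaf 24)) (.node (.leaf 22) (.leaf 22)))))) (.node (.node (.node (.node (.node (.node (.leaf 0) (.leaf 27)) (.leaf 33)) (.node (.leaf 23) (.leaf 15))) (.node (.node (.leaf 38) (.leaf 28)) (.node (.leaf 6) (.leaf 18)))) (.node (.node (.node (.node (.leaf 0) (.leaf 31)) (.leaf 38)) (.node (.leaf 46) (.leaf 46))) (.node (.node (.leaf 31) (.leaf 45)) (.node (.leaf 6) (.leaf 36))))) (.node (.node (.node (.node (.node (.leaf 0) (.leaf 28)) (.leaf 8)) (.node (.leaf 33) (.leaf 24))) (.node (.node (.leaf 31) (.leaf 18)) (.node (.leaf 6) (.leaf 24)))) (.node (.node (.node (.node (.leaf 22) (.leaf 41)) (.leaf 10)) (.node (.leaf 18) (.leaf 25))) (.node (.node (.leaf 44) (.leaf 21)) (.node (.leaf 44) (.leaf 32)))))))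

/-- data -/
def lab3 : Trie (Word) := .node (.node (.node (.node (.node (.node (.node (.node (.leaf []) (.leaf [])) (.leaf [])) (.node (.leaf []) (.leaf []))) (.node (.node (.leaf []) (.leaf [])) (.node (.leaf []) (.leaf [])))) (.node (.node (.node (.node (.leaf []) (.leaf [])) (.leaf [])) (.node (.leaf []) (.leaf []))) (.node (.node (.leaf []) (.leaf [])) (.node (.leaf []) (.leaf []))))) (.node (.node (.node (.node (.node (.leaf []) (.leaf [])) (.leaf [])) (.node (.leaf []) (.leaf []))) (.node (.node (.leaf []) (.leaf [])) (.node (.leaf []) (.leaf [])))) (.node (.node (.node (.node (.leaf []) (.leaf [])) (.leaf [])) (.node (.leaf []) (.leaf []))) (.node (.node (.leaf []) (.leaf [])) (.node (.leaf []) (.leaf [])))))) (.node (.node (.node (.node (.node (.node (.leaf []) (.leaf [])) (.leaf [])) (.node (.leaf []) (.leaf []))) (.node (.node (.leaf []) (.leaf [])) (.node (.leaf []) (.leaf [])))) (.node (.node (.node (.node (.leaf []) (.leaf [])) (.leaf [])) (.node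 (.leaf []) (.leaf []))) (.node (.node (.leaf []) (.leaf [])) (.node (.leaf []) (.leaf []))))) (.node (.node (.node (.node (.node (.leaf []) (.leaf [])) (.leaf [])) (.node (.leaf []) (.leaf []))) (.node (.node (.leaf []) (.leaf [])) (.node (.leaf []) (.leaf [])))) (.node (.node (.node (.node (.leaf []) (.leaf [])) (.leaf [])) (.node (.leaf []) (.leaf []))) (.node (.node (.leaf []) (.leaf [])) (.node (.leaf []) (.leaf []))))))) (.node (.node (.node (.node (.node (.node (.node (.leaf []) (.leaf [])) (.leaf [])) (.node (.leaf []) (.leaf []))) (.node (.node (.leaf []) (.leaf [])) (.node (.leaf []) (.leaf [])))) (.node (.node (.node (.node (.leaf []) (.leaf [])) (.leaf [])) (.node (.leaf []) (.leaf []))) (.node (.node (.leaf []) (.leaf [])) (.node (.leaf []) (.leaf []))))) (.node (.node (.node (.node (.node (.leaf []) (.leaf [])) (.leaf [])) (.node (.leaf []) (.leaf []))) (.node (.node (.leaf []) (.leaf [])) (.node (.leaf []) (.leaf [])))) (.node (.node (.node (.node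 (.leaf []) (.leaf [])) (.leaf [])) (.node (.leaf []) (.leaf []))) (.node (.node (.leaf []) (.leaf [])) (.node (.leaf []) (.leaf [])))))) (.node (.node (.node (.node (.node (.node (.leaf []) (.leaf [])) (.leaf [])) (.node (.leaf []) (.leaf []))) (.node (.node (.leaf []) (.leaf [])) (.node (.leaf []) (.leaf [])))) (.node (.node (.node (.node (.leaf []) (.leaf [])) (.leaf [])) (.node (.leaf []) (.leaf []))) (.node (.node (.leaf []) (.leaf [])) (.node (.leaf []) (.leaf []))))) (.node (.node (.node (.node (.node (.leaf []) (.leaf [])) (.leaf [])) (.node (.leaf []) (.leaf []))) (.node (.node (.leaf []) (.leaf [])) (.node (.leaf []) (.leaf [])))) (.node (.node (.node (.node (.leaf []) (.leaf [])) (.leaf [])) (.node (.leaf []) (.leaf []))) (.node (.node (.leaf []) (.leaf [])) (.node (.leaf []) (.leaf [])))))))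

/-- data -/
def val3 : Trie (Vec) := .node (.node (.node (.node (.node (.node (.node (.node (.leaf []) (.leaf [(-1), 0, (-1), (-1), 1, 2, (-1)])) (.leaf [])) (.node (.leaf [1, 0, (-1), 0, (-2)]) (.leaf [0, 0, 1, 0, 1]))) (.node (.node (.leaf []) (.leaf [])) (.node (.leaf []) (.leaf [])))) (.node (.node (.node (.node (.leaf []) (.leaf [(-2), 0, 1, 0, 2, 1])) (.leaf [0, 0, 0, (-1), 1, 1])) (.node (.leaf [1, 1, 0, (-1)]) (.leaf [0, 1, 1, 0, 0, (-1)]))) (.node (.node (.leaf []) (.leaf [0, 0, (-1), 0, 0, 1])) (.node (.leaf [0, (-1), 0, 0, 0, 1]) (.leaf [1, (-1), 0, 0, 0, 1, 1]))))) (.node (.node (.node (.node (.node (.leaf []) (.leaf [(-1), 1, 0, (-1), 2, 1, (-1)])) (.leaf [])) (.node (.leaf [(-1), 0, 1, 0, 1]) (.leaf [(-1), (-1), 0, 2]))) (.node (.node (.leaf []) (.leaf [0, 0, 0, 1, (-1), (-1)])) (.node (.leaf []) (.leaf [0, 1, 3, 0, 1, (-2), 1])))) (.node (.node (.node (.node (.leaf [1]) (.leaf [0, 1, 3, 2, (-1), (-4), 1])) (.leaf [])) (.node (.leaf []) (.leaf [(-1),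 (-1), 1, 1, 1]))) (.node (.node (.leaf [0, 0, (-1), 0, 0, 1]) (.leaf [2, 0, (-1), 0, (-2)])) (.node (.leaf [1]) (.leaf [0, 2, (-1), 0, (-1), (-1), (-1)])))))) (.node (.node (.node (.node (.node (.node (.leaf []) (.leaf [0, 1, 1, 0, 0, (-1)])) (.leaf [1, 1, 0, (-1)])) (.node (.leaf []) (.leaf [0, 0, 1]))) (.node (.node (.leaf []) (.leaf [0, 1])) (.node (.leaf []) (.leaf [0, 1, (-1), 0, 0, 0, (-1)])))) (.node (.node (.node (.node (.leaf []) (.leaf [0, 1, (-1), 0, 0, 0, (-1)])) (.leaf [0, 0, (-2), 0, (-1), 1, (-1)])) (.node (.leaf []) (.leaf [1, (-1), 0, (-1), 1, 2, 1]))) (.node (.node (.leaf []) (.leaf [2, 0, (-1), 0, (-1)])) (.node (.leaf []) (.leaf [(-1), (-1), 0, 1, 0, 1]))))) (.node (.node (.node (.node (.node (.leaf []) (.leaf [(-1), 1, 0, 1, (-1), (-1), (-1)])) (.leaf [0, 0, (-1), 0, 0, 1])) (.node (.leaf [0, 0, 1]) (.leaf [0, 1, (-1), (-1), 1, 1, (-1)]))) (.node (.node (.leaf [(-1), 0, 0, 1]) (.leaf [0, (-1), 0, 0, 0, 1])) (.node (.leaf [0, 0, 0, 1, (-1),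 (-1)]) (.leaf [0, 1, 1, 0, 0, (-1)])))) (.node (.node (.node (.node (.leaf []) (.leaf [0, 1])) (.leaf [0, (-1), 0, 1])) (.node (.leaf [0, 1]) (.leaf [0, 0, 1]))) (.node (.node (.leaf [1, 0, (-1), 0, (-1)]) (.leaf [])) (.node (.leaf [(-2), 0, 0, 1, 1, 0, (-1)]) (.leaf [2, 0, 0, 0, (-2), (-1), 1]))))))) (.node (.node (.node (.node (.node (.node (.node (.leaf []) (.leaf [0, 3, 1, (-1), 0, (-2), (-1)])) (.leaf [(-1), 0, 1, 1, 0, (-1)])) (.node (.leaf [0, 0, 0, 1, (-1), (-1)]) (.leaf [1, (-1), 1, (-1), 1, 1, 1]))) (.node (.node (.leaf []) (.leaf [0, 2, 0, (-1), 0, (-1), (-1)])) (.node (.leaf [0, 0, (-1), 0, 0, 1]) (.leaf [(-1), (-1), 1, 0, 2, 1])))) (.node (.node (.node (.node (.leaf []) (.leaf [(-3), (-1), 1, 2, 1, 0, (-1)])) (.leaf [0, (-2), 0, 0, 1, 2, 1])) (.node (.leaf []) (.leaf [1, 0, 0, (-1), 1, 1]))) (.node (.node (.leaf [0, 1]) (.leaf [1, 1, 1, (-1), 0, (-1)])) (.node (.leaf [0, 0, 1, 0, 1]) (.leaf [(-1), 2, 0, 1, (-1), (-2), (-1)]))))) (.node (.node (.node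 (.node (.node (.leaf []) (.leaf [0, 1])) (.leaf [])) (.node (.leaf []) (.leaf [(-1), 1, 0, 0, 1, 0, (-1)]))) (.node (.node (.leaf []) (.leaf [0, 1, 1, 0, 0, (-1)])) (.node (.leaf [1, 0, (-1), 0, (-2)]) (.leaf [(-1), (-1), 1, 1, 1])))) (.node (.node (.node (.node (.leaf []) (.leaf [(-1), 0, 0, 0, 2, 1, (-1)])) (.leaf [0, 0, 1])) (.node (.leaf []) (.leaf [0, 3, 1, 0, (-1), (-3), (-1)]))) (.node (.node (.leaf []) (.leaf [1, 0, 0, 1, (-1), (-1)])) (.node (.leaf [(-2), (-2), 0, 3]) (.leaf [5, 0, 1, 0, (-5), (-3), 3])))))) (.node (.node (.node (.node (.node (.node (.leaf []) (.leaf [0, (-1), (-1), 0, 0, 2])) (.leaf [(-1), 0, 0, 1])) (.node (.leaf [0, (-1), 0, 0, 0, 1]) (.leaf [1, 1, 0, (-1)]))) (.node (.node (.leaf []) (.leaf [0, (-2), (-2), 0, 0, 3])) (.node (.leaf [1, 0, (-1), 0, (-1)]) (.leaf [0, 1])))) (.node (.node (.node (.node (.leaf []) (.leaf [0, 1])) (.leaf [1, 4, 1, (-1), (-2), (-4), (-1)])) (.node (.leaf []) (.leaf [1, (-1), (-1), (-1), 0, 2]))) (.node (.node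 (.leaf []) (.leaf [2, (-1), 0, 0, (-1), 0, 1])) (.node (.leaf [0, 0, 1]) (.leaf [2, 0, 0, (-1), (-1), 0, 1]))))) (.node (.node (.node (.node (.node (.leaf []) (.leaf [(-3), (-1), 1, 0, 4, 2, (-1)])) (.leaf [0, 1, 1, 0, 0, (-1)])) (.node (.leaf [0, (-1), 0, 1]) (.leaf [0, 0, (-1), 0, 0, 1]))) (.node (.node (.leaf []) (.leaf [1, 1, (-1), 0, (-1), (-1), (-1)])) (.node (.leaf []) (.leaf [0, (-1), 0, 0, 0, 1])))) (.node (.node (.node (.node (.leaf [0, (-1), 0, 1]) (.leaf [(-1), 0, 0, 0, 1, 1, (-1)])) (.leaf [])) (.node (.leaf []) (.leaf [0, (-1), 0, 1]))) (.node (.node (.leaf []) (.leaf [1, 0, 0, (-1), 0, 1])) (.node (.leaf [(-1), 0, (-1), 0, 1, 1, (-1)]) (.leaf [(-1), 2, 0, 1, (-1), (-2), (-1)])))))))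

/-- data -/
def rank3 : Trie (ℕ) := .node (.node (.node (.node (.node (.node (.node (.node (.leaf 0) (.leaf 85)) (.leaf 0)) (.node (.leaf 35) (.leaf 27))) (.node (.node (.leaf 0) (.leaf 0)) (.node (.leaf 0) (.leaf 0)))) (.node (.node (.node (.node (.leaf 0) (.leaf 45)) (.leaf 63)) (.node (.leaf 23) (.leaf 56))) (.node (.node (.leaf 0) (.leaf 41)) (.node (.leaf 43) (.leaf 88))))) (.node (.node (.node (.node (.node (.leaf 0) (.leaf 80)) (.leaf 0)) (.node (.leaf 28) (.leaf 25))) (.node (.node (.leaf 0) (.leaf 60)) (.node (.leaf 0) (.leaf 94)))) (.node (.node (.node (.node (.leaf 1) (.leaf 95)) (.leaf 0)) (.node (.leaf 0) (.leaf 29))) (.node (.node (.leaf 37) (.leaf 34)) (.node (.leaf 2) (.leaf 93)))))) (.node (.node (.node (.node (.node (.node (.leaf 0) (.leaf 52)) (.leaf 21)) (.node (.leaf 0) (.leaf 13))) (.node (.node (.leaf 0) (.leaf 5)) (.node (.leaf 0) (.leaf 66)))) (.node (.node (.node (.node (.leaf 0) (.leaf 67)) (.leaf 75)) (.node (.leaf 0) (.leaf 68)))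 (.node (.node (.leaf 0) (.leaf 32)) (.node (.leaf 0) (.leaf 47))))) (.node (.node (.node (.node (.node (.leaf 0) (.leaf 84)) (.leaf 39)) (.node (.leaf 10) (.leaf 77))) (.node (.node (.leaf 17) (.leaf 46)) (.node (.leaf 59) (.leaf 51)))) (.node (.node (.node (.node (.leaf 0) (.leaf 9)) (.leaf 18)) (.node (.leaf 4) (.leaf 14))) (.node (.node (.leaf 30) (.leaf 0)) (.node (.leaf 73) (.leaf 87))))))) (.node (.node (.node (.node (.node (.node (.node (.leaf 0) (.leaf 71)) (.leaf 53)) (.node (.leaf 57) (.leaf 81))) (.node (.node (.leaf 0) (.leaf 70)) (.node (.leaf 38) (.leaf 48)))) (.node (.node (.node (.node (.leaf 0) (.leaf 83)) (.leaf 79)) (.node (.leaf 0) (.leaf 64))) (.node (.node (.leaf 3) (.leaf 55)) (.node (.leaf 26) (.leaf 90))))) (.node (.node (.node (.node (.node (.leaf 0) (.leaf 7)) (.leaf 0)) (.node (.leaf 0) (.leaf 76))) (.node (.node (.leaf 0) (.leaf 50)) (.node (.leaf 36) (.leaf 33)))) (.node (.node (.node (.node (.leaf 0) (.leaf 69)) (.leaf 12)) (.node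 (.leaf 0) (.leaf 91))) (.node (.node (.leaf 0) (.leaf 58)) (.node (.leaf 24) (.leaf 97)))))) (.node (.node (.node (.node (.node (.node (.leaf 0) (.leaf 62)) (.leaf 20)) (.node (.leaf 40) (.leaf 22))) (.node (.node (.leaf 0) (.leaf 61)) (.node (.leaf 31) (.leaf 6)))) (.node (.node (.node (.node (.leaf 0) (.leaf 8)) (.leaf 86)) (.node (.leaf 0) (.leaf 65))) (.node (.node (.leaf 0) (.leaf 74)) (.node (.leaf 11) (.leaf 89))))) (.node (.node (.node (.node (.node (.leaf 0) (.leaf 72)) (.leaf 54)) (.node (.leaf 16) (.leaf 42))) (.node (.node (.leaf 0) (.leaf 78)) (.node (.leaf 0) (.leaf 49)))) (.node (.node (.node (.node (.leaf 15) (.leaf 96)) (.leaf 0)) (.node (.leaf 0) (.leaf 19))) (.node (.node (.leaf 0) (.leaf 44)) (.node (.leaf 82) (.leaf 92)))))))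

/-- data -/
def tree3 : Trie (ℕ × ℕ) := .node (.node (.node (.node (.node (.node (.leaf (0, 0)) (.leaf (14, 2))) (.leaf (5, 2))) (.node (.node (.leaf (2, 1)) (.leaf (21, 1))) (.leaf (9, 0)))) (.node (.node (.node (.leaf (1, 0)) (.leaf (16, 2))) (.leaf (7, 0))) (.node (.node (.leaf (3, 2)) (.leaf (26, 1))) (.leaf (12, 1))))) (.node (.node (.node (.node (.leaf (0, 1)) (.leaf (15, 2))) (.leaf (6, 1))) (.node (.node (.leaf (3, 0)) (.leaf (23, 0))) (.leaf (10, 1)))) (.node (.node (.node (.leaf (1, 2)) (.leaf (18, 1))) (.leaf (8, 0))) (.node (.node (.leaf (4, 2)) (.leaf (31, 1))) (.leaf (14, 0)))))) (.node (.node (.node (.node (.node (.leaf (0, 0)) (.leaf (15, 0))) (.leaf (6, 0))) (.node (.node (.leaf (2, 2)) (.leaf (22, 2))) (.leaf (9, 2)))) (.node (.node (.node (.leaf (1, 1)) (.leaf (17, 1))) (.leaf (7, 2))) (.node (.node (.leaf (4, 1)) (.leaf (26, 2))) (.leaf (13, 2))))) (.node (.node (.node (.node (.leaf (0, 2)) (.leaf (16, 0))) (.leaf (6, 2))) (.node (.node (.leaf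 (3, 1)) (.leaf (25, 1))) (.leaf (11, 1)))) (.node (.node (.node (.leaf (2, 0)) (.leaf (19, 1))) (.leaf (8, 2))) (.node (.node (.leaf (5, 1)) (.leaf (37, 1))) (.leaf (14, 1))))))

/-- data -/
def cert3 : Trie (ℕ × ℕ × ℕ) := .node (.node (.node (.node (.node (.node (.node (.leaf (0, 0, 2)) (.leaf (4, 23, 1))) (.node (.leaf (3, 10, 2)) (.leaf (4, 41, 3)))) (.node (.node (.leaf (3, 2, 1)) (.leaf (6, 16, 3))) (.leaf (5, 19, 1)))) (.node (.node (.node (.leaf (1, 17, 2)) (.leaf (6, 7, 4))) (.leaf (5, 4, 2))) (.node (.node (.leaf (3, 15, 1)) (.leaf (0, 36, 1))) (.leaf (3, 11, 0))))) (.node (.node (.node (.node (.leaf (1, 3, 2)) (.leaf (6, 3, 2))) (.leaf (5, 0, 2))) (.node (.node (.leaf (0, 5, 2)) (.leaf (6, 23, 4))) (.leaf (2, 7, 1)))) (.node (.node (.node (.leaf (2, 4, 2)) (.leaf (6, 11, 2))) (.leaf (5, 10, 2))) (.node (.node (.leaf (4, 22, 2)) (.leaf (1, 30, 1))) (.leaf (5, 11, 1)))))) (.node (.node (.node (.node (.node (.leaf (1, 0, 2)) (.leaf (6, 1, 2))) (.leaf (4,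 6, 1))) (.node (.node (.leaf (3, 6, 2)) (.leaf (6, 20, 1))) (.leaf (1, 16, 2)))) (.node (.node (.node (.leaf (2, 1, 2)) (.leaf (6, 9, 4))) (.leaf (5, 6, 1))) (.node (.node (.leaf (4, 1, 2)) (.leaf (1, 24, 2))) (.leaf (3, 18, 0))))) (.node (.node (.node (.node (.leaf (1, 10, 2)) (.leaf (6, 5, 2))) (.leaf (5, 2, 2))) (.node (.node (.leaf (1, 4, 1)) (.leaf (0, 23, 1))) (.leaf (2, 13, 1)))) (.node (.node (.node (.leaf (3, 0, 2)) (.leaf (6, 13, 3))) (.leaf (5, 13, 3))) (.node (.node (.leaf (0, 6, 1)) (.leaf (2, 35, 2))) (.leaf (0, 9, 1))))))) (.node (.node (.node (.node (.node (.node (.leaf (0, 2, 2)) (.leaf (6, 0, 2))) (.leaf (4, 3, 1))) (.node (.node (.leaf (3, 3, 2)) (.leaf (6, 18, 2))) (.leaf (1, 9, 2)))) (.node (.node (.node (.leaf (2, 0, 2)) (.leaf (6, 8, 3))) (.leaf (5, 5, 2))) (.node (.node (.leaf (4, 0, 2)) (.leaf (1, 21, 1))) (.leaf (3, 12, 2))))) (.node (.node (.node (.node (.leaf (1, 6, 2)) (.leaf (6, 4, 2))) (.leaf (5, 1, 2))) (.node (.node (.leaf (0,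 13, 2)) (.leaf (6, 25, 5))) (.leaf (2, 8, 1)))) (.node (.node (.node (.leaf (2, 5, 2)) (.leaf (6, 12, 2))) (.leaf (5, 12, 1))) (.node (.node (.leaf (0, 3, 1)) (.leaf (2, 24, 2))) (.leaf (5, 25, 1)))))) (.node (.node (.node (.node (.node (.leaf (1, 1, 2)) (.leaf (6, 2, 3))) (.leaf (4, 14, 1))) (.node (.node (.leaf (3, 8, 1)) (.leaf (6, 22, 1))) (.leaf (1, 23, 2)))) (.node (.node (.node (.leaf (2, 2, 2)) (.leaf (6, 10, 1))) (.leaf (5, 7, 3))) (.node (.node (.leaf (4, 4, 2)) (.leaf (1, 29, 2))) (.leaf (3, 28, 0))))) (.node (.node (.node (.node (.leaf (1, 14, 2)) (.leaf (6, 6, 2))) (.leaf (5, 3, 1))) (.node (.node (.leaf (3, 7, 1)) (.leaf (0, 26, 2))) (.leaf (2, 15, 1)))) (.node (.node (.node (.leaf (3, 1, 2)) (.leaf (6, 14, 2))) (.leaf (5, 17, 1))) (.node (.node (.leaf (0, 12, 2)) (.leaf (4, 8, 1))) (.leaf (0, 11, 2)))))))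

/-- data -/
def pot3 : Trie Vec := .node (.node (.node (.node (.node (.node (.leaf []) (.leaf [4])) (.leaf [2])) (.node (.node (.leaf []) (.leaf [2])) (.leaf [2]))) (.node (.node (.node (.leaf [4]) (.leaf [2])) (.leaf [4])) (.node (.node (.leaf []) (.leaf [2])) (.leaf [])))) (.node (.node (.node (.node (.leaf []) (.leaf [2])) (.leaf [2])) (.node (.node (.leaf [2]) (.leaf [2])) (.leaf [2]))) (.node (.node (.node (.leaf [2]) (.leaf [2])) (.leaf [2])) (.node (.node (.leaf [4]) (.leaf [4])) (.leaf [6]))))) (.node (.node (.node (.node (.node (.leaf [2]) (.leaf [4])) (.leaf [4])) (.node (.node (.leaf []) (.leaf [2])) (.leaf []))) (.node (.node (.node (.leaf [2]) (.leaf [4])) (.leaf [2])) (.node (.node (.leaf [4]) (.leaf [2])) (.leaf [4])))) (.node (.node (.node (.node (.leaf []) (.leaf [4])) (.leaf [2])) (.node (.node (.leaf []) (.leaf [])) (.leaf []))) (.node (.node (.node (.leaf [2]) (.leaf [2])) (.leaf [])) (.node (.node (.leaf [2]) (.leaf [4])) (.leaf [4])))))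

/-- level 3 -/
def table3 : Table where
  size := 48
  ngen := 3
  next g x := next3.get (3 * g + x)
  prev g x := prev3.get (3 * g + x)
  lab g x := lab3.get (3 * g + x)
  val g x := val3.get (3 * g + x)
  rank g x := rank3.get (3 * g + x)
  tree g := tree3.get g
  cert j := cert3.get j
  nded := 97
  rels := [⟨[(0, true), (0, true), (0, true)], [], [1]⟩,
    ⟨[(1, true), (1, true), (1, true)], [], [0, 1]⟩,
    ⟨[(2, true), (2, true), (2, true)], [], [0, 0, 1]⟩,
    ⟨[(0, true), (1, true), (0, true), (1, true)], [], [0, 0, 0, 1]⟩,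
    ⟨[(0, true), (2, false), (0, true), (2, false)], [], [0, 0, 0, 0, 1]⟩,
    ⟨[(1, true), (2, true), (1, true), (2, true)], [], [0, 0, 0, 0, 0, 1]⟩,
    ⟨[(1, true), (2, false), (0, false), (1, true), (2, false), (0, false)], [], [0, 0, 0, 0, 0, 0, 1]⟩]
  pot g := pot3.get g
  innerSize := 1
  innerGen := 0

/-- level 3 with its checks -/
def level3 : ChainLevel where
  table := table3
  gexp := [[2, 0], [0, 0], [0, 0]]
  perm := [984436632068016323118584907140532256, 961409415667826064667231448532617248, 964862721552653238424309835408443424]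
  pinv := [984559288045672395699075860841728032, 976909097487365034896521273070946336, 981515887986994088769278604842469408]
  defs := []
  eqs := [(3, 9, [0, 0, 0, (-2), 2, 2]),
    (4, 9, [0, 0, (-4), 0, (-2), 2, (-2)])]
  pts := [4, 5]

/-- the chain -/
def chain : List ChainLevel := [level0, level1, level2, level3]

/-- exponents of the relations -/
def rows : List Vec :=
  [[6, 0],
    [0, 0],
    [0, 0],
    [4, 0],
    [4, 0],
    [0, 0],
    [(-4), 0],
    [6, 0],
    [6, 0],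
    [6, 0],
    [0, 0],
    [6, 0],
    [0, 4],
    [8, 0],
    [6, 1],
    [(-2), 2],
    [(-10), 5],
    [2],
    [0, 4],
    [1, (-2)],
    [1, (-2)],
    [(-3), (-8)],
    [0, 1]]

/-- the linear algebra -/
def lin : LinCert where
  basis := [[1, 0, 0, 0, 0, 0, 0, 0, 0, 0, 0, 0, 0, 0, 0, 0, 0, 0, 0, 0, 12, 6, 72], [0, 1, 0, 0, 0, 0, 0, 0, 0, 0, 0, 0, 0, 0, 0, 0, 0, 0, 0, 0, 27, 9, 126], [0, 0, 1, 0, 0, 0, 0, 0, 0, 0, 0, 0, 0, 0, 0, 0, 0, 0, 0, 0, 27, 9, 126], [0, 0, 0, 1, 0, 0, 0, 0, 0, 0, 0, 0, 0, 0, 0, 0, 0, 0, 0, 0, 26, 10, 132], [0, 0, 0, 0, 1, 0, 0, 0, 0, 0, 0, 0, 0, 0, 0, 0, 0, 0, 0, 0, 8, 4, 48], [0, 0, 0, 0, 0, 1], [0, 0, 0, 0, 0, 0, 1, 0, 0, 0, 0, 0, 0, 0, 0, 0, 0, 0, 0, 0, 28, 8, 120], [0, 0, 0, 0, 0, 0, 0, 1, 0, 0, 0, 0, 0, 0, 0, 0, 0, 0, 0, 0, 12, 6, 72], [0, 0, 0, 0, 0, 0, 0, 0, 1, 0, 0, 0, 0, 0, 0, 0, 0, 0, 0, 0, 12, 6, 72], [0, 0, 0, 0, 0, 0, 0, 0, 0, 1, 0, 0, 0, 0, 0, 0, 0, 0, 0, 0, 9, 5, 58], [0, 0, 0, 0, 0, 0, 0, 0, 0, 0, 1, 0, 0, 0, 0, 0,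 0, 0, 0, 0, 9, 3, 42], [0, 0, 0, 0, 0, 0, 0, 0, 0, 0, 0, 1, 0, 0, 0, 0, 0, 0, 0, 0, 12, 6, 72], [0, 0, 0, 0, 0, 0, 0, 0, 0, 0, 0, 0, 1, 0, 0, 0, 0, 0, 0, 0, 0, 0, (-4)], [0, 0, 0, 0, 0, 0, 0, 0, 0, 0, 0, 0, 0, 1, 0, 0, 0, 0, 0, 0, 7, 5, 54], [0, 0, 0, 0, 0, 0, 0, 0, 0, 0, 0, 0, 0, 0, 1, 0, 0, 0, 0, 0, 12, 6, 71], [0, 0, 0, 0, 0, 0, 0, 0, 0, 0, 0, 0, 0, 0, 0, 1, 0, 0, 0, 0, 32, 10, 142], [0, 0, 0, 0, 0, 0, 0, 0, 0, 0, 0, 0, 0, 0, 0, 0, 1, 0, 0, 0, 28, 6, 99], [0, 0, 0, 0, 0, 0, 0, 0, 0, 0, 0, 0, 0, 0, 0, 0, 0, 1, 0, 0, 34, 12, 164], [0, 0, 0, 0, 0, 0, 0, 0, 0, 0, 0, 0, 0, 0, 0, 0, 0, 0, 1, 0, 0, 0, (-4)], [0, 0, 0, 0, 0, 0, 0, 0, 0, 0, 0, 0, 0, 0, 0, 0, 0, 0, 0, 1, 17, 6, 84], [0, 0, 0, 0, 0, 0, 0, 0, 0, 0, 0, 0, 0, 0, 0, 0, 0, 0, 0, 0, 3, 1, 14], [0, 0, 0, 0, 0, 0, 0, 0, 0, 0, 0, 0, 0, 0, 0, 0, 0, 0, 0, 0, 1], [0, 0, 0, 0, 0, 0, 0, 0, 0, 0, 0, 0, 0, 0, 0, 0, 0, 0, 0, 0, 0, 0, 1]]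
  dual := [[1], [0, 1], [0, 0, 1], [0, 0, 0, 1], [0, 0, 0, 0, 1], [0, 0, 0, 0, 0, 1], [0, 0, 0, 0, 0, 0, 1], [0, 0, 0, 0, 0, 0, 0, 1], [0, 0, 0, 0, 0, 0, 0, 0, 1], [0, 0, 0, 0, 0, 0, 0, 0, 0, 1], [0, 0, 0, 0, 0, 0, 0, 0, 0, 0, 1], [0, 0, 0, 0, 0, 0, 0, 0, 0, 0, 0, 1], [0, 0, 0, 0, 0, 0, 0, 0, 0, 0, 0, 0, 1], [0, 0, 0, 0, 0, 0, 0, 0, 0, 0, 0, 0, 0, 1], [0, 0, 0, 0, 0, 0, 0, 0, 0, 0, 0, 0, 0, 0, 1], [0, 0, 0, 0, 0, 0, 0, 0, 0, 0, 0, 0, 0, 0, 0, 1], [0, 0, 0, 0, 0, 0, 0, 0, 0, 0, 0, 0, 0, 0, 0, 0, 1], [0, 0, 0, 0, 0, 0, 0, 0, 0, 0, 0, 0, 0, 0, 0, 0, 0, 1], [0, 0, 0, 0, 0, 0, 0, 0, 0, 0, 0, 0, 0, 0, 0, 0, 0, 0, 1], [0, 0, 0, 0, 0, 0, 0, 0, 0, 0, 0, 0, 0, 0, 0, 0, 0, 0, 0, 1], [(-6), (-9), (-9), (-10), (-4), 0, (-8), (-6), (-6), (-5), (-3), (-6), 0, (-5), (-6), (-10), (-6), (-12), 0, (-6), 0, 1], [6, 0, 0, 4, 4, 0, (-4), 6, 6, 6, 0, 6, 0, 8, 6, (-2), (-10), 2, 0, 1, 1, (-3)], [12, 0, 0, 8, 8, 0, (-8), 12, 12, 12, 0, 12, 4, 16, 13, (-2), (-15), 4, 4, 0, 0, (-14), 1]]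
  kind := [(false, 0, [13942326, 2257309, 2124557, (-1327841), 7834252, (-6108056), (-796719), (-56686105), (-149055634), 108277714, 94215495, 72186044, (-37046970), 881000, (-330684011), 149941578, 31824077, 41235667, 128361339, (-54010625), 239598696, (-21691218)]), (false, 0, [22738131, 3681375, 3464877, (-2165538), 12776649, (-9961446), (-1299348), (-92447658), (-243090420), 176586840, 153653223, 117726072, (-60418836), 1436793, (-539302701), 244535223, 51900713, 67249871, 209340720, (-88084231), 390754044, (-35375532)]), (false, 0, [19300851, 3124863, 2941101, (-1838178), 10845225, (-8455590), (-1102932), (-78472482), (-206342932), 149892400, 130425703, 99929632, (-51285492), 1219585, (-457777229), 207569199, 44054687, 57083571, 177695181, (-74768639), 331683918, (-30027841)]), (false, 0, [14347458, 2322884, 2186300, (-1366426), 8061890, (-6285532), (-819882), (-58333148), (-153386924), 111423574, 96953008, 74283558, (-38123640), 906568, (-340292582), 154298226,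 32747902, 42433071, 132091516, (-55579837), 246559090, (-22321391)]), (false, 0, [15758124, 2551302, 2401246, (-1500774), 8854560, (-6903552), (-900474), (-64068757), (-168468032), 122379647, 106485862, 81587309, (-41871732), 995757, (-373751252), 169469581, 35969209, 46606497, 145078458, (-61044861), 270804119, (-24516266)]), (false, 0, [13749120, 2226048, 2095104, (-1309440), 7725696, (-6023424), (-785664), (-55900701), (-146989948), 106777753, 92910076, 71185759, (-36533376), 868831, (-326101874), 147864087, 31384090, 40665189, 126582148, (-53262356), 236280483, (-21390764)]), (false, 0, [17071194, 2763872, 2601342, (-1625830), 9592370, (-7478788), (-975522), (-69407219), (-182505944), 132576573, 115358732, 88385627, (-45360954), 1078693, (-404894175), 183590496, 38965266, 50489074, 157167643, (-66131217), 293367072, (-26558963)]), (false, 0, [13942326, 2257309, 2124557, (-1327841), 7834252, (-6108056), (-796719), (-56686105), (-149055634), 108277714, 94215495,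 72186044, (-37046970), 881000, (-330684012), 149941578, 31824077, 41235667, 128361339, (-54010625), 239598696, (-21691218)]), (false, 0, [13942326, 2257309, 2124557, (-1327841), 7834252, (-6108056), (-796719), (-56686106), (-149055633), 108277714, 94215495, 72186044, (-37046970), 881000, (-330684012), 149941578, 31824077, 41235667, 128361339, (-54010625), 239598696, (-21691218)]), (false, 0, [25950842, 4201549, 3954424, (-2471509), 14581896, (-11368932), (-1482917), (-105509947), (-277437003), 201537777, 175363429, 134359875, (-68955271), 1639847, (-615502288), 279086516, 59235235, 76752939, 238918432, (-100530148), 445967089, (-40373994)]), (false, 0, [7579377, 1227125, 1154959, (-721846), 4258883, (-3320482), (-433116), (-30815886), (-81030140), 58862280, 51217741, 39242024, (-20139612), 478931, (-179767567), 81511741, 17300237, 22416623, 69780240, (-29361410), 130251347, (-11791844)]), (false, 0, [13942326, 2257309, 2124557, (-1327841), 7834252, (-6108056),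 (-796719), (-56686106), (-149055634), 108277714, 94215495, 72186044, (-37046970), 881000, (-330684012), 149941578, 31824077, 41235667, 128361339, (-54010625), 239598696, (-21691218)]), (false, 0, [3155122, 510830, 480780, (-300488), 1772878, (-1382244), (-180292), (-12827987), (-33730956), 24503170, 21320828, 16335569, (-8383598), 199379, (-74833228), 33931572, 7201998, 9331808, 29047799, (-12222542), 54221262, (-4908716)]), (false, 0, [7367451, 1192811, 1122669, (-701662), 4139801, (-3227638), (-421008), (-29954248), (-78764535), 57216382, 49785647, 38144795, (-19576535), 465532, (-174741134), 79232584, 16816399, 21789698, 67829252, (-28540467), 126609170, (-11462125)]), (false, 0, [6523519, 1056169, 994072, (-621288), 3665589, (-2857912), (-372787), (-26522975), (-69742185), 50662136, 44082692, 33775337, (-17334137), 412193, (-154724612), 70156463, 14889728, 19293385, 60059612, (-25271102), 112105512, (-10149102)]), (false, 0, [10883867, 1762108, 1658515, (-1036561),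 6115679, (-4768146), (-621965), (-44250954), (-116358122), 84524689, 73547631, 56350867, (-28920409), 687692, (-258142924), 117049147, 24841587, 32188775, 100203748, (-42162227), 187036363, (-16932729)]), (false, 0, [23785224, 3850910, 3624428, (-2265262), 13365016, (-10420174), (-1359177), (-96704904), (-254284631), 184718858, 160729003, 123147357, (-63201024), 1502975, (-564137663), 255796179, 54291103, 70347110, 218980620, (-92140521), 408749035, (-37004617)]), (false, 0, [3154089, 510614, 480648, (-300392), 1772278, (-1381764), (-180268), (-12823449), (-33720180), 24493904, 21313380, 16330107, (-8381354), 199221, (-74807818), 33919612, 7197076, 9326440, 29039189, (-12217982), 54198446, (-4906765)]), (false, 0, [2845375, 460681, 433580, (-270988), 1598830, (-1246546), (-162592), (-11568635), (-30419500), 22097642, 19227712, 14731865, (-7560554), 179807, (-67486668), 30600430, 6494992, 8415708, 26196093, (-11022634), 48898280, (-4426819)]), (false, 0, [154357,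 24966, 23534, (-14702), 86724, (-67609), (-8838), (-627407), (-1650340), 1198131, 1042834, 799121, (-410400), 9707, (-3660575), 1659591, 351042, 455366, 1421548, (-597674), 2650083, (-239973)]), (false, 0, [(-1032), (-216), (-132), 96, (-600), 480, 24, 4538, 10776, (-9266), (-7448), (-5462), 2244, (-158), 25410, (-11960), (-4922), (-5368), (-8610), 4560, (-22816), 1951]), (true, 1, [1]), (true, 1, [2, 1])]
  tor := 20
  bound := 12

/-- the top generators as words -/
def top : List Word := (List.range 2).map fun j => [(j, true)]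

theorem perms_check : permsOK chain = true := by decide +kernel

theorem rows_check : rows = relRows (chainRels chain top) ∧ chainExp chain = top.map (wexp vunit) := by decide +kernel

theorem shape0 : shapeOK (chainRels chain top) rows level0 [level1, level2, level3] (top) = true := by decide +kernel

theorem deds0 : dedsOK level0 [level1, level2, level3] = true := by decide +kernel

theorem eqn0_0 : eqnOK level0 [level1, level2, level3] 0 = true := by decide +kernel

theorem eqn0_1 : eqnOK level0 [level1, level2, level3] 1 = true := by decide +kernel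

theorem eqn0_2 : eqnOK level0 [level1, level2, level3] 2 = true := by decide +kernel

theorem eqn0_3 : eqnOK level0 [level1, level2, level3] 3 = true := by decide +kernel

theorem eqn0_4 : eqnOK level0 [level1, level2, level3] 4 = true := by decide +kernel

theorem eqn0_5 : eqnOK level0 [level1, level2, level3] 5 = true := by decide +kernel

theorem eqn0_6 : eqnOK level0 [level1, level2, level3] 6 = true := by decide +kernel

theorem eqns0 : eqnsOK level0 [level1, level2, level3] = true := by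
  have hlen : level0.eqs.length = 7 := rfl
  simp only [eqnsOK, hlen, List.range_succ, List.range_zero, List.nil_append, List.cons_append, List.all_cons, List.all_nil, Bool.and_self, eqn0_0, eqn0_1, eqn0_2, eqn0_3, eqn0_4, eqn0_5, eqn0_6]

theorem shape1 : shapeOK (chainRels chain top) rows level1 [level2, level3] (nextWords (top) level0) = true := by decide +kernel

theorem deds1 : dedsOK level1 [level2, level3] = true := by decide +kernel

theorem eqn1_0 : eqnOK level1 [level2, level3] 0 = true := by decide +kernel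

theorem eqn1_1 : eqnOK level1 [level2, level3] 1 = true := by decide +kernel

theorem eqn1_2 : eqnOK level1 [level2, level3] 2 = true := by decide +kernel

theorem eqn1_3 : eqnOK level1 [level2, level3] 3 = true := by decide +kernel

theorem eqn1_4 : eqnOK level1 [level2, level3] 4 = true := by decide +kernel

theorem eqn1_5 : eqnOK level1 [level2, level3] 5 = true := by decide +kernel

theorem eqn1_6 : eqnOK level1 [level2, level3] 6 = true := by decide +kernel

theorem eqns1 : eqnsOK level1 [level2, level3] = true := by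
  have hlen : level1.eqs.length = 7 := rfl
  simp only [eqnsOK, hlen, List.range_succ, List.range_zero, List.nil_append, List.cons_append, List.all_cons, List.all_nil, Bool.and_self, eqn1_0, eqn1_1, eqn1_2, eqn1_3, eqn1_4, eqn1_5, eqn1_6]

theorem shape2 : shapeOK (chainRels chain top) rows level2 [level3] (nextWords (nextWords (top) level0) level1) = true := by decide +kernel

theorem deds2 : dedsOK level2 [level3] = true := by decide +kernel

theorem eqn2_0 : eqnOK level2 [level3] 0 = true := by decide +kernel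

theorem eqn2_1 : eqnOK level2 [level3] 1 = true := by decide +kernel

theorem eqn2_2 : eqnOK level2 [level3] 2 = true := by decide +kernel

theorem eqn2_3 : eqnOK level2 [level3] 3 = true := by decide +kernel

theorem eqn2_4 : eqnOK level2 [level3] 4 = true := by decide +kernel

theorem eqn2_5 : eqnOK level2 [level3] 5 = true := by decide +kernel

theorem eqns2 : eqnsOK level2 [level3] = true := by
  have hlen : level2.eqs.length = 6 := rfl
  simp only [eqnsOK, hlen, List.range_succ, List.range_zero, List.nil_append, List.cons_append, List.all_cons, List.all_nil, Bool.and_self, eqn2_0, eqn2_1, eqn2_2, eqn2_3, eqn2_4, eqn2_5]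

theorem shape3 : shapeOK (chainRels chain top) rows level3 [] (nextWords (nextWords (nextWords (top) level0) level1) level2) = true := by decide +kernel

theorem deds3 : dedsOK level3 [] = true := by decide +kernel

theorem eqn3_0 : eqnOK level3 [] 0 = true := by decide +kernel

theorem eqn3_1 : eqnOK level3 [] 1 = true := by decide +kernel

theorem eqns3 : eqnsOK level3 [] = true := by
  have hlen : level3.eqs.length = 2 := rfl
  simp only [eqnsOK, hlen, List.range_succ, List.range_zero, List.nil_append, List.cons_append, List.all_cons, List.all_nil, Bool.and_self, eqn3_0, eqn3_1]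

theorem lastWords : (nextWords (nextWords (nextWords (nextWords (top) level0) level1) level2) level3).isEmpty = true := by decide +kernel

theorem tables_check : tablesOK (chainRels chain top) rows chain top = true := by
  show tablesOK (chainRels chain top) rows [level0, level1, level2, level3] top = true
  simp only [tablesOK, shape0, deds0, eqns0, shape1, deds1, eqns1, shape2, deds2, eqns2, shape3, deds3, eqns3, lastWords, Bool.and_self]

theorem lin_check : lin.ok rows 2 (chainEqns chain) = true := by decide +kernel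

end CfsgLib.Sporadic.M22Chain
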