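import Cfsg.Prelude.Def_KGroupFacts
import Cfsg.Agent.Lib.Schur.Multiplier
import Cfsg.Agent.Lib.Schur.MonomialWitness
import Cfsg.Agent.Lib.Sporadic.SporMathieu
import Cfsg.Agent.Lib.Sporadic.M22Chain
import Cfsg.Agent.Lib.Sporadic.M22Cover.ThreeCheck
import Cfsg.Agent.Lib.Sporadic.M22Cover.FourCheck

/-!
# The Schur multiplier of the Mathieu group M22 is cyclic of order twelve

Monomial representations of degrees 231 and 1232, with scalars of order three and four, give the cover;
a chain of coset tables gives the bound.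
-/

set_option autoImplicit false
set_option maxRecDepth 100000

namespace CfsgLib.Sporadic.M22Mult

open Cfsg CfsgLib.Schur.Cert CfsgLib.Sporadic.M22Cover
open CfsgLib.Sporadic.M22Chain (chain lin rows top)

theorem gens_check : ((chainPerm chain).all fun p => isAut p && Nat.beq (pget p 23) 23 && Nat.beq (pget p 0) 0) = true ∧
    (chainPerm chain).length = 2 ∧ chainGen chain = 2 ∧ chainSize chain = 443520 ∧ lin.bound = 12 := by
  decide +kernel

/-- the word for a generator of the kernel -/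
def kerWord : Word :=
  commThree ++ commThree ++ commThree ++ commThree ++ (commFour ++ commFour ++ commFour)

theorem word_check :
    kerWord.all (fun l => decide (l.1 < 2)) = true ∧ veq (wexp vunit kerWord) [] = true ∧
      ([23, 0, 1, 2, 3, 5, 4].all fun x => Nat.beq (wordImg (chainPerm chain)
        ((chain.head?.map ChainLevel.pinv).getD []) kerWord x) x) = true ∧
      meval 3 (monThree.getD 0 ([], [])).1 (monThree.getD 0 ([], [])).2 kerWord 0 = 1 ∧
      meval 4 (monFour.getD 0 ([], [])).1 (monFour.getD 0 ([], [])).2 kerWord 0 = 3 ∧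
      (forallLt 2 fun j => forallLt 24 fun x => Nat.beq (pget (((chain.head?.map ChainLevel.pinv).getD []).getD j 0)
        (pget ((chainPerm chain).getD j 0) x)) x) = true := by
  decide +kernel

theorem exists_gens : ∃ a : ℕ → ↥Spor.M22, ∀ j < 2,
    Rep ((a j : ↥Spor.M22) : Equiv.Perm GolayPt) ((chainPerm chain).getD j 0) := by
  obtain ⟨hmem, hlen, -, -, -⟩ := gens_check
  simp only [List.all_eq_true, Bool.and_eq_true, Nat.beq_eq] at hmem
  have key : ∀ j < 2, ∃ g : ↥Spor.M22, Rep (g : Equiv.Perm GolayPt) ((chainPerm chain).getD j 0) := fun j hj => by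
    have hp := hmem ((chainPerm chain).getD j 0) (by
      rw [List.getD_eq_getElem _ _ (by omega)]; exact List.getElem_mem _)
    obtain ⟨σ, hσ, hr⟩ := exists_mem_M24 hp.1.1
    have h0 : σ none = none := ix_injective (by
      rw [← hr none]; exact hp.1.2)
    have h1 : σ (some 0) = some 0 := ix_injective (by
      rw [← hr (some 0)]; exact hp.2)
    exact ⟨⟨σ, ⟨hσ, h0⟩, h1⟩, hr⟩
  choose g hg using key
  exact ⟨fun j => if h : j < 2 then g j h else 1, fun j hj => by simp only [dif_pos hj]; exact hg j hj⟩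

theorem wval_eq_ev {M : Type*} [CommGroup M] (R : ℕ → M) : ∀ w : Word, wval R w = ev R (wexp vunit w)
  | [] => rfl
  | l :: w => by
    rw [wval_cons, wval_eq_ev R w, wexp, ev_vadd]
    obtain ⟨x, s⟩ := l
    cases s <;> simp [lett, ev_vneg, ev_vunit]

theorem topget {j : ℕ} (hj : j < 2) : (top : List Word).getD j [] = [(j, true)] := by
  rw [List.getD_eq_getElem _ _ (by simpa [top] using hj)]; simp [top]

theorem monOK_top {n m : ℕ} {l : ChainLevel} {ls : List ChainLevel} {d : List (List ℕ × List ℕ)}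
    (h : monOK n m (l :: ls) d = true) {j : ℕ} (hj : j < l.table.ngen) :
    monPairOK n m ((d.getD 0 ([], [])).1.getD j 0) ((d.getD 0 ([], [])).2.getD j 0) = true := by
  unfold monOK at h
  simp only [Bool.and_eq_true, List.all_eq_true, List.mem_range] at h
  exact h.1.1.1.1.1 j hj

theorem exists_mon {n m : ℕ} [NeZero m] {d : List (List ℕ × List ℕ)} (h : monOK n m chain d = true) :
    ∃ X : ℕ → monW n m, (∀ j < 2, RepM (X j).1 ((d.getD 0 ([], [])).1.getD j 0) ∧
      RepM ((X j)⁻¹).1 ((d.getD 0 ([], [])).2.getD j 0)) ∧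
      ∀ w ∈ chainRels chain top, wval X w ∈ Subgroup.zpowers (scalar n m) := by
  have key : ∀ j < 2, ∃ σ : monW n m, RepM σ.1 ((d.getD 0 ([], [])).1.getD j 0) ∧
      RepM (σ⁻¹).1 ((d.getD 0 ([], [])).2.getD j 0) := fun j hj =>
    exists_repM (monOK_top (l := M22Chain.level0) (ls := [M22Chain.level1, M22Chain.level2, M22Chain.level3]) h hj)
  choose X hX using key
  let Y : ℕ → monW n m := fun j => if h : j < 2 then X j h else 1
  have hY : ∀ j < 2, RepM (Y j).1 ((d.getD 0 ([], [])).1.getD j 0) ∧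
      RepM ((Y j)⁻¹).1 ((d.getD 0 ([], [])).2.getD j 0) := fun j hj => by
    simp only [Y, dif_pos hj]; exact hX j hj
  refine ⟨Y, hY, rels_scalar Y chain _ d h (gens_check.2.2.1.trans (by simp [top])) fun j hj => ?_⟩
  have hj' : j < 2 := by simpa [top] using hj
  rw [topget hj', show wval Y [(j, true)] = Y j by simp [wval, lett]]
  exact hY j hj'

theorem scalar_pow_self {n m : ℕ} [NeZero m] : scalar n m ^ m = 1 := by
  refine Subtype.ext (Equiv.ext fun e => Fin.ext ?_)
  rw [SubmonoidClass.coe_pow]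
  show ((labShift n m ^ m) e : ℕ) = e
  rw [labShift_pow, shiftLab_self (NeZero.pos m)]

theorem scalar_eval {n m : ℕ} [NeZero m] (hn : 0 < n) (k : ℕ) :
    ((scalar n m ^ k).1 ⟨0, Nat.mul_pos hn (NeZero.pos m)⟩ : ℕ) = k % m := by
  rw [SubmonoidClass.coe_pow]
  show ((labShift n m ^ k) _ : ℕ) = _
  rw [labShift_pow]
  show 0 / m * m + (0 + k) % m = k % m
  simp

theorem card_scalars {n m : ℕ} [NeZero m] : Nat.card (Subgroup.zpowers (scalar n m)) ≤ m := by
  rw [Nat.card_zpowers]
  exact Nat.le_of_dvd (NeZero.pos m) (orderOf_dvd_of_pow_eq_one scalar_pow_self)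

/-- a power of a scalar with value one at the first point is trivial only for multiples of the modulus -/
theorem dvd_of_pow_eq_one {n m : ℕ} [NeZero m] (hn : 0 < n) {y : monW n m}
    (hy : y ∈ Subgroup.zpowers (scalar n m)) {c k : ℕ} (hc : Nat.Coprime c m)
    (he : (y.1 ⟨0, Nat.mul_pos hn (NeZero.pos m)⟩ : ℕ) = c) (hk : y ^ k = 1) : m ∣ k := by
  rw [← mem_powers_iff_mem_zpowers] at hy
  obtain ⟨i, rfl⟩ := hy
  simp only [scalar_eval hn] at he
  rw [← pow_mul] at hk
  have h := congrArg (fun y : monW n m => (y.1 ⟨0, Nat.mul_pos hn (NeZero.pos m)⟩ : ℕ)) hk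
  simp only [scalar_eval hn] at h
  change i * k % m = 0 at h
  have h2 : m ∣ c * k := by
    rw [Nat.dvd_iff_mod_eq_zero, ← he, ← Nat.mul_mod_mod] at *
    rw [Nat.mod_mul_mod, Nat.mul_mod_mod]
    simpa using h
  exact (Nat.Coprime.symm hc).dvd_of_dvd_mul_left h2

theorem exists_cover : ∃ (Γ : Type) (_ : Group Γ) (_ : Finite Γ) (τ : Γ →* ↥Spor.M22),
    Cfsg.IsStemExtension τ ∧ IsCyclic τ.ker ∧ Nat.card τ.ker = 12 := by
  classical
  obtain ⟨-, hlen, hgenlen, hsize, -⟩ := gens_check
  obtain ⟨hwv, hwe, hwi, hw3, hw4, hinv⟩ := word_check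
  simp only [List.all_eq_true, decide_eq_true_eq] at hwv
  obtain ⟨a, ha⟩ := exists_gens
  obtain ⟨X, hX, hXrel⟩ := exists_mon three_check
  obtain ⟨Y, hY, hYrel⟩ := exists_mon four_check
  have hG : Spor.M22 ≤ M24 := fun g hg => hg.1.1
  have htl : (top : List Word).length = 2 := by simp [top]
  have hb : ∀ j < 2, wval a ((top : List Word).getD j []) = a j := fun j hj => by
    rw [topget hj]; simp [wval, lett]
  obtain ⟨harel, hsz⟩ := chain_perms hG a chain top M22Chain.perms_check (by rw [hlen, htl]) fun j hj => by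
    rw [htl] at hj; rw [hb j hj]; exact ha j hj
  have hgen : Subgroup.closure (a '' Set.Iio 2) = ⊤ := by
    refine Subgroup.eq_top_of_le_card _ ?_
    rw [card_sporM22, ← hsize]
    have : (fun j => wval a ((top : List Word).getD j [])) '' Set.Iio (top : List Word).length = a '' Set.Iio 2 := by
      rw [htl]; exact Set.image_congr fun j hj => hb j hj
    rwa [this] at hsz
  have hcard : Nat.card ↥Spor.M22 = chainSize chain := by rw [card_sporM22, hsize]
  have hpres : ∀ {H : Type} [Group H] (b : ℕ → H), (∀ w ∈ chainRels chain top, wval b w = 1) →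
      ∀ w : Word, (∀ l ∈ w, l.1 < 2) → wval a w = 1 → wval b w = 1 := fun b hb w hw h1 =>
    eq_one_of_present a b chain rows 2 hgenlen M22Chain.rows_check.1 M22Chain.tables_check hgen hcard harel hb w hw h1
  have hmk : ∀ (n m : ℕ) [NeZero m] (Z : ℕ → monW n m),
      (∀ w ∈ chainRels chain top, wval Z w ∈ Subgroup.zpowers (scalar n m)) →
      ∀ w : Word, (∀ l ∈ w, l.1 < 2) → wval a w = 1 → wval Z w ∈ Subgroup.zpowers (scalar n m) := by
    intro n m _ Z hZ w hw h1
    rw [← QuotientGroup.eq_one_iff]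
    have := hpres (fun j => (Z j : monW n m ⧸ Subgroup.zpowers (scalar n m))) (fun u hu => by
      rw [show (fun j => (Z j : monW n m ⧸ Subgroup.zpowers (scalar n m))) = QuotientGroup.mk' _ ∘ Z from rfl,
        ← map_wval]
      exact (QuotientGroup.eq_one_iff _).2 (hZ u hu)) w hw h1
    rwa [show (fun j => (Z j : monW n m ⧸ Subgroup.zpowers (scalar n m))) = QuotientGroup.mk' _ ∘ Z from rfl,
      ← map_wval] at this
  let c : ℕ → ↥Spor.M22 × (monW 231 3 × monW 1232 4) := fun j => (a j, X j, Y j)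
  let Γ : Subgroup (↥Spor.M22 × (monW 231 3 × monW 1232 4)) := Subgroup.closure (c '' Set.Iio 2)
  have hword : ∀ x ∈ Γ, ∃ w : Word, (∀ l ∈ w, l.1 < 2) ∧ wval c w = x := by
    intro x hx
    induction hx using Subgroup.closure_induction with
    | mem y hy =>
      obtain ⟨j, hj, rfl⟩ := hy
      exact ⟨[(j, true)], by simpa using hj, by simp [wval, lett]⟩
    | one => exact ⟨[], by simp, rfl⟩
    | mul y z _ _ ihy ihz =>
      obtain ⟨u, hu, rfl⟩ := ihy; obtain ⟨u', hu', rfl⟩ := ihz
      exact ⟨u ++ u', fun l hl => (List.mem_append.mp hl).elim (hu l) (hu' l), wval_append _ _ _⟩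
    | inv y _ ih =>
      obtain ⟨u, hu, rfl⟩ := ih
      refine ⟨winv u, fun l hl => ?_, wval_winv _ _⟩
      simp only [winv, List.mem_map, List.mem_reverse] at hl
      obtain ⟨l', hl', rfl⟩ := hl
      exact hu l' hl'
  have hc : ∀ w, wval c w = (wval a w, wval X w, wval Y w) := fun w => by
    refine Prod.ext ?_ (Prod.ext ?_ ?_)
    · show MonoidHom.fst _ _ (wval c w) = _
      rw [map_wval]; rfl
    · show ((MonoidHom.fst _ _).comp (MonoidHom.snd _ _)) (wval c w) = _
      rw [map_wval]; rfl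
    · show ((MonoidHom.snd _ _).comp (MonoidHom.snd _ _)) (wval c w) = _
      rw [map_wval]; rfl
  let τ : Γ →* ↥Spor.M22 := (MonoidHom.fst _ _).comp Γ.subtype
  have hker : ∀ x : Γ, x ∈ τ.ker → x.1.2.1 ∈ Subgroup.zpowers (scalar 231 3) ∧
      x.1.2.2 ∈ Subgroup.zpowers (scalar 1232 4) := by
    rintro ⟨x, hx⟩ hk
    obtain ⟨w, hw, rfl⟩ := hword x hx
    have h1 : wval a w = 1 := by
      have : (wval c w).1 = 1 := MonoidHom.mem_ker.1 hk
      rwa [hc] at this
    show (wval c w).2.1 ∈ _ ∧ (wval c w).2.2 ∈ _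
    rw [hc]
    exact ⟨hmk _ _ X hXrel w hw h1, hmk _ _ Y hYrel w hw h1⟩
  have hsurj : Function.Surjective τ := by
    rw [← MonoidHom.range_eq_top, eq_top_iff, ← hgen, Subgroup.closure_le]
    rintro _ ⟨j, hj, rfl⟩
    exact ⟨⟨c j, Subgroup.subset_closure ⟨j, hj, rfl⟩⟩, rfl⟩
  have hcent : τ.ker ≤ Subgroup.center Γ := fun x hx => by
    obtain ⟨h3, h4⟩ := hker x hx
    refine Subgroup.mem_center_iff.2 fun y => Subtype.ext (Prod.ext ?_ (Prod.ext ?_ ?_))
    · show y.1.1 * x.1.1 = x.1.1 * y.1.1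
      rw [show x.1.1 = 1 from MonoidHom.mem_ker.1 hx, one_mul, mul_one]
    · exact Subgroup.mem_center_iff.1 (scalar_central _ _ h3) _
    · exact Subgroup.mem_center_iff.1 (scalar_central _ _ h4) _
  have hle : Nat.card τ.ker ≤ 12 := by
    let f : τ.ker → Subgroup.zpowers (scalar 231 3) × Subgroup.zpowers (scalar 1232 4) := fun x =>
      (⟨_, (hker x.1 x.2).1⟩, ⟨_, (hker x.1 x.2).2⟩)
    have hf : Function.Injective f := fun x y e => by
      have e1 := congrArg (fun p => (p.1 : monW 231 3)) e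
      have e2 := congrArg (fun p => (p.2 : monW 1232 4)) e
      refine Subtype.ext (Subtype.ext (Prod.ext ?_ (Prod.ext e1 e2)))
      exact (MonoidHom.mem_ker.1 x.2).trans (MonoidHom.mem_ker.1 y.2).symm
    refine (Nat.card_le_card_of_injective f hf).trans ?_
    rw [Nat.card_prod]
    exact (Nat.mul_le_mul card_scalars card_scalars).trans (le_refl _)
  -- the word gives a generator
  have haInv : ∀ j < 2, Rep (((a j : ↥Spor.M22) : Equiv.Perm GolayPt))⁻¹
      (((chain.head?.map ChainLevel.pinv).getD []).getD j 0) := fun j hj =>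
    Rep.inv' (ha j hj) (forallLt_elim hinv hj)
  have h1 : wval a kerWord = 1 := by
    refine Subtype.ext (eq_one_of_fix_base (hG (wval a kerWord).2) fun i hi => ?_)
    have h24 : i < 24 := by revert hi; revert i; decide
    have h2 := wordImg_spec (b := a) ha haInv kerWord hwv (pt i)
    simp only [List.all_eq_true, Nat.beq_eq] at hwi
    rw [ix_pt h24, hwi i hi] at h2
    exact ix_injective (by rw [← h2, ix_pt h24])
  have hzΓ : wval c kerWord ∈ Γ := by
    refine Γ.list_prod_mem fun x hx => ?_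
    obtain ⟨l, hl, rfl⟩ := List.mem_map.1 hx
    have hmem : c l.1 ∈ Γ := Subgroup.subset_closure ⟨l.1, hwv l hl, rfl⟩
    obtain ⟨x, s⟩ := l
    cases s
    · exact inv_mem hmem
    · exact hmem
  let z : Γ := ⟨wval c kerWord, hzΓ⟩
  have hz : z ∈ τ.ker := MonoidHom.mem_ker.2 (show (wval c kerWord).1 = 1 by rw [hc]; exact h1)
  have hord : ∀ k : ℕ, z ^ k = 1 → 12 ∣ k := fun k hk => by
    obtain ⟨h3, h4⟩ := hker z hz
    have e := congrArg (fun y : Γ => y.1) hk
    simp only [SubmonoidClass.coe_pow, OneMemClass.coe_one] at e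
    have ez : z.1 = (wval a kerWord, wval X kerWord, wval Y kerWord) := hc kerWord
    rw [ez] at h3 h4 e
    have d3 : 3 ∣ k := dvd_of_pow_eq_one (n := 231) (by norm_num) h3 (c := 1) (by norm_num)
      ((meval_spec (fun j hj => (hX j hj).1) (fun j hj => (hX j hj).2) kerWord hwv ⟨0, by norm_num⟩).symm.trans hw3)
      (congrArg (fun p => p.2.1) e)
    have d4 : 4 ∣ k := dvd_of_pow_eq_one (n := 1232) (by norm_num) h4 (c := 3) (by norm_num)
      ((meval_spec (fun j hj => (hY j hj).1) (fun j hj => (hY j hj).2) kerWord hwv ⟨0, by norm_num⟩).symm.trans hw4)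
      (congrArg (fun p => p.2.2) e)
    omega
  have hzcard : 12 ≤ Nat.card (Subgroup.zpowers z) := by
    rw [Nat.card_zpowers]
    exact Nat.le_of_dvd (orderOf_pos z) (hord _ (pow_orderOf_eq_one z))
  have heq : Subgroup.zpowers z = τ.ker :=
    Subgroup.eq_of_le_of_card_ge (Subgroup.zpowers_le.2 hz) (hle.trans hzcard)
  have hzcomm : z ∈ commutator Γ := by
    rw [← Abelianization.ker_of, MonoidHom.mem_ker]
    let b : ℕ → Γ := fun j => if h : j < 2 then ⟨c j, Subgroup.subset_closure ⟨j, h, rfl⟩⟩ else 1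
    have hzb : z = wval b kerWord := by
      refine Subtype.ext ?_
      show wval c kerWord = Γ.subtype (wval b kerWord)
      rw [map_wval]
      refine congrArg List.prod (List.map_congr_left fun l hl => ?_)
      have hl2 : l.1 ≤ 1 := Nat.lt_succ_iff.1 (hwv l hl)
      simp [lett, b, hl2]
    rw [hzb, map_wval, wval_eq_ev, ev_eq_of_veq hwe]
    rfl
  refine ⟨Γ, inferInstance, inferInstance, τ, ⟨hsurj, hcent, ?_⟩, ?_, ?_⟩
  · rw [← heq]; exact Subgroup.zpowers_le.2 hzcomm
  · rw [← heq]; infer_instance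
  · exact le_antisymm hle (heq ▸ hzcard)

theorem multiplier_twelve : Cfsg.HasCyclicSchurMultiplier ↥Spor.M22 12 := by
  obtain ⟨Γ, _, _, τ, hτ, hcyc, hcard⟩ := exists_cover
  refine CfsgLib.Schur.hasSchurMultiplier_of_witness τ hτ
    (mulEquivOfCyclicCardEq (by rw [hcard]; simp)) fun Δ _ _ σ hσ => ?_
  obtain ⟨-, hlen, hgen, hsize, hbound⟩ := gens_check
  obtain ⟨a, ha⟩ := exists_gens
  have h := card_ker_le_of_chain (G := Spor.M22) (fun g hg => hg.1.1) chain lin rows 2
    (fun j hj => ⟨a j, ha j hj⟩) hlen hgen M22Chain.perms_check M22Chain.rows_check.1 M22Chain.tables_check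
    (M22Chain.rows_check.2.trans (by decide +kernel)) (card_sporM22.trans hsize.symm) M22Chain.lin_check σ hσ
  rw [hbound] at h
  simpa using h

end CfsgLib.Sporadic.M22Mult
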