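import Cfsg.Agent.Lib.Sporadic.Families

/-!
# The structure of a sextet stabiliser
-/

set_option autoImplicit false

namespace CfsgLib.Sporadic

open Cfsg MulAction
open scoped Pointwise

/-- The action of the stabiliser of a family on its members. -/
def famAction (S : Finset (Finset GolayPt)) : ↥(stabilizer ↥M24 S) →* Equiv.Perm ↥S where
  toFun g :=
    { toFun := fun t => ⟨(g : ↥M24) • (t : Finset GolayPt), by
        have := Finset.smul_mem_smul_finset (a := (g : ↥M24)) t.2
        rwa [mem_stabilizer_iff.1 g.2] at this⟩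
      invFun := fun t => ⟨(g : ↥M24)⁻¹ • (t : Finset GolayPt), by
        have := Finset.smul_mem_smul_finset (a := (g : ↥M24)⁻¹) t.2
        rwa [mem_stabilizer_iff.1 (inv_mem g.2)] at this⟩
      left_inv := fun t => Subtype.ext (inv_smul_smul _ _)
      right_inv := fun t => Subtype.ext (smul_inv_smul _ _) }
  map_one' := Equiv.ext fun _ => Subtype.ext (one_smul _ _)
  map_mul' a b := Equiv.ext fun t => Subtype.ext (mul_smul (a : ↥M24) (b : ↥M24) (t : Finset GolayPt))

theorem famAction_eq_one {S : Finset (Finset GolayPt)} {g : ↥(stabilizer ↥M24 S)} :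
    famAction S g = 1 ↔ ∀ t ∈ S, (g : ↥M24) • t = t :=
  ⟨fun h t ht => congrArg (fun e : Equiv.Perm ↥S => (e ⟨t, ht⟩ : Finset GolayPt)) h,
    fun h => Equiv.ext fun t => Subtype.ext (h t t.2)⟩

noncomputable def swapsCheck : Bool :=
  sextetSwaps.all isAut && sextetRoot.all fun a => sextetRoot.all fun b =>
    sextetSwaps.any fun p => sextetRoot.all fun c =>
      Nat.beq (mimg p c) (cond (Nat.beq c a) b (cond (Nat.beq c b) a c)) || Nat.beq a b

theorem swaps_check : swapsCheck = true := by decide +kernel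

theorem famAction_surj_std : Function.Surjective (famAction (toQ sextetRoot)) := by
  have hlt := (toQ_sextet sextetRoot_ok.1).2
  have hsw : ∀ x y : ↥(toQ sextetRoot), x ≠ y → Equiv.swap x y ∈ (famAction (toQ sextetRoot)).range := by
    rintro ⟨x, hx⟩ ⟨y, hy⟩ hne
    have h := swaps_check
    simp only [swapsCheck, Bool.and_eq_true, List.all_eq_true, List.any_eq_true, Bool.or_eq_true,
      Nat.beq_eq] at h
    obtain ⟨p, hp, hc⟩ := h.2 _ ((mem_toQ hlt).1 hx) _ ((mem_toQ hlt).1 hy)
    obtain ⟨g, hr⟩ := exists_M24_elt (h.1 p hp)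
    have hxy : maskOf x ≠ maskOf y := fun e => hne (Subtype.ext (maskOf_injective e))
    have key : ∀ c ∈ toQ sextetRoot, g • c = if c = x then y else if c = y then x else c := by
      intro c hcm
      have e := (hc _ ((mem_toQ hlt).1 hcm)).resolve_right hxy
      conv_lhs => rw [← setOfMask_maskOf c]
      refine (smul_setOfMask hr (maskOf c)).trans ?_
      rw [e]
      by_cases h1 : c = x
      · subst h1; rw [if_pos rfl, Nat.beq_refl, cond_true, setOfMask_maskOf]
      rw [if_neg h1, show Nat.beq (maskOf c) (maskOf x) = false from by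
        rw [Bool.eq_false_iff, ne_eq, Nat.beq_eq]; exact fun e => h1 (maskOf_injective e), cond_false]
      by_cases h2 : c = y
      · subst h2; rw [if_pos rfl, Nat.beq_refl, cond_true, setOfMask_maskOf]
      rw [if_neg h2, show Nat.beq (maskOf c) (maskOf y) = false from by
        rw [Bool.eq_false_iff, ne_eq, Nat.beq_eq]; exact fun e => h2 (maskOf_injective e), cond_false,
        setOfMask_maskOf]
    have hmem : g ∈ stabilizer ↥M24 (toQ sextetRoot) := by
      rw [mem_stabilizer_iff]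
      refine Finset.eq_of_subset_of_card_le (fun z hz => ?_) (by rw [Finset.card_smul_finset])
      obtain ⟨c, hcm, rfl⟩ := Finset.mem_smul_finset.1 hz
      rw [key c hcm]
      split_ifs <;> assumption
    refine ⟨⟨g, hmem⟩, Equiv.ext fun c => Subtype.ext ?_⟩
    show g • (c : Finset GolayPt) = _
    rw [key _ c.2]
    by_cases h1 : c = ⟨x, hx⟩
    · subst h1; simp
    by_cases h2 : c = ⟨y, hy⟩
    · subst h2
      rw [if_neg (fun e => hne (Subtype.ext e).symm), if_pos rfl, Equiv.swap_apply_right]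
    · rw [Equiv.swap_apply_of_ne_of_ne h1 h2, if_neg (fun e => h1 (Subtype.ext e)),
        if_neg (fun e => h2 (Subtype.ext e))]
  intro e
  induction e using Equiv.Perm.swap_induction_on with
  | one => exact ⟨1, map_one _⟩
  | swap_mul f x y hne ih =>
    obtain ⟨a, ha⟩ := ih
    obtain ⟨b, hb⟩ := hsw x y hne
    exact ⟨b * a, by rw [map_mul, ha, hb]⟩

/-- The elements fixing every tetrad of the standard sextet. -/
def sextetKer : Subgroup ↥M24 := ((famAction (toQ sextetRoot)).ker).map (stabilizer ↥M24 (toQ sextetRoot)).subtype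

theorem card_sextetKer : Nat.card ↥sextetKer = 192 := by
  have h0 := toQ_sextet sextetRoot_ok.1
  rw [sextetKer, Nat.card_congr (Subgroup.equivMapOfInjective _ _ (Subgroup.subtype_injective _)).toEquiv.symm]
  have h := (famAction (toQ sextetRoot)).ker.card_mul_index
  have hst : Nat.card ↥(stabilizer ↥M24 (toQ sextetRoot)) = 138240 :=
    card_stabilizer_of_orbit _ sextets (fun g => smul_mem_sextets g h0.1)
      (fun _ hS => exists_smul_sextet h0.1 hS) sextets_ncard (by norm_num)
  rw [Subgroup.index_ker, MonoidHom.range_eq_top.2 famAction_surj_std, Subgroup.card_top, Nat.card_perm,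
    Nat.card_eq_fintype_card (α := ↥(toQ sextetRoot)), Fintype.card_coe, h0.1.1, hst,
    show Nat.factorial 6 = 720 from rfl] at h
  exact Nat.eq_of_mul_eq_mul_right (by norm_num) (h.trans (by norm_num : (138240 : ℕ) = 192 * 720))

theorem mem_sextetKer {g : ↥M24} : g ∈ sextetKer ↔ ∀ t ∈ toQ sextetRoot, g • t = t := by
  constructor
  · rintro ⟨h, hk, rfl⟩
    exact famAction_eq_one.1 hk
  · intro h
    have hmem : g ∈ stabilizer ↥M24 (toQ sextetRoot) := by
      rw [mem_stabilizer_iff]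
      refine Finset.eq_of_subset_of_card_le (fun z hz => ?_) (by rw [Finset.card_smul_finset])
      obtain ⟨c, hcm, rfl⟩ := Finset.mem_smul_finset.1 hz
      rwa [h c hcm]
    exact ⟨⟨g, hmem⟩, famAction_eq_one.2 h, rfl⟩

noncomputable def addThree (a b : ℕ) : ℕ := (a + b) % 3

theorem sextetKerGens_in : GensIn sextetKer (sextetKerGens.map Prod.fst) :=
  gensIn_of (by decide +kernel) fun p hp g hg => mem_sextetKer.2 fun t ht => by
    have hlt := (toQ_sextet sextetRoot_ok.1).2
    have h : ∀ p ∈ sextetKerGens.map Prod.fst, ∀ v ∈ sextetRoot, mimg p v = v := by decide +kernel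
    rw [mem_toQ hlt] at ht
    rw [← setOfMask_maskOf t]
    exact (smul_setOfMask hg (maskOf t)).trans (by rw [h p hp _ ht])

noncomputable def sextetKerWalk : List (ℕ × ℕ) :=
  walk (stepPair addThree sextetKerGens) sextetKerOps (pone, 0)

set_option maxRecDepth 100000 in
theorem sextetKerWalk_ok : enumOK addThree sextetKerGens sextetKerWalk 192 = true := by decide +kernel

set_option maxRecDepth 100000 in
theorem sextetKerWalk_sq : ∀ x ∈ sextetKerWalk, ((x.2 : ZMod 3) = 0 ↔ pmul x.1 x.1 = pone) := by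
  decide +kernel

theorem sextetKerWalk_onto : ∀ z : ZMod 3, ∃ x ∈ sextetKerWalk, (x.2 : ZMod 3) = z := by decide +kernel

theorem exists_sextet_nine : ∃ φ : ↥sextetKer →* Multiplicative (ZMod 3), Function.Surjective φ ∧
    ∀ g, φ g = 1 ↔ g * g = 1 := by
  obtain ⟨φ, hφ⟩ := exists_hom (fun n : ℕ => Multiplicative.ofAdd (n : ZMod 3)) sextetKerGens_in
    card_sextetKer sextetKerWalk_ok (by simp) (fun x _ s _ => by
      show Multiplicative.ofAdd (((x.2 + s.2) % 3 : ℕ) : ZMod 3) = _
      rw [ZMod.natCast_mod, Nat.cast_add]; rfl)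
  refine ⟨φ, fun z => ?_, fun g => ?_⟩
  · obtain ⟨x, hx, e⟩ := sextetKerWalk_onto (Multiplicative.toAdd z)
    obtain ⟨g, -, eg⟩ := hφ x hx
    exact ⟨g, by rw [eg]; exact congrArg Multiplicative.ofAdd e⟩
  · obtain ⟨x, hx, e⟩ := exists_entry sextetKerGens_in card_sextetKer sextetKerWalk_ok g g.2
    obtain ⟨g', e', eg⟩ := hφ x hx
    have : g' = g := Subtype.ext (Subtype.ext (packImage_injective (e'.trans e)))
    subst this
    rw [eg, show (Multiplicative.ofAdd (x.2 : ZMod 3) = 1 ↔ (x.2 : ZMod 3) = 0) from Iff.rfl,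
      sextetKerWalk_sq x hx, e, pmul_packImage (rep_packImage _) (rep_packImage _), ← packImage_one]
    exact ⟨fun h => Subtype.ext (Subtype.ext (packImage_injective h)),
      fun h => congrArg packImage (congrArg (fun z : ↥sextetKer => ((z : ↥M24) : Equiv.Perm GolayPt)) h)⟩

theorem card_sextet_two :
    {g : ↥M24 | (∀ t ∈ toQ sextetRoot, g • t = t) ∧ g * g = 1}.ncard = 64 := by
  obtain ⟨φ, hs, hk⟩ := exists_sextet_nine
  have h := φ.ker.card_mul_index
  rw [Subgroup.index_ker, MonoidHom.range_eq_top.2 hs, Subgroup.card_top, card_sextetKer,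
    Nat.card_congr (Multiplicative.toAdd (α := ZMod 3)), Nat.card_zmod] at h
  have : {g : ↥M24 | (∀ t ∈ toQ sextetRoot, g • t = t) ∧ g * g = 1} =
      (fun g : ↥sextetKer => (g : ↥M24)) '' (φ.ker : Set ↥sextetKer) := by
    ext g
    constructor
    · rintro ⟨h1, h2⟩
      exact ⟨⟨g, mem_sextetKer.2 h1⟩, (hk _).2 (Subtype.ext h2), rfl⟩
    · rintro ⟨g, hg, rfl⟩
      exact ⟨mem_sextetKer.1 g.2, congrArg Subtype.val ((hk g).1 hg)⟩
  rw [this, Set.ncard_image_of_injective _ Subtype.val_injective, ← Nat.card_coe_set_eq]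
  change Nat.card ↥φ.ker = 64
  omega

theorem sextet_structure {S : Finset (Finset GolayPt)} (hS : S ∈ sextets) :
    (∀ e : Equiv.Perm ↥S, ∃ g ∈ stabilizer ↥M24 S, ∀ t : ↥S,
      (g : Equiv.Perm GolayPt) • (t : Finset GolayPt) = ((e t : ↥S) : Finset GolayPt)) ∧
    Nat.card {g : ↥(stabilizer ↥M24 S) // ∀ t ∈ S, ((g : ↥M24) : Equiv.Perm GolayPt) • t = t} = 192 ∧
    ∃ N : Subgroup ↥(stabilizer ↥M24 S), N.Normal ∧ Nat.card N = 64 ∧ ∀ x ∈ N, x * x = 1 := by
  obtain ⟨t, rfl⟩ := exists_smul_sextet (toQ_sextet sextetRoot_ok.1).1 hS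
  have hfix : ∀ g : ↥M24, (∀ u ∈ t • toQ sextetRoot, g • u = u) ↔ t⁻¹ * g * t ∈ sextetKer := fun g => by
    rw [mem_sextetKer]
    constructor
    · intro h u hu
      rw [mul_smul, mul_smul, h _ (Finset.smul_mem_smul_finset hu), inv_smul_smul]
    · intro h u hu
      obtain ⟨v, hv, rfl⟩ := Finset.mem_smul_finset.1 hu
      have := congrArg (t • ·) (h v hv)
      simpa [mul_smul] using this
  refine ⟨fun e => ?_, ?_, ?_⟩
  · let ι : ↥(toQ sextetRoot) ≃ ↥(t • toQ sextetRoot) :=
      (MulAction.toPerm t).subtypeEquiv fun u => Finset.smul_mem_smul_finset_iff t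
        |>.symm
    obtain ⟨g, hg⟩ := famAction_surj_std (ι.trans (e.trans ι.symm))
    refine ⟨t * g.1 * t⁻¹, (stab_conj t).2 g.2, fun u => ?_⟩
    obtain ⟨v, hv, ev⟩ := Finset.mem_smul_finset.1 u.2
    have hu : ι ⟨v, hv⟩ = u := Subtype.ext ev
    have h := congrArg (fun f : Equiv.Perm ↥(toQ sextetRoot) => ι (f ⟨v, hv⟩)) hg
    simp only [Equiv.trans_apply, Equiv.apply_symm_apply, hu] at h
    show (t * g.1 * t⁻¹) • (u : Finset GolayPt) = _
    rw [← h, ← ev, mul_smul, mul_smul, inv_smul_smul]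
    rfl
  · refine (Nat.card_congr ?_).trans card_sextetKer
    exact
      { toFun := fun g => ⟨t⁻¹ * g.1.1 * t, (hfix _).1 g.2⟩
        invFun := fun g => ⟨⟨t * g.1 * t⁻¹, (stab_conj t).2 (by
          obtain ⟨h, -, e⟩ := g.2; rw [← e]; exact h.2)⟩,
          (hfix _).2 (by rw [show t⁻¹ * (t * g.1 * t⁻¹) * t = g.1 by group]; exact g.2)⟩
        left_inv := fun g => Subtype.ext (Subtype.ext (by
          show t * (t⁻¹ * g.1.1 * t) * t⁻¹ = g.1.1; group))
        right_inv := fun g => Subtype.ext (by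
          show t⁻¹ * (t * g.1 * t⁻¹) * t = g.1; group) }
  · obtain ⟨φ, -, hk⟩ := exists_sextet_nine
    let st := stabilizer ↥M24 (t • toQ sextetRoot)
    let N : Subgroup ↥st :=
      { carrier := {g | (t⁻¹ * g.1 * t ∈ sextetKer) ∧ g * g = 1}
        one_mem' := ⟨by simp, one_mul 1⟩
        mul_mem' := by
          rintro a b ⟨ha, ha2⟩ ⟨hb, hb2⟩
          have e : t⁻¹ * (a * b).1 * t = (t⁻¹ * a.1 * t) * (t⁻¹ * b.1 * t) := by
            rw [Subgroup.coe_mul]; group
          refine ⟨e ▸ mul_mem ha hb, ?_⟩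
          have sq : ∀ c : ↥st, c * c = 1 → ∀ hc : t⁻¹ * c.1 * t ∈ sextetKer,
              φ ⟨_, hc⟩ = 1 := fun c hc2 hc => (hk _).2 (Subtype.ext (by
            show t⁻¹ * c.1 * t * (t⁻¹ * c.1 * t) = 1
            rw [show t⁻¹ * c.1 * t * (t⁻¹ * c.1 * t) = t⁻¹ * (c * c).1 * t by
              rw [Subgroup.coe_mul]; group, hc2, Subgroup.coe_one]
            group))
          have h1 := (hk (⟨_, ha⟩ * ⟨_, hb⟩)).1 (by rw [map_mul, sq a ha2 ha, sq b hb2 hb, one_mul])
          refine Subtype.ext ?_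
          have h2 := congrArg (fun z : ↥sextetKer => t * (z : ↥M24) * t⁻¹) h1
          simp only [Subgroup.coe_mul, Subgroup.coe_one, mul_one, mul_inv_cancel] at h2
          rw [Subgroup.coe_mul, Subgroup.coe_mul, Subgroup.coe_one, ← h2]
          group
        inv_mem' := by
          rintro a ⟨ha, ha2⟩
          refine ⟨?_, by rw [← mul_inv_rev, ha2, inv_one]⟩
          have e : t⁻¹ * (a⁻¹).1 * t = (t⁻¹ * a.1 * t)⁻¹ := by rw [Subgroup.coe_inv]; group
          exact e ▸ inv_mem ha }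
    refine ⟨N, ⟨fun n ⟨hn, hn2⟩ g => ⟨?_, ?_⟩⟩, ?_, fun x hx => hx.2⟩
    · rw [← hfix]
      intro u hu
      have hu' : (g.1)⁻¹ • u ∈ t • toQ sextetRoot := by
        have := Finset.smul_mem_smul_finset (a := (g.1)⁻¹) hu
        rwa [mem_stabilizer_iff.1 (inv_mem g.2)] at this
      show (g.1 * n.1 * g.1⁻¹) • u = u
      rw [mul_smul, mul_smul, (hfix n.1).2 hn _ hu', smul_inv_smul]
    · calc g * n * g⁻¹ * (g * n * g⁻¹) = g * (n * n) * g⁻¹ := by group
        _ = 1 := by rw [hn2]; group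
    · rw [← card_sextet_two]
      refine Nat.card_eq_of_bijective (fun g => (⟨t⁻¹ * g.1.1 * t, mem_sextetKer.1 g.2.1, ?_⟩ :
        {g : ↥M24 | (∀ u ∈ toQ sextetRoot, g • u = u) ∧ g * g = 1})) ⟨?_, ?_⟩
      · rw [show t⁻¹ * g.1.1 * t * (t⁻¹ * g.1.1 * t) = t⁻¹ * (g.1 * g.1).1 * t by
          rw [Subgroup.coe_mul]; group, g.2.2, Subgroup.coe_one]
        group
      · intro a b e
        have := congrArg Subtype.val e
        simp only at this
        exact Subtype.ext (Subtype.ext (mul_left_cancel (mul_right_cancel this)))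
      · rintro ⟨g, h1, h2⟩
        refine ⟨⟨⟨t * g * t⁻¹, (stab_conj t).2 ?_⟩, ?_, Subtype.ext ?_⟩, Subtype.ext ?_⟩
        · obtain ⟨h, -, e⟩ := mem_sextetKer.2 h1; rw [← e]; exact h.2
        · show t⁻¹ * (t * g * t⁻¹) * t ∈ sextetKer
          rw [show t⁻¹ * (t * g * t⁻¹) * t = g by group]; exact mem_sextetKer.2 h1
        · show t * g * t⁻¹ * (t * g * t⁻¹) = 1
          calc t * g * t⁻¹ * (t * g * t⁻¹) = t * (g * g) * t⁻¹ := by group
            _ = 1 := by rw [h2]; group
        · show t⁻¹ * (t * g * t⁻¹) * t = g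
          group

end CfsgLib.Sporadic
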