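import Cfsg.Agent.Lib.Sporadic.MathieuTwoData
import Cfsg.Agent.Lib.Sporadic.OctadStab
import Cfsg.Agent.Lib.Sporadic.SextetStab
import Cfsg.Agent.Lib.Sporadic.SporMathieu

/-!
# Involutions of M24 and their centralizers

An involution of M24 fixes the points of an octad or fixes no point and stabilises all six
tetrads of exactly one sextet; in either case its centralizer normalises a self-centralizing
elementary abelian 2-group.
-/

set_option autoImplicit false

namespace CfsgLib.Sporadic

open Cfsg MulAction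
open scoped Pointwise

/-! ### a Sylow 2-subgroup -/

/-- Doubling a list by a left factor. -/
noncomputable def stepList (L : List ℕ) (g : ℕ) : List ℕ := L ++ L.map (pmul g)

/-- The list of the group of a polycyclic series. -/
noncomputable def serList : List (ℕ × ℕ × List ℕ) → List ℕ → List ℕ :=
  List.rec (fun L => L) (fun x _ ih L => ih (stepList L x.1))

/-- The checks for a polycyclic series. -/
noncomputable def serOK : List (ℕ × ℕ × List ℕ) → List ℕ → List ℕ → Bool :=
  List.rec (fun _ _ => true) (fun x _ ih gs L =>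
    isAut x.1 && Nat.beq (pmul x.1 pone) x.1 && L.any (fun h => Nat.beq h (pmul x.1 x.1)) &&
      forallLt gs.length (fun i =>
        match L[x.2.2.getD i 0]?, gs[i]? with
        | some h, some s => Nat.beq (pmul x.1 s) (pmul h x.1)
        | _, _ => false) &&
      ih (gs ++ [x.1]) (stepList L x.1))

theorem serOK_spec : ∀ (ser : List (ℕ × ℕ × List ℕ)) (gs L : List ℕ), serOK ser gs L = true →
    ∀ H : Subgroup ↥M24, (∀ g, g ∈ H ↔ packG g ∈ L) → (∀ v ∈ L, ∃ g : ↥M24, packG g = v) →
      H ≤ Subgroup.closure {g | packG g ∈ gs} → (∀ g : ↥M24, packG g ∈ gs → g ∈ H) →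
      ∃ K : Subgroup ↥M24, (∀ g, g ∈ K ↔ packG g ∈ serList ser L) ∧
        ∀ v ∈ serList ser L, ∃ g : ↥M24, packG g = v := by
  intro ser
  induction ser with
  | nil => exact fun gs L _ H hH hL _ _ => ⟨H, hH, hL⟩
  | cons x rest ih =>
    intro gs L hok H hH hL hle hge
    replace hok : (isAut x.1 && Nat.beq (pmul x.1 pone) x.1 &&
      L.any (fun h => Nat.beq h (pmul x.1 x.1)) &&
      forallLt gs.length (fun i =>
        match L[x.2.2.getD i 0]?, gs[i]? with
        | some h, some s => Nat.beq (pmul x.1 s) (pmul h x.1)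
        | _, _ => false) && serOK rest (gs ++ [x.1]) (stepList L x.1)) = true := hok
    simp only [Bool.and_eq_true, List.any_eq_true, Nat.beq_eq] at hok
    obtain ⟨⟨⟨⟨haut, hcan⟩, hsq⟩, hcj⟩, hrest⟩ := hok
    obtain ⟨g, hg⟩ := exists_M24_elt haut
    have hgp : packG g = x.1 := by
      rw [← hcan, pmul_packImage hg Rep.one, mul_one]
    have hmulp : ∀ a b : ↥M24, packG (a * b) = pmul (packG a) (packG b) := fun a b =>
      (pmul_packImage (rep_packImage _) (rep_packImage _)).symm
    have hinj : Function.Injective packG := fun a b e => Subtype.ext (packImage_injective e)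
    have hg2 : g * g ∈ H := by
      obtain ⟨h, hh, e⟩ := hsq
      rw [hH, hmulp, hgp, ← e]
      exact hh
    have hconj : ∀ a ∈ H, g * a * g⁻¹ ∈ H := by
      intro a ha
      have hcl : Subgroup.closure {b : ↥M24 | packG b ∈ gs} ≤
          H.comap (MulAut.conj g).toMonoidHom := by
        rw [Subgroup.closure_le]
        intro b hb
        obtain ⟨i, hi, he⟩ := List.getElem_of_mem hb
        have hc := forallLt_elim hcj hi
        rw [List.getElem?_eq_getElem hi] at hc
        cases hh : L[x.2.2.getD i 0]? with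
        | none => rw [hh] at hc; exact absurd hc (by simp)
        | some h =>
          rw [hh] at hc
          simp only [Nat.beq_eq] at hc
          obtain ⟨c, hc'⟩ := hL h (List.mem_of_getElem? hh)
          have e : g * b = c * g := hinj (by rw [hmulp, hmulp, hgp, hc', ← he]; exact hc)
          show g * b * g⁻¹ ∈ H
          rw [e, mul_inv_cancel_right, hH, hc']
          exact List.mem_of_getElem? hh
      exact hcl (hle ha)
    have hconj' : ∀ a ∈ H, g⁻¹ * a * g ∈ H := by
      intro a ha
      have := hconj _ (mul_mem (mul_mem (inv_mem hg2) ha) hg2)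
      rwa [show g * ((g * g)⁻¹ * a * (g * g)) * g⁻¹ = g⁻¹ * a * g by group] at this
    let K : Subgroup ↥M24 :=
      { carrier := {a | a ∈ H ∨ g⁻¹ * a ∈ H}
        one_mem' := Or.inl (one_mem H)
        mul_mem' := by
          rintro a b (ha | ha) (hb | hb)
          · exact Or.inl (mul_mem ha hb)
          · refine Or.inr ?_
            have := mul_mem (hconj' a ha) hb
            rwa [show g⁻¹ * a * g * (g⁻¹ * b) = g⁻¹ * (a * b) by group] at this
          · refine Or.inr ?_
            have := mul_mem ha hb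
            rwa [mul_assoc] at this
          · refine Or.inl ?_
            have := mul_mem (mul_mem hg2 (hconj' _ ha)) hb
            rwa [show g * g * (g⁻¹ * (g⁻¹ * a) * g) * (g⁻¹ * b) = a * b by group] at this
        inv_mem' := by
          rintro a (ha | ha)
          · exact Or.inl (inv_mem ha)
          · refine Or.inr ?_
            have := mul_mem (inv_mem hg2) (hconj _ (inv_mem ha))
            rwa [show (g * g)⁻¹ * (g * (g⁻¹ * a)⁻¹ * g⁻¹) = g⁻¹ * a⁻¹ by group] at this }
    have hKmem : ∀ a, a ∈ K ↔ a ∈ H ∨ g⁻¹ * a ∈ H := fun a => Iff.rfl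
    refine ih (gs ++ [x.1]) (stepList L x.1) hrest K (fun a => ?_) (fun v hv => ?_) ?_ ?_
    · rw [hKmem, stepList, List.mem_append, List.mem_map, hH]
      refine or_congr Iff.rfl ⟨fun h => ⟨_, (hH _).mp h, ?_⟩, ?_⟩
      · rw [← hgp, ← hmulp, mul_inv_cancel_left]
      · rintro ⟨v, hv, e⟩
        obtain ⟨b, rfl⟩ := hL v hv
        have : a = g * b := hinj (by rw [← e, hmulp, hgp])
        rw [this, inv_mul_cancel_left, hH]
        exact hv
    · rw [stepList, List.mem_append, List.mem_map] at hv
      rcases hv with hv | ⟨w, hw, rfl⟩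
      · exact hL v hv
      · obtain ⟨b, rfl⟩ := hL w hw
        exact ⟨g * b, by rw [hmulp, hgp]⟩
    · intro a ha
      have hmono : Subgroup.closure {b : ↥M24 | packG b ∈ gs} ≤
          Subgroup.closure {b : ↥M24 | packG b ∈ gs ++ [x.1]} :=
        Subgroup.closure_mono fun b hb => List.mem_append_left _ hb
      rcases (hKmem a).mp ha with ha | ha
      · exact hmono (hle ha)
      · rw [← mul_inv_cancel_left g a]
        exact mul_mem (Subgroup.subset_closure (by
          show packG g ∈ gs ++ [x.1]
          rw [hgp]; simp)) (hmono (hle ha))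
    · intro b hb
      rcases List.mem_append.mp hb with hb | hb
      · exact Or.inl (hge b hb)
      · rw [List.mem_singleton, ← hgp] at hb
        rw [hinj hb]
        exact Or.inr (by rw [inv_mul_cancel]; exact one_mem H)

/-- The elements of the Sylow 2-subgroup. -/
noncomputable def sylowList : List ℕ := serList sylowSeries [pone]

set_option maxRecDepth 100000 in
theorem sylowSeries_ok : serOK sylowSeries [] [pone] = true := by decide +kernel

set_option maxRecDepth 100000 in
theorem sylowList_ok : (Nat.beq sylowList.length 1024 && distinctBuckets sylowList) = true := by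
  decide +kernel

theorem sylowList_def : serList sylowSeries [pone] = sylowList := rfl

attribute [local irreducible] sylowList

theorem exists_sylow_two : ∃ H : Subgroup ↥M24, (∀ g, g ∈ H ↔ packG g ∈ sylowList) ∧
    Nat.card H = 2 ^ 10 := by
  obtain ⟨H, hH, hL⟩ := serOK_spec sylowSeries [] [pone] sylowSeries_ok ⊥
    (fun g => by
      rw [Subgroup.mem_bot, List.mem_singleton]
      exact ⟨fun e => by rw [e]; exact packImage_one,
        fun e => Subtype.ext (packImage_injective (e.trans packImage_one.symm))⟩)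
    (fun v hv => ⟨1, by rw [List.mem_singleton.mp hv]; exact packImage_one⟩) bot_le
    (fun g hg => absurd hg (by simp))
  rw [sylowList_def] at hH hL
  refine ⟨H, hH, ?_⟩
  have hinj : Function.Injective packG := fun a b e => Subtype.ext (packImage_injective e)
  have h1 := sylowList_ok
  rw [Bool.and_eq_true, Nat.beq_eq] at h1
  have himg : packG '' (H : Set ↥M24) = (sylowList.toFinset : Set ℕ) := by
    ext v
    simp only [Set.mem_image, SetLike.mem_coe, List.coe_toFinset, Set.mem_ofPred_eq]
    constructor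
    · rintro ⟨g, hg, rfl⟩; exact (hH g).mp hg
    · intro hv
      obtain ⟨g, rfl⟩ := hL v hv
      exact ⟨g, (hH g).mpr hv, rfl⟩
  have := congrArg Set.ncard himg
  rw [Set.ncard_image_of_injective _ hinj, Set.ncard_coe_finset,
    List.toFinset_card_of_nodup (nodup_of_buckets h1.2), h1.1] at this
  exact this

/-- The fixed points of a packed permutation, as a mask. -/
noncomputable def fixMask (p : ℕ) : ℕ := maskLt 24 fun i => Nat.beq (pget p i) i

/-- The certificate `c` shows that exactly one sextet has all tetrads stable under `p`. -/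
noncomputable def certOK (p : ℕ) (c : ℕ × ℕ × List ℕ) : Bool :=
  Nat.beq c.1 p &&
    match sylowSextets[c.2.1]? with
    | none => false
    | some q => sextetOK q && q.all (fun v => Nat.beq (mimg p v) v) &&
        forallLt 24 (fun j =>
          let T := Nat.lor (Nat.lor 1 (Nat.shiftLeft 1 (pget p 0)))
            (Nat.lor (Nat.shiftLeft 1 j) (Nat.shiftLeft 1 (pget p j)))
          (! Nat.beq (popc T) 4) || q.any (Nat.beq T) ||
            c.2.2.any (fun o => inCode o && Nat.beq (popc o) 8 && Nat.beq (Nat.land o T) T &&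
              (! Nat.beq (mimg p o) o)))

/-- The check on an element of the Sylow subgroup. -/
noncomputable def invCheck (p : ℕ) : Bool :=
  (! Nat.beq (pmul p p) pone) || Nat.beq p pone ||
    cond (Nat.beq (fixMask p) 0) (sylowCerts.any (certOK p))
      (inCode (fixMask p) && Nat.beq (popc (fixMask p)) 8)

set_option maxRecDepth 100000 in
theorem sylowList_inv : sylowList.all invCheck = true := by decide +kernel

attribute [local irreducible] sylowCerts sylowSextets packImage pmul mimg forallLt

theorem exists_conj_check {z : ↥M24} (hz : z * z = 1) (h1 : z ≠ 1) :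
    ∃ t : ↥M24, invCheck (packG (t * z * t⁻¹)) = true ∧
      pmul (packG (t * z * t⁻¹)) (packG (t * z * t⁻¹)) = pone ∧ packG (t * z * t⁻¹) ≠ pone := by
  have := Fact.mk Nat.prime_two
  obtain ⟨H, hH, hcard⟩ := exists_sylow_two
  have hfac : (Nat.card ↥M24).factorization 2 = 10 := by
    have h24 : Nat.card ↥M24 = 2 ^ 10 * 239085 := M24_card.trans (by norm_num)
    rw [h24, Nat.factorization_mul (by norm_num) (by norm_num), Finsupp.add_apply,
      Nat.factorization_eq_zero_of_not_dvd (show ¬ (2 ∣ 239085) by norm_num),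
      Nat.Prime.factorization_pow Nat.prime_two]
    simp
  let S : Sylow 2 ↥M24 := Sylow.ofCard H (by rw [hcard, hfac])
  have hzp : IsPGroup 2 (Subgroup.zpowers z) := IsPGroup.of_card (n := 1) (by
    rw [Nat.card_zpowers, pow_one]
    exact orderOf_eq_prime (by rw [pow_two, hz]) h1)
  obtain ⟨Q, hQ⟩ := hzp.exists_le_sylow
  obtain ⟨t, ht⟩ := MulAction.exists_smul_eq ↥M24 Q S
  have hmem : t * z * t⁻¹ ∈ (S : Subgroup ↥M24) := by
    rw [← ht]
    exact Subgroup.smul_mem_pointwise_smul z (MulAut.conj t) _ (hQ (Subgroup.mem_zpowers z))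
  rw [Sylow.coe_ofCard] at hmem
  refine ⟨t, List.all_eq_true.mp sylowList_inv _ ((hH _).mp hmem), ?_, fun e => h1 ?_⟩
  · rw [pmul_packImage (rep_packImage _) (rep_packImage _), ← packImage_one,
      ← Subgroup.coe_mul, conj_mul, hz]
    simp
  · have e' : packImage ((t * z * t⁻¹ : ↥M24) : Equiv.Perm GolayPt) = packImage 1 :=
      e.trans packImage_one.symm
    exact conj_eq_one_iff.mp (Subtype.ext (packImage_injective e'))

theorem maskOf_quad (a b c d : GolayPt) : maskOf {a, b, c, d} =
    Nat.lor (Nat.lor (Nat.shiftLeft 1 (ix a)) (Nat.shiftLeft 1 (ix b)))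
      (Nat.lor (Nat.shiftLeft 1 (ix c)) (Nat.shiftLeft 1 (ix d))) := by
  show _ = (1 <<< ix a ||| 1 <<< ix b) ||| (1 <<< ix c ||| 1 <<< ix d)
  have hb : ∀ x : GolayPt, (1 <<< ix x : ℕ) < 2 ^ 24 := fun x => by
    rw [Nat.one_shiftLeft]; exact Nat.pow_lt_pow_right (by norm_num) (ix_lt x)
  refine mask_ext (maskOf_lt _)
    (Nat.or_lt_two_pow (Nat.or_lt_two_pow (hb a) (hb b)) (Nat.or_lt_two_pow (hb c) (hb d)))
    fun x => ?_
  rw [testBit_maskOf, Bool.eq_iff_iff]
  simp only [Nat.testBit_or, Bool.or_eq_true, Nat.one_shiftLeft, Nat.testBit_two_pow,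
    decide_eq_true_eq, Finset.mem_insert, Finset.mem_singleton, ix_inj]
  tauto

theorem mem_fixMask_iff (g : ↥M24) (x : GolayPt) :
    (fixMask (packG g)).testBit (ix x) = true ↔ g • x = x := by
  rw [fixMask, testBit_maskLt, Nat.beq_eq, rep_packImage]
  exact ⟨fun h => ix_injective h.2, fun h => ⟨ix_lt x, congrArg ix h⟩⟩

/-- An involution fixing a point fixes precisely the points of an octad. -/
theorem fixed_eq_octad {z : ↥M24} (hz : z * z = 1) (h1 : z ≠ 1) {a : GolayPt} (ha : z • a = a) :
    ∃ o ∈ octads, ∀ x, z • x = x ↔ x ∈ o := by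
  obtain ⟨t, hc, hsq, hne⟩ := exists_conj_check hz h1
  set p := packG (t * z * t⁻¹)
  have hlt : fixMask p < 2 ^ 24 := by
    refine Nat.lt_pow_two_of_testBit _ fun i hi => ?_
    rw [Bool.eq_false_iff, ne_eq, fixMask, testBit_maskLt]
    exact fun h => absurd h.1 (by omega)
  have hta : (t * z * t⁻¹) • (t • a) = t • a := by rw [mul_smul, mul_smul, inv_smul_smul, ha]
  have hne0 : fixMask p ≠ 0 := fun e => by
    have h := (mem_fixMask_iff _ _).mpr hta
    rw [e, Nat.zero_testBit] at h
    exact Bool.false_ne_true h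
  simp only [invCheck, Bool.or_eq_true, Bool.not_eq_true', Nat.beq_eq] at hc
  rcases hc with (hc | hc) | hc
  · exact absurd hsq (by rw [← Nat.beq_eq, hc]; simp)
  · exact absurd hc hne
  rw [show Nat.beq (fixMask p) 0 = false by
    rw [Bool.eq_false_iff, ne_eq, Nat.beq_eq]; exact hne0, cond_false, Bool.and_eq_true,
    Nat.beq_eq] at hc
  refine ⟨t⁻¹ • setOfMask (fixMask p), (smul_mem_octads' _).2 ?_, fun x => ?_⟩
  · rw [mem_octads_iff, maskOf_setOfMask hlt]; exact hc
  · rw [Finset.mem_inv_smul_finset_iff, mem_setOfMask, mem_fixMask_iff, mul_smul, mul_smul,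
      inv_smul_smul, smul_left_cancel_iff]

set_option maxHeartbeats 1000000 in
/-- An involution without fixed points stabilises every tetrad of exactly one sextet. -/
theorem existsUnique_fixed_sextet {z : ↥M24} (hz : z * z = 1) (hfix : ∀ a : GolayPt, z • a ≠ a) :
    ∃! S : Finset (Finset GolayPt), S ∈ sextets ∧ ∀ t ∈ S, z • t = t := by
  have h1 : z ≠ 1 := fun e => hfix none (by rw [e, one_smul])
  obtain ⟨t, hc, hsq, hne⟩ := exists_conj_check hz h1
  set w := t * z * t⁻¹ with hw
  have hwfix : ∀ a : GolayPt, w • a ≠ a := fun a e => hfix (t⁻¹ • a) (by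
    rw [hw, mul_smul, mul_smul] at e
    conv_rhs => rw [← e]
    rw [inv_smul_smul])
  suffices key : ∃! S : Finset (Finset GolayPt), S ∈ sextets ∧ ∀ u ∈ S, w • u = u by
    obtain ⟨S, ⟨hS, hSf⟩, huniq⟩ := key
    refine ⟨t⁻¹ • S, ⟨smul_mem_sextets _ hS, fun u hu => ?_⟩, fun S' hS' => ?_⟩
    · rw [Finset.mem_inv_smul_finset_iff] at hu
      have := hSf _ hu
      rw [hw, mul_smul, mul_smul, inv_smul_smul, smul_left_cancel_iff] at this
      exact this
    · rw [eq_inv_smul_iff]
      refine huniq _ ⟨smul_mem_sextets _ hS'.1, fun u hu => ?_⟩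
      obtain ⟨v, hv, rfl⟩ := Finset.mem_smul_finset.1 hu
      rw [hw, mul_smul, mul_smul, inv_smul_smul, hS'.2 v hv]
  set p := packG w with hp
  have hrep : Rep (w : Equiv.Perm GolayPt) p := rep_packImage _
  have h0 : fixMask p = 0 := by
    refine Nat.eq_of_testBit_eq fun i => ?_
    rw [Nat.zero_testBit, Bool.eq_false_iff]
    intro h
    by_cases hi : i < 24
    · rw [← ix_pt hi] at h
      exact hwfix _ ((mem_fixMask_iff w _).mp h)
    · rw [fixMask, testBit_maskLt] at h
      exact hi h.1
  simp only [invCheck, Bool.or_eq_true, Bool.not_eq_true', Nat.beq_eq] at hc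
  rcases hc with (hc | hc) | hc
  · exact absurd hsq (by rw [← Nat.beq_eq, hc]; simp)
  · exact absurd hc hne
  rw [h0, show Nat.beq 0 0 = true from rfl, cond_true, List.any_eq_true] at hc
  obtain ⟨c, -, hc⟩ := hc
  rw [certOK, Bool.and_eq_true] at hc
  replace hc := hc.2
  cases hq : sylowSextets[c.2.1]? with
  | none => rw [hq] at hc; exact absurd hc (by simp)
  | some q =>
  rw [hq] at hc
  simp only [Bool.and_eq_true, List.all_eq_true, Nat.beq_eq] at hc
  obtain ⟨⟨hok, hinv⟩, huniq⟩ := hc
  obtain ⟨hS, hlt⟩ := toQ_sextet hok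
  refine ⟨toQ q, ⟨hS, fun u hu => ?_⟩, fun S' hS' => ?_⟩
  · have hu' := (mem_toQ hlt).1 hu
    conv_lhs => rw [← setOfMask_maskOf u]
    refine (smul_setOfMask hrep (maskOf u)).trans ?_
    rw [hinv _ hu', setOfMask_maskOf]
  obtain ⟨hS'1, hS'2⟩ := hS'
  obtain ⟨u, hu, hau⟩ : ∃ u ∈ S', pt 0 ∈ u := by
    by_contra hno
    push Not at hno
    have hd : Set.PairwiseDisjoint (S' : Set (Finset GolayPt)) (id : Finset GolayPt → Finset GolayPt) := by
      intro a ha b hb hab
      show Disjoint a b
      have hc8 := (hS'1.2.2 a ha b hb hab).2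
      rw [Finset.card_union, hS'1.2.1 a ha, hS'1.2.1 b hb] at hc8
      rw [Finset.disjoint_iff_inter_eq_empty, ← Finset.card_eq_zero]
      omega
    have hsub : S'.biUnion id ⊆ Finset.univ.erase (pt 0) := fun x hx => by
      obtain ⟨a, ha, hxa⟩ := Finset.mem_biUnion.1 hx
      exact Finset.mem_erase.2 ⟨fun e => hno a ha (e ▸ hxa), Finset.mem_univ _⟩
    have h2 := Finset.card_le_card hsub
    rw [Finset.card_biUnion hd] at h2
    simp only [id] at h2
    rw [Finset.sum_congr rfl (g := fun _ => 4) (fun a ha => hS'1.2.1 a ha),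
      Finset.sum_const, hS'1.1, Finset.card_erase_of_mem (Finset.mem_univ _),
      show (Finset.univ : Finset GolayPt).card = 24 by decide +kernel] at h2
    simp at h2
  have hu4 := hS'1.2.1 u hu
  have hwu : ∀ x ∈ u, w • x ∈ u := fun x hx => by
    rw [← hS'2 u hu]; exact (mem_smul_set w).2 hx
  obtain ⟨y, hy, hy1, hy2⟩ : ∃ y ∈ u, y ≠ pt 0 ∧ y ≠ w • pt 0 := by
    by_contra hno
    push Not at hno
    have : u ⊆ {pt 0, w • pt 0} := fun x hx => by
      by_cases hx0 : x = pt 0
      · simp [hx0]
      · simp [hno x hx hx0]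
    have h2 := (Finset.card_le_card this).trans Finset.card_le_two
    omega
  have hw2 : ∀ x : GolayPt, w • w • x = x := fun x => by
    rw [← mul_smul, show w * w = 1 by rw [hw, conj_mul, hz]; group, one_smul]
  have hu_eq : ({pt 0, w • pt 0, y, w • y} : Finset GolayPt) = u := by
    refine Finset.eq_of_subset_of_card_le ?_ ?_
    · intro x hx
      simp only [Finset.mem_insert, Finset.mem_singleton] at hx
      rcases hx with rfl | rfl | rfl | rfl
      exacts [hau, hwu _ hau, hy, hwu _ hy]
    · rw [hu4, Finset.card_insert_of_notMem, Finset.card_insert_of_notMem, Finset.card_pair]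
      · exact (hwfix y).symm
      · simp only [Finset.mem_insert, Finset.mem_singleton, not_or]
        refine ⟨hy2.symm, fun e => hy1 ?_⟩
        exact (MulAction.injective w e).symm
      · simp only [Finset.mem_insert, Finset.mem_singleton, not_or]
        refine ⟨(hwfix _).symm, hy1.symm, fun e => hy2 ?_⟩
        rw [e, hw2]
  have hT : maskOf u = Nat.lor (Nat.lor 1 (Nat.shiftLeft 1 (pget p 0)))
      (Nat.lor (Nat.shiftLeft 1 (ix y)) (Nat.shiftLeft 1 (pget p (ix y)))) := by
    rw [← hu_eq]
    have e0 : pget p 0 = ix (w • pt 0) := by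
      rw [show (0 : ℕ) = ix (pt 0) by decide, hrep]; rfl
    rw [e0, hrep y, show (1 : ℕ) = Nat.shiftLeft 1 (ix (pt 0)) by decide +kernel]
    exact maskOf_quad _ _ _ _
  have h3 := forallLt_elim huniq (ix_lt y)
  simp only [← hT] at h3
  simp only [Bool.or_eq_true, Bool.not_eq_true', List.any_eq_true, Bool.and_eq_true,
    Nat.beq_eq] at h3
  rcases h3 with (h3 | ⟨v, hv, e⟩) | ⟨o, -, ⟨⟨ho1, ho2⟩, ho3⟩, ho4⟩
  · rw [popc_maskOf, hu4] at h3
    exact absurd h3 (by decide)
  · have hmem : u ∈ toQ q := (mem_toQ hlt).2 (e ▸ hv)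
    exact (sextet_eq hS'1 hu).trans (sextet_eq hS hmem).symm
  · exfalso
    have holt := inCode_lt ho1
    have ho : setOfMask o ∈ octads := by
      rw [mem_octads_iff, maskOf_setOfMask holt]; exact ⟨ho1, ho2⟩
    have hsub : u ⊆ setOfMask o := fun x hx => by
      rw [mem_setOfMask]
      have h5 : (o &&& maskOf u).testBit (ix x) = true := by
        rw [show o &&& maskOf u = maskOf u from ho3, testBit_maskOf]; simp [hx]
      rw [Nat.testBit_and, Bool.and_eq_true] at h5
      exact h5.1
    have hmem : setOfMask o \ u ∈ S' := by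
      rw [sextet_eq hS'1 hu, sextetOf]
      exact Finset.mem_insert_of_mem (Finset.mem_image.2 ⟨setOfMask o,
        Finset.mem_filter.2 ⟨mem_octadFinset.2 ho, hsub⟩, rfl⟩)
    have hinvo : w • setOfMask o = setOfMask o := by
      rw [← Finset.union_sdiff_of_subset hsub]
      have hun : w • (u ∪ (setOfMask o \ u)) = w • u ∪ w • (setOfMask o \ u) :=
        Finset.smul_finset_union (a := (w : Equiv.Perm GolayPt))
      rw [hun, hS'2 u hu, hS'2 _ hmem]
    have h6 : mimg p o = o := by
      rw [← maskOf_setOfMask (mimg_lt hrep o), ← smul_setOfMask hrep o]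
      exact (congrArg maskOf hinvo).trans (maskOf_setOfMask holt)
    rw [show Nat.beq (mimg p o) o = true by rw [Nat.beq_eq]; exact h6] at ho4
    exact Bool.false_ne_true ho4.symm

end CfsgLib.Sporadic
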