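import Cfsg.Agent.Lib.Sporadic.Families
import Cfsg.Agent.Lib.Sporadic.TrioData

/-!
# The structure of a trio stabiliser

Seven sextets refine a trio; they are the points of a projective plane over two elements.  Witnesses for
every matrix and every permutation of the octads, and 64 elements acting trivially on both, give the structure.
-/

set_option autoImplicit false

namespace CfsgLib.Sporadic.TrioStab

open Cfsg MulAction CfsgLib.Sporadic
open scoped Pointwise

local notation "F₂" => ZMod 2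

/-- An octad of the standard trio. -/
def octMask (i : Fin 3) : ℕ := trioRoot.getD i.val 0

/-- A sextet refining it, as masks. -/
def sexMasks (j : Fin 7) : List ℕ := trioSextets.getD j.val []

/-- The octad as a set. -/
def oct (i : Fin 3) : Finset GolayPt := setOfMask (octMask i)

/-- The sextet as a set. -/
def sex (j : Fin 7) : Finset (Finset GolayPt) := toQ (sexMasks j)

/-- The vector naming a sextet. -/
def lab (j : Fin 7) : Fin 3 → F₂ := fun i => if (j.val + 1).testBit i.val then 1 else 0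

/-- The sextet named by a vector. -/
def idx (v : Fin 3 → F₂) : Fin 7 := ⟨((v 0).val + 2 * (v 1).val + 4 * (v 2).val - 1) % 7, Nat.mod_lt _ (by norm_num)⟩

theorem lab_facts : (∀ j, idx (lab j) = j ∧ lab j ≠ 0) ∧ ∀ v : Fin 3 → F₂, v ≠ 0 → lab (idx v) = v := by
  decide +kernel

/-- Where a matrix sends a sextet. -/
def simg (M : Matrix (Fin 3) (Fin 3) F₂) (j : Fin 7) : Fin 7 := idx (M.mulVec (lab j))

/-- The code of a matrix. -/
def code (M : Matrix (Fin 3) (Fin 3) F₂) : ℕ :=
  (M 0 0).val + 2 * (M 0 1).val + 4 * (M 0 2).val + 8 * (M 1 0).val + 16 * (M 1 1).val + 32 * (M 1 2).val +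
    64 * (M 2 0).val + 128 * (M 2 1).val + 256 * (M 2 2).val

/-- A packed permutation inducing a matrix and a permutation of the octads. -/
noncomputable def inducesB (p : ℕ) (M : Matrix (Fin 3) (Fin 3) F₂) (π : Fin 3 → Fin 3) : Bool :=
  isAut p && ((List.finRange 3).all fun i => Nat.beq (mimg p (octMask i)) (octMask (π i))) &&
    (List.finRange 7).all fun j => (sexMasks j).all fun v => hasM (sexMasks (simg M j)) (mimg p v)

theorem mat_check : ∀ M : Matrix (Fin 3) (Fin 3) F₂, M.det ≠ 0 → inducesB (trioMat.getD (code M) 0) M id = true := by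
  decide +kernel

theorem perm_check : ∀ π : Equiv.Perm (Fin 3),
    (trioPerm.any fun p => inducesB p 1 π) = true := by
  decide +kernel

theorem ker_check : (trioKer.all fun p => inducesB p 1 id && forallLt 24 fun i => Nat.beq (pget p (pget p i)) i) = true ∧
    trioKer.length = 64 ∧ distinctList trioKer = true := by
  decide +kernel

theorem sexMasks_lt : ∀ j, ∀ v ∈ sexMasks j, v < 2 ^ 24 := by decide +kernel

theorem sexMasks_sep : ∀ j k, j ≠ k → hasM (sexMasks k) ((sexMasks j).getD 0 0) = false ∧ sexMasks j ≠ [] := by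
  decide +kernel

theorem octMask_sep : (∀ i, octMask i < 2 ^ 24) ∧ ∀ i k, octMask i = octMask k → i = k := by decide +kernel

theorem sex_injective : Function.Injective sex := fun j k h => by
  by_contra hne
  obtain ⟨h1, h2⟩ := sexMasks_sep j k hne
  have hmem : (sexMasks j).getD 0 0 ∈ sexMasks j := by
    cases hl : sexMasks j with
    | nil => exact absurd hl h2
    | cons a l => simp
  have : setOfMask ((sexMasks j).getD 0 0) ∈ sex k := h ▸ Finset.mem_image_of_mem _ (List.mem_toFinset.2 hmem)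
  rw [sex, mem_toQ (sexMasks_lt k), maskOf_setOfMask (sexMasks_lt j _ hmem)] at this
  rw [hasM_iff.2 this] at h1
  exact Bool.noConfusion h1

theorem oct_injective : Function.Injective oct := fun i k h =>
  octMask_sep.2 i k (setOfMask_inj (octMask_sep.1 i) (octMask_sep.1 k) h)

/-- The element induces the matrix and the permutation. -/
def Ind (g : ↥M24) (x : GL (Fin 3) F₂ × Equiv.Perm (Fin 3)) : Prop :=
  (∀ i, g • oct i = oct (x.2 i)) ∧ ∀ j, g • sex j = sex (simg (↑x.1 : Matrix (Fin 3) (Fin 3) F₂) j)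

theorem gl_lab (M : GL (Fin 3) F₂) (j : Fin 7) :
    lab (simg (↑M : Matrix (Fin 3) (Fin 3) F₂) j) = (↑M : Matrix (Fin 3) (Fin 3) F₂).mulVec (lab j) := by
  refine lab_facts.2 _ fun h => (lab_facts.1 j).2 ?_
  have := congrArg ((↑M⁻¹ : Matrix (Fin 3) (Fin 3) F₂).mulVec) h
  rwa [Matrix.mulVec_mulVec, Units.inv_mul, Matrix.one_mulVec, Matrix.mulVec_zero] at this

theorem ind_unique {g : ↥M24} {x y : GL (Fin 3) F₂ × Equiv.Perm (Fin 3)} (hx : Ind g x) (hy : Ind g y) : x = y := by
  refine Prod.ext (Units.ext ?_) (Equiv.ext fun i => oct_injective ((hx.1 i).symm.trans (hy.1 i)))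
  have h : ∀ j, (↑x.1 : Matrix (Fin 3) (Fin 3) F₂).mulVec (lab j) =
      (↑y.1 : Matrix (Fin 3) (Fin 3) F₂).mulVec (lab j) := fun j => by
    rw [← gl_lab, ← gl_lab, sex_injective ((hx.2 j).symm.trans (hy.2 j))]
  refine Matrix.ext_of_mulVec_single fun i => ?_
  have hs : ∀ i : Fin 3, ∃ j : Fin 7, lab j = Pi.single i 1 := by decide +kernel
  obtain ⟨j, hj⟩ := hs i
  rw [← hj]
  exact h j

theorem ind_one : Ind 1 1 := ⟨fun i => by rw [one_smul]; rfl, fun j => by
  rw [one_smul]
  congr 1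
  show j = idx ((1 : Matrix (Fin 3) (Fin 3) F₂).mulVec (lab j))
  rw [Matrix.one_mulVec, (lab_facts.1 j).1]⟩

theorem Ind.mul {g h : ↥M24} {x y : GL (Fin 3) F₂ × Equiv.Perm (Fin 3)} (hx : Ind g x) (hy : Ind h y) :
    Ind (g * h) (x * y) := by
  refine ⟨fun i => by rw [mul_smul, hy.1, hx.1]; rfl, fun j => ?_⟩
  rw [mul_smul, hy.2, hx.2]
  congr 1
  show idx _ = idx _
  rw [gl_lab]
  simp [Matrix.mulVec_mulVec]

/-- The elements inducing something. -/
def indGroup : Subgroup ↥M24 where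
  carrier := {g | ∃ x, Ind g x}
  one_mem' := ⟨1, ind_one⟩
  mul_mem' := fun {a b} ⟨x, hx⟩ ⟨y, hy⟩ => ⟨x * y, hx.mul hy⟩
  inv_mem' := fun {a} ⟨x, hx⟩ => by
    refine ⟨x⁻¹, fun i => ?_, fun j => ?_⟩
    · rw [inv_smul_eq_iff, hx.1]
      show oct i = oct (x.2 (x.2⁻¹ i))
      rw [Equiv.Perm.inv_def, Equiv.apply_symm_apply]
    · rw [inv_smul_eq_iff, hx.2]
      congr 1
      show j = idx _
      rw [gl_lab, Matrix.mulVec_mulVec]
      simp [(lab_facts.1 j).1]

theorem exists_induced {p : ℕ} {M : GL (Fin 3) F₂} {π : Equiv.Perm (Fin 3)}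
    (h : inducesB p (↑M : Matrix (Fin 3) (Fin 3) F₂) π = true) :
    ∃ g : ↥M24, Rep g.1 p ∧ Ind g (M, π) := by
  simp only [inducesB, Bool.and_eq_true, List.all_eq_true, Nat.beq_eq, List.mem_finRange, forall_const,
    hasM_iff] at h
  obtain ⟨⟨h1, h2⟩, h3⟩ := h
  obtain ⟨g, hg⟩ := exists_M24_elt h1
  refine ⟨g, hg, fun i => ?_, fun j => ?_⟩
  · show g • setOfMask (octMask i) = setOfMask (octMask (π i))
    exact (smul_setOfMask hg _).trans (by rw [h2 i])
  · refine Finset.eq_of_subset_of_card_le (fun s hs => ?_) ?_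
    · obtain ⟨a, ha, rfl⟩ := Finset.mem_smul_finset.1 hs
      rw [sex, mem_toQ (sexMasks_lt j)] at ha
      rw [← setOfMask_maskOf a, show g • setOfMask (maskOf a) = setOfMask (mimg p (maskOf a)) from smul_setOfMask hg _]
      exact Finset.mem_image_of_mem _ (List.mem_toFinset.2 (h3 j _ ha))
    · rw [Finset.card_smul_finset]
      have : ∀ a b : Fin 7, (sex a).card = (sex b).card := by decide +kernel
      exact (this _ _).le

/-- What an element induces. -/
noncomputable def indHom : ↥indGroup →* GL (Fin 3) F₂ × Equiv.Perm (Fin 3) :=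
  MonoidHom.mk' (fun g => g.2.choose) fun a b => ind_unique (a * b).2.choose_spec (a.2.choose_spec.mul b.2.choose_spec)

theorem indHom_eq {g : ↥indGroup} {x : GL (Fin 3) F₂ × Equiv.Perm (Fin 3)} (h : Ind g.1 x) : indHom g = x :=
  ind_unique g.2.choose_spec h

theorem indHom_surjective : Function.Surjective indHom := by
  rintro ⟨M, π⟩
  have hM : ∀ M : GL (Fin 3) F₂, ∃ g : ↥indGroup, indHom g = (M, 1) := fun M => by
    obtain ⟨g, -, hg⟩ := exists_induced (M := M) (π := 1)
      (mat_check _ ((Matrix.isUnit_iff_isUnit_det _).1 M.isUnit).ne_zero)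
    exact ⟨⟨g, _, hg⟩, indHom_eq hg⟩
  obtain ⟨p, -, hp⟩ := List.any_eq_true.1 (perm_check π)
  obtain ⟨g, -, hg⟩ := exists_induced (M := 1) (π := π) (by simpa using hp)
  obtain ⟨a, ha⟩ := hM M
  refine ⟨a * ⟨g, _, hg⟩, ?_⟩
  rw [map_mul, ha, indHom_eq (g := ⟨g, _, hg⟩) hg]
  simp

theorem toQ_root : toQ trioRoot = (Finset.univ : Finset (Fin 3)).image oct := by decide +kernel

theorem indGroup_le : indGroup ≤ stabilizer ↥M24 (toQ trioRoot) := fun g ⟨x, hx⟩ => by
  rw [mem_stabilizer_iff]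
  refine Finset.eq_of_subset_of_card_le (fun s hs => ?_) (by rw [Finset.card_smul_finset])
  obtain ⟨a, ha, rfl⟩ := Finset.mem_smul_finset.1 hs
  rw [toQ_root, Finset.mem_image] at ha ⊢
  obtain ⟨i, -, rfl⟩ := ha
  exact ⟨x.2 i, Finset.mem_univ _, (hx.1 i).symm⟩

theorem card_stab_root : Nat.card ↥(stabilizer ↥M24 (toQ trioRoot)) = 64512 :=
  card_stabilizer_of_orbit (toQ trioRoot) trios (fun g => smul_mem_trios g (toQ_trio trioRoot_ok.1).1)
    (fun _ hx => exists_smul_trio (toQ_trio trioRoot_ok.1).1 hx) trios_ncard (by norm_num)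

theorem card_gl : Nat.card (GL (Fin 3) F₂) = 168 := by
  rw [Matrix.card_GL_field]
  simp [Fin.prod_univ_succ]

theorem ker_elts : ∀ p ∈ trioKer, ∃ g : ↥indGroup, g ∈ indHom.ker ∧ g * g = 1 ∧ Rep g.1.1 p := by
  intro p hp
  have h := List.all_eq_true.1 ker_check.1 p hp
  rw [Bool.and_eq_true] at h
  obtain ⟨g, hr, hg⟩ := exists_induced (M := 1) (π := 1) (by simpa using h.1)
  refine ⟨⟨g, _, hg⟩, MonoidHom.mem_ker.2 (indHom_eq (g := ⟨g, _, hg⟩) hg),
    Subtype.ext (Subtype.ext (Equiv.ext fun x => ix_injective ?_)), hr⟩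
  have h2 := forallLt_elim h.2 (ix_lt x)
  rw [Nat.beq_eq, hr x, hr (g.1 x)] at h2
  exact h2

theorem structure_root :
    (∀ π : Equiv.Perm (Fin 3), ∃ g ∈ stabilizer ↥M24 (toQ trioRoot), ∀ i, g • oct i = oct (π i)) ∧
    ∃ (φ : ↥(stabilizer ↥M24 (toQ trioRoot)) →* GL (Fin 3) F₂ × Equiv.Perm (Fin 3)),
      Function.Surjective φ ∧ Nat.card φ.ker = 64 ∧ ∀ x ∈ φ.ker, x * x = 1 := by
  classical
  refine ⟨fun π => ?_, ?_⟩
  · obtain ⟨g, hg⟩ := indHom_surjective (1, π)
    refine ⟨g.1, indGroup_le g.2, fun i => ?_⟩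
    have := g.2.choose_spec.1 i
    rwa [show g.2.choose = (1, π) from hg] at this
  choose k hk1 hk2 hk3 using ker_elts
  let f : {p // p ∈ trioKer} → ↥indHom.ker := fun p => ⟨k p.1 p.2, hk1 p.1 p.2⟩
  have hf : Function.Injective f := by
    intro a b e
    have e' : (k a.1 a.2).1.1 = (k b.1 b.2).1.1 := congrArg (fun z : ↥indHom.ker => z.1.1.1) e
    have hpg : ∀ i, i < 24 → pget a.1 i = pget b.1 i := fun i hi => by
      rw [← ix_pt hi, hk3 a.1 a.2, hk3 b.1 b.2, e']
    have key : ∀ p ∈ trioKer, ∀ q ∈ trioKer, (forallLt 24 fun i => Nat.beq (pget p i) (pget q i)) = true → p = q := by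
      decide +kernel
    exact Subtype.ext (key _ a.2 _ b.2 (by rw [forallLt_iff]; exact fun i hi => by rw [Nat.beq_eq]; exact hpg i hi))
  have hcle : Nat.card ↥indGroup ≤ 64512 :=
    card_stab_root ▸ Nat.le_of_dvd (by rw [card_stab_root]; norm_num) (Subgroup.card_dvd_of_le indGroup_le)
  have hmul : Nat.card ↥indGroup = 1008 * Nat.card ↥indHom.ker := by
    rw [← Subgroup.card_mul_index indHom.ker, mul_comm]
    congr 1
    rw [Subgroup.index_ker, MonoidHom.range_eq_top.2 indHom_surjective, Nat.card_congr Subgroup.topEquiv.toEquiv,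
      Nat.card_prod, card_gl, Nat.card_perm, Nat.card_fin]
    rfl
  have h64 : Nat.card {p // p ∈ trioKer} = 64 := by
    rw [Nat.card_eq_fintype_card, Fintype.card_of_subtype trioKer.toFinset (fun p => List.mem_toFinset),
      List.toFinset_card_of_nodup (nodup_of_distinctList ker_check.2.2), ker_check.2.1]
  have hge := Nat.card_le_card_of_injective f hf
  rw [h64] at hge
  have hker : Nat.card ↥indHom.ker = 64 := by omega
  have heq : indGroup = stabilizer ↥M24 (toQ trioRoot) :=
    Subgroup.eq_of_le_of_card_ge indGroup_le (by rw [card_stab_root, hmul, hker])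
  have hbij : Function.Bijective f := (Nat.bijective_iff_injective_and_card f).2 ⟨hf, by rw [h64, hker]⟩
  let E : ↥(stabilizer ↥M24 (toQ trioRoot)) ≃* ↥indGroup := MulEquiv.subgroupCongr heq.symm
  refine ⟨indHom.comp E.toMonoidHom, indHom_surjective.comp E.surjective, ?_, fun x hx => ?_⟩
  · rw [← hker]
    exact Nat.card_congr (E.toEquiv.subtypeEquiv fun _ => Iff.rfl)
  · obtain ⟨p, hp⟩ := hbij.2 ⟨E x, hx⟩
    have := hk2 p.1 p.2
    rw [show k p.1 p.2 = E x from congrArg Subtype.val hp, ← map_mul, MulEquiv.map_eq_one_iff] at this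
    exact this

end CfsgLib.Sporadic.TrioStab

namespace CfsgLib.Sporadic.TrioStab

open Cfsg MulAction CfsgLib.Sporadic
open scoped Pointwise

attribute [local irreducible] oct toQ setOfMask

theorem structure_any (T : Finset (Finset GolayPt)) (hT : T ∈ trios) :
    (∀ e : Equiv.Perm ↥T, ∃ g ∈ stabilizer ↥M24 T, ∀ o : ↥T, g • (o : Finset GolayPt) = ((e o : ↥T) : Finset GolayPt)) ∧
    ∃ (N : Subgroup ↥(stabilizer ↥M24 T)) (_ : N.Normal), Nat.card N = 64 ∧ (∀ x ∈ N, x * x = 1) ∧
      Nonempty (↥(stabilizer ↥M24 T) ⧸ N ≃* GL (Fin 3) (ZMod 2) × Equiv.Perm (Fin 3)) := by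
  obtain ⟨t, rfl⟩ := exists_smul_trio (toQ_trio trioRoot_ok.1).1 hT
  obtain ⟨hperm, φ, hsurj, hker, hsq⟩ := structure_root
  have hst : stabilizer ↥M24 (t • toQ trioRoot) =
      (stabilizer ↥M24 (toQ trioRoot)).map (MulAut.conj t).toMonoidHom :=
    stabilizer_smul_eq_stabilizer_map_conj t _
  refine ⟨fun e => ?_, ?_⟩
  · have hmem : ∀ i, t • oct i ∈ t • toQ trioRoot := fun i =>
      Finset.smul_mem_smul_finset (by rw [toQ_root]; exact Finset.mem_image_of_mem _ (Finset.mem_univ i))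
    let ι : Fin 3 → ↥(t • toQ trioRoot) := fun i => ⟨t • oct i, hmem i⟩
    have hι : Function.Bijective ι := by
      refine (Fintype.bijective_iff_injective_and_card ι).2 ⟨fun i k h => oct_injective
        (MulAction.injective t (congrArg Subtype.val h)), ?_⟩
      rw [Fintype.card_coe, Fintype.card_fin, Finset.card_smul_finset, toQ_root,
        Finset.card_image_of_injective _ oct_injective]
      rfl
    let E := Equiv.ofBijective ι hι
    obtain ⟨g, hg, hgo⟩ := hperm (E.symm.permCongr e)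
    refine ⟨t * g * t⁻¹, ?_, fun o => ?_⟩
    · rw [hst]; exact Subgroup.mem_map.2 ⟨g, hg, rfl⟩
    · obtain ⟨i, rfl⟩ := hι.2 o
      show (t * g * t⁻¹) • t • oct i = (e (ι i)).1
      rw [mul_smul, mul_smul, inv_smul_smul, hgo]
      show (ι (E.symm (e (E (i))))).1 = _
      rw [show ι (E.symm (e (E i))) = e (E i) from E.apply_symm_apply _]
      rfl
  let ψ : ↥(stabilizer ↥M24 (t • toQ trioRoot)) ≃* ↥(stabilizer ↥M24 (toQ trioRoot)) :=
    (MulEquiv.subgroupCongr hst).trans ((stabilizer ↥M24 (toQ trioRoot)).equivMapOfInjective _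
      (MulAut.conj t).injective).symm
  refine ⟨(φ.comp ψ.toMonoidHom).ker, inferInstance, ?_, fun x hx => ?_,
    ⟨QuotientGroup.quotientKerEquivOfSurjective _ (hsurj.comp ψ.surjective)⟩⟩
  · rw [← hker]
    exact Nat.card_congr (ψ.toEquiv.subtypeEquiv fun _ => Iff.rfl)
  · have := hsq (ψ x) hx
    rwa [← map_mul, MulEquiv.map_eq_one_iff] at this

end CfsgLib.Sporadic.TrioStab
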