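import Cfsg.Agent.Lib.Sporadic.MathieuOrbitTools
import Cfsg.Agent.Lib.Sporadic.MathieuTwo
import Cfsg.Agent.Lib.Sporadic.TrioStab
import Cfsg.Agent.Lib.Sporadic.MathieuFourIndexData

/-!
# The subgroups of index 759, 276, 1771 and 253 of M24

A subgroup holding a Sylow 2-subgroup holds the pointwise fixer of the octad fixed by that subgroup, hence the
fixers of all images of this octad; the images then form one octad, a trio, the fifteen octads of a sextet, or
all 759 octads.
-/

set_option autoImplicit false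
set_option maxRecDepth 100000

namespace CfsgLib.Sporadic.IndexFour

open Cfsg MulAction CfsgLib.Sporadic CfsgLib.Sporadic.OrbTool CfsgLib.Sporadic.MathieuAut
open scoped Pointwise

theorem sylow_check : sylGens.all (fun p => isAut p && (Nat.beq (pmul p pone) p && sylowList.any (Nat.beq p))) = true ∧
    fixO.all (fun p => isAut p && (Nat.beq (pmul p pone) p && sylowList.any (Nat.beq p)) &&
      forallLt 24 (fun i => ! baseOct.testBit i || Nat.beq (pget p i) i)) = true ∧
    fixO.length = 16 ∧ distinctList fixO = true ∧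
    (inCode baseOct && Nat.beq (popc baseOct) 8) = true := by
  decide +kernel

/-- The root of a class. -/
noncomputable def clsRoot (c : ℕ × ℕ × List ℕ × List ℕ × List ℕ) : ℕ := c.1

/-- The octads of a class. -/
noncomputable def clsWalk (c : ℕ × ℕ × List ℕ × List ℕ × List ℕ) : List ℕ :=
  walk (stepMask sylGens) c.2.2.1 c.1

/-- The octads reached from the base octad. -/
noncomputable def clsClosure (c : ℕ × ℕ × List ℕ × List ℕ × List ℕ) : List ℕ :=
  walk (stepMask (sylGens ++ c.2.2.2.1)) c.2.2.2.2 baseOct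

theorem class_cover : bitmap (fun m => Nat.land m 4095) (classes.flatMap clsWalk) =
    maskLt 4096 (fun k => Nat.beq (popc (enc k)) 8) := by decide +kernel

theorem class_fix : classes.all (fun c => inCode (clsRoot c) && c.2.2.2.1.all fun p => isAut p &&
    forallLt 24 fun i => ! (clsRoot c).testBit i || Nat.beq (pget p i) i) = true := by decide +kernel

theorem class_full : classes.all (fun c => ! Nat.beq c.2.1 0 ||
    Nat.beq (bitmap (fun m => Nat.land m 4095) (clsClosure c)) (maskLt 4096 (fun k => Nat.beq (popc (enc k)) 8))) =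
      true := by decide +kernel

theorem class_small : classes.all (fun c => Nat.beq c.2.1 0 ||
    ((Nat.beq c.2.1 1 && (clsWalk c).all (hasM sextFam) && sextFam.all (hasM (clsClosure c))) ||
      (Nat.beq c.2.1 2 && (clsWalk c).all (hasM trioFam) && trioFam.all (hasM (clsClosure c))) ||
      (clsWalk c).all (Nat.beq baseOct))) = true := by decide +kernel

theorem fam_facts : trioOK trioFam = true ∧ sextetOK tetFam = true ∧
    sextFam.length = 15 ∧ distinctList sextFam = true ∧
    sextFam.all (fun a => inCode a && Nat.beq (popc a) 8 && sextFam.all fun b =>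
      ! Nat.beq (popc (Nat.land a b)) 4 || hasM tetFam (Nat.land a b)) = true ∧
    tetFam.all (fun t => sextFam.any fun a => sextFam.any fun b => Nat.beq (Nat.land a b) t &&
      Nat.beq (popc t) 4) = true ∧
    hasM trioFam baseOct = true ∧ hasM sextFam baseOct = true ∧ trioFam.all (hasM sextFam) = true := by
  decide +kernel

/-- The octad fixed by the Sylow subgroup. -/
def base : Finset GolayPt := setOfMask baseOct

theorem base_mem : base ∈ octads := by
  have h := sylow_check.2.2.2.2
  simp only [Bool.and_eq_true, Nat.beq_eq] at h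
  rw [base, mem_octads_iff, maskOf_setOfMask (inCode_lt h.1)]
  exact h

theorem pack_eq {p : ℕ} (h : Nat.beq (pmul p pone) p = true) {g : ↥M24}
    (hg : Rep (g : Equiv.Perm GolayPt) p) : packG g = p := by
  have := pmul_packImage hg Rep.one
  rw [mul_one, Nat.eq_of_beq_eq_true h] at this
  exact this.symm

theorem sylow_mem {S : Subgroup ↥M24} (hS : ∀ g, g ∈ S ↔ packG g ∈ sylowList) {p : ℕ}
    (hp : (Nat.beq (pmul p pone) p && sylowList.any (Nat.beq p)) = true) {g : ↥M24}
    (hg : Rep (g : Equiv.Perm GolayPt) p) : g ∈ S := by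
  obtain ⟨h1, h2⟩ := Bool.and_eq_true_iff.1 hp
  obtain ⟨q, hq, e⟩ := List.any_eq_true.1 h2
  rw [hS, pack_eq h1 hg, Nat.eq_of_beq_eq_true e]
  exact hq

/-- Elements fixing the base octad pointwise lie in the Sylow subgroup. -/
theorem fixer_mem {S : Subgroup ↥M24} (hS : ∀ g, g ∈ S ↔ packG g ∈ sylowList) {g : ↥M24}
    (hg : ∀ x ∈ base, g • x = x) : g ∈ S := by
  classical
  obtain ⟨-, hall, hlen, hnd, -⟩ := sylow_check
  simp only [List.all_eq_true] at hall
  have hex : ∀ i : Fin 16, ∃ u : {u : ↥M24 // ∀ x ∈ base, u • x = x},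
      u.1 ∈ S ∧ Rep ((u.1 : ↥M24) : Equiv.Perm GolayPt) (fixO.getD i.val 0) := fun i => by
    have hm : fixO.getD i.val 0 ∈ fixO := by
      rw [List.getD_eq_getElem _ _ (by rw [hlen]; exact i.2)]; exact List.getElem_mem _
    obtain ⟨h12, h3⟩ := Bool.and_eq_true_iff.1 (hall _ hm)
    obtain ⟨h1, h2⟩ := Bool.and_eq_true_iff.1 h12
    obtain ⟨u, hu⟩ := exists_M24_elt h1
    refine ⟨⟨u, fun x hx => ?_⟩, sylow_mem hS h2 hu, hu⟩
    have := forallLt_elim h3 (ix_lt x)
    rw [show baseOct.testBit (ix x) = true by simpa [base] using hx, Bool.not_true, Bool.false_or,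
      Nat.beq_eq, hu x] at this
    exact ix_injective this
  choose f hf1 hf2 using hex
  have hinj : Function.Injective f := fun i j e => by
    have hpk : ∀ i : Fin 16, packG (f i).1 = fixO.getD i.val 0 := fun i => by
      have hm : fixO.getD i.val 0 ∈ fixO := by
        rw [List.getD_eq_getElem _ _ (by rw [hlen]; exact i.2)]; exact List.getElem_mem _
      exact pack_eq (Bool.and_eq_true_iff.1
        (Bool.and_eq_true_iff.1 (Bool.and_eq_true_iff.1 (hall _ hm)).1).2).1 (hf2 i)
    have h1 : fixO.getD i.val 0 = fixO.getD j.val 0 := by rw [← hpk i, ← hpk j, e]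
    rw [List.getD_eq_getElem _ _ (by rw [hlen]; exact i.2), List.getD_eq_getElem _ _ (by rw [hlen]; exact j.2),
      (nodup_of_distinctList hnd).getElem_inj_iff] at h1
    exact Fin.ext h1
  obtain ⟨i, hi⟩ := ((Nat.bijective_iff_injective_and_card f).2
    ⟨hinj, by rw [Nat.card_fin, card_fix_octad base_mem]⟩).2 ⟨g, hg⟩
  have := hf1 i
  rwa [hi] at this

/-- The images of the base octad under `K`. -/
noncomputable def imgs (K : Subgroup ↥M24) : Finset (Finset GolayPt) := (orbit ↥K base).toFinite.toFinset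

theorem mem_imgs {K : Subgroup ↥M24} {o : Finset GolayPt} : o ∈ imgs K ↔ ∃ k ∈ K, k • base = o := by
  rw [imgs, Set.Finite.mem_toFinset]
  exact ⟨fun ⟨k, e⟩ => ⟨k, k.2, e⟩, fun ⟨k, hk, e⟩ => ⟨⟨k, hk⟩, e⟩⟩

theorem imgs_invariant (K : Subgroup ↥M24) : K ≤ stabilizer ↥M24 (imgs K) := fun g hg => by
  rw [mem_stabilizer_iff]
  refine Finset.eq_of_subset_of_card_le (fun o ho => ?_) (by rw [Finset.card_smul_finset])
  obtain ⟨v, hv, rfl⟩ := Finset.mem_smul_finset.1 ho
  obtain ⟨k, hk, rfl⟩ := mem_imgs.1 hv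
  exact mem_imgs.2 ⟨g * k, mul_mem hg hk, mul_smul _ _ _⟩

theorem imgs_card_dvd (K : Subgroup ↥M24) : (imgs K).card ∣ Nat.card ↥K := by
  have h := (stabilizer ↥K base).card_mul_index
  rw [MulAction.index_stabilizer, Set.ncard_eq_toFinset_card _ (orbit ↥K base).toFinite] at h
  exact ⟨_, ((mul_comm _ _).trans h).symm⟩

/-- An element of `toQ` of a list of code words. -/
theorem toQ_mem_of_hasM {q : List ℕ} {v : ℕ} (h : hasM q v = true) : setOfMask v ∈ toQ q :=
  Finset.mem_image_of_mem _ (List.mem_toFinset.2 (hasM_iff.1 h))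

theorem imgs_cases {K : Subgroup ↥M24} {S : Subgroup ↥M24} (hS : ∀ g, g ∈ S ↔ packG g ∈ sylowList)
    (hSK : S ≤ K) (h759 : ¬ 759 ∣ Nat.card ↥K) :
    K ≤ stabilizer ↥M24 base ∨ imgs K = toQ trioFam ∨ imgs K = toQ sextFam := by
  classical
  have hgens : GensIn K sylGens := fun p hp => by
    obtain ⟨h1, h2⟩ := Bool.and_eq_true_iff.1 (List.all_eq_true.1 sylow_check.1 p hp)
    obtain ⟨g, hg⟩ := exists_M24_elt h1
    exact ⟨g, hSK (sylow_mem hS h2 hg), hg⟩
  have hbase : base ∈ imgs K := mem_imgs.2 ⟨1, one_mem K, one_smul _ _⟩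
  -- the class of an image
  have hclass : ∀ o ∈ imgs K, ∃ c ∈ classes, maskOf o ∈ clsWalk c ∧ setOfMask (clsRoot c) ∈ imgs K := by
    intro o ho
    obtain ⟨k, hk, rfl⟩ := mem_imgs.1 ho
    have hoct := mem_octads_iff.1 ((smul_mem_octads' k).2 base_mem)
    have hin : ∀ v ∈ classes.flatMap clsWalk, inCode v = true := fun v hv => by
      obtain ⟨c, hc, hv⟩ := List.mem_flatMap.1 hv
      have h0 := (Bool.and_eq_true_iff.1 (List.all_eq_true.1 class_fix c hc)).1
      obtain ⟨g, -, e⟩ := walk_mask hgens c.2.2.1 (clsRoot c) v hv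
      exact smul_mask_inCode h0 (walk_lt hgens c.2.2.1 (inCode_lt h0) v hv) e
    obtain ⟨c, hc, hv⟩ := List.mem_flatMap.1
      (mem_of_bitmap (f := fun m => Nat.beq (popc m) 8) class_cover hin hoct.1 (by simp [hoct.2]))
    obtain ⟨g, hgK, e⟩ := walk_mask hgens c.2.2.1 (clsRoot c) _ hv
    rw [setOfMask_maskOf] at e
    exact ⟨c, hc, hv, mem_imgs.2 ⟨g⁻¹ * k, mul_mem (inv_mem hgK) hk,
      by rw [mul_smul, ← e]; exact inv_smul_smul g _⟩⟩
  -- what a class forces
  have hclos : ∀ c ∈ classes, setOfMask (clsRoot c) ∈ imgs K → ∀ v ∈ clsClosure c, setOfMask v ∈ imgs K := by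
    intro c hc hroot v hv
    obtain ⟨k, hk, ek⟩ := mem_imgs.1 hroot
    have h2 := (Bool.and_eq_true_iff.1 (List.all_eq_true.1 class_fix c hc)).2
    have hg2 : GensIn K (sylGens ++ c.2.2.2.1) := fun p hp => by
      rcases List.mem_append.1 hp with hp | hp
      · exact hgens p hp
      · obtain ⟨h1, h3⟩ := Bool.and_eq_true_iff.1 (List.all_eq_true.1 h2 p hp)
        obtain ⟨g, hg⟩ := exists_M24_elt h1
        refine ⟨g, ?_, hg⟩
        have hfix : ∀ x ∈ base, (k⁻¹ * g * k) • x = x := fun x hx => by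
          have hkx : k • x ∈ setOfMask (clsRoot c) := ek ▸ Finset.smul_mem_smul_finset hx
          have := forallLt_elim h3 (ix_lt (k • x))
          rw [show (clsRoot c).testBit (ix (k • x)) = true by simpa using hkx, Bool.not_true, Bool.false_or,
            Nat.beq_eq, hg (k • x)] at this
          have hgx : g • (k • x) = k • x := ix_injective this
          rw [mul_smul, mul_smul, hgx, inv_smul_smul]
        have hK' := hSK (fixer_mem hS hfix)
        have : g = k * (k⁻¹ * g * k) * k⁻¹ := by group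
        rw [this]
        exact mul_mem (mul_mem hk hK') (inv_mem hk)
    obtain ⟨g, hgK, e⟩ := walk_mask hg2 c.2.2.2.2 baseOct v hv
    exact mem_imgs.2 ⟨g, hgK, e⟩
  -- no class of kind zero
  have hno : ∀ c ∈ classes, setOfMask (clsRoot c) ∈ imgs K → c.2.1 ≠ 0 := by
    intro c hc hroot h0
    refine h759 ?_
    have hfull := List.all_eq_true.1 class_full c hc
    rw [h0, show Nat.beq 0 0 = true from rfl, Bool.not_true, Bool.false_or, Nat.beq_eq] at hfull
    have hin : ∀ v ∈ clsClosure c, inCode v = true := fun v hv => by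
      have hm := hclos c hc hroot v hv
      obtain ⟨k, hk, e⟩ := mem_imgs.1 hm
      have h := mem_octads_iff.1 (e ▸ (smul_mem_octads' k).2 base_mem : setOfMask v ∈ octads)
      obtain ⟨g, -, e'⟩ := walk_mask (H := ⊤) (gens := sylGens ++ c.2.2.2.1) (fun p hp => by
        rcases List.mem_append.1 hp with hp | hp
        · obtain ⟨g, -, hg⟩ := hgens p hp; exact ⟨g, trivial, hg⟩
        · obtain ⟨g, hg⟩ := exists_M24_elt (Bool.and_eq_true_iff.1 (List.all_eq_true.1
            (Bool.and_eq_true_iff.1 (List.all_eq_true.1 class_fix c hc)).2 p hp)).1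
          exact ⟨g, trivial, hg⟩) c.2.2.2.2 baseOct v hv
      exact smul_mask_inCode (Bool.and_eq_true_iff.1 sylow_check.2.2.2.2).1
        (walk_lt (H := ⊤) (gens := sylGens ++ c.2.2.2.1) (fun p hp => by
          rcases List.mem_append.1 hp with hp | hp
          · obtain ⟨g, -, hg⟩ := hgens p hp; exact ⟨g, trivial, hg⟩
          · obtain ⟨g, hg⟩ := exists_M24_elt (Bool.and_eq_true_iff.1 (List.all_eq_true.1
              (Bool.and_eq_true_iff.1 (List.all_eq_true.1 class_fix c hc)).2 p hp)).1
            exact ⟨g, trivial, hg⟩) c.2.2.2.2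
          (inCode_lt (Bool.and_eq_true_iff.1 sylow_check.2.2.2.2).1) v hv) e'
    have hall : ∀ o ∈ octads, o ∈ imgs K := fun o ho => by
      have h := mem_octads_iff.1 ho
      have := hclos c hc hroot _ (mem_of_bitmap (f := fun m => Nat.beq (popc m) 8) hfull hin h.1 (by simp [h.2]))
      rwa [setOfMask_maskOf] at this
    have hset : (↑(imgs K) : Set (Finset GolayPt)) = octads := by
      ext o
      refine ⟨fun ho => ?_, hall o⟩
      obtain ⟨k, -, rfl⟩ := mem_imgs.1 ho
      exact (smul_mem_octads' k).2 base_mem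
    have h := congrArg Set.ncard hset
    rw [Set.ncard_coe_finset, octads_ncard] at h
    exact h ▸ imgs_card_dvd K
  have hkind : ∀ c ∈ classes, setOfMask (clsRoot c) ∈ imgs K →
      (((clsWalk c).all (hasM sextFam) = true ∧ ∀ v ∈ sextFam, setOfMask v ∈ imgs K) ∨
        ((clsWalk c).all (hasM trioFam) = true ∧ ∀ v ∈ trioFam, setOfMask v ∈ imgs K) ∨
        (clsWalk c).all (Nat.beq baseOct) = true) := by
    intro c hc hroot
    have h := List.all_eq_true.1 class_small c hc
    have h0 : Nat.beq c.2.1 0 = false := by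
      rw [Bool.eq_false_iff, ne_eq, Nat.beq_eq]; exact hno c hc hroot
    rw [h0, Bool.false_or] at h
    simp only [Bool.or_eq_true, Bool.and_eq_true, Nat.beq_eq] at h
    rcases h with (⟨⟨-, h1⟩, h2⟩ | ⟨⟨-, h1⟩, h2⟩) | h
    · exact Or.inl ⟨h1, fun v hv => hclos c hc hroot v (hasM_iff.1 (List.all_eq_true.1 h2 v hv))⟩
    · exact Or.inr (Or.inl ⟨h1, fun v hv => hclos c hc hroot v (hasM_iff.1 (List.all_eq_true.1 h2 v hv))⟩)
    · exact Or.inr (Or.inr h)
  obtain ⟨-, -, -, -, -, -, hbT, hbX, hTX⟩ := fam_facts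
  by_cases hX : ∀ v ∈ sextFam, setOfMask v ∈ imgs K
  · refine Or.inr (Or.inr (Finset.Subset.antisymm (fun o ho => ?_) fun o ho => ?_))
    · obtain ⟨c, hc, hv, hroot⟩ := hclass o ho
      rw [← setOfMask_maskOf o]
      refine toQ_mem_of_hasM ?_
      rcases hkind c hc hroot with ⟨h, -⟩ | ⟨h, -⟩ | h
      · exact List.all_eq_true.1 h _ hv
      · exact List.all_eq_true.1 hTX _ (hasM_iff.1 (List.all_eq_true.1 h _ hv))
      · rw [← Nat.eq_of_beq_eq_true (List.all_eq_true.1 h _ hv)]; exact hbX
    · obtain ⟨v, hv, rfl⟩ := Finset.mem_image.1 ho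
      exact hX v (List.mem_toFinset.1 hv)
  by_cases hT : ∀ v ∈ trioFam, setOfMask v ∈ imgs K
  · refine Or.inr (Or.inl (Finset.Subset.antisymm (fun o ho => ?_) fun o ho => ?_))
    · obtain ⟨c, hc, hv, hroot⟩ := hclass o ho
      rw [← setOfMask_maskOf o]
      refine toQ_mem_of_hasM ?_
      rcases hkind c hc hroot with ⟨-, h⟩ | ⟨h, -⟩ | h
      · exact absurd h hX
      · exact List.all_eq_true.1 h _ hv
      · rw [← Nat.eq_of_beq_eq_true (List.all_eq_true.1 h _ hv)]; exact hbT
    · obtain ⟨v, hv, rfl⟩ := Finset.mem_image.1 ho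
      exact hT v (List.mem_toFinset.1 hv)
  refine Or.inl fun g hg => ?_
  obtain ⟨c, hc, hv, hroot⟩ := hclass (g • base) (mem_imgs.2 ⟨g, hg, rfl⟩)
  rcases hkind c hc hroot with ⟨-, h⟩ | ⟨-, h⟩ | h
  · exact absurd h hX
  · exact absurd h hT
  · rw [mem_stabilizer_iff, ← setOfMask_maskOf (g • base),
      ← Nat.eq_of_beq_eq_true (List.all_eq_true.1 h _ hv)]
    rfl

theorem sextFam_lt : ∀ v ∈ sextFam, v < 2 ^ 24 := fun v hv => by
  have h := List.all_eq_true.1 fam_facts.2.2.2.2.1 v hv
  simp only [Bool.and_eq_true] at h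
  exact inCode_lt h.1.1

theorem stab_sextFam : stabilizer ↥M24 (toQ sextFam) ≤ stabilizer ↥M24 (toQ tetFam) := fun g hg => by
  obtain ⟨-, hS, -, -, hall, htet, -, -, -⟩ := fam_facts
  have hlt := sextFam_lt
  have htlt := (toQ_sextet hS).2
  rw [mem_stabilizer_iff]
  refine Finset.eq_of_subset_of_card_le (fun t ht => ?_) (by rw [Finset.card_smul_finset])
  obtain ⟨u, hu, rfl⟩ := Finset.mem_smul_finset.1 ht
  rw [mem_toQ htlt] at hu
  have h := List.all_eq_true.1 htet _ hu
  simp only [List.any_eq_true, Bool.and_eq_true, Nat.beq_eq] at h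
  obtain ⟨a, ha, b, hb, hab, h4⟩ := h
  have himg : ∀ v ∈ sextFam, maskOf (g • setOfMask v) ∈ sextFam := fun v hv => by
    rw [← mem_toQ hlt]
    have : g • setOfMask v ∈ g • toQ sextFam :=
      Finset.smul_mem_smul_finset (Finset.mem_image_of_mem _ (List.mem_toFinset.2 hv))
    rwa [mem_stabilizer_iff.1 hg] at this
  have hu' : u = setOfMask a ∩ setOfMask b := by
    rw [← setOfMask_land, ← setOfMask_maskOf u, ← hab]
    rfl
  rw [mem_toQ htlt, hu', smul_inter', maskOf_inter]
  have h2 := List.all_eq_true.1 hall _ (himg a ha)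
  simp only [Bool.and_eq_true, List.all_eq_true, Bool.or_eq_true, Bool.not_eq_true'] at h2
  refine hasM_iff.1 ((h2.2 _ (himg b hb)).resolve_left ?_)
  rw [Bool.not_eq_false, Nat.beq_eq]
  show popc (maskOf (g • setOfMask a) &&& maskOf (g • setOfMask b)) = 4
  rw [← maskOf_inter, popc_maskOf, ← smul_inter', card_smul_set, ← hu', ← popc_maskOf, h4]

theorem factorization_two : (244823040 : ℕ).factorization 2 = 10 := by
  rw [show (244823040 : ℕ) = 2 ^ 10 * 239085 by norm_num, Nat.factorization_mul (by norm_num) (by norm_num),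
    Finsupp.add_apply, Nat.factorization_pow, Finsupp.smul_apply, Nat.Prime.factorization_self (by norm_num),
    Nat.factorization_eq_zero_of_not_dvd (by norm_num)]
  rfl

theorem card_trio_stab {T : Finset (Finset GolayPt)} (hT : T ∈ trios) :
    Nat.card ↥(stabilizer ↥M24 T) = 64512 :=
  card_stabilizer_of_orbit T trios (fun g => smul_mem_trios g hT)
    (fun _ hx => exists_smul_trio hT hx) trios_ncard (by norm_num)

theorem card_sextet_stab {T : Finset (Finset GolayPt)} (hT : T ∈ sextets) :
    Nat.card ↥(stabilizer ↥M24 T) = 138240 :=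
  card_stabilizer_of_orbit T sextets (fun g => smul_mem_sextets g hT)
    (fun _ hx => exists_smul_sextet hT hx) sextets_ncard (by norm_num)

/-- A subgroup holding a Sylow 2-subgroup and of order prime to 23 fixes an octad, a trio or a sextet. -/
theorem two_overgroups (H : Subgroup ↥M24) (h2 : 2 ^ 10 ∣ Nat.card ↥H) (h759 : ¬ 759 ∣ Nat.card ↥H) :
    (∃ o ∈ octads, H ≤ stabilizer ↥M24 o) ∨ (∃ T ∈ trios, H ≤ stabilizer ↥M24 T) ∨
      ∃ S ∈ sextets, H ≤ stabilizer ↥M24 S := by
  classical
  have h2' : Fact (Nat.Prime 2) := ⟨Nat.prime_two⟩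
  obtain ⟨S, hS, hSc⟩ := exists_sylow_two
  obtain ⟨P, hPc⟩ := Sylow.exists_subgroup_card_pow_prime 2 h2
  have e : ∀ Q : Subgroup ↥M24, Nat.card ↥Q = 2 ^ 10 → Nat.card ↥Q = 2 ^ (Nat.card ↥M24).factorization 2 :=
    fun Q hQ => by rw [hQ, M24_card, factorization_two]
  obtain ⟨c, hc⟩ := MulAction.exists_smul_eq ↥M24
    (Sylow.ofCard (P.map H.subtype) (e _ (by rw [Subgroup.card_map_of_injective H.subtype_injective, hPc])))
    (Sylow.ofCard S (e S hSc))
  let K : Subgroup ↥M24 := H.map (MulAut.conj c).toMonoidHom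
  have hKc : Nat.card ↥K = Nat.card ↥H :=
    (Nat.card_congr (H.equivMapOfInjective _ (MulAut.conj c).injective).toEquiv).symm
  have hSK : S ≤ K := fun s hs => by
    have hm : s ∈ (c • Sylow.ofCard (P.map H.subtype)
        (e _ (by rw [Subgroup.card_map_of_injective H.subtype_injective, hPc])) : Sylow 2 ↥M24) := by
      rw [hc]; exact hs
    rw [Sylow.smul_def] at hm
    obtain ⟨w, ⟨w', -, rfl⟩, e'⟩ := hm
    exact ⟨w', w'.2, e'⟩
  have back : ∀ {β : Type} [inst : MulAction ↥M24 β] (T : β),
      K ≤ stabilizer ↥M24 T → H ≤ stabilizer ↥M24 (c⁻¹ • T) := by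
    intro β _ T hT h hh
    have hk : (c * h * c⁻¹) • T = T := hT ⟨h, hh, rfl⟩
    rw [mem_stabilizer_iff]
    rw [mul_smul, mul_smul] at hk
    conv_rhs => rw [← hk]
    rw [inv_smul_smul]
  rcases imgs_cases hS hSK (by rwa [hKc]) with h | h | h
  · exact Or.inl ⟨_, (smul_mem_octads' c⁻¹).2 base_mem, back _ h⟩
  · exact Or.inr (Or.inl ⟨_, smul_mem_trios c⁻¹ (toQ_trio fam_facts.1).1, back _ (h ▸ imgs_invariant K)⟩)
  · exact Or.inr (Or.inr ⟨_, smul_mem_sextets c⁻¹ (toQ_sextet fam_facts.2.1).1,
      back _ ((h ▸ imgs_invariant K).trans stab_sextFam)⟩)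

theorem no_card_967680 (H : Subgroup ↥M24) : Nat.card ↥H ≠ 967680 := by
  intro h
  rcases two_overgroups H (by rw [h]; norm_num) (by rw [h]; norm_num) with ⟨o, ho, hle⟩ | ⟨o, ho, hle⟩ | ⟨o, ho, hle⟩ <;>
    have := Subgroup.card_le_of_le hle
  · rw [card_stab_octad' ho] at this; omega
  · rw [card_trio_stab ho] at this; omega
  · rw [card_sextet_stab ho] at this; omega

theorem eq_octad_stab {H : Subgroup ↥M24} (h : Nat.card ↥H = 322560) :
    ∃ o ∈ octads, H = stabilizer ↥M24 o := by
  rcases two_overgroups H (by rw [h]; norm_num) (by rw [h]; norm_num) with ⟨o, ho, hle⟩ | ⟨o, ho, hle⟩ | ⟨o, ho, hle⟩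
  · exact ⟨o, ho, Subgroup.eq_of_le_of_card_ge hle (by rw [card_stab_octad' ho, h])⟩
  · have := Subgroup.card_le_of_le hle
    rw [card_trio_stab ho] at this; omega
  · have := Subgroup.card_le_of_le hle
    rw [card_sextet_stab ho] at this; omega

theorem eq_sextet_stab {H : Subgroup ↥M24} (h : Nat.card ↥H = 138240) :
    ∃ S ∈ sextets, H = stabilizer ↥M24 S := by
  rcases two_overgroups H (by rw [h]; norm_num) (by rw [h]; norm_num) with ⟨o, ho, hle⟩ | ⟨o, ho, hle⟩ | ⟨o, ho, hle⟩
  · have := Subgroup.card_dvd_of_le hle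
    rw [card_stab_octad' ho, h] at this; norm_num at this
  · have := Subgroup.card_le_of_le hle
    rw [card_trio_stab ho] at this; omega
  · exact ⟨o, ho, Subgroup.eq_of_le_of_card_ge hle (by rw [card_sextet_stab ho, h])⟩

/-! ### index 276 -/

theorem fixSet_eleven {y : ↥M24} (hy : orderOf y = 11) : (fixSet y).card = 2 := fixed_eleven hy

theorem not_le_stab_pair {a b : GolayPt} (hab : a ≠ b) (K : Subgroup ↥M24)
    (hK : K ≤ stabilizer ↥M24 a ⊓ stabilizer ↥M24 b) : Nat.card ↥K ≠ 36960 := by
  obtain ⟨t, h1, h2⟩ := exists_map_two hab (show (none : GolayPt) ≠ some 0 by decide)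
  let K' : Subgroup ↥M24 := K.map (MulAut.conj t).toMonoidHom
  have hK' : K'.map M24.subtype ≤ Spor.M22 := by
    rintro _ ⟨_, ⟨g, hg, rfl⟩, rfl⟩
    refine ⟨⟨(t * g * t⁻¹ : ↥M24).2, ?_⟩, ?_⟩
    · show (t * g * t⁻¹) • (none : GolayPt) = none
      rw [← h1, mul_smul, mul_smul, inv_smul_smul, (hK hg).1]
    · show (t * g * t⁻¹) • (some 0 : GolayPt) = some 0
      rw [← h2, mul_smul, mul_smul, inv_smul_smul, (hK hg).2]
  intro h
  refine no_card_36960 ((K'.map M24.subtype).subgroupOf Spor.M22) ?_
  rw [Nat.card_congr (Subgroup.subgroupOfEquivOfLe hK').toEquiv,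
    Subgroup.card_map_of_injective M24.subtype_injective,
    Subgroup.card_map_of_injective (MulAut.conj t).injective, h]

theorem eq_duad_stab {H : Subgroup ↥M24} (h : Nat.card ↥H = 887040) :
    ∃ s : Finset GolayPt, s.card = 2 ∧ H = stabilizer ↥M24 s := by
  classical
  have h11 : Fact (Nat.Prime 11) := ⟨by norm_num⟩
  have h7 : Fact (Nat.Prime 7) := ⟨by norm_num⟩
  obtain ⟨y', hy'⟩ := exists_prime_orderOf_dvd_card' (G := ↥H) 11 (by rw [h]; norm_num)
  obtain ⟨w', hw'⟩ := exists_prime_orderOf_dvd_card' (G := ↥H) 7 (by rw [h]; norm_num)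
  have hy : orderOf (y' : ↥M24) = 11 := by rw [Subgroup.orderOf_coe, hy']
  have hw : orderOf (w' : ↥M24) = 7 := by rw [Subgroup.orderOf_coe, hw']
  obtain ⟨a, b, hab, hF⟩ := Finset.card_eq_two.1 (fixSet_eleven hy)
  have hpos : ∀ c, (orb H c).card ≠ 1 := fun c hc => by
    have hle : H ≤ stabilizer ↥M24 c := fun g hg => by
      obtain ⟨v, hv⟩ := Finset.card_eq_one.1 hc
      have e1 := hv ▸ orb_invariant hg c (self_mem_orb H c)
      have e2 := hv ▸ self_mem_orb H c
      rw [Finset.mem_singleton] at e1 e2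
      exact e1.trans e2.symm
    have := Subgroup.card_dvd_of_le hle
    rw [h, card_stab_point] at this
    norm_num at this
  have hle24 : ∀ A : Finset GolayPt, A.card ≤ 24 := fun A => le_trans (Finset.card_le_univ A) (le_of_eq rfl)
  have no12 : ∀ (L : Subgroup ↥M24) (c : GolayPt) (v : ↥M24), v ∈ L → orderOf v = 7 → (orb L c).card ≠ 12 := by
    intro L c v hv hvo hc
    have := modEq_invariant hvo (orb_invariant hv (a := c))
    rw [hc] at this
    have h3 : (orb L c ∩ fixSet v).card ≤ 3 := by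
      rw [show (3 : ℕ) = 24 % 7 from rfl, ← card_fixSet (Or.inr rfl) hvo]
      exact Finset.card_le_card Finset.inter_subset_right
    omega
  have hdvd : (orb H a).card ∣ 887040 := h ▸ ⟨_, (card_orb_mul H a).symm⟩
  have hm := modEq_invariant hy (orb_invariant y'.2 (a := a))
  have hsub : orb H a ∩ fixSet (y' : ↥M24) ⊆ {a, b} := hF ▸ Finset.inter_subset_right
  have hmem : a ∈ orb H a ∩ fixSet (y' : ↥M24) :=
    Finset.mem_inter.2 ⟨self_mem_orb H a, hF ▸ Finset.mem_insert_self a {b}⟩
  have := hle24 (orb H a)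
  by_cases hb : b ∈ orb H a
  · have e2 : orb H a ∩ fixSet (y' : ↥M24) = {a, b} :=
      Finset.Subset.antisymm hsub (Finset.insert_subset_iff.2 ⟨hmem, Finset.singleton_subset_iff.2
        (Finset.mem_inter.2 ⟨hb, hF ▸ Finset.mem_insert_of_mem (Finset.mem_singleton_self b)⟩)⟩)
    rw [e2, Finset.card_pair hab] at hm
    have hge : 2 ≤ (orb H a).card := by
      rw [← Finset.card_pair hab, ← e2]; exact Finset.card_le_card Finset.inter_subset_left
    have : (orb H a).card = 2 ∨ (orb H a).card = 13 ∨ (orb H a).card = 24 := by omega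
    rcases this with h2 | h2 | h2
    · refine ⟨{a, b}, Finset.card_pair hab, ?_⟩
      have e : ({a, b} : Finset GolayPt) = orb H a :=
        Finset.eq_of_subset_of_card_le (e2 ▸ Finset.inter_subset_left) (by rw [h2, Finset.card_pair hab])
      have hle : H ≤ stabilizer ↥M24 ({a, b} : Finset GolayPt) := fun g hg => by
        rw [mem_stabilizer_iff, e]
        refine Finset.eq_of_subset_of_card_le (fun z hz => ?_) (by rw [card_smul_set])
        obtain ⟨v, hv, rfl⟩ := Finset.mem_smul_finset.1 hz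
        exact orb_invariant hg v hv
      refine Subgroup.eq_of_le_of_card_ge hle ?_
      set T := stabilizer ↥M24 ({a, b} : Finset GolayPt)
      have hmul := card_orb_mul T a
      have h3 : (orb T a).card ≤ 2 := by
        rw [← Finset.card_pair hab]
        refine Finset.card_le_card (orb_subset (Finset.mem_insert_self a {b}) fun g hg v hv => ?_)
        rw [← mem_stabilizer_iff.1 hg]
        exact Finset.smul_mem_smul_finset hv
      have h4 : Nat.card ↥(T ⊓ stabilizer ↥M24 a) ≤ 443520 := by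
        rw [← card_stab_two a b hab]
        refine Subgroup.card_le_of_le fun g hg => ⟨hg.2, ?_⟩
        have hb' : g • b ∈ ({a, b} : Finset GolayPt) := by
          rw [← mem_stabilizer_iff.1 hg.1]
          exact Finset.smul_mem_smul_finset (by simp)
        rw [Finset.mem_insert, Finset.mem_singleton] at hb'
        exact hb'.resolve_left fun e' => hab (smul_left_cancel g (hg.2.trans e'.symm))
      rw [h, ← hmul]
      exact (Nat.mul_le_mul h3 h4).trans (by norm_num)
    · rw [h2] at hdvd; norm_num at hdvd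
    · exfalso
      set K := H ⊓ stabilizer ↥M24 a
      have hKc : Nat.card ↥K = 36960 := by
        have := card_orb_mul H a
        rw [h2, h] at this
        change 24 * Nat.card ↥K = 887040 at this
        omega
      obtain ⟨z', hz'⟩ := exists_prime_orderOf_dvd_card' (G := ↥K) 11 (by rw [hKc]; norm_num)
      obtain ⟨v', hv'⟩ := exists_prime_orderOf_dvd_card' (G := ↥K) 7 (by rw [hKc]; norm_num)
      have hz : orderOf (z' : ↥M24) = 11 := by rw [Subgroup.orderOf_coe, hz']
      have hv : orderOf (v' : ↥M24) = 7 := by rw [Subgroup.orderOf_coe, hv']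
      have haF : a ∈ fixSet (z' : ↥M24) := mem_fixSet.2 z'.2.2
      obtain ⟨c, hc⟩ := Finset.card_eq_one.1
        (show ((fixSet (z' : ↥M24)).erase a).card = 1 by rw [Finset.card_erase_of_mem haF, fixSet_eleven hz])
      have hca : c ∈ fixSet (z' : ↥M24) ∧ c ≠ a := by
        have := hc ▸ Finset.mem_singleton_self c
        exact ⟨Finset.mem_of_mem_erase this, Finset.ne_of_mem_erase this⟩
      have haK : a ∉ orb K c := fun h' => by
        have := orb_subset (A := ({a} : Finset GolayPt)ᶜ) (a := c) (by simpa using hca.2)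
          (fun g hg w hw => by
            rw [Finset.mem_compl, Finset.mem_singleton] at hw ⊢
            exact fun e => hw (smul_left_cancel g (e.trans (Subgroup.mem_inf.1 hg).2.symm))) h'
        simp at this
      have hm' := modEq_invariant hz (orb_invariant z'.2 (a := c))
      have e1 : orb K c ∩ fixSet (z' : ↥M24) = {c} := by
        refine Finset.Subset.antisymm (fun w hw => ?_)
          (Finset.singleton_subset_iff.2 (Finset.mem_inter.2 ⟨self_mem_orb K c, hca.1⟩))
        rw [← hc, Finset.mem_erase]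
        exact ⟨fun e => haK (e ▸ (Finset.mem_inter.1 hw).1), (Finset.mem_inter.1 hw).2⟩
      rw [e1, Finset.card_singleton] at hm'
      have hle23 : (orb K c).card ≤ 23 := by
        have hlt : (orb K c).card < 24 := Finset.card_lt_univ_of_notMem haK
        omega
      have hd : (orb K c).card ∣ 36960 := hKc ▸ ⟨_, (card_orb_mul K c).symm⟩
      have : (orb K c).card = 1 ∨ (orb K c).card = 12 ∨ (orb K c).card = 23 := by omega
      rcases this with h' | h' | h'
      · refine not_le_stab_pair hca.2.symm K (le_inf inf_le_right fun g hg => ?_) hKc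
        obtain ⟨w, hw⟩ := Finset.card_eq_one.1 h'
        have e3 := hw ▸ orb_invariant hg c (self_mem_orb K c)
        have e4 := hw ▸ self_mem_orb K c
        rw [Finset.mem_singleton] at e3 e4
        exact e3.trans e4.symm
      · exact no12 K c _ v'.2 hv h'
      · rw [h'] at hd; norm_num at hd
  · exfalso
    have e1 : orb H a ∩ fixSet (y' : ↥M24) = {a} := by
      refine Finset.Subset.antisymm (fun v hv => ?_) (Finset.singleton_subset_iff.2 hmem)
      have := hsub hv
      rw [Finset.mem_insert, Finset.mem_singleton] at this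
      exact Finset.mem_singleton.2 (this.resolve_right fun e => hb (e ▸ (Finset.mem_inter.1 hv).1))
    rw [e1, Finset.card_singleton] at hm
    have hlt : (orb H a).card < 24 := Finset.card_lt_univ_of_notMem hb
    have h1 := hpos a
    have h12 := no12 H a _ w'.2 hw
    have : (orb H a).card = 23 := by omega
    rw [this] at hdvd
    norm_num at hdvd

end CfsgLib.Sporadic.IndexFour
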