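import Cfsg.Agent.Lib.Sporadic.MathieuTwoTwoAut
import Cfsg.Agent.Lib.Sporadic.OctadStab

/-!
# Invariant sets of subgroups of M24 containing elements of order 5 or 7

Fixed point counts, the octad on a 7-cycle, and bounds for stabilisers of an octad and a point.
-/

set_option autoImplicit false

namespace CfsgLib.Sporadic.OrbTool

open Cfsg MulAction CfsgLib.Sporadic CfsgLib.Sporadic.MathieuAut
open scoped Pointwise

/-- The fixed points. -/
def fixSet (y : ↥M24) : Finset GolayPt := Finset.univ.filter fun z => y • z = z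

theorem mem_fixSet {y : ↥M24} {z : GolayPt} : z ∈ fixSet y ↔ y • z = z := by simp [fixSet]

theorem card_fixSet {q : ℕ} [Fact q.Prime] (hq : q = 5 ∨ q = 7) {y : ↥M24} (hy : orderOf y = q) :
    (fixSet y).card = 24 % q := by
  have h4 : (fixSet y).card ≤ 4 := M22Aut.fixed_le_four hq hy
  have hm := fixed_modEq hy Finset.univ fun z _ => Finset.mem_univ _
  rw [Finset.card_univ, show Fintype.card GolayPt = 24 from rfl, Nat.ModEq] at hm
  change 24 % q = (fixSet y).card % q at hm
  rcases hq with rfl | rfl <;> omega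

theorem modEq_invariant {q : ℕ} [Fact q.Prime] {y : ↥M24} (hy : orderOf y = q) {A : Finset GolayPt}
    (hA : ∀ z ∈ A, y • z ∈ A) : A.card % q = (A ∩ fixSet y).card % q := by
  have h := fixed_modEq hy A hA
  rwa [show A.filter (fun z => y • z = z) = A ∩ fixSet y by ext z; simp [mem_fixSet], Nat.ModEq] at h

def seven : ℕ := 963636508119918896843785411337304640

/-- The mask of a cycle of the standard element. -/
noncomputable def cycleMask (z : ℕ) : ℕ := bitmap id ((List.range 7).map fun e => porbit seven z e)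

theorem seven_check : forallLt 24 (fun z => Nat.beq (pget seven z) z ||
    (List.range 24).any fun f => Nat.beq (pget seven f) f && ! (cycleMask z).testBit f &&
      inCode (Nat.lor (cycleMask z) (Nat.shiftLeft 1 f)) &&
      Nat.beq (popc (Nat.lor (cycleMask z) (Nat.shiftLeft 1 f))) 8 &&
      Nat.beq (popc (cycleMask z)) 7) = true := by
  decide +kernel

theorem factorization_seven : (244823040 : ℕ).factorization 7 = 1 := by
  rw [show (244823040 : ℕ) = 7 * 34974720 by norm_num, Nat.factorization_mul (by norm_num) (by norm_num),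
    Finsupp.add_apply, Nat.Prime.factorization_self (by norm_num),
    Nat.factorization_eq_zero_of_not_dvd (by norm_num)]

/-- A set of seven points moved in one cycle lies in an octad with a fixed point. -/
theorem cycle_octad {y : ↥M24} (hy : orderOf y = 7) {A : Finset GolayPt} (hc : A.card = 7)
    (hinv : ∀ z ∈ A, y • z ∈ A) (hno : ∀ z ∈ A, y • z ≠ z) :
    ∃ f, y • f = f ∧ insert f A ∈ octads := by
  classical
  have h7 : Fact (Nat.Prime 7) := ⟨by norm_num⟩
  obtain ⟨x, hxr, hxo, -⟩ := exists_prime_elt_M24 (q := 7) (k := 2) (px := seven)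
    (pg := 980512820183673053517745274082149408) (by decide +kernel)
  let S : Sylow 7 ↥M24 := Sylow.ofCard (Subgroup.zpowers y)
    (by rw [Nat.card_zpowers, hy, M24_card, factorization_seven, pow_one])
  let T : Sylow 7 ↥M24 := Sylow.ofCard (Subgroup.zpowers x)
    (by rw [Nat.card_zpowers, hxo, M24_card, factorization_seven, pow_one])
  obtain ⟨g, hg⟩ := MulAction.exists_smul_eq ↥M24 S T
  have hgy : g * y * g⁻¹ ∈ Subgroup.zpowers x := by
    have h : g * y * g⁻¹ ∈ (g • S : Sylow 7 ↥M24) := by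
      rw [Sylow.smul_def]
      exact ⟨y, Subgroup.mem_zpowers y, rfl⟩
    rw [hg] at h
    exact h
  have hxy : x ∈ Subgroup.zpowers (g * y * g⁻¹) := by
    have e : Subgroup.zpowers (g * y * g⁻¹) = Subgroup.zpowers x := by
      refine Subgroup.eq_of_le_of_card_ge (Subgroup.zpowers_le.2 hgy) ?_
      rw [Nat.card_zpowers, Nat.card_zpowers, hxo, ← MulAut.conj_apply,
        MulEquiv.orderOf_eq, hy]
    rw [e]
    exact Subgroup.mem_zpowers x
  obtain ⟨n, hn⟩ := hgy
  obtain ⟨m, hm⟩ := hxy
  simp only at hn hm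
  have hinvA : ∀ z ∈ g • A, (g * y * g⁻¹) • z ∈ g • A := fun z hz => by
    obtain ⟨w, hw, rfl⟩ := Finset.mem_smul_finset.1 hz
    rw [mul_smul, mul_smul, inv_smul_smul]
    exact Finset.smul_mem_smul_finset (hinv w hw)
  have hpow : ∀ k : ℕ, ∀ z ∈ g • A, (g * y * g⁻¹) ^ k • z ∈ g • A := fun k => by
    induction k with
    | zero => intro z hz; simpa using hz
    | succ k ih => intro z hz; rw [pow_succ, mul_smul]; exact ih _ (hinvA z hz)
  have hxA : ∀ z ∈ g • A, x • z ∈ g • A := fun z hz => by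
    have hord : orderOf (g * y * g⁻¹) = 7 := by
      rw [← MulAut.conj_apply, MulEquiv.orderOf_eq, hy]
    have : x = (g * y * g⁻¹) ^ (m % 7).toNat := by
      rw [← hm, ← zpow_mod_orderOf, hord, ← zpow_natCast, Int.toNat_of_nonneg (Int.emod_nonneg _ (by norm_num))]
      rfl
    rw [this]
    exact hpow _ z hz
  have hfixiff : ∀ z : GolayPt, x • z = z → y • (g⁻¹ • z) = g⁻¹ • z := fun z hz => by
    have h : (g * y * g⁻¹) • z = z := by
      rw [← hn]
      exact MulAction.mem_stabilizer_iff.1 (Subgroup.zpow_mem (stabilizer ↥M24 z) hz n)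
    rw [mul_smul, mul_smul] at h
    rw [eq_inv_smul_iff, h]
  obtain ⟨a, ha⟩ : A.Nonempty := Finset.card_pos.1 (by omega)
  have hz0 : g • a ∈ g • A := Finset.smul_mem_smul_finset ha
  have hmove : pget seven (ix (g • a)) ≠ ix (g • a) := fun e => by
    have hfx : x • (g • a) = g • a := ix_injective ((hxr (g • a)).symm.trans e)
    exact hno a ha (by simpa using hfixiff _ hfx)
  have hck := forallLt_elim seven_check (ix_lt (g • a))
  rw [Bool.or_eq_true, Nat.beq_eq] at hck
  have hck := hck.resolve_left hmove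
  simp only [List.any_eq_true, List.mem_range, Bool.and_eq_true, Nat.beq_eq] at hck
  obtain ⟨f, hf, ⟨⟨⟨hff, -⟩, hcode⟩, h8⟩, h7'⟩ := hck
  have hsub : setOfMask (cycleMask (ix (g • a))) ⊆ g • A := fun w hw => by
    rw [mem_setOfMask, cycleMask, testBit_bitmap] at hw
    obtain ⟨v, hv, e⟩ := hw
    obtain ⟨k, -, rfl⟩ := List.mem_map.1 hv
    rw [id, porbit_spec hxr (ix_lt _), pt_ix] at e
    rw [← ix_injective e]
    have : ∀ k : ℕ, ∀ z ∈ g • A, x ^ k • z ∈ g • A := fun k => by
      induction k with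
      | zero => intro z hz; simpa using hz
      | succ k ih => intro z hz; rw [pow_succ, mul_smul]; exact ih _ (hxA z hz)
    exact this k _ hz0
  have heq : setOfMask (cycleMask (ix (g • a))) = g • A :=
    Finset.eq_of_subset_of_card_le hsub (by rw [card_setOfMask, h7', card_smul_set, hc])
  have hoct : setOfMask (Nat.lor (cycleMask (ix (g • a))) (Nat.shiftLeft 1 f)) ∈ octads := by
    rw [mem_octads_iff, maskOf_setOfMask (inCode_lt hcode)]; exact ⟨hcode, h8⟩
  refine ⟨g⁻¹ • pt f, hfixiff _ (fixes_of_pget hxr hf hff), ?_⟩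
  have e : setOfMask (Nat.lor (cycleMask (ix (g • a))) (Nat.shiftLeft 1 f)) = insert (pt f) (g • A) := by
    ext w
    rw [← heq]
    show w ∈ setOfMask (cycleMask _ ||| 1 <<< f) ↔ _
    simp only [mem_setOfMask, Finset.mem_insert, Nat.testBit_or, Bool.or_eq_true, Nat.one_shiftLeft,
      Nat.testBit_two_pow, decide_eq_true_eq]
    constructor
    · rintro (h | h)
      · exact Or.inr h
      · exact Or.inl (by rw [h, pt_ix])
    · rintro (h | h)
      · exact Or.inr (by rw [h, ix_pt hf])
      · exact Or.inl h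
  have : g⁻¹ • setOfMask (Nat.lor (cycleMask (ix (g • a))) (Nat.shiftLeft 1 f)) = insert (g⁻¹ • pt f) A := by
    rw [e, Finset.smul_finset_insert, inv_smul_smul]
  rw [← this]
  exact (smul_mem_octads' _).2 hoct

/-- The orbit of a point under a subgroup. -/
noncomputable def orb (H : Subgroup ↥M24) (a : GolayPt) : Finset GolayPt := (orbit ↥H a).toFinite.toFinset

theorem self_mem_orb (H : Subgroup ↥M24) (a : GolayPt) : a ∈ orb H a := by simp [orb]

theorem orb_invariant {H : Subgroup ↥M24} {a : GolayPt} {g : ↥M24} (hg : g ∈ H) :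
    ∀ z ∈ orb H a, g • z ∈ orb H a := fun z hz => by
  rw [orb, Set.Finite.mem_toFinset] at hz ⊢
  exact mem_orbit_of_mem_orbit (⟨g, hg⟩ : ↥H) hz

theorem orb_subset {H : Subgroup ↥M24} {a : GolayPt} {A : Finset GolayPt} (ha : a ∈ A)
    (hA : ∀ g ∈ H, ∀ z ∈ A, g • z ∈ A) : orb H a ⊆ A := fun z hz => by
  rw [orb, Set.Finite.mem_toFinset] at hz
  obtain ⟨g, rfl⟩ := hz
  exact hA g g.2 a ha

theorem card_orb_mul (H : Subgroup ↥M24) (a : GolayPt) :
    (orb H a).card * Nat.card ↥(H ⊓ stabilizer ↥M24 a) = Nat.card H := by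
  have := orbit_card H a
  rwa [Set.ncard_eq_toFinset_card _ (orbit ↥H a).toFinite] at this

/-- The stabiliser of an octad and of a point outside has order at most 20160. -/
theorem card_octad_out {o : Finset GolayPt} (ho : o ∈ octads) {p : GolayPt} (hp : p ∉ o) :
    Nat.card ↥(stabilizer ↥M24 o ⊓ stabilizer ↥M24 p) ≤ 20160 := by
  have hsub : oᶜ ⊆ orb (stabilizer ↥M24 o) p := fun z hz => by
    obtain ⟨g, hg, e⟩ := (fix_regular ho hp).2 z (Finset.mem_compl.1 hz)
    rw [← e]
    exact orb_invariant (mem_stab_of_fix hg) p (self_mem_orb _ p)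
  have h16 := Finset.card_le_card hsub
  rw [Finset.card_compl, ho.2, show Fintype.card GolayPt = 24 from rfl] at h16
  have hmul := card_orb_mul (stabilizer ↥M24 o) p
  rw [card_stab_octad' ho] at hmul
  have := Nat.mul_le_mul_right (Nat.card ↥(stabilizer ↥M24 o ⊓ stabilizer ↥M24 p)) h16
  omega

/-- The stabiliser of an octad and of a point inside has order at most 40320. -/
theorem card_octad_in {o : Finset GolayPt} (ho : o ∈ octads) {p : GolayPt} (hp : p ∈ o) :
    Nat.card ↥(stabilizer ↥M24 o ⊓ stabilizer ↥M24 p) ≤ 40320 := by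
  classical
  have hsub : o ⊆ orb (stabilizer ↥M24 o) p := fun z hz => by
    obtain ⟨a, b, ha, hb, hab, hap, haz, hbp, hbz⟩ : ∃ a b, a ∈ o ∧ b ∈ o ∧ a ≠ b ∧ a ≠ p ∧ a ≠ z ∧ b ≠ p ∧ b ≠ z := by
      have : 1 < ((o.erase p).erase z).card := by
        have h1 := Finset.card_erase_of_mem hp
        have h2 := Finset.pred_card_le_card_erase (s := o.erase p) (a := z)
        have := ho.2
        omega
      obtain ⟨a, ha, b, hb, hab⟩ := Finset.one_lt_card.1 this
      simp only [Finset.mem_erase] at ha hb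
      exact ⟨a, b, ha.2.2, hb.2.2, hab, ha.2.1, ha.1, hb.2.1, hb.1⟩
    by_cases hzp : z = p
    · rw [hzp]; exact self_mem_orb _ p
    have he : (Equiv.swap (⟨p, hp⟩ : ↥o) ⟨z, hz⟩ * Equiv.swap ⟨a, ha⟩ ⟨b, hb⟩) ∈ alternatingGroup ↥o := by
      rw [Equiv.Perm.mem_alternatingGroup, map_mul, Equiv.Perm.sign_swap (fun e => hzp (congrArg Subtype.val e).symm),
        Equiv.Perm.sign_swap (fun e => hab (congrArg Subtype.val e))]
      rfl
    rw [← range_restrict ho] at he
    obtain ⟨g, hg⟩ := he
    have e : (g : ↥M24) • p = z := by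
      have h := congrArg (fun s : Equiv.Perm ↥o => (s ⟨p, hp⟩ : GolayPt)) hg
      simp only [Equiv.Perm.mul_apply] at h
      rw [Equiv.swap_apply_of_ne_of_ne (a := (⟨a, ha⟩ : ↥o)) (b := ⟨b, hb⟩) (x := ⟨p, hp⟩)
        (fun e => hap (congrArg Subtype.val e).symm)
        (fun e => hbp (congrArg Subtype.val e).symm), Equiv.swap_apply_left] at h
      exact h
    rw [← e]
    exact orb_invariant g.2 p (self_mem_orb _ p)
  have h8 := Finset.card_le_card hsub
  rw [ho.2] at h8
  have hmul := card_orb_mul (stabilizer ↥M24 o) p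
  rw [card_stab_octad' ho] at hmul
  have := Nat.mul_le_mul_right (Nat.card ↥(stabilizer ↥M24 o ⊓ stabilizer ↥M24 p)) h8
  omega

end CfsgLib.Sporadic.OrbTool
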