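import Cfsg.Agent.Lib.Sporadic.MathieuOrbitTools

/-!
# The subgroups of index 253 of M23

Orbit lengths follow from counting fixed points of elements of order 5 and 7; a 7-cycle lies in an octad.
-/

set_option autoImplicit false

namespace CfsgLib.Sporadic.IndexTwoThree

open Cfsg MulAction CfsgLib.Sporadic CfsgLib.Sporadic.OrbTool
open scoped Pointwise

theorem octad_fixed_aux {H : Subgroup ↥M24} {C o : Finset GolayPt} {f : GolayPt} (ho : o ∈ octads)
    (hins : insert f C = o) (hC : 7 ≤ C.card) (hinv : ∀ g ∈ H, ∀ z ∈ C, g • z ∈ C) :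
    H ≤ stabilizer ↥M24 o ∧ (f ∉ C → H ≤ stabilizer ↥M24 f) := by
  have hCo : C ⊆ o := hins ▸ Finset.subset_insert f C
  have key : ∀ g ∈ H, g • o = o := fun g hg => by
    refine eq_of_inter_five ((smul_mem_octads' g).2 ho) ho (le_trans (by omega : 5 ≤ C.card) ?_)
    refine Finset.card_le_card (Finset.subset_inter (fun z hz => ?_) hCo)
    rw [← Finset.inv_smul_mem_iff]
    exact hCo (hinv g⁻¹ (inv_mem hg) z hz)
  refine ⟨fun g hg => key g hg, fun hf g hg => ?_⟩
  have hfo : g • f ∈ o := by
    rw [← key g hg]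
    exact Finset.smul_mem_smul_finset (hins ▸ Finset.mem_insert_self f C)
  rw [← hins, Finset.mem_insert] at hfo
  refine hfo.resolve_right fun h => hf ?_
  simpa using hinv g⁻¹ (inv_mem hg) _ h

theorem classify {x : GolayPt} (H : Subgroup ↥M24) (hx : H ≤ stabilizer ↥M24 x)
    (hcard : Nat.card ↥H = 40320) :
    (∃ s : Finset GolayPt, s.card = 2 ∧ x ∉ s ∧ H = stabilizer ↥M24 s ⊓ stabilizer ↥M24 x) ∨
      ∃ o ∈ octads, x ∈ o ∧ H = stabilizer ↥M24 o ⊓ stabilizer ↥M24 x := by
  classical
  have h7 : Fact (Nat.Prime 7) := ⟨by norm_num⟩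
  have h5 : Fact (Nat.Prime 5) := ⟨by norm_num⟩
  obtain ⟨y', hy'⟩ := exists_prime_orderOf_dvd_card' (G := ↥H) 7 (by rw [hcard]; norm_num)
  obtain ⟨z', hz'⟩ := exists_prime_orderOf_dvd_card' (G := ↥H) 5 (by rw [hcard]; norm_num)
  have hy : orderOf (y' : ↥M24) = 7 := by rw [Subgroup.orderOf_coe, hy']
  have hz : orderOf (z' : ↥M24) = 5 := by rw [Subgroup.orderOf_coe, hz']
  have hF : (fixSet (y' : ↥M24)).card = 3 := card_fixSet (Or.inr rfl) hy
  have hG : (fixSet (z' : ↥M24)).card = 4 := card_fixSet (Or.inl rfl) hz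
  have hxF : x ∈ fixSet (y' : ↥M24) := mem_fixSet.2 (hx y'.2)
  have hxG : x ∈ fixSet (z' : ↥M24) := mem_fixSet.2 (hx z'.2)
  obtain ⟨a, b, hab, hFab⟩ := Finset.card_eq_two.1
    (show ((fixSet (y' : ↥M24)).erase x).card = 2 by rw [Finset.card_erase_of_mem hxF, hF])
  have ha : a ∈ fixSet (y' : ↥M24) ∧ a ≠ x := by
    have := (hFab ▸ Finset.mem_insert_self a {b} : a ∈ (fixSet (y' : ↥M24)).erase x)
    exact ⟨Finset.mem_of_mem_erase this, Finset.ne_of_mem_erase this⟩
  have hb : b ∈ fixSet (y' : ↥M24) ∧ b ≠ x := by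
    have := (hFab ▸ Finset.mem_insert_of_mem (Finset.mem_singleton_self b) : b ∈ (fixSet (y' : ↥M24)).erase x)
    exact ⟨Finset.mem_of_mem_erase this, Finset.ne_of_mem_erase this⟩
  -- invariant sets
  have hxinv : ∀ g ∈ H, ∀ z ∈ ({x} : Finset GolayPt)ᶜ, g • z ∈ ({x} : Finset GolayPt)ᶜ := fun g hg z hz => by
    rw [Finset.mem_compl, Finset.mem_singleton] at hz ⊢
    exact fun e => hz (smul_left_cancel g (e.trans (hx hg).symm))
  have hOx : ∀ c : GolayPt, c ≠ x → x ∉ orb H c := fun c hc h => by
    have := orb_subset (a := c) (by simpa using hc) hxinv h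
    simp at this
  have hstab3 : ∀ c d : GolayPt, c ≠ x → d ≠ x → c ≠ d →
      ¬ (H ≤ stabilizer ↥M24 c ∧ H ≤ stabilizer ↥M24 d) := by
    rintro c d hc hd hcd ⟨h1, h2⟩
    have := Subgroup.card_le_of_le (le_inf (le_inf hx h1) h2 :
      H ≤ stabilizer ↥M24 x ⊓ stabilizer ↥M24 c ⊓ stabilizer ↥M24 d)
    rw [hcard, card_stab_three x c d hc.symm hd.symm hcd] at this
    omega
  have hout : ∀ o ∈ octads, ∀ p, p ∉ o → H ≤ stabilizer ↥M24 o → ¬ H ≤ stabilizer ↥M24 p := by
    intro o ho p hp h1 h2
    have := (Subgroup.card_le_of_le (le_inf h1 h2)).trans (card_octad_out ho hp)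
    omega
  set O := orb H a with hO
  set P := orb H b with hP
  have hOi : ∀ g ∈ H, ∀ z ∈ O, g • z ∈ O := fun g hg => orb_invariant hg
  have hPi : ∀ g ∈ H, ∀ z ∈ P, g • z ∈ P := fun g hg => orb_invariant hg
  have hOfix : O ∩ fixSet (y' : ↥M24) ⊆ {a, b} := fun w hw => by
    obtain ⟨hwO, hwF⟩ := Finset.mem_inter.1 hw
    rw [← hFab, Finset.mem_erase]
    exact ⟨fun e => hOx a ha.2 (e ▸ hwO), hwF⟩
  have hPfix : P ∩ fixSet (y' : ↥M24) ⊆ {a, b} := fun w hw => by
    obtain ⟨hwO, hwF⟩ := Finset.mem_inter.1 hw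
    rw [← hFab, Finset.mem_erase]
    exact ⟨fun e => hOx b hb.2 (e ▸ hwO), hwF⟩
  have hdvdO : O.card ∣ 40320 := hcard ▸ ⟨_, (card_orb_mul H a).symm⟩
  have hdvdP : P.card ∣ 40320 := hcard ▸ ⟨_, (card_orb_mul H b).symm⟩
  have hO7 := modEq_invariant hy (hOi _ y'.2)
  have hP7 := modEq_invariant hy (hPi _ y'.2)
  have hO5 := modEq_invariant hz (hOi _ z'.2)
  have hP5 := modEq_invariant hz (hPi _ z'.2)
  have hOsub : O ⊆ ({x} : Finset GolayPt)ᶜ := orb_subset (by simpa using ha.2) hxinv
  have hPsub : P ⊆ ({x} : Finset GolayPt)ᶜ := orb_subset (by simpa using hb.2) hxinv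
  have h23 : ({x} : Finset GolayPt)ᶜ.card = 23 := by
    rw [Finset.card_compl, Finset.card_singleton]; rfl
  by_cases hbO : b ∈ O
  · -- one orbit holds both fixed points
    have e2 : O ∩ fixSet (y' : ↥M24) = {a, b} := by
      refine Finset.Subset.antisymm hOfix (Finset.insert_subset_iff.2 ⟨Finset.mem_inter.2 ⟨self_mem_orb H a, ha.1⟩,
        Finset.singleton_subset_iff.2 (Finset.mem_inter.2 ⟨hbO, hb.1⟩)⟩)
    rw [e2, Finset.card_pair hab] at hO7
    have hOle := (Finset.card_le_card hOsub).trans (le_of_eq h23)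
    set R := ({x} : Finset GolayPt)ᶜ \ O with hR
    have hRi : ∀ g ∈ H, ∀ z ∈ R, g • z ∈ R := fun g hg z hzR => by
      rw [hR, Finset.mem_sdiff] at hzR ⊢
      refine ⟨hxinv g hg z hzR.1, fun h => hzR.2 ?_⟩
      simpa using hOi g⁻¹ (inv_mem hg) _ h
    have hRc : R.card = 23 - O.card := by rw [hR, Finset.card_sdiff_of_subset hOsub, h23]
    have hR5 := modEq_invariant hz (hRi _ z'.2)
    have hsum5 : (O ∩ fixSet (z' : ↥M24)).card + (R ∩ fixSet (z' : ↥M24)).card = 3 := by
      rw [← Finset.card_union_of_disjoint (Finset.disjoint_left.2 fun w h1 h2 =>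
        (Finset.mem_sdiff.1 (Finset.mem_inter.1 h2).1).2 (Finset.mem_inter.1 h1).1), ← Finset.union_inter_distrib_right,
        Finset.union_sdiff_of_subset hOsub, Finset.inter_comm, ← Finset.sdiff_eq_inter_compl,
        Finset.sdiff_singleton_eq_erase, Finset.card_erase_of_mem hxG, hG]
    have hOpos : 2 ≤ O.card := by
      rw [← Finset.card_pair hab]
      exact Finset.card_le_card (e2 ▸ Finset.inter_subset_left)
    have hcases : O.card = 2 ∨ O.card = 16 := by
      have : O.card = 2 ∨ O.card = 9 ∨ O.card = 16 ∨ O.card = 23 := by omega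
      rcases this with h | h | h | h
      · exact Or.inl h
      · rw [h] at hO5; rw [hRc, h] at hR5; omega
      · exact Or.inr h
      · rw [h] at hdvdO; norm_num at hdvdO
    rcases hcases with h | h
    · -- a duad
      have e : O = {a, b} := (Finset.eq_of_subset_of_card_le (e2 ▸ Finset.inter_subset_left)
        (by rw [h, Finset.card_pair hab])).symm
      refine Or.inl ⟨{a, b}, Finset.card_pair hab, by simp [ha.2.symm, hb.2.symm], ?_⟩
      have hle : H ≤ stabilizer ↥M24 ({a, b} : Finset GolayPt) ⊓ stabilizer ↥M24 x := by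
        refine le_inf (fun g hg => ?_) hx
        rw [mem_stabilizer_iff, ← e]
        refine Finset.eq_of_subset_of_card_le (fun w hw => ?_) (by rw [card_smul_set])
        obtain ⟨v, hv, rfl⟩ := Finset.mem_smul_finset.1 hw
        exact hOi g hg v hv
      refine Subgroup.eq_of_le_of_card_ge hle ?_
      set S := stabilizer ↥M24 ({a, b} : Finset GolayPt) ⊓ stabilizer ↥M24 x
      have hmul := card_orb_mul S a
      have h2 : (orb S a).card ≤ 2 := by
        rw [← Finset.card_pair hab]
        refine Finset.card_le_card (orb_subset (Finset.mem_insert_self a {b}) fun g hg w hw => ?_)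
        rw [← (mem_stabilizer_iff.1 (Subgroup.mem_inf.1 hg).1)]
        exact Finset.smul_mem_smul_finset hw
      have h3 : Nat.card ↥(S ⊓ stabilizer ↥M24 a) ≤ 20160 := by
        rw [← card_stab_three x a b ha.2.symm hb.2.symm hab]
        refine Subgroup.card_le_of_le fun g hg => ?_
        obtain ⟨⟨h1, h2⟩, h4⟩ := hg
        refine ⟨⟨h2, h4⟩, ?_⟩
        have hb' : g • b ∈ ({a, b} : Finset GolayPt) := by
          rw [← mem_stabilizer_iff.1 h1]
          exact Finset.smul_mem_smul_finset (by simp)
        rw [Finset.mem_insert, Finset.mem_singleton] at hb'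
        exact hb'.resolve_left fun e' => hab (smul_left_cancel g (h4.trans e'.symm))
      rw [hcard, ← hmul]
      exact (Nat.mul_le_mul h2 h3).trans (by norm_num)
    · -- a heptad
      have hR7c : R.card = 7 := by rw [hRc, h]
      have hno : ∀ w ∈ R, (y' : ↥M24) • w ≠ w := fun w hw e' => by
        obtain ⟨hw1, hw2⟩ := Finset.mem_sdiff.1 hw
        have : w ∈ ({a, b} : Finset GolayPt) := by
          rw [← hFab, Finset.mem_erase]
          exact ⟨by simpa using hw1, mem_fixSet.2 e'⟩
        rw [← e2] at this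
        exact hw2 (Finset.mem_inter.1 this).1
      obtain ⟨f, hf, hoct⟩ := cycle_octad hy hR7c (hRi _ y'.2) hno
      obtain ⟨hst, hfst⟩ := octad_fixed_aux hoct rfl hR7c.ge hRi
      have hfR : f ∉ R := fun h' => hno f h' hf
      have hfx : f = x := by
        by_contra hne
        have hfab : f ∈ ({a, b} : Finset GolayPt) := by
          rw [← hFab, Finset.mem_erase]; exact ⟨hne, mem_fixSet.2 hf⟩
        rw [← e2] at hfab
        have hone : orb H f ⊆ {f} :=
          orb_subset (Finset.mem_singleton_self f) fun g hg w hw => by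
            rw [Finset.mem_singleton] at hw ⊢
            rw [hw]; exact hfst hfR hg
        have hsub : O ⊆ orb H f := by
          intro w hw
          rw [hO, orb, Set.Finite.mem_toFinset] at hw
          rw [orb, Set.Finite.mem_toFinset]
          have hfa : f ∈ orbit ↥H a := by
            have := (Finset.mem_inter.1 hfab).1
            rwa [hO, orb, Set.Finite.mem_toFinset] at this
          rw [orbit_eq_iff.2 hfa]
          exact hw
        have := Finset.card_le_card (hsub.trans hone)
        rw [h, Finset.card_singleton] at this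
        omega
      refine Or.inr ⟨_, hoct, hfx ▸ Finset.mem_insert_self f R, ?_⟩
      exact Subgroup.eq_of_le_of_card_ge (le_inf hst hx)
        (by rw [hcard]; exact card_octad_in hoct (hfx ▸ Finset.mem_insert_self f R))
  · -- two orbits
    exfalso
    have haP : a ∉ P := fun h => hbO (by
      rw [hP, orb, Set.Finite.mem_toFinset] at h
      rw [hO, orb, Set.Finite.mem_toFinset]
      exact mem_orbit_symm.1 h)
    have e1 : O ∩ fixSet (y' : ↥M24) = {a} := by
      refine Finset.Subset.antisymm (fun w hw => ?_)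
        (Finset.singleton_subset_iff.2 (Finset.mem_inter.2 ⟨self_mem_orb H a, ha.1⟩))
      have := hOfix hw
      rw [Finset.mem_insert, Finset.mem_singleton] at this
      exact Finset.mem_singleton.2 (this.resolve_right fun e => hbO (e ▸ (Finset.mem_inter.1 hw).1))
    have e1' : P ∩ fixSet (y' : ↥M24) = {b} := by
      refine Finset.Subset.antisymm (fun w hw => ?_)
        (Finset.singleton_subset_iff.2 (Finset.mem_inter.2 ⟨self_mem_orb H b, hb.1⟩))
      have := hPfix hw
      rw [Finset.mem_insert, Finset.mem_singleton] at this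
      exact Finset.mem_singleton.2 (this.resolve_left fun e => haP (e ▸ (Finset.mem_inter.1 hw).1))
    rw [e1, Finset.card_singleton] at hO7
    rw [e1', Finset.card_singleton] at hP7
    have hdisj : Disjoint O P := Finset.disjoint_left.2 fun w h1 h2 => hbO (by
      rw [hO, orb, Set.Finite.mem_toFinset] at h1 ⊢
      rw [hP, orb, Set.Finite.mem_toFinset] at h2
      rw [← orbit_eq_iff.2 h1, orbit_eq_iff.2 h2]
      exact mem_orbit_self b)
    have hUsub : O ∪ P ⊆ ({x} : Finset GolayPt)ᶜ := Finset.union_subset hOsub hPsub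
    have hUle := Finset.card_le_card hUsub
    rw [Finset.card_union_of_disjoint hdisj, h23] at hUle
    set R := ({x} : Finset GolayPt)ᶜ \ (O ∪ P) with hR
    have hRc : R.card = 23 - (O.card + P.card) := by
      rw [hR, Finset.card_sdiff_of_subset hUsub, h23, Finset.card_union_of_disjoint hdisj]
    have hRi : ∀ g ∈ H, ∀ z ∈ R, g • z ∈ R := fun g hg z hzR => by
      rw [hR, Finset.mem_sdiff, Finset.mem_union] at hzR ⊢
      refine ⟨hxinv g hg z hzR.1, fun h => hzR.2 ?_⟩
      rcases h with h | h
      · exact Or.inl (by simpa using hOi g⁻¹ (inv_mem hg) _ h)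
      · exact Or.inr (by simpa using hPi g⁻¹ (inv_mem hg) _ h)
    have hR5 := modEq_invariant hz (hRi _ z'.2)
    have hsum5 : (O ∩ fixSet (z' : ↥M24)).card + (P ∩ fixSet (z' : ↥M24)).card +
        (R ∩ fixSet (z' : ↥M24)).card = 3 := by
      rw [← Finset.card_union_of_disjoint (hdisj.mono Finset.inter_subset_left Finset.inter_subset_left),
        ← Finset.union_inter_distrib_right,
        ← Finset.card_union_of_disjoint (Finset.disjoint_left.2 fun w h1 h2 =>
          (Finset.mem_sdiff.1 (Finset.mem_inter.1 h2).1).2 (Finset.mem_inter.1 h1).1), ← Finset.union_inter_distrib_right,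
        Finset.union_sdiff_of_subset hUsub, Finset.inter_comm, ← Finset.sdiff_eq_inter_compl,
        Finset.sdiff_singleton_eq_erase, Finset.card_erase_of_mem hxG, hG]
    have hOv : O.card = 1 ∨ O.card = 8 ∨ O.card = 15 := by
      have : O.card = 1 ∨ O.card = 8 ∨ O.card = 15 ∨ O.card = 22 := by omega
      rcases this with h | h | h | h
      · exact Or.inl h
      · exact Or.inr (Or.inl h)
      · exact Or.inr (Or.inr h)
      · rw [h] at hdvdO; norm_num at hdvdO
    have hPv : P.card = 1 ∨ P.card = 8 ∨ P.card = 15 := by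
      have : P.card = 1 ∨ P.card = 8 ∨ P.card = 15 ∨ P.card = 22 := by omega
      rcases this with h | h | h | h
      · exact Or.inl h
      · exact Or.inr (Or.inl h)
      · exact Or.inr (Or.inr h)
      · rw [h] at hdvdP; norm_num at hdvdP
    have fix_of_one : ∀ c, (orb H c).card = 1 → H ≤ stabilizer ↥M24 c := fun c h g hg => by
      obtain ⟨w, hw⟩ := Finset.card_eq_one.1 h
      have h1 := hw ▸ orb_invariant hg c (self_mem_orb H c)
      have h2 := hw ▸ self_mem_orb H c
      rw [Finset.mem_singleton] at h1 h2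
      exact h1.trans h2.symm
    have cases' : (O.card = 1 ∧ P.card = 15) ∨ (O.card = 15 ∧ P.card = 1) ∨ (O.card = 8 ∧ P.card = 15) ∨
        (O.card = 15 ∧ P.card = 8) ∨ (O.card = 1 ∧ P.card = 1) := by
      rcases hOv with h | h | h <;> rcases hPv with h' | h' | h' <;> rw [h] at hO5 <;> rw [h'] at hP5 <;>
        rw [hRc, h, h'] at hR5 <;> omega
    -- the seven-cycle cases
    have seven : ∀ c, (orb H c).card = 1 → R.card = 7 → c ≠ x → False := by
      intro c hc hR7 hcx
      have hno : ∀ w ∈ R, (y' : ↥M24) • w ≠ w := fun w hw e' => by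
        obtain ⟨hw1, hw2⟩ := Finset.mem_sdiff.1 hw
        have : w ∈ ({a, b} : Finset GolayPt) := by
          rw [← hFab, Finset.mem_erase]
          exact ⟨by simpa using hw1, mem_fixSet.2 e'⟩
        rw [Finset.mem_insert, Finset.mem_singleton] at this
        rcases this with rfl | rfl
        · exact hw2 (Finset.mem_union_left _ (self_mem_orb H _))
        · exact hw2 (Finset.mem_union_right _ (self_mem_orb H _))
      obtain ⟨f, hf, hoct⟩ := cycle_octad hy hR7 (hRi _ y'.2) hno
      obtain ⟨hst, hfst⟩ := octad_fixed_aux hoct rfl hR7.ge hRi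
      have hcR : c ∉ R := fun h => hno c h (fix_of_one c hc y'.2)
      by_cases hfc : f = c
      · refine hout _ hoct x ?_ hst hx
        rw [Finset.mem_insert]
        rintro (h | h)
        · exact hcx (hfc ▸ h.symm)
        · simpa using (Finset.mem_sdiff.1 h).1
      · refine hout _ hoct c ?_ hst (fix_of_one c hc)
        rw [Finset.mem_insert]
        rintro (h | h)
        · exact hfc h.symm
        · exact hcR h
    have eight : ∀ c, (orb H c).card = 8 → c ≠ x → (y' : ↥M24) • c = c →
        orb H c ∩ fixSet (y' : ↥M24) = {c} → False := by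
      intro c h8 hcx hc hcF
      have hC : ((orb H c).erase c).card = 7 := by rw [Finset.card_erase_of_mem (self_mem_orb H c), h8]
      have hCi : ∀ w ∈ (orb H c).erase c, (y' : ↥M24) • w ∈ (orb H c).erase c := fun w hw => by
        rw [Finset.mem_erase] at hw ⊢
        exact ⟨fun e => hw.1 (smul_left_cancel _ (e.trans hc.symm)), orb_invariant y'.2 w hw.2⟩
      have hno : ∀ w ∈ (orb H c).erase c, (y' : ↥M24) • w ≠ w := fun w hw e => by
        rw [Finset.mem_erase] at hw
        exact hw.1 (Finset.mem_singleton.1 (hcF ▸ Finset.mem_inter.2 ⟨hw.2, mem_fixSet.2 e⟩))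
      obtain ⟨f, hf, hoct⟩ := cycle_octad hy hC hCi hno
      by_cases hfc : f = c
      · rw [hfc, Finset.insert_erase (self_mem_orb H c)] at hoct
        refine hout _ hoct x (hOx c hcx) (fun g hg => ?_) hx
        rw [mem_stabilizer_iff]
        refine Finset.eq_of_subset_of_card_le (fun w hw => ?_) (by rw [card_smul_set])
        obtain ⟨v, hv, rfl⟩ := Finset.mem_smul_finset.1 hw
        exact orb_invariant hg v hv
      · set o := insert f ((orb H c).erase c) with ho
        have hco : c ∉ o := by simp [o, Ne.symm hfc]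
        have hfix : ∀ g ∈ H, g • o = o := fun g hg => by
          refine eq_of_inter_five ((smul_mem_octads' g).2 hoct) hoct ?_
          have h1 : (((orb H c).erase c) ∩ g • ((orb H c).erase c)).card ≥ 6 := by
            have hu : ((orb H c).erase c) ∪ g • ((orb H c).erase c) ⊆ orb H c := by
              refine Finset.union_subset (Finset.erase_subset _ _) fun w hw => ?_
              obtain ⟨v, hv, rfl⟩ := Finset.mem_smul_finset.1 hw
              exact orb_invariant hg v (Finset.mem_of_mem_erase hv)
            have h2 := Finset.card_le_card hu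
            have h3 := Finset.card_union_add_card_inter ((orb H c).erase c) (g • ((orb H c).erase c))
            rw [card_smul_set, hC] at h3
            omega
          refine le_trans (by omega : 5 ≤ (((orb H c).erase c) ∩ g • ((orb H c).erase c)).card)
            (Finset.card_le_card fun w hw => ?_)
          rw [Finset.mem_inter] at hw ⊢
          exact ⟨Finset.smul_finset_subset_smul_finset (Finset.subset_insert _ _) hw.2,
            Finset.mem_insert_of_mem hw.1⟩
        -- then the orbit meets the octad in an invariant set missing `c`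
        have hinv : ∀ g ∈ H, ∀ w ∈ orb H c ∩ o, g • w ∈ orb H c ∩ o := fun g hg w hw => by
          rw [Finset.mem_inter] at hw ⊢
          exact ⟨orb_invariant hg w hw.1, hfix g hg ▸ Finset.smul_mem_smul_finset hw.2⟩
        obtain ⟨w, hw⟩ : ((orb H c).erase c).Nonempty := Finset.card_pos.1 (by omega)
        have hwO : w ∈ orb H c ∩ o := Finset.mem_inter.2 ⟨Finset.mem_of_mem_erase hw, Finset.mem_insert_of_mem hw⟩
        have : c ∈ orb H w := by
          have h' := Finset.mem_of_mem_erase hw
          rw [orb, Set.Finite.mem_toFinset] at h' ⊢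
          exact mem_orbit_symm.1 h'
        exact hco (Finset.mem_inter.1 (orb_subset hwO hinv this)).2
    rcases cases' with ⟨h, h'⟩ | ⟨h, h'⟩ | ⟨h, h'⟩ | ⟨h, h'⟩ | ⟨h, h'⟩
    · exact seven a h (by rw [hRc, h, h']) ha.2
    · exact seven b h' (by rw [hRc, h, h']) hb.2
    · exact eight a h ha.2 (mem_fixSet.1 ha.1) e1
    · exact eight b h' hb.2 (mem_fixSet.1 hb.1) e1'
    · exact hstab3 a b ha.2 hb.2 hab ⟨fix_of_one a h, fix_of_one b h'⟩

end CfsgLib.Sporadic.IndexTwoThree
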