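import Cfsg.Agent.Lib.Sporadic.MathieuTwoTwoAut
import Cfsg.Agent.Lib.Sporadic.HexAut
import Cfsg.Agent.Lib.ThreeTrans.M24Inv
import Cfsg.Agent.Lib.ThreeTrans.M24Invariant
import Cfsg.Agent.S0385

/-!
# The outer automorphism group of M12 has order two

A subgroup of order 7920 fixes a point, so an automorphism followed, if necessary, by conjugation
with an element interchanging the dodecad and its complement is induced by a permutation of the
twelve points; this permutation maps hexads to hexads, so it lies in M12.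
-/

set_option autoImplicit false

namespace CfsgLib.Sporadic.M12Aut

open Cfsg MulAction CfsgLib.Sporadic CfsgLib.Sporadic.MathieuAut CfsgLib.Sporadic.M22Aut
open scoped Pointwise

/-- An element of order three fixing a point fixes exactly six. -/
theorem fixed_three {u : ↥M24} (hu : orderOf u = 3) {a : GolayPt} (ha : u • a = a) :
    (Finset.univ.filter fun z : GolayPt => u • z = z).card = 6 := by
  classical
  have hset : {p : GolayPt | ∀ x ∈ Subgroup.zpowers u, ((x : ↥M24) : Equiv.Perm GolayPt) p = p} =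
      ↑(Finset.univ.filter fun z : GolayPt => u • z = z) := by
    ext p
    simp only [Set.mem_ofPred_eq, Finset.coe_filter, Finset.mem_univ, true_and]
    constructor
    · exact fun h => h u (Subgroup.mem_zpowers u)
    · intro h x hx
      have h' : Subgroup.zpowers u ≤ stabilizer ↥M24 p := Subgroup.zpowers_le.2 h
      exact h' hx
  rcases CfsgLib.ThreeTrans.M24Cls.two_classes_three.1 (Subgroup.zpowers u)
    (by rw [Nat.card_zpowers, hu]) with h | h <;> rw [hset, Set.ncard_coe_finset] at h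
  · exact h
  · exfalso
    rw [Finset.card_eq_zero] at h
    exact Finset.notMem_empty a (h ▸ Finset.mem_filter.2 ⟨Finset.mem_univ a, ha⟩)

/-! ### subgroups of index twelve -/

theorem eq_stabilizer_of_card_M12 {d : Finset GolayPt} (hd : d ∈ dodecads) (H : Subgroup ↥M24)
    (hH : H ≤ stabilizer ↥M24 d) (h : Nat.card H = 7920) : ∃ a : GolayPt, H ≤ stabilizer ↥M24 a := by
  classical
  by_contra hno
  push Not at hno
  have := Fact.mk (show Nat.Prime 11 by norm_num)
  obtain ⟨y, hy⟩ := exists_prime_orderOf_dvd_card' (G := ↥H) 11 (by rw [h]; norm_num)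
  have hy' : orderOf (y : ↥M24) = 11 := by rw [Subgroup.orderOf_coe, hy]
  set Fy := Finset.univ.filter fun z : GolayPt => (y : ↥M24) • z = z with hFy
  have hFy2 : Fy.card = 2 := fixed_eleven hy'
  have hmemd : ∀ g ∈ H, ∀ x, g • x ∈ d ↔ x ∈ d := fun g hg x => smul_mem_of_stab (hH hg)
  have hmemc : ∀ g ∈ H, ∀ x, g • x ∈ dᶜ ↔ x ∈ dᶜ := fun g hg x => by
    simp only [Finset.mem_compl, hmemd g hg]
  have h1 : ∀ s : Finset GolayPt, s.card = 12 → (∀ z ∈ s, (y : ↥M24) • z ∈ s) →
      ∃ a, (s.filter fun z => (y : ↥M24) • z = z) = {a} := by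
    intro s hs hinv
    have hm := fixed_modEq hy' s hinv
    have hle : (s.filter fun z => (y : ↥M24) • z = z).card ≤ 2 :=
      hFy2 ▸ Finset.card_le_card (Finset.filter_subset_filter _ (Finset.subset_univ s))
    rw [hs, Nat.ModEq] at hm
    exact Finset.card_eq_one.1 (by omega)
  obtain ⟨a, ha⟩ := h1 d hd.2 fun z hz => (hmemd _ y.2 z).2 hz
  obtain ⟨b, hb⟩ := h1 dᶜ (card_outside hd) fun z hz => (hmemc _ y.2 z).2 hz
  obtain ⟨had, hay⟩ := Finset.mem_filter.1 (ha.symm.subset (Finset.mem_singleton_self a))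
  obtain ⟨hbd, hby⟩ := Finset.mem_filter.1 (hb.symm.subset (Finset.mem_singleton_self b))
  have hbd' : b ∉ d := Finset.mem_compl.1 hbd
  -- orbits of subgroups containing `y`
  have horb : ∀ (K : Subgroup ↥M24), K ≤ H → (y : ↥M24) ∈ K → ∀ (s : Finset GolayPt) (c : GolayPt),
      s.card = 12 → (∀ g ∈ H, ∀ x, g • x ∈ s ↔ x ∈ s) → c ∈ s → (y : ↥M24) • c = c →
      (s.filter fun z => (y : ↥M24) • z = z) = {c} →
      K ≤ stabilizer ↥M24 c ∨ ((orbit ↥K c).toFinset = s ∧
        12 * Nat.card ↥(K ⊓ stabilizer ↥M24 c) = Nat.card K) := by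
    intro K hKH hyK s c hs hinv hcs hyc hfil
    set O := (orbit ↥K c).toFinset with hO
    have hsub : O ⊆ s := fun z hz => by
      rw [hO, Set.mem_toFinset] at hz
      obtain ⟨g, rfl⟩ := hz
      exact (hinv (g : ↥M24) (hKH g.2) c).2 hcs
    have hm := fixed_modEq hy' O fun z hz => by
      rw [hO, Set.mem_toFinset] at hz ⊢
      exact mem_orbit_of_mem_orbit (⟨(y : ↥M24), hyK⟩ : ↥K) hz
    have hf : (O.filter fun z => (y : ↥M24) • z = z) = {c} := by
      refine Finset.eq_singleton_iff_unique_mem.2 ⟨Finset.mem_filter.2 ⟨?_, hyc⟩, fun z hz => ?_⟩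
      · rw [hO, Set.mem_toFinset]; exact mem_orbit_self c
      · have : z ∈ s.filter fun z => (y : ↥M24) • z = z :=
          Finset.filter_subset_filter _ hsub hz
        rwa [hfil, Finset.mem_singleton] at this
    have hle : O.card ≤ 12 := hs ▸ Finset.card_le_card hsub
    rw [hf, Finset.card_singleton, Nat.ModEq] at hm
    have hmul := orbit_card K c
    rw [Set.ncard_eq_toFinset_card', ← hO] at hmul
    have : O.card = 1 ∨ O.card = 12 := by omega
    rcases this with e | e <;> rw [e] at hmul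
    · exact Or.inl (inf_eq_left.1 (Subgroup.eq_of_le_of_card_ge inf_le_left (by omega)))
    · exact Or.inr ⟨Finset.eq_of_subset_of_card_le hsub (by omega), hmul⟩
  obtain ⟨hOa, hSa⟩ := (horb H le_rfl y.2 d a hd.2 hmemd had hay ha).resolve_left (hno a)
  obtain ⟨hOb, hSb⟩ := (horb H le_rfl y.2 dᶜ b (card_outside hd) hmemc hbd hby hb).resolve_left (hno b)
  set S := H ⊓ stabilizer ↥M24 a with hS
  have hScard : Nat.card S = 660 := by omega
  rcases horb S inf_le_left ⟨y.2, hay⟩ dᶜ b (card_outside hd) hmemc hbd hby hb with hSle | ⟨hO', hS55⟩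
  swap
  · -- an involution of `S` fixes an octad, hence a point outside
    have := Fact.mk Nat.prime_two
    obtain ⟨t, ht⟩ := exists_prime_orderOf_dvd_card' (G := ↥S) 2 (by rw [hScard]; norm_num)
    have ht' : orderOf (((t : ↥M24)) : Equiv.Perm GolayPt) = 2 := by
      rw [Subgroup.orderOf_coe, Subgroup.orderOf_coe, ht]
    have ho : (Finset.univ.filter fun p => ((t : ↥M24) : Equiv.Perm GolayPt) p = p) ∈ octads := by
      refine (CfsgLib.ThreeTrans.M24Inv.main.1 _ (t : ↥M24).2 ht').resolve_right ?_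
      exact fun hall => hall a t.2.2
    set o := Finset.univ.filter fun p => ((t : ↥M24) : Equiv.Perm GolayPt) p = p with hodef
    obtain ⟨c, hco, hcd⟩ : ∃ c ∈ o, c ∉ d := by
      by_contra hsub
      push Not at hsub
      have hs := card_code_support (symmDiff_mem_supports ho.1 hd.1)
      have hc : (symmDiff o d).card + 2 * (o ∩ d).card = o.card + d.card := by
        rw [Finset.symmDiff_def, Finset.card_union_of_disjoint disjoint_sdiff_sdiff,
          ← Finset.card_sdiff_add_card_inter o d, ← Finset.card_sdiff_add_card_inter d o,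
          Finset.inter_comm d o]
        ring
      rw [Finset.inter_eq_left.2 hsub, ho.2, hd.2] at hc
      omega
    have hc' : c ∈ (orbit ↥S b).toFinset := hO'.symm.subset (Finset.mem_compl.2 hcd)
    rw [Set.mem_toFinset] at hc'
    obtain ⟨s, hs⟩ := hc'
    have hmem : (s : ↥M24)⁻¹ * t * s ∈ S ⊓ stabilizer ↥M24 b := by
      refine ⟨S.mul_mem (S.mul_mem (S.inv_mem s.2) t.2) s.2, ?_⟩
      show ((s : ↥M24)⁻¹ * t * s) • b = b
      rw [mul_smul, mul_smul, show (s : ↥M24) • b = c from hs,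
        show (t : ↥M24) • c = c from (Finset.mem_filter.1 hco).2, inv_smul_eq_iff]
      exact hs.symm
    have hd2 := orderOf_dvd_natCard (⟨_, hmem⟩ : ↥(S ⊓ stabilizer ↥M24 b))
    rw [Subgroup.orderOf_mk] at hd2
    have hconj : orderOf ((s : ↥M24)⁻¹ * t * s) = 2 := by
      have e : (s : ↥M24)⁻¹ * t * s = MulAut.conj (s : ↥M24)⁻¹ (t : ↥M24) := by simp
      rw [e, MulEquiv.orderOf_eq, Subgroup.orderOf_coe, ht]
    rw [hconj, show Nat.card ↥(S ⊓ stabilizer ↥M24 b) = 55 by omega] at hd2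
    norm_num at hd2
  -- the stabilisers in `H` of `a` and `b` coincide
  have hSb' : S = H ⊓ stabilizer ↥M24 b :=
    Subgroup.eq_of_le_of_card_ge (le_inf inf_le_left hSle) (by omega)
  obtain ⟨a', ha'd, ha'a⟩ := Finset.exists_mem_ne (by rw [hd.2]; norm_num : 1 < d.card) a
  obtain ⟨h0, hh0⟩ : ∃ g : ↥H, (g : ↥M24) • a = a' := by
    have := hOa.symm.subset ha'd
    rw [Set.mem_toFinset] at this
    exact this
  set b' := (h0 : ↥M24) • b with hb'
  have hb'd : b' ∈ dᶜ := (hmemc _ h0.2 b).2 hbd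
  have hb'b : b' ≠ b := fun e => ha'a (by
    rw [← hh0]
    exact ((hSb'.symm ▸ (⟨h0.2, e⟩ : (h0 : ↥M24) ∈ H ⊓ stabilizer ↥M24 b) : (h0 : ↥M24) ∈ S)).2)
  have hfix' : ∀ g ∈ H, g • a' = a' → g • b' = b' := by
    intro g hg hga
    have h2 : (h0 : ↥M24)⁻¹ * g * h0 ∈ S := by
      refine ⟨H.mul_mem (H.mul_mem (H.inv_mem h0.2) hg) h0.2, ?_⟩
      show ((h0 : ↥M24)⁻¹ * g * h0) • a = a
      rw [mul_smul, mul_smul, hh0, hga, inv_smul_eq_iff, hh0]
    have h3 : ((h0 : ↥M24)⁻¹ * g * h0) • b = b := hSle h2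
    rw [mul_smul, mul_smul, ← hb', inv_smul_eq_iff, ← hb'] at h3
    exact h3
  set T := S ⊓ stabilizer ↥M24 a' with hT
  have hTcard : Nat.card T = 60 := by
    set O := (orbit ↥S a').toFinset with hO
    have hsub : O ⊆ d.erase a := fun z hz => by
      rw [hO, Set.mem_toFinset] at hz
      obtain ⟨g, rfl⟩ := hz
      refine Finset.mem_erase.2 ⟨fun e => ha'a ?_, (hmemd _ g.2.1 a').2 ha'd⟩
      exact smul_left_cancel (g : ↥M24) (e.trans g.2.2.symm)
    have hm := fixed_modEq hy' O fun z hz => by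
      rw [hO, Set.mem_toFinset] at hz ⊢
      exact mem_orbit_of_mem_orbit (⟨(y : ↥M24), y.2, hay⟩ : ↥S) hz
    have hf : (O.filter fun z => (y : ↥M24) • z = z) = ∅ := by
      refine Finset.eq_empty_of_forall_notMem fun z hz => ?_
      obtain ⟨hzO, hzy⟩ := Finset.mem_filter.1 hz
      obtain ⟨hza, hzd⟩ := Finset.mem_erase.1 (hsub hzO)
      have : z ∈ d.filter fun z => (y : ↥M24) • z = z := Finset.mem_filter.2 ⟨hzd, hzy⟩
      rw [ha, Finset.mem_singleton] at this
      exact hza this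
    have hpos : 0 < O.card := Finset.card_pos.2 ⟨a', by rw [hO, Set.mem_toFinset]; exact mem_orbit_self a'⟩
    have hle : O.card ≤ 11 := (Finset.card_le_card hsub).trans
      (by rw [Finset.card_erase_of_mem had, hd.2])
    rw [hf, Finset.card_empty, Nat.ModEq] at hm
    have hmul := orbit_card S a'
    rw [Set.ncard_eq_toFinset_card', ← hO, hScard, show O.card = 11 by omega] at hmul
    rw [hT]
    omega
  have hTfix : ∀ g ∈ T, g • a = a ∧ g • a' = a' ∧ g • b = b ∧ g • b' = b' := fun g hg =>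
    ⟨hg.1.2, hg.2, hSle hg.1, hfix' g hg.1.1 hg.2⟩
  -- an octad with six points inside
  have := Fact.mk Nat.prime_three
  obtain ⟨u, hu⟩ := exists_prime_orderOf_dvd_card' (G := ↥T) 3 (by rw [hTcard]; norm_num)
  have hu' : orderOf (u : ↥M24) = 3 := by rw [Subgroup.orderOf_coe, hu]
  obtain ⟨ua, ua', ub, ub'⟩ := hTfix _ u.2
  set Fu := Finset.univ.filter fun z : GolayPt => (u : ↥M24) • z = z with hFu
  have hFu6 : Fu.card = 6 := fixed_three hu' ua
  have huH : (u : ↥M24) ∈ H := u.2.1.1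
  have hm1 := fixed_modEq hu' d fun z hz => (hmemd _ huH z).2 hz
  have hm2 := fixed_modEq hu' dᶜ fun z hz => (hmemc _ huH z).2 hz
  rw [hd.2, Nat.ModEq] at hm1
  rw [card_outside hd, Nat.ModEq] at hm2
  have hsum : (d.filter fun z => (u : ↥M24) • z = z).card +
      (dᶜ.filter fun z => (u : ↥M24) • z = z).card = 6 := by
    rw [← hFu6, hFu, ← Finset.card_union_of_disjoint (Finset.disjoint_filter_filter disjoint_compl_right),
      ← Finset.filter_union, Finset.union_compl]
  have hge1 : 2 ≤ (d.filter fun z => (u : ↥M24) • z = z).card := by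
    rw [← Finset.card_pair ha'a.symm]
    refine Finset.card_le_card ?_
    simp [Finset.insert_subset_iff, had, ha'd, ua, ua']
  have hge2 : 2 ≤ (dᶜ.filter fun z => (u : ↥M24) • z = z).card := by
    rw [← Finset.card_pair hb'b.symm]
    refine Finset.card_le_card ?_
    simp only [Finset.insert_subset_iff, Finset.singleton_subset_iff, Finset.mem_filter]
    exact ⟨⟨hbd, ub⟩, hb'd, ub'⟩
  have hfd3 : (d.filter fun z => (u : ↥M24) • z = z).card = 3 := by omega
  obtain ⟨o, ho, hTo⟩ := exists_octad_of_five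
    (s := (d.filter fun z => (u : ↥M24) • z = z) ∪ {b, b'}) (by
      rw [Finset.card_union_of_disjoint, hfd3, Finset.card_pair hb'b.symm]
      rw [Finset.disjoint_left]
      intro z hz hz'
      simp only [Finset.mem_insert, Finset.mem_singleton] at hz'
      rcases hz' with rfl | rfl
      · exact hbd' (Finset.mem_filter.1 hz).1
      · exact Finset.mem_compl.1 hb'd (Finset.mem_filter.1 hz).1)
  have hbo : b ∈ o := hTo (by simp)
  have hb'o : b' ∈ o := hTo (by simp)
  have hdo : (d.filter fun z => (u : ↥M24) • z = z) ⊆ o := Finset.subset_union_left.trans hTo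
  have hfive : ((u : ↥M24) : Equiv.Perm GolayPt) • o = o := by
    refine smul_eq_of_fix_five (u : ↥M24).2 ho hTo ?_ ?_
    · rw [Finset.card_union_of_disjoint, hfd3, Finset.card_pair hb'b.symm]
      rw [Finset.disjoint_left]
      intro z hz hz'
      simp only [Finset.mem_insert, Finset.mem_singleton] at hz'
      rcases hz' with rfl | rfl
      · exact hbd' (Finset.mem_filter.1 hz).1
      · exact Finset.mem_compl.1 hb'd (Finset.mem_filter.1 hz).1
    · intro z hz
      simp only [Finset.mem_union, Finset.mem_filter, Finset.mem_insert, Finset.mem_singleton] at hz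
      rcases hz with ⟨-, hz⟩ | rfl | rfl
      · exact hz
      · exact ub
      · exact ub'
  have huo : ∀ z ∈ o, (u : ↥M24) • z ∈ o := fun z hz =>
    hfive ▸ Finset.smul_mem_smul_finset (a := ((u : ↥M24) : Equiv.Perm GolayPt)) hz
  have ho6 : (o ∩ d).card = 6 := by
    have hev : Even (o ∩ d).card := even_inter_octads ho.1 hd.1
    have hm := fixed_modEq hu' (o ∩ d) fun z hz =>
      Finset.mem_inter.2 ⟨huo z (Finset.mem_inter.1 hz).1, (hmemd _ huH z).2 (Finset.mem_inter.1 hz).2⟩
    have he : ((o ∩ d).filter fun z => (u : ↥M24) • z = z) = d.filter fun z => (u : ↥M24) • z = z := by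
      ext z
      simp only [Finset.mem_filter, Finset.mem_inter]
      exact ⟨fun hz => ⟨hz.1.2, hz.2⟩, fun hz => ⟨⟨hdo (Finset.mem_filter.2 hz), hz.1⟩, hz.2⟩⟩
    have h3 : 3 ≤ (o ∩ d).card := by
      rw [← hfd3]
      exact Finset.card_le_card (Finset.subset_inter hdo (Finset.filter_subset _ _))
    have h6 : (o ∩ d).card ≤ 6 := by
      have hc2 : 2 ≤ (o \ d).card := by
        rw [← Finset.card_pair hb'b.symm]
        refine Finset.card_le_card ?_
        simp only [Finset.insert_subset_iff, Finset.singleton_subset_iff, Finset.mem_sdiff]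
        exact ⟨⟨hbo, hbd'⟩, hb'o, Finset.mem_compl.1 hb'd⟩
      have := Finset.card_sdiff_add_card_inter o d
      rw [ho.2] at this
      omega
    rw [he, hfd3, Nat.ModEq] at hm
    rw [Nat.even_iff] at hev
    omega
  -- an element of order five moves the octad to octads with disjoint further points
  have := Fact.mk (show Nat.Prime 5 by norm_num)
  obtain ⟨w, hw⟩ := exists_prime_orderOf_dvd_card' (G := ↥T) 5 (by rw [hTcard]; norm_num)
  have hao : a ∈ o := hdo (Finset.mem_filter.2 ⟨had, ua⟩)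
  have ha'o : a' ∈ o := hdo (Finset.mem_filter.2 ⟨ha'd, ua'⟩)
  have hfour : ({a, a', b, b'} : Finset GolayPt).card = 4 := by
    have n1 : a ≠ b := fun e => hbd' (e ▸ had)
    have n2 : a ≠ b' := fun e => Finset.mem_compl.1 hb'd (e ▸ had)
    have n3 : a' ≠ b := fun e => hbd' (e ▸ ha'd)
    have n4 : a' ≠ b' := fun e => Finset.mem_compl.1 hb'd (e ▸ ha'd)
    simp [ha'a.symm, n1, n2, n3, n4, hb'b.symm]
  have hmove : ∀ g ∈ T, orderOf g = 5 → (g : Equiv.Perm GolayPt) • o ≠ o := by
    intro g hg hg5 e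
    obtain ⟨ga, ga', gb, gb'⟩ := hTfix g hg
    have hm := fixed_modEq hg5 o fun z hz => e ▸ Finset.smul_mem_smul_finset (a := (g : Equiv.Perm GolayPt)) hz
    have h4 : 4 ≤ (o.filter fun z => g • z = z).card := by
      rw [← hfour]
      refine Finset.card_le_card ?_
      simp only [Finset.insert_subset_iff, Finset.singleton_subset_iff, Finset.mem_filter]
      exact ⟨⟨hao, ga⟩, ⟨ha'o, ga'⟩, ⟨hbo, gb⟩, hb'o, gb'⟩
    have h4' := (Finset.card_le_card (Finset.filter_subset_filter (fun z => g • z = z)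
      (Finset.subset_univ o))).trans (fixed_le_four (Or.inl rfl) hg5)
    rw [ho.2, Nat.ModEq] at hm
    omega
  let A : ↥M24 → Finset GolayPt := fun g => ((g • o) ∩ d) \ {a, a'}
  have hAcard : ∀ g ∈ T, (A g).card = 4 := by
    intro g hg
    obtain ⟨ga, ga', -, -⟩ := hTfix g hg
    have e : (g • o) ∩ d = g • (o ∩ d) := by
      rw [Finset.smul_finset_inter, show g • d = d from hH hg.1.1]
    show (((g • o) ∩ d) \ {a, a'}).card = 4
    rw [Finset.card_sdiff_of_subset, e, Finset.card_smul_finset, ho6, Finset.card_pair ha'a.symm]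
    rw [e]
    simp only [Finset.insert_subset_iff, Finset.singleton_subset_iff]
    exact ⟨ga.symm ▸ Finset.smul_mem_smul_finset (Finset.mem_inter.2 ⟨hao, had⟩),
      ga'.symm ▸ Finset.smul_mem_smul_finset (Finset.mem_inter.2 ⟨ha'o, ha'd⟩)⟩
  have hdisj : ∀ g ∈ T, ∀ g' ∈ T, g • o ≠ g' • o → Disjoint (A g) (A g') := by
    intro g hg g' hg' hne
    rw [Finset.disjoint_left]
    intro z hz hz'
    simp only [A, Finset.mem_sdiff, Finset.mem_inter, Finset.mem_insert, Finset.mem_singleton, not_or] at hz hz'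
    apply hne
    refine eq_of_inter_five ((smul_mem_octads g.2).2 ho) ((smul_mem_octads g'.2).2 ho) ?_
    have hin : ∀ k ∈ T, ({a, a', b, b'} : Finset GolayPt) ⊆ (k : Equiv.Perm GolayPt) • o := by
      intro k hk
      obtain ⟨ka, ka', kb, kb'⟩ := hTfix k hk
      simp only [Finset.insert_subset_iff, Finset.singleton_subset_iff]
      refine ⟨?_, ?_, ?_, ?_⟩
      · rw [← ka]; exact Finset.smul_mem_smul_finset (a := (k : Equiv.Perm GolayPt)) hao
      · rw [← ka']; exact Finset.smul_mem_smul_finset (a := (k : Equiv.Perm GolayPt)) ha'o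
      · rw [← kb]; exact Finset.smul_mem_smul_finset (a := (k : Equiv.Perm GolayPt)) hbo
      · rw [← kb']; exact Finset.smul_mem_smul_finset (a := (k : Equiv.Perm GolayPt)) hb'o
    have hzn : z ∉ ({a, a', b, b'} : Finset GolayPt) := by
      simp only [Finset.mem_insert, Finset.mem_singleton, not_or]
      exact ⟨hz.2.1, hz.2.2, fun e => hbd' (e ▸ hz.1.2), fun e => Finset.mem_compl.1 hb'd (e ▸ hz.1.2)⟩
    calc 5 = (insert z ({a, a', b, b'} : Finset GolayPt)).card := by
          rw [Finset.card_insert_of_notMem hzn, hfour]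
      _ ≤ _ := Finset.card_le_card (Finset.insert_subset (Finset.mem_inter.2 ⟨hz.1.1, hz'.1.1⟩)
          (Finset.subset_inter (hin g hg) (hin g' hg')))
  have hw' : orderOf (w : ↥M24) = 5 := by rw [Subgroup.orderOf_coe, hw]
  have hw2 : orderOf ((w : ↥M24) ^ 2) = 5 := by
    rw [Nat.Coprime.orderOf_pow (by rw [hw']; norm_num), hw']
  have d01 : (w : ↥M24) • o ≠ (1 : ↥M24) • o := by
    rw [one_smul]; exact hmove _ w.2 hw'
  have d02 : ((w : ↥M24) ^ 2) • o ≠ (1 : ↥M24) • o := by
    rw [one_smul]; exact hmove _ (pow_mem w.2 2) hw2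
  have d12 : ((w : ↥M24) ^ 2) • o ≠ (w : ↥M24) • o := by
    rw [pow_two, mul_smul]; exact fun e => hmove _ w.2 hw' (smul_left_cancel _ e)
  have hsub : A 1 ∪ A (w : ↥M24) ∪ A ((w : ↥M24) ^ 2) ⊆ d \ {a, a'} := by
    refine Finset.union_subset (Finset.union_subset ?_ ?_) ?_ <;>
      exact Finset.sdiff_subset_sdiff Finset.inter_subset_right le_rfl
  have hcard := Finset.card_le_card hsub
  rw [Finset.card_union_of_disjoint, Finset.card_union_of_disjoint
      (hdisj _ (one_mem T) _ w.2 d01.symm), hAcard _ (one_mem T), hAcard _ w.2, hAcard _ (pow_mem w.2 2),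
    Finset.card_sdiff_of_subset (by simp [Finset.insert_subset_iff, had, ha'd]), hd.2,
    Finset.card_pair ha'a.symm] at hcard
  · omega
  · rw [Finset.disjoint_union_left]
    exact ⟨hdisj _ (one_mem T) _ (pow_mem w.2 2) d02.symm, hdisj _ w.2 _ (pow_mem w.2 2) d12.symm⟩

/-! ### the action on the dodecad -/

/-- An automorphism carrying the point stabilisers of the dodecad to point stabilisers is inner. -/
theorem inner_of_points {d : Finset GolayPt} (hd : d ∈ dodecads)
    (φ : MulAut ↥(stabilizer ↥M24 d))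
    (hφ : ∀ a ∈ d, ∃ b ∈ d, ∀ g : ↥(stabilizer ↥M24 d),
      (g : ↥M24) • a = a → ((φ g : ↥(stabilizer ↥M24 d)) : ↥M24) • b = b) :
    φ ∈ Cfsg.Inn ↥(stabilizer ↥M24 d) := by
  classical
  let α := {p : GolayPt // p ∈ d}
  let : MulAction ↥(stabilizer ↥M24 d) α :=
    { smul := fun g z => ⟨(g : ↥M24) • z.1, (smul_mem_of_stab g.2).2 z.2⟩
      one_smul := fun z => Subtype.ext (one_smul _ _)
      mul_smul := fun g h z => Subtype.ext (mul_smul _ _ _) }
  have hcardst : ∀ a : α, Nat.card ↥(stabilizer ↥(stabilizer ↥M24 d) a) = 7920 := by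
    intro a
    rw [← card_stab_dodecad_point hd a.2]
    exact Nat.card_congr
      { toFun := fun g => ⟨g.1.1, g.1.2, congrArg Subtype.val g.2⟩
        invFun := fun g => ⟨⟨g.1, g.2.1⟩, Subtype.ext g.2.2⟩
        left_inv := fun _ => rfl
        right_inv := fun _ => rfl }
  have hαc : Fintype.card α = 12 := by rw [Fintype.card_coe, hd.2]
  have h5 : ∀ x y : Fin 5 ↪ α, ∃ g : ↥(stabilizer ↥M24 d), (∀ i, g • x i = y i) ∧
      ∀ g' : ↥(stabilizer ↥M24 d), (∀ i, g' • x i = y i) → g' = g := by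
    intro x y
    obtain ⟨g, hg, huniq⟩ := existsUnique_map_dodecad hd (x.trans (Function.Embedding.subtype _))
      (y.trans (Function.Embedding.subtype _)) (fun i => (x i).2) (fun i => (y i).2)
    exact ⟨g, fun i => Subtype.ext (hg i), fun g' h => huniq g' fun i => congrArg Subtype.val (h i)⟩
  have hsep : ∀ a b : α, stabilizer ↥(stabilizer ↥M24 d) a = stabilizer ↥(stabilizer ↥M24 d) b → a = b := by
    intro a b e
    by_contra hne
    obtain ⟨s, hs, hsc⟩ := Finset.exists_subset_card_eq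
      (s := (Finset.univ : Finset α) \ {a, b}) (n := 4)
      (by rw [Finset.card_sdiff_of_subset (Finset.subset_univ _), Finset.card_univ, hαc, Finset.card_pair hne]; norm_num)
    let f : Fin 4 ↪ α := ((s.equivFinOfCardEq hsc).symm.toEmbedding).trans (Function.Embedding.subtype _)
    have hf : ∀ i, f i ≠ a ∧ f i ≠ b := fun i => by
      have := hs ((s.equivFinOfCardEq hsc).symm i).2
      simp only [Finset.mem_sdiff, Finset.mem_insert, Finset.mem_singleton, not_or] at this
      exact this.2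
    let x : Fin 5 ↪ α := ⟨![a, b, f 0, f 1, f 2], by
      intro i j h
      fin_cases i <;> fin_cases j <;> simp [hne, Ne.symm hne, (hf 0).1, (hf 0).2, (hf 1).1, (hf 1).2,
        (hf 2).1, (hf 2).2, (hf 0).1.symm, (hf 0).2.symm, (hf 1).1.symm, (hf 1).2.symm, (hf 2).1.symm,
        (hf 2).2.symm, f.injective.eq_iff] at h ⊢⟩
    let y : Fin 5 ↪ α := ⟨![a, f 3, f 0, f 1, f 2], by
      intro i j h
      fin_cases i <;> fin_cases j <;> simp [(hf 3).1, (hf 3).1.symm, (hf 0).1, (hf 1).1,
        (hf 2).1, (hf 0).1.symm, (hf 1).1.symm, (hf 2).1.symm, f.injective.eq_iff] at h ⊢⟩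
    obtain ⟨g, hg, -⟩ := h5 x y
    have hga : g ∈ stabilizer ↥(stabilizer ↥M24 d) a := hg 0
    rw [e] at hga
    exact (hf 3).2 ((hg 1).symm.trans hga)
  obtain ⟨π, hπ⟩ := exists_perm φ hsep (fun a => by
    obtain ⟨b, hb, hfix⟩ := hφ a.1 a.2
    refine ⟨⟨b, hb⟩, Subgroup.eq_of_le_of_card_ge ?_ ?_⟩
    · rintro _ ⟨g, hg, rfl⟩
      exact Subtype.ext (hfix g (congrArg Subtype.val hg))
    · rw [Subgroup.card_map_of_injective φ.injective, hcardst, hcardst])
  set B : Set (Finset α) := {h : Finset α | ∃ o ∈ octads, (o ∩ d).card = 6 ∧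
    h = Finset.subtype (fun p => p ∈ d) o} with hB
  have hst : IsSteinerSystem 5 6 B := Cfsg.Agent.S0385.result d hd
  -- the stabiliser of five points of a hexad fixes the sixth and no further point
  have fix1 : ∀ b ∈ B, ∀ T ⊆ b, T.card = 5 → ∀ x ∈ b, x ∉ T →
      ∀ g : ↥(stabilizer ↥M24 d), g • T = T → g • x = x := by
    intro b hb T hT hTc x hx hxT g hg
    have hgb : g • b = b := by
      obtain ⟨o, ho, h6, rfl⟩ := hb
      refine (hst.2 T hTc).unique ⟨⟨(g : ↥M24) • o, (smul_mem_octads' _).2 ho, ?_, ?_⟩,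
        hg.symm.subset.trans (Finset.smul_finset_subset_smul_finset hT)⟩ ⟨⟨o, ho, h6, rfl⟩, hT⟩
      · have e : ((g : ↥M24) • o) ∩ d = (g : ↥M24) • (o ∩ d) := by
          rw [Finset.smul_finset_inter, show (g : ↥M24) • d = d from g.2]
        rw [e, Finset.card_smul_finset, h6]
      · ext z
        rw [← Finset.inv_smul_mem_iff, Finset.mem_subtype, Finset.mem_subtype, ← Finset.inv_smul_mem_iff]
        rfl
    have hgx : g • x ∈ b := hgb ▸ Finset.smul_mem_smul_finset hx
    have hgxT : g • x ∉ T := fun h => hxT ((Finset.smul_mem_smul_finset_iff g).1 (hg.symm ▸ h))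
    have h1 : (b \ T).card = 1 := by
      rw [Finset.card_sdiff_of_subset hT, hst.1 b hb, hTc]
    exact Finset.card_le_one.1 h1.le _ (Finset.mem_sdiff.2 ⟨hgx, hgxT⟩) _ (Finset.mem_sdiff.2 ⟨hx, hxT⟩)
  have fix2 : ∀ b ∈ B, ∀ T ⊆ b, T.card = 5 → ∀ y, y ∉ b →
      ∃ g : ↥(stabilizer ↥M24 d), g • T = T ∧ g • y ≠ y := by
    intro b hb T hT hTc y hy
    obtain ⟨x, hx⟩ : (b \ T).Nonempty := by
      rw [← Finset.card_pos, Finset.card_sdiff_of_subset hT, hst.1 b hb, hTc]; norm_num
    obtain ⟨hxb, hxT⟩ := Finset.mem_sdiff.1 hx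
    let e : Fin 5 ↪ α := ((T.equivFinOfCardEq hTc).symm.toEmbedding).trans (Function.Embedding.subtype _)
    have heT : ∀ i, e i ∈ T := fun i => ((T.equivFinOfCardEq hTc).symm i).2
    obtain ⟨g, hg, -⟩ := h5 e ((Equiv.swap 0 1).toEmbedding.trans e)
    have hgT : g • T = T := by
      refine Finset.eq_of_subset_of_card_le (fun z hz => ?_) (Finset.card_smul_finset g T).ge
      rw [← Finset.inv_smul_mem_iff] at hz
      obtain ⟨i, hi⟩ : ∃ i, e i = g⁻¹ • z := ⟨T.equivFinOfCardEq hTc ⟨_, hz⟩, by simp [e]⟩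
      have := hg i
      rw [hi, smul_inv_smul] at this
      rw [this]
      exact heT _
    refine ⟨g, hgT, fun hgy => ?_⟩
    have hgx := fix1 b hb T hT hTc x hxb hxT g hgT
    have nx : ∀ i, e i ≠ x := fun i h => hxT (h ▸ heT i)
    have ny : ∀ i, e i ≠ y := fun i h => hy (h ▸ hT (heT i))
    have nxy : x ≠ y := fun h => hy (h ▸ hxb)
    let z : Fin 5 ↪ α := ⟨![e 2, e 3, e 4, x, y], by
      intro i j h
      fin_cases i <;> fin_cases j <;> simp [nx, ny, nxy, nxy.symm, (nx _).symm, (ny _).symm,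
        e.injective.eq_iff] at h ⊢⟩
    obtain ⟨g0, -, huniq⟩ := h5 z z
    have hgz : ∀ i, g • z i = z i := by
      intro i
      fin_cases i
      · exact (hg 2).trans (congrArg e (Equiv.swap_apply_of_ne_of_ne (by decide) (by decide)))
      · exact (hg 3).trans (congrArg e (Equiv.swap_apply_of_ne_of_ne (by decide) (by decide)))
      · exact (hg 4).trans (congrArg e (Equiv.swap_apply_of_ne_of_ne (by decide) (by decide)))
      · exact hgx
      · exact hgy
    have hg1 : g = 1 := (huniq g hgz).trans (huniq 1 fun i => one_smul _ _).symm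
    have := hg 0
    rw [hg1, one_smul] at this
    exact absurd (e.injective (this.trans (congrArg e (Equiv.swap_apply_left 0 1)))) (by decide)
  have hπB : ∀ b ∈ B, π • b ∈ B := by
    intro b hb
    obtain ⟨T, hT, hTc⟩ := Finset.exists_subset_card_eq (s := b) (n := 5) (by rw [hst.1 b hb]; norm_num)
    obtain ⟨b', ⟨hb', hT'⟩, -⟩ := hst.2 (π • T) (by rw [Finset.card_smul_finset, hTc])
    suffices π • b ⊆ b' by
      rwa [Finset.eq_of_subset_of_card_le this (by rw [Finset.card_smul_finset, hst.1 b hb, hst.1 b' hb'])]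
    intro z hz
    rw [← Finset.inv_smul_mem_iff] at hz
    set x := π⁻¹ • z with hx
    by_cases hxT : x ∈ T
    · have := hT' (Finset.smul_mem_smul_finset (a := π) hxT)
      rwa [hx, smul_inv_smul] at this
    by_contra hzb'
    obtain ⟨g, hgT, hgz⟩ := fix2 b' hb' (π • T) hT' (by rw [Finset.card_smul_finset, hTc]) z hzb'
    apply hgz
    have hzx : z = π x := by rw [hx]; exact (smul_inv_smul π z).symm
    have hg' : φ.symm g • T = T := by
      refine Finset.eq_of_subset_of_card_le (fun t ht => ?_) (Finset.card_smul_finset _ T).ge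
      obtain ⟨t0, ht0, rfl⟩ := Finset.mem_smul_finset.1 ht
      have h1 : π (φ.symm g • t0) ∈ π • T := by
        rw [hπ, φ.apply_symm_apply, ← hgT]
        exact Finset.smul_mem_smul_finset (a := g) (Finset.smul_mem_smul_finset (a := π) ht0)
      exact (Finset.smul_mem_smul_finset_iff π).1 h1
    have hfx := fix1 b hb T hT hTc x hz hxT _ hg'
    have := hπ (φ.symm g) x
    rw [hfx, φ.apply_symm_apply] at this
    rw [hzx]; exact this.symm
  -- the permutation comes from the group
  obtain ⟨s, -, hsc⟩ := Finset.exists_subset_card_eq (s := (Finset.univ : Finset α)) (n := 5)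
    (by rw [Finset.card_univ, hαc]; norm_num)
  let e : Fin 5 ↪ α := ((s.equivFinOfCardEq hsc).symm.toEmbedding).trans (Function.Embedding.subtype _)
  obtain ⟨g, hg, -⟩ := h5 e (e.trans π.toEmbedding)
  let P : Equiv.Perm α := MulAction.toPerm g
  have hPB : ∀ b ∈ B, P • b ∈ B := by
    rintro _ ⟨o, ho, h6, rfl⟩
    refine ⟨(g : ↥M24) • o, (smul_mem_octads' _).2 ho, ?_, ?_⟩
    · have e : ((g : ↥M24) • o) ∩ d = (g : ↥M24) • (o ∩ d) := by
        rw [Finset.smul_finset_inter, show (g : ↥M24) • d = d from g.2]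
      rw [e, Finset.card_smul_finset, h6]
    · ext z
      rw [← Finset.inv_smul_mem_iff, Finset.mem_subtype, Finset.mem_subtype, ← Finset.inv_smul_mem_iff]
      rfl
  have haut : ∀ σ : Equiv.Perm α, (∀ b ∈ B, σ • b ∈ B) → σ ∈ setSystemAut B := by
    intro σ h
    show σ • B = B
    refine Set.eq_of_subset_of_ncard_le ?_ ?_ (Set.toFinite _)
    · rintro _ ⟨o, ho, rfl⟩; exact h o ho
    · rw [← Set.image_smul, Set.ncard_image_of_injective _ (MulAction.injective σ)]
  have hmem : (⟨P⁻¹ * π, mul_mem (inv_mem (haut P hPB)) (haut π hπB)⟩ : ↥(setSystemAut B)) ∈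
      MulAction.stabilizer ↥(setSystemAut B) e := by
    refine DFunLike.ext _ _ fun i => ?_
    show P⁻¹ (π (e i)) = e i
    rw [Equiv.Perm.inv_eq_iff_eq]
    exact (hg i).symm
  rw [(CfsgLib.Sporadic.Hex.aut12 hαc hst).2.2 e, Subgroup.mem_bot] at hmem
  have hπg : ∀ z, π z = g • z := by
    intro z
    have := congrArg (fun σ : ↥(setSystemAut B) => (σ : Equiv.Perm α) z) hmem
    simp only [Subgroup.coe_one, Equiv.Perm.mul_apply, Equiv.Perm.one_apply] at this
    exact (Equiv.Perm.inv_eq_iff_eq.1 this)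
  refine ⟨g, MulEquiv.ext fun h => ?_⟩
  obtain ⟨g0, -, huniq⟩ := h5 e ⟨fun i => φ h • e i, fun i j hij => e.injective (smul_left_cancel _ hij)⟩
  refine (huniq _ fun i => ?_).trans (huniq (φ h) fun i => rfl).symm
  show (g * h * g⁻¹) • e i = φ h • e i
  have hi : e i = π (g⁻¹ • e i) := by rw [hπg, smul_inv_smul]
  conv_rhs => rw [hi, ← hπ, hπg]
  rw [mul_smul, mul_smul]

/-! ### the outer automorphism group -/

theorem card_out_stab {d : Finset GolayPt} (hd : d ∈ dodecads) :
    Nat.card (Cfsg.Out ↥(stabilizer ↥M24 d)) = 2 := by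
  classical
  obtain ⟨g, hg⟩ := exists_smul_dodecad hd (compl_mem_dodecads hd)
  have hg' : g • dᶜ = d := by rw [smul_compl', hg, compl_compl]
  have hstabc : ∀ x : ↥M24, x • d = d → x • dᶜ = dᶜ := fun x h => by rw [smul_compl', h]
  have hnorm : ∀ x ∈ stabilizer ↥M24 d, g * x * g⁻¹ ∈ stabilizer ↥M24 d := fun x hx => by
    show (g * x * g⁻¹) • d = d
    rw [mul_smul, mul_smul, inv_smul_eq_iff.2 hg'.symm, hstabc x hx, hg']
  have hnorm' : ∀ x ∈ stabilizer ↥M24 d, g⁻¹ * x * g ∈ stabilizer ↥M24 d := fun x hx => by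
    show (g⁻¹ * x * g) • d = d
    rw [mul_smul, mul_smul, hg, hstabc x hx, inv_smul_eq_iff, hg]
  let ψ : MulAut ↥(stabilizer ↥M24 d) :=
    { toFun := fun x => ⟨g * x * g⁻¹, hnorm x x.2⟩
      invFun := fun x => ⟨g⁻¹ * x * g, hnorm' x x.2⟩
      left_inv := fun x => Subtype.ext (by group)
      right_inv := fun x => Subtype.ext (by group)
      map_mul' := fun x y => Subtype.ext (by simp [mul_assoc]) }
  have hψ : ψ ∉ Cfsg.Inn ↥(stabilizer ↥M24 d) := by
    rintro ⟨k, hk⟩
    obtain ⟨a, ha⟩ : d.Nonempty := by rw [← Finset.card_pos, hd.2]; norm_num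
    set c := (g⁻¹ * (k : ↥M24)) • a with hc
    have hcd : c ∈ dᶜ := by
      rw [hc, mul_smul, ← Finset.smul_mem_smul_finset_iff g, smul_inv_smul, hg']
      exact (smul_mem_of_stab k.2).2 ha
    have hsame : stabilizer ↥M24 d ⊓ stabilizer ↥M24 a ≤ stabilizer ↥M24 c := by
      rintro x ⟨hx, hxa⟩
      have e := congrArg (fun f : MulAut ↥(stabilizer ↥M24 d) => ((f ⟨x, hx⟩ : ↥(stabilizer ↥M24 d)) : ↥M24)) hk
      have e' : (k : ↥M24) * x * (k : ↥M24)⁻¹ = g * x * g⁻¹ := e
      show x • c = c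
      have h1 : x * (g⁻¹ * (k : ↥M24)) = g⁻¹ * (k : ↥M24) * x := by
        calc x * (g⁻¹ * (k : ↥M24)) = g⁻¹ * (g * x * g⁻¹) * (k : ↥M24) := by group
          _ = _ := by rw [← e']; group
      rw [hc, ← mul_smul, h1, mul_smul, show x • a = a from hxa]
    have hle : stabilizer ↥M24 d ⊓ stabilizer ↥M24 a ≤
        stabilizer ↥M24 d ⊓ stabilizer ↥M24 a ⊓ stabilizer ↥M24 c := le_inf le_rfl hsame
    have := Subgroup.card_le_of_le hle
    rw [card_stab_dodecad_point hd ha, card_stab_out hd ha (Finset.mem_compl.1 hcd)] at this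
    omega
  -- where point stabilisers go
  have hdich : ∀ φ : MulAut ↥(stabilizer ↥M24 d), φ ∈ Cfsg.Inn ↥(stabilizer ↥M24 d) ∨
      ψ * φ ∈ Cfsg.Inn ↥(stabilizer ↥M24 d) := by
    intro φ
    obtain ⟨a0, ha0⟩ : d.Nonempty := by rw [← Finset.card_pos, hd.2]; norm_num
    let K0 := (stabilizer ↥M24 a0).subgroupOf (stabilizer ↥M24 d)
    have hK0 : Nat.card K0 = 7920 := by
      rw [← card_stab_dodecad_point hd ha0]
      exact Nat.card_congr
        { toFun := fun g => ⟨g.1.1, g.1.2, g.2⟩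
          invFun := fun g => ⟨⟨g.1, g.2.1⟩, g.2.2⟩
          left_inv := fun _ => rfl
          right_inv := fun _ => rfl }
    obtain ⟨c0, hc0⟩ := eq_stabilizer_of_card_M12 hd
      ((K0.map φ.toMonoidHom).map (stabilizer ↥M24 d).subtype) (Subgroup.map_subtype_le _)
      (by rw [Subgroup.card_map_of_injective (Subgroup.subtype_injective _),
        Subgroup.card_map_of_injective φ.injective, hK0])
    have hc0' : ∀ g : ↥(stabilizer ↥M24 d), (g : ↥M24) • a0 = a0 →
        ((φ g : ↥(stabilizer ↥M24 d)) : ↥M24) • c0 = c0 :=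
      fun g hg => hc0 ⟨φ g, ⟨g, hg, rfl⟩, rfl⟩
    have main : ∀ (χ : MulAut ↥(stabilizer ↥M24 d)) (c : GolayPt), c ∈ d →
        (∀ g : ↥(stabilizer ↥M24 d), (g : ↥M24) • a0 = a0 →
          ((χ g : ↥(stabilizer ↥M24 d)) : ↥M24) • c = c) →
        χ ∈ Cfsg.Inn ↥(stabilizer ↥M24 d) := by
      intro χ c hc hχ
      refine inner_of_points hd χ fun a ha => ?_
      obtain ⟨t, ht, hta⟩ := exists_map_dodecad hd (k := 1) (by norm_num)
        ⟨fun _ => a, fun i j _ => Subsingleton.elim i j⟩ ⟨fun _ => a0, fun i j _ => Subsingleton.elim i j⟩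
        (fun _ => ha) (fun _ => ha0)
      have hta' : t • a = a0 := hta 0
      refine ⟨((χ (⟨t, ht⟩⁻¹) : ↥(stabilizer ↥M24 d)) : ↥M24) • c,
        (smul_mem_of_stab (χ _).2).2 hc, fun g hg => ?_⟩
      have h1 := hχ (⟨t, ht⟩ * g * ⟨t, ht⟩⁻¹) (by
        show (t * (g : ↥M24) * t⁻¹) • a0 = a0
        rw [mul_smul, mul_smul, inv_smul_eq_iff.2 hta'.symm, hg, hta'])
      rw [map_mul, map_mul] at h1
      rw [← mul_smul, map_inv]
      rw [map_inv, Subgroup.coe_mul, Subgroup.coe_mul, mul_assoc, mul_smul, mul_smul] at h1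
      rw [Subgroup.coe_inv] at h1 ⊢
      rw [mul_smul, eq_inv_smul_iff, h1]
    by_cases hcd : c0 ∈ d
    · exact Or.inl (main φ c0 hcd hc0')
    · refine Or.inr (main _ (g • c0) ?_ fun x hx => ?_)
      · rw [← hg']; exact Finset.smul_mem_smul_finset (Finset.mem_compl.2 hcd)
      · show (g * ((φ x : ↥(stabilizer ↥M24 d)) : ↥M24) * g⁻¹) • g • c0 = g • c0
        rw [mul_smul, inv_smul_smul, mul_smul, hc0' x hx]
  refine Nat.card_eq_two_iff.2 ⟨1, (QuotientGroup.mk ψ)⁻¹, fun e => hψ ?_, Set.eq_univ_of_forall fun a => ?_⟩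
  · exact (QuotientGroup.eq_one_iff ψ).1 (inv_eq_one.1 e.symm)
  · induction a using QuotientGroup.induction_on with | H φ =>
    rcases hdich φ with h | h
    · exact Or.inl ((QuotientGroup.eq_one_iff φ).2 h)
    · refine Or.inr (eq_inv_of_mul_eq_one_right ?_)
      rw [← QuotientGroup.mk_mul]
      exact (QuotientGroup.eq_one_iff _).2 h

theorem card_out : Nat.card (Cfsg.Out ↥Spor.M12) = 2 := by
  rw [← card_out_stab squareDodecad_mem]
  let e := sporM12Equiv
  have h : (Cfsg.Inn ↥(stabilizer ↥M24 Spor.squareDodecad)).map (MulAut.congr e).toMonoidHom =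
      Cfsg.Inn ↥Spor.M12 := by
    ext φ
    constructor
    · rintro ⟨_, ⟨g, rfl⟩, rfl⟩
      exact ⟨e g, MulEquiv.ext fun x => by simp [MulAut.congr]⟩
    · rintro ⟨g, rfl⟩
      exact ⟨_, ⟨e.symm g, rfl⟩, MulEquiv.ext fun x => by simp [MulAut.congr]⟩
  exact Nat.card_congr (QuotientGroup.congr _ _ (MulAut.congr e) h).symm.toEquiv

end CfsgLib.Sporadic.M12Aut
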