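import Mathlib
import Cfsg.Agent.Lib.Sporadic.MultiplierPerms
import Cfsg.Agent.Lib.Sporadic.MathieuTwentyThreeMultData
import Cfsg.Agent.Lib.Sporadic.SporMathieu

/-!
# The Schur multiplier of M23 is trivial

The involution centraliser is generated by elements of odd order, so involutions have canonical
lifts; with one normalisation these satisfy the conjugation relations and the product relation on
one class of four-groups, which present a Sylow 2-subgroup.
-/

set_option autoImplicit false
set_option maxRecDepth 20000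

namespace CfsgLib.Sporadic.MTwentyThreeMult

open Cfsg CfsgLib.Sporadic.Mult
open scoped commutatorElement

abbrev H23 : Subgroup ↥M24 := MulAction.stabilizer ↥M24 (none : GolayPt)

noncomputable def member : Member H23 where
  test p := isAut p && decide (pget p 23 = 23)
  sound p h := by
    rw [Bool.and_eq_true, decide_eq_true_eq] at h
    obtain ⟨g, hg⟩ := exists_M24_elt h.1
    exact ⟨⟨g, mem_stab_point hg h.2⟩, hg⟩

def twoTable : Table := ⟨128, 9, twoNext, twoWord, twoTree, twoRels, twoSteps⟩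

def threeTable : Table := ⟨9, 2, threeNext, threeWord, threeTree, threeRels, threeSteps⟩

def gen (i : ℕ) : ℕ := gens.getD i pone

def cto (i : ℕ) : ℕ := conjTo.getD i pone

def oddWord (w : List ℕ) : List ℕ := w.map fun i => (cenOdd.getD i (pone, 1)).1

theorem good_data : ([baseA, baseB, baseC, toB, toC, pone, threeX, threeY, invX, invY] ++ gens ++
    conjTo ++ cenOdd.map Prod.fst ++ pairCert.map (fun c => c.2.1) ++
    threeFactors.map Prod.fst).all (good member) = true := by
  decide +kernel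

theorem base_data : pmul baseA baseA = pone ∧ pprod [baseA, baseB, baseC] = pone ∧
    pmul toB baseA = pmul baseB toB ∧ pmul toC baseA = pmul baseC toC ∧
    pprod (oddWord wordB) = baseB ∧
    (cenOdd.all fun o => decide (pmul baseA o.1 = pmul o.1 baseA) && decide (o.2 % 2 = 1) &&
      decide (ppow o.1 o.2 = pone)) = true ∧
    ∀ i : Fin 9, pmul (cto i) baseA = pmul (gen i) (cto i) := by
  decide +kernel

theorem conj_data : ∀ c ∈ conjCert, c.1.1 < 9 ∧ c.1.2.1 < 9 ∧ c.1.2.2 < 9 ∧
    pprod (cto c.1.2.2 :: oddWord c.2) = pprod [gen c.1.1, cto c.1.2.1] := by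
  decide +kernel

theorem pair_data : ∀ c ∈ pairCert, c.1.1 < 9 ∧ c.1.2.1 < 9 ∧ c.1.2.2 < 9 ∧
    pprod (cto c.1.1 :: oddWord c.2.2.1) = pprod [c.2.1] ∧
    pprod (cto c.1.2.1 :: oddWord c.2.2.2.1) = pprod [c.2.1, toB] ∧
    pprod (cto c.1.2.2 :: oddWord c.2.2.2.2) = pprod [c.2.1, toC] := by
  decide +kernel

theorem rels_data : ∀ W ∈ twoRels, (∃ i : Fin 9, W = [i.val, i.val]) ∨
    (∃ c ∈ conjCert, W = [c.1.1, c.1.2.1, c.1.1, c.1.2.2]) ∨
    ∃ c ∈ pairCert, W = [c.1.1, c.1.2.1, c.1.2.2] := by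
  decide +kernel

theorem two_table_data : twoTable.ok = true ∧
    (∀ p : Fin 128, ∀ i ∈ twoTable.wd p, i < 9) ∧
    ((List.range 128).map fun p => pprod ((twoTable.wd p).map gen)).Nodup := by
  decide +kernel

theorem three_table_data : threeTable.ok = true ∧
    (∀ p : Fin 9, ∀ i ∈ threeTable.wd p, i < 2) ∧
    ((List.range 9).map fun p =>
      pprod ((threeTable.wd p).map fun i => [threeX, threeY].getD i pone)).Nodup := by
  decide +kernel

theorem three_data : pmul threeX threeY = pmul threeY threeX ∧ ppow threeX 3 = pone ∧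
    ppow threeY 3 = pone ∧ pmul invX threeX = pmul (ppow threeX 2) invX ∧
    pmul invY threeY = pmul (ppow threeY 2) invY ∧ pprod (threeFactors.map Prod.fst) = threeY ∧
    (threeFactors.all fun o => decide (pmul threeX o.1 = pmul o.1 threeX) &&
      decide (Nat.gcd o.2 3 = 1) && decide (ppow o.1 o.2 = pone)) = true ∧
    threeTable.rels = [[0, 0, 0], [1, 1, 1], [0, 1, 0, 0, 1, 1]] := by
  decide +kernel

local notation "e" => el member

theorem pk_good {p : ℕ} (h : p ∈ [baseA, baseB, baseC, toB, toC, pone, threeX, threeY, invX, invY] ++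
    gens ++ conjTo ++ cenOdd.map Prod.fst ++ pairCert.map (fun c => c.2.1) ++
    threeFactors.map Prod.fst) : pk (e p) = p :=
  pk_el member (List.all_eq_true.1 good_data p h)

theorem pk_base : pk (e baseA) = baseA ∧ pk (e baseB) = baseB ∧ pk (e baseC) = baseC ∧
    pk (e toB) = toB ∧ pk (e toC) = toC ∧ pk (e threeX) = threeX ∧ pk (e threeY) = threeY ∧
    pk (e invX) = invX ∧ pk (e invY) = invY := by
  refine ⟨?_, ?_, ?_, ?_, ?_, ?_, ?_, ?_, ?_⟩ <;> exact pk_good (by simp)

theorem pk_gen {i : ℕ} (hi : i < 9) : pk (e (gen i)) = gen i ∧ pk (e (cto i)) = cto i := by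
  have h1 : gens.length = 9 := by decide +kernel
  have h2 : conjTo.length = 9 := by decide +kernel
  constructor
  · refine pk_good ?_
    have : gen i ∈ gens := by
      rw [gen, List.getD_eq_getElem _ _ (by omega)]; exact List.getElem_mem _
    simp [this]
  · refine pk_good ?_
    have : cto i ∈ conjTo := by
      rw [cto, List.getD_eq_getElem _ _ (by omega)]; exact List.getElem_mem _
    simp [this]

theorem pk_odd (w : List ℕ) : ((oddWord w).map e).map pk = oddWord w := by
  rw [List.map_map]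
  conv_rhs => rw [← List.map_id (oddWord w)]
  refine List.map_congr_left fun p hp => ?_
  obtain ⟨i, -, rfl⟩ := List.mem_map.1 hp
  refine pk_good ?_
  by_cases hi : i < cenOdd.length
  · rw [List.getD_eq_getElem _ _ hi]
    have : (cenOdd[i]).1 ∈ cenOdd.map Prod.fst := List.mem_map_of_mem (List.getElem_mem hi)
    simp only [List.mem_append]; tauto
  · rw [List.getD_eq_default _ _ (by omega)]
    simp

theorem two_part {Γ : Type*} [Group Γ] [Finite Γ] (σ : Γ →* ↥H23) (hσ : Cfsg.IsStemExtension σ)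
    (he : ∀ z ∈ σ.ker, z ^ 2 = 1) :
    ∃ U : Subgroup ↥H23, ¬ 2 ∣ U.index ∧
      ∀ (z : Γ) (h : z ∈ U.comap σ), z ∈ σ.ker → (⟨z, h⟩ : U.comap σ) ∈ commutator (U.comap σ) →
        z = 1 := by
  obtain ⟨hs, hc, -⟩ := hσ
  obtain ⟨dAA, dABC, dB, dC, dwB, dodd, dgen⟩ := base_data
  obtain ⟨pA, pB, pC, ptB, ptC, -, -, -, -⟩ := pk_base
  let L : ↥H23 → Γ := Function.surjInv hs
  have hL : ∀ g, σ (L g) = g := Function.surjInv_eq hs
  have cen : ∀ {z : Γ}, σ z = 1 → ∀ t, Commute t z := fun hz t =>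
    Subgroup.mem_center_iff.1 (hc hz) t
  set A := L (e baseA) with hA
  -- conjugates of `A` only depend on the coset of the centraliser
  have hword : ∀ w : List ℕ, ∀ X : Γ, σ X = ((oddWord w).map e).prod → Commute A X := by
    intro w X hX
    refine commute_lifts σ hs hc he _ (hL _) hX fun o ho => ?_
    obtain ⟨p, hp, rfl⟩ := List.mem_map.1 ho
    obtain ⟨i, -, rfl⟩ := List.mem_map.1 hp
    by_cases hi : i < cenOdd.length
    · rw [List.getD_eq_getElem _ _ hi]
      have hmem : cenOdd[i] ∈ cenOdd := List.getElem_mem hi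
      have hd := List.all_eq_true.1 dodd _ hmem
      simp only [Bool.and_eq_true, decide_eq_true_eq] at hd
      have hp' : pk (e (cenOdd[i]).1) = (cenOdd[i]).1 := pk_good (by
        simp only [List.mem_append]
        exact .inl (.inl (.inr (List.mem_map_of_mem hmem))))
      refine ⟨pk_injective (by rw [pk_mul, pk_mul, pA, hp']; exact hd.1.1), (cenOdd[i]).2, ?_, ?_⟩
      · exact Nat.coprime_two_right.2 (Nat.odd_iff.2 hd.1.2)
      · exact pk_injective (by rw [pk_pow, pk_one, hp']; exact hd.2)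
    · rw [List.getD_eq_default _ _ (by omega)]
      have h1 : e pone = 1 := pk_injective (by rw [pk_one]; exact pk_good (by simp))
      exact ⟨by simp [h1], 1, Nat.coprime_one_left 2, by simp [h1]⟩
  have key : ∀ (w : List ℕ) (X Y : Γ), σ X = σ Y * ((oddWord w).map e).prod →
      X * A * X⁻¹ = Y * A * Y⁻¹ := by
    intro w X Y h
    have hcomm := hword w (Y⁻¹ * X) (by rw [map_mul, map_inv, h, inv_mul_cancel_left])
    calc X * A * X⁻¹ = Y * ((Y⁻¹ * X) * A) * X⁻¹ := by group
      _ = Y * (A * (Y⁻¹ * X)) * X⁻¹ := by rw [hcomm.eq]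
      _ = Y * A * Y⁻¹ := by group
  set B0 := L (e toB) * A * (L (e toB))⁻¹ with hB0
  set C0 := L (e toC) * A * (L (e toC))⁻¹ with hC0
  have hsB : σ B0 = e baseB := by
    rw [hB0, map_mul, map_mul, map_inv, hL, hA, hL, mul_inv_eq_iff_eq_mul]
    exact pk_injective (by rw [pk_mul, pk_mul, pA, pB, ptB]; exact dB)
  have hsC : σ C0 = e baseC := by
    rw [hC0, map_mul, map_mul, map_inv, hL, hA, hL, mul_inv_eq_iff_eq_mul]
    exact pk_injective (by rw [pk_mul, pk_mul, pA, pC, ptC]; exact dC)
  set δ := A * B0 * C0 with hδ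
  have hsδ : σ δ = 1 := by
    rw [hδ, map_mul, map_mul, hsB, hsC, hA, hL]
    refine pk_injective ?_
    rw [show e baseA * e baseB * e baseC = [e baseA, e baseB, e baseC].prod by simp [mul_assoc],
      pk_prod, pk_one]
    simp only [List.map_cons, List.map_nil, pA, pB, pC]
    exact dABC
  have hδc : ∀ t, Commute t δ := cen hsδ
  have hδ2 : δ ^ 2 = 1 := he δ hsδ
  have hsA2 : σ (A ^ 2) = 1 := by
    rw [map_pow, hA, hL, sq]
    exact pk_injective (by rw [pk_mul, pA, pk_one]; exact dAA)
  have hA2c : ∀ t, Commute t (A ^ 2) := cen hsA2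
  have hconj2 : ∀ X : Γ, (X * A * X⁻¹) ^ 2 = A ^ 2 := fun X => by
    rw [conj_pow, (hA2c X).eq, mul_inv_cancel_right]
  have hA2 : A ^ 2 = 1 := by
    have hcm : Commute A B0 := hword wordB B0 (by
      rw [hsB]
      exact pk_injective (by rw [pB, pk_prod, pk_odd]; exact dwB.symm))
    have h1 : (A * B0) ^ 2 = (A ^ 2)⁻¹ := by
      have e1 : A * B0 = δ * C0⁻¹ := by rw [hδ]; group
      rw [e1, ((hδc C0⁻¹).symm).mul_pow, hδ2, one_mul, inv_pow, hC0, hconj2]
    rw [hcm.mul_pow, hB0, hconj2, he _ hsA2 |> fun h => (sq (A ^ 2)).symm.trans h] at h1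
    exact inv_eq_one.1 h1.symm
  let T : ℕ → Γ := fun i => L (e (cto i)) * A * (L (e (cto i)))⁻¹ * δ
  let t : ℕ → ↥H23 := fun i => e (gen i)
  have ht : ∀ i < 9, σ (T i) = t i := by
    intro i hi
    show σ (L (e (cto i)) * A * (L (e (cto i)))⁻¹ * δ) = e (gen i)
    rw [map_mul, hsδ, mul_one, map_mul, map_mul, map_inv, hL, hA, hL, mul_inv_eq_iff_eq_mul]
    exact pk_injective (by
      rw [pk_mul, pk_mul, pA, (pk_gen hi).1, (pk_gen hi).2]; exact dgen ⟨i, hi⟩)
  have hsq : ∀ i, T i * T i = 1 := fun i => by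
    rw [← sq]
    show (L (e (cto i)) * A * (L (e (cto i)))⁻¹ * δ) ^ 2 = 1
    rw [(hδc _).mul_pow, hδ2, mul_one, hconj2, hA2]
  -- recognise a lift as a generator
  have hrec : ∀ (l : ℕ) (w : List ℕ) (g : List ℕ) (X : Γ), l < 9 → (g.map e).map pk = g →
      pprod (cto l :: oddWord w) = pprod g → σ X = (g.map e).prod →
      X * A * X⁻¹ * δ = T l := by
    intro l w g X hl hg hd hX
    refine congrArg (· * δ) (key w X _ ?_)
    rw [hX, hL, ← List.prod_cons]
    refine pk_injective ?_
    rw [pk_prod, pk_prod, List.map_cons, pk_odd, (pk_gen hl).2, hg, hd]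
  have hrels : ∀ W ∈ twoTable.rels, wprod T W = 1 := by
    intro W hW
    rcases rels_data W hW with ⟨i, rfl⟩ | ⟨c, hc', rfl⟩ | ⟨c, hc', rfl⟩
    · simp [wprod, hsq]
    · obtain ⟨h1, h2, h3, hd⟩ := conj_data c hc'
      set i := c.1.1
      set j := c.1.2.1
      set l := c.1.2.2
      have h := hrec l c.2 [gen i, cto j] (T i * L (e (cto j))) h3
        (by simp [(pk_gen h1).1, (pk_gen h2).2]) hd (by simp [map_mul, ht i h1, hL, t])
      have hconj : T i * T j * T i = T l := by
        have hTi : (T i)⁻¹ = T i := inv_eq_of_mul_eq_one_right (hsq i)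
        rw [← h]
        calc T i * T j * T i = T i * L (e (cto j)) * A * (L (e (cto j)))⁻¹ * (δ * T i) := by
              show T i * (L (e (cto j)) * A * (L (e (cto j)))⁻¹ * δ) * T i = _
              group
          _ = T i * L (e (cto j)) * A * (L (e (cto j)))⁻¹ * (T i * δ) := by rw [(hδc (T i)).eq]
          _ = _ := by rw [mul_inv_rev, hTi]; group
      show wprod T [i, j, i, l] = 1
      simp only [wprod, List.map_cons, List.map_nil, List.prod_cons, List.prod_nil, mul_one]
      rw [← mul_assoc, ← mul_assoc, hconj, hsq]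
    · obtain ⟨h1, h2, h3, d1, d2, d3⟩ := pair_data c hc'
      set i := c.1.1
      set j := c.1.2.1
      set l := c.1.2.2
      set g := c.2.1
      have hg : pk (e g) = g := pk_good (by
        simp only [List.mem_append]
        exact .inl (.inr (List.mem_map_of_mem hc')))
      set G := L (e g)
      have e1 := hrec i _ [g] G h1 (by simp [hg]) d1 (by simp [G, hL])
      have e2 := hrec j _ [g, toB] (G * L (e toB)) h2 (by simp [hg, ptB]) d2
        (by simp [G, map_mul, hL])
      have e3 := hrec l _ [g, toC] (G * L (e toC)) h3 (by simp [hg, ptC]) d3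
        (by simp [G, map_mul, hL])
      show wprod T [i, j, l] = 1
      simp only [wprod, List.map_cons, List.map_nil, List.prod_cons, List.prod_nil, mul_one]
      rw [← e1, ← e2, ← e3]
      have hd3 : ∀ u v w : Γ, u * δ * (v * δ * (w * δ)) = u * v * w * (δ * δ * δ) := fun u v w => by
        calc u * δ * (v * δ * (w * δ)) = u * (δ * v) * (δ * w) * δ := by group
          _ = u * (v * δ) * (δ * w) * δ := by rw [(hδc v).eq]
          _ = u * v * (δ * δ * w) * δ := by group
          _ = u * v * (w * (δ * δ)) * δ := by rw [((hδc w).mul_right (hδc w)).eq]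
          _ = _ := by group
      rw [hd3]
      have eABC : G * A * G⁻¹ * (G * L (e toB) * A * (G * L (e toB))⁻¹) *
          (G * L (e toC) * A * (G * L (e toC))⁻¹) = G * δ * G⁻¹ := by
        rw [hδ, hB0, hC0]; group
      rw [eABC, (hδc G).eq, mul_inv_cancel_right, ← pow_two, ← pow_succ, ← pow_succ', 
        show 2 + 1 + 1 = 2 * 2 from rfl, pow_mul, hδ2, one_pow]
  obtain ⟨hok, hlt, hnd⟩ := two_table_data
  have hlt' : ∀ p < twoTable.N, ∀ i ∈ twoTable.wd p, i < twoTable.k := fun p hp => hlt ⟨p, hp⟩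
  obtain ⟨hcard, hU⟩ := complement_of_table σ hs hc hok T hrels t ht hlt'
    (injOn_words member (gens := gens) (fun i hi => (pk_gen hi).1) hlt' hnd)
  refine ⟨_, fun hd => ?_, hU⟩
  have h := Subgroup.card_mul_index (Subgroup.closure (t '' {i | i < twoTable.k}))
  rw [hcard, card_stab_point none] at h
  have hi : (Subgroup.closure (t '' {i | i < twoTable.k})).index = 79695 := by
    have : twoTable.N = 128 := rfl
    rw [this] at h
    omega
  rw [hi] at hd
  norm_num at hd

theorem three_part {Γ : Type*} [Group Γ] [Finite Γ] (σ : Γ →* ↥H23) (hσ : Cfsg.IsStemExtension σ)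
    (he : ∀ z ∈ σ.ker, z ^ 3 = 1) :
    ∃ U : Subgroup ↥H23, ¬ 3 ∣ U.index ∧
      ∀ (z : Γ) (h : z ∈ U.comap σ), z ∈ σ.ker → (⟨z, h⟩ : U.comap σ) ∈ commutator (U.comap σ) →
        z = 1 := by
  obtain ⟨hs, hc, -⟩ := hσ
  obtain ⟨dXY, dX, dY, dIX, dIY, dF, dFs, drels⟩ := three_data
  obtain ⟨-, -, -, -, -, pX, pY, pIX, pIY⟩ := pk_base
  obtain ⟨X, hX⟩ := hs (e threeX)
  obtain ⟨Y, hY⟩ := hs (e threeY)
  have hx3 : (e threeX) ^ 3 = 1 := pk_injective (by rw [pk_pow, pX, pk_one]; exact dX)
  have hy3 : (e threeY) ^ 3 = 1 := pk_injective (by rw [pk_pow, pY, pk_one]; exact dY)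
  have inv2 : ∀ g : ↥H23, g ^ 3 = 1 → g⁻¹ = g ^ 2 := fun g h =>
    inv_eq_of_mul_eq_one_right (by rw [← pow_succ', h])
  have hX3 : X ^ 3 = 1 := by
    refine pow_lift_inverted σ hs hc (by decide) he (g := e invX) ?_ hx3 hX
    rw [inv2 _ hx3]
    exact pk_injective (by rw [pk_mul, pk_mul, pk_pow, pX, pIX]; exact dIX)
  have hY3 : Y ^ 3 = 1 := by
    refine pow_lift_inverted σ hs hc (by decide) he (g := e invY) ?_ hy3 hY
    rw [inv2 _ hy3]
    exact pk_injective (by rw [pk_mul, pk_mul, pk_pow, pY, pIY]; exact dIY)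
  have hgoodF : (threeFactors.map Prod.fst).all (good member) = true := by
    refine List.all_eq_true.2 fun p hp => List.all_eq_true.1 good_data p ?_
    exact List.mem_append.2 (.inr hp)
  have hcm : Commute X Y := by
    refine commute_lifts σ hs hc he ((threeFactors.map Prod.fst).map e) hX ?_ ?_
    · rw [hY]
      exact pk_injective (by rw [pY, pk_prod, pk_el_list member hgoodF]; exact dF.symm)
    · intro o ho
      obtain ⟨p, hp, rfl⟩ := List.mem_map.1 ho
      obtain ⟨q, hq, rfl⟩ := List.mem_map.1 hp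
      have hd := List.all_eq_true.1 dFs q hq
      simp only [Bool.and_eq_true, decide_eq_true_eq] at hd
      have hp' : pk (e q.1) = q.1 := pk_el member (List.all_eq_true.1 hgoodF _ hp)
      exact ⟨pk_injective (by rw [pk_mul, pk_mul, pX, hp']; exact hd.1.1), q.2, hd.1.2,
        pk_injective (by rw [pk_pow, pk_one, hp']; exact hd.2)⟩
  let T : ℕ → Γ := fun i => if i = 0 then X else Y
  let t : ℕ → ↥H23 := fun i => if i = 0 then e threeX else e threeY
  have ht : ∀ i < threeTable.k, σ (T i) = t i := by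
    intro i _
    simp only [T, t]
    split_ifs <;> assumption
  have hrels : ∀ W ∈ threeTable.rels, wprod T W = 1 := by
    rw [drels]
    intro W hW
    fin_cases hW
    · simp only [wprod, T, List.map_cons, List.map_nil, if_pos, List.prod_cons, List.prod_nil,
        mul_one]
      rw [← hX3, pow_three]
    · simp [wprod, T]
      rw [← hY3, pow_three]
    · simp [wprod, T]
      calc X * (Y * (X * (X * (Y * Y)))) = X * (Y * X) * X * (Y * Y) := by group
        _ = X * (X * Y) * X * (Y * Y) := by rw [hcm.eq]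
        _ = X * X * (Y * X) * (Y * Y) := by group
        _ = X * X * (X * Y) * (Y * Y) := by rw [hcm.eq]
        _ = X ^ 3 * Y ^ 3 := by rw [pow_three, pow_three]; group
        _ = 1 := by rw [hX3, hY3, mul_one]
  obtain ⟨hok, hlt, hnd⟩ := three_table_data
  have hlt' : ∀ p < threeTable.N, ∀ i ∈ threeTable.wd p, i < threeTable.k :=
    fun p hp => hlt ⟨p, hp⟩
  obtain ⟨hcard, hU⟩ := complement_of_table σ hs hc hok T hrels t ht hlt'
    (injOn_words member (gens := [threeX, threeY]) (fun i hi => by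
      have : i < 2 := hi
      interval_cases i <;> simp [t, pX, pY]) hlt' hnd)
  refine ⟨_, fun hd => ?_, hU⟩
  have h := Subgroup.card_mul_index (Subgroup.closure (t '' {i | i < threeTable.k}))
  rw [hcard, card_stab_point none] at h
  have hi : (Subgroup.closure (t '' {i | i < threeTable.k})).index = 1133440 := by
    have : threeTable.N = 9 := rfl
    rw [this] at h
    omega
  rw [hi] at hd
  norm_num at hd

theorem prime_not_sq {r : ℕ} (hr : r.Prime) (h2 : r ≠ 2) (h3 : r ≠ 3) : ¬ r ^ 2 ∣ 10200960 := by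
  intro h
  have hlt : r < 3200 := by
    have := Nat.le_of_dvd (by norm_num) h
    nlinarith
  have key : ∀ k < 3200, k ^ 2 ∣ 10200960 → k ∈ [1, 2, 3, 4, 6, 8, 12, 24] := by decide +kernel
  have := key r hlt h
  simp only [List.mem_cons, List.not_mem_nil, or_false] at this
  rcases this with rfl | rfl | rfl | rfl | rfl | rfl | rfl | rfl <;>
    first
      | exact h2 rfl
      | exact h3 rfl
      | norm_num at hr

theorem std_trivial : Cfsg.HasCyclicSchurMultiplier ↥H23 1 := by
  refine CfsgLib.Schur.hasCyclicSchurMultiplier_one_of_forall fun Γ _ _ σ hσ =>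
    (Subgroup.eq_bot_iff_forall _).2 fun z hz => ?_
  rw [← orderOf_eq_one_iff]
  by_contra hne
  obtain ⟨r, hr, hrz⟩ := Nat.exists_prime_and_dvd hne
  haveI := Fact.mk hr
  by_cases h2 : r = 2
  · subst h2; exact kills_prime σ hσ 2 (fun Δ _ _ τ hτ he => two_part τ hτ he) hz hrz
  by_cases h3 : r = 3
  · subst h3; exact kills_prime σ hσ 3 (fun Δ _ _ τ hτ he => three_part τ hτ he) hz hrz
  have key : ∃ U : Subgroup ↥H23, ¬ r ∣ U.index ∧
      ∀ (z : Γ) (h : z ∈ U.comap σ), z ∈ σ.ker → (⟨z, h⟩ : U.comap σ) ∈ commutator (U.comap σ) →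
        z = 1 := by
    by_cases hd : r ∣ 10200960
    · obtain ⟨x, hx⟩ := exists_prime_orderOf_dvd_card' (G := ↥H23) r (by rw [card_stab_point]; exact hd)
      refine ⟨Subgroup.zpowers x, fun h => ?_, fun z h hk hcom => CfsgLib.Known.SL2Mult.trivial_of_mult
        σ hσ _ (CfsgLib.Schur.hasCyclicSchurMultiplier_one_of_isCyclic _) z h hk hcom⟩
      have h1 := Subgroup.card_mul_index (Subgroup.zpowers x)
      rw [Nat.card_zpowers, hx, card_stab_point] at h1
      exact prime_not_sq hr h2 h3 (by rw [sq, ← h1]; exact Nat.mul_dvd_mul_left r h)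
    · exact ⟨⊥, by rwa [Subgroup.index_bot, card_stab_point], fun z h hk hcom =>
        CfsgLib.Known.SL2Mult.trivial_of_mult σ hσ _
          (CfsgLib.Schur.hasCyclicSchurMultiplier_one_of_isCyclic _) z h hk hcom⟩
  obtain ⟨U, hU1, hU2⟩ := key
  exact hU1 (hrz.trans (orderOf_dvd_of_pow_eq_one
    (CfsgLib.Known.SL2Mult.pow_index_eq_one σ hσ U hU2 hz)))

theorem multiplier_trivial : Cfsg.HasCyclicSchurMultiplier ↥Spor.M23 1 := by
  refine CfsgLib.Schur.hasCyclicSchurMultiplier_one_of_forall fun Γ _ _ σ hσ => ?_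
  have hk : (sporM23Equiv.symm.toMonoidHom.comp σ).ker = σ.ker :=
    Subgroup.ext fun x => by simp [MonoidHom.mem_ker]
  have hst : Cfsg.IsStemExtension (sporM23Equiv.symm.toMonoidHom.comp σ) :=
    ⟨sporM23Equiv.symm.surjective.comp hσ.1, hk ▸ hσ.2.1, hk ▸ hσ.2.2⟩
  obtain ⟨π, hπ⟩ := std_trivial.2 Γ _ hst
  rw [← hk, Subgroup.eq_bot_iff_forall]
  intro x hx
  obtain ⟨u, hu⟩ := hπ ⟨x, hx⟩
  have h1 : u = 1 := Subsingleton.elim _ _
  rw [h1, map_one] at hu
  exact (congrArg Subtype.val hu).symm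

end CfsgLib.Sporadic.MTwentyThreeMult
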