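import Cfsg.Agent.Lib.Sporadic.MathieuTwentyThreeExtModules
import Cfsg.Agent.Lib.Sporadic.MathieuTwentyThreeExtTable
import Cfsg.Agent.Lib.Sporadic.MathieuTwentyThreeExtCode
import Cfsg.Agent.Lib.Sporadic.MathieuTwentyThreeMultiplier

/-! Kernel checks of a certificate on extensions of M23. -/

set_option autoImplicit false
set_option maxRecDepth 100000

namespace CfsgLib.Sporadic.MTwentyThreeExt.Code

open CfsgLib.Sporadic.ExtSplit CfsgLib.Sporadic.Mult

noncomputable def ext : Ext := ⟨128, 3, Tbl.next, Tbl.word, Tbl.tree, Tbl.rels, rv, ai, defect, Tbl.steps⟩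

noncomputable def cert : Cert :=
  ⟨ext, Tbl.gens, Tbl.invs, gs, conjs.map fun c => ⟨c.1, c.2.1, c.2.2.1, c.2.2.2⟩, cocEqs, stabEqs, lam,
    cbits, xs, sel⟩

theorem tableOK : cert.D.tab.ok = true := by decide +kernel

theorem extOK : cert.D.ok = true := by decide +kernel

theorem shapeOK : cert.shapeOK = true := by decide +kernel

theorem cocOK : cert.cocOK = true := by decide +kernel

theorem stabOK : cert.stabOK = true := by decide +kernel

theorem lastOK : cert.lastOK = true := by decide +kernel

theorem permOK : cert.permOK (good MTwentyThreeMult.member) okCode = true := by decide +kernel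

theorem checks : Checks MTwentyThreeMult.member cert okCode :=
  ⟨tableOK, extOK, shapeOK, cocOK, stabOK, lastOK, permOK⟩

end CfsgLib.Sporadic.MTwentyThreeExt.Code
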