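import Cfsg.Agent.Lib.Sporadic.ExtensionCert
import Cfsg.Agent.Lib.Sporadic.SporMathieu
import Cfsg.Prelude.Def_Sporadic

/-!
# The code module and the cocode module of M23

A code word vanishing at `none` is determined by its values at the points `0, …, 10`; pairing with
the corresponding basis of those words gives coordinates on the cocode.
-/

set_option autoImplicit false
set_option maxRecDepth 20000

namespace CfsgLib.Sporadic.MTwentyThreeExt

open Cfsg CfsgLib.Sporadic.Mult CfsgLib.Sporadic.ExtSplit Matrix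
open scoped Pointwise

/-- The basis of the code words vanishing at `none`. -/
def bList : List ℕ :=
  [2422785, 4845570, 3610628, 7221256, 7903248, 5621792, 1009728, 2019456, 4038912, 8077824, 5405696]

/-- The coefficients of the points in that basis. -/
def colList : List ℕ :=
  [1, 2, 4, 8, 16, 32, 64, 128, 256, 512, 1024, 1141, 1183, 1355, 1763, 435, 870, 1740, 493, 986, 1972, 797, 1594, 0]

def bm (l : ℕ) : ℕ := bList.getD l 0

def colM (q : ℕ) : ℕ := colList.getD q 0

theorem bm_bit : ∀ l : Fin 11, ∀ x : GolayPt, (bm l).testBit (ix x) = (colM (ix x)).testBit l.val := by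
  decide +kernel

theorem col_delta : ∀ l j : Fin 11, (colM l.val).testBit j.val = decide (l = j) := by
  decide +kernel

theorem bm_code : ∀ l : Fin 11, inCode (bm l) = true ∧ (bm l).testBit 23 = false := by
  decide +kernel

/-- The combination of basis words with the given low bits. -/
noncomputable def comb (m n : ℕ) : ℕ :=
  Nat.rec 0 (fun l acc => acc ^^^ cond (m.testBit l) (bm l) 0) n

theorem decompose : forallLt 4096 (fun k => (enc k).testBit 23 || Nat.beq (comb (enc k) 11) (enc k)) = true := by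
  decide +kernel

theorem wordOf_mem {m : ℕ} (h : inCode m = true) : wordOf m ∈ golayCode := by
  obtain ⟨k, -, rfl⟩ := inCode_iff.1 h
  exact enc_mem_aux k 12 le_rfl

theorem exists_enc {w : GolayPt → ZMod 2} (h : w ∈ golayCode) : ∃ k < 4096, wordOf (enc k) = w := by
  obtain ⟨k, hk, hek⟩ := inCode_iff.1 (mem_golayCode.1 h)
  exact ⟨k, hk, by rw [hek, wordOf_maskOf]⟩

theorem wordOf_apply (m : ℕ) (x : GolayPt) : wordOf m x = bz (m.testBit (ix x)) := by
  unfold wordOf
  cases m.testBit (ix x) <;> rfl

theorem code_decompose {w : GolayPt → ZMod 2} (hw : w ∈ golayCode) (h0 : w none = 0) (x : GolayPt) :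
    w x = ∑ l : Fin 11, bz ((colM (ix x)).testBit l.val) * w (pt l.val) := by
  obtain ⟨k, hk, rfl⟩ := exists_enc hw
  have hd := forallLt_elim decompose hk
  have h23 : (enc k).testBit 23 = false := by
    rw [wordOf_apply] at h0
    cases hb : (enc k).testBit 23
    · rfl
    · exact absurd ((congrArg bz hb).symm.trans h0) (by decide)
  rw [h23, Bool.false_or] at hd
  have key : ∀ n ≤ 11, wordOf (comb (enc k) n) x =
      ∑ l ∈ Finset.range n, bz ((colM (ix x)).testBit l) * wordOf (enc k) (pt l) := by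
    intro n hn
    induction n with
    | zero => rw [show comb (enc k) 0 = 0 from rfl, wordOf_zero]; simp
    | succ n ih =>
      rw [Finset.sum_range_succ, ← ih (by omega)]
      show wordOf (comb (enc k) n ^^^ cond _ _ _) x = _
      rw [wordOf_xor, Pi.add_apply, wordOf_apply (enc k), ix_pt (by omega)]
      congr 1
      rw [wordOf_apply]
      cases (enc k).testBit n
      · rw [cond_false, Nat.zero_testBit, show bz false = 0 from rfl, mul_zero]
      · rw [cond_true, show bz true = 1 from rfl, mul_one, bm_bit ⟨n, by omega⟩ x]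
  have := key 11 le_rfl
  rw [Nat.eq_of_beq_eq_true hd] at this
  rw [this, Finset.sum_range fun l => bz ((colM (ix x)).testBit l) * wordOf (enc k) (pt l)]

/-- The pairing with the basis words. -/
noncomputable def dot (j : ℕ) (w : GolayPt → ZMod 2) : ZMod 2 := ∑ x, bz ((bm j).testBit (ix x)) * w x

theorem dot_add (j : ℕ) (v w : GolayPt → ZMod 2) : dot j (v + w) = dot j v + dot j w := by
  rw [dot, dot, dot, ← Finset.sum_add_distrib]
  exact Finset.sum_congr rfl fun x _ => by rw [Pi.add_apply, mul_add]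

theorem dot_single (j : ℕ) (x : GolayPt) : dot j (Pi.single x 1) = bz ((bm j).testBit (ix x)) := by
  rw [dot, Finset.sum_eq_single x]
  · rw [Pi.single_eq_same, mul_one]
  · intro y _ hy; rw [Pi.single_eq_of_ne hy, mul_zero]
  · exact fun h => absurd (Finset.mem_univ x) h

theorem dot_basis : ∀ j : Fin 11, ∀ i : Fin 12, dot j (wordOf (basisMask i)) = 0 := by
  unfold dot
  decide +kernel

theorem dot_zero (j : ℕ) : dot j 0 = 0 := Finset.sum_eq_zero fun x _ => mul_zero _

theorem dot_code (j : Fin 11) {w : GolayPt → ZMod 2} (hw : w ∈ golayCode) : dot j w = 0 := by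
  obtain ⟨k, -, rfl⟩ := exists_enc hw
  unfold enc
  have key : ∀ n ≤ 12, dot j (wordOf (xorComb basisMask k n)) = 0 := by
    intro n hn
    induction n with
    | zero => rw [show xorComb basisMask k 0 = 0 from rfl, wordOf_zero, dot_zero]
    | succ n ih =>
      rw [xorComb_succ, wordOf_xor, dot_add, ih (by omega), zero_add, bitAt_eq]
      split
      · rw [one_mul]; exact dot_basis j ⟨n, by omega⟩
      · rw [zero_mul, wordOf_zero, dot_zero]
  exact key 12 le_rfl

/-- Parity of the common bits. -/
noncomputable def cbit (a b : ℕ) : Bool :=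
  Nat.rec false (fun i acc => acc ^^ (a.testBit i && b.testBit i)) 24

theorem dot_wordOf (j m : ℕ) : dot j (wordOf m) = bz (cbit (bm j) m) := by
  have key : ∀ n, ∑ i ∈ Finset.range n, bz ((bm j).testBit i) * bz (m.testBit i) =
      bz (Nat.rec false (fun i acc => acc ^^ ((bm j).testBit i && m.testBit i)) n) := by
    intro n
    induction n with
    | zero => rfl
    | succ n ih =>
      rw [Finset.sum_range_succ, ih]
      simp only []
      rw [ExtSplit.bz_xor]
      congr 1
      cases (bm j).testBit n <;> cases m.testBit n <;> rfl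
  rw [cbit, ← key 24, dot]
  refine Finset.sum_nbij' ix pt (fun x _ => Finset.mem_range.2 (ix_lt x)) (fun i _ => Finset.mem_univ _)
    (fun x _ => pt_ix x) (fun i hi => ix_pt (Finset.mem_range.1 hi)) fun x _ => ?_
  rw [wordOf_apply]

theorem orth_high : forallLt 4096 (fun s => (List.range 11).any (fun j => cbit (bm j) (s * 4096)) ||
    inCode (s * 4096) || inCode (s * 4096 ^^^ 8388608)) = true := by
  decide +kernel

theorem wordOf_none : wordOf 8388608 = Pi.single none 1 := by decide +kernel

theorem dot_none (j : Fin 11) : dot j (Pi.single none 1) = 0 := by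
  rw [dot_single, show ix none = 23 from rfl, (bm_code j).2]
  rfl

theorem add_add_cancel_word (w u : GolayPt → ZMod 2) : w + u + u = w := by
  funext x
  show w x + u x + u x = w x
  rw [add_assoc, CharTwo.add_self_eq_zero, add_zero]

theorem orth_cases {w : GolayPt → ZMod 2} (h : ∀ j : Fin 11, dot j w = 0) :
    w ∈ golayCode ∨ w + Pi.single none 1 ∈ golayCode := by
  have hlow : maskOf (support₂ w) &&& 4095 < 4096 := lt_of_le_of_lt Nat.and_le_right (by norm_num)
  set c := enc (maskOf (support₂ w) &&& 4095)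
  have hc : wordOf c ∈ golayCode := wordOf_mem (inCode_enc hlow)
  set v := maskOf (support₂ w) ^^^ c with hv
  have hw : w = wordOf v + wordOf c := by
    rw [hv, wordOf_xor, add_add_cancel_word, wordOf_maskOf]
  have hv0 : v % 4096 = 0 := by
    rw [hv, show (4096 : ℕ) = 2 ^ 12 from rfl, Nat.xor_mod_two_pow, ← Nat.and_two_pow_sub_one_eq_mod,
      ← Nat.and_two_pow_sub_one_eq_mod, show (2 : ℕ) ^ 12 - 1 = 4095 from rfl, enc_land hlow, Nat.xor_self]
  have hvlt : v < 2 ^ 24 := Nat.xor_lt_two_pow (maskOf_lt _) (enc_lt hlow)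
  obtain ⟨s, hs⟩ : ∃ s, v = s * 4096 := ⟨v / 4096, by omega⟩
  have hk := forallLt_elim orth_high (k := s) (by omega)
  simp only [Bool.or_eq_true, List.any_eq_true, List.mem_range] at hk
  rcases hk with (⟨j, hj, hb⟩ | hb) | hb
  · have := h ⟨j, hj⟩
    rw [hw, dot_add, dot_code _ hc, add_zero, dot_wordOf, hs, hb] at this
    exact absurd this (by decide)
  · left
    rw [hw, hs]
    exact golayCode.add_mem (wordOf_mem hb) hc
  · right
    rw [hw, hs, add_right_comm, ← wordOf_none, ← wordOf_xor]
    exact golayCode.add_mem (wordOf_mem hb) hc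

theorem comp_code {σ : Equiv.Perm GolayPt} (hσ : σ ∈ M24) {x : GolayPt → ZMod 2}
    (hx : x ∈ golayCode) : x ∘ ⇑σ.symm ∈ golayCode := by
  have hs : σ • support₂ x ∈ supports (golayCode : Set (GolayPt → ZMod 2)) := by
    have h : σ • supports (golayCode : Set (GolayPt → ZMod 2)) = supports (golayCode : Set (GolayPt → ZMod 2)) :=
      MulAction.mem_stabilizer_iff.1 hσ
    rw [← h]
    exact Set.smul_mem_smul_set ⟨x, hx, rfl⟩
  have e : support₂ (x ∘ ⇑σ.symm) = σ • support₂ x := by
    ext p
    rw [← Finset.inv_smul_mem_iff]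
    simp [support₂, Equiv.Perm.smul_def]
  rw [mem_golayCode, e]
  exact mem_supports_iff.1 hs

abbrev H23 : Subgroup ↥M24 := MulAction.stabilizer ↥M24 (none : GolayPt)

/-- The action on the code module. -/
noncomputable def actCode (g : ↥H23) : Matrix (Fin 11) (Fin 11) F2 :=
  Matrix.of fun j l => bz ((colM (ix (((g : ↥M24) : Equiv.Perm GolayPt).symm (pt j.val)))).testBit l.val)

/-- The action on the cocode module. -/
noncomputable def actCocode (g : ↥H23) : Matrix (Fin 11) (Fin 11) F2 :=
  Matrix.of fun j l => bz ((colM (ix (((g : ↥M24) : Equiv.Perm GolayPt) (pt l.val)))).testBit j.val)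

noncomputable def okCode (p : ℕ) (S : List ℕ) : Bool :=
  (List.range 24).all fun q => (List.range 11).all fun j => !(Nat.beq (pget p q) j) ||
    (List.range 11).all fun l => (S.getD l 0).testBit (256 * j) == (colM q).testBit l

noncomputable def okCocode (p : ℕ) (S : List ℕ) : Bool :=
  (List.range 11).all fun l => (List.range 11).all fun j =>
    (S.getD l 0).testBit (256 * j) == (colM (pget p l)).testBit j

theorem actCode_eq (g : ↥H23) (S : List ℕ) (h : okCode (pk g) S = true) : actCode g = mat S := by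
  funext j l
  set σ : Equiv.Perm GolayPt := ((g : ↥M24) : Equiv.Perm GolayPt)
  simp only [okCode, List.all_eq_true, List.mem_range, Bool.or_eq_true, Bool.not_eq_true', beq_iff_eq] at h
  have hq : pget (pk g) (ix (σ.symm (pt j.val))) = j.val := by
    rw [show pk g = packImage σ from rfl, rep_packImage σ, Equiv.apply_symm_apply, ix_pt (by omega)]
  rcases h _ (ix_lt (σ.symm (pt j.val))) j.val j.isLt with e | e
  · rw [hq] at e; simp at e
  · show bz _ = bz _
    rw [e l.val l.isLt]

theorem actCocode_eq (g : ↥H23) (S : List ℕ) (h : okCocode (pk g) S = true) : actCocode g = mat S := by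
  funext j l
  set σ : Equiv.Perm GolayPt := ((g : ↥M24) : Equiv.Perm GolayPt)
  simp only [okCocode, List.all_eq_true, List.mem_range, beq_iff_eq] at h
  have hq : pget (pk g) l.val = ix (σ (pt l.val)) := by
    have := rep_packImage σ (pt l.val)
    rwa [ix_pt (by omega)] at this
  show bz _ = bz _
  rw [h l.val l.isLt j.val j.isLt, hq]

variable {E : Type*} [Group E] (N : Subgroup E) [hN : N.Normal] (φ : E ⧸ N ≃* ↥Cfsg.Spor.M23)

/-- The projection. -/
noncomputable def proj : E →* ↥H23 :=
  sporM23Equiv.symm.toMonoidHom.comp (φ.toMonoidHom.comp (QuotientGroup.mk' N))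

theorem proj_coe (g : E) :
    (((proj N φ g : ↥H23) : ↥M24) : Equiv.Perm GolayPt) = ((φ (QuotientGroup.mk g) : ↥Cfsg.Spor.M23) : Equiv.Perm GolayPt) :=
  rfl

theorem proj_surj : Function.Surjective (proj N φ) :=
  sporM23Equiv.symm.surjective.comp (φ.surjective.comp (QuotientGroup.mk'_surjective N))

theorem proj_eq_one {g : E} : proj N φ g = 1 ↔ g ∈ N := by
  simp [proj]

theorem perm_mem (g : ↥H23) : ((g : ↥M24) : Equiv.Perm GolayPt) ∈ M24 := (g : ↥M24).2

theorem exists_chart_code (ψ : Additive ↥N →+ (GolayPt → ZMod 2)) (hinj : Function.Injective ψ)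
    (hrange : ∀ w : GolayPt → ZMod 2, w ∈ Set.range ψ ↔ (w ∈ golayCode ∧ w none = 0))
    (hψ : ∀ (g : E) (n : ↥N), ψ (Additive.ofMul ⟨g * n * g⁻¹, hN.conj_mem n n.2 g⟩)
        = ψ (Additive.ofMul n) ∘ ⇑(((φ (QuotientGroup.mk g) : ↥Cfsg.Spor.M23) : Equiv.Perm GolayPt)⁻¹)) :
    ∃ C : Chart E ↥H23, C.act = actCode ∧ C.σ = proj N φ := by
  classical
  let κ : E → Vec := fun m => if h : m ∈ N then fun j => ψ (Additive.ofMul ⟨m, h⟩) (pt j.val) else 0
  have hκ : ∀ m (h : m ∈ N), κ m = fun j => ψ (Additive.ofMul ⟨m, h⟩) (pt j.val) := fun m h => dif_pos h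
  refine ⟨⟨proj N φ, proj_surj N φ, actCode, κ, fun m n hm hn => ?_, fun m hm h0 => ?_, fun c => ?_,
    fun g m hm => ?_⟩, rfl, rfl⟩
  · rw [proj_eq_one] at hm hn
    rw [hκ _ hm, hκ _ hn, hκ _ (mul_mem hm hn)]
    funext j
    show ψ (Additive.ofMul (⟨m, hm⟩ * ⟨n, hn⟩ : ↥N)) _ = _
    rw [ofMul_mul, map_add]
    rfl
  · rw [proj_eq_one] at hm
    rw [hκ _ hm] at h0
    obtain ⟨hc, hnone⟩ := (hrange _).1 ⟨Additive.ofMul ⟨m, hm⟩, rfl⟩
    have hz : ψ (Additive.ofMul ⟨m, hm⟩) = 0 := by
      funext x
      rw [code_decompose hc hnone x, Pi.zero_apply]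
      exact Finset.sum_eq_zero fun l _ => by rw [congrFun h0 l]; exact mul_zero _
    have := hinj (hz.trans (map_zero ψ).symm)
    exact congrArg (fun a : Additive ↥N => ((Additive.toMul a : ↥N) : E)) this
  · let w : GolayPt → ZMod 2 := ∑ l : Fin 11, c l • wordOf (bm l)
    have hw : w ∈ golayCode ∧ w none = 0 := by
      refine ⟨golayCode.sum_mem fun l _ => golayCode.smul_mem _ (wordOf_mem (bm_code l).1), ?_⟩
      simp only [w]
      rw [Finset.sum_apply]
      refine Finset.sum_eq_zero fun l _ => ?_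
      rw [Pi.smul_apply, wordOf_apply, show ix none = 23 from rfl, (bm_code l).2]
      exact smul_zero _
    obtain ⟨a, ha⟩ := (hrange w).2 hw
    refine ⟨((Additive.toMul a : ↥N) : E), (proj_eq_one N φ).2 (Additive.toMul a).2, ?_⟩
    rw [hκ _ (Additive.toMul a).2]
    funext j
    show ψ a (pt j.val) = _
    rw [ha]
    simp only [w]
    rw [Finset.sum_apply, Finset.sum_eq_single j]
    · rw [Pi.smul_apply, wordOf_apply, bm_bit, ix_pt (by omega), col_delta, decide_eq_true rfl]
      exact mul_one _
    · intro l _ hl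
      rw [Pi.smul_apply, wordOf_apply, bm_bit, ix_pt (by omega), col_delta, decide_eq_false (Ne.symm hl)]
      exact smul_zero _
    · simp
  · rw [proj_eq_one] at hm
    rw [hκ _ hm, hκ _ (hN.conj_mem m hm g)]
    funext j
    obtain ⟨hc, hnone⟩ := (hrange _).1 ⟨Additive.ofMul ⟨m, hm⟩, rfl⟩
    show ψ (Additive.ofMul ⟨g * m * g⁻¹, hN.conj_mem (⟨m, hm⟩ : ↥N) hm g⟩) (pt j.val) = _
    rw [hψ g ⟨m, hm⟩, Function.comp_apply, code_decompose hc hnone, ← proj_coe]
    rfl

theorem exists_chart_cocode (θ : (GolayPt → ZMod 2) →+ Additive ↥N) (hsurj : Function.Surjective θ)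
    (hker : ∀ w : GolayPt → ZMod 2, θ w = 0 ↔ (w ∈ golayCode ∨ w + Pi.single none 1 ∈ golayCode))
    (hθ : ∀ (g : E) (w : GolayPt → ZMod 2),
      ((θ (w ∘ ⇑(((φ (QuotientGroup.mk g) : ↥Cfsg.Spor.M23) : Equiv.Perm GolayPt)⁻¹))).toMul : E)
        = g * ((θ w).toMul : E) * g⁻¹) :
    ∃ C : Chart E ↥H23, C.act = actCocode ∧ C.σ = proj N φ := by
  classical
  let κ : E → Vec := fun m => if h : m ∈ N then fun j => dot j.val (Function.surjInv hsurj (Additive.ofMul ⟨m, h⟩)) else 0
  have hw0 : ∀ w, θ w = 0 → ∀ j : Fin 11, dot j w = 0 := by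
    intro w hw j
    rcases (hker w).1 hw with h | h
    · exact dot_code j h
    · have := dot_code j h
      rwa [dot_add, dot_none, add_zero] at this
  have hκ : ∀ w, κ ((θ w).toMul : E) = fun j => dot j.val w := by
    intro w
    rw [show κ ((θ w).toMul : E) = _ from dif_pos (θ w).toMul.2]
    funext j
    set u := Function.surjInv hsurj (Additive.ofMul (⟨((θ w).toMul : E), (θ w).toMul.2⟩ : ↥N))
    have hu : θ u = θ w := Function.surjInv_eq hsurj _
    have h := hw0 (u + w) (by rw [map_add, hu, ← map_add, show w + w = 0 from funext fun x => CharTwo.add_self_eq_zero _, map_zero]) j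
    rw [dot_add] at h
    exact CharTwo.add_eq_zero.1 h
  have hall : ∀ m, proj N φ m = 1 → ∃ w, ((θ w).toMul : E) = m := by
    intro m hm
    obtain ⟨w, hw⟩ := hsurj (Additive.ofMul ⟨m, (proj_eq_one N φ).1 hm⟩)
    exact ⟨w, by rw [hw]; rfl⟩
  refine ⟨⟨proj N φ, proj_surj N φ, actCocode, κ, fun m n hm hn => ?_, fun m hm h0 => ?_, fun c => ?_,
    fun g m hm => ?_⟩, rfl, rfl⟩
  · obtain ⟨v, rfl⟩ := hall m hm
    obtain ⟨w, rfl⟩ := hall n hn
    rw [show ((θ v).toMul : E) * (θ w).toMul = ((θ (v + w)).toMul : E) by rw [map_add]; rfl, hκ, hκ, hκ]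
    funext j
    exact dot_add _ _ _
  · obtain ⟨w, rfl⟩ := hall m hm
    rw [hκ] at h0
    rw [(hker w).2 (orth_cases fun j => congrFun h0 j)]
    rfl
  · obtain ⟨v, hv⟩ : ∃ v : GolayPt → ZMod 2, v = ∑ l : Fin 11, Pi.single (pt l.val) (c l) := ⟨_, rfl⟩
    refine ⟨((θ v).toMul : E), (proj_eq_one N φ).2 (θ v).toMul.2, ?_⟩
    rw [hκ, hv]
    funext j
    have hsum : ∀ (s : Finset (Fin 11)), dot j.val (∑ l ∈ s, Pi.single (pt l.val) (c l)) =
        ∑ l ∈ s, if l = j then c l else 0 := by
      intro s
      induction s using Finset.induction_on with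
      | empty => rw [Finset.sum_empty, Finset.sum_empty, dot_zero]
      | insert a s ha ih =>
        rw [Finset.sum_insert ha, Finset.sum_insert ha, dot_add, ih]
        refine congrArg (· + _) ?_
        rcases (show ∀ x : ZMod 2, x = 0 ∨ x = 1 by decide) (c a) with e | e
        · rw [e, Pi.single_zero, dot_zero, ite_self]
        · rw [e, dot_single, bm_bit, ix_pt (by omega), col_delta]
          by_cases haj : a = j
          · rw [if_pos haj, decide_eq_true haj]; rfl
          · rw [if_neg haj, decide_eq_false haj]; rfl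
    rw [hsum, Finset.sum_ite_eq' Finset.univ j c, if_pos (Finset.mem_univ j)]
  · obtain ⟨w, rfl⟩ := hall m hm
    rw [← hθ g w, hκ, hκ]
    funext j
    set h := proj N φ g
    set σ : Equiv.Perm GolayPt := ((h : ↥M24) : Equiv.Perm GolayPt)
    have e1 : dot j.val (w ∘ ⇑σ.symm) = ∑ x, bz ((bm j).testBit (ix (σ x))) * w x := by
      rw [dot, ← Equiv.sum_comp σ]
      exact Finset.sum_congr rfl fun x _ => by rw [Function.comp_apply, Equiv.symm_apply_apply]
    have hmem : (fun x => bz ((bm j).testBit (ix (σ x)))) ∈ golayCode := by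
      have := comp_code (inv_mem (perm_mem h)) (wordOf_mem (bm_code j).1)
      convert this using 1
      funext x
      exact (wordOf_apply _ _).symm
    have hnone : bz ((bm j).testBit (ix (σ none))) = 0 := by
      rw [show σ none = none from h.2, show ix none = 23 from rfl, (bm_code j).2]; rfl
    show dot j.val (w ∘ ⇑σ.symm) = _
    rw [e1]
    show _ = ∑ l : Fin 11, bz ((colM (ix (σ (pt l.val)))).testBit j.val) * dot l.val w
    simp only [dot, Finset.mul_sum]
    rw [Finset.sum_comm]
    refine Finset.sum_congr rfl fun x _ => ?_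
    rw [show bz ((bm j).testBit (ix (σ x))) = _ from code_decompose hmem hnone x, Finset.sum_mul]
    refine Finset.sum_congr rfl fun l _ => ?_
    rw [bm_bit, bm_bit]
    ring

end CfsgLib.Sporadic.MTwentyThreeExt
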