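import Cfsg.Agent.Lib.Sporadic.ExtensionSum
import Cfsg.Agent.Lib.Sporadic.MathieuTwentyThreeExtCodeChecks
import Cfsg.Agent.Lib.Sporadic.MathieuTwentyThreeExtCocodeChecks

/-!
# Extensions of M23 by the code module and by the cocode module
-/

set_option autoImplicit false

namespace CfsgLib.Sporadic.MTwentyThreeExt

open Cfsg CfsgLib.Sporadic.Mult CfsgLib.Sporadic.ExtSplit

theorem card_facts : ¬ 2 ∣ Nat.card ↥H23 / 128 ∧ 128 ∣ Nat.card ↥H23 := by
  rw [card_stab_point]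
  norm_num

theorem ker_proj {E : Type*} [Group E] (N : Subgroup E) [N.Normal] (φ : E ⧸ N ≃* ↥Cfsg.Spor.M23) :
    (proj N φ).ker = N := by
  ext g
  rw [MonoidHom.mem_ker, proj_eq_one]

theorem code_split {E : Type*} [Group E] [Finite E] (N : Subgroup E) [hN : N.Normal]
    (φ : E ⧸ N ≃* ↥Cfsg.Spor.M23)
    (ψ : Additive ↥N →+ (GolayPt → ZMod 2)) (hinj : Function.Injective ψ)
    (hrange : ∀ w : GolayPt → ZMod 2, w ∈ Set.range ψ ↔ (w ∈ golayCode ∧ w none = 0))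
    (hψ : ∀ (g : E) (n : ↥N), ψ (Additive.ofMul ⟨g * n * g⁻¹, hN.conj_mem n n.2 g⟩)
        = ψ (Additive.ofMul n) ∘ ⇑(((φ (QuotientGroup.mk g) : ↥Cfsg.Spor.M23) : Equiv.Perm GolayPt)⁻¹)) :
    ∃ H : Subgroup E, H ⊓ N = ⊥ ∧ H ⊔ N = ⊤ := by
  obtain ⟨C, hA, hS⟩ := exists_chart_code N φ ψ hinj hrange hψ
  have hl : lamVal MTwentyThreeMult.member Code.cert C (Function.surjInv C.surj) = 0 :=
    val_zero _
  obtain ⟨Hc, h1, h2⟩ := split_of_lamVal (Function.surjInv_eq C.surj) (C := C)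
    (fun g S h => by rw [hA]; exact actCode_eq g S h) Code.checks hl card_facts.1 card_facts.2
  rw [hS, ker_proj] at h1 h2
  exact ⟨Hc, h1, h2⟩

theorem cocode_unique {E : Type*} [Group E] [Finite E] (N : Subgroup E) [hN : N.Normal]
    (φ : E ⧸ N ≃* ↥Cfsg.Spor.M23) (θ : (GolayPt → ZMod 2) →+ Additive ↥N)
    (hsurj : Function.Surjective θ)
    (hker : ∀ w : GolayPt → ZMod 2, θ w = 0 ↔ (w ∈ golayCode ∨ w + Pi.single none 1 ∈ golayCode))
    (hθ : ∀ (g : E) (w : GolayPt → ZMod 2),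
      ((θ (w ∘ ⇑(((φ (QuotientGroup.mk g) : ↥Cfsg.Spor.M23) : Equiv.Perm GolayPt)⁻¹))).toMul : E)
        = g * ((θ w).toMul : E) * g⁻¹)
    (hns : ∀ H : Subgroup E, H ⊓ N = ⊥ → H ⊔ N ≠ ⊤)
    {E' : Type*} [Group E'] [Finite E'] (N' : Subgroup E') [hN' : N'.Normal]
    (φ' : E' ⧸ N' ≃* ↥Cfsg.Spor.M23) (θ' : (GolayPt → ZMod 2) →+ Additive ↥N')
    (hsurj' : Function.Surjective θ')
    (hker' : ∀ w : GolayPt → ZMod 2, θ' w = 0 ↔ (w ∈ golayCode ∨ w + Pi.single none 1 ∈ golayCode))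
    (hθ' : ∀ (g : E') (w : GolayPt → ZMod 2),
      ((θ' (w ∘ ⇑(((φ' (QuotientGroup.mk g) : ↥Cfsg.Spor.M23) : Equiv.Perm GolayPt)⁻¹))).toMul : E')
        = g * ((θ' w).toMul : E') * g⁻¹)
    (hns' : ∀ H : Subgroup E', H ⊓ N' = ⊥ → H ⊔ N' ≠ ⊤) :
    Nonempty (E ≃* E') := by
  obtain ⟨C, hA, hS⟩ := exists_chart_cocode N φ θ hsurj hker hθ
  obtain ⟨C', hA', hS'⟩ := exists_chart_cocode N' φ' θ' hsurj' hker' hθ'
  have hnot : ∀ {v : F2}, v ≠ 0 → v = 1 := fun {v} hv => by revert hv v; decide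
  have h1 : lamVal MTwentyThreeMult.member Cocode.cert C (Function.surjInv C.surj) ≠ 0 := fun h => by
    obtain ⟨Hc, a, b⟩ := split_of_lamVal (Function.surjInv_eq C.surj) (C := C)
      (fun g S hh => by rw [hA]; exact actCocode_eq g S hh) Cocode.checks h card_facts.1 card_facts.2
    rw [hS, ker_proj] at a b
    exact hns Hc a b
  have h2 : lamVal MTwentyThreeMult.member Cocode.cert C' (Function.surjInv C'.surj) ≠ 0 := fun h => by
    obtain ⟨Hc, a, b⟩ := split_of_lamVal (Function.surjInv_eq C'.surj) (C := C')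
      (fun g S hh => by rw [hA']; exact actCocode_eq g S hh) Cocode.checks h card_facts.1 card_facts.2
    rw [hS', ker_proj] at a b
    exact hns' Hc a b
  exact nonempty_mulEquiv_of_lamVal Cocode.checks (fun g S hh => by rw [hA]; exact actCocode_eq g S hh)
    (hA'.trans hA.symm) card_facts.1 card_facts.2 (Function.surjInv_eq C.surj) (Function.surjInv_eq C'.surj)
    ((hnot h1).trans (hnot h2).symm)

end CfsgLib.Sporadic.MTwentyThreeExt
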