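import Cfsg.Agent.Lib.Sporadic.MathieuDefectZero
import Cfsg.Agent.Lib.Sporadic.MathieuTwo
import Cfsg.Agent.Lib.Sporadic.MathieuAut

/-!
# M22 has no subgroup of index 56 or 210

A subgroup of order 7920 contains a full normaliser of an element of order 11, hence an element `g` of
order 5 and its full normaliser; together these hold an element of order 7.
-/

set_option autoImplicit false

namespace CfsgLib.Sporadic.IndexTwoTwo

open Cfsg MulAction CfsgLib.Sporadic CfsgLib.Sporadic.MathieuAut
open scoped Pointwise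

/-- The two-point stabiliser. -/
abbrev M22pt : Subgroup ↥M24 :=
  stabilizer ↥M24 (none : GolayPt) ⊓ stabilizer ↥M24 (some 0 : GolayPt)

def px : ℕ := 980576354905211531308813159233951392
def pg : ℕ := 982812926502446542483375833753400352
def ph : ℕ := 967812240700945686818680590955612704

theorem pg_fixed : ∀ i < 24, pget pg i = i ↔ i ∈ [23, 0, 1, 17] := by decide +kernel

theorem card_M22pt : Nat.card ↥M22pt = 443520 := card_stab_two none (some 0) (by decide)

theorem exists_elt {p : ℕ} (h : (isAut p && Nat.beq (pget p 23) 23 && Nat.beq (pget p 0) 0) = true) :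
    ∃ u : ↥M22pt, Rep (((u : ↥M22pt) : ↥M24) : Equiv.Perm GolayPt) p := by
  simp only [Bool.and_eq_true, Nat.beq_eq] at h
  obtain ⟨u, hu⟩ := exists_M24_elt h.1.1
  exact ⟨⟨u, Subgroup.mem_inf.2 ⟨fixes_of_pget (i := 23) hu (by norm_num) h.1.2,
    fixes_of_pget (i := 0) hu (by norm_num) h.2⟩⟩, hu⟩

theorem fixes_two (u : ↥M22pt) : (u : ↥M24) • pt 23 = pt 23 ∧ (u : ↥M24) • pt 0 = pt 0 :=
  ⟨(Subgroup.mem_inf.1 u.2).1, (Subgroup.mem_inf.1 u.2).2⟩

theorem orderOf_coe' {q : ℕ} [Fact q.Prime] {u : ↥M22pt} {p : ℕ}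
    (hu : Rep (((u : ↥M22pt) : ↥M24) : Equiv.Perm GolayPt) p)
    (h : (Nat.beq (ppow p q) pone && ! Nat.beq (movedCount p) 0) = true) : orderOf u = q := by
  simp only [Bool.and_eq_true, Bool.not_eq_true'] at h
  refine orderOf_eq_prime (Subtype.ext ?_) fun e => ?_
  · rw [Subgroup.coe_pow]; exact pow_eq_one_of_ppow hu h.1
  · have h2 := h.2
    rw [← card_moved hu, e] at h2
    simp at h2

/-- An element commuting with `g` fixes its other two fixed points. -/
theorem fix_one {g : ↥M22pt} (hg : Rep (((g : ↥M22pt) : ↥M24) : Equiv.Perm GolayPt) pg)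
    {u : ↥M22pt} (hu : u * g = g * u) : (u : ↥M24) • pt 1 = pt 1 := by
  have h5 : Fact (Nat.Prime 5) := ⟨by norm_num⟩
  have hgo : orderOf (g : ↥M24) = 5 := by
    rw [Subgroup.orderOf_coe]; exact orderOf_coe' hg (by decide +kernel)
  have hfix : ∀ y, (g : ↥M24) • y = y ↔ y = pt 23 ∨ y = pt 0 ∨ y = pt 1 ∨ y = pt 17 := fun y => by
    rw [← ix_injective.eq_iff, show ix ((g : ↥M24) • y) = pget pg (ix y) from (hg y).symm,
      pg_fixed _ (ix_lt y)]
    have h : ∀ y : GolayPt, ix y ∈ [23, 0, 1, 17] ↔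
        y = pt 23 ∨ y = pt 0 ∨ y = pt 1 ∨ y = pt 17 := by decide +kernel
    exact h y
  have hperm : ∀ v : ↥M22pt, v * g = g * v →
      (v : ↥M24) • pt 1 = pt 1 ∨ (v : ↥M24) • pt 1 = pt 17 := fun v hv => by
    have e : (g : ↥M24) • ((v : ↥M24) • pt 1) = (v : ↥M24) • pt 1 := by
      rw [← mul_smul, show (g : ↥M24) * v = v * g from (congrArg Subtype.val hv).symm, mul_smul,
        (hfix _).2 (Or.inr (Or.inr (Or.inl rfl)))]
    rcases (hfix _).1 e with h | h | h | h
    · exact absurd ((smul_left_cancel (v : ↥M24)) (h.trans (fixes_two v).1.symm)) (by decide +kernel)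
    · exact absurd ((smul_left_cancel (v : ↥M24)) (h.trans (fixes_two v).2.symm)) (by decide +kernel)
    · exact Or.inl h
    · exact Or.inr h
  refine (hperm u hu).resolve_right fun h17 => ?_
  have hback : ∀ v : ↥M22pt, v * g = g * v → (v : ↥M24) • pt 17 = pt 1 ∨ (v : ↥M24) • pt 17 = pt 17 := by
    intro v hv
    have e : (g : ↥M24) • ((v : ↥M24) • pt 17) = (v : ↥M24) • pt 17 := by
      rw [← mul_smul, show (g : ↥M24) * v = v * g from (congrArg Subtype.val hv).symm, mul_smul,
        (hfix _).2 (Or.inr (Or.inr (Or.inr rfl)))]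
    rcases (hfix _).1 e with h | h | h | h
    · exact absurd ((smul_left_cancel (v : ↥M24)) (h.trans (fixes_two v).1.symm)) (by decide +kernel)
    · exact absurd ((smul_left_cancel (v : ↥M24)) (h.trans (fixes_two v).2.symm)) (by decide +kernel)
    · exact Or.inl h
    · exact Or.inr h
  -- the centraliser has no involution
  have hodd : ∀ v : ↥M22pt, v * g = g * v → orderOf v ≠ 2 := fun v hv hv2 => by
    have hvv : (v : ↥M24) * v = 1 := by
      have := pow_orderOf_eq_one v
      rw [hv2, pow_two] at this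
      exact congrArg Subtype.val this
    have hv1 : (v : ↥M24) ≠ 1 := fun e => by
      rw [show v = 1 from Subtype.ext e, orderOf_one] at hv2
      exact absurd hv2 (by norm_num)
    obtain ⟨o, ho, hoi⟩ := fixed_eq_octad hvv hv1 (fixes_two v).1
    have hinv : ∀ z ∈ o, (g : ↥M24) • z ∈ o := fun z hz => by
      rw [← hoi] at hz ⊢
      rw [← mul_smul, show (v : ↥M24) * g = g * v from congrArg Subtype.val hv, mul_smul, hz]
    have hm := fixed_modEq hgo o hinv
    rw [ho.2, Nat.ModEq] at hm
    have hiff : pt 1 ∈ o ↔ pt 17 ∈ o := by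
      rw [← hoi, ← hoi]
      constructor
      · intro h
        rcases hback v hv with h' | h'
        · exact absurd ((smul_left_cancel (v : ↥M24)) (h'.trans h.symm)) (by decide +kernel)
        · exact h'
      · intro h
        rcases hperm v hv with h' | h'
        · exact h'
        · exact absurd ((smul_left_cancel (v : ↥M24)) (h'.trans h.symm)) (by decide +kernel)
    by_cases h1 : pt 1 ∈ o
    · have e : o.filter (fun z => (g : ↥M24) • z = z) = {pt 23, pt 0, pt 1, pt 17} := by
        ext z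
        simp only [Finset.mem_filter, hfix, Finset.mem_insert, Finset.mem_singleton]
        refine ⟨fun h => h.2, fun h => ⟨?_, h⟩⟩
        rcases h with rfl | rfl | rfl | rfl
        exacts [(hoi _).1 (fixes_two v).1, (hoi _).1 (fixes_two v).2, h1, hiff.1 h1]
      rw [e, show ({pt 23, pt 0, pt 1, pt 17} : Finset GolayPt).card = 4 by decide +kernel] at hm
      omega
    · have e : o.filter (fun z => (g : ↥M24) • z = z) = {pt 23, pt 0} := by
        ext z
        simp only [Finset.mem_filter, hfix, Finset.mem_insert, Finset.mem_singleton]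
        constructor
        · rintro ⟨hz, rfl | rfl | rfl | rfl⟩
          exacts [Or.inl rfl, Or.inr rfl, absurd hz h1, absurd (hiff.2 hz) h1]
        · rintro (rfl | rfl)
          exacts [⟨(hoi _).1 (fixes_two v).1, Or.inl rfl⟩, ⟨(hoi _).1 (fixes_two v).2, Or.inr (Or.inl rfl)⟩]
      rw [e, show ({pt 23, pt 0} : Finset GolayPt).card = 2 by decide +kernel] at hm
      omega
  -- so the order of `u` is odd
  rcases Nat.even_or_odd (orderOf u) with ⟨m, hm⟩ | ⟨m, hm⟩
  · have hm0 : 0 < m := by have := orderOf_pos u; omega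
    refine hodd (u ^ m) ((show Commute u g from hu).pow_left m).eq ?_
    rw [orderOf_pow' u hm0.ne', hm, Nat.gcd_eq_right ⟨2, by ring⟩,
      show m + m = 2 * m by ring, Nat.mul_div_cancel _ hm0]
  · have h1 : (u : ↥M24) • pt 17 = pt 1 := by
      refine (hback u hu).resolve_right fun h => ?_
      exact absurd ((smul_left_cancel (u : ↥M24)) (h17.trans h.symm)) (by decide +kernel)
    have hsq : ((u : ↥M24) * u) • pt 1 = pt 1 := by rw [mul_smul, h17, h1]
    have hp : ∀ k, ((u : ↥M24) * u) ^ k • pt 1 = pt 1 := fun k => by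
      induction k with
      | zero => simp
      | succ k ih => rw [pow_succ, mul_smul, hsq, ih]
    have := pow_orderOf_eq_one (u : ↥M24)
    rw [Subgroup.orderOf_coe, hm, pow_succ', pow_mul, pow_two] at this
    have h2 := congrArg (fun z : ↥M24 => z • pt 1) this
    simp only [mul_smul, one_smul] at h2
    rw [hp, h17] at h2
    revert h2
    decide +kernel

theorem centralizer_g {g : ↥M22pt} (hg : Rep (((g : ↥M22pt) : ↥M24) : Equiv.Perm GolayPt) pg) :
    Nat.card (Subgroup.centralizer ({g} : Set ↥M22pt)) ≤ 20 := by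
  classical
  have hok : ∃ os, coverOK pg 5 9447495 os [1, 2, 23, 0] = true := ⟨(codeList 8).filter
    fun o => Nat.ble 5 (popc (Nat.land o 9447495)), by decide +kernel⟩
  obtain ⟨os, hok⟩ := hok
  have hs : ∀ j, j < 24 → (Nat.beq (pget pg j) j) = false →
      pt j ∈ Finset.univ.filter fun y : GolayPt => (g : ↥M24) • y ≠ y := fun j hj h => by
    rw [Finset.mem_filter]
    refine ⟨Finset.mem_univ _, fun e => ?_⟩
    have := hg (pt j)
    rw [ix_pt hj] at this
    rw [this, Bool.eq_false_iff, ne_eq, Nat.beq_eq] at h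
    exact h ((congrArg ix e).trans (ix_pt hj))
  refine (card_centralizer_le M22pt.subtype Subtype.coe_injective hg hok (r := 1) (f := 2) (fun j hj => ?_)
    (({pt 1} : Finset GolayPt) ×ˢ Finset.univ.filter fun y : GolayPt => (g : ↥M24) • y ≠ y)
    (fun u hu => Finset.mem_product.2 ⟨?_, ?_⟩)).trans ?_
  · simp only [List.mem_cons, List.not_mem_nil, or_false] at hj
    rcases hj with rfl | rfl | rfl | rfl
    · exact Or.inl rfl
    · exact Or.inr (Or.inl rfl)
    · exact Or.inr (Or.inr fun v => (fixes_two v).1)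
    · exact Or.inr (Or.inr fun v => (fixes_two v).2)
  · rw [Finset.mem_singleton]
    exact fix_one hg hu
  · rw [Finset.mem_filter]
    refine ⟨Finset.mem_univ _, fun e => ?_⟩
    have := hs 2 (by norm_num) (by decide +kernel)
    rw [Finset.mem_filter] at this
    refine this.2 (smul_left_cancel (u : ↥M24) ?_)
    rw [← mul_smul, show (u : ↥M24) * g = g * u from congrArg Subtype.val hu, mul_smul]
    exact e
  · rw [Finset.card_product, Finset.card_singleton, one_mul]
    exact le_of_eq ((card_moved hg).trans (by decide +kernel))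

/-- A subgroup holding the whole normaliser of `x` has order divisible by 7 if it has order 7920. -/
theorem false_of_card (H : Subgroup ↥M22pt) (hord : Nat.card H = 7920 ∨ Nat.card H = 2112) : False := by
  classical
  have h11 : Fact (Nat.Prime 11) := ⟨by norm_num⟩
  have h5 : Fact (Nat.Prime 5) := ⟨by norm_num⟩
  have h7 : Fact (Nat.Prime 7) := ⟨by norm_num⟩
  obtain ⟨x, hx⟩ := exists_elt (p := px) (by decide +kernel)
  obtain ⟨g, hg⟩ := exists_elt (p := pg) (by decide +kernel)
  obtain ⟨h, hh⟩ := exists_elt (p := ph) (by decide +kernel)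
  have ox : orderOf x = 11 := orderOf_coe' hx (by decide +kernel)
  have og : orderOf g = 5 := orderOf_coe' hg (by decide +kernel)
  have hgx : g * x * g⁻¹ = x ^ 3 := Subtype.ext (conj_of_pmul hg hx (by decide +kernel))
  have hhg : h * g * h⁻¹ = g ^ 2 := Subtype.ext (conj_of_pmul hh hg (by decide +kernel))
  -- a conjugate of `H` contains `x`
  obtain ⟨y, hy⟩ := exists_prime_orderOf_dvd_card' (G := ↥H) 11 (by
    rcases hord with h' | h' <;> rw [h'] <;> norm_num)
  have hcP : ∀ z : ↥M22pt, orderOf z = 11 → Nat.card (Subgroup.zpowers z) =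
      11 ^ (Nat.card ↥M22pt).factorization 11 := fun z hz => by
    rw [Nat.card_zpowers, hz, card_M22pt,
      show Nat.factorization 443520 11 = 1 by
        rw [show (443520 : ℕ) = 11 ^ 1 * 40320 from rfl, Nat.factorization_mul (by norm_num) (by norm_num),
          Finsupp.add_apply, Nat.factorization_pow, Finsupp.smul_apply,
          Nat.Prime.factorization_self (by norm_num), Nat.factorization_eq_zero_of_not_dvd (by norm_num)]
        rfl, pow_one]
  obtain ⟨c, hc⟩ := exists_smul_eq ↥M22pt (Sylow.ofCard _ (hcP (y : ↥M22pt) (by rw [Subgroup.orderOf_coe, hy])))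
    (Sylow.ofCard _ (hcP x ox))
  let K : Subgroup ↥M22pt := H.map (MulAut.conj c).toMonoidHom
  have hK : Nat.card K = Nat.card H := (Nat.card_congr (H.equivMapOfInjective _ (MulAut.conj c).injective).toEquiv).symm
  have hxK : x ∈ K := by
    have hm : x ∈ (c • Sylow.ofCard _ (hcP (y : ↥M22pt) (by rw [Subgroup.orderOf_coe, hy])) : Sylow 11 ↥M22pt) := by
      rw [hc]; exact Subgroup.mem_zpowers x
    rw [Sylow.smul_def] at hm
    obtain ⟨w, hw, e⟩ := hm
    exact ⟨w, (Subgroup.zpowers_le.2 y.2) hw, e⟩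
  -- normalisers inside `K`
  have key : ∀ (z : ↥K) (u : ↥M22pt) (k : ℕ), u * (z : ↥M22pt) * u⁻¹ = (z : ↥M22pt) ^ k →
      0 < k → k < orderOf z → (orderOf z).Prime →
      Nat.card (Subgroup.normalizer (Subgroup.zpowers (z : ↥M22pt) : Set ↥M22pt)) ≤
        Nat.card (Subgroup.normalizer (Subgroup.zpowers z : Set ↥K)) → u ∈ K := by
    intro z u k hu hk hk' hz hle
    let N := Subgroup.normalizer (Subgroup.zpowers (z : ↥M22pt) : Set ↥M22pt)
    let N' := (Subgroup.normalizer (Subgroup.zpowers z : Set ↥K)).map K.subtype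
    have hsub : N' ≤ N := by
      rintro _ ⟨v, hv, rfl⟩
      have e : Subgroup.zpowers (z : ↥M22pt) = (Subgroup.zpowers z).map K.subtype :=
        (MonoidHom.map_zpowers K.subtype z).symm
      show (v : ↥M22pt) ∈ N
      rw [Subgroup.mem_normalizer_iff, e]
      intro w
      constructor
      · rintro ⟨w', hw', rfl⟩
        exact ⟨v * w' * v⁻¹, (Subgroup.mem_normalizer_iff.1 hv w').1 hw', rfl⟩
      · rintro ⟨w', hw', e'⟩
        refine ⟨v⁻¹ * w' * v, (Subgroup.mem_normalizer_iff.1 hv _).2 (by simpa [mul_assoc] using hw'), ?_⟩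
        show (v : ↥M22pt)⁻¹ * (w' : ↥M22pt) * v = w
        rw [show (w' : ↥M22pt) = (v : ↥M22pt) * w * (v : ↥M22pt)⁻¹ from e']
        group
    have heq : N' = N := Subgroup.eq_of_le_of_card_ge hsub (hle.trans (le_of_eq
      (Nat.card_congr (Subgroup.equivMapOfInjective _ _ Subtype.coe_injective).toEquiv)))
    have hu' : u ∈ N := by
      have hmapeq : (Subgroup.zpowers (z : ↥M22pt)).map (MulAut.conj u).toMonoidHom =
          Subgroup.zpowers (z : ↥M22pt) := by
        refine Subgroup.eq_of_le_of_card_ge ?_ (le_of_eq (Nat.card_congr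
          (Subgroup.equivMapOfInjective _ _ (MulAut.conj u).injective).toEquiv))
        rw [MonoidHom.map_zpowers, Subgroup.zpowers_le]
        show u * _ * u⁻¹ ∈ _
        rw [hu]
        exact Subgroup.npow_mem_zpowers _ _
      rw [Subgroup.mem_normalizer_iff]
      intro w
      constructor
      · intro hw
        rw [← hmapeq]
        exact ⟨w, hw, rfl⟩
      · intro hw
        rw [← hmapeq] at hw
        obtain ⟨w', hw', e⟩ := hw
        rwa [show w = w' from (mul_left_cancel (mul_right_cancel e)).symm]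
    rw [← heq] at hu'
    obtain ⟨v, -, rfl⟩ := hu'
    exact v.2
  have oxK : orderOf (⟨x, hxK⟩ : ↥K) = 11 := by rw [← Subgroup.orderOf_coe]; exact ox
  have hCx : Nat.card (Subgroup.centralizer ({x} : Set ↥M22pt)) ≤ 24 := by
    have hok : coverOK px 11 16263287
        [4271202, 9968772, 10513600, 11046145, 11669008, 9178690, 12594948] [1, 23, 0] = true := by
      decide +kernel
    refine (card_centralizer_le M22pt.subtype Subtype.coe_injective hx hok (r := 1) (f := 1) (fun j hj => ?_)
      ((Finset.univ : Finset GolayPt).image fun y => (y, y))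
      (fun u _ => Finset.mem_image.2 ⟨_, Finset.mem_univ _, rfl⟩)).trans
      (Finset.card_image_le.trans card_univ_point.le)
    simp only [List.mem_cons, List.not_mem_nil, or_false] at hj
    rcases hj with rfl | rfl | rfl
    · exact Or.inl rfl
    · exact Or.inr (Or.inr fun v => (fixes_two v).1)
    · exact Or.inr (Or.inr fun v => (fixes_two v).2)
  have hcent : ∀ {z : ↥K} {m : ℕ}, Nat.card (Subgroup.centralizer ({(z : ↥M22pt)} : Set ↥M22pt)) ≤ m →
      Nat.card (Subgroup.centralizer ({z} : Set ↥K)) ≤ m := fun {z m} hm => le_trans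
    (Nat.card_le_card_of_injective (fun w => (⟨(w.1 : ↥M22pt), by
      rw [Subgroup.mem_centralizer_singleton_iff]
      exact congrArg Subtype.val (Subgroup.mem_centralizer_singleton_iff.1 w.2)⟩ :
        Subgroup.centralizer ({(z : ↥M22pt)} : Set ↥M22pt)))
      fun a b e => Subtype.ext (Subtype.ext (congrArg (fun w => (w.1 : ↥M22pt)) e))) hm
  obtain ⟨c1, k1, n1, a1, b1, d1, e1, hN1, hG1⟩ := exists_normalizer_factors ox
    (by rw [card_M22pt]; norm_num) hCx
  obtain ⟨c2, k2, n2, a2, b2, d2, e2, hN2, hG2⟩ := exists_normalizer_factors oxK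
    (by rw [hK]; rcases hord with h | h <;> rw [h] <;> norm_num) (hcent (z := ⟨x, hxK⟩) hCx)
  rw [card_M22pt] at hG1
  rw [hK] at hG2
  have hk1 : k1 ≤ 10 := Nat.le_of_dvd (by norm_num) d1
  have hk2 : k2 ≤ 10 := Nat.le_of_dvd (by norm_num) d2
  have hc1 : c1 ≤ 2 := by omega
  have hc2 : c2 ≤ 2 := by omega
  have hboth : c1 * k1 = 5 ∧ c2 * k2 = 5 ∧ Nat.card H = 7920 := by
    rcases hord with h | h <;> rw [h] at hG2 ⊢ <;>
      interval_cases c1 <;> interval_cases k1 <;> interval_cases c2 <;> interval_cases k2 <;> omega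
  obtain ⟨hck1, hck2, h79⟩ := hboth
  have hgK : g ∈ K := key ⟨x, hxK⟩ g 3 hgx (by norm_num) (by omega) (by rw [oxK]; norm_num) (by
    rw [hN1, hN2, Nat.mul_right_comm, hck1, Nat.mul_right_comm, hck2])
  have ogK : orderOf (⟨g, hgK⟩ : ↥K) = 5 := by rw [← Subgroup.orderOf_coe]; exact og
  obtain ⟨c3, k3, n3, a3, b3, d3, e3, hN3, hG3⟩ := exists_normalizer_factors og
    (by rw [card_M22pt]; norm_num) (centralizer_g hg)
  obtain ⟨c4, k4, n4, a4, b4, d4, e4, hN4, hG4⟩ := exists_normalizer_factors ogK
    (by rw [hK, h79]; norm_num) (hcent (z := ⟨g, hgK⟩) (centralizer_g hg))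
  rw [card_M22pt] at hG3
  rw [hK, h79] at hG4
  have hk3 : k3 ≤ 4 := Nat.le_of_dvd (by norm_num) d3
  have hk4 : k4 ≤ 4 := Nat.le_of_dvd (by norm_num) d4
  have hc3 : c3 ≤ 4 := by omega
  have hc4 : c4 ≤ 4 := by omega
  have hboth' : c3 * k3 = 4 ∧ c4 * k4 = 4 := by
    interval_cases c3 <;> interval_cases k3 <;> interval_cases c4 <;> interval_cases k4 <;> omega
  have hhK : h ∈ K := key ⟨g, hgK⟩ h 2 hhg (by norm_num) (by omega) (by rw [ogK]; norm_num) (by
    rw [hN3, hN4, Nat.mul_right_comm, hboth'.1, Nat.mul_right_comm, hboth'.2])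
  have o7 : orderOf (x * x * x * h) = 7 :=
    orderOf_coe' (p := pmul (pmul (pmul px px) px) ph) (((hx.mul hx).mul hx).mul hh) (by decide +kernel)
  have hdvd : 7 ∣ Nat.card K := o7 ▸ Subgroup.orderOf_dvd_natCard K (mul_mem (mul_mem (mul_mem hxK hxK) hxK) hhK)
  rw [hK, h79] at hdvd
  omega

end CfsgLib.Sporadic.IndexTwoTwo
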