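import Cfsg.Agent.Lib.Sporadic.MclOutPointStab

/-!
# Which orbit structures on 275 points are possible

A weighted search over orbit lengths `r` and constant weights `n`, given the number of points and
the first two moments of the weights.
-/

set_option autoImplicit false

namespace CfsgLib.Sporadic.MclOut

open MulAction

/-- Orbit lengths with their possible weights. -/
def items : List (ℕ × ℕ) :=
  lengths.flatMap fun r => ((List.range 23).filter fun n =>
    Nat.beq ((r * n) % 22) 0 && (! Nat.beq r 22 || Nat.ble 21 n)).map fun n => (r, n)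

/-- Can the totals be composed of the listed orbits? -/
def feas : List (ℕ × ℕ) → ℕ → ℕ → ℕ → Bool
  | [], R, A, B => Nat.beq R 0 && Nat.beq A 0 && Nat.beq B 0
  | (r, n) :: L, R, A, B => (List.range (R / r + 1)).any fun k =>
      Nat.ble (k * r) R && Nat.ble (k * r * n) A && Nat.ble (k * r * (n * n)) B &&
        feas L (R - k * r) (A - k * r * n) (B - k * r * (n * n))

theorem feas_twenty_two :
    feas (([231, 220, 192, 176, 154, 126, 77] : List ℕ).map fun r => (r, 0)) 275 0 0 = false := by
  decide +kernel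

theorem feas_items : (items.all fun p => Nat.beq (p.2 % 9) 6 || ! Nat.ble p.1 253 || ! Nat.ble (p.1 * p.2) 3102 ||
    ! Nat.ble (p.1 * (p.2 * p.2)) 42372 ||
      ! feas items (253 - p.1) (3102 - p.1 * p.2) (42372 - p.1 * (p.2 * p.2))) = true := by
  decide +kernel

theorem items_pos : ∀ p ∈ items, 0 < p.1 := by decide +kernel

variable {G α : Type*} [Group G] [MulAction G α] [Finite α] [DecidableEq α]

theorem mem_of_mem_orbit {S : Finset α} (hinv : ∀ (g : G), ∀ x ∈ S, g • x ∈ S) {a x : α} (ha : a ∈ S)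
    (hx : x ∈ MulAction.orbit G a) : x ∈ S := by
  obtain ⟨g, rfl⟩ := hx
  exact hinv g a ha

theorem diff_orbit_inv {S : Finset α} (hinv : ∀ (g : G), ∀ x ∈ S, g • x ∈ S) (a : α) :
    ∀ (g : G), ∀ x ∈ S \ (Set.toFinite (MulAction.orbit G a)).toFinset,
      g • x ∈ S \ (Set.toFinite (MulAction.orbit G a)).toFinset := by
  intro g x hx
  simp only [Finset.mem_sdiff, Set.Finite.mem_toFinset] at hx ⊢
  refine ⟨hinv g x hx.1, fun h => hx.2 ?_⟩
  rw [← orbit_eq_iff.2 h, orbit_smul]
  exact mem_orbit_self x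

theorem dvd_card_of_orbits {r : ℕ} (hr : 0 < r) :
    ∀ (N : ℕ) (S : Finset α), S.card ≤ N → (∀ (g : G), ∀ x ∈ S, g • x ∈ S) →
      (∀ x ∈ S, (MulAction.orbit G x).ncard = r) → r ∣ S.card := by
  intro N
  induction N with
  | zero => intro S hS _ _; rw [Nat.le_zero.1 hS]; exact dvd_zero r
  | succ N ih =>
    intro S hS hinv hsz
    rcases S.eq_empty_or_nonempty with rfl | ⟨a, ha⟩
    · simp
    set O := (Set.toFinite (MulAction.orbit G a)).toFinset with hO
    have hOS : O ⊆ S := fun x hx => mem_of_mem_orbit hinv ha ((Set.Finite.mem_toFinset _).1 hx)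
    have hOc : O.card = r := by
      rw [← hsz a ha, hO, ← Set.ncard_eq_toFinset_card _ (Set.toFinite _)]
    have hle := Finset.card_le_card hOS
    have h := ih (S \ O) (by rw [Finset.card_sdiff_of_subset hOS, hOc]; omega)
      (by rw [hO]; exact diff_orbit_inv hinv a)
      (fun x hx => hsz x (Finset.mem_sdiff.1 hx).1)
    rw [Finset.card_sdiff_of_subset hOS, hOc] at h
    have := Nat.dvd_add h (dvd_refl r)
    rwa [Nat.sub_add_cancel (hOc ▸ hle)] at this

/-- An invariant set with listed orbit types passes the search. -/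
theorem feas_of_invariant (w : α → ℕ) (hw : ∀ (g : G) x, w (g • x) = w x) :
    ∀ (L : List (ℕ × ℕ)), (∀ p ∈ L, 0 < p.1) → ∀ (S : Finset α), (∀ (g : G), ∀ x ∈ S, g • x ∈ S) →
      (∀ x ∈ S, ((MulAction.orbit G x).ncard, w x) ∈ L) →
      feas L S.card (∑ x ∈ S, w x) (∑ x ∈ S, w x * w x) = true := by
  intro L
  induction L with
  | nil =>
    intro _ S _ hmem
    have : S = ∅ := Finset.eq_empty_of_forall_notMem fun x hx => List.not_mem_nil (hmem x hx)
    subst this
    simp [feas]
  | cons p L ih =>
    obtain ⟨r, n⟩ := p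
    intro hpos S hinv hmem
    classical
    have hr : 0 < r := hpos (r, n) List.mem_cons_self
    let S₁ := S.filter fun x => (MulAction.orbit G x).ncard = r ∧ w x = n
    let S₂ := S.filter fun x => ¬ ((MulAction.orbit G x).ncard = r ∧ w x = n)
    have hiff : ∀ (g : G) x, ((MulAction.orbit G (g • x)).ncard = r ∧ w (g • x) = n) ↔
        ((MulAction.orbit G x).ncard = r ∧ w x = n) := fun g x => by rw [orbit_smul, hw]
    have hinv₁ : ∀ (g : G), ∀ x ∈ S₁, g • x ∈ S₁ := fun g x hx => by
      simp only [S₁, Finset.mem_filter] at hx ⊢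
      exact ⟨hinv g x hx.1, (hiff g x).2 hx.2⟩
    have hinv₂ : ∀ (g : G), ∀ x ∈ S₂, g • x ∈ S₂ := fun g x hx => by
      simp only [S₂, Finset.mem_filter] at hx ⊢
      exact ⟨hinv g x hx.1, fun h => hx.2 ((hiff g x).1 h)⟩
    obtain ⟨k, hk⟩ := dvd_card_of_orbits hr S₁.card S₁ le_rfl hinv₁ fun x hx => (Finset.mem_filter.1 hx).2.1
    have h2 := ih (fun p hp => hpos p (List.mem_cons_of_mem _ hp)) S₂ hinv₂ fun x hx => by
      obtain ⟨hxS, hne⟩ := Finset.mem_filter.1 hx
      rcases List.mem_cons.1 (hmem x hxS) with e | e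
      · exact absurd ⟨congrArg Prod.fst e, congrArg Prod.snd e⟩ hne
      · exact e
    have hsum₁ : ∀ f : ℕ → ℕ, ∑ x ∈ S₁, f (w x) = k * r * f n := fun f => by
      rw [Finset.sum_congr rfl fun x hx => congrArg f (Finset.mem_filter.1 hx).2.2, Finset.sum_const, smul_eq_mul,
        hk, Nat.mul_comm r k]
    have hc : S.card = k * r + S₂.card := by
      rw [Nat.mul_comm k r, ← hk]
      exact (Finset.card_filter_add_card_filter_not _).symm
    have hA : ∑ x ∈ S, w x = k * r * n + ∑ x ∈ S₂, w x := by
      rw [← show ∑ x ∈ S₁, w x = k * r * n from hsum₁ id]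
      exact (Finset.sum_filter_add_sum_filter_not S _ w).symm
    have hB : ∑ x ∈ S, w x * w x = k * r * (n * n) + ∑ x ∈ S₂, w x * w x := by
      rw [← show ∑ x ∈ S₁, w x * w x = k * r * (n * n) from hsum₁ fun i => i * i]
      exact (Finset.sum_filter_add_sum_filter_not S _ fun x => w x * w x).symm
    have hkle : k ≤ S.card / r := (Nat.le_div_iff_mul_le hr).2 (by omega)
    rw [feas, List.any_eq_true]
    refine ⟨k, List.mem_range.2 (Nat.lt_succ_of_le hkle), ?_⟩
    simp only [Bool.and_eq_true, Nat.ble_eq]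
    refine ⟨⟨⟨by omega, by omega⟩, by omega⟩, ?_⟩
    rw [show S.card - k * r = S₂.card by omega, show (∑ x ∈ S, w x) - k * r * n = ∑ x ∈ S₂, w x by omega,
      show (∑ x ∈ S, w x * w x) - k * r * (n * n) = ∑ x ∈ S₂, w x * w x by omega]
    exact h2

/-- The weights are forced modulo 9. -/
theorem weight_mod (w : α → ℕ) (hw : ∀ (g : G) x, w (g • x) = w x) (S : Finset α)
    (hinv : ∀ (g : G), ∀ x ∈ S, g • x ∈ S) (hmem : ∀ x ∈ S, ((MulAction.orbit G x).ncard, w x) ∈ items)
    (hc : S.card = 253) (hA : ∑ x ∈ S, w x = 3102) (hB : ∑ x ∈ S, w x * w x = 42372)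
    {a : α} (ha : a ∈ S) : w a % 9 = 6 := by
  set O := (Set.toFinite (MulAction.orbit G a)).toFinset with hO
  have hOS : O ⊆ S := fun x hx => mem_of_mem_orbit hinv ha ((Set.Finite.mem_toFinset _).1 hx)
  set r := (MulAction.orbit G a).ncard with hr
  have hOc : O.card = r := by rw [hr, hO, ← Set.ncard_eq_toFinset_card _ (Set.toFinite _)]
  have hconst : ∀ f : ℕ → ℕ, ∑ x ∈ O, f (w x) = r * f (w a) := fun f => by
    rw [Finset.sum_congr rfl (g := fun _ => f (w a)) fun x hx => by
      obtain ⟨g, rfl⟩ := (Set.Finite.mem_toFinset _).1 hx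
      exact congrArg f (hw g a), Finset.sum_const, smul_eq_mul, hOc]
  have h2 := feas_of_invariant w hw items items_pos (S \ O) (by rw [hO]; exact diff_orbit_inv hinv a)
    fun x hx => hmem x (Finset.mem_sdiff.1 hx).1
  have eA := Finset.sum_sdiff (f := w) hOS
  have eB := Finset.sum_sdiff (f := fun x => w x * w x) hOS
  rw [hA, show ∑ x ∈ O, w x = r * w a from hconst id] at eA
  rw [hB, show ∑ x ∈ O, w x * w x = r * (w a * w a) from hconst fun i => i * i] at eB
  have hle := Finset.card_le_card hOS
  rw [hOc, hc] at hle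
  rw [Finset.card_sdiff_of_subset hOS, hOc, hc, show ∑ x ∈ S \ O, w x = 3102 - r * w a by omega,
    show ∑ x ∈ S \ O, w x * w x = 42372 - r * (w a * w a) by omega] at h2
  have h := List.all_eq_true.1 feas_items _ (hmem a ha)
  simp only [← hr] at h
  rw [h2] at h
  simp only [Bool.or_eq_true, Bool.not_eq_true', Bool.eq_false_iff, ne_eq, Nat.beq_eq, Nat.ble_eq,
    Bool.not_true, Bool.false_eq_true, or_false] at h
  rcases h with ((h | h) | h) | h
  · exact h
  all_goals exact absurd (by omega) h

/-- Some orbit has length 22. -/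
theorem exists_orbit_twenty_two (hα : Nat.card α = 275)
    (hlen : ∀ x : α, (MulAction.orbit G x).ncard ∈ lengths) : ∃ a : α, (MulAction.orbit G a).ncard = 22 := by
  by_contra hcon
  push Not at hcon
  letI : Fintype α := Fintype.ofFinite α
  have h := feas_of_invariant (G := G) (fun _ : α => 0) (fun _ _ => rfl)
    (([231, 220, 192, 176, 154, 126, 77] : List ℕ).map fun r => (r, 0))
    (fun p hp => by simp at hp; rcases hp with rfl | rfl | rfl | rfl | rfl | rfl | rfl <;> norm_num)
    Finset.univ (fun g x _ => Finset.mem_univ _) (fun x _ => by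
      have h1 := hlen x
      have h2 := hcon x
      simp only [lengths, List.mem_cons, List.not_mem_nil, or_false] at h1
      simp only [List.map_cons, List.map_nil, List.mem_cons, List.not_mem_nil, or_false, Prod.mk.injEq, and_true]
      tauto)
  rw [Finset.card_univ, ← Nat.card_eq_fintype_card, hα, Finset.sum_const_zero] at h
  simp only [mul_zero, Finset.sum_const_zero] at h
  rw [feas_twenty_two] at h
  exact Bool.false_ne_true h

end CfsgLib.Sporadic.MclOut
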