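import Cfsg.Agent.Lib.Sporadic.HsOutPointStab
import Cfsg.Agent.Lib.Sporadic.MathieuTwoTwoAut

/-!
# The two-point stabiliser in M24 acting on at most 275 points

The orbit lengths up to 275, and the consequence that an action on 275 points without fixed points
has an orbit of length 22 on which the group is two-transitive.
-/

set_option autoImplicit false

namespace CfsgLib.Sporadic.MclOut

open Cfsg MulAction CfsgLib.Sporadic CfsgLib.Sporadic.IndexTwoTwo CfsgLib.Sporadic.MathieuAut
open scoped Pointwise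

theorem sub_sylow_count {G : Type*} [Group G] [Finite G] (H : Subgroup G) {q r : ℕ} [Fact q.Prime]
    (hG : Nat.card G = q * r) (hr : ¬ q ∣ r) (hH : q ∣ Nat.card H) :
    ∃ m : ℕ, Nat.card H = m * Nat.card (Sylow q ↥H) ∧ q ∣ m ∧ m * Nat.card (Sylow q G) ∣ Nat.card G ∧
      Nat.card (Sylow q ↥H) % q = 1 := by
  classical
  have hq := (Fact.out : q.Prime)
  obtain ⟨x, hx⟩ := exists_prime_orderOf_dvd_card' (G := ↥H) q hH
  have hq2 : ¬ q ^ 2 ∣ Nat.card G := fun h => hr (by
    rw [hG, pow_two] at h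
    exact Nat.dvd_of_mul_dvd_mul_left hq.pos h)
  have hfac : ∀ {K : Type _} [Group K] [Finite K], q ∣ Nat.card K → Nat.card K ∣ Nat.card G →
      (Nat.card K).factorization q = 1 := by
    intro K _ _ hd hdvd
    have h1 := hq.factorization_pos_of_dvd Nat.card_pos.ne' hd
    have h2 : (Nat.card K).factorization q < 2 := by
      by_contra hc
      exact hq2 (((pow_dvd_pow q (not_lt.1 hc)).trans (Nat.ordProj_dvd _ q)).trans hdvd)
    omega
  have hxG : orderOf (x : G) = q := by rw [Subgroup.orderOf_coe, hx]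
  let S : Sylow q G := Sylow.ofCard (Subgroup.zpowers (x : G)) (by
    rw [Nat.card_zpowers, hxG, hfac (K := G) (hH.trans (Subgroup.card_subgroup_dvd_card H)) dvd_rfl, pow_one])
  let SH : Sylow q ↥H := Sylow.ofCard (Subgroup.zpowers x) (by
    rw [Nat.card_zpowers, hx, hfac (K := ↥H) hH (Subgroup.card_subgroup_dvd_card H), pow_one])
  have hcountH : Nat.card (Sylow q ↥H) = (Subgroup.normalizer (Subgroup.zpowers x : Set ↥H)).index :=
    SH.card_eq_index_normalizer
  have hcountG : Nat.card (Sylow q G) = (Subgroup.normalizer (Subgroup.zpowers (x : G) : Set G)).index :=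
    S.card_eq_index_normalizer
  refine ⟨Nat.card (Subgroup.normalizer (Subgroup.zpowers x : Set ↥H)), ?_, ?_, ?_, ?_⟩
  · rw [hcountH, Subgroup.card_mul_index]
  · have h := Subgroup.orderOf_dvd_natCard (Subgroup.normalizer (Subgroup.zpowers x : Set ↥H))
      (Subgroup.le_normalizer (Subgroup.mem_zpowers x))
    rwa [hx] at h
  · rw [← (Subgroup.normalizer (Subgroup.zpowers (x : G) : Set G)).card_mul_index, hcountG]
    refine Nat.mul_dvd_mul_right ?_ _
    have hsub : (Subgroup.normalizer (Subgroup.zpowers x : Set ↥H)).map H.subtype ≤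
        Subgroup.normalizer (Subgroup.zpowers (x : G) : Set G) := by
      rintro _ ⟨v, hv, rfl⟩
      rw [Subgroup.mem_normalizer_iff, show Subgroup.zpowers (x : G) = (Subgroup.zpowers x).map H.subtype from
        (MonoidHom.map_zpowers H.subtype x).symm]
      intro w
      constructor
      · rintro ⟨w', hw', rfl⟩
        exact ⟨v * w' * v⁻¹, (Subgroup.mem_normalizer_iff.1 hv w').1 hw', rfl⟩
      · rintro ⟨w', hw', e'⟩
        refine ⟨v⁻¹ * w' * v, (Subgroup.mem_normalizer_iff.1 hv _).2 (by simpa [mul_assoc] using hw'), ?_⟩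
        show (v : G)⁻¹ * (w' : G) * v = w
        rw [show (w' : G) = (v : G) * w * (v : G)⁻¹ from e']
        group
    have h := Subgroup.card_dvd_of_le hsub
    rwa [Subgroup.card_map_of_injective H.subtype_injective] at h
  · have h := card_sylow_modEq_one q ↥H
    rwa [Nat.ModEq, Nat.mod_eq_of_lt hq.one_lt] at h

theorem sylow_count_five : Nat.card (Sylow 5 ↥M22pt) = 22176 := by
  classical
  have h5 : Fact (Nat.Prime 5) := ⟨by norm_num⟩
  obtain ⟨g, hg⟩ := exists_elt (p := IndexTwoTwo.pg) (by decide +kernel)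
  have og : orderOf g = 5 := orderOf_coe' hg (by decide +kernel)
  obtain ⟨c, k, n, hc, hc0, hk, hn, hN, hG⟩ := exists_normalizer_factors og
    (by rw [card_M22pt]; norm_num) (centralizer_g hg)
  rw [card_M22pt] at hG
  have hS : Nat.card (Subgroup.zpowers g) = 5 ^ (Nat.card ↥M22pt).factorization 5 := by
    rw [Nat.card_zpowers, og, card_M22pt,
      show Nat.factorization 443520 5 = 1 by
        rw [show (443520 : ℕ) = 5 ^ 1 * 88704 from rfl, Nat.factorization_mul (by norm_num) (by norm_num),
          Finsupp.add_apply, Nat.factorization_pow, Finsupp.smul_apply,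
          Nat.Prime.factorization_self (by norm_num), Nat.factorization_eq_zero_of_not_dvd (by norm_num)]
        rfl, pow_one]
  have hcount : Nat.card (Sylow 5 ↥M22pt) =
      (Subgroup.normalizer (Subgroup.zpowers g : Set ↥M22pt)).index :=
    (Sylow.ofCard _ hS).card_eq_index_normalizer
  have hmul := (Subgroup.normalizer (Subgroup.zpowers g : Set ↥M22pt)).card_mul_index
  rw [← hcount, hN, card_M22pt] at hmul
  have hk' : k ≤ 4 := Nat.le_of_dvd (by norm_num) hk
  have hc' : c ≤ 4 := by omega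
  interval_cases c <;> interval_cases k <;> omega

/-- The elements of prime order lie in different Sylow subgroups of that order. -/
theorem count_elements_le {H : Type*} [Group H] [Finite H] {p q : ℕ} [Fact p.Prime] [Fact q.Prime]
    (hpq : p ≠ q) (hp : ∀ P : Sylow p H, Nat.card P = p) (hq : ∀ Q : Sylow q H, Nat.card Q = q) :
    Nat.card (Sylow p H) * (p - 1) + Nat.card (Sylow q H) * (q - 1) ≤ Nat.card H := by
  classical
  let A := Σ P : Sylow p H, {x : ↥(P : Subgroup H) // x ≠ 1}
  let B := Σ Q : Sylow q H, {x : ↥(Q : Subgroup H) // x ≠ 1}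
  have hone : ∀ {r : ℕ} (K : Subgroup H), Nat.card K = r → Nat.card {x : ↥K // x ≠ 1} = r - 1 := by
    intro r K hK
    letI : Fintype ↥K := Fintype.ofFinite _
    rw [Nat.card_eq_fintype_card, Fintype.card_subtype_compl, Fintype.card_subtype_eq, ← Nat.card_eq_fintype_card,
      hK]
  have hA : Nat.card A = Nat.card (Sylow p H) * (p - 1) := by
    letI : Fintype (Sylow p H) := Fintype.ofFinite _
    rw [Nat.card_sigma, Finset.sum_congr rfl fun (P : Sylow p H) _ => hone (P : Subgroup H) (hp P),
      Finset.sum_const, smul_eq_mul, Finset.card_univ, Nat.card_eq_fintype_card]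
  have hB : Nat.card B = Nat.card (Sylow q H) * (q - 1) := by
    letI : Fintype (Sylow q H) := Fintype.ofFinite _
    rw [Nat.card_sigma, Finset.sum_congr rfl fun (P : Sylow q H) _ => hone (P : Subgroup H) (hq P),
      Finset.sum_const, smul_eq_mul, Finset.card_univ, Nat.card_eq_fintype_card]
  have hord : ∀ {r : ℕ} [Fact r.Prime] (P : Sylow r H), Nat.card P = r → ∀ x : ↥(P : Subgroup H), x ≠ 1 →
      Subgroup.zpowers (x : H) = (P : Subgroup H) ∧ orderOf (x : H) = r := by
    intro r _ P hP x hx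
    have ho : orderOf (x : H) = r := by
      have hd : orderOf (x : H) ∣ r := by
        have := Subgroup.orderOf_dvd_natCard (P : Subgroup H) x.2
        rwa [hP] at this
      rcases (Nat.dvd_prime Fact.out).1 hd with h | h
      · exact absurd (Subtype.ext (orderOf_eq_one_iff.1 h)) hx
      · exact h
    refine ⟨Subgroup.eq_of_le_of_card_ge (Subgroup.zpowers_le.2 x.2) ?_, ho⟩
    rw [Nat.card_zpowers, ho]
    exact le_of_eq hP
  let f : A ⊕ B → H := Sum.elim (fun a => (a.2.1 : H)) fun b => (b.2.1 : H)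
  have hinj : Function.Injective f := by
    rintro (⟨P, x, hx⟩ | ⟨P, x, hx⟩) (⟨Q, y, hy⟩ | ⟨Q, y, hy⟩) h <;> simp only [f, Sum.elim_inl, Sum.elim_inr] at h
    · obtain rfl : P = Q := Sylow.ext (by rw [← (hord P (hp P) x hx).1, ← (hord Q (hp Q) y hy).1, h])
      obtain rfl : x = y := Subtype.ext h
      rfl
    · exact absurd ((hord P (hp P) x hx).2.symm.trans (h ▸ (hord Q (hq Q) y hy).2)) hpq
    · exact absurd ((hord Q (hp Q) y hy).2.symm.trans (h ▸ (hord P (hq P) x hx).2)) hpq
    · obtain rfl : P = Q := Sylow.ext (by rw [← (hord P (hq P) x hx).1, ← (hord Q (hq Q) y hy).1, h])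
      obtain rfl : x = y := Subtype.ext h
      rfl
  rw [← hA, ← hB, ← Nat.card_sum]
  exact Nat.card_le_card_of_injective f hinj

theorem false_of_card_6720 (H : Subgroup ↥M22pt) (hH : Nat.card H = 6720) : False := by
  classical
  have : Fact (Nat.Prime 5) := ⟨by norm_num⟩
  have : Fact (Nat.Prime 7) := ⟨by norm_num⟩
  obtain ⟨m, hm, hm7, hmd, hn⟩ := sub_sylow_count H (q := 7) (r := 63360) (by rw [card_M22pt]) (by norm_num)
    (by rw [hH]; norm_num)
  obtain ⟨l, hl, hl5, hld, hl1⟩ := sub_sylow_count H (q := 5) (r := 88704) (by rw [card_M22pt]) (by norm_num)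
    (by rw [hH]; norm_num)
  rw [HsOut.sylow_count_seven, card_M22pt] at hmd
  rw [sylow_count_five, card_M22pt] at hld
  have hm21 : m ∣ 21 := Nat.dvd_of_mul_dvd_mul_right (by norm_num : 0 < 21120) (by simpa using hmd)
  have hl20 : l ∣ 20 := Nat.dvd_of_mul_dvd_mul_right (by norm_num : 0 < 22176) (by simpa using hld)
  rw [hH] at hm hl
  have hcard : ∀ (r : ℕ) [Fact r.Prime] (c : ℕ), 6720 = r * c → ¬ r ∣ c → ∀ P : Sylow r ↥H, Nat.card P = r := by
    intro r hr c hc hnd P
    rw [P.card_eq_multiplicity, hH, hc, Nat.factorization_mul hr.out.ne_zero (fun e => hnd (by rw [e]; exact dvd_zero r)),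
      Finsupp.add_apply, Nat.Prime.factorization_self hr.out, Nat.factorization_eq_zero_of_not_dvd hnd, pow_one]
  have hle := count_elements_le (H := ↥H) (p := 7) (q := 5) (by norm_num)
    (hcard 7 960 (by norm_num) (by norm_num)) (hcard 5 1344 (by norm_num) (by norm_num))
  rw [hH] at hle
  have h1 : m ≤ 21 := Nat.le_of_dvd (by norm_num) hm21
  have h2 : l ≤ 20 := Nat.le_of_dvd (by norm_num) hl20
  have hm0 : 0 < m := Nat.pos_of_dvd_of_pos hm21 (by norm_num)
  have hl0 : 0 < l := Nat.pos_of_dvd_of_pos hl20 (by norm_num)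
  obtain ⟨a, rfl⟩ := hm7
  obtain ⟨b, rfl⟩ := hl5
  have ha : a ≤ 3 := by omega
  have hb : b ≤ 4 := by omega
  interval_cases a <;> interval_cases b <;> omega

/-- The lengths of orbits, apart from fixed points. -/
def lengths : List ℕ := [231, 220, 192, 176, 154, 126, 77, 22]

/-- The numerical test for a divisibility condition. -/
def sylTest (o q : ℕ) (ms : List ℕ) : Bool :=
  ! Nat.beq (o % q) 0 || ms.any fun m => Nat.beq (o % m) 0 && Nat.beq ((o / m) % q) 1

theorem index_table : ∀ d < 276, (Nat.beq d 0 || ! Nat.beq (443520 % d) 0 ||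
    ! sylTest (443520 / d) 11 [11, 55] || ! sylTest (443520 / d) 7 [7, 21] ||
    Nat.beq d 1 || Nat.beq d 56 || Nat.beq d 66 || lengths.contains d) = true := by
  decide +kernel

theorem index_le (H : Subgroup ↥M22pt) (h : H.index ≤ 275) : H.index = 1 ∨ H.index ∈ lengths := by
  classical
  have : Fact (Nat.Prime 11) := ⟨by norm_num⟩
  have : Fact (Nat.Prime 7) := ⟨by norm_num⟩
  have hmul := H.card_mul_index
  rw [card_M22pt] at hmul
  have hd0 : H.index ≠ 0 := fun e => by simp [e] at hmul
  have hcardH : 443520 / H.index = Nat.card H := by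
    rw [← hmul, Nat.mul_div_cancel _ (Nat.pos_of_ne_zero hd0)]
  have hsyl : ∀ (q r N a : ℕ) [Fact q.Prime], 443520 = q * r → ¬ q ∣ r → Nat.card (Sylow q ↥M22pt) = N →
      a * N = 443520 → 0 < N → ∀ ms : List ℕ, (∀ m < a + 1, m ∣ a → q ∣ m → m ∈ ms) → 0 < a →
      sylTest (443520 / H.index) q ms = true := by
    intro q r N a _ hqr hr hN haN hN0 ms hms ha
    by_cases hd : q ∣ Nat.card H
    · obtain ⟨m, hm, hqm, hmd, hn⟩ := sub_sylow_count H (q := q) (r := r) (by rw [card_M22pt, hqr]) hr hd
      rw [hN, card_M22pt, ← haN] at hmd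
      have hma : m ∣ a := Nat.dvd_of_mul_dvd_mul_right hN0 hmd
      have hm0 : 0 < m := Nat.pos_of_dvd_of_pos hma ha
      simp only [sylTest, Bool.or_eq_true, List.any_eq_true, Bool.and_eq_true, Nat.beq_eq]
      refine Or.inr ⟨m, hms m (Nat.lt_succ_of_le (Nat.le_of_dvd ha hma)) hma hqm, ?_, ?_⟩
      · rw [hcardH, hm]; exact Nat.mul_mod_right m _
      · rw [hcardH, hm, Nat.mul_div_cancel_left _ hm0]; exact hn
    · simp only [sylTest, Bool.or_eq_true, Bool.not_eq_true', Bool.eq_false_iff, ne_eq, Nat.beq_eq]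
      exact Or.inl fun e => hd (Nat.dvd_of_mod_eq_zero (hcardH ▸ e))
  have t := index_table H.index (Nat.lt_succ_of_le h)
  rw [hsyl 11 40320 8064 55 (by norm_num) (by norm_num) HsOut.sylow_count_eleven (by norm_num) (by norm_num) _
      HsOut.dvd_fifty_five (by norm_num),
    hsyl 7 63360 21120 21 (by norm_num) (by norm_num) HsOut.sylow_count_seven (by norm_num) (by norm_num) _
      HsOut.dvd_twenty_one (by norm_num)] at t
  simp only [Bool.or_eq_true, Bool.not_eq_true', Bool.eq_false_iff, ne_eq, Nat.beq_eq,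
    List.contains_iff_mem, Bool.true_eq_false, not_true_eq_false, or_false] at t
  rcases t with (((((t | t) | t) | t) | t) | t)
  · exact absurd t hd0
  · exact absurd (by rw [← hmul]; exact Nat.mul_mod_left _ _) t
  · exact Or.inl t
  · exfalso
    rw [t] at hmul
    exact false_of_card H (Or.inl (by omega))
  · exfalso
    rw [t] at hmul
    exact false_of_card_6720 H (by omega)
  · exact Or.inr t

/-! ### the natural 22 points -/

/-- The points other than the two fixed ones. -/
def Pt22 : Type := {z : GolayPt // z ≠ none ∧ z ≠ some 0}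

theorem card_pt22 : Nat.card Pt22 = 22 := by
  show Nat.card {z : GolayPt // z ≠ none ∧ z ≠ some 0} = 22
  rw [Nat.card_eq_fintype_card]; decide

/-- An orbit of length 22 is the natural one. -/
theorem exists_natural {α : Type*} [Finite α] [MulAction ↥M22pt α] {a : α}
    (ha : (MulAction.orbit ↥M22pt a).ncard = 22) :
    ∃ o : Pt22 → α, Function.Injective o ∧ (∀ x ∈ MulAction.orbit ↥M22pt a, ∃ b, o b = x) ∧
      (∀ b, o b ∈ MulAction.orbit ↥M22pt a) ∧
      ∀ (u : ↥M22pt) (b b' : Pt22), u.1.1 b.1 = b'.1 → u • o b = o b' := by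
  classical
  haveI : Finite Pt22 := Nat.finite_of_card_ne_zero (by rw [card_pt22]; norm_num)
  have hidx : (stabilizer ↥M22pt a).index = 22 := by rw [index_stabilizer, ha]
  have hmul := (stabilizer ↥M22pt a).card_mul_index
  rw [hidx, card_M22pt] at hmul
  obtain ⟨b₀, hbn, hb0, hb⟩ := M22Aut.eq_stabilizer_of_card_M22 ((stabilizer ↥M22pt a).map M22pt.subtype)
    (Subgroup.map_subtype_le _) (by rw [Subgroup.card_map_of_injective M22pt.subtype_injective]; omega)
  let S : Subgroup ↥M22pt := (stabilizer ↥M24 b₀).comap M22pt.subtype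
  have hle : stabilizer ↥M22pt a ≤ S := fun u hu => hb ⟨u, hu, rfl⟩
  have htrans : ∀ b : Pt22, ∃ u : ↥M22pt, u.1.1 b₀ = b.1 := by
    intro b
    obtain ⟨g, hg⟩ := exists_map_list (xs := [none, some 0, b₀]) (ys := [none, some 0, b.1])
      (by simp [Ne.symm hbn, Ne.symm hb0]) (by simp [b.2.1.symm, b.2.2.symm]) rfl (by simp)
    simp only [List.map_cons, List.map_nil, List.cons.injEq, and_true] at hg
    exact ⟨⟨g, hg.1, hg.2.1⟩, hg.2.2⟩
  have heq : stabilizer ↥M22pt a = S := by
    refine Subgroup.eq_of_le_of_card_ge hle ?_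
    let F : ↥M22pt ⧸ S → Pt22 := Quotient.lift (fun u : ↥M22pt => (⟨u.1.1 b₀,
        fun e => hbn (u.1.1.injective (e.trans (show u.1.1 none = none from u.2.1).symm)),
        fun e => hb0 (u.1.1.injective (e.trans (show u.1.1 (some 0) = some 0 from u.2.2).symm))⟩ : Pt22))
      fun u v h => Subtype.ext (by
        have h' := QuotientGroup.leftRel_apply.1 h
        show u.1.1 b₀ = v.1.1 b₀
        have e : (u.1⁻¹ * v.1) • b₀ = b₀ := h'
        rw [mul_smul, inv_smul_eq_iff] at e
        exact e.symm)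
    have hsurj : Function.Surjective F := fun b => by
      obtain ⟨u, hu⟩ := htrans b
      exact ⟨QuotientGroup.mk u, Subtype.ext hu⟩
    have h22 := Nat.card_le_card_of_surjective F hsurj
    rw [card_pt22, ← Subgroup.index_eq_card] at h22
    have hmS := S.card_mul_index
    rw [card_M22pt] at hmS
    have : Nat.card S * 22 ≤ 443520 := hmS ▸ Nat.mul_le_mul_left _ h22
    omega
  choose t ht using htrans
  have key : ∀ (u v : ↥M22pt), u.1.1 b₀ = v.1.1 b₀ → u • a = v • a := by
    intro u v h
    have hm : v⁻¹ * u ∈ stabilizer ↥M22pt a := by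
      rw [heq]
      show (v.1⁻¹ * u.1) • b₀ = b₀
      rw [mul_smul, show u.1 • b₀ = v.1 • b₀ from h, inv_smul_smul]
    have hm' : (v⁻¹ * u) • a = a := hm
    rwa [mul_smul, inv_smul_eq_iff] at hm'
  refine ⟨fun b => t b • a, fun b b' h => ?_, ?_, fun b => ⟨t b, rfl⟩, fun u b b' h => ?_⟩
  · have hm : (t b')⁻¹ * t b ∈ stabilizer ↥M22pt a := by
      show ((t b')⁻¹ * t b) • a = a
      rw [mul_smul, show t b • a = t b' • a from h, inv_smul_smul]
    rw [heq] at hm
    have hm' : ((t b').1⁻¹ * (t b).1) • b₀ = b₀ := hm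
    rw [mul_smul, inv_smul_eq_iff] at hm'
    exact Subtype.ext ((ht b).symm.trans (hm'.trans (ht b')))
  · rintro _ ⟨u, rfl⟩
    refine ⟨⟨u.1.1 b₀, fun e => hbn (u.1.1.injective (e.trans (show u.1.1 none = none from u.2.1).symm)),
      fun e => hb0 (u.1.1.injective (e.trans (show u.1.1 (some 0) = some 0 from u.2.2).symm))⟩, key _ _ (ht _)⟩
  · show u • t b • a = t b' • a
    rw [← mul_smul]
    refine key _ _ ?_
    show u.1.1 ((t b).1.1 b₀) = (t b').1.1 b₀
    rw [ht, ht, h]

/-- Two pairs of distinct points are moved to one another. -/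
theorem exists_map_pair {b c b' c' : Pt22} (h : b ≠ c) (h' : b' ≠ c') :
    ∃ u : ↥M22pt, u.1.1 b.1 = b'.1 ∧ u.1.1 c.1 = c'.1 := by
  obtain ⟨g, hg⟩ := exists_map_list (xs := [none, some 0, b.1, c.1]) (ys := [none, some 0, b'.1, c'.1])
    (by simp [b.2.1.symm, b.2.2.symm, c.2.1.symm, c.2.2.symm]; exact fun e => h (Subtype.ext e))
    (by simp [b'.2.1.symm, b'.2.2.symm, c'.2.1.symm, c'.2.2.symm]; exact fun e => h' (Subtype.ext e)) rfl (by simp)
  simp only [List.map_cons, List.map_nil, List.cons.injEq, and_true] at hg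
  exact ⟨⟨g, hg.1, hg.2.1⟩, hg.2.2.1, hg.2.2.2⟩

end CfsgLib.Sporadic.MclOut
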