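import Mathlib

/-!
# Two lemmas for proofs of simplicity by counting

A normal subgroup of order prime to `q` on whose prime power divisors reduction mod `q` is injective
is centralised by every element of order `q`; a nontrivial normal subgroup of a `p`-group meets the centre.
-/

set_option autoImplicit false

namespace CfsgLib.Sporadic

open scoped Pointwise

theorem centralised_of_injective_mod {G : Type*} [Group G] [Finite G] (N : Subgroup G) [N.Normal] (x : G)
    {q : ℕ} [hq : Fact q.Prime] (hx : orderOf x = q) (hN : ¬ q ∣ Nat.card N)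
    (hinj : ∀ p : ℕ, p.Prime → ∀ a b, p ^ a ∣ Nat.card N → p ^ b ∣ Nat.card N → p ^ a % q = p ^ b % q → a = b) :
    ∀ y ∈ N, Commute y x := by
  classical
  let C := Subgroup.zpowers x
  have hC : IsPGroup q C := IsPGroup.of_card (n := 1) (by rw [pow_one, Nat.card_zpowers, hx])
  letI : MulDistribMulAction C N :=
    MulDistribMulAction.compHom N ((MulAut.conjNormal (H := N)).comp C.subtype)
  let K : Subgroup N := (Subgroup.centralizer {x}).subgroupOf N
  have hall : ∀ p : ℕ, p.Prime → p ^ (Nat.card N).factorization p ∣ Nat.card K := by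
    intro p hp
    haveI := Fact.mk hp
    obtain ⟨P, hP⟩ := hC.nonempty_fixed_point_of_prime_not_dvd_card (Sylow p N) (fun h =>
      hN (h.trans ((Sylow.card_dvd_index (default : Sylow p N)).trans (Subgroup.index_dvd_card _))))
    letI : MulAction C (P : Subgroup N) :=
      { smul := fun c y => ⟨c • (y : N), by
          have h := congrArg (fun S : Sylow p N => (S : Subgroup N)) (hP c)
          rw [Sylow.pointwise_smul_def] at h
          have h2 := Subgroup.smul_mem_pointwise_smul (y : N) c (P : Subgroup N) y.2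
          rwa [h] at h2⟩
        one_smul := fun y => Subtype.ext (one_smul C (y : N))
        mul_smul := fun a c y => Subtype.ext (mul_smul a c (y : N)) }
    have hfix : ∀ y : (P : Subgroup N), y ∈ MulAction.fixedPoints C (P : Subgroup N) ↔ (y : N) ∈ K := by
      intro y
      rw [Subgroup.mem_subgroupOf, Subgroup.mem_centralizer_singleton_iff]
      constructor
      · intro h
        have h' : x * ((y : N) : G) * x⁻¹ = ((y : N) : G) :=
          congrArg (fun z : (P : Subgroup N) => ((z : N) : G)) (h ⟨x, Subgroup.mem_zpowers x⟩)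
        exact (mul_inv_eq_iff_eq_mul.1 h').symm
      · rintro h ⟨c, i, rfl⟩
        exact Subtype.ext (Subtype.ext (show x ^ i * ((y : N) : G) * (x ^ i)⁻¹ = ((y : N) : G) from
          mul_inv_eq_iff_eq_mul.2 ((show Commute x ((y : N) : G) from h.symm).zpow_left i).eq))
    have hcongr := hC.card_modEq_card_fixedPoints (P : Subgroup N)
    let L : Subgroup (P : Subgroup N) := K.subgroupOf (P : Subgroup N)
    have hL : Nat.card (MulAction.fixedPoints C (P : Subgroup N)) = Nat.card L :=
      Nat.card_congr (Equiv.subtypeEquivRight fun y => hfix y)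
    rw [hL, P.card_eq_multiplicity] at hcongr
    obtain ⟨b, hb, hb'⟩ := (Nat.dvd_prime_pow hp).1 (P.card_eq_multiplicity ▸ Subgroup.card_subgroup_dvd_card L)
    rw [hb'] at hcongr
    have hd : p ^ (Nat.card N).factorization p ∣ Nat.card N := Nat.ordProj_dvd _ _
    have := hinj p hp _ b hd ((pow_dvd_pow p hb).trans hd) hcongr
    have hLtop : L = ⊤ := Subgroup.eq_top_of_card_eq _ (by rw [hb', P.card_eq_multiplicity, this])
    rw [← P.card_eq_multiplicity]
    exact Subgroup.card_dvd_of_le fun z hz => by
      have : (⟨z, hz⟩ : (P : Subgroup N)) ∈ L := hLtop ▸ Subgroup.mem_top _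
      exact this
  have hK : K = ⊤ := by
    refine Subgroup.eq_top_of_card_eq _ (Nat.dvd_antisymm (Subgroup.card_subgroup_dvd_card K) ?_)
    rw [← Nat.factorization_le_iff_dvd Nat.card_pos.ne' Nat.card_pos.ne']
    intro p
    by_cases hp : p.Prime
    · exact (hp.pow_dvd_iff_le_factorization Nat.card_pos.ne').1 (hall p hp)
    · rw [Nat.factorization_eq_zero_of_not_prime _ hp]; exact Nat.zero_le _
  intro y hy
  have : (⟨y, hy⟩ : N) ∈ K := hK ▸ Subgroup.mem_top _
  rw [Subgroup.mem_subgroupOf, Subgroup.mem_centralizer_singleton_iff] at this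
  exact this

theorem exists_central_mem {P : Type*} [Group P] [Finite P] {p : ℕ} [Fact p.Prime] (hP : IsPGroup p P)
    (N : Subgroup P) [N.Normal] (hN : N ≠ ⊥) : ∃ z ∈ N, z ≠ 1 ∧ z ∈ Subgroup.center P := by
  letI : MulAction (ConjAct P) N := inferInstance
  have hdvd : p ∣ Nat.card N := by
    obtain ⟨k, hk⟩ := IsPGroup.iff_card.1 (hP.to_subgroup N)
    rcases Nat.eq_zero_or_pos k with rfl | h
    · exact absurd (Subgroup.card_eq_one.1 (by rw [hk, pow_zero])) hN
    · rw [hk]; exact dvd_pow_self p h.ne'
  have hP' : IsPGroup p (ConjAct P) := hP.of_equiv ConjAct.toConjAct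
  have h1 : (1 : N) ∈ MulAction.fixedPoints (ConjAct P) N := fun c => Subtype.ext (smul_one c)
  obtain ⟨b, hb, hb1⟩ := hP'.exists_fixed_point_of_prime_dvd_card_of_fixed_point N hdvd h1
  refine ⟨b, b.2, fun e => hb1 (Subtype.ext e.symm), Subgroup.mem_center_iff.2 fun g => ?_⟩
  have h : g * (b : P) * g⁻¹ = b := by
    have h2 := congrArg Subtype.val (hb (ConjAct.toConjAct g))
    rw [ConjAct.Subgroup.val_conj_smul, ConjAct.toConjAct_smul] at h2
    exact h2
  exact mul_inv_eq_iff_eq_mul.1 h

end CfsgLib.Sporadic
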