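import Cfsg.Agent.Lib.Sporadic.OctadStab
import Cfsg.Agent.Lib.Sporadic.OctadAffineData

/-!
# The octad stabiliser as the affine group outside the octad, inside `SL(5, 2)`

The sixteen points outside carry labels `(1, v)`; a stabilising element `g` has the matrix `M` with
`lab (g x) * M = lab x`.  This identifies the stabiliser with the matrices whose first column is `e₀`.
-/

set_option autoImplicit false

namespace CfsgLib.Sporadic.OctAff

open Cfsg MulAction CfsgLib.Sporadic
open scoped Pointwise

local notation "F₂" => ZMod 2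
local notation "SL₅" => Matrix.SpecialLinearGroup (Fin 5) (ZMod 2)

/-- The octad. -/
def octset : Finset GolayPt := setOfMask stdO

/-- The label of an index. -/
def labAt (i : ℕ) : Fin 5 → F₂ := fun j => if (labList.getD i 0).testBit j.val then 1 else 0

/-- The label of a point. -/
def lab (x : GolayPt) : Fin 5 → F₂ := labAt (ix x)

/-- The matrix coded by a number. -/
def matOf (c : ℕ) : Matrix (Fin 5) (Fin 5) F₂ :=
  Matrix.of fun i j => if c.testBit (5 * i.val + j.val) then 1 else 0

noncomputable def affB (p c : ℕ) : Bool :=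
  isAut p && Nat.beq (mimg p stdO) stdO && forallLt 24 fun i =>
    stdO.testBit i || decide (Matrix.vecMul (labAt (pget p i)) (matOf c) = labAt i)

theorem lab_zero : ∀ x : GolayPt, x ∉ octset → lab x 0 = 1 := by decide +kernel

theorem lab_inj : ∀ x : GolayPt, x ∉ octset → ∀ y : GolayPt, y ∉ octset → lab x = lab y → x = y := by
  decide +kernel

theorem lab_surj : ∀ v : Fin 5 → F₂, v 0 = 1 → ∃ x : GolayPt, x ∉ octset ∧ lab x = v := by
  decide +kernel

theorem mem_octset {x : GolayPt} : x ∈ octset ↔ stdO.testBit (ix x) = true := by simp [octset]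

theorem pt4_not_mem : pt 4 ∉ octset := by decide +kernel

theorem out_facts : pt 4 ∉ setOfMask 337856 ∧ ∀ x ∈ setOfMask 337856, x ∉ octset := by decide +kernel

theorem octset_mem : octset ∈ octads := stdO_mem

theorem octset_compl : maskOf octsetᶜ = 16777215 ^^^ stdO := by
  rw [maskOf_compl, octset, maskOf_setOfMask (by decide)]

theorem stab_of_mask {g : ↥M24} {p : ℕ} (hg : Rep (g : Equiv.Perm GolayPt) p) (h : mimg p stdO = stdO) :
    g ∈ stabilizer ↥M24 octset := mem_stab_mask hg h

theorem ext_of_fix {g h : ↥M24} (h1 : ∀ x ∈ octset, g • x = x) (h2 : ∀ x ∈ octset, h • x = x)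
    (e : g • pt 4 = h • pt 4) : g = h := Subtype.ext (octFix_ext g.2 h.2 h1 h2 e)

theorem lab_eq (x : GolayPt) : lab x = labAt (ix x) := rfl

theorem mem_stab_of_subset_aux (g : ↥M24) (h : ∀ x ∈ octset, g • x ∈ octset) :
    g ∈ stabilizer ↥M24 octset := by
  rw [mem_stabilizer_iff]
  refine Finset.eq_of_subset_of_card_le (fun y hy => ?_) (by rw [card_smul_set])
  obtain ⟨x, hx, rfl⟩ := Finset.mem_smul_finset.1 hy
  exact h x hx

attribute [irreducible] octset lab

theorem gens_check : affGens.all (fun q => affB q.1 q.2) = true := by decide +kernel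

theorem gens_ker : ((affGens.take 16).map Prod.fst).all (fun p => forallLt 24 fun i =>
      ! stdO.testBit i || Nat.beq (pget p i) i) = true ∧
    bitmap id (((affGens.take 16).map Prod.fst).map fun p => pget p 4) = Nat.xor 16777215 stdO := by
  decide +kernel

theorem gens_three : forallLt 24 (fun a => ! stdO.testBit a || forallLt 24 fun b =>
    ! stdO.testBit b || Nat.beq a b || forallLt 24 fun c =>
      ! stdO.testBit c || Nat.beq a c || Nat.beq b c || affGens.any fun q => forallLt 24 fun i =>
        ! stdO.testBit i || Nat.beq (pget q.1 i)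
          (if i == a then b else if i == b then c else if i == c then a else i)) = true := by
  decide +kernel

/-- The element induces the matrix. -/
def Ind (g : ↥M24) (M : Matrix (Fin 5) (Fin 5) F₂) : Prop :=
  ∀ x, x ∉ octset → Matrix.vecMul (lab (g • x)) M = lab x

theorem not_mem_smul {g : ↥M24} (hg : g ∈ stabilizer ↥M24 octset) {x : GolayPt} (hx : x ∉ octset) :
    g • x ∉ octset := by rwa [stab_mem_iff hg]

theorem Ind.mul {g h : ↥M24} {M N : Matrix (Fin 5) (Fin 5) F₂} (hh : h ∈ stabilizer ↥M24 octset)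
    (hM : Ind g M) (hN : Ind h N) : Ind (g * h) (M * N) := fun x hx => by
  rw [mul_smul, ← Matrix.vecMul_vecMul, hM _ (not_mem_smul hh hx), hN x hx]

theorem Ind.unique {g : ↥M24} {M N : Matrix (Fin 5) (Fin 5) F₂} (hg : g ∈ stabilizer ↥M24 octset)
    (hM : Ind g M) (hN : Ind g N) : M = N := by
  have h : ∀ v : Fin 5 → F₂, v 0 = 1 → Matrix.vecMul v M = Matrix.vecMul v N := fun v hv => by
    obtain ⟨y, hy, rfl⟩ := lab_surj v hv
    have hx : g⁻¹ • y ∉ octset := not_mem_smul (inv_mem hg) hy
    have e1 := hM _ hx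
    have e2 := hN _ hx
    rw [smul_inv_smul] at e1 e2
    rw [e1, e2]
  refine Matrix.ext_of_single_vecMul fun i => ?_
  by_cases hi : i = 0
  · subst hi; exact h _ (Pi.single_eq_same _ _)
  · have h1 := h (Pi.single 0 1 + Pi.single i 1) (by simp [Ne.symm hi])
    rw [Matrix.add_vecMul, Matrix.add_vecMul, h _ (Pi.single_eq_same _ _)] at h1
    exact add_left_cancel h1

theorem ind_one : Ind 1 1 := fun x _ => by rw [one_smul, Matrix.vecMul_one]

/-- The elements with a matrix. -/
def affSub : Submonoid ↥M24 where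
  carrier := {g | g ∈ stabilizer ↥M24 octset ∧ ∃ M, Ind g M}
  one_mem' := ⟨one_mem _, 1, ind_one⟩
  mul_mem' := fun {g h} hg hh => ⟨mul_mem hg.1 hh.1,
    hg.2.choose * hh.2.choose, hg.2.choose_spec.mul hh.1 hh.2.choose_spec⟩

theorem gen_mem {q : ℕ × ℕ} (hq : q ∈ affGens) :
    ∃ g ∈ affSub, Rep (g : Equiv.Perm GolayPt) q.1 := by
  have h := List.all_eq_true.1 gens_check q hq
  simp only [affB, Bool.and_eq_true, Nat.beq_eq] at h
  obtain ⟨⟨h1, h2⟩, h3⟩ := h
  obtain ⟨g, hg⟩ := exists_M24_elt h1
  refine ⟨g, ⟨stab_of_mask hg h2, matOf q.2, fun x hx => ?_⟩, hg⟩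
  have := forallLt_elim h3 (ix_lt x)
  rw [show stdO.testBit (ix x) = false by simpa [mem_octset] using hx, Bool.false_or, decide_eq_true_eq,
    hg x] at this
  rw [lab_eq, lab_eq]
  exact this

theorem affSub_all {g : ↥M24} (hg : g ∈ stabilizer ↥M24 octset) : g ∈ affSub := by
  let H : Subgroup ↥(stabilizer ↥M24 octset) :=
    { carrier := {k | (k : ↥M24) ∈ affSub}
      one_mem' := affSub.one_mem
      mul_mem' := fun {a b} ha hb => affSub.mul_mem ha hb
      inv_mem' := fun {a} ha => by
        show ((a : ↥M24))⁻¹ ∈ affSub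
        have : ((a : ↥M24))⁻¹ = (a : ↥M24) ^ (orderOf (a : ↥M24) - 1) := by
          rw [inv_eq_iff_mul_eq_one, ← pow_succ', Nat.sub_add_cancel (orderOf_pos _), pow_orderOf_eq_one]
        rw [this]
        exact affSub.pow_mem ha _ }
  suffices h : H = ⊤ by
    have := h ▸ Subgroup.mem_top (⟨g, hg⟩ : ↥(stabilizer ↥M24 octset))
    exact this
  have hker : (octRestrict octset).ker ≤ H := fun k hk => by
    have hfix := fixes_of_ker hk
    have hk4 : (k : ↥M24) • pt 4 ∉ octset := not_mem_smul k.2 pt4_not_mem
    have hb : (16777215 ^^^ stdO).testBit (ix ((k : ↥M24) • pt 4)) = true := by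
      rw [← octset_compl, testBit_maskOf]
      simpa using hk4
    have hlist := gens_ker.2
    change bitmap id _ = 16777215 ^^^ stdO at hlist
    rw [← hlist, testBit_bitmap] at hb
    obtain ⟨v, hv, e⟩ := hb
    simp only [List.map_map, List.mem_map] at hv
    obtain ⟨q, hq, rfl⟩ := hv
    obtain ⟨σ, hσ, hr⟩ := gen_mem (List.mem_of_mem_take hq)
    have hσfix : ∀ x ∈ octset, σ • x = x := fun x hx => ix_injective <| by
      have := forallLt_elim (List.all_eq_true.1 gens_ker.1 q.1 (List.mem_map_of_mem hq)) (ix_lt x)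
      rw [show stdO.testBit (ix x) = true from mem_octset.1 hx, hr x, Bool.not_true, Bool.false_or,
        Nat.beq_eq] at this
      exact this
    have : (k : ↥M24) = σ := ext_of_fix hfix hσfix (ix_injective (e.symm.trans (hr (pt 4))))
    show (k : ↥M24) ∈ affSub
    rwa [this]
  have hmap : (octRestrict octset).range ≤ H.map (octRestrict octset) := by
    rw [range_restrict octset_mem, ← Equiv.Perm.closure_three_cycles_eq_alternating, Subgroup.closure_le]
    intro e he
    obtain ⟨a, ha⟩ : ∃ a, e a ≠ a := by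
      by_contra! hall
      exact Equiv.Perm.IsThreeCycle.isCycle he |>.ne_one (Equiv.ext hall)
    have hc := he.isCycle
    have hord := he.orderOf
    have h3 : e (e (e a)) = a := by
      have := DFunLike.congr_fun (hord ▸ pow_orderOf_eq_one e) a
      simpa [pow_succ] using this
    have hba : e (e a) ≠ a := fun hh => ha (by rw [hh] at h3; exact h3)
    have hcb : e (e a) ≠ e a := fun hh => ha (e.injective hh)
    have hother : ∀ x, x ≠ a → x ≠ e a → x ≠ e (e a) → e x = x := by
      intro x h1 h2 h4
      by_contra hx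
      have hsub : {a, e a, e (e a), x} ⊆ e.support := by
        intro y hy
        simp only [Finset.mem_insert, Finset.mem_singleton] at hy
        rw [Equiv.Perm.mem_support]
        rcases hy with rfl | rfl | rfl | rfl
        exacts [ha, hcb, by rw [h3]; exact Ne.symm hba, hx]
      have := Finset.card_le_card hsub
      rw [he.card_support] at this
      rw [Finset.card_insert_of_notMem (by simp [Ne.symm ha, Ne.symm hba, Ne.symm h1]),
        Finset.card_insert_of_notMem (by simp [Ne.symm hcb, Ne.symm h2]),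
        Finset.card_pair (Ne.symm h4)] at this
      omega
    have hbit : ∀ y : ↥octset, stdO.testBit (ix (y : GolayPt)) = true := fun y => mem_octset.1 y.2
    have hne : ∀ {y z : ↥octset}, y ≠ z → Nat.beq (ix (y : GolayPt)) (ix (z : GolayPt)) = false :=
      fun {y z} h => Bool.eq_false_iff.2 fun hh => h (Subtype.ext (ix_injective (Nat.eq_of_beq_eq_true hh)))
    have h := forallLt_elim gens_three (ix_lt (a : GolayPt))
    rw [hbit, Bool.not_true, Bool.false_or] at h
    have h := forallLt_elim h (ix_lt (e a : GolayPt))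
    rw [hbit, Bool.not_true, Bool.false_or, hne (Ne.symm ha), Bool.false_or] at h
    have h := forallLt_elim h (ix_lt (e (e a) : GolayPt))
    rw [hbit, Bool.not_true, Bool.false_or, hne (Ne.symm hba), hne (Ne.symm hcb), Bool.false_or,
      Bool.false_or, List.any_eq_true] at h
    obtain ⟨q, hq, hqc⟩ := h
    obtain ⟨σ, hσ, hr⟩ := gen_mem hq
    refine ⟨⟨σ, hσ.1⟩, hσ, Equiv.ext fun y => Subtype.ext (ix_injective ?_)⟩
    have := forallLt_elim hqc (ix_lt (y : GolayPt))
    rw [hbit, Bool.not_true, Bool.false_or, hr, Nat.beq_eq] at this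
    refine this.trans ?_
    simp only [beq_iff_eq, ix_injective.eq_iff, Subtype.coe_inj]
    split_ifs with h1 h2 h4
    · rw [h1]
    · rw [h2]
    · rw [h4, h3]
    · rw [hother y h1 h2 h4]
  rw [eq_top_iff]
  intro k _
  obtain ⟨k', hk', e⟩ := hmap ⟨k, rfl⟩
  have : k'⁻¹ * k ∈ H := hker (by rw [MonoidHom.mem_ker, map_mul, map_inv, e, inv_mul_cancel])
  simpa using H.mul_mem hk' this

/-- The matrix of a stabilising element. -/
noncomputable def matrixOf (g : ↥(stabilizer ↥M24 octset)) : Matrix (Fin 5) (Fin 5) F₂ :=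
  (affSub_all g.2).2.choose

theorem matrixOf_spec (g : ↥(stabilizer ↥M24 octset)) : Ind g (matrixOf g) :=
  (affSub_all g.2).2.choose_spec

attribute [irreducible] matrixOf

theorem matrixOf_eq {g : ↥(stabilizer ↥M24 octset)} {M : Matrix (Fin 5) (Fin 5) F₂} (h : Ind g M) :
    matrixOf g = M := Ind.unique g.2 (matrixOf_spec g) h

theorem matrixOf_mul (g h : ↥(stabilizer ↥M24 octset)) :
    matrixOf (g * h) = matrixOf g * matrixOf h :=
  matrixOf_eq ((matrixOf_spec g).mul h.2 (matrixOf_spec h))

theorem matrixOf_one : matrixOf 1 = 1 := matrixOf_eq (by rw [OneMemClass.coe_one]; exact ind_one)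

theorem matrixOf_det (g : ↥(stabilizer ↥M24 octset)) : (matrixOf g).det = 1 := by
  have h := congrArg Matrix.det (matrixOf_mul g g⁻¹)
  rw [mul_inv_cancel, matrixOf_one, Matrix.det_one, Matrix.det_mul] at h
  have key : ∀ a b : F₂, 1 = a * b → a = 1 := by decide
  exact key _ _ h

/-- The representation of the octad stabiliser. -/
noncomputable def affHom : ↥(stabilizer ↥M24 octset) →* SL₅ where
  toFun g := ⟨matrixOf g, matrixOf_det g⟩
  map_one' := Subtype.ext matrixOf_one
  map_mul' g h := Subtype.ext (matrixOf_mul g h)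

theorem affHom_injective : Function.Injective affHom := (injective_iff_map_eq_one affHom).2 fun g hg => by
  have hM : matrixOf g = 1 := congrArg Subtype.val hg
  have hfix : ∀ x, x ∉ octset → (g : ↥M24) • x = x := fun x hx => by
    have := matrixOf_spec g x hx
    rw [hM, Matrix.vecMul_one] at this
    exact lab_inj _ (not_mem_smul g.2 hx) _ hx this
  refine Subtype.ext (Subtype.ext ?_)
  have hout := out_facts.2
  have ho : setOfMask 337856 ∈ octads := by
    rw [mem_octads_iff, maskOf_setOfMask (by decide)]; constructor <;> decide +kernel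
  exact congrArg (fun k : ↥M24 => (k : Equiv.Perm GolayPt)) <|
    (fix_regular ho (p := pt 4) out_facts.1).1 g
      (fun x hx => hfix x (hout x hx)) (hfix _ pt4_not_mem)

/-- The matrices with first column `e₀`. -/
def columnStab : Subgroup SL₅ where
  carrier := {M | (M : Matrix (Fin 5) (Fin 5) F₂).mulVec (Pi.single 0 1) = Pi.single 0 1}
  one_mem' := Matrix.one_mulVec _
  mul_mem' := fun {M N} hM hN => by
    show ((M * N : SL₅) : Matrix (Fin 5) (Fin 5) F₂).mulVec _ = _
    rw [Matrix.SpecialLinearGroup.coe_mul, ← Matrix.mulVec_mulVec]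
    exact (congrArg _ hN).trans hM
  inv_mem' := fun {M} hM => by
    show ((M⁻¹ : SL₅) : Matrix (Fin 5) (Fin 5) F₂).mulVec _ = _
    conv_lhs => rw [← hM]
    rw [Matrix.mulVec_mulVec, ← Matrix.SpecialLinearGroup.coe_mul, inv_mul_cancel,
      Matrix.SpecialLinearGroup.coe_one, Matrix.one_mulVec]

theorem mem_columnStab {M : SL₅} : M ∈ columnStab ↔
    ∀ i, (M : Matrix (Fin 5) (Fin 5) F₂) i 0 = if i = 0 then 1 else 0 := by
  show (M : Matrix (Fin 5) (Fin 5) F₂).mulVec _ = _ ↔ _
  rw [Matrix.mulVec_single_one, funext_iff]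
  simp [Pi.single_apply, Matrix.col]

theorem card_columnStab : Nat.card ↥columnStab ≤ 322560 := by
  have hdet : ∀ M : ↥columnStab,
      ((M.1 : Matrix (Fin 5) (Fin 5) F₂).submatrix Fin.succ Fin.succ).det = 1 := fun M => by
    have h := M.1.2
    rw [Matrix.det_succ_column_zero, Fin.sum_univ_succ, mem_columnStab.1 M.2 0] at h
    simpa [mem_columnStab.1 M.2, Fin.succ_ne_zero] using h
  let f : ↥columnStab → (Fin 4 → F₂) × GL (Fin 4) F₂ := fun M =>
    (fun j => (M.1 : Matrix (Fin 5) (Fin 5) F₂) 0 j.succ,
      Matrix.GeneralLinearGroup.mkOfDetNeZero _ (by rw [hdet M]; exact one_ne_zero))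
  have hf : Function.Injective f := by
    intro M N h
    obtain ⟨h1, h2⟩ := Prod.mk.inj h
    refine Subtype.ext (Subtype.ext (Matrix.ext fun i j => ?_))
    induction j using Fin.cases with
    | zero => rw [mem_columnStab.1 M.2, mem_columnStab.1 N.2]
    | succ j =>
      induction i using Fin.cases with
      | zero => exact congrFun h1 j
      | succ i => exact congrFun (congrFun (congrArg (fun u : GL (Fin 4) F₂ => (u : Matrix (Fin 4) (Fin 4) F₂)) h2) i) j
  refine (Nat.card_le_card_of_injective f hf).trans ?_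
  rw [Nat.card_prod, Nat.card_fun]
  erw [Matrix.card_GL_field]
  rw [Fin.prod_univ_four]
  simp only [Nat.card_fin, Nat.card_zmod, ZMod.card]
  norm_num

theorem range_affHom : affHom.range = columnStab := by
  refine Subgroup.eq_of_le_of_card_ge ?_ ?_
  · rintro _ ⟨g, rfl⟩
    refine mem_columnStab.2 fun i => ?_
    show matrixOf g i 0 = _
    have h : ∀ v : Fin 5 → F₂, v 0 = 1 → Matrix.vecMul v (matrixOf g) 0 = 1 := fun v hv => by
      obtain ⟨y, hy, rfl⟩ := lab_surj v hv
      have hx : (g : ↥M24)⁻¹ • y ∉ octset := not_mem_smul (inv_mem g.2) hy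
      have e1 := matrixOf_spec g _ hx
      rw [smul_inv_smul] at e1
      rw [e1, lab_zero _ hx]
    have h0 := h _ (Pi.single_eq_same (M := fun _ : Fin 5 => F₂) 0 1)
    simp only [Matrix.single_one_vecMul, Matrix.row] at h0
    by_cases hi : i = 0
    · subst hi; rw [if_pos rfl]; exact h0
    · rw [if_neg hi]
      have h1 := h (Pi.single 0 1 + Pi.single i 1) (by simp [Ne.symm hi])
      simp only [Matrix.add_vecMul, Pi.add_apply, Matrix.single_one_vecMul, Matrix.row, h0] at h1
      simpa using h1
  · rw [Nat.card_congr (MonoidHom.ofInjective affHom_injective).toEquiv.symm,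
      card_stab_octad' octset_mem]
    exact card_columnStab

end CfsgLib.Sporadic.OctAff
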