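import Cfsg.Agent.Lib.Sporadic.OrbitCoThreeEightData

/-!
# Certificate of one orbit, generated by a search
-/

set_option autoImplicit false
set_option maxRecDepth 100000
set_option Elab.async false

namespace CfsgLib.Sporadic.Conway

theorem coThreeEightPart0_desc : OTree.descends coThreeEightGens 27729856879992518157740382617 coThreeEightTree coThreeEightPart0 = true := by
  decide +kernel

theorem coThreeEightPart1_desc : OTree.descends coThreeEightGens 27729856879992518157740382617 coThreeEightTree coThreeEightPart1 = true := by
  decide +kernel

theorem coThreeEightPart2_desc : OTree.descends coThreeEightGens 27729856879992518157740382617 coThreeEightTree coThreeEightPart2 = true := by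
  decide +kernel

theorem coThreeEightPart3_desc : OTree.descends coThreeEightGens 27729856879992518157740382617 coThreeEightTree coThreeEightPart3 = true := by
  decide +kernel

theorem coThreeEightPart4_desc : OTree.descends coThreeEightGens 27729856879992518157740382617 coThreeEightTree coThreeEightPart4 = true := by
  decide +kernel

theorem coThreeEightPart5_desc : OTree.descends coThreeEightGens 27729856879992518157740382617 coThreeEightTree coThreeEightPart5 = true := by
  decide +kernel

theorem coThreeEightPart6_desc : OTree.descends coThreeEightGens 27729856879992518157740382617 coThreeEightTree coThreeEightPart6 = true := by
  decide +kernel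

theorem coThreeEightPart7_desc : OTree.descends coThreeEightGens 27729856879992518157740382617 coThreeEightTree coThreeEightPart7 = true := by
  decide +kernel

theorem coThreeEightPart8_desc : OTree.descends coThreeEightGens 27729856879992518157740382617 coThreeEightTree coThreeEightPart8 = true := by
  decide +kernel

theorem coThreeEightPart9_desc : OTree.descends coThreeEightGens 27729856879992518157740382617 coThreeEightTree coThreeEightPart9 = true := by
  decide +kernel

theorem coThreeEightPart10_desc : OTree.descends coThreeEightGens 27729856879992518157740382617 coThreeEightTree coThreeEightPart10 = true := by
  decide +kernel

end CfsgLib.Sporadic.Conway
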