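import Cfsg.Agent.Lib.Sporadic.OrbitCoThreeEightData

/-!
# Certificate of one orbit, generated by a search
-/

set_option autoImplicit false
set_option maxRecDepth 100000
set_option Elab.async false

namespace CfsgLib.Sporadic.Conway

theorem coThreeEightPart121_desc : OTree.descends coThreeEightGens 27729856879992518157740382617 coThreeEightTree coThreeEightPart121 = true := by
  decide +kernel

theorem coThreeEightPart122_desc : OTree.descends coThreeEightGens 27729856879992518157740382617 coThreeEightTree coThreeEightPart122 = true := by
  decide +kernel

theorem coThreeEightPart123_desc : OTree.descends coThreeEightGens 27729856879992518157740382617 coThreeEightTree coThreeEightPart123 = true := by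
  decide +kernel

theorem coThreeEightPart124_desc : OTree.descends coThreeEightGens 27729856879992518157740382617 coThreeEightTree coThreeEightPart124 = true := by
  decide +kernel

theorem coThreeEightPart125_desc : OTree.descends coThreeEightGens 27729856879992518157740382617 coThreeEightTree coThreeEightPart125 = true := by
  decide +kernel

theorem coThreeEightPart126_desc : OTree.descends coThreeEightGens 27729856879992518157740382617 coThreeEightTree coThreeEightPart126 = true := by
  decide +kernel

theorem coThreeEightPart127_desc : OTree.descends coThreeEightGens 27729856879992518157740382617 coThreeEightTree coThreeEightPart127 = true := by
  decide +kernel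

end CfsgLib.Sporadic.Conway
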