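import Cfsg.Agent.Lib.Sporadic.OrbitCoTwoMidData

/-!
# Certificate of one orbit, generated by a search
-/

set_option autoImplicit false
set_option maxRecDepth 100000
set_option Elab.async false

namespace CfsgLib.Sporadic.Conway

theorem coTwoMidPart0_desc : OTree.descends coTwoMidGens 47536897508558602556126370197 coTwoMidTree coTwoMidPart0 = true := by
  decide +kernel

theorem coTwoMidPart1_desc : OTree.descends coTwoMidGens 47536897508558602556126370197 coTwoMidTree coTwoMidPart1 = true := by
  decide +kernel

theorem coTwoMidPart2_desc : OTree.descends coTwoMidGens 47536897508558602556126370197 coTwoMidTree coTwoMidPart2 = true := by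
  decide +kernel

theorem coTwoMidPart3_desc : OTree.descends coTwoMidGens 47536897508558602556126370197 coTwoMidTree coTwoMidPart3 = true := by
  decide +kernel

theorem coTwoMidPart4_desc : OTree.descends coTwoMidGens 47536897508558602556126370197 coTwoMidTree coTwoMidPart4 = true := by
  decide +kernel

theorem coTwoMidPart5_desc : OTree.descends coTwoMidGens 47536897508558602556126370197 coTwoMidTree coTwoMidPart5 = true := by
  decide +kernel

theorem coTwoMidPart6_desc : OTree.descends coTwoMidGens 47536897508558602556126370197 coTwoMidTree coTwoMidPart6 = true := by
  decide +kernel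

theorem coTwoMidPart7_desc : OTree.descends coTwoMidGens 47536897508558602556126370197 coTwoMidTree coTwoMidPart7 = true := by
  decide +kernel

theorem coTwoMidPart8_desc : OTree.descends coTwoMidGens 47536897508558602556126370197 coTwoMidTree coTwoMidPart8 = true := by
  decide +kernel

theorem coTwoMidPart9_desc : OTree.descends coTwoMidGens 47536897508558602556126370197 coTwoMidTree coTwoMidPart9 = true := by
  decide +kernel

theorem coTwoMidPart10_desc : OTree.descends coTwoMidGens 47536897508558602556126370197 coTwoMidTree coTwoMidPart10 = true := by
  decide +kernel

end CfsgLib.Sporadic.Conway
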