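import Cfsg.Agent.Lib.Sporadic.OrbitCoTwoOrthData

/-!
# Certificate of one orbit, generated by a search
-/

set_option autoImplicit false
set_option maxRecDepth 100000
set_option Elab.async false

namespace CfsgLib.Sporadic.Conway

theorem coTwoOrthPart0_desc : OTree.descends coTwoOrthGens 62062060636173731114942761092 coTwoOrthTree coTwoOrthPart0 = true := by
  decide +kernel

theorem coTwoOrthPart1_desc : OTree.descends coTwoOrthGens 62062060636173731114942761092 coTwoOrthTree coTwoOrthPart1 = true := by
  decide +kernel

theorem coTwoOrthPart2_desc : OTree.descends coTwoOrthGens 62062060636173731114942761092 coTwoOrthTree coTwoOrthPart2 = true := by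
  decide +kernel

theorem coTwoOrthPart3_desc : OTree.descends coTwoOrthGens 62062060636173731114942761092 coTwoOrthTree coTwoOrthPart3 = true := by
  decide +kernel

theorem coTwoOrthPart4_desc : OTree.descends coTwoOrthGens 62062060636173731114942761092 coTwoOrthTree coTwoOrthPart4 = true := by
  decide +kernel

theorem coTwoOrthPart5_desc : OTree.descends coTwoOrthGens 62062060636173731114942761092 coTwoOrthTree coTwoOrthPart5 = true := by
  decide +kernel

theorem coTwoOrthPart6_desc : OTree.descends coTwoOrthGens 62062060636173731114942761092 coTwoOrthTree coTwoOrthPart6 = true := by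
  decide +kernel

theorem coTwoOrthPart7_desc : OTree.descends coTwoOrthGens 62062060636173731114942761092 coTwoOrthTree coTwoOrthPart7 = true := by
  decide +kernel

theorem coTwoOrthPart8_desc : OTree.descends coTwoOrthGens 62062060636173731114942761092 coTwoOrthTree coTwoOrthPart8 = true := by
  decide +kernel

theorem coTwoOrthPart9_desc : OTree.descends coTwoOrthGens 62062060636173731114942761092 coTwoOrthTree coTwoOrthPart9 = true := by
  decide +kernel

theorem coTwoOrthPart10_desc : OTree.descends coTwoOrthGens 62062060636173731114942761092 coTwoOrthTree coTwoOrthPart10 = true := by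
  decide +kernel

end CfsgLib.Sporadic.Conway
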