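import Cfsg.Agent.Lib.Sporadic.OrbitCoTwoOrthData

/-!
# Certificate of one orbit, generated by a search
-/

set_option autoImplicit false
set_option maxRecDepth 100000
set_option Elab.async false

namespace CfsgLib.Sporadic.Conway

theorem coTwoOrthPart121_desc : OTree.descends coTwoOrthGens 62062060636173731114942761092 coTwoOrthTree coTwoOrthPart121 = true := by
  decide +kernel

theorem coTwoOrthPart122_desc : OTree.descends coTwoOrthGens 62062060636173731114942761092 coTwoOrthTree coTwoOrthPart122 = true := by
  decide +kernel

theorem coTwoOrthPart123_desc : OTree.descends coTwoOrthGens 62062060636173731114942761092 coTwoOrthTree coTwoOrthPart123 = true := by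
  decide +kernel

theorem coTwoOrthPart124_desc : OTree.descends coTwoOrthGens 62062060636173731114942761092 coTwoOrthTree coTwoOrthPart124 = true := by
  decide +kernel

theorem coTwoOrthPart125_desc : OTree.descends coTwoOrthGens 62062060636173731114942761092 coTwoOrthTree coTwoOrthPart125 = true := by
  decide +kernel

theorem coTwoOrthPart126_desc : OTree.descends coTwoOrthGens 62062060636173731114942761092 coTwoOrthTree coTwoOrthPart126 = true := by
  decide +kernel

theorem coTwoOrthPart127_desc : OTree.descends coTwoOrthGens 62062060636173731114942761092 coTwoOrthTree coTwoOrthPart127 = true := by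
  decide +kernel

theorem coTwoOrthPart128_desc : OTree.descends coTwoOrthGens 62062060636173731114942761092 coTwoOrthTree coTwoOrthPart128 = true := by
  decide +kernel

theorem coTwoOrthPart129_desc : OTree.descends coTwoOrthGens 62062060636173731114942761092 coTwoOrthTree coTwoOrthPart129 = true := by
  decide +kernel

theorem coTwoOrthPart130_desc : OTree.descends coTwoOrthGens 62062060636173731114942761092 coTwoOrthTree coTwoOrthPart130 = true := by
  decide +kernel

theorem coTwoOrthPart131_desc : OTree.descends coTwoOrthGens 62062060636173731114942761092 coTwoOrthTree coTwoOrthPart131 = true := by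
  decide +kernel

end CfsgLib.Sporadic.Conway
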