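import Cfsg.Agent.Lib.Sporadic.ConwayPack

/-!
# Certificate of one orbit, generated by a search
-/

set_option autoImplicit false
set_option maxRecDepth 100000
set_option Elab.async false

namespace CfsgLib.Sporadic.Conway

/-- Words fixing the base vectors. -/
def hsSubP8Gens : List (List (ℕ × ℕ)) :=
  [[(1, 970211657697594801360620650876846784)],
   [(1, 976700846262498706714873672290932992)]]

noncomputable def hsSubP8Part0 : OTree :=
  .node (.node (.node (.node (.node (.leaf) 46298957469273222281227245977 16 47536897508558602556126370137 (.leaf)) 47459526256103266288945174937 80 47536896327966981838715066777 (.leaf)) 47532061805280144039427545497 48 47536897508558532187382192537 (.node (.node (.leaf) 47536595277103698898832693657 65 47536897508558602556126108057 (.leaf)) 47536878619092671077545515417 64 47532061805280144039427545497 (.leaf))) 47536896327966981838715066777 65 47532061805280144039427545497 (.node (.node (.node (.leaf) 47536897434771626261288163737 33 46298957469273222281227245977 (.leaf)) 47536897503946916537698982297 80 47536878619092671077545515417 (.leaf)) 47536897508270372179974658457 64 47536897508558598158079859097 (.node (.node (.leaf) 47536897508540588157616888217 96 47459526256103266288945174937 (.leaf)) 47536897508557476656219527577 96 47536897503946916537698982297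 (.leaf)))) 47536897508558532187382192537 32 46298957469273222281227245977 (.node (.node (.node (.node (.leaf) 47536897508558598158079859097 49 47536897508558602555052628377 (.leaf)) 47536897508558602281248463257 80 47536897508558602556122175897 (.leaf)) 47536897508558602538946501017 17 47536897508558602556126370137 (.node (.node (.leaf) 47536897508558602555052628377 32 47536897508558602538946501017 (.leaf)) 47536897508558602556059261337 65 47536897508558602556126369177 (.leaf))) 47536897508558602556122175897 64 47536897508558602556126108057 (.node (.node (.node (.leaf) 47536897508558602556126108057 49 47536897434771626261288163737 (.leaf)) 47536897508558602556126353817 81 47536595277103698898832693657 (.leaf)) 47536897508558602556126369177 48 47536897508558602555052628377 (.node (.leaf) 47536897508558602556126370137 0 47536897508558602556126370137 (.leaf))))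

noncomputable def hsSubP8Tree : OTree :=
  hsSubP8Part0

theorem hsSubP8Part0_desc : OTree.descends hsSubP8Gens 47536897508558602556126370137 hsSubP8Tree hsSubP8Part0 = true := by
  decide +kernel

theorem hsSubP8_ok : orbitOK hsSubP8Gens [67343938137124686954512357785, 36973142506656690876987176819, 62062060636173731114942761100] 47536897508558602556126370137 hsSubP8Tree 22 = true :=
  orbitOK_of (by decide +kernel) (by decide +kernel) (by decide +kernel)
    hsSubP8Part0_desc

end CfsgLib.Sporadic.Conway
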