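import Mathlib
import Cfsg.Agent.Lib.Sporadic.Code

/-!
# A cocycle of Parker type on the binary Golay code

`beta` is additive in the second variable, its failure of additivity in the first is the triple
intersection form, and its diagonal is a quarter of the weight. Hence every automorphism of the
code preserves its class.
-/

set_option autoImplicit false
set_option maxRecDepth 10000

namespace CfsgLib.Sporadic.Parker

open Cfsg Finset

local notation "F₂" => ZMod 2

/-- The code. -/
abbrev C : Type := ↥golayCode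

/-- The coefficient rows. -/
def formRows : List ℕ :=
  [0, 1824, 840, 1412, 3392, 450, 308, 2344, 3839, 2310, 282, 912, 1824, 0, 2600, 1076, 360,
  4062, 688, 3168, 2096, 100, 168, 420, 840, 2600, 0, 1536, 1632, 784, 2576, 3840, 672, 3580,
  664, 704, 1408, 1072, 1536, 0, 1216, 3328, 1808, 3088, 1120, 3136, 3064, 1696, 3392, 352,
  1632, 1216, 0, 2112, 4016, 2624, 576, 448, 64, 224, 448, 4032, 768, 3328, 2112, 0, 1024, 2560,
  0, 1152, 576, 128, 256, 640, 2560, 1792, 3968, 1024, 0, 2304, 128, 0, 2048, 1152, 2304, 3072,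
  3840, 3072, 2560, 2560, 2304, 0, 2048, 2048, 2048, 1920, 3584, 2048, 512, 1024, 512, 0, 0,
  2048, 0, 1024, 2560, 1024, 2048, 0, 3072, 3072, 0, 1024, 0, 2048, 1024, 0, 0, 0, 0, 0, 0,
  2048, 0, 0, 2048, 2048, 2048, 0, 0, 0, 0, 0, 0, 0, 0, 0, 0, 0, 0, 0, 0, 0]

def coef (i k j : ℕ) : F₂ := ((formRows.getD (12 * i + j) 0).testBit k).toNat

noncomputable def bWord (i : ℕ) : GolayPt → F₂ := wordOf (enc (2 ^ i))

theorem bWord_mem (i : Fin 12) : bWord i ∈ golayCode :=
  mem_golayCode_iff.2 ⟨2 ^ i.val, Nat.pow_lt_pow_right (by norm_num) i.isLt, rfl⟩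

noncomputable def b (i : Fin 12) : C := ⟨bWord i, bWord_mem i⟩

def cd (i : Fin 12) (x : GolayPt → F₂) : F₂ := x (pt i)

theorem wordOf_xorComb (f : ℕ → ℕ) (c : ℕ) : ∀ n,
    wordOf (xorComb f c n) = ∑ i ∈ range n, ((c.testBit i).toNat : F₂) • wordOf (f i)
  | 0 => by simp [xorComb, wordOf_zero]
  | n + 1 => by
    rw [xorComb_succ, wordOf_xor, wordOf_xorComb f c n, sum_range_succ, bitAt_eq]
    congr 1
    cases c.testBit n <;> simp [wordOf_zero]

theorem enc_two_pow : ∀ i : Fin 12, enc (2 ^ i.val) = basisMask i := by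
  decide +kernel

theorem word_expand {x : GolayPt → F₂} (hx : x ∈ golayCode) :
    x = ∑ i : Fin 12, cd i x • bWord i := by
  obtain ⟨k, hk, rfl⟩ := mem_golayCode_iff.1 hx
  have hcd : ∀ i : Fin 12, cd i (wordOf (enc k)) = ((k.testBit i).toNat : F₂) := by
    intro i
    have h : (enc k &&& 4095).testBit i = k.testBit i := by rw [enc_land hk]
    rw [Nat.testBit_and, show (4095 : ℕ) = 2 ^ 12 - 1 by norm_num, Nat.testBit_two_pow_sub_one,
      decide_eq_true i.isLt, Bool.and_true] at h
    simp only [cd, wordOf, ix_pt (show i.val < 24 by omega), h]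
    cases k.testBit i <;> simp
  conv_lhs => rw [enc, wordOf_xorComb, sum_range]
  refine sum_congr rfl fun i _ => ?_
  rw [hcd, bWord, enc_two_pow]

theorem expand (x : C) : x = ∑ i : Fin 12, cd i x.1 • b i :=
  Subtype.ext (by
    rw [Submodule.coe_sum]
    exact word_expand x.2)

/-- Closure of a property under sums of basis words. -/
theorem induction_on {P : C → Prop} (x : C) (h0 : P 0) (h : ∀ y i, P y → P (y + b i)) : P x := by
  rw [expand x]
  generalize (univ : Finset (Fin 12)) = s
  induction s using Finset.induction with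
  | empty => simpa using h0
  | insert i t hi ih =>
    rw [sum_insert hi, add_comm]
    rcases (show ∀ a : F₂, a = 0 ∨ a = 1 by decide) (cd i x.1) with e | e
    · rw [e, zero_smul, add_zero]; exact ih
    · rw [e, one_smul]; exact h _ _ ih

/-- The triple intersection form. -/
def T (x y z : GolayPt → F₂) : F₂ := ∑ p, x p * y p * z p

noncomputable def L (j : Fin 12) (x : GolayPt → F₂) : F₂ :=
  ∑ i : Fin 12, ∑ k : Fin 12, coef i k j * (cd i x * cd k x)

noncomputable def beta (x y : C) : F₂ := ∑ j : Fin 12, cd j y.1 * L j x.1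

theorem beta_add_right (x y z : C) : beta x (y + z) = beta x y + beta x z := by
  simp only [beta, cd, Submodule.coe_add, Pi.add_apply, add_mul, sum_add_distrib]

theorem beta_zero_right (x : C) : beta x 0 = 0 := by simp [beta, cd]

theorem coef_data : ∀ i k j : Fin 12,
    coef i k j + coef k i j = T (bWord i) (bWord k) (bWord j) := by
  decide +kernel

theorem T_expand {x y z : GolayPt → F₂} (hx : x ∈ golayCode) (hy : y ∈ golayCode) :
    T x y z = ∑ i : Fin 12, ∑ k : Fin 12, cd i x * cd k y * T (bWord i) (bWord k) z := by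
  simp only [T, mul_sum]
  conv_rhs => enter [2, i]; rw [sum_comm]
  rw [sum_comm]
  refine sum_congr rfl fun p _ => ?_
  conv_lhs => rw [word_expand hx, word_expand hy]
  simp only [Finset.sum_apply, Pi.smul_apply, smul_eq_mul, sum_mul, mul_sum]
  rw [sum_comm]
  exact sum_congr rfl fun i _ => sum_congr rfl fun k _ => by ring

theorem L_add (j : Fin 12) (x y : C) :
    L j (x + y).1 = L j x.1 + L j y.1 + T x.1 y.1 (bWord j) := by
  rw [T_expand x.2 y.2]
  simp only [← coef_data, mul_add, add_mul, sum_add_distrib]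
  conv_rhs => arg 2; arg 2; rw [sum_comm]
  simp only [L, cd, Submodule.coe_add, Pi.add_apply, mul_add, add_mul, sum_add_distrib]
  have e1 : ∀ u v : Fin 12 → F₂, (∑ i : Fin 12, ∑ k : Fin 12, coef i k j * (u i * v k))
      = ∑ i : Fin 12, ∑ k : Fin 12, u i * v k * coef i k j := fun u v =>
    sum_congr rfl fun i _ => sum_congr rfl fun k _ => by ring
  have e2 : (∑ i : Fin 12, ∑ k : Fin 12, coef i k j * (y.1 (pt i) * x.1 (pt k)))
      = ∑ k : Fin 12, ∑ i : Fin 12, x.1 (pt i) * y.1 (pt k) * coef k i j := 
    sum_congr rfl fun i _ => sum_congr rfl fun k _ => by ring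
  rw [e1 (fun i => x.1 (pt i)) (fun i => y.1 (pt i)), e2]
  ring

theorem beta_add_left (x y z : C) :
    beta (x + y) z = beta x z + beta y z + T x.1 y.1 z.1 := by
  have h : T x.1 y.1 z.1 = ∑ j : Fin 12, cd j z.1 * T x.1 y.1 (bWord j) := by
    simp only [T, mul_sum]
    rw [sum_comm]
    refine sum_congr rfl fun p _ => ?_
    conv_lhs => rw [word_expand z.2]
    simp only [Finset.sum_apply, Pi.smul_apply, smul_eq_mul, mul_sum]
    exact sum_congr rfl fun j _ => by ring
  simp only [beta, L_add, mul_add, sum_add_distrib, h]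

theorem beta_zero_left (y : C) : beta 0 y = 0 := by simp [beta, L, cd]

theorem beta_assoc (x y z : C) :
    beta x y + beta (x + y) z + beta x (y + z) + beta y z = T x.1 y.1 z.1 := by
  rw [beta_add_left, beta_add_right]
  generalize beta x y = a, beta x z = c, beta y z = d, T x.1 y.1 z.1 = t
  revert a c d t
  decide

/-! ## Weights -/

@[irreducible] def wt (x : GolayPt → F₂) : ℕ := ∑ p, (x p).val

@[irreducible] def half (x : GolayPt → F₂) : F₂ := (wt x / 2 : ℕ)

@[irreducible] def quarter (x : GolayPt → F₂) : F₂ := (wt x / 4 : ℕ)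

theorem wt_add (x y : GolayPt → F₂) : wt (x + y) + 2 * wt (x * y) = wt x + wt y := by
  unfold wt
  simp only [mul_sum, ← sum_add_distrib]
  refine sum_congr rfl fun p _ => ?_
  simp only [Pi.add_apply, Pi.mul_apply]
  generalize x p = a, y p = c
  revert a c
  decide

theorem wt_parity (x : GolayPt → F₂) : (wt x : F₂) = ∑ p, x p := by
  unfold wt
  rw [Nat.cast_sum]
  exact sum_congr rfl fun p _ => ZMod.natCast_zmod_val _

theorem orth_data : ∀ i k : Fin 12, (∑ p, bWord i p * bWord k p) = 0 := by
  decide +kernel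

theorem orth {x y : GolayPt → F₂} (hx : x ∈ golayCode) (hy : y ∈ golayCode) :
    ∑ p, x p * y p = 0 := by
  conv_lhs => rw [word_expand hx, word_expand hy]
  simp only [Finset.sum_apply, Pi.smul_apply, smul_eq_mul, sum_mul, mul_sum]
  rw [sum_comm]
  refine sum_eq_zero fun k _ => ?_
  rw [sum_comm]
  refine sum_eq_zero fun i _ => ?_
  calc ∑ p, cd i x * bWord i p * (cd k y * bWord k p)
      = cd i x * cd k y * ∑ p, bWord i p * bWord k p := by
        rw [mul_sum]; exact sum_congr rfl fun p _ => by ring
    _ = 0 := by rw [orth_data, mul_zero]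

theorem wt_even {x y : GolayPt → F₂} (hx : x ∈ golayCode) (hy : y ∈ golayCode) :
    2 ∣ wt (x * y) := by
  rw [← ZMod.natCast_eq_zero_iff _ 2, wt_parity]
  exact orth hx hy

theorem half_add {x y : GolayPt → F₂} (hx : 2 ∣ wt x) (hy : 2 ∣ wt y) :
    half (x + y) = half x + half y + ∑ p, x p * y p := by
  have e := wt_add x y
  have h : ((wt (x + y) / 2 + wt (x * y) : ℕ) : F₂) = ((wt x / 2 + wt y / 2 : ℕ) : F₂) := by
    congr 1; omega
  push_cast at h
  rw [show (wt (x * y) : F₂) = ∑ p, x p * y p from wt_parity _] at h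
  show half (x + y) = half x + half y + _
  revert h
  unfold half
  generalize ((wt (x + y) / 2 : ℕ) : F₂) = a, ((wt x / 2 : ℕ) : F₂) = c,
    ((wt y / 2 : ℕ) : F₂) = d, (∑ p, x p * y p) = t
  revert a c d t
  decide

theorem four_dvd_wt {x : GolayPt → F₂} (hx : x ∈ golayCode) : 4 ∣ wt x := by
  have h : wt x = (support₂ x).card := by
    unfold wt
    rw [support₂, card_filter]
    refine sum_congr rfl fun p _ => ?_
    generalize x p = a
    revert a; decide
  rcases card_code_support (s := support₂ x) ⟨x, hx, rfl⟩ with e | e | e | e | e <;> omega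

theorem quarter_add (x y : C) :
    quarter (x + y).1 = quarter x.1 + quarter y.1 + half (x.1 * y.1) := by
  have e := wt_add x.1 y.1
  have h1 := four_dvd_wt x.2
  have h2 := four_dvd_wt y.2
  have h3 : 4 ∣ wt (x.1 + y.1) := four_dvd_wt (x + y).2
  have h : ((wt (x.1 + y.1) / 4 + wt (x.1 * y.1) / 2 : ℕ) : F₂)
      = ((wt x.1 / 4 + wt y.1 / 4 : ℕ) : F₂) := by
    congr 1; omega
  push_cast at h
  show quarter (x.1 + y.1) = _
  revert h
  unfold quarter half
  generalize ((wt (x.1 + y.1) / 4 : ℕ) : F₂) = a, ((wt x.1 / 4 : ℕ) : F₂) = c,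
    ((wt y.1 / 4 : ℕ) : F₂) = d, ((wt (x.1 * y.1) / 2 : ℕ) : F₂) = t
  revert a c d t
  decide

theorem basis_data : (∀ i : Fin 12, (∑ j : Fin 12, cd j (bWord i) * L j (bWord i)) = quarter (bWord i)) ∧
    ∀ i j : Fin 12, (∑ l : Fin 12, cd l (bWord j) * L l (bWord i)) +
      (∑ l : Fin 12, cd l (bWord i) * L l (bWord j)) = half (bWord i * bWord j) := by
  decide +kernel

/-- The diagonal is a quarter of the weight and the symmetrisation half of the intersection. -/
theorem beta_diag (x : C) : beta x x = quarter x.1 ∧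
    ∀ j, beta x (b j) + beta (b j) x = half (x.1 * bWord j) := by
  refine induction_on (P := fun x => beta x x = quarter x.1 ∧
    ∀ j, beta x (b j) + beta (b j) x = half (x.1 * bWord j)) x ⟨?_, fun j => ?_⟩ ?_
  · rw [beta_zero_left]; unfold quarter wt; simp
  · rw [beta_zero_left, beta_zero_right]; unfold half wt; simp
  intro y i h
  obtain ⟨hy, hy'⟩ := h
  have hb : beta (b i) (b i) = quarter (bWord i) := basis_data.1 i
  constructor
  · rw [beta_add_left, beta_add_right, beta_add_right, quarter_add, hy, hb]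
    rw [show half (y.1 * (b i).1) = beta y (b i) + beta (b i) y from (hy' i).symm]
    have ht : T y.1 (b i).1 (y + b i).1 = 0 := by
      have h0 := orth y.2 (b i).2
      simp only [T, Submodule.coe_add, Pi.add_apply]
      have e : ∀ a c : F₂, a * c * (a + c) = a * c + a * c := by decide
      simp only [e, sum_add_distrib, h0, add_zero]
    rw [ht]
    show quarter y.1 + beta y (b i) + (beta (b i) y + quarter (bWord i)) + 0
      = quarter y.1 + quarter (bWord i) + (beta y (b i) + beta (b i) y)
    ring
  · intro j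
    rw [beta_add_left, beta_add_right]
    have e : (y + b i).1 * bWord j = y.1 * bWord j + bWord i * bWord j := add_mul _ _ _
    rw [e, half_add (wt_even y.2 (bWord_mem j)) (wt_even (bWord_mem i) (bWord_mem j)), ← hy' j,
      ← show beta (b i) (b j) + beta (b j) (b i) = half (bWord i * bWord j) from basis_data.2 i j]
    have e2 : T y.1 (b i).1 (b j).1 = ∑ p, (y.1 * bWord j) p * (bWord i * bWord j) p := by
      refine sum_congr rfl fun p _ => ?_
      show y.1 p * bWord i p * bWord j p = y.1 p * bWord j p * (bWord i p * bWord j p)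
      generalize y.1 p = a, bWord i p = c, bWord j p = d
      revert a c d; decide
    rw [e2]
    ring

/-- The symmetrisation is determined by the diagonal. -/
theorem beta_symm (x y : C) :
    beta x y + beta y x = quarter (x + y).1 + quarter x.1 + quarter y.1 := by
  rw [← (beta_diag (x + y)).1, ← (beta_diag x).1, ← (beta_diag y).1, beta_add_left, beta_add_right,
    beta_add_right]
  have ht : T x.1 y.1 (x + y).1 = 0 := by
    have h0 := orth x.2 y.2
    simp only [T, Submodule.coe_add, Pi.add_apply]
    have e : ∀ a c : F₂, a * c * (a + c) = a * c + a * c := by decide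
    simp only [e, sum_add_distrib, h0, add_zero]
  rw [ht]
  generalize beta x x = a, beta x y = c, beta y x = d, beta y y = u
  revert a c d u
  decide

end CfsgLib.Sporadic.Parker
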