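import Mathlib

/-! A certificate that the cocode extension of M23 does not split. -/

set_option autoImplicit false

namespace CfsgLib.Sporadic.Parker

def obsGens : List ℕ := [962671165367840876585085024187484522, 961028283555582404902783088605072064]

def obsCert : List (List ℕ × ℕ) := [
  ([0, 0, 0], 256),
  ([1, 1, 1], 256),
  ([0, 1, 0, 1, 0, 1, 0, 1, 0, 1], 2308),
  ([0, 1, 0, 0, 1, 1, 0, 1, 0, 0, 1, 1, 0, 1, 0, 0, 1, 1], 517)]

end CfsgLib.Sporadic.Parker
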