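import Mathlib
import Cfsg.Agent.Lib.Sporadic.ParkerCocycle
import Cfsg.Agent.Lib.Sporadic.ParkerObstructionData
import Cfsg.Agent.Lib.Sporadic.MultiplierPerms
import Cfsg.Agent.Lib.Sporadic.SporMathieu
import Cfsg.Agent.Lib.Sporadic.MathieuTwoTwoAut

/-!
# The non-split extension of M23 by the cocode

Pairs of an element `g` of M23 and a function whose coboundary is the change of the Parker cocycle
under `g` form an extension by the dual of the code; dividing by the evaluation at the fixed point
leaves an extension by the cocode, which a few relations in two elements show to be non-split.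
-/

set_option autoImplicit false
set_option maxRecDepth 20000

namespace CfsgLib.Sporadic.Parker

open Cfsg Finset
open scoped Pointwise

local notation "F₂" => ZMod 2

abbrev G23 : Type := ↥Spor.M23

theorem mem_M24' (g : G23) : (g : Equiv.Perm GolayPt) ∈ M24 := g.2.1

theorem fix_none (g : G23) : (g : Equiv.Perm GolayPt) none = none := g.2.2

theorem comp_mem {σ : Equiv.Perm GolayPt} (hσ : σ ∈ M24) {x : GolayPt → F₂}
    (hx : x ∈ golayCode) : x ∘ ⇑σ.symm ∈ golayCode := by
  have hs : σ • support₂ x ∈ supports (golayCode : Set (GolayPt → F₂)) := by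
    have h : σ • supports (golayCode : Set (GolayPt → F₂)) = supports (golayCode : Set (GolayPt → F₂)) :=
      MulAction.mem_stabilizer_iff.1 hσ
    rw [← h]
    exact Set.smul_mem_smul_set ⟨x, hx, rfl⟩
  have e : support₂ (x ∘ ⇑σ.symm) = σ • support₂ x := by
    ext p
    rw [← Finset.inv_smul_mem_iff]
    simp [support₂, Equiv.Perm.smul_def]
  rw [mem_golayCode, e]
  exact mem_supports_iff.1 hs

/-- The action on the code. -/
def act (g : G23) (x : C) : C := ⟨x.1 ∘ ⇑(g : Equiv.Perm GolayPt).symm, comp_mem (mem_M24' g) x.2⟩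

theorem act_add (g : G23) (x y : C) : act g (x + y) = act g x + act g y := rfl

theorem act_one (x : C) : act 1 x = x := Subtype.ext rfl

theorem act_mul (g h : G23) (x : C) : act (g * h) x = act g (act h x) := Subtype.ext rfl

theorem act_none (g : G23) (x : C) : (act g x).1 none = x.1 none := by
  show x.1 ((g : Equiv.Perm GolayPt).symm none) = _
  rw [show (g : Equiv.Perm GolayPt).symm none = none from
    (Equiv.symm_apply_eq _).2 (fix_none g).symm]

/-- The change of the cocycle. -/
noncomputable def delta (g : G23) (x y : C) : F₂ := beta (act g x) (act g y) + beta x y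

theorem T_act (g : G23) (x y z : C) : T (act g x).1 (act g y).1 (act g z).1 = T x.1 y.1 z.1 :=
  Equiv.sum_comp (g : Equiv.Perm GolayPt).symm fun p => x.1 p * y.1 p * z.1 p

theorem quarter_act (g : G23) (x : C) : quarter (act g x).1 = quarter x.1 := by
  have h : wt (act g x).1 = wt x.1 := by
    unfold wt
    exact Equiv.sum_comp (g : Equiv.Perm GolayPt).symm fun p => (x.1 p).val
  unfold quarter
  rw [h]

theorem delta_self (g : G23) (x : C) : delta g x x = 0 := by
  rw [delta, (beta_diag _).1, (beta_diag _).1, quarter_act, CharTwo.add_self_eq_zero]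

theorem delta_symm (g : G23) (x y : C) : delta g x y = delta g y x := by
  have h1 := beta_symm (act g x) (act g y)
  have h2 := beta_symm x y
  rw [← act_add, quarter_act, quarter_act, quarter_act, ← h2] at h1
  revert h1
  unfold delta
  generalize beta (act g x) (act g y) = a, beta (act g y) (act g x) = c, beta x y = d,
    beta y x = u
  revert a c d u
  decide

theorem delta_cocycle (g : G23) (x y z : C) :
    delta g x y + delta g (x + y) z + delta g x (y + z) + delta g y z = 0 := by
  have h1 := beta_assoc (act g x) (act g y) (act g z)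
  have h2 := beta_assoc x y z
  rw [← act_add, ← act_add, T_act, ← h2] at h1
  revert h1
  unfold delta
  generalize beta (act g x) (act g y) = a1, beta (act g (x + y)) (act g z) = a2,
    beta (act g x) (act g (y + z)) = a3, beta (act g y) (act g z) = a4,
    beta x y = c1, beta (x + y) z = c2, beta x (y + z) = c3, beta y z = c4
  revert a1 a2 a3 a4 c1 c2 c3 c4
  decide

theorem delta_zero (g : G23) (y : C) : delta g 0 y = 0 := by
  rw [delta, beta_zero_left, show act g 0 = 0 from rfl, beta_zero_left, add_zero]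

/-- `f` trivialises the change of the cocycle. -/
def Fits (g : G23) (f : C → F₂) : Prop :=
  ∀ x y, f (x + y) + f x + f y = delta g x y

/-- The extension of the code by a bit along `delta g`. -/
@[ext] structure Ext (g : G23) where
  bit : F₂
  vec : C

namespace Ext

variable {g : G23}

noncomputable instance extAdd : Add (Ext g) :=
  ⟨fun u v => ⟨u.bit + v.bit + delta g u.vec v.vec, u.vec + v.vec⟩⟩
instance extZero : Zero (Ext g) := ⟨⟨0, 0⟩⟩
instance extNeg : Neg (Ext g) := ⟨fun u => u⟩

theorem add_def (u v : Ext g) :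
    u + v = ⟨u.bit + v.bit + delta g u.vec v.vec, u.vec + v.vec⟩ := rfl

theorem self_add (u : Ext g) : u + u = 0 := by
  rw [add_def, delta_self, CharTwo.add_self_eq_zero, add_zero]
  exact Ext.ext rfl (Subtype.ext (funext fun _ => CharTwo.add_self_eq_zero _))

noncomputable instance extGroup : AddCommGroup (Ext g) where
  add_assoc u v w := by
    refine Ext.ext ?_ (add_assoc _ _ _)
    show u.bit + v.bit + delta g u.vec v.vec + w.bit + delta g (u.vec + v.vec) w.vec
      = u.bit + (v.bit + w.bit + delta g v.vec w.vec) + delta g u.vec (v.vec + w.vec)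
    have h := delta_cocycle g u.vec v.vec w.vec
    revert h
    generalize u.bit = a, v.bit = c, w.bit = d, delta g u.vec v.vec = d1,
      delta g (u.vec + v.vec) w.vec = d2, delta g u.vec (v.vec + w.vec) = d3,
      delta g v.vec w.vec = d4
    revert a c d d1 d2 d3 d4
    decide
  zero_add u := by
    refine Ext.ext ?_ (zero_add _)
    show 0 + u.bit + delta g 0 u.vec = _
    rw [delta_zero, zero_add, add_zero]
  add_zero u := by
    refine Ext.ext ?_ (add_zero _)
    show u.bit + 0 + delta g u.vec 0 = _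
    rw [delta_symm, delta_zero, add_zero, add_zero]
  neg_add_cancel u := self_add u
  add_comm u v := by
    refine Ext.ext ?_ (add_comm _ _)
    show u.bit + v.bit + delta g u.vec v.vec = v.bit + u.bit + delta g v.vec u.vec
    rw [delta_symm, add_comm u.bit]
  nsmul := nsmulRec
  zsmul := zsmulRec

end Ext

theorem exists_fits (g : G23) : ∃ f, Fits g f := by
  letI : Module F₂ (Ext g) := AddCommGroup.zmodModule fun u => by
    rw [two_nsmul]; exact Ext.self_add u
  let π : Ext g →ₗ[F₂] C :=
    AddMonoidHom.toZModLinearMap 2 (AddMonoidHom.mk' Ext.vec fun _ _ => rfl)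
  obtain ⟨s, hs⟩ := π.exists_rightInverse_of_surjective
    (LinearMap.range_eq_top.2 fun x => ⟨⟨0, x⟩, rfl⟩)
  have hv : ∀ x, (s x).vec = x := fun x => LinearMap.congr_fun hs x
  refine ⟨fun x => (s x).bit, fun x y => ?_⟩
  have h := congrArg Ext.bit (s.map_add x y)
  rw [Ext.add_def] at h
  simp only [hv] at h
  show (s (x + y)).bit + (s x).bit + (s y).bit = delta g x y
  rw [h]
  generalize (s x).bit = a, (s y).bit = c, delta g x y = d
  revert a c d
  decide

/-! ## The group -/

theorem fits_one : Fits 1 (fun _ => 0) := fun x y => by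
  rw [delta, act_one, act_one]; simp only [CharTwo.add_self_eq_zero, add_zero]

theorem Fits.mul {g h : G23} {f k : C → F₂} (hf : Fits g f) (hk : Fits h k) :
    Fits (g * h) (fun x => k x + f (act h x)) := fun x y => by
  have h1 := hf (act h x) (act h y)
  have h2 := hk x y
  rw [← act_add] at h1
  show k (x + y) + f (act h (x + y)) + (k x + f (act h x)) + (k y + f (act h y)) = _
  revert h1 h2
  unfold delta
  rw [act_mul, act_mul]
  generalize beta (act g (act h x)) (act g (act h y)) = a1, beta (act h x) (act h y) = a2,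
    beta x y = a3, k (x + y) = u1, k x = u2, k y = u3, f (act h (x + y)) = v1,
    f (act h x) = v2, f (act h y) = v3
  revert a1 a2 a3 u1 u2 u3 v1 v2 v3
  decide

def Moves (g : G23) (f : C → F₂) (π : Equiv.Perm (C × F₂)) : Prop :=
  ∀ z, π z = (act g z.1, z.2 + f z.1)

noncomputable def big : Submonoid (G23 × Equiv.Perm (C × F₂)) where
  carrier := {u | ∃ f, Fits u.1 f ∧ Moves u.1 f u.2}
  one_mem' := ⟨_, fits_one, fun z => by
    show z = (act (1 : G23) z.1, z.2 + 0)
    rw [act_one, add_zero]⟩
  mul_mem' := by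
    rintro u v ⟨f, hf, hu⟩ ⟨k, hk, hv⟩
    refine ⟨_, hf.mul hk, fun z => ?_⟩
    show u.2 (v.2 z) = _
    rw [hv, hu]
    refine Prod.ext (act_mul _ _ _).symm ?_
    show z.2 + k z.1 + f (act v.1 z.1) = _
    rw [add_assoc]

noncomputable def E0 : Subgroup (G23 × Equiv.Perm (C × F₂)) where
  toSubmonoid := big
  inv_mem' {u} hu := by
    have h : u⁻¹ = u ^ (orderOf u - 1) := inv_eq_of_mul_eq_one_right (by
      rw [← pow_succ', Nat.sub_add_cancel (orderOf_pos u), pow_orderOf_eq_one])
    rw [h]
    exact pow_mem (S := big) hu _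

/-- The function of an element. -/
def fn (u : ↥E0) (x : C) : F₂ := (u.1.2 (x, 0)).2

theorem moves (u : ↥E0) : Fits u.1.1 (fn u) ∧ Moves u.1.1 (fn u) u.1.2 := by
  obtain ⟨f, hf, hm⟩ := u.2
  have : fn u = f := funext fun x => by rw [fn, hm]; exact zero_add _
  rw [this]; exact ⟨hf, hm⟩

theorem ext_elt {u v : ↥E0} (h1 : u.1.1 = v.1.1) (h2 : fn u = fn v) : u = v := by
  refine Subtype.ext (Prod.ext h1 (Equiv.ext fun z => ?_))
  rw [(moves u).2, (moves v).2, h1, h2]

theorem fn_mul (u v : ↥E0) (x : C) : fn (u * v) x = fn v x + fn u (act v.1.1 x) := by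
  show (u.1.2 (v.1.2 (x, 0))).2 = _
  rw [(moves v).2, (moves u).2]
  show 0 + fn v x + fn u (act v.1.1 x) = _
  rw [zero_add]

theorem fn_one (x : C) : fn 1 x = 0 := rfl

theorem proj_surjective (g : G23) : ∃ u : ↥E0, u.1.1 = g := by
  obtain ⟨f, hf⟩ := exists_fits g
  let π : Equiv.Perm (C × F₂) :=
    { toFun := fun z => (act g z.1, z.2 + f z.1)
      invFun := fun z => (act g⁻¹ z.1, z.2 + f (act g⁻¹ z.1))
      left_inv := fun z => by
        refine Prod.ext ?_ ?_
        · show act g⁻¹ (act g z.1) = z.1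
          rw [← act_mul, inv_mul_cancel, act_one]
        · show z.2 + f z.1 + f (act g⁻¹ (act g z.1)) = z.2
          rw [← act_mul, inv_mul_cancel, act_one, add_assoc, CharTwo.add_self_eq_zero, add_zero]
      right_inv := fun z => by
        refine Prod.ext ?_ ?_
        · show act g (act g⁻¹ z.1) = z.1
          rw [← act_mul, mul_inv_cancel, act_one]
        · show z.2 + f (act g⁻¹ z.1) + f (act g⁻¹ z.1) = z.2
          rw [add_assoc, CharTwo.add_self_eq_zero, add_zero] }
  exact ⟨⟨(g, π), f, hf, fun z => rfl⟩, rfl⟩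

theorem functional_data (w : GolayPt → F₂) : Fits 1 (fun x => ∑ p, w p * x.1 p) := fun x y => by
  rw [delta, act_one, act_one, CharTwo.add_self_eq_zero]
  simp only [Submodule.coe_add, Pi.add_apply, mul_add, sum_add_distrib]
  generalize (∑ p, w p * x.1 p) = a, (∑ p, w p * y.1 p) = c
  revert a c
  decide

/-- The element over the identity given by a word. -/
def shiftPerm (w : GolayPt → F₂) : Equiv.Perm (C × F₂) where
  toFun z := (z.1, z.2 + ∑ p, w p * z.1.1 p)
  invFun z := (z.1, z.2 + ∑ p, w p * z.1.1 p)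
  left_inv z := by simp [add_assoc, CharTwo.add_self_eq_zero]
  right_inv z := by simp [add_assoc, CharTwo.add_self_eq_zero]

noncomputable def lin (w : GolayPt → F₂) : ↥E0 :=
  ⟨(1, shiftPerm w), _, functional_data w, fun z => by rw [act_one]; rfl⟩

theorem fn_lin (w : GolayPt → F₂) (x : C) : fn (lin w) x = ∑ p, w p * x.1 p := zero_add _

theorem lin_add (v w : GolayPt → F₂) : lin (v + w) = lin v * lin w := by
  refine ext_elt (one_mul 1).symm (funext fun x => ?_)
  rw [fn_mul, fn_lin, fn_lin, fn_lin, show (lin w).1.1 = 1 from rfl, act_one]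
  simp only [Pi.add_apply, add_mul, sum_add_distrib]
  rw [add_comm]

theorem lin_zero : lin 0 = 1 :=
  ext_elt rfl (funext fun x => by rw [fn_lin, fn_one]; simp)

theorem sum_single (x : GolayPt → F₂) :
    ∑ p, (Pi.single none 1 : GolayPt → F₂) p * x p = x none := by
  rw [Finset.sum_eq_single (none : GolayPt)]
  · simp
  · intro p _ hp; rw [Pi.single_eq_of_ne hp]; simp
  · simp

/-- The central element. -/
noncomputable def zeta : ↥E0 := lin (Pi.single none 1)

theorem fn_conj {u : ↥E0} (w : GolayPt → F₂) :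
    u * lin w = lin (w ∘ ⇑(u.1.1 : Equiv.Perm GolayPt).symm) * u := by
  refine ext_elt ?_ (funext fun x => ?_)
  · show u.1.1 * 1 = 1 * u.1.1
    rw [mul_one, one_mul]
  · have e : ∑ p, w p * x.1 p = ∑ p, (w ∘ ⇑(u.1.1 : Equiv.Perm GolayPt).symm) p * (act u.1.1 x).1 p :=
      (Equiv.sum_comp (u.1.1 : Equiv.Perm GolayPt).symm fun p => w p * x.1 p).symm
    rw [fn_mul, fn_mul, fn_lin, fn_lin, show (lin w).1.1 = 1 from rfl, act_one, e]
    exact add_comm _ _

theorem single_comp (g : G23) :
    (Pi.single none 1 : GolayPt → F₂) ∘ ⇑(g : Equiv.Perm GolayPt).symm = Pi.single none 1 := by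
  funext p
  have h : (g : Equiv.Perm GolayPt).symm p = none ↔ p = none := by
    rw [Equiv.symm_apply_eq, fix_none]
  simp only [Function.comp_apply, Pi.single_apply, h]

theorem zeta_central (u : ↥E0) : u * zeta = zeta * u := by
  rw [zeta, fn_conj, single_comp]

noncomputable def Zc : Subgroup ↥E0 := Subgroup.zpowers zeta

instance Zc_normal : Zc.Normal := ⟨fun n hn u => by
  obtain ⟨i, rfl⟩ := hn
  rw [show u * zeta ^ i = zeta ^ i * u from
    ((show Commute u zeta from zeta_central u).zpow_right i), mul_inv_cancel_right]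
  exact ⟨i, rfl⟩⟩

/-- The extension. -/
abbrev EExt : Type := ↥E0 ⧸ Zc

noncomputable def proj0 : ↥E0 →* G23 := (MonoidHom.fst _ _).comp E0.subtype

noncomputable def proj : EExt →* G23 :=
  QuotientGroup.lift Zc proj0 (Subgroup.zpowers_le.2 (MonoidHom.mem_ker.2 rfl))

theorem proj_mk (u : ↥E0) : proj (QuotientGroup.mk u) = u.1.1 := rfl

theorem proj_surj : Function.Surjective proj := fun g => by
  obtain ⟨u, hu⟩ := proj_surjective g
  exact ⟨QuotientGroup.mk u, hu⟩

noncomputable def phi : EExt ⧸ proj.ker ≃* G23 :=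
  QuotientGroup.quotientKerEquivOfSurjective proj proj_surj

theorem phi_mk (u : EExt) : phi (QuotientGroup.mk u) = proj u := rfl

noncomputable def theta : (GolayPt → F₂) →+ Additive ↥proj.ker :=
  AddMonoidHom.mk' (fun w => Additive.ofMul ⟨QuotientGroup.mk (lin w), MonoidHom.mem_ker.2 rfl⟩)
    fun v w => congrArg Additive.ofMul (Subtype.ext (congrArg QuotientGroup.mk (lin_add v w)))

theorem theta_apply (w : GolayPt → F₂) :
    ((theta w).toMul : EExt) = QuotientGroup.mk (lin w) := rfl

theorem zeta_sq : zeta * zeta = 1 := by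
  have h : ∀ v : GolayPt → F₂, v + v = 0 := fun v => funext fun _ => CharTwo.add_self_eq_zero _
  rw [zeta, ← lin_add, h, lin_zero]

theorem mem_Zc {u : ↥E0} : u ∈ Zc ↔ u = 1 ∨ u = zeta := by
  constructor
  · rintro ⟨i, rfl⟩
    rcases Int.even_or_odd i with ⟨k, rfl⟩ | ⟨k, rfl⟩
    · left
      show zeta ^ (k + k) = 1
      rw [zpow_add, ← (Commute.refl zeta).mul_zpow, zeta_sq, one_zpow]
    · right
      show zeta ^ (2 * k + 1) = zeta
      rw [zpow_add, zpow_mul, zpow_one, show zeta ^ (2 : ℤ) = 1 by rw [zpow_two]; exact zeta_sq,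
        one_zpow, one_mul]
  · rintro (rfl | rfl)
    · exact one_mem _
    · exact Subgroup.mem_zpowers _

theorem sum_bWord_mem {w : GolayPt → F₂} (h : ∀ x : C, ∑ p, w p * x.1 p = 0) : w ∈ golayCode := by
  obtain ⟨v, hv, hvs⟩ : support₂ w ∈ supports (golayCode : Set (GolayPt → F₂)) := by
    refine M22Aut.even_enc_inter fun i hi => ?_
    have h1 := h ⟨wordOf (basisMask i), mem_golayCode.2 (by
      rw [support₂_wordOf, maskOf_setOfMask (inCode_lt
        ((by decide +kernel : ∀ j < 12, inCode (basisMask j) = true) i hi))]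
      exact (by decide +kernel : ∀ j < 12, inCode (basisMask j) = true) i hi)⟩
    have e : support₂ w ∩ setOfMask (basisMask i) =
        univ.filter (fun p => w p ≠ 0 ∧ (basisMask i).testBit (ix p)) := by
      ext p; simp [support₂, setOfMask]
    rw [← ZMod.natCast_eq_zero_iff_even, ← h1, e, card_filter, Nat.cast_sum]
    refine sum_congr rfl fun p _ => ?_
    show _ = w p * wordOf (basisMask i) p
    rw [wordOf]
    rcases (show ∀ a : F₂, a = 0 ∨ a = 1 by decide) (w p) with e' | e' <;>
      cases (basisMask i).testBit (ix p) <;> simp [e']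
  have : v = w := by
    funext p
    have h2 := congrArg (p ∈ ·) hvs
    simp only [support₂, mem_filter, mem_univ, true_and, eq_iff_iff] at h2
    revert h2
    generalize v p = a, w p = c
    revert a c
    decide
  exact this ▸ hv

theorem theta_ker (w : GolayPt → F₂) :
    theta w = 0 ↔ (w ∈ golayCode ∨ w + Pi.single none 1 ∈ golayCode) := by
  have h0 : theta w = 0 ↔ lin w ∈ Zc := by
    rw [← QuotientGroup.eq_one_iff, ← theta_apply]
    constructor
    · intro h; rw [h]; rfl
    · intro h; exact congrArg Additive.ofMul (Subtype.ext h)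
  rw [h0, mem_Zc]
  constructor
  · rintro (h | h)
    · refine .inl (sum_bWord_mem fun x => ?_)
      rw [← fn_lin, h, fn_one]
    · refine .inr (sum_bWord_mem fun x => ?_)
      rw [← fn_lin, lin_add, h, ← zeta, zeta_sq, fn_one]
  · rintro (h | h)
    · refine .inl (ext_elt rfl (funext fun x => ?_))
      rw [fn_lin, fn_one]
      exact orth h x.2
    · refine .inr (ext_elt rfl (funext fun x => ?_))
      have h1 := orth h x.2
      simp only [Pi.add_apply, add_mul, sum_add_distrib] at h1
      rw [zeta, fn_lin, fn_lin]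
      exact CharTwo.add_eq_zero.1 h1

theorem theta_surj : Function.Surjective theta := by
  intro y
  obtain ⟨u, hu⟩ := QuotientGroup.mk_surjective ((Additive.toMul y : ↥proj.ker) : EExt)
  have hk : u.1.1 = 1 := by
    rw [← proj_mk, hu]; exact MonoidHom.mem_ker.1 (Additive.toMul y).2
  have hadd : ∀ x y : C, fn u (x + y) = fn u x + fn u y := fun x y => by
    have h := (moves u).1 x y
    rw [hk, delta, act_one, act_one, CharTwo.add_self_eq_zero] at h
    revert h
    generalize fn u (x + y) = a, fn u x = c, fn u y = d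
    revert a c d
    decide
  obtain ⟨L', hL⟩ := LinearMap.exists_extend
    (AddMonoidHom.toZModLinearMap 2 (AddMonoidHom.mk' (fn u) hadd) : C →ₗ[F₂] F₂)
  refine ⟨fun p => L' (Pi.single p 1), ?_⟩
  have he : lin (fun p => L' (Pi.single p 1)) = u := by
    refine ext_elt hk.symm (funext fun x => ?_)
    rw [fn_lin, ← show L' x.1 = fn u x from LinearMap.congr_fun hL x]
    conv_rhs => rw [← Finset.univ_sum_single x.1, map_sum]
    refine sum_congr rfl fun p _ => ?_
    rw [mul_comm, ← smul_eq_mul, ← map_smul, ← Pi.single_smul, smul_eq_mul, mul_one]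
  exact congrArg Additive.ofMul (Subtype.ext ((congrArg QuotientGroup.mk he).trans hu))

theorem theta_equivariant (g : EExt) (w : GolayPt → F₂) :
    ((theta (w ∘ ⇑((phi (QuotientGroup.mk g) : G23) : Equiv.Perm GolayPt)⁻¹)).toMul : EExt)
      = g * ((theta w).toMul : EExt) * g⁻¹ := by
  obtain ⟨u, rfl⟩ := QuotientGroup.mk_surjective g
  rw [theta_apply, theta_apply, ← QuotientGroup.mk_mul, ← QuotientGroup.mk_inv,
    ← QuotientGroup.mk_mul]
  refine congrArg QuotientGroup.mk ?_
  rw [fn_conj, mul_inv_cancel_right]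
  rfl

/-! ## The obstruction -/

/-- The code word with the given coordinates. -/
noncomputable def cw (k : ℕ) : C := ⟨wordOf (enc k), enc_mem_aux k 12 le_rfl⟩

theorem cw_xor (a c : ℕ) : cw (a ^^^ c) = cw a + cw c :=
  Subtype.ext (by
    show wordOf (enc (a ^^^ c)) = wordOf (enc a) + wordOf (enc c)
    rw [enc_xor, wordOf_xor])

noncomputable def lMask (k : ℕ) (j : ℕ) : ℕ :=
  xorComb (fun i => (popc (Nat.land k (formRows.getD (12 * i + j) 0))) % 2) k 12

noncomputable def betaN (k l : ℕ) : ℕ := xorComb (fun j => lMask k j) l 12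

theorem cast_xorComb (f : ℕ → ℕ) (c : ℕ) (hf : ∀ i, f i < 2) : ∀ n,
    xorComb f c n < 2 ∧
      ((xorComb f c n : ℕ) : F₂) = ∑ i ∈ range n, ((c.testBit i).toNat : F₂) * (f i : F₂)
  | 0 => by simp [xorComb]
  | n + 1 => by
    obtain ⟨h1, h2⟩ := cast_xorComb f c hf n
    rw [xorComb_succ, sum_range_succ, ← h2, bitAt_eq]
    have h3 := hf n
    revert h1 h3
    generalize xorComb f c n = a, f n = d
    intro h1 h3
    obtain rfl | rfl : a = 0 ∨ a = 1 := by omega
    all_goals obtain rfl | rfl : d = 0 ∨ d = 1 := by omega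
    all_goals cases c.testBit n <;> decide

theorem cast_popc {k : ℕ} (m : ℕ) (hk : k < 4096) :
    ((popc (Nat.land k m) % 2 : ℕ) : F₂)
      = ∑ i : Fin 12, ((k.testBit i).toNat : F₂) * ((m.testBit i).toNat : F₂) := by
  rw [ZMod.natCast_mod, popc, popc_loop, Finset.card_filter, Nat.cast_sum]
  rw [show (24 : ℕ) = 12 + 12 from rfl, sum_range_add, sum_range (n := 12)]
  rw [show (∑ x ∈ range 12, (((if (Nat.land k m).testBit (12 + x) = true then 1 else 0 : ℕ)) : F₂)) = 0
    from sum_eq_zero fun x _ => by
      show (((if (k &&& m).testBit (12 + x) = true then 1 else 0 : ℕ)) : F₂) = 0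
      have : k.testBit (12 + x) = false := Nat.testBit_lt_two_pow
        (lt_of_lt_of_le hk (by rw [show (4096 : ℕ) = 2 ^ 12 from rfl]; exact Nat.pow_le_pow_right (by norm_num) (by omega)))
      simp [Nat.testBit_and, this], add_zero]
  refine sum_congr rfl fun i _ => ?_
  show (((if (k &&& m).testBit i = true then 1 else 0 : ℕ)) : F₂) = _
  rw [Nat.testBit_and]
  cases k.testBit i <;> cases m.testBit i <;> simp

theorem cd_cw {k : ℕ} (hk : k < 4096) (i : Fin 12) :
    cd i (cw k).1 = ((k.testBit i).toNat : F₂) := by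
  have h : (enc k &&& 4095).testBit i = k.testBit i := by rw [enc_land hk]
  rw [Nat.testBit_and, show (4095 : ℕ) = 2 ^ 12 - 1 by norm_num, Nat.testBit_two_pow_sub_one,
    decide_eq_true i.isLt, Bool.and_true] at h
  simp only [cd, cw, wordOf, ix_pt (show i.val < 24 by omega), h]
  cases k.testBit i <;> simp

theorem lMask_spec (k j : ℕ) : lMask k j < 2 ∧ (lMask k j : F₂) =
    ∑ i ∈ range 12, ((k.testBit i).toNat : F₂) *
      (((popc (Nat.land k (formRows.getD (12 * i + j) 0))) % 2 : ℕ) : F₂) :=
  cast_xorComb (fun i => (popc (Nat.land k (formRows.getD (12 * i + j) 0))) % 2) k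
    (fun _ => Nat.mod_lt _ Nat.two_pos) 12

theorem beta_cw {k l : ℕ} (hk : k < 4096) (hl : l < 4096) :
    beta (cw k) (cw l) = (betaN k l : ℕ) := by
  rw [betaN, (cast_xorComb (fun j => lMask k j) l (fun j => (lMask_spec k j).1) 12).2,
    sum_range (n := 12)]
  refine sum_congr rfl fun j _ => ?_
  rw [cd_cw hl]
  refine congrArg₂ (· * ·) rfl ?_
  show L j (cw k).1 = _
  rw [(lMask_spec k j).2, sum_range (n := 12)]
  refine sum_congr rfl fun i _ => ?_
  rw [cast_popc _ hk, mul_sum]
  refine sum_congr rfl fun m _ => ?_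
  rw [cd_cw hk, cd_cw hk]
  show coef i m j * _ = _
  rw [coef]
  ring

/-- The coordinates of the image of a word. -/
noncomputable def imgCoord (p k : ℕ) : ℕ := mimg p (enc k) &&& 4095

theorem act_cw {g : G23} {p k : ℕ} (hp : Rep (g : Equiv.Perm GolayPt) p) (hk : k < 4096) :
    act g (cw k) = cw (imgCoord p k) ∧ imgCoord p k < 4096 := by
  have hlt : imgCoord p k < 4096 := lt_of_le_of_lt Nat.and_le_right (by norm_num)
  refine ⟨?_, hlt⟩
  obtain ⟨m, hm, e⟩ := mem_golayCode_iff.1 (act g (cw k)).2
  have hcoord : m = imgCoord p k := by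
    refine Nat.eq_of_testBit_eq fun i => ?_
    by_cases hi : i < 12
    · have h1 : cd ⟨i, hi⟩ (wordOf (enc m)) = ((m.testBit i).toNat : F₂) := cd_cw hm ⟨i, hi⟩
      rw [e] at h1
      have h2 : cd ⟨i, hi⟩ (act g (cw k)).1 = (((mimg p (enc k)).testBit i).toNat : F₂) := by
        have e1 : (act g (cw k)).1 = wordOf (enc k) ∘ ⇑(g : Equiv.Perm GolayPt).symm := rfl
        rw [e1, cd, Function.comp_apply, wordOf]
        have : (mimg p (enc k)).testBit i =
            (enc k).testBit (ix ((g : Equiv.Perm GolayPt).symm (pt i))) := by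
          rw [Bool.eq_iff_iff, testBit_mimg]
          constructor
          · rintro ⟨j, hj, hb, hj'⟩
            have : (g : Equiv.Perm GolayPt).symm (pt i) = pt j := by
              rw [Equiv.symm_apply_eq]
              apply ix_injective
              rw [← hp (pt j), ix_pt hj, hj', ix_pt (show i < 24 by omega)]
            rw [this, ix_pt hj]; exact hb
          · intro h
            refine ⟨_, ix_lt _, h, ?_⟩
            rw [hp, Equiv.apply_symm_apply, ix_pt (show i < 24 by omega)]
        rw [this]
        cases (enc k).testBit (ix ((g : Equiv.Perm GolayPt).symm (pt i))) <;> simp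
      rw [h2] at h1
      have hb : (imgCoord p k).testBit i = (mimg p (enc k)).testBit i := by
        rw [imgCoord, Nat.testBit_and, show (4095 : ℕ) = 2 ^ 12 - 1 by norm_num,
          Nat.testBit_two_pow_sub_one, decide_eq_true hi, Bool.and_true]
      rw [hb]
      revert h1
      cases (mimg p (enc k)).testBit i <;> cases m.testBit i <;> decide
    · rw [Nat.testBit_lt_two_pow (lt_of_lt_of_le hm (by
        rw [show (4096 : ℕ) = 2 ^ 12 from rfl]; exact Nat.pow_le_pow_right (by norm_num) (by omega))),
        Nat.testBit_lt_two_pow (lt_of_lt_of_le hlt (by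
        rw [show (4096 : ℕ) = 2 ^ 12 from rfl]; exact Nat.pow_le_pow_right (by norm_num) (by omega)))]
  exact Subtype.ext (by rw [← e, hcoord]; rfl)

/-- The value on a word of a function vanishing on the basis. -/
noncomputable def fcN (p k : ℕ) : ℕ :=
  xorComb (fun i => (betaN (imgCoord p (k % 2 ^ i)) (imgCoord p (2 ^ i)) +
    betaN (k % 2 ^ i) (2 ^ i)) % 2) k 12

theorem fn_eq {u : ↥E0} {p : ℕ} (hp : Rep (u.1.1 : Equiv.Perm GolayPt) p) {k : ℕ} (hk : k < 4096) :
    fn u (cw k) = (fcN p k : ℕ) + ∑ i : Fin 12, ((k.testBit i).toNat : F₂) * fn u (cw (2 ^ i.val)) := by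
  have hfit := (moves u).1
  have h0 : fn u 0 = 0 := by
    have h := hfit 0 0
    rw [add_zero, delta_zero, CharTwo.add_self_eq_zero, zero_add] at h
    exact h
  rw [fcN, (cast_xorComb _ k (fun i => Nat.mod_lt _ (by norm_num)) 12).2,
    ← Fin.sum_univ_eq_sum_range (fun i => ((k.testBit i).toNat : F₂) *
      (((betaN (imgCoord p (k % 2 ^ i)) (imgCoord p (2 ^ i)) +
        betaN (k % 2 ^ i) (2 ^ i)) % 2 : ℕ) : F₂)) 12, ← sum_add_distrib]
  have key : ∀ n ≤ 12, fn u (cw (k % 2 ^ n)) = ∑ i ∈ range n, ((k.testBit i).toNat : F₂) *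
      ((((betaN (imgCoord p (k % 2 ^ i)) (imgCoord p (2 ^ i)) +
        betaN (k % 2 ^ i) (2 ^ i)) % 2 : ℕ) : F₂) + fn u (cw (2 ^ i))) := by
    intro n hn
    induction n with
    | zero =>
      rw [pow_zero, Nat.mod_one, sum_range_zero]
      have : cw 0 = 0 := Subtype.ext (by
        show wordOf (enc 0) = 0
        rw [show enc 0 = 0 by decide +kernel, wordOf_zero])
      rw [this, h0]
    | succ n ih =>
      rw [sum_range_succ, ← ih (by omega)]
      cases hb : k.testBit n
      · rw [Nat.mod_two_pow_succ_of_testBit_false hb]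
        simp
      · have hlt : k % 2 ^ n < 2 ^ n := Nat.mod_lt _ (by positivity)
        have hx : k % 2 ^ (n + 1) = (k % 2 ^ n) ^^^ 2 ^ n := by
          refine Nat.eq_of_testBit_eq fun i => ?_
          simp only [Nat.testBit_mod_two_pow, Nat.testBit_xor, Nat.testBit_two_pow]
          rcases lt_trichotomy i n with h | h | h
          · simp [h, show i < n + 1 by omega, show n ≠ i by omega]
          · subst h; simp [hb]
          · simp [show ¬ i < n by omega, show ¬ i < n + 1 by omega, show n ≠ i by omega]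
        have h2n : 2 ^ n < 4096 := Nat.pow_lt_pow_right (by norm_num) (by omega : n < 12)
        have hkn : k % 2 ^ n < 4096 := hlt.trans h2n
        have h := hfit (cw (k % 2 ^ n)) (cw (2 ^ n))
        rw [← cw_xor, ← hx, delta, (act_cw hp hkn).1, (act_cw hp h2n).1,
          beta_cw (act_cw hp hkn).2 (act_cw hp h2n).2, beta_cw hkn h2n] at h
        simp only [Bool.toNat_true, Nat.cast_one, one_mul, ZMod.natCast_mod, Nat.cast_add]
        revert h
        generalize fn u (cw (k % 2 ^ (n + 1))) = a, fn u (cw (k % 2 ^ n)) = c,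
          fn u (cw (2 ^ n)) = d,
          ((betaN (imgCoord p (k % 2 ^ n)) (imgCoord p (2 ^ n)) : ℕ) : F₂) = s,
          ((betaN (k % 2 ^ n) (2 ^ n) : ℕ) : F₂) = t
        revert a c d s t
        decide
  have h12 := key 12 le_rfl
  rw [Nat.mod_eq_of_lt (show k < 2 ^ 12 by omega), sum_range] at h12
  rw [h12]
  exact sum_congr rfl fun i _ => mul_add _ _ _
where
  Nat.mod_two_pow_succ_of_testBit_false {k n : ℕ} (hb : k.testBit n = false) :
      k % 2 ^ (n + 1) = k % 2 ^ n := by
    refine Nat.eq_of_testBit_eq fun i => ?_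
    simp only [Nat.testBit_mod_two_pow]
    rcases lt_trichotomy i n with h | h | h
    · simp [h, show i < n + 1 by omega]
    · subst h; simp [hb]
    · simp [show ¬ i < n by omega, show ¬ i < n + 1 by omega]

/-- Fold along a word: total value, total of the arguments of each generator, final word. -/
noncomputable def sweep (gp : List ℕ) : List ℕ → ℕ → ℕ × List ℕ × ℕ
  | [], k => (0, gp.map fun _ => 0, k)
  | i :: w, k =>
    let r := sweep gp w k
    let x := r.2.2
    ((r.1 + fcN (gp.getD i pone) x) % 2,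
      r.2.1.modify i (fun a => a ^^^ x),
      imgCoord (gp.getD i pone) x)

theorem cert_data : (obsGens.all fun p => isAut p && decide (pget p 23 = 23)) = true ∧
    (∀ c ∈ obsCert, (∀ i ∈ c.1, i < 2) ∧ c.2 < 4096 ∧ (enc c.2).testBit 23 = false ∧
      Mult.pprod (c.1.map fun i => obsGens.getD i pone) = pone) ∧
    ((obsCert.map fun (c : List ℕ × ℕ) => (sweep obsGens c.1 c.2).1).sum % 2 = 1) ∧
    ∀ i : Fin 2, (obsCert.map fun (c : List ℕ × ℕ) => (sweep obsGens c.1 c.2).2.1.getD i 0).foldl
      (fun a x => a ^^^ x) 0 = 0 := by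
  decide +kernel

theorem sweep_spec (h : ℕ → ↥E0) (gp : List ℕ) (hgp : gp.length = 2)
    (hr : ∀ i < 2, Rep ((h i).1.1 : Equiv.Perm GolayPt) (gp.getD i pone)) :
    ∀ (w : List ℕ), (∀ i ∈ w, i < 2) → ∀ k < 4096,
      act (Mult.wprod h w).1.1 (cw k) = cw (sweep gp w k).2.2 ∧ (sweep gp w k).2.2 < 4096 ∧
      (∀ i, (sweep gp w k).2.1.getD i 0 < 4096) ∧ (sweep gp w k).2.1.length = 2 ∧
      fn (Mult.wprod h w) (cw k) = ((sweep gp w k).1 : F₂) + ∑ i : Fin 2, ∑ b : Fin 12,
        ((((sweep gp w k).2.1.getD i 0).testBit b).toNat : F₂) * fn (h i) (cw (2 ^ b.val)) := by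
  intro w
  induction w with
  | nil =>
    intro _ k hk
    refine ⟨act_one _, hk, fun i => ?_, by simp [sweep, hgp], ?_⟩
    · simp only [sweep, List.getD_eq_getElem?_getD, List.getElem?_map]
      cases gp[i]? <;> simp
    · have : ∀ i : ℕ, (gp.map fun _ => 0).getD i 0 = 0 := fun i => by
        simp only [List.getD_eq_getElem?_getD, List.getElem?_map]
        cases gp[i]? <;> simp
      simp [sweep, Mult.wprod, fn_one, this]
  | cons i w ih =>
    intro hw k hk
    obtain ⟨h1, h2, h3, h4, h5⟩ := ih (fun j hj => hw j (List.mem_cons_of_mem _ hj)) k hk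
    have hi : i < 2 := hw i (by simp)
    set r := sweep gp w k with hr'
    set x := r.2.2
    obtain ⟨e1, e2⟩ := act_cw (hr i hi) h2
    refine ⟨?_, e2, fun j => ?_, by simp [sweep, ← hr', h4], ?_⟩
    · rw [Mult.wprod_cons]
      show act ((h i).1.1 * (Mult.wprod h w).1.1) _ = _
      rw [act_mul, h1, e1]
      rfl
    · show (r.2.1.modify i (fun a => a ^^^ x)).getD j 0 < 4096
      simp only [List.getD_eq_getElem?_getD, List.getElem?_modify]
      have := h3 j
      rw [List.getD_eq_getElem?_getD] at this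
      cases hh : r.2.1[j]? with
      | none => simp
      | some a =>
        rw [hh] at this
        simp only [Option.map_some, Option.getD_some] at this ⊢
        split_ifs
        · exact Nat.xor_lt_two_pow (n := 12) this h2
        · exact this
    · rw [Mult.wprod_cons, fn_mul, h5, h1, fn_eq (hr i hi) h2]
      show _ = (((r.1 + fcN (gp.getD i pone) x) % 2 : ℕ) : F₂) + ∑ j : Fin 2, ∑ b : Fin 12,
        ((((r.2.1.modify i (fun a => a ^^^ x)).getD j 0).testBit b).toNat : F₂) *
          fn (h j) (cw (2 ^ b.val))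
      have hmod : ∀ j : Fin 2, ∀ b : Fin 12,
          ((((r.2.1.modify i (fun a => a ^^^ x)).getD j 0).testBit b).toNat : F₂)
            = (((r.2.1.getD j 0).testBit b).toNat : F₂)
              + if j.val = i then ((x.testBit b).toNat : F₂) else 0 := by
        intro j b
        have hjl : j.val < r.2.1.length := by rw [h4]; exact j.isLt
        simp only [List.getD_eq_getElem?_getD, List.getElem?_modify,
          List.getElem?_eq_getElem hjl, Option.map_eq_map, Option.map_some, Option.getD_some]
        by_cases hji : j.val = i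
        · rw [if_pos hji.symm, if_pos hji, Nat.testBit_xor]
          cases (r.2.1[j.val]).testBit b <;> cases x.testBit b <;> decide
        · rw [if_neg (fun e => hji e.symm), if_neg hji, add_zero]
      simp only [hmod, add_mul, sum_add_distrib, ite_mul, zero_mul]
      have hsel : (∑ j : Fin 2, ∑ b : Fin 12, if j.val = i then
          ((x.testBit b).toNat : F₂) * fn (h j) (cw (2 ^ b.val)) else 0)
          = ∑ b : Fin 12, ((x.testBit b).toNat : F₂) * fn (h i) (cw (2 ^ b.val)) := by
        rw [Finset.sum_eq_single (⟨i, hi⟩ : Fin 2)]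
        · simp
        · intro j _ hj
          have : ¬ j.val = i := fun e => hj (Fin.ext e)
          simp [this]
        · simp
      rw [hsel, ZMod.natCast_mod, Nat.cast_add]
      ring

theorem nonsplit (H : Subgroup EExt) (h1 : H ⊓ proj.ker = ⊥) : H ⊔ proj.ker ≠ ⊤ := by
  intro h2
  obtain ⟨hok, hcert, hval, harg⟩ := cert_data
  have hsur : ∀ g : G23, ∃ u : ↥E0, (QuotientGroup.mk u : EExt) ∈ H ∧ u.1.1 = g := by
    intro g
    obtain ⟨v, hv⟩ := proj_surj g
    have hv' : v ∈ H ⊔ proj.ker := h2 ▸ Subgroup.mem_top v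
    rw [← SetLike.mem_coe, Subgroup.mul_normal] at hv'
    obtain ⟨a, ha, n, hn, rfl⟩ := hv'
    obtain ⟨u, rfl⟩ := QuotientGroup.mk_surjective a
    refine ⟨u, ha, ?_⟩
    rw [map_mul, MonoidHom.mem_ker.1 hn, mul_one] at hv
    exact hv
  have hgen : ∀ i, ∃ g : G23, i < 2 → Rep (g : Equiv.Perm GolayPt) (obsGens.getD i pone) := by
    intro i
    by_cases hi : i < obsGens.length
    · have h := List.all_eq_true.1 hok _ (List.getElem_mem hi)
      simp only [Bool.and_eq_true, decide_eq_true_eq] at h
      obtain ⟨g, hg⟩ := exists_M24_elt h.1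
      refine ⟨sporM23Equiv ⟨g, mem_stab_point hg h.2⟩, fun _ => ?_⟩
      rw [List.getD_eq_getElem _ _ hi]
      exact hg
    · exact ⟨1, fun h2' => absurd h2' (by
        have : obsGens.length = 2 := by decide
        omega)⟩
  choose g hg using hgen
  choose u huH hu using fun i => hsur (g i)
  have hr : ∀ i < 2, Rep ((u i).1.1 : Equiv.Perm GolayPt) (obsGens.getD i pone) :=
    fun i hi => by rw [hu i]; exact hg i hi
  have hspec := sweep_spec u obsGens (by decide) hr
  have hzero : ∀ c ∈ obsCert, fn (Mult.wprod u c.1) (cw c.2) = 0 := by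
    intro c hc
    obtain ⟨hlt, hk, hnone, hone⟩ := hcert c hc
    have hproj : (Mult.wprod u c.1).1.1 = 1 := by
      have e : (Mult.wprod u c.1).1.1 = Mult.wprod (fun i => (u i).1.1) c.1 :=
        Mult.map_wprod proj0 u c.1
      rw [e]
      apply Subtype.ext
      apply packImage_injective
      have key : ∀ w : List ℕ, (∀ i ∈ w, i < 2) → ∀ q σ, Rep σ q →
          packImage σ = q → packImage (σ * ((Mult.wprod (fun i => (u i).1.1) w : G23) : Equiv.Perm GolayPt))
            = (w.map fun i => obsGens.getD i pone).foldl pmul q := by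
        intro w
        induction w with
        | nil => intro _ q σ _ hq; simpa [Mult.wprod] using hq
        | cons i w ih =>
          intro hw q σ hσ _
          rw [Mult.wprod_cons, Subgroup.coe_mul, ← mul_assoc, List.map_cons, List.foldl_cons]
          have hm := pmul_packImage hσ (hr i (hw i (by simp)))
          exact ih (fun j hj => hw j (List.mem_cons_of_mem _ hj)) _ _
            (hm ▸ rep_packImage _) hm.symm
      have := key c.1 hlt pone 1 Rep.one packImage_one
      rw [one_mul] at this
      rw [this]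
      exact hone.trans packImage_one.symm
    have hmem : (QuotientGroup.mk (Mult.wprod u c.1) : EExt) ∈ H := by
      rw [← QuotientGroup.mk'_apply, Mult.map_wprod]
      exact Subgroup.list_prod_mem _ fun x hx => by
        obtain ⟨i, -, rfl⟩ := List.mem_map.1 hx
        exact huH i
    have hbot : (QuotientGroup.mk (Mult.wprod u c.1) : EExt) = 1 := by
      rw [← Subgroup.mem_bot, ← h1]
      exact ⟨hmem, MonoidHom.mem_ker.2 hproj⟩
    rcases mem_Zc.1 ((QuotientGroup.eq_one_iff _).1 hbot) with e | e
    · rw [e, fn_one]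
    · rw [e, zeta, fn_lin, sum_single, show (cw c.2).1 = wordOf (enc c.2) from rfl, wordOf,
        show ix (none : GolayPt) = 23 from rfl, hnone]
      rfl
  have htot : ∀ l : List (List ℕ × ℕ), (∀ c ∈ l, c ∈ obsCert) →
      ((l.map fun (c : List ℕ × ℕ) => (sweep obsGens c.1 c.2).1).sum : F₂) + ∑ i : Fin 2, ∑ b : Fin 12,
        ((((l.map fun (c : List ℕ × ℕ) => (sweep obsGens c.1 c.2).2.1.getD i 0).foldl (fun a x => a ^^^ x) 0).testBit
          b).toNat : F₂) * fn (u i) (cw (2 ^ b.val)) = 0 := by
    intro l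
    induction l using List.reverseRecOn with
    | nil => intro _; simp
    | append_singleton l c ih =>
      intro hl
      have hc : c ∈ obsCert := hl c (by simp)
      obtain ⟨hlt, hk, -, -⟩ := hcert c hc
      have h5 := (hspec c.1 hlt c.2 hk).2.2.2.2
      rw [hzero c hc] at h5
      have hih := ih fun d hd => hl d (List.mem_append_left _ hd)
      simp only [List.map_append, List.map_cons, List.map_nil, List.sum_append, List.sum_cons,
        List.sum_nil, List.foldl_append, List.foldl_cons, List.foldl_nil, Nat.testBit_xor,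
        add_zero, Nat.cast_add]
      have hx : ∀ p q : Bool, (((p ^^ q).toNat : ℕ) : F₂) = (p.toNat : F₂) + (q.toNat : F₂) := by
        decide
      simp only [hx, add_mul, sum_add_distrib]
      calc _ = ((((l.map fun (c : List ℕ × ℕ) => (sweep obsGens c.1 c.2).1).sum : ℕ) : F₂) + ∑ i : Fin 2, ∑ b : Fin 12,
            ((((l.map fun (c : List ℕ × ℕ) => (sweep obsGens c.1 c.2).2.1.getD i 0).foldl (fun a x => a ^^^ x) 0).testBit
              b).toNat : F₂) * fn (u i) (cw (2 ^ b.val))) +
          (((sweep obsGens c.1 c.2).1 : F₂) + ∑ i : Fin 2, ∑ b : Fin 12,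
            ((((sweep obsGens c.1 c.2).2.1.getD i 0).testBit b).toNat : F₂) *
              fn (u i) (cw (2 ^ b.val))) := by ring
        _ = 0 := by rw [hih, ← h5, add_zero]
  have h := htot obsCert (fun c hc => hc)
  rw [show ((obsCert.map fun (c : List ℕ × ℕ) => (sweep obsGens c.1 c.2).1).sum : F₂) = 1 by
    rw [← ZMod.natCast_mod, hval]; rfl] at h
  simp only [harg, Nat.zero_testBit, Bool.toNat_false, Nat.cast_zero, zero_mul, sum_const_zero,
    add_zero] at h
  exact one_ne_zero h

theorem exists_nonsplit :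
    ∃ (E : Type) (_ : Group E) (_ : Finite E) (N : Subgroup E) (_ : N.Normal)
      (φ : E ⧸ N ≃* ↥Spor.M23) (θ : (GolayPt → ZMod 2) →+ Additive ↥N),
      Function.Surjective θ ∧
      (∀ w : GolayPt → ZMod 2, θ w = 0 ↔ (w ∈ golayCode ∨ w + Pi.single none 1 ∈ golayCode)) ∧
      (∀ (g : E) (w : GolayPt → ZMod 2),
        ((θ (w ∘ ⇑(((φ (QuotientGroup.mk g) : ↥Spor.M23) : Equiv.Perm GolayPt)⁻¹))).toMul : E)
          = g * ((θ w).toMul : E) * g⁻¹) ∧
      ∀ H : Subgroup E, H ⊓ N = ⊥ → H ⊔ N ≠ ⊤ :=
  ⟨EExt, inferInstance, inferInstance, proj.ker, inferInstance, phi, theta, theta_surj, theta_ker,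
    theta_equivariant, nonsplit⟩

end CfsgLib.Sporadic.Parker
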