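import Mathlib

/-!
# The generalised quadrangle with three points on each line and three lines on each point

It is unique: a pair of points on no common line determines labels for all fifteen points.
-/

set_option autoImplicit false

namespace CfsgLib.Sporadic.QuadTwo

/-- The axioms, for lines given as three-element sets. -/
structure IsQuadTwo {α : Type*} [DecidableEq α] (P : Finset α) (L : Finset (Finset α)) : Prop where
  card_pts : P.card = 15
  card_lines : L.card = 15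
  sub : ∀ l ∈ L, l ⊆ P
  card_line : ∀ l ∈ L, l.card = 3
  degree : ∀ x ∈ P, (L.filter fun l => x ∈ l).card = 3
  two : ∀ l ∈ L, ∀ m ∈ L, ∀ x y, x ≠ y → x ∈ l → y ∈ l → x ∈ m → y ∈ m → l = m
  one : ∀ l ∈ L, ∀ x ∈ P, x ∉ l → ∃! y, y ∈ l ∧ ∃ m ∈ L, x ∈ m ∧ y ∈ m

/-- The standard lines on the labels `p q r r r s s s t t t X X X X₀`. -/
def stdLines : List (List (Fin 15)) :=
  [[0, 2, 5], [0, 3, 6], [0, 4, 7], [1, 2, 8], [1, 3, 9], [1, 4, 10], [6, 10, 11], [7, 9, 11],
    [7, 8, 12], [5, 10, 12], [5, 9, 13], [6, 8, 13], [2, 11, 14], [3, 12, 14], [4, 13, 14]]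

theorem std_facts : (stdLines.map List.toFinset).toFinset.card = 15 ∧ ∀ l ∈ stdLines, l.Nodup := by
  decide +kernel

theorem other : ∀ i k : Fin 3, ∃ o, o ≠ i ∧ o ≠ k := by decide

variable {α : Type*} [DecidableEq α] {P : Finset α} {L : Finset (Finset α)}

/-- Joined by a line. -/
def Col (L : Finset (Finset α)) (x y : α) : Prop := ∃ m ∈ L, x ∈ m ∧ y ∈ m

theorem Col.symm {x y : α} (h : Col L x y) : Col L y x := by
  obtain ⟨m, hm, a, b⟩ := h; exact ⟨m, hm, b, a⟩

theorem third (h : IsQuadTwo P L) {l : Finset α} (hl : l ∈ L) {x y : α} (hxy : x ≠ y) (hx : x ∈ l) (hy : y ∈ l) :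
    ∃ z, z ≠ x ∧ z ≠ y ∧ l = {x, y, z} := by
  have hc : ((l.erase x).erase y).card = 1 := by
    rw [Finset.card_erase_of_mem (Finset.mem_erase.2 ⟨hxy.symm, hy⟩), Finset.card_erase_of_mem hx, h.card_line l hl]
  obtain ⟨z, hz⟩ := Finset.card_eq_one.1 hc
  have hm := hz ▸ Finset.mem_singleton_self z
  simp only [Finset.mem_erase] at hm
  refine ⟨z, hm.2.1, hm.1, ?_⟩
  ext w
  simp only [Finset.mem_insert, Finset.mem_singleton]
  constructor
  · intro hw
    by_cases h1 : w = x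
    · exact Or.inl h1
    by_cases h2 : w = y
    · exact Or.inr (Or.inl h2)
    have : w ∈ (l.erase x).erase y := by simp [h1, h2, hw]
    rw [hz, Finset.mem_singleton] at this
    exact Or.inr (Or.inr this)
  · rintro (rfl | rfl | rfl)
    exacts [hx, hy, hm.2.2]

/-- Three pairwise joined points lie on one line. -/
theorem no_triangle (h : IsQuadTwo P L) {x y z : α} {l : Finset α} (hl : l ∈ L) (hy : y ∈ l) (hz : z ∈ l)
    (hyz : y ≠ z) (hxy : Col L x y) (hxz : Col L x z) : x ∈ l := by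
  by_contra hx
  obtain ⟨m, hm, hxm, hym⟩ := hxy
  obtain ⟨w, -, hu⟩ := h.one l hl x (h.sub m hm hxm) hx
  obtain ⟨m', hm', a, b⟩ := hxz
  exact hyz ((hu y ⟨hy, m, hm, hxm, hym⟩).trans (hu z ⟨hz, m', hm', a, b⟩).symm)

theorem lines_at (h : IsQuadTwo P L) {x : α} (hx : x ∈ P) :
    ∃ l : Fin 3 → Finset α, Function.Injective l ∧ ∀ m, (m ∈ L ∧ x ∈ m) ↔ ∃ i, l i = m := by
  let e := (L.filter fun m => x ∈ m).equivFinOfCardEq (h.degree x hx)
  refine ⟨fun i => (e.symm i).1, fun i j hij => e.symm.injective (Subtype.ext hij), fun m => ⟨fun hm => ?_, ?_⟩⟩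
  · exact ⟨e ⟨m, Finset.mem_filter.2 hm⟩, by simp⟩
  · rintro ⟨i, rfl⟩
    exact Finset.mem_filter.1 (e.symm i).2

theorem exists_noncol (h : IsQuadTwo P L) {x : α} (hx : x ∈ P) : ∃ y ∈ P, ¬ Col L x y := by
  classical
  by_contra! hall
  have hsub : P ⊆ (L.filter fun m => x ∈ m).biUnion id := fun y hy => by
    obtain ⟨m, hm, a, b⟩ := hall y hy
    exact Finset.mem_biUnion.2 ⟨m, Finset.mem_filter.2 ⟨hm, a⟩, b⟩
  have := (Finset.card_le_card hsub).trans (Finset.card_biUnion_le_card_mul _ _ 3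
    fun m hm => le_of_eq (h.card_line m (Finset.mem_filter.1 hm).1))
  rw [h.card_pts, h.degree x hx] at this
  omega

theorem labelling (h : IsQuadTwo P L) :
    ∃ φ : Fin 15 → α, Function.Injective φ ∧ Finset.univ.image φ = P ∧
      L = (stdLines.map fun l => l.toFinset.image φ).toFinset := by
  classical
  obtain ⟨p, hp⟩ : P.Nonempty := Finset.card_pos.1 (by rw [h.card_pts]; norm_num)
  obtain ⟨q, hq, hpq⟩ := exists_noncol h hp
  obtain ⟨l, hli, hl⟩ := lines_at h hp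
  have hlL : ∀ i, l i ∈ L ∧ p ∈ l i := fun i => (hl _).2 ⟨i, rfl⟩
  have hqn : ∀ i, q ∉ l i := fun i hi => hpq ⟨l i, (hlL i).1, (hlL i).2, hi⟩
  have hr' : ∀ i, ∃ r, r ∈ l i ∧ Col L q r := fun i => (h.one _ (hlL i).1 q hq (hqn i)).exists
  choose r hrl hqr using hr'
  have hrp : ∀ i, r i ≠ p := fun i e => hpq (e ▸ hqr i).symm
  have hs' : ∀ i, ∃ s, s ≠ p ∧ s ≠ r i ∧ l i = {p, r i, s} := fun i =>
    third h (hlL i).1 (hrp i).symm (hlL i).2 (hrl i)
  choose s hsp hsr hls using hs'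
  choose m hmL hqm hrm using hqr
  have hrq : ∀ i, r i ≠ q := fun i e => hqn i (e ▸ hrl i)
  have ht' : ∀ i, ∃ t, t ≠ q ∧ t ≠ r i ∧ m i = {q, r i, t} := fun i =>
    third h (hmL i) (hrq i).symm (hqm i) (hrm i)
  choose t htq htr hmt using ht'
  have hsl : ∀ i, s i ∈ l i := fun i => by rw [hls i]; simp
  have htm : ∀ i, t i ∈ m i := fun i => by rw [hmt i]; simp
  have hpm : ∀ i, p ∉ m i := fun i hi => hpq ⟨m i, hmL i, hi, hqm i⟩
  have cpr : ∀ i, Col L p (r i) := fun i => ⟨l i, (hlL i).1, (hlL i).2, hrl i⟩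
  have cqr : ∀ i, Col L q (r i) := fun i => ⟨m i, hmL i, hqm i, hrm i⟩
  have lsep : ∀ i j x, x ≠ p → x ∈ l i → x ∈ l j → i = j := fun i j x hx a b =>
    hli (h.two _ (hlL i).1 _ (hlL j).1 p x hx.symm (hlL i).2 a (hlL j).2 b)
  have hm_inj : Function.Injective m := fun i j e => by
    by_contra hne
    have hij : r i ≠ r j := fun e' => hne (lsep i j (r i) (hrp i) (hrl i) (e' ▸ hrl j))
    exact hpm j (no_triangle h (hmL j) (e ▸ hrm i) (hrm j) hij (cpr i) (cpr j))
  have msep : ∀ i j x, x ≠ q → x ∈ m i → x ∈ m j → i = j := fun i j x hx a b =>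
    hm_inj (h.two _ (hmL i) _ (hmL j) q x hx.symm (hqm i) a (hqm j) b)
  have hl_all : ∀ x, Col L p x → ∃ i, x ∈ l i := fun x ⟨n, hn, a, b⟩ => by
    obtain ⟨i, hi⟩ := (hl n).1 ⟨hn, a⟩
    exact ⟨i, hi ▸ b⟩
  have hm_all : ∀ x, Col L q x → ∃ i, x ∈ m i := fun x ⟨n, hn, a, b⟩ => by
    obtain ⟨k, hk, hku⟩ := lines_at h hq
    obtain ⟨i0, hi0⟩ := (hku n).1 ⟨hn, a⟩
    have hex : ∀ i, ∃ j, k j = m i := fun i => (hku _).1 ⟨hmL i, hqm i⟩
    choose f hf using hex
    have hfi : Function.Injective f := fun i j e => hm_inj (by rw [← hf i, ← hf j, e])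
    obtain ⟨i, hi⟩ := (Finite.injective_iff_surjective.1 hfi) i0
    exact ⟨i, by rw [← hf i, hi, hi0]; exact b⟩
  -- what is not joined
  have hsq : ∀ i, ¬ Col L q (s i) := fun i hc =>
    hqn i (no_triangle h (hlL i).1 (hrl i) (hsl i) (hsr i).symm (cqr i) hc)
  have htp : ∀ i, ¬ Col L p (t i) := fun i hc =>
    hpm i (no_triangle h (hmL i) (hrm i) (htm i) (htr i).symm (cpr i) hc)
  have hst : ∀ i, ¬ Col L (s i) (t i) := fun i hc => by
    have hti : t i ∈ l i := no_triangle h (hlL i).1 (hrl i) (hsl i) (hsr i).symm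
      ⟨m i, hmL i, htm i, hrm i⟩ hc.symm
    exact htp i ⟨l i, (hlL i).1, (hlL i).2, hti⟩
  -- the line through `s j` and `t k`
  have hcst : ∀ j k, j ≠ k → Col L (s j) (t k) := fun j k hjk => by
    have hn : s j ∉ m k := fun hm => hsq j ⟨m k, hmL k, hqm k, hm⟩
    obtain ⟨y, ⟨hy, hc⟩, -⟩ := h.one _ (hmL k) (s j) (h.sub _ (hlL j).1 (hsl j)) hn
    rw [hmt k] at hy
    simp only [Finset.mem_insert, Finset.mem_singleton] at hy
    rcases hy with rfl | rfl | rfl
    · exact absurd (Col.symm hc) (hsq j)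
    · exact absurd (lsep j k (s j) (hsp j) (hsl j)
        (no_triangle h (hlL k).1 (hlL k).2 (hrl k) (hrp k).symm ⟨l j, (hlL j).1, hsl j, (hlL j).2⟩ hc)) hjk
    · exact hc
  have hst_ne : ∀ j k, s j ≠ t k := fun j k e => htp k (e ▸ ⟨l j, (hlL j).1, (hlL j).2, hsl j⟩)
  have hn' : ∀ j k, ∃ n, j ≠ k → n ∈ L ∧ s j ∈ n ∧ t k ∈ n := fun j k => by
    by_cases hjk : j = k
    · exact ⟨∅, fun h' => absurd hjk h'⟩
    · obtain ⟨n, hn, a, b⟩ := hcst j k hjk; exact ⟨n, fun _ => ⟨hn, a, b⟩⟩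
  choose n hn using hn'
  have hx' : ∀ j k, ∃ x, j ≠ k → x ≠ s j ∧ x ≠ t k ∧ n j k = {s j, t k, x} := fun j k => by
    by_cases hjk : j = k
    · exact ⟨p, fun h' => absurd hjk h'⟩
    · obtain ⟨x, a, b, c⟩ := third h (hn j k hjk).1 (hst_ne j k) (hn j k hjk).2.1 (hn j k hjk).2.2
      exact ⟨x, fun _ => ⟨a, b, c⟩⟩
  choose x hx using hx'
  have hxn : ∀ j k, j ≠ k → x j k ∈ n j k := fun j k h' => by rw [(hx j k h').2.2]; simp
  have hxp : ∀ j k, j ≠ k → ¬ Col L p (x j k) := fun j k hjk hc => by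
    have hp' : p ∉ n j k := fun hp' => htp k ⟨_, (hn j k hjk).1, hp', (hn j k hjk).2.2⟩
    exact hp' (no_triangle h (hn j k hjk).1 (hn j k hjk).2.1 (hxn j k hjk) (hx j k hjk).1.symm
      ⟨l j, (hlL j).1, (hlL j).2, hsl j⟩ hc)
  have hxq : ∀ j k, j ≠ k → ¬ Col L q (x j k) := fun j k hjk hc => by
    have hq' : q ∉ n j k := fun hq' => hsq j ⟨_, (hn j k hjk).1, hq', (hn j k hjk).2.1⟩
    exact hq' (no_triangle h (hn j k hjk).1 (hn j k hjk).2.2 (hxn j k hjk) (hx j k hjk).2.1.symm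
      ⟨m k, hmL k, hqm k, htm k⟩ hc)
  -- the three points of the line relative to a third index
  have key : ∀ i j k, i ≠ j → i ≠ k → j ≠ k → x j k = x k j ∧ Col L (r i) (x j k) := by
    intro i j k hij hik hjk
    obtain ⟨hnL, hsn, htn⟩ := hn j k hjk
    have hskn : s k ∉ n j k := fun h' => hst k ⟨_, hnL, h', htn⟩
    obtain ⟨y, ⟨hy, hc⟩, -⟩ := h.one _ hnL (s k) (h.sub _ (hlL k).1 (hsl k)) hskn
    have hyx : y = x j k := by
      rw [(hx j k hjk).2.2] at hy
      simp only [Finset.mem_insert, Finset.mem_singleton] at hy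
      rcases hy with rfl | rfl | rfl
      · exact absurd (lsep j k (s j) (hsp j) (hsl j)
          (no_triangle h (hlL k).1 (hlL k).2 (hsl k) (hsp k).symm
            ⟨l j, (hlL j).1, hsl j, (hlL j).2⟩ (Col.symm hc))) hjk
      · exact absurd hc (hst k)
      · rfl
    rw [hyx] at hc
    have htjn : t j ∉ n j k := fun h' => hst j ⟨_, hnL, hsn, h'⟩
    obtain ⟨y', ⟨hy', hc'⟩, -⟩ := h.one _ hnL (t j) (h.sub _ (hmL j) (htm j)) htjn
    have hyx' : y' = x j k := by
      rw [(hx j k hjk).2.2] at hy'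
      simp only [Finset.mem_insert, Finset.mem_singleton] at hy'
      rcases hy' with rfl | rfl | rfl
      · exact absurd (Col.symm hc') (hst j)
      · exact absurd (msep k j (t k) (htq k) (htm k)
          (no_triangle h (hmL j) (hqm j) (htm j) (htq j).symm
            ⟨m k, hmL k, htm k, hqm k⟩ (Col.symm hc'))) hjk.symm
      · rfl
    rw [hyx'] at hc'
    obtain ⟨hnL', hsn', htn'⟩ := hn k j hjk.symm
    have hmem : x j k ∈ n k j := no_triangle h hnL' hsn' htn' (hst_ne k j) (Col.symm hc) (Col.symm hc')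
    refine ⟨?_, ?_⟩
    · rw [(hx k j hjk.symm).2.2] at hmem
      simp only [Finset.mem_insert, Finset.mem_singleton] at hmem
      rcases hmem with e | e | e
      · exact absurd (e ▸ ⟨l k, (hlL k).1, (hlL k).2, hsl k⟩ : Col L p (x j k)) (hxp j k hjk)
      · exact absurd (e ▸ ⟨m j, hmL j, hqm j, htm j⟩ : Col L q (x j k)) (hxq j k hjk)
      · exact e
    · have hrn : r i ∉ n j k := fun hr => by
        rw [(hx j k hjk).2.2] at hr
        simp only [Finset.mem_insert, Finset.mem_singleton] at hr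
        rcases hr with e | e | e
        · exact hij (lsep i j (r i) (hrp i) (hrl i) (e ▸ hsl j))
        · exact htp k (e ▸ cpr i)
        · exact hxp j k hjk (e ▸ cpr i)
      obtain ⟨y, ⟨hy, hc''⟩, -⟩ := h.one _ hnL (r i) (h.sub _ (hlL i).1 (hrl i)) hrn
      rw [(hx j k hjk).2.2] at hy
      simp only [Finset.mem_insert, Finset.mem_singleton] at hy
      rcases hy with rfl | rfl | rfl
      · exact absurd (lsep i j (r i) (hrp i) (hrl i) (no_triangle h (hlL j).1 (hlL j).2 (hsl j) (hsp j).symm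
          ⟨l i, (hlL i).1, hrl i, (hlL i).2⟩ hc'')) hij
      · exact absurd (msep i k (r i) (hrq i) (hrm i) (no_triangle h (hmL k) (hqm k) (htm k) (htq k).symm
          ⟨m i, hmL i, hrm i, hqm i⟩ hc'')) hik
      · exact hc''
  let X : Fin 3 → α := fun i => x (i + 1) (i + 2)
  have hidx : ∀ i : Fin 3, i ≠ i + 1 ∧ i ≠ i + 2 ∧ i + 1 ≠ i + 2 := by decide
  have hxX : ∀ j k : Fin 3, ∀ i, i ≠ j → i ≠ k → j ≠ k → x j k = X i := by
    intro j k i hij hik hjk
    have : (j = i + 1 ∧ k = i + 2) ∨ (j = i + 2 ∧ k = i + 1) := by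
      revert hij hik hjk; revert i j k; decide
    rcases this with ⟨rfl, rfl⟩ | ⟨rfl, rfl⟩
    · rfl
    · exact (key i _ _ (hidx i).2.1 (hidx i).1 (hidx i).2.2.symm).1
  have hrX : ∀ i, Col L (r i) (X i) := fun i => (key i _ _ (hidx i).1 (hidx i).2.1 (hidx i).2.2).2
  have hrXne : ∀ i, r i ≠ X i := fun i e =>
    hxp _ _ (hidx i).2.2 (show Col L p (X i) by rw [← e]; exact cpr i)
  choose g hgL hrg hXg using hrX
  have hy'' : ∀ i, ∃ y, y ≠ r i ∧ y ≠ X i ∧ g i = {r i, X i, y} := fun i =>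
    third h (hgL i) (hrXne i) (hrg i) (hXg i)
  choose Y hYr hYX hgY using hy''
  let φ : Fin 15 → α :=
    ![p, q, r 0, r 1, r 2, s 0, s 1, s 2, t 0, t 1, t 2, X 0, X 1, X 2, Y 0]
  have hsurj : P ⊆ Finset.univ.image φ := by
    intro z hz
    suffices hs : z = p ∨ z = q ∨ (∃ i, z = r i) ∨ (∃ i, z = s i) ∨ (∃ i, z = t i) ∨ (∃ i, z = X i) ∨ z = Y 0 by
      rw [Finset.mem_image]
      rcases hs with rfl | rfl | ⟨i, rfl⟩ | ⟨i, rfl⟩ | ⟨i, rfl⟩ | ⟨i, rfl⟩ | rfl
      · exact ⟨0, Finset.mem_univ _, rfl⟩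
      · exact ⟨1, Finset.mem_univ _, rfl⟩
      all_goals first
        | exact ⟨14, Finset.mem_univ _, rfl⟩
        | fin_cases i
      exacts [⟨2, Finset.mem_univ _, rfl⟩, ⟨3, Finset.mem_univ _, rfl⟩, ⟨4, Finset.mem_univ _, rfl⟩,
        ⟨5, Finset.mem_univ _, rfl⟩, ⟨6, Finset.mem_univ _, rfl⟩, ⟨7, Finset.mem_univ _, rfl⟩,
        ⟨8, Finset.mem_univ _, rfl⟩, ⟨9, Finset.mem_univ _, rfl⟩, ⟨10, Finset.mem_univ _, rfl⟩,
        ⟨11, Finset.mem_univ _, rfl⟩, ⟨12, Finset.mem_univ _, rfl⟩, ⟨13, Finset.mem_univ _, rfl⟩]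
    by_cases hzp : Col L p z
    · obtain ⟨i, hi⟩ := hl_all z hzp
      rw [hls i] at hi
      simp only [Finset.mem_insert, Finset.mem_singleton] at hi
      rcases hi with rfl | rfl | rfl
      exacts [Or.inl rfl, Or.inr (Or.inr (Or.inl ⟨i, rfl⟩)), Or.inr (Or.inr (Or.inr (Or.inl ⟨i, rfl⟩)))]
    by_cases hzq : Col L q z
    · obtain ⟨i, hi⟩ := hm_all z hzq
      rw [hmt i] at hi
      simp only [Finset.mem_insert, Finset.mem_singleton] at hi
      rcases hi with rfl | rfl | rfl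
      exacts [Or.inr (Or.inl rfl), Or.inr (Or.inr (Or.inl ⟨i, rfl⟩)),
        Or.inr (Or.inr (Or.inr (Or.inr (Or.inl ⟨i, rfl⟩))))]
    by_cases hzs : ∃ i, Col L z (s i)
    · obtain ⟨i, w, hw, hzw, hsw⟩ := hzs
      have hne : z ≠ s i := fun e => hzp (e ▸ ⟨l i, (hlL i).1, (hlL i).2, hsl i⟩)
      obtain ⟨u, hu1, hu2, hwe⟩ := third h hw hne hzw hsw
      obtain ⟨y, ⟨hy, hc⟩, -⟩ := h.one w hw q hq (fun hqw => hzq ⟨w, hw, hqw, hzw⟩)
      rw [hwe] at hy
      simp only [Finset.mem_insert, Finset.mem_singleton] at hy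
      rcases hy with rfl | rfl | rfl
      · exact absurd hc hzq
      · exact absurd hc (hsq i)
      obtain ⟨k, hk⟩ := hm_all _ hc
      have hyw : y ∈ w := by rw [hwe]; simp
      have hyk : y = t k := by
        rw [hmt k] at hk
        simp only [Finset.mem_insert, Finset.mem_singleton] at hk
        rcases hk with rfl | rfl | rfl
        · exact absurd ⟨w, hw, hyw, hzw⟩ hzq
        · exfalso
          by_cases hki : k = i
          · subst hki
            exact hzp ⟨w, hw, h.two _ (hlL k).1 _ hw _ _ (hsr k).symm (hrl k) (hsl k) hyw hsw ▸ (hlL k).2, hzw⟩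
          · exact hki (lsep k i (r k) (hrp k) (hrl k) (no_triangle h (hlL i).1 (hlL i).2 (hsl i) (hsp i).symm
              (cpr k).symm ⟨w, hw, hyw, hsw⟩))
        · rfl
      subst hyk
      have hik : i ≠ k := fun e => hst k ⟨w, hw, e ▸ hsw, hyw⟩
      obtain ⟨hnL, hsn, htn⟩ := hn i k hik
      have hz' : z ∈ n i k := h.two _ hw _ hnL _ _ (hst_ne i k) hsw hyw hsn htn ▸ hzw
      rw [(hx i k hik).2.2] at hz'
      simp only [Finset.mem_insert, Finset.mem_singleton] at hz'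
      rcases hz' with rfl | rfl | rfl
      · exact absurd rfl hne
      · exact absurd rfl hu1
      · obtain ⟨o, ho1, ho2⟩ := other i k
        exact Or.inr (Or.inr (Or.inr (Or.inr (Or.inr (Or.inl ⟨o, hxX i k o ho1 ho2 hik⟩)))))
    push Not at hzs
    have hzr : ∀ i, Col L z (r i) := fun i => by
      obtain ⟨y, ⟨hy, hc⟩, -⟩ := h.one _ (hlL i).1 z hz fun hzl => hzp ⟨l i, (hlL i).1, (hlL i).2, hzl⟩
      rw [hls i] at hy
      simp only [Finset.mem_insert, Finset.mem_singleton] at hy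
      rcases hy with rfl | rfl | rfl
      exacts [absurd (Col.symm hc) hzp, hc, absurd hc (hzs i)]
    obtain ⟨w, hw, hzw, hrw'⟩ := hzr 0
    obtain ⟨k, hk, hku⟩ := lines_at h (h.sub _ (hlL 0).1 (hrl 0))
    have h3 : (L.filter fun e => r 0 ∈ e) = {l 0, m 0, g 0} := by
      symm
      refine Finset.eq_of_subset_of_card_le ?_ ?_
      · intro e he
        simp only [Finset.mem_insert, Finset.mem_singleton] at he
        rcases he with rfl | rfl | rfl
        exacts [Finset.mem_filter.2 ⟨(hlL 0).1, hrl 0⟩, Finset.mem_filter.2 ⟨hmL 0, hrm 0⟩,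
          Finset.mem_filter.2 ⟨hgL 0, hrg 0⟩]
      · have e1 : l 0 ≠ m 0 := fun e => hqn 0 (e ▸ hqm 0)
        have e2 : l 0 ≠ g 0 := fun e => hxp _ _ (hidx 0).2.2 ⟨l 0, (hlL 0).1, (hlL 0).2, e ▸ hXg 0⟩
        have e3 : m 0 ≠ g 0 := fun e => hxq _ _ (hidx 0).2.2 ⟨m 0, hmL 0, hqm 0, e ▸ hXg 0⟩
        rw [h.degree _ (h.sub _ (hlL 0).1 (hrl 0)), Finset.card_insert_of_notMem (by simp [e1, e2]),
          Finset.card_pair e3]
    have : w ∈ ({l 0, m 0, g 0} : Finset (Finset α)) := h3 ▸ Finset.mem_filter.2 ⟨hw, hrw'⟩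
    simp only [Finset.mem_insert, Finset.mem_singleton] at this
    rcases this with rfl | rfl | rfl
    · exact absurd ⟨l 0, hw, (hlL 0).2, hzw⟩ hzp
    · exact absurd ⟨m 0, hw, hqm 0, hzw⟩ hzq
    rw [hgY 0] at hzw
    simp only [Finset.mem_insert, Finset.mem_singleton] at hzw
    rcases hzw with rfl | rfl | rfl
    · exact absurd (cpr 0) hzp
    · exact Or.inr (Or.inr (Or.inr (Or.inr (Or.inr (Or.inl ⟨0, rfl⟩)))))
    · exact Or.inr (Or.inr (Or.inr (Or.inr (Or.inr (Or.inr rfl)))))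
  have himg : Finset.univ.image φ = P :=
    (Finset.eq_of_subset_of_card_le hsurj (Finset.card_image_le.trans (by rw [h.card_pts]; simp))).symm
  have hinj : Function.Injective φ := by
    have := Finset.card_image_iff.1 (show (Finset.univ.image φ).card = (Finset.univ : Finset (Fin 15)).card by
      rw [himg, h.card_pts]; simp)
    intro a b e
    exact this (Finset.mem_coe.2 (Finset.mem_univ a)) (Finset.mem_coe.2 (Finset.mem_univ b)) e
  have hY : ∀ i, g i = {r i, X i, Y 0} := by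
    intro i
    have hYP : Y i ∈ P := h.sub _ (hgL i) (by rw [hgY i]; simp)
    have hYg : Y i ∈ g i := by rw [hgY i]; simp
    have hgp : p ∉ g i := fun e => hxp _ _ (hidx i).2.2 ⟨g i, hgL i, e, hXg i⟩
    have hgq : q ∉ g i := fun e => hxq _ _ (hidx i).2.2 ⟨g i, hgL i, e, hXg i⟩
    have hYnp : ¬ Col L p (Y i) := fun hc =>
      hgp (no_triangle h (hgL i) (hrg i) hYg (hYr i).symm (cpr i) hc)
    have hYnq : ¬ Col L q (Y i) := fun hc =>
      hgq (no_triangle h (hgL i) (hrg i) hYg (hYr i).symm (cqr i) hc)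
    have hXne : ∀ j, j ≠ i → Y i ≠ X j := by
      intro j hji e
      -- `X j` is joined to `s i`, so not to `r i`
      obtain ⟨o, ho1, ho2⟩ := other j i
      have hc : Col L (X j) (s i) := by
        rw [← hxX i o j hji (Ne.symm ho1) (Ne.symm ho2)]
        exact ⟨n i o, (hn i o (Ne.symm ho2)).1, hxn i o (Ne.symm ho2), (hn i o (Ne.symm ho2)).2.1⟩
      have := no_triangle h (hlL i).1 (hrl i) (hsl i) (hsr i).symm
        (⟨g i, hgL i, e ▸ hYg, hrg i⟩ : Col L (X j) (r i)) hc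
      exact hxp _ _ (hidx j).2.2 ⟨l i, (hlL i).1, (hlL i).2, this⟩
    obtain ⟨a, -, ha⟩ := Finset.mem_image.1 (himg.symm ▸ hYP : Y i ∈ Finset.univ.image φ)
    have ha' : Y i = Y 0 := by
      fin_cases a <;> simp only [φ] at ha
      · exact absurd (show Col L p (Y i) from ha ▸ ⟨l 0, (hlL 0).1, (hlL 0).2, (hlL 0).2⟩) hYnp
      · exact absurd (show Col L q (Y i) from ha ▸ ⟨m 0, hmL 0, hqm 0, hqm 0⟩) hYnq
      · exact absurd (show Col L p (Y i) from ha ▸ cpr 0) hYnp
      · exact absurd (show Col L p (Y i) from ha ▸ cpr 1) hYnp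
      · exact absurd (show Col L p (Y i) from ha ▸ cpr 2) hYnp
      · exact absurd (show Col L p (Y i) from ha ▸ ⟨l 0, (hlL 0).1, (hlL 0).2, hsl 0⟩) hYnp
      · exact absurd (show Col L p (Y i) from ha ▸ ⟨l 1, (hlL 1).1, (hlL 1).2, hsl 1⟩) hYnp
      · exact absurd (show Col L p (Y i) from ha ▸ ⟨l 2, (hlL 2).1, (hlL 2).2, hsl 2⟩) hYnp
      · exact absurd (show Col L q (Y i) from ha ▸ ⟨m 0, hmL 0, hqm 0, htm 0⟩) hYnq
      · exact absurd (show Col L q (Y i) from ha ▸ ⟨m 1, hmL 1, hqm 1, htm 1⟩) hYnq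
      · exact absurd (show Col L q (Y i) from ha ▸ ⟨m 2, hmL 2, hqm 2, htm 2⟩) hYnq
      all_goals first
        | exact ha.symm
        | (by_cases hji : (0 : Fin 3) = i
           · subst hji; first | exact absurd ha.symm (hYX 0) | exact absurd ha.symm (hXne _ (by decide))
           · by_cases hji' : (1 : Fin 3) = i
             · subst hji'; first | exact absurd ha.symm (hYX 1) | exact absurd ha.symm (hXne _ (by decide))
             · obtain rfl : i = 2 := by omega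
               first | exact absurd ha.symm (hYX 2) | exact absurd ha.symm (hXne _ (by decide)))
    rw [hgY i, ha']
  refine ⟨φ, hinj, himg, ?_⟩
  refine (Finset.eq_of_subset_of_card_le ?_ ?_).symm
  · intro e he
    rw [List.mem_toFinset, List.mem_map] at he
    obtain ⟨w, hw, rfl⟩ := he
    have hnx : ∀ j k i, j ≠ k → i ≠ j → i ≠ k → n j k = {s j, t k, X i} := fun j k i a b c => by
      rw [(hx j k a).2.2, hxX j k i b c a]
    simp only [stdLines, List.mem_cons, List.not_mem_nil, or_false] at hw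
    rcases hw with rfl | rfl | rfl | rfl | rfl | rfl | rfl | rfl | rfl | rfl | rfl | rfl | rfl | rfl | rfl <;>
      simp [φ]
    · exact hls 0 ▸ (hlL 0).1
    · exact hls 1 ▸ (hlL 1).1
    · exact hls 2 ▸ (hlL 2).1
    · exact hmt 0 ▸ hmL 0
    · exact hmt 1 ▸ hmL 1
    · exact hmt 2 ▸ hmL 2
    · exact hnx 1 2 0 (by decide) (by decide) (by decide) ▸ (hn 1 2 (by decide)).1
    · exact hnx 2 1 0 (by decide) (by decide) (by decide) ▸ (hn 2 1 (by decide)).1
    · exact hnx 2 0 1 (by decide) (by decide) (by decide) ▸ (hn 2 0 (by decide)).1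
    · exact hnx 0 2 1 (by decide) (by decide) (by decide) ▸ (hn 0 2 (by decide)).1
    · exact hnx 0 1 2 (by decide) (by decide) (by decide) ▸ (hn 0 1 (by decide)).1
    · exact hnx 1 0 2 (by decide) (by decide) (by decide) ▸ (hn 1 0 (by decide)).1
    · exact hY 0 ▸ hgL 0
    · exact hY 1 ▸ hgL 1
    · exact hY 2 ▸ hgL 2
  · rw [h.card_lines, show (stdLines.map fun l => l.toFinset.image φ).toFinset =
        (stdLines.map List.toFinset).toFinset.image (Finset.image φ) by ext; simp]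
    refine le_of_eq ?_
    rw [Finset.card_image_of_injective _ (Finset.image_injective hinj)]
    exact std_facts.1.symm

end CfsgLib.Sporadic.QuadTwo
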