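import Cfsg.Agent.Lib.Sporadic.F2Bits
import Cfsg.Agent.Lib.Sporadic.Bits
import Cfsg.Agent.Lib.Sporadic.J3LineTree

/-!
# Stabiliser chains in `GL(28,2)`

A level lists generators with their inverses, coset representatives, and for every product of a
generator with a representative the representatives it factors into.
-/

set_option autoImplicit false
set_option maxHeartbeats 600000

namespace CfsgLib.Sporadic.RuMod

open CfsgLib.Sporadic.J3 (T4)

/-- A level of a chain. -/
structure Level where
  base : ℕ
  gen : List ℕ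
  inv : List ℕ
  n : ℕ
  rep : T4
  par : T4
  edge : T4
  srt : T4
  src : List ℕ

noncomputable def Level.R (L : Level) (i : ℕ) : ℕ := L.rep.field 784 i

noncomputable def Level.img (L : Level) (i : ℕ) : ℕ := mm (L.R i) L.base

/-- A field of width 16. -/
noncomputable def f16 (e i : ℕ) : ℕ := Nat.land (Nat.shiftRight e (Nat.mul 16 i)) 65535

/-- The product of representatives selected by packed fields. -/
noncomputable def prodFrom : List Level → ℕ → ℕ
  | [], _ => one
  | L :: rest, e => mm (L.R (Nat.land e 65535)) (prodFrom rest (Nat.shiftRight e 16))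

/-- The fields are in range. -/
noncomputable def fieldsOK : List Level → ℕ → Bool
  | [], _ => true
  | L :: rest, e => Nat.blt (Nat.land e 65535) L.n && fieldsOK rest (Nat.shiftRight e 16)

noncomputable def Level.parOK (L : Level) (i : ℕ) : Bool :=
  Nat.beq i 0 || (Nat.blt (Nat.shiftRight (L.par.field 16 i) 2) i &&
    Nat.blt (Nat.land (L.par.field 16 i) 3) L.gen.length &&
    Nat.beq (L.R i) (mm (L.gen.getD (Nat.land (L.par.field 16 i) 3) 0) (L.R (Nat.shiftRight (L.par.field 16 i) 2))))

noncomputable def Level.srtOK (L : Level) (i : ℕ) : Bool :=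
  Nat.blt (L.srt.field 16 i) L.n && (Nat.beq (Nat.add i 1) L.n ||
    Nat.blt (L.img (L.srt.field 16 i)) (L.img (L.srt.field 16 (Nat.add i 1))))

noncomputable def Level.edgeOK (L : Level) (rest : List Level) (n : ℕ) : Bool :=
  fieldsOK (L :: rest) (L.edge.field 80 n) &&
    Nat.beq (mm (L.gen.getD (Nat.mod n L.gen.length) 0) (L.R (Nat.div n L.gen.length)))
      (prodFrom (L :: rest) (L.edge.field 80 n))

/-- The next generators are Schreier generators fixing the base. -/
noncomputable def Level.srcOK (L : Level) (next : List ℕ) (k : ℕ) : Bool :=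
  Nat.blt (Nat.shiftRight (Nat.land (L.src.getD k 0) 1048575) 2) L.n &&
    Nat.blt (Nat.shiftRight (L.src.getD k 0) 20) L.n &&
    Nat.blt (Nat.land (L.src.getD k 0) 3) L.gen.length &&
    Nat.beq (mm (L.R (Nat.shiftRight (L.src.getD k 0) 20)) (next.getD k 0))
      (mm (L.gen.getD (Nat.land (L.src.getD k 0) 3) 0) (L.R (Nat.shiftRight (Nat.land (L.src.getD k 0) 1048575) 2))) &&
    Nat.beq (mm (next.getD k 0) L.base) (mm one L.base)

/-- The generators are invertible. -/
noncomputable def Level.invOK (L : Level) (k : ℕ) : Bool :=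
  Nat.beq (mm (L.gen.getD k 0) (L.inv.getD k 0)) one && Nat.beq (mm (L.inv.getD k 0) (L.gen.getD k 0)) one

/-- The generators of the next level. -/
def nextGens : List Level → List ℕ
  | [] => []
  | L :: _ => L.gen

/-- The cheap checks of one level. -/
noncomputable def Level.baseOK (L : Level) (rest : List Level) : Bool :=
  Nat.beq (L.R 0) one && Nat.blt 0 L.n && forallLt L.gen.length L.invOK &&
    forallLt (nextGens rest).length (L.srcOK (nextGens rest))

/-- All checks of a chain. -/
def ChainOK : List Level → Prop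
  | [] => True
  | L :: rest => ((∀ i < L.n, L.parOK i = true) ∧ (∀ i < L.n, L.srtOK i = true) ∧
      (∀ n < L.n * L.gen.length, L.edgeOK rest n = true) ∧ L.baseOK rest = true) ∧ ChainOK rest

abbrev G28 : Type := Matrix.GeneralLinearGroup (Fin 28) (ZMod 2)

/-- The products of representatives. -/
def TSet : List Level → Set G28
  | [] => {1}
  | L :: rest => {g | ∃ i < L.n, ∃ t ∈ TSet rest, (g : Mat) = dec (L.R i) * (t : Mat)}

/-- The group generated by a list of codes. -/
noncomputable def genGroup (S : List ℕ) : Subgroup G28 :=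
  Subgroup.closure {g | ∃ k < S.length, (g : Mat) = dec (S.getD k 0)}

/-- The order given by a chain. -/
def chainSize : List Level → ℕ
  | [] => 1
  | L :: rest => L.n * chainSize rest

theorem prodFrom_mem : ∀ (Ls : List Level) (e : ℕ) {g : G28}, fieldsOK Ls e = true →
    (g : Mat) = dec (prodFrom Ls e) → (∀ L ∈ Ls, ∀ i < L.n, ∃ r : G28, (r : Mat) = dec (L.R i)) → g ∈ TSet Ls
  | [], e, g, _, hg, _ => Set.mem_singleton_iff.2 (Units.ext (by rw [hg]; exact dec_one))
  | L :: rest, e, g, hf, hg, hr => by
    simp only [fieldsOK, Bool.and_eq_true, Nat.blt_eq] at hf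
    obtain ⟨r, er⟩ := hr L List.mem_cons_self _ hf.1
    refine ⟨_, hf.1, r⁻¹ * g, ?_, ?_⟩
    · refine prodFrom_mem rest _ hf.2 ?_ fun L' h' => hr L' (List.mem_cons_of_mem _ h')
      rw [Units.val_mul, hg, prodFrom, dec_mm, ← er, Units.inv_mul_cancel_left]
    · rw [← er, ← Units.val_mul, mul_inv_cancel_left]

/-- The vector of a product is the image. -/
theorem img_eq {L : Level} {i : ℕ} : dec (L.img i) = dec (L.R i) * dec L.base := dec_mm _ _

theorem img_inj {L : Level} {i j : ℕ} (h : dec (L.img i) = dec (L.img j)) : L.img i = L.img j := by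
  unfold Level.img at h ⊢
  exact dec_inj (mm_lt _ _) (mm_lt _ _) h

attribute [local irreducible] mm Level.R Level.img dec in
theorem chain_spec : ∀ (Ls : List Level), ChainOK Ls →
    (∀ g : G28, g ∈ genGroup (nextGens Ls) ↔ g ∈ TSet Ls) ∧
      Nat.card (genGroup (nextGens Ls)) = chainSize Ls ∧
      ∀ L ∈ Ls, ∀ i < L.n, ∃ r : G28, (r : Mat) = dec (L.R i)
  | [], _ => by
    have e : genGroup (nextGens []) = ⊥ := by
      rw [genGroup, Subgroup.closure_eq_bot_iff]
      rintro g ⟨k, hk, -⟩
      simp [nextGens] at hk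
    refine ⟨fun g => by rw [e, Subgroup.mem_bot]; exact Iff.rfl, ?_, by simp⟩
    rw [e]; exact Subgroup.card_bot
  | L :: rest, ⟨⟨hpar, hsrt, hedge, hbase⟩, hrest⟩ => by
    classical
    obtain ⟨ih, ihcard, ihr⟩ := chain_spec rest hrest
    simp only [Level.baseOK, Bool.and_eq_true, Nat.beq_eq, Nat.blt_eq] at hbase
    obtain ⟨⟨⟨h0, hpos⟩, hinv⟩, hsrc⟩ := hbase
    set H := genGroup L.gen with hH
    set K := genGroup (nextGens rest) with hK
    have hunit : ∀ k < L.gen.length, ∃ s ∈ H, (s : Mat) = dec (L.gen.getD k 0) := by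
      intro k hk
      have h := forallLt_elim hinv hk
      simp only [Level.invOK, Bool.and_eq_true, Nat.beq_eq] at h
      exact ⟨⟨dec (L.gen.getD k 0), dec (L.inv.getD k 0), by rw [← dec_mm, h.1, dec_one],
        by rw [← dec_mm, h.2, dec_one]⟩, Subgroup.subset_closure ⟨k, hk, rfl⟩, rfl⟩
    have hrep : ∀ i < L.n, ∃ r ∈ H, (r : Mat) = dec (L.R i) := by
      intro i
      induction i using Nat.strong_induction_on with
      | _ i ihi =>
        intro hi
        have h := hpar i hi
        simp only [Level.parOK, Bool.or_eq_true, Bool.and_eq_true, Nat.beq_eq, Nat.blt_eq] at h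
        rcases h with rfl | ⟨⟨h1, h2⟩, h3⟩
        · exact ⟨1, one_mem _, by rw [h0, dec_one]; rfl⟩
        · obtain ⟨r, hr, er⟩ := ihi _ h1 (by omega)
          obtain ⟨s, hs, es⟩ := hunit _ h2
          exact ⟨s * r, mul_mem hs hr, by rw [Units.val_mul, es, er, h3, dec_mm]⟩
    have hsrc' : ∀ k < (nextGens rest).length, ∃ t ∈ H, (t : Mat) = dec ((nextGens rest).getD k 0) ∧
        dec ((nextGens rest).getD k 0) * dec L.base = dec L.base := by
      intro k hk
      have h := forallLt_elim hsrc hk
      simp only [Level.srcOK, Bool.and_eq_true, Nat.beq_eq, Nat.blt_eq] at h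
      obtain ⟨⟨⟨⟨h1, h2⟩, h3⟩, h4⟩, h5⟩ := h
      obtain ⟨a, ha, ea⟩ := hrep _ h2
      obtain ⟨r, hr, er⟩ := hrep _ h1
      obtain ⟨s, hs, es⟩ := hunit _ h3
      refine ⟨a⁻¹ * (s * r), mul_mem (inv_mem ha) (mul_mem hs hr), ?_, ?_⟩
      · rw [Units.val_mul, Units.val_mul, es, er, ← dec_mm, ← h4, dec_mm, ← ea, Units.inv_mul_cancel_left]
      · rw [← dec_mm, h5, dec_mm, dec_one, one_mul]
    have hKH : K ≤ H := (Subgroup.closure_le _).2 fun g ⟨k, hk, eg⟩ => by
      obtain ⟨t, ht, et, -⟩ := hsrc' k hk
      rwa [Units.ext (eg.trans et.symm)]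
    have hfix : ∀ g ∈ K, (g : Mat) * dec L.base = dec L.base := by
      intro g hg
      induction hg using Subgroup.closure_induction with
      | mem g hg =>
        obtain ⟨k, hk, eg⟩ := hg
        obtain ⟨t, -, -, hb⟩ := hsrc' k hk
        rw [eg, hb]
      | one => rw [Units.val_one, one_mul]
      | mul a b _ _ iha ihb => rw [Units.val_mul, mul_assoc, ihb, iha]
      | inv a _ iha =>
        conv_lhs => rw [← iha]
        rw [Units.inv_mul_cancel_left]
    have hTH : ∀ g ∈ TSet (L :: rest), g ∈ H := by
      rintro g ⟨i, hi, t, ht, e⟩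
      obtain ⟨r, hr, er⟩ := hrep i hi
      rw [show g = r * t from Units.ext (by rw [e, Units.val_mul, er])]
      exact mul_mem hr (hKH ((ih t).2 ht))
    have hall : ∀ M ∈ L :: rest, ∀ i < M.n, ∃ r : G28, (r : Mat) = dec (M.R i) := by
      intro M hM i hi
      rcases List.mem_cons.1 hM with rfl | hM
      · obtain ⟨r, -, er⟩ := hrep i hi; exact ⟨r, er⟩
      · exact ihr M hM i hi
    have hHT : ∀ g ∈ H, g ∈ TSet (L :: rest) := by
      intro g hg
      have hg' : g ∈ Submonoid.closure {g : G28 | ∃ k < L.gen.length, (g : Mat) = dec (L.gen.getD k 0)} := by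
        rw [← Subgroup.closure_toSubmonoid_of_finite]; exact hg
      clear hg
      induction hg' using Submonoid.closure_induction_left with
      | one => exact ⟨0, hpos, 1, (ih 1).1 (one_mem _), by rw [h0, dec_one, Units.val_one, one_mul]⟩
      | mul_left x hx y _ ihy =>
        obtain ⟨k, hk, ex⟩ := hx
        obtain ⟨i, hi, t, ht, ey⟩ := ihy
        have h := hedge (L.gen.length * i + k) (by
          have : L.gen.length * (i + 1) ≤ L.gen.length * L.n := Nat.mul_le_mul_left _ hi
          rw [Nat.mul_comm L.n]; linarith)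
        simp only [Level.edgeOK, Bool.and_eq_true, Nat.beq_eq] at h
        rw [show Nat.div (L.gen.length * i + k) L.gen.length = i from by
            show (L.gen.length * i + k) / L.gen.length = i
            rw [Nat.mul_add_div (by omega), Nat.div_eq_of_lt hk, add_zero],
          show Nat.mod (L.gen.length * i + k) L.gen.length = k from by
            show (L.gen.length * i + k) % L.gen.length = k
            rw [Nat.mul_add_mod, Nat.mod_eq_of_lt hk]] at h
        obtain ⟨r, -, er⟩ := hrep i hi
        obtain ⟨j, hj, u, hu, eu⟩ := prodFrom_mem (L :: rest) _ (g := x * r) h.1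
          (by rw [Units.val_mul, ex, er, ← dec_mm, h.2]) hall
        refine ⟨j, hj, u * t, (ih _).1 (mul_mem ((ih u).2 hu) ((ih t).2 ht)), ?_⟩
        rw [Units.val_mul, ey, ← er, ← mul_assoc, ← Units.val_mul x r, eu, Units.val_mul, mul_assoc]
    refine ⟨fun g => ⟨hHT g, hTH g⟩, ?_, hall⟩
    choose r hr er using fun i : Fin L.n => hrep i i.isLt
    have hσlt : ∀ i : Fin L.n, L.srt.field 16 i < L.n := fun i => by
      have := hsrt i i.isLt
      simp only [Level.srtOK, Bool.and_eq_true, Nat.blt_eq] at this
      exact this.1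
    let σ : Fin L.n → Fin L.n := fun i => ⟨_, hσlt i⟩
    have hσ : StrictMono fun i : Fin L.n => L.img (σ i) := by
      have hstep : ∀ i, i + 1 < L.n → L.img (L.srt.field 16 i) < L.img (L.srt.field 16 (i + 1)) := fun i hi => by
        have := hsrt i (by omega)
        simp only [Level.srtOK, Bool.and_eq_true, Bool.or_eq_true, Nat.blt_eq, Nat.beq_eq] at this
        exact this.2.resolve_left (show ¬ i + 1 = L.n by omega)
      intro i j hij
      have key : ∀ d k, k + d + 1 < L.n → L.img (L.srt.field 16 k) < L.img (L.srt.field 16 (k + d + 1)) := by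
        intro d
        induction d with
        | zero => exact hstep
        | succ d ihd => intro k hk; exact (ihd k (by omega)).trans (hstep (k + d + 1) hk)
      have hij' : i.val < j.val := hij
      have := key (j.val - i.val - 1) i.val (by omega)
      rwa [show i.val + (j.val - i.val - 1) + 1 = j.val by omega] at this
    have hσs : Function.Surjective σ := Finite.surjective_of_injective fun i j h => hσ.injective (by rw [h])
    let f : Fin L.n × K → H := fun p => ⟨r p.1 * p.2.1, mul_mem (hr p.1) (hKH p.2.2)⟩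
    have hkey : ∀ (i : Fin L.n) (t : K), ((r i * t.1 : G28) : Mat) * dec L.base = dec (L.img i) := fun i t => by
      rw [Units.val_mul, mul_assoc, hfix _ t.2, er, img_eq]
    have hb : Function.Bijective f := by
      constructor
      · rintro ⟨i, t⟩ ⟨j, u⟩ h
        have h' := congrArg (Subtype.val (p := fun g : G28 => g ∈ H)) h
        simp only [f] at h'
        have h1 : dec (L.img i) = dec (L.img j) := by
          rw [← hkey i t, ← hkey j u, h']
        obtain ⟨i', rfl⟩ := hσs i
        obtain ⟨j', rfl⟩ := hσs j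
        have h2 : L.img (σ i') = L.img (σ j') := img_inj h1
        have := hσ.injective h2
        subst this
        exact Prod.ext rfl (Subtype.ext (mul_left_cancel h'))
      · rintro ⟨g, hg⟩
        obtain ⟨i, hi, t, ht, e⟩ := hHT g hg
        exact ⟨(⟨i, hi⟩, ⟨t, (ih t).2 ht⟩), Subtype.ext (Units.ext (by
          show ((r ⟨i, hi⟩ * t : G28) : Mat) = (g : Mat)
          rw [Units.val_mul, er, e]))⟩
    show Nat.card H = _
    rw [← Nat.card_eq_of_bijective f hb, Nat.card_prod, Nat.card_fin, ihcard, chainSize]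

end CfsgLib.Sporadic.RuMod
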