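import Mathlib

/-!
# A simple group as a transitive permutation group on the cosets of a subgroup

The stabiliser of the base point is the subgroup itself.
-/

set_option autoImplicit false

namespace CfsgLib.Sporadic

theorem exists_transitive_iso {G : Type*} [Group G] [Finite G] [IsSimpleGroup G] (K : Subgroup G) {n : ℕ}
    (hn : K.index = n + 2) : ∃ H : Subgroup (Equiv.Perm (Fin (n + 2))), Nonempty (G ≃* H) ∧
      MulAction.IsPretransitive H (Fin (n + 2)) ∧
      Nat.card (MulAction.stabilizer H (0 : Fin (n + 2))) = Nat.card K ∧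
      Nonempty (K ≃* MulAction.stabilizer H (0 : Fin (n + 2))) := by
  classical
  obtain ⟨e0⟩ : Nonempty (G ⧸ K ≃ Fin (n + 2)) := ⟨Finite.equivFinOfCardEq hn⟩
  let e := e0.trans (Equiv.swap (e0 ((1 : G) : G ⧸ K)) 0)
  let φ : G →* Equiv.Perm (Fin (n + 2)) :=
    e.permCongrHom.toMonoidHom.comp (MulAction.toPermHom G (G ⧸ K))
  have hφ : ∀ (g : G) (i : Fin (n + 2)), φ g i = e (g • e.symm i) := fun g i => rfl
  have hinj : Function.Injective φ := by
    rw [← MonoidHom.ker_eq_bot_iff]
    rcases φ.normal_ker.eq_bot_or_eq_top with h | h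
    · exact h
    · exfalso
      have hK : ∀ g : G, g ∈ K := fun g => by
        have h1 : φ g = 1 := MonoidHom.mem_ker.1 (h ▸ Subgroup.mem_top g)
        have h2 := congrArg (fun π : Equiv.Perm (Fin (n + 2)) => e.symm (π (e ((1 : G) : G ⧸ K)))) h1
        simp only [hφ, Equiv.symm_apply_apply, Equiv.Perm.one_apply, MulAction.Quotient.smul_coe, smul_eq_mul,
          mul_one] at h2
        have h3 := QuotientGroup.eq.1 h2
        simpa using h3
      have := Subgroup.index_eq_one.2 (eq_top_iff.2 fun g _ => hK g)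
      omega
  refine ⟨φ.range, ⟨MonoidHom.ofInjective hinj⟩, ⟨fun i j => ?_⟩, ?_⟩
  · obtain ⟨g, hg⟩ := MulAction.exists_smul_eq G (e.symm i) (e.symm j)
    exact ⟨⟨φ g, g, rfl⟩, (hφ g i).trans (by rw [hg, Equiv.apply_symm_apply])⟩
  · have he : e ((1 : G) : G ⧸ K) = 0 := by simp [e]
    have hfix : ∀ k : K, φ k 0 = 0 := fun k => by
      rw [hφ, ← he, Equiv.symm_apply_apply]
      congr 1
      rw [MulAction.Quotient.smul_coe, smul_eq_mul, mul_one, QuotientGroup.eq]
      simpa using k.2
    let f : K →* MulAction.stabilizer φ.range (0 : Fin (n + 2)) :=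
      { toFun := fun k => ⟨⟨φ k, k, rfl⟩, hfix k⟩
        map_one' := Subtype.ext (Subtype.ext (by simp))
        map_mul' := fun a b => Subtype.ext (Subtype.ext (by simp)) }
    suffices hb : Function.Bijective f from
      ⟨(Nat.card_eq_of_bijective f hb).symm, ⟨MulEquiv.ofBijective f hb⟩⟩
    refine ⟨fun a b h => ?_, ?_⟩
    · exact Subtype.ext (hinj (congrArg (fun x : MulAction.stabilizer φ.range (0 : Fin (n + 2)) =>
        ((x : φ.range) : Equiv.Perm (Fin (n + 2)))) h))
    · rintro ⟨⟨_, g, rfl⟩, hg⟩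
      have hg' : φ g 0 = 0 := hg
      rw [hφ, ← he, Equiv.symm_apply_apply] at hg'
      have := e.injective hg'
      rw [MulAction.Quotient.smul_coe, smul_eq_mul, mul_one, QuotientGroup.eq] at this
      exact ⟨⟨g, by simpa using this⟩, rfl⟩

end CfsgLib.Sporadic
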