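import Cfsg.Agent.Lib.Sporadic.NormalCentral
import Cfsg.Agent.Lib.Sporadic.TransitivePerm
import Cfsg.Agent.Lib.Sporadic.RuValid.G0
import Cfsg.Agent.Lib.Sporadic.RuValid.G1
import Cfsg.Agent.Lib.Sporadic.RuValid.G2
import Cfsg.Agent.Lib.Sporadic.RuValid.G3
import Cfsg.Agent.Lib.Sporadic.RuValid.G4
import Cfsg.Agent.Lib.Sporadic.RuValid.T0
import Cfsg.Agent.Lib.Sporadic.RuValid.T1
import Cfsg.Agent.Lib.Sporadic.RuValid.T2
import Cfsg.Agent.Lib.Sporadic.RuValid.T3
import Cfsg.Agent.Lib.Sporadic.RuValid.Syl2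
import Cfsg.Agent.Lib.Sporadic.RuValid.Syl3
import Cfsg.Agent.Lib.Sporadic.RuValid.Syl5
import Cfsg.Agent.Lib.Sporadic.RuValid.Facts
import Cfsg.Prelude.Def_Exceptional
import Cfsg.Prelude.Def_Sporadic

/-!
# The Rudvalis group inside `GL(28,2)`

The chain gives the order; two elements of order 29 generate, and a proper normal subgroup would
commute with both, hence be trivial.  The Tits subgroup is simple as the central elements of its Sylow
subgroups have products of conjugates of order 13.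
-/

set_option autoImplicit false

namespace CfsgLib.Sporadic.RuMod

open Cfsg Data
open scoped Pointwise

theorem mul_forall {m n : ℕ} {f : ℕ → Bool} (h : forallLt (m * n) f = true) : ∀ k < m * n, f k = true :=
  fun _ hk => forallLt_elim h hk

theorem gChain_ok : ChainOK gChain :=
  ⟨⟨fun _ h => forallLt_elim Valid.g0_par h, fun _ h => forallLt_elim Valid.g0_srt h, mul_forall Valid.g0_edge, Valid.g0_base⟩,
   ⟨fun _ h => forallLt_elim Valid.g1_par h, fun _ h => forallLt_elim Valid.g1_srt h, mul_forall Valid.g1_edge, Valid.g1_base⟩,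
   ⟨fun _ h => forallLt_elim Valid.g2_par h, fun _ h => forallLt_elim Valid.g2_srt h, mul_forall Valid.g2_edge, Valid.g2_base⟩,
   ⟨fun _ h => forallLt_elim Valid.g3_par h, fun _ h => forallLt_elim Valid.g3_srt h, mul_forall Valid.g3_edge, Valid.g3_base⟩,
   ⟨fun _ h => forallLt_elim Valid.g4_par h, fun _ h => forallLt_elim Valid.g4_srt h, mul_forall Valid.g4_edge, Valid.g4_base⟩,
   trivial⟩

theorem tChain_ok : ChainOK tChain :=
  ⟨⟨fun _ h => forallLt_elim Valid.t0_par h, fun _ h => forallLt_elim Valid.t0_srt h, mul_forall Valid.t0_edge, Valid.t0_base⟩,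
   ⟨fun _ h => forallLt_elim Valid.t1_par h, fun _ h => forallLt_elim Valid.t1_srt h, mul_forall Valid.t1_edge, Valid.t1_base⟩,
   ⟨fun _ h => forallLt_elim Valid.t2_par h, fun _ h => forallLt_elim Valid.t2_srt h, mul_forall Valid.t2_edge, Valid.t2_base⟩,
   ⟨fun _ h => forallLt_elim Valid.t3_par h, fun _ h => forallLt_elim Valid.t3_srt h, mul_forall Valid.t3_edge, Valid.t3_base⟩,
   trivial⟩

/-- The Rudvalis group. -/
noncomputable abbrev RG : Subgroup G28 := genGroup (nextGens gChain)

/-- Its point stabiliser. -/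
noncomputable abbrev RK : Subgroup G28 := genGroup (nextGens [g1, g2, g3, g4])

/-- The Tits subgroup. -/
noncomputable abbrev RT : Subgroup G28 := genGroup (nextGens tChain)

theorem nextGens_g : nextGens gChain = g0Gen := by simp only [gChain, nextGens, g0]

theorem nextGens_t : nextGens tChain = t0Gen := by simp only [tChain, nextGens, t0]

theorem card_RG : Nat.card RG = 145926144000 :=
  (chain_spec gChain gChain_ok).2.1.trans (by decide +kernel)

theorem card_RK : Nat.card RK = 35942400 :=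
  (chain_spec [g1, g2, g3, g4] gChain_ok.2).2.1.trans (by decide +kernel)

theorem card_RT : Nat.card RT = 17971200 :=
  (chain_spec tChain tChain_ok).2.1.trans (by decide +kernel)

theorem RK_le : RK ≤ RG := by
  intro g hg
  obtain ⟨h1, -, -⟩ := chain_spec gChain gChain_ok
  obtain ⟨h2, -, -⟩ := chain_spec [g1, g2, g3, g4] gChain_ok.2
  have h0 : dec (g0.R 0) = 1 := by
    have h := Valid.g0_base
    simp only [Level.baseOK, Bool.and_eq_true, Nat.beq_eq] at h
    rw [h.1.1.1, dec_one]
  exact (h1 g).2 ⟨0, by decide +kernel, g, (h2 g).1 hg, by rw [h0, one_mul]⟩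

theorem facts : (dec (g0Gen.getD 0 0) ^ 29 = 1 ∧ dec (g0Gen.getD 1 0) ^ 29 = 1 ∧
    dec (g0Gen.getD 0 0) ≠ 1 ∧ dec (g0Gen.getD 1 0) ≠ 1) ∧
    (dec (t0Gen.getD 0 0) ^ 13 = 1 ∧ dec (t0Gen.getD 1 0) ^ 13 = 1 ∧
    dec (t0Gen.getD 0 0) ≠ 1 ∧ dec (t0Gen.getD 1 0) ≠ 1) ∧
    (dec vMat * dec vInv = 1 ∧ dec lMat * dec mCode = dec qMat) ∧
    ∀ k < 2, fieldsOK gChain (tSift.getD k 0) = true ∧
      prodFrom gChain (tSift.getD k 0) = t0Gen.getD k 0 := by
  have h := Valid.facts
  simp only [genFacts, Bool.and_eq_true, Bool.not_eq_true'] at h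
  obtain ⟨⟨⟨⟨⟨⟨⟨⟨⟨⟨a1, a2⟩, a3⟩, a4⟩, b1⟩, b2⟩, b3⟩, b4⟩, c1⟩, c2⟩, d⟩ := h
  have hlt : ∀ x ∈ g0Gen ++ t0Gen, x < 2 ^ 784 := by decide +kernel
  have hne : ∀ {x}, x < 2 ^ 784 → Nat.beq x one = false → dec x ≠ 1 := fun {x} hx hb e => by
    rw [← dec_one] at e
    rw [dec_inj hx one_lt e] at hb
    simp at hb
  have hp : ∀ {x n}, Nat.beq (mpow x n) one = true → dec x ^ n = 1 := fun {x n} hb => by
    rw [← dec_mpow, Nat.eq_of_beq_eq_true hb, dec_one]
  refine ⟨⟨hp a1, hp a2, hne ?_ a3, hne ?_ a4⟩, ⟨hp b1, hp b2, hne ?_ b3, hne ?_ b4⟩, ⟨?_, ?_⟩, fun k hk => ?_⟩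
  · exact hlt _ (List.mem_append_left _ (by decide +kernel))
  · exact hlt _ (List.mem_append_left _ (by decide +kernel))
  · exact hlt _ (List.mem_append_right _ (by decide +kernel))
  · exact hlt _ (List.mem_append_right _ (by decide +kernel))
  · rw [← dec_mm, Nat.eq_of_beq_eq_true c1, dec_one]
  · rw [← dec_mm, Nat.eq_of_beq_eq_true c2]
  · have := forallLt_elim d hk
    simp only [Bool.and_eq_true, Nat.beq_eq] at this
    exact ⟨this.1.1, this.1.2⟩

theorem gen_elt {S : List ℕ} {k : ℕ} (hk : k < S.length) {g : G28} (hg : (g : Mat) = dec (S.getD k 0)) :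
    g ∈ genGroup S := Subgroup.subset_closure ⟨k, hk, hg⟩

theorem exists_gen (Ls : List Level) (h : ChainOK Ls) {k : ℕ} (hk : k < (nextGens Ls).length) :
    ∃ g ∈ genGroup (nextGens Ls), (g : Mat) = dec ((nextGens Ls).getD k 0) := by
  cases Ls with
  | nil => simp [nextGens] at hk
  | cons L rest =>
    have hb := h.1.2.2.2
    simp only [Level.baseOK, Bool.and_eq_true] at hb
    have hi := forallLt_elim hb.1.2 hk
    simp only [Level.invOK, Bool.and_eq_true, Nat.beq_eq] at hi
    exact ⟨⟨dec (L.gen.getD k 0), dec (L.inv.getD k 0), by rw [← dec_mm, hi.1, dec_one],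
      by rw [← dec_mm, hi.2, dec_one]⟩, gen_elt hk rfl, rfl⟩

theorem RT_le : RT ≤ RK := by
  refine (Subgroup.closure_le _).2 fun g ⟨k, hk, eg⟩ => ?_
  have hk2 : k < 2 := lt_of_lt_of_eq hk (by decide +kernel)
  obtain ⟨hf, hp⟩ := facts.2.2.2 k hk2
  have h0 : Nat.land (tSift.getD k 0) 65535 = 0 := by
    obtain rfl | rfl : k = 0 ∨ k = 1 := by omega
    all_goals decide +kernel
  have hb := Valid.g0_base
  simp only [Level.baseOK, Bool.and_eq_true, Nat.beq_eq] at hb
  obtain ⟨h2, -, h2r⟩ := chain_spec [g1, g2, g3, g4] gChain_ok.2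
  refine (h2 g).2 (prodFrom_mem [g1, g2, g3, g4] (Nat.shiftRight (tSift.getD k 0) 16) ?_ ?_ h2r)
  · simp only [gChain, fieldsOK, Bool.and_eq_true] at hf ⊢
    exact hf.2
  · rw [eg, nextGens_t, ← hp, gChain, prodFrom, dec_mm, h0, hb.1.1.1, dec_one, one_mul]

theorem dec_zero : dec 0 = 0 := by
  funext a b
  show bz (Nat.testBit 0 _) = (0 : ZMod 2)
  rw [Nat.zero_testBit]
  rfl

theorem commute_pow {Y A : Mat} (h : Commute Y A) : ∀ n : ℕ, Commute Y (A ^ n) := by
  intro n
  induction n with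
  | zero => rw [pow_zero]; exact Commute.one_right Y
  | succ n ih => rw [pow_succ]; exact ih.mul_right h

theorem commute_sum (Y : Mat) {M : ℕ} (h : Commute Y (dec M)) (b : ℕ) : ∀ n,
    Commute Y (dec (Nat.rec (motive := fun _ => ℕ) 0 (fun i acc => Nat.xor acc (cond (b.testBit i) (mpow M i) 0)) n))
  | 0 => by
    rw [Nat.rec_zero, dec_zero]
    exact Commute.zero_right _
  | n + 1 => by
    simp only
    rw [dec_xor]
    refine (commute_sum Y h b n).add_right ?_
    cases b.testBit n
    · rw [cond_false, dec_zero]; exact Commute.zero_right _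
    · rw [cond_true, dec_mpow]; exact commute_pow h n

/-- A matrix commuting with both generators is a scalar, hence `1` if it is invertible. -/
theorem eq_one_of_commute {Y : G28} (h0 : Commute (Y : Mat) (dec (g0Gen.getD 0 0)))
    (h1 : Commute (Y : Mat) (dec (g0Gen.getD 1 0))) : Y = 1 := by
  have hM : Commute (Y : Mat) (dec mCode) := by
    delta mCode mSum
    rw [dec_xor]
    exact (commute_sum _ h0 cBits 28).add_right h1
  have hcol : ∀ a : Fin 28, dec mCode a 0 = 0 := fun a => by
    show bz _ = 0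
    rw [show (28 * a.val + (0 : Fin 28).val) = 28 * a.val from add_zero _, Valid.mCode_bits a]; rfl
  obtain ⟨-, -, ⟨hV, hL⟩, -⟩ := facts
  have hq : ∀ a : Fin 28, (dec qMat * (Y : Mat)) a 0 = 0 := fun a => by
    rw [← hL, mul_assoc, ← hM.eq, ← mul_assoc, Matrix.mul_apply]
    exact Finset.sum_eq_zero fun b _ => by rw [hcol, mul_zero]
  have hY : ∀ a : Fin 28, a ≠ 0 → (Y : Mat) a 0 = 0 := fun a ha => by
    have := hq a
    rw [Matrix.mul_apply, Finset.sum_eq_single a] at this
    · have e : dec qMat a a = 1 := by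
        show bz _ = 1
        rw [Valid.qMat_bits a a]; simp [bz, ha]
      rwa [e, one_mul] at this
    · intro b _ hb
      have e : dec qMat a b = 0 := by
        show bz _ = 0
        rw [Valid.qMat_bits a b]; simp [bz, Ne.symm hb]
      rw [e, zero_mul]
    · simp
  have hcol0 : ∀ (Z : Mat), ∀ a, (Z * (Y : Mat)) a 0 = Z a 0 * (Y : Mat) 0 0 := fun Z a => by
    rw [Matrix.mul_apply, Finset.sum_eq_single (0 : Fin 28)]
    · intro b _ hb; rw [hY b hb, mul_zero]
    · simp
  have hYV : (Y : Mat) * dec vMat = ((Y : Mat) 0 0) • dec vMat := by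
    funext a i
    have hv : ∀ b : Fin 28, dec vMat b i = (dec (g0Gen.getD 0 0) ^ i.val) b 0 := fun b => by
      rw [← dec_mpow]
      show bz _ = bz _
      rw [Valid.vMat_bits i b]; rfl
    rw [Matrix.smul_apply, hv, smul_eq_mul, mul_comm, ← hcol0, ← (commute_pow h0 i.val).eq, Matrix.mul_apply,
      Matrix.mul_apply]
    exact Finset.sum_congr rfl fun b _ => by rw [hv]
  have hscal : (Y : Mat) = ((Y : Mat) 0 0) • 1 := by
    calc (Y : Mat) = (Y : Mat) * dec vMat * dec vInv := by rw [mul_assoc, hV, mul_one]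
      _ = _ := by rw [hYV, Matrix.smul_mul, hV]
  apply Units.ext
  rcases (show ∀ c : ZMod 2, c = 0 ∨ c = 1 by decide) ((Y : Mat) 0 0) with e | e
  · rw [e, zero_smul] at hscal
    exact absurd hscal (Units.ne_zero Y)
  · rw [e, one_smul] at hscal
    exact hscal

theorem prime_elts {S : List ℕ} (hlen : S.length = 2) {p : ℕ} [Fact p.Prime]
    (h0 : dec (S.getD 0 0) ^ p = 1 ∧ dec (S.getD 0 0) ≠ 1) (h1 : dec (S.getD 1 0) ^ p = 1 ∧ dec (S.getD 1 0) ≠ 1) :
    ∀ g : G28, ∀ k < S.length, (g : Mat) = dec (S.getD k 0) → orderOf g = p := by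
  intro g k hk eg
  refine orderOf_eq_prime (Units.ext ?_) fun e => ?_
  · rw [Units.val_pow_eq_pow_val, eg]
    obtain rfl | rfl : k = 0 ∨ k = 1 := by omega
    exacts [h0.1, h1.1]
  · rw [e, Units.val_one] at eg
    obtain rfl | rfl : k = 0 ∨ k = 1 := by omega
    exacts [h0.2 eg.symm, h1.2 eg.symm]

/-- A normal subgroup containing an element of prime order dividing the order once contains all of them. -/
theorem mem_of_normal {G : Type*} [Group G] [Finite G] (N : Subgroup G) [hN : N.Normal] {p : ℕ} [Fact p.Prime]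
    (hmult : p ^ (Nat.card G).factorization p = p) (hdvd : p ∣ Nat.card N) {g : G} (hg : orderOf g = p) : g ∈ N := by
  obtain ⟨y, hy⟩ := exists_prime_orderOf_dvd_card' p hdvd
  let P : Sylow p G := Sylow.ofCard (Subgroup.zpowers g) (by rw [Nat.card_zpowers, hg, hmult])
  let Q : Sylow p G := Sylow.ofCard (Subgroup.zpowers (y : G))
    (by rw [Nat.card_zpowers, Subgroup.orderOf_coe, hy, hmult])
  obtain ⟨c, hc⟩ := MulAction.exists_smul_eq G Q P
  have hgP : g ∈ (P : Subgroup G) := Subgroup.mem_zpowers g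
  rw [← hc, Sylow.coe_subgroup_smul, Subgroup.mem_pointwise_smul_iff_inv_smul_mem] at hgP
  have := hN.conj_mem _ ((Subgroup.zpowers_le).2 y.2 hgP) c
  simpa [MulAut.smul_def, mul_assoc] using this

theorem mult_29 : 29 ^ (145926144000 : ℕ).factorization 29 = 29 := by
  rw [Nat.factorization_def _ (by norm_num : Nat.Prime 29)]
  have : padicValNat 29 145926144000 = 1 := by
    haveI : Fact (Nat.Prime 29) := ⟨by norm_num⟩
    rw [show (145926144000 : ℕ) = 29 * 5031936000 by norm_num, padicValNat.mul (by norm_num) (by norm_num),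
      padicValNat_self, padicValNat.eq_zero_of_not_dvd (by norm_num)]
  rw [this, pow_one]

theorem mult_13 : 13 ^ (17971200 : ℕ).factorization 13 = 13 := by
  rw [Nat.factorization_def _ (by norm_num : Nat.Prime 13)]
  have : padicValNat 13 17971200 = 1 := by
    haveI : Fact (Nat.Prime 13) := ⟨by norm_num⟩
    rw [show (17971200 : ℕ) = 13 * 1382400 by norm_num, padicValNat.mul (by norm_num) (by norm_num),
      padicValNat_self, padicValNat.eq_zero_of_not_dvd (by norm_num)]
  rw [this, pow_one]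

/-- A subgroup generated by two listed elements is the whole of it once both are inside. -/
theorem eq_top_of_gens {S S' : List ℕ} (eS : S = S') (N : Subgroup (genGroup S))
    (h : ∀ g : genGroup S, ∀ k < S'.length, ((g : G28) : Mat) = dec (S'.getD k 0) → g ∈ N) : N = ⊤ := by
  subst eS
  rw [eq_top_iff]
  have hle : genGroup S ≤ N.map (genGroup S).subtype := by
    refine (Subgroup.closure_le _).2 ?_
    rintro x ⟨k, hk, e⟩
    exact ⟨⟨x, Subgroup.subset_closure ⟨k, hk, e⟩⟩, h _ k hk e, rfl⟩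
  intro g _
  obtain ⟨g', hg', e⟩ := hle g.2
  rwa [← Subtype.ext (show (g' : G28) = (g : G28) from e)]

theorem simple_RG : IsSimpleGroup RG := by
  haveI : Fact (Nat.Prime 29) := ⟨by norm_num⟩
  obtain ⟨⟨a1, a2, a3, a4⟩, -⟩ := facts
  have hlen : g0Gen.length = 2 := by decide +kernel
  have hord := prime_elts hlen ⟨a1, a3⟩ ⟨a2, a4⟩
  haveI : Nontrivial RG := Finite.one_lt_card_iff_nontrivial.1 (by rw [card_RG]; norm_num)
  refine ⟨fun N hN => or_iff_not_imp_right.2 fun htop => ?_⟩
  have h29 : ¬ 29 ∣ Nat.card N := fun h => htop (eq_top_of_gens nextGens_g N fun g k hk eg =>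
    mem_of_normal N (by rw [card_RG]; exact mult_29) h
      (by rw [← Subgroup.orderOf_coe]; exact hord g k hk eg))
  have hdvd : Nat.card N ∣ 145926144000 := card_RG ▸ Subgroup.card_subgroup_dvd_card N
  have hinj : ∀ p : ℕ, p.Prime → ∀ a b, p ^ a ∣ Nat.card N → p ^ b ∣ Nat.card N → p ^ a % 29 = p ^ b % 29 → a = b := by
    intro p hp a b ha hb e
    by_cases hpN : p ∣ Nat.card N
    · have ha' := (hp.pow_dvd_iff_le_factorization (by norm_num)).1 (ha.trans hdvd)
      have hb' := (hp.pow_dvd_iff_le_factorization (by norm_num)).1 (hb.trans hdvd)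
      have key : ∀ q ∈ [(2, 14), (3, 3), (5, 3), (7, 1), (13, 1)], ∀ i ≤ q.2, ∀ j ≤ q.2,
          (q.1 : ℕ) ^ i % 29 = q.1 ^ j % 29 → i = j := by decide +kernel
      have hval : ∀ q n m : ℕ, q.Prime → 145926144000 = q ^ n * m → ¬ q ∣ m →
          (145926144000 : ℕ).factorization q = n := by
        intro q n m hq e hnd
        haveI := Fact.mk hq
        rw [Nat.factorization_def _ hq, e, padicValNat.mul (pow_ne_zero _ hq.ne_zero) (by rintro rfl; simp at e),
          padicValNat.prime_pow, padicValNat.eq_zero_of_not_dvd hnd, add_zero]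
      have hp' : p = 2 ∨ p = 3 ∨ p = 5 ∨ p = 7 ∨ p = 13 := by
        have hd : p ∣ 2 ^ 14 * 3 ^ 3 * 5 ^ 3 * 7 * 13 * 29 := (hpN.trans hdvd).trans (by norm_num)
        simp only [hp.dvd_mul] at hd
        rcases hd with (((((h | h) | h) | h) | h) | h)
        · exact Or.inl ((Nat.prime_dvd_prime_iff_eq hp Nat.prime_two).1 (hp.dvd_of_dvd_pow h))
        · exact Or.inr (Or.inl ((Nat.prime_dvd_prime_iff_eq hp Nat.prime_three).1 (hp.dvd_of_dvd_pow h)))
        · exact Or.inr (Or.inr (Or.inl ((Nat.prime_dvd_prime_iff_eq hp (by norm_num)).1 (hp.dvd_of_dvd_pow h))))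
        · exact Or.inr (Or.inr (Or.inr (Or.inl ((Nat.prime_dvd_prime_iff_eq hp (by norm_num)).1 h))))
        · exact Or.inr (Or.inr (Or.inr (Or.inr ((Nat.prime_dvd_prime_iff_eq hp (by norm_num)).1 h))))
        · exact absurd ((Nat.prime_dvd_prime_iff_eq hp (by norm_num)).1 h ▸ hpN) h29
      rcases hp' with rfl | rfl | rfl | rfl | rfl
      · rw [hval 2 14 8906625 hp (by norm_num) (by norm_num)] at ha' hb'; exact key (2, 14) (by simp) a ha' b hb' e
      · rw [hval 3 3 5404672000 hp (by norm_num) (by norm_num)] at ha' hb'; exact key (3, 3) (by simp) a ha' b hb' e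
      · rw [hval 5 3 1167409152 hp (by norm_num) (by norm_num)] at ha' hb'; exact key (5, 3) (by simp) a ha' b hb' e
      · rw [hval 7 1 20846592000 hp (by norm_num) (by norm_num)] at ha' hb'; exact key (7, 1) (by simp) a ha' b hb' e
      · rw [hval 13 1 11225088000 hp (by norm_num) (by norm_num)] at ha' hb'; exact key (13, 1) (by simp) a ha' b hb' e
    · rcases Nat.eq_zero_or_pos a with rfl | h
      · rcases Nat.eq_zero_or_pos b with rfl | h'
        · rfl
        · exact absurd ((dvd_pow_self p h'.ne').trans hb) hpN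
      · exact absurd ((dvd_pow_self p h.ne').trans ha) hpN
  rw [Subgroup.eq_bot_iff_forall]
  intro y hy
  have hc : ∀ k < 2, Commute ((y : G28) : Mat) (dec (g0Gen.getD k 0)) := fun k hk => by
    obtain ⟨g, hg, eg⟩ := exists_gen gChain gChain_ok (k := k) (by rw [nextGens_g, hlen]; exact hk)
    rw [nextGens_g] at eg
    have h := centralised_of_injective_mod N (⟨g, hg⟩ : RG)
      (by rw [Subgroup.orderOf_mk]; exact hord g k (by rw [hlen]; exact hk) eg) h29 hinj y hy
    have := congrArg (fun u : RG => ((u : G28) : Mat)) h.eq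
    simp only [Subgroup.coe_mul, Units.val_mul, eg] at this
    exact this
  exact Subtype.ext (eq_one_of_commute (hc 0 (by norm_num)) (hc 1 (by norm_num)))

/-! ### The Tits subgroup -/

theorem Sub.spec (S : Sub) (hel : forallLt S.size S.elOK = true) (htr : forallLt (S.size * S.gen.length) S.trOK = true)
    (hbase : S.baseOK = true) :
    ∃ P : Subgroup RT, Nat.card P = S.size ∧ (∀ k < S.gen.length, ∃ g ∈ P, ((g : G28) : Mat) = dec (S.gen.getD k 0)) ∧
      ∀ y ∈ P, y ≠ 1 → ∃ i < S.size, i ≠ 0 ∧ ((y : G28) : Mat) = dec (S.e i) := by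
  classical
  simp only [Sub.baseOK, Bool.and_eq_true, Nat.beq_eq, Nat.blt_eq] at hbase
  obtain ⟨⟨⟨h0, hpos⟩, hg⟩, -⟩ := hbase
  obtain ⟨hT, -, hTr⟩ := chain_spec tChain tChain_ok
  have hgen : ∀ k < S.gen.length, ∃ g : RT, ((g : G28) : Mat) = dec (S.gen.getD k 0) := by
    intro k hk
    have h := forallLt_elim hg hk
    simp only [Bool.and_eq_true, Nat.beq_eq] at h
    have hex : ∀ (Ls : List Level) (e : ℕ), fieldsOK Ls e = true →
        (∀ L ∈ Ls, ∀ i < L.n, ∃ r : G28, (r : Mat) = dec (L.R i)) → ∃ g : G28, (g : Mat) = dec (prodFrom Ls e) := by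
      intro Ls
      induction Ls with
      | nil => intro e _ _; exact ⟨1, by rw [prodFrom, dec_one]; rfl⟩
      | cons L rest ih =>
        intro e he hr
        simp only [fieldsOK, Bool.and_eq_true, Nat.blt_eq] at he
        obtain ⟨r, er⟩ := hr L List.mem_cons_self _ he.1
        obtain ⟨g, eg⟩ := ih _ he.2 fun L' h' => hr L' (List.mem_cons_of_mem _ h')
        exact ⟨r * g, by rw [Units.val_mul, er, eg, prodFrom, dec_mm]⟩
    obtain ⟨g, eg⟩ := hex tChain _ h.1 hTr
    exact ⟨⟨g, (hT g).2 (prodFrom_mem tChain _ h.1 eg hTr)⟩, eg.trans (congrArg dec h.2)⟩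
  choose s hs using hgen
  let T' : Set RT := {g | ∃ k, ∃ hk : k < S.gen.length, g = s k hk}
  refine ⟨Subgroup.closure T', ?_, fun k hk => ⟨s k hk, Subgroup.subset_closure ⟨k, hk, rfl⟩, hs k hk⟩, ?_⟩
  all_goals
    have helt : ∀ i < S.size, ∃ g ∈ Subgroup.closure T', ((g : G28) : Mat) = dec (S.e i) := by
      intro i
      induction i using Nat.strong_induction_on with
      | _ i ih =>
        intro hi
        have h := forallLt_elim hel hi
        simp only [Sub.elOK, Bool.and_eq_true, Bool.or_eq_true, Nat.beq_eq, Nat.blt_eq] at h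
        rcases h.1.1 with rfl | ⟨⟨h1, h2⟩, h3⟩
        · exact ⟨1, one_mem _, by rw [h0, dec_one]; rfl⟩
        · obtain ⟨g, hgm, eg⟩ := ih _ h1 (by omega)
          exact ⟨g * s _ h2, mul_mem hgm (Subgroup.subset_closure ⟨_, h2, rfl⟩),
            by rw [Subgroup.coe_mul, Units.val_mul, eg, hs, h3, dec_mm]⟩
    have hsur : ∀ g ∈ Subgroup.closure T', ∃ i < S.size, ((g : G28) : Mat) = dec (S.e i) := by
      intro g hg'
      have hg'' : g ∈ Submonoid.closure T' := by rw [← Subgroup.closure_toSubmonoid_of_finite]; exact hg'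
      clear hg'
      induction hg'' using Submonoid.closure_induction_right with
      | one => exact ⟨0, hpos, by rw [h0, dec_one]; rfl⟩
      | mul_right y _ x hx ih =>
        obtain ⟨i, hi, ey⟩ := ih
        obtain ⟨k, hk, rfl⟩ := hx
        have h := forallLt_elim htr (k := S.gen.length * i + k) (by
          have : S.gen.length * (i + 1) ≤ S.gen.length * S.size := Nat.mul_le_mul_left _ hi
          rw [Nat.mul_comm S.size]; linarith)
        simp only [Sub.trOK, Bool.and_eq_true, Nat.blt_eq, Nat.beq_eq] at h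
        rw [show Nat.div (S.gen.length * i + k) S.gen.length = i from by
            show (S.gen.length * i + k) / S.gen.length = i
            rw [Nat.mul_add_div (by omega), Nat.div_eq_of_lt hk, add_zero],
          show Nat.mod (S.gen.length * i + k) S.gen.length = k from by
            show (S.gen.length * i + k) % S.gen.length = k
            rw [Nat.mul_add_mod, Nat.mod_eq_of_lt hk]] at h
        exact ⟨_, h.1, by rw [Subgroup.coe_mul, Units.val_mul, ey, hs, ← dec_mm, h.2]⟩
  · choose f hf ef using fun i : Fin S.size => helt i i.isLt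
    have hσlt : ∀ i : Fin S.size, S.srt.field 16 i < S.size := fun i => by
      have := forallLt_elim hel i.isLt
      simp only [Sub.elOK, Bool.and_eq_true, Nat.blt_eq] at this
      exact this.1.2
    let σ : Fin S.size → Fin S.size := fun i => ⟨_, hσlt i⟩
    have hσ : StrictMono fun i : Fin S.size => S.e (σ i) := by
      have hstep : ∀ i, i + 1 < S.size → S.e (S.srt.field 16 i) < S.e (S.srt.field 16 (i + 1)) := fun i hi => by
        have := forallLt_elim hel (k := i) (by omega)
        simp only [Sub.elOK, Bool.and_eq_true, Bool.or_eq_true, Nat.blt_eq, Nat.beq_eq] at this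
        exact this.2.resolve_left (show ¬ i + 1 = S.size by omega)
      intro i j hij
      have key : ∀ d k, k + d + 1 < S.size → S.e (S.srt.field 16 k) < S.e (S.srt.field 16 (k + d + 1)) := by
        intro d
        induction d with
        | zero => exact hstep
        | succ d ihd => intro k hk; exact (ihd k (by omega)).trans (hstep (k + d + 1) hk)
      have hij' : i.val < j.val := hij
      have := key (j.val - i.val - 1) i.val (by omega)
      rwa [show i.val + (j.val - i.val - 1) + 1 = j.val by omega] at this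
    have hσs : Function.Surjective σ := Finite.surjective_of_injective fun i j h => hσ.injective (by rw [h])
    have hlt : ∀ i : Fin S.size, S.e i < 2 ^ 784 := fun i => by
      have h := forallLt_elim hel i.isLt
      simp only [Sub.elOK, Bool.and_eq_true, Bool.or_eq_true, Nat.beq_eq, Nat.blt_eq] at h
      rcases h.1.1 with e | ⟨-, h3⟩
      · rw [e, h0]; exact one_lt
      · rw [h3]; exact mm_lt _ _
    let F' : Fin S.size → Subgroup.closure T' := fun i => ⟨f i, hf i⟩
    have hb : Function.Bijective F' := by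
      constructor
      · intro i j h
        have h' : f i = f j := congrArg (Subtype.val (p := fun g : RT => g ∈ Subgroup.closure T')) h
        have h1 : dec (S.e i) = dec (S.e j) := by rw [← ef, ← ef, h']
        obtain ⟨i', rfl⟩ := hσs i
        obtain ⟨j', rfl⟩ := hσs j
        rw [hσ.injective (dec_inj (hlt _) (hlt _) h1)]
      · rintro ⟨g, hg'⟩
        obtain ⟨i, hi, e⟩ := hsur g hg'
        exact ⟨⟨i, hi⟩, Subtype.ext (Subtype.ext (Units.ext (by rw [e]; exact ef ⟨i, hi⟩)))⟩
    rw [← Nat.card_eq_of_bijective F' hb, Nat.card_fin]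
  · intro y hy hy1
    obtain ⟨i, hi, e⟩ := hsur y hy
    refine ⟨i, hi, fun h => hy1 (Subtype.ext (Units.ext ?_)), e⟩
    rw [e, h, h0, dec_one]; rfl

theorem sylow_step (S : Sub) {p n m : ℕ} [Fact p.Prime] (hsize : S.size = p ^ n) (hcard : 17971200 = p ^ n * m)
    (hm : ¬ p ∣ m) (hel : forallLt S.size S.elOK = true) (htr : forallLt (S.size * S.gen.length) S.trOK = true)
    (hwit : forallLt S.size S.witOK = true) (hbase : S.baseOK = true) (N : Subgroup RT) [hN : N.Normal]
    (h13 : ¬ 13 ∣ Nat.card N) : ¬ p ∣ Nat.card N := by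
  intro hpN
  obtain ⟨P, hP, hgen, hlist⟩ := S.spec hel htr hbase
  have hmult : p ^ (Nat.card RT).factorization p = p ^ n := by
    rw [card_RT, Nat.factorization_def _ (Fact.out : p.Prime), hcard,
      padicValNat.mul (pow_ne_zero _ (Fact.out : p.Prime).ne_zero) (by rintro rfl; simp at hcard),
      padicValNat.prime_pow, padicValNat.eq_zero_of_not_dvd hm, add_zero]
  let PS : Sylow p RT := Sylow.ofCard P (by rw [hP, hsize, hmult])
  obtain ⟨y, hy⟩ := exists_prime_orderOf_dvd_card' p hpN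
  obtain ⟨Q, hQ⟩ := (IsPGroup.of_card (n := 1) (by rw [pow_one, Nat.card_zpowers, Subgroup.orderOf_coe, hy]) :
    IsPGroup p (Subgroup.zpowers (y : RT))).exists_le_sylow
  obtain ⟨c, hc⟩ := MulAction.exists_smul_eq RT Q PS
  have hyP : c * (y : RT) * c⁻¹ ∈ P := by
    have h1 : (y : RT) ∈ (Q : Subgroup RT) := hQ (Subgroup.mem_zpowers _)
    show c * (y : RT) * c⁻¹ ∈ (PS : Subgroup RT)
    rw [← hc, Sylow.coe_subgroup_smul, Subgroup.mem_pointwise_smul_iff_inv_smul_mem]
    simpa [MulAut.smul_def, mul_assoc] using h1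
  have hne : N.subgroupOf P ≠ ⊥ := fun h => by
    have : (⟨_, hyP⟩ : P) ∈ N.subgroupOf P := Subgroup.mem_subgroupOf.2 (hN.conj_mem _ y.2 c)
    rw [h, Subgroup.mem_bot, Subtype.ext_iff] at this
    have h1 : (y : RT) = 1 := conj_eq_one_iff.1 this
    rw [Subtype.ext_iff.2 (h1.trans (Subgroup.coe_one N).symm), orderOf_one] at hy
    exact (Fact.out : p.Prime).one_lt.ne hy
  haveI : (N.subgroupOf P).Normal :=
    inferInstanceAs ((N.comap P.subtype).Normal)
  obtain ⟨z, hzN, hz1, hzc⟩ := exists_central_mem (show IsPGroup p P from PS.isPGroup')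
    (N.subgroupOf P) hne
  obtain ⟨i, hi, hi0, ei⟩ := hlist z z.2 fun e => hz1 (Subtype.ext e)
  have hw := forallLt_elim hwit hi
  simp only [Sub.witOK, Bool.or_eq_true, Nat.beq_eq] at hw
  rcases hw with hw | hw
  · exact hi0 hw
  cases hc1 : Nat.beq (Nat.land (S.wit.field 16 i) 3) 1
  · rw [hc1] at hw
    simp only [cond_false, Bool.and_eq_true, Nat.blt_eq, Bool.not_eq_true'] at hw
    obtain ⟨g, hg, eg⟩ := hgen _ hw.1
    have h2 := congrArg (fun u : P => (((u : RT) : G28) : Mat)) (Subgroup.mem_center_iff.1 hzc ⟨g, hg⟩)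
    simp only [Subgroup.coe_mul, Units.val_mul, eg, ei, ← dec_mm] at h2
    rw [dec_inj (mm_lt _ _) (mm_lt _ _) h2] at hw
    simp at hw
  · rw [hc1] at hw
    simp only [cond_true, Bool.and_eq_true, Nat.blt_eq, Nat.beq_eq] at hw
    obtain ⟨hlt, hei⟩ := hw
    simp only [Sub.baseOK, Bool.and_eq_true] at hbase
    have hcl := List.all_eq_true.1 hbase.2 _ (List.getElem_mem hlt)
    rw [List.getD_eq_getElem _ _ hlt] at hei
    generalize S.central[Nat.shiftRight (S.wit.field 16 i) 2] = cd at hcl hei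
    obtain ⟨zc, l, k⟩ := cd
    simp only [centralOK, Bool.and_eq_true, Bool.not_eq_true'] at hcl
    obtain ⟨⟨hl, hne13⟩, h13p⟩ := hcl
    have hzmem : ((z : RT) : RT) ∈ N := Subgroup.mem_subgroupOf.1 hzN
    obtain ⟨hT, -, hTr⟩ := chain_spec tChain tChain_ok
    have hprod : ∀ l : List (ℕ × ℕ), (l.all fun x => fieldsOK tChain x.1 && Nat.beq (mm (prodFrom tChain x.1) x.2) one) = true →
        ∃ u ∈ N, ((u : G28) : Mat) = dec (conjProd zc l) := by
      intro l
      induction l with
      | nil => intro _; exact ⟨1, one_mem N, by rw [conjProd, dec_one]; rfl⟩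
      | cons x l ih =>
        intro hl
        rw [List.all_cons, Bool.and_eq_true, Bool.and_eq_true] at hl
        obtain ⟨⟨hf, hinv⟩, hl⟩ := hl
        obtain ⟨u, hu, eu⟩ := ih hl
        have e1 : dec (prodFrom tChain x.1) * dec x.2 = 1 := by rw [← dec_mm, Nat.eq_of_beq_eq_true hinv, dec_one]
        let g : G28 := ⟨dec (prodFrom tChain x.1), dec x.2, e1, mul_eq_one_comm.1 e1⟩
        have hgT : g ∈ RT := (hT g).2 (prodFrom_mem tChain _ hf (g := g) rfl hTr)
        let gT : RT := ⟨g, hgT⟩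
        have hconj : gT * (z : RT) * gT⁻¹ ∈ N := hN.conj_mem _ hzmem gT
        refine ⟨gT * (z : RT) * gT⁻¹ * u, N.mul_mem hconj hu, ?_⟩
        have eg : (((gT : G28)) : Mat) = dec (prodFrom tChain x.1) := rfl
        have egi : ((((gT : G28))⁻¹ : G28) : Mat) = dec x.2 := rfl
        rw [Subgroup.coe_mul, Subgroup.coe_mul, Subgroup.coe_mul, Subgroup.coe_inv, Units.val_mul, Units.val_mul,
          Units.val_mul, eg, egi, eu, ei, hei, conjProd, dec_mm, dec_mm, dec_mm]
        simp only [mul_assoc]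
    obtain ⟨u, hu, eu⟩ := hprod l hl
    let w : RT := ((z : RT) * u) ^ k
    have hwN : w ∈ N := pow_mem (mul_mem hzmem hu) k
    have ew : ((w : G28) : Mat) = dec (mpow (mm zc (conjProd zc l)) k) := by
      show ((((z : RT) * u) ^ k : RT).1 : Mat) = _
      rw [Subgroup.coe_pow, Units.val_pow_eq_pow_val, Subgroup.coe_mul, Units.val_mul, eu, ei, hei, ← dec_mm, ← dec_mpow]
    haveI : Fact (Nat.Prime 13) := ⟨by norm_num⟩
    have ho : orderOf (⟨w, hwN⟩ : N) = 13 := by
      rw [← Subgroup.orderOf_coe, ← Subgroup.orderOf_coe]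
      refine orderOf_eq_prime (Units.ext ?_) fun e => ?_
      · show (((w : G28) ^ 13 : G28) : Mat) = 1
        rw [Units.val_pow_eq_pow_val, ew, ← dec_mpow, Nat.eq_of_beq_eq_true h13p, dec_one]
      · have e2 : ((w : G28) : Mat) = 1 := congrArg (fun v : G28 => (v : Mat)) e
        rw [ew, ← dec_one] at e2
        have hlt2 : ∀ M n, mpow M n < 2 ^ 784 := fun M n => by
          cases n
          · exact one_lt
          · exact mm_lt _ _
        rw [dec_inj (hlt2 _ _) one_lt e2] at hne13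
        simp at hne13
    exact h13 (ho ▸ orderOf_dvd_natCard (⟨w, hwN⟩ : N))

theorem simple_RT : IsSimpleGroup RT := by
  haveI : Fact (Nat.Prime 13) := ⟨by norm_num⟩
  haveI : Fact (Nat.Prime 2) := ⟨by norm_num⟩
  haveI : Fact (Nat.Prime 3) := ⟨by norm_num⟩
  haveI : Fact (Nat.Prime 5) := ⟨by norm_num⟩
  obtain ⟨-, ⟨b1, b2, b3, b4⟩, -⟩ := facts
  have hlen : t0Gen.length = 2 := by decide +kernel
  have hord := prime_elts hlen ⟨b1, b3⟩ ⟨b2, b4⟩
  haveI : Nontrivial RT := Finite.one_lt_card_iff_nontrivial.1 (by rw [card_RT]; norm_num)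
  refine ⟨fun N hN => or_iff_not_imp_right.2 fun htop => ?_⟩
  have h13 : ¬ 13 ∣ Nat.card N := fun h => htop (eq_top_of_gens nextGens_t N fun g k hk eg =>
    mem_of_normal N (by rw [card_RT]; exact mult_13) h
      (by rw [← Subgroup.orderOf_coe]; exact hord g k hk eg))
  have h2 := sylow_step syl2 (p := 2) (n := 11) (m := 8775) rfl (by norm_num) (by norm_num) Valid.syl2_el Valid.syl2_tr
    Valid.syl2_wit Valid.syl2_base N h13
  have h3 := sylow_step syl3 (p := 3) (n := 3) (m := 665600) rfl (by norm_num) (by norm_num) Valid.syl3_el Valid.syl3_tr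
    Valid.syl3_wit Valid.syl3_base N h13
  have h5 := sylow_step syl5 (p := 5) (n := 2) (m := 718848) rfl (by norm_num) (by norm_num) Valid.syl5_el Valid.syl5_tr
    Valid.syl5_wit Valid.syl5_base N h13
  rw [← Subgroup.card_eq_one]
  by_contra h1
  obtain ⟨q, hq, hqd⟩ := Nat.exists_prime_and_dvd h1
  have hd : q ∣ 2 ^ 11 * 3 ^ 3 * 5 ^ 2 * 13 :=
    (hqd.trans (card_RT ▸ Subgroup.card_subgroup_dvd_card N)).trans (by norm_num)
  simp only [hq.dvd_mul] at hd
  rcases hd with ((h | h) | h) | h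
  · exact h2 ((Nat.prime_dvd_prime_iff_eq hq Nat.prime_two).1 (hq.dvd_of_dvd_pow h) ▸ hqd)
  · exact h3 ((Nat.prime_dvd_prime_iff_eq hq Nat.prime_three).1 (hq.dvd_of_dvd_pow h) ▸ hqd)
  · exact h5 ((Nat.prime_dvd_prime_iff_eq hq (by norm_num)).1 (hq.dvd_of_dvd_pow h) ▸ hqd)
  · exact h13 ((Nat.prime_dvd_prime_iff_eq hq (by norm_num)).1 h ▸ hqd)

theorem perm_realization : ∃ H : Subgroup (Equiv.Perm (Fin 4060)), Cfsg.IsRu H ∧
    MulAction.IsPretransitive H (Fin 4060) ∧ Nat.card (MulAction.stabilizer H (0 : Fin 4060)) = 35942400 ∧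
    ∃ T : Subgroup (MulAction.stabilizer H (0 : Fin 4060)), Cfsg.IsTits T := by
  haveI := simple_RG
  have hidx : (RK.subgroupOf RG).index = 4058 + 2 := by
    have h := (RK.subgroupOf RG).card_mul_index
    rw [Nat.card_congr (Subgroup.subgroupOfEquivOfLe RK_le).toEquiv, card_RK, card_RG] at h
    omega
  obtain ⟨H, ⟨e⟩, ht, hs, ⟨iso⟩⟩ := exists_transitive_iso (RK.subgroupOf RG) hidx
  refine ⟨H, ⟨e.symm.isSimpleGroup, by rw [← Nat.card_congr e.toEquiv, card_RG]⟩, ht,
    by rw [hs, Nat.card_congr (Subgroup.subgroupOfEquivOfLe RK_le).toEquiv, card_RK], ?_⟩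
  let i1 : RT →* MulAction.stabilizer H (0 : Fin 4060) :=
    iso.toMonoidHom.comp ((Subgroup.subgroupOfEquivOfLe RK_le).symm.toMonoidHom.comp (Subgroup.inclusion RT_le))
  have hinj : Function.Injective i1 :=
    iso.injective.comp ((Subgroup.subgroupOfEquivOfLe RK_le).symm.injective.comp (Subgroup.inclusion_injective RT_le))
  haveI := simple_RT
  exact ⟨i1.range, (MonoidHom.ofInjective hinj).symm.isSimpleGroup,
    by rw [← Nat.card_congr (MonoidHom.ofInjective hinj).toEquiv, card_RT]⟩

end CfsgLib.Sporadic.RuMod
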