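import Cfsg.Agent.Lib.Sporadic.RuData.G0
import Cfsg.Agent.Lib.Sporadic.RuData.G0Rep
import Cfsg.Agent.Lib.Sporadic.RuData.G1
import Cfsg.Agent.Lib.Sporadic.RuData.G1Rep
import Cfsg.Agent.Lib.Sporadic.RuData.G2
import Cfsg.Agent.Lib.Sporadic.RuData.G2Rep
import Cfsg.Agent.Lib.Sporadic.RuData.G3
import Cfsg.Agent.Lib.Sporadic.RuData.G3Rep
import Cfsg.Agent.Lib.Sporadic.RuData.G4
import Cfsg.Agent.Lib.Sporadic.RuData.G4Rep
import Cfsg.Agent.Lib.Sporadic.RuData.T0
import Cfsg.Agent.Lib.Sporadic.RuData.T0Rep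
import Cfsg.Agent.Lib.Sporadic.RuData.T1
import Cfsg.Agent.Lib.Sporadic.RuData.T1Rep
import Cfsg.Agent.Lib.Sporadic.RuData.T2
import Cfsg.Agent.Lib.Sporadic.RuData.T2Rep
import Cfsg.Agent.Lib.Sporadic.RuData.T3
import Cfsg.Agent.Lib.Sporadic.RuData.T3Rep
import Cfsg.Agent.Lib.Sporadic.RuData.Syl2
import Cfsg.Agent.Lib.Sporadic.RuData.Syl2El
import Cfsg.Agent.Lib.Sporadic.RuData.Syl3
import Cfsg.Agent.Lib.Sporadic.RuData.Syl3El
import Cfsg.Agent.Lib.Sporadic.RuData.Syl5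
import Cfsg.Agent.Lib.Sporadic.RuData.Syl5El
import Cfsg.Agent.Lib.Sporadic.RuData.Commutant
import Cfsg.Agent.Lib.Sporadic.RuChain

/-!
# The chains of the Rudvalis group and its Tits subgroup
-/

set_option autoImplicit false

namespace CfsgLib.Sporadic.RuMod

open Data
open CfsgLib.Sporadic.J3 (T4)

noncomputable def g0 : Level := ⟨g0Base, g0Gen, g0Inv, 4060, g0Rep, g0Par, g0Edge, g0Srt, g0Src⟩

noncomputable def g1 : Level := ⟨g1Base, g1Gen, g1Inv, 2304, g1Rep, g1Par, g1Edge, g1Srt, g1Src⟩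

noncomputable def g2 : Level := ⟨g2Base, g2Gen, g2Inv, 975, g2Rep, g2Par, g2Edge, g2Srt, g2Src⟩

noncomputable def g3 : Level := ⟨g3Base, g3Gen, g3Inv, 8, g3Rep, g3Par, g3Edge, g3Srt, g3Src⟩

noncomputable def g4 : Level := ⟨g4Base, g4Gen, g4Inv, 2, g4Rep, g4Par, g4Edge, g4Srt, g4Src⟩

noncomputable def t0 : Level := ⟨t0Base, t0Gen, t0Inv, 2304, t0Rep, t0Par, t0Edge, t0Srt, t0Src⟩

noncomputable def t1 : Level := ⟨t1Base, t1Gen, t1Inv, 975, t1Rep, t1Par, t1Edge, t1Srt, t1Src⟩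

noncomputable def t2 : Level := ⟨t2Base, t2Gen, t2Inv, 4, t2Rep, t2Par, t2Edge, t2Srt, t2Src⟩

noncomputable def t3 : Level := ⟨t3Base, t3Gen, t3Inv, 2, t3Rep, t3Par, t3Edge, t3Srt, t3Src⟩

/-- The chain of the group. -/
noncomputable def gChain : List Level := [g0, g1, g2, g3, g4]

/-- The chain of the Tits subgroup. -/
noncomputable def tChain : List Level := [t0, t1, t2, t3]

/-- A finite group of a chain given by the list of its elements, with a witness for each element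
that is not the identity: a place in the list of central elements or a generator it does not commute with. -/
structure Sub where
  size : ℕ
  gen : List ℕ
  sift : List ℕ
  el : T4
  par : T4
  tr : T4
  srt : T4
  wit : T4
  central : List (ℕ × List (ℕ × ℕ) × ℕ)

noncomputable def Sub.e (S : Sub) (i : ℕ) : ℕ := S.el.field 784 i

noncomputable def Sub.elOK (S : Sub) (i : ℕ) : Bool :=
  (Nat.beq i 0 || (Nat.blt (Nat.shiftRight (S.par.field 16 i) 2) i && Nat.blt (Nat.land (S.par.field 16 i) 3) S.gen.length &&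
    Nat.beq (S.e i) (mm (S.e (Nat.shiftRight (S.par.field 16 i) 2)) (S.gen.getD (Nat.land (S.par.field 16 i) 3) 0)))) &&
  Nat.blt (S.srt.field 16 i) S.size && (Nat.beq (Nat.add i 1) S.size ||
    Nat.blt (S.e (S.srt.field 16 i)) (S.e (S.srt.field 16 (Nat.add i 1))))

noncomputable def Sub.trOK (S : Sub) (n : ℕ) : Bool :=
  Nat.blt (S.tr.field 16 n) S.size &&
    Nat.beq (mm (S.e (Nat.div n S.gen.length)) (S.gen.getD (Nat.mod n S.gen.length) 0)) (S.e (S.tr.field 16 n))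

noncomputable def Sub.witOK (S : Sub) (i : ℕ) : Bool :=
  Nat.beq i 0 ||
  (cond (Nat.beq (Nat.land (S.wit.field 16 i) 3) 1)
    (Nat.blt (Nat.shiftRight (S.wit.field 16 i) 2) S.central.length &&
      Nat.beq (S.e i) (S.central.getD (Nat.shiftRight (S.wit.field 16 i) 2) (0, [], 0)).1)
    (Nat.blt (Nat.shiftRight (S.wit.field 16 i) 2) S.gen.length &&
      ! Nat.beq (mm (S.e i) (S.gen.getD (Nat.shiftRight (S.wit.field 16 i) 2) 0))
        (mm (S.gen.getD (Nat.shiftRight (S.wit.field 16 i) 2) 0) (S.e i))))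

noncomputable def conjProd (z : ℕ) : List (ℕ × ℕ) → ℕ
  | [] => one
  | x :: l => mm (mm (prodFrom tChain x.1) (mm z x.2)) (conjProd z l)

/-- A product of conjugates of a central element has order 13. -/
noncomputable def centralOK (c : ℕ × List (ℕ × ℕ) × ℕ) : Bool :=
  c.2.1.all (fun x => fieldsOK tChain x.1 && Nat.beq (mm (prodFrom tChain x.1) x.2) one) &&
    ! Nat.beq (mpow (mm c.1 (conjProd c.1 c.2.1)) c.2.2) one &&
    Nat.beq (mpow (mpow (mm c.1 (conjProd c.1 c.2.1)) c.2.2) 13) one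

noncomputable def Sub.baseOK (S : Sub) : Bool :=
  Nat.beq (S.e 0) one && Nat.blt 0 S.size &&
    forallLt S.gen.length (fun k => fieldsOK tChain (S.sift.getD k 0) &&
      Nat.beq (prodFrom tChain (S.sift.getD k 0)) (S.gen.getD k 0)) &&
    S.central.all centralOK

noncomputable def syl2 : Sub :=
  ⟨2048, syl2Gen, syl2Sift, syl2El, syl2Par, syl2Tr, syl2Srt, syl2Wit, syl2Central⟩

noncomputable def syl3 : Sub :=
  ⟨27, syl3Gen, syl3Sift, syl3El, syl3Par, syl3Tr, syl3Srt, syl3Wit, syl3Central⟩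

noncomputable def syl5 : Sub :=
  ⟨25, syl5Gen, syl5Sift, syl5El, syl5Par, syl5Tr, syl5Srt, syl5Wit, syl5Central⟩

noncomputable def mSum (n : ℕ) : ℕ :=
  Nat.rec 0 (fun i acc => Nat.xor acc (cond (cBits.testBit i) (mpow (g0Gen.getD 0 0) i) 0)) n

noncomputable def mCode : ℕ := Nat.xor (mSum 28) (g0Gen.getD 1 0)

/-- Facts on the generators. -/
noncomputable def genFacts : Bool :=
  Nat.beq (mpow (g0Gen.getD 0 0) 29) one && Nat.beq (mpow (g0Gen.getD 1 0) 29) one &&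
    ! Nat.beq (g0Gen.getD 0 0) one && ! Nat.beq (g0Gen.getD 1 0) one &&
    Nat.beq (mpow (t0Gen.getD 0 0) 13) one && Nat.beq (mpow (t0Gen.getD 1 0) 13) one &&
    ! Nat.beq (t0Gen.getD 0 0) one && ! Nat.beq (t0Gen.getD 1 0) one &&
    Nat.beq (mm vMat vInv) one && Nat.beq (mm lMat mCode) qMat &&
    forallLt 2 (fun k => fieldsOK gChain (tSift.getD k 0) &&
      Nat.beq (prodFrom gChain (tSift.getD k 0)) (t0Gen.getD k 0) &&
      Nat.beq (mm (t0Gen.getD k 0) g0Base) (mm one g0Base))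

end CfsgLib.Sporadic.RuMod
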