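import Mathlib
import Cfsg.Agent.Lib.Sporadic.Rudvalis

/-!
# No vectors of norm 8 in the scaled Rudvalis lattice
-/

set_option autoImplicit false
set_option maxRecDepth 100000

namespace CfsgLib.Sporadic.Rudvalis

open Cfsg Finset

def bz (n i : ℕ) : ZMod 2 := (bitn n i : ℕ)

theorem even_dvd {v : Spor.RuVec} (hv : v ∈ Spor.ruLattice) {e : ℕ} (he : inW (0, e) = true) :
    ∑ p : Fin 28, ((reZ v p : ZMod 2) * bz e (2 * p)
      + (imZ v p : ZMod 2) * bz e (2 * p + 1)) = 0 := by
  have h := four_dvd hv he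
  have h2 : (2 : ℤ) ∣ ∑ p : Fin 28,
      (reZ v p * (bitn e (2 * p) : ℤ) + imZ v p * (bitn e (2 * p + 1) : ℤ)) := by
    have e1 : ∑ p : Fin 28, (reZ v p * (gv (0, e) (2 * p) : ℤ)
        + imZ v p * (gv (0, e) (2 * p + 1) : ℤ)) = 2 * ∑ p : Fin 28,
        (reZ v p * (bitn e (2 * p) : ℤ) + imZ v p * (bitn e (2 * p + 1) : ℤ)) := by
      rw [mul_sum]
      refine sum_congr rfl fun p _ => ?_
      have : ∀ i, gv (0, e) i = 2 * bitn e i := fun i => by simp [gv, bitn]
      rw [this, this]
      push_cast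
      ring
    rw [e1] at h
    omega
  have h3 := (ZMod.intCast_zmod_eq_zero_iff_dvd _ 2).2 (by exact_mod_cast h2)
  push_cast at h3
  exact h3

/-- Systematic checks determine a vector from its free coordinates. -/
theorem systematic (k : ℕ) (phi gen : List ℕ) (free : List ℕ) (n : Fin 28 → ZMod 2)
    (hdata : ∀ p q : Fin 28, bz (phi.getD p 0) q =
      (if q = p then 1 else 0) + ∑ i : Fin k, bz (gen.getD p 0) i *
        (if q.val = free.getD i 0 then 1 else 0))
    (hfree : ∀ i : Fin k, free.getD i 0 < 28)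
    (hchk : ∀ p : Fin 28, ∑ q : Fin 28, bz (phi.getD p 0) q * n q = 0) :
    ∃ m : Fin (2 ^ k), ∀ p : Fin 28, n p = ∑ i : Fin k, bz (gen.getD p 0) i * bz m i := by
  refine ⟨⟨Nat.ofBits fun i : Fin k => decide (n ⟨free.getD i 0, hfree i⟩ = 1),
    Nat.ofBits_lt_two_pow _⟩, fun p => ?_⟩
  have hb : ∀ i : Fin k, bz (Nat.ofBits fun i : Fin k => decide (n ⟨free.getD i 0, hfree i⟩ = 1)) i
      = n ⟨free.getD i 0, hfree i⟩ := fun i => by
    rw [bz, bitn, Nat.testBit_ofBits_lt _ _ i.isLt]
    generalize n ⟨free.getD i 0, hfree i⟩ = a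
    revert a
    decide
  simp only [hb]
  have h := hchk p
  simp only [hdata, add_mul, sum_add_distrib, ite_mul, one_mul, zero_mul, sum_ite_eq',
    mem_univ, if_true, sum_mul] at h
  rw [sum_comm] at h
  have h2 : ∀ i : Fin k, ∑ q : Fin 28, bz (gen.getD p 0) i *
      (if q.val = free.getD i 0 then 1 else 0) * n q
      = bz (gen.getD p 0) i * n ⟨free.getD i 0, hfree i⟩ := by
    intro i
    rw [Finset.sum_eq_single (⟨free.getD i 0, hfree i⟩ : Fin 28)]
    · simp
    · intro q _ hq
      have : ¬ q.val = free.getD i 0 := fun e => hq (Fin.ext e)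
      rw [if_neg this, mul_zero, zero_mul]
    · simp
  simp only [h2] at h
  have h3 : ∀ a b : ZMod 2, a + b = 0 → a = b := by decide
  exact h3 _ _ h

def wordBit (gen : List ℕ) (m : ℕ) (k : ℕ) (p : ℕ) : ZMod 2 :=
  ∑ i : Fin k, bz (gen.getD p 0) i * bz m i

theorem zero_systematic_data : ∀ p q : Fin 28, bz (zeroPhi.getD p 0) q =
      (if q = p then 1 else 0) + ∑ i : Fin 9, bz (zeroGen.getD p 0) i *
        (if q.val = zeroFree.getD i 0 then 1 else 0) := by
  decide +kernel

theorem one_systematic_data : ∀ p q : Fin 28, bz (onePhi.getD p 0) q =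
      (if q = p then 1 else 0) + ∑ i : Fin 10, bz (oneGen.getD p 0) i *
        (if q.val = oneFree.getD i 0 then 1 else 0) := by
  decide +kernel

theorem zero_mask_data : ∀ p : Fin 28, inW (0, zeroMask.getD p 0) = true ∧
    ∀ q : Fin 28, bz (zeroMask.getD p 0) (2 * q) = bz (zeroPhi.getD p 0) q ∧
      bz (zeroMask.getD p 0) (2 * q + 1) = bz (zeroPhi.getD p 0) q := by
  decide +kernel

theorem one_mask_data : ∀ p : Fin 28, inW (0, oneMask.getD p 0) = true ∧
    ∀ q : Fin 28, bz (oneMask.getD p 0) (2 * q) + bz (oneMask.getD p 0) (2 * q + 1)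
      = bz (onePhi.getD p 0) q := by
  decide +kernel

theorem zero_words : ∀ m : Fin (2 ^ 9),
    (univ.filter fun p : Fin 28 => wordBit zeroGen m 9 p = 1).card ≤ 8 →
      (∀ p : Fin 28, wordBit zeroGen m 9 p = 0) ∨
      ∃ j : Fin 21, (univ.filter fun p : Fin 28 => wordBit zeroGen m 9 p = 1).card = 8 ∧
        ∀ p : Fin 28, wordBit zeroGen m 9 p = bz (octSupport.getD j (0, 0)).1 p := by
  decide +kernel

theorem one_words : ∀ m : Fin (2 ^ 10),
    (univ.filter fun p : Fin 28 => wordBit oneGen m 10 p = 1).card ≤ 4 →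
      (∀ p : Fin 28, wordBit oneGen m 10 p = 0) ∨
      ∃ j : Fin 7, (univ.filter fun p : Fin 28 => wordBit oneGen m 10 p = 1).card = 4 ∧
        ∀ p : Fin 28, wordBit oneGen m 10 p = if p.val / 4 = j.val then 1 else 0 := by
  decide +kernel

theorem oct_data : ∀ j : Fin 21, inW (0, (octSupport.getD j (0, 0)).2) = true ∧
    (∀ p : Fin 28, bz (octSupport.getD j (0, 0)).1 p = 1 →
      bz (octSupport.getD j (0, 0)).2 (2 * p) = bz (octSupport.getD j (0, 0)).2 (2 * p + 1)) ∧
    ∑ p : Fin 28, bz (octSupport.getD j (0, 0)).1 p *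
      bz (octSupport.getD j (0, 0)).2 (2 * p) = 1 := by
  decide +kernel

theorem block_data : ∀ n : Fin 7, ∀ s : Fin (2 ^ 8), ∃ i : Fin blockRows.length,
    inW (row (blockRows.get i)) = true ∧
    (∑ k : Fin 8, (if s.val.testBit k then 3 else 1) * gv (row (blockRows.get i)) (8 * n + k)) % 4
      ≠ 0 := by
  decide +kernel

theorem pair_data : (∀ j : Fin pairCode.length, inW (pairCode.get j) = true ∧
      ∀ p : Fin 28, bz (pairCode.get j).1 (2 * p) = bz (pairCode.get j).1 (2 * p + 1)) ∧
    (∀ p : Fin 28, ∃ j : Fin pairCode.length, bz (pairCode.get j).1 (2 * p) = 1) ∧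
    ∀ p q : Fin 28, p ≠ q → ∃ j : Fin pairCode.length,
      bz (pairCode.get j).1 (2 * p) + bz (pairCode.get j).1 (2 * q) = 1 := by
  decide +kernel

theorem single_data : ∀ p : Fin 28, inW (singleCode.getD p (0, 0)) = true ∧
    bz (singleCode.getD p (0, 0)).1 (2 * p) + bz (singleCode.getD p (0, 0)).1 (2 * p + 1) = 1 := by
  decide +kernel

theorem sq_parity {a b : ℤ} (h : (a : ZMod 2) + b = 1) : 1 ≤ a * a + b * b := by
  by_contra hn
  have ha : a = 0 := by nlinarith [mul_self_nonneg a, mul_self_nonneg b]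
  have hb : b = 0 := by nlinarith [mul_self_nonneg a, mul_self_nonneg b]
  simp [ha, hb] at h

theorem int_eq_of_sq {a : ℤ} (h1 : a * a ≤ 1) (h2 : (a : ZMod 2) = 1) : a = 1 ∨ a = -1 := by
  have h3 : -1 ≤ a ∧ a ≤ 1 := ⟨by nlinarith, by nlinarith⟩
  rcases (show a = 0 ∨ a = 1 ∨ a = -1 by omega) with rfl | h | h
  · simp at h2
  · exact .inl h
  · exact .inr h

theorem halves {a : ℤ} (h : (a : ZMod 2) = 0) : ∃ b : ℤ, a = 2 * b := by
  obtain ⟨b, hb⟩ := (ZMod.intCast_zmod_eq_zero_iff_dvd a 2).1 h
  exact ⟨b, by simpa using hb⟩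

/-- The indicator sum bounds. -/
theorem card_le_of_norm {N : Fin 28 → ℤ} {P : Fin 28 → Prop} [DecidablePred P] {c T : ℤ}
    (hN : ∀ p, 0 ≤ N p) (hP : ∀ p, P p → c ≤ N p) (hT : ∑ p, N p = T) :
    c * ((univ.filter P).card : ℤ) ≤ T ∧
      (c * ((univ.filter P).card : ℤ) = T →
        (∀ p, P p → N p = c) ∧ ∀ p, ¬ P p → N p = 0) := by
  have hle : ∀ p ∈ (univ : Finset (Fin 28)), (if P p then c else 0) ≤ N p := by
    intro p _
    split_ifs with h
    · exact hP p h
    · exact hN p
  have hs : ∑ p, (if P p then c else 0) = c * ((univ.filter P).card : ℤ) := by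
    rw [← sum_filter, sum_const, nsmul_eq_mul, mul_comm]
  refine ⟨?_, fun he => ?_⟩
  · rw [← hs, ← hT]
    exact sum_le_sum hle
  · have h := (sum_eq_sum_iff_of_le hle).1 (by rw [hs, hT, he])
    refine ⟨fun p hp => ?_, fun p hp => ?_⟩
    · have := h p (mem_univ _); rw [if_pos hp] at this; exact this.symm
    · have := h p (mem_univ _); rw [if_neg hp] at this; exact this.symm

/-- Case of a vector divisible by two. -/
theorem no_double_root {v : Spor.RuVec} (hv : v ∈ Spor.ruLattice) (a b : Fin 28 → ℤ)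
    (ha : ∀ p, reZ v p = 2 * a p) (hb : ∀ p, imZ v p = 2 * b p)
    (hsum : ∑ p, (a p * a p + b p * b p) = 2) : False := by
  have hW : ∀ e, inW e = true → ∑ p : Fin 28,
      ((a p : ZMod 2) * bz e.1 (2 * p) + (b p : ZMod 2) * bz e.1 (2 * p + 1)) = 0 := by
    intro e he
    have h := four_dvd hv he
    simp only [ha, hb, mul_assoc, ← mul_add, ← mul_sum] at h
    have h2 : (2 : ℤ) ∣ ∑ p : Fin 28,
        (a p * (gv e (2 * p) : ℤ) + b p * (gv e (2 * p + 1) : ℤ)) := by omega
    have h3 := (ZMod.intCast_zmod_eq_zero_iff_dvd _ 2).2 (by exact_mod_cast h2)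
    push_cast at h3
    have hg : ∀ i, ((gv e i : ℕ) : ZMod 2) = bz e.1 i := by
      intro i
      simp only [gv, bz]
      push_cast
      rw [show (2 : ZMod 2) = 0 from by decide, zero_mul, add_zero]
    simpa only [hg] using h3
  set T := univ.filter (fun p => (a p : ZMod 2) + b p = 1) with hT
  have hN : ∀ p, 0 ≤ a p * a p + b p * b p := fun p =>
    add_nonneg (mul_self_nonneg _) (mul_self_nonneg _)
  have hc : (T.card : ℤ) ≤ 2 := by
    have := (card_le_of_norm (c := 1) hN (fun p h => sq_parity h) hsum).1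
    rw [one_mul] at this
    exact this
  have hphi : ∀ j, ∑ p ∈ T, bz (pairCode.get j).1 (2 * p) = 0 := by
    intro j
    have h := hW _ (pair_data.1 j).1
    rw [← h, hT, sum_filter]
    refine sum_congr rfl fun p _ => ?_
    rw [← (pair_data.1 j).2 p]
    generalize (a p : ZMod 2) = x
    generalize (b p : ZMod 2) = y
    generalize bz (pairCode.get j).1 (2 * p) = z
    revert x y z
    decide
  obtain h0 | h1 | h2 : T.card = 0 ∨ T.card = 1 ∨ T.card = 2 := by omega
  · have he : ∀ p, (a p : ZMod 2) + b p = 0 := by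
      intro p
      rcases (show ∀ z : ZMod 2, z = 0 ∨ z = 1 by decide) ((a p : ZMod 2) + b p) with h | h
      · exact h
      · exact absurd (card_eq_zero.1 h0) (ne_empty_of_mem (mem_filter.2 ⟨mem_univ p, h⟩))
    have h2dvd : ∀ p, 0 < a p * a p + b p * b p → 2 ≤ a p * a p + b p * b p := by
      intro p hp
      have hz : (((a p * a p + b p * b p : ℤ)) : ZMod 2) = 0 := by
        push_cast
        have := he p
        generalize (a p : ZMod 2) = x at this ⊢
        generalize (b p : ZMod 2) = y at this ⊢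
        revert x y
        decide
      obtain ⟨k, hk⟩ := halves hz
      omega
    obtain ⟨p, hp⟩ : ∃ p, 0 < a p * a p + b p * b p := by
      by_contra hn
      push Not at hn
      have : ∀ p, a p * a p + b p * b p = 0 := fun p => le_antisymm (hn p) (hN p)
      simp [this] at hsum
    have hge : (1 : ℤ) ≤ ((univ.filter fun q => 0 < a q * a q + b q * b q).card : ℤ) := by
      exact_mod_cast card_pos.2 ⟨p, mem_filter.2 ⟨mem_univ _, hp⟩⟩
    obtain ⟨hle2, heq2⟩ := card_le_of_norm (c := 2) hN h2dvd hsum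
    obtain ⟨hon, hoff⟩ := heq2 (by omega)
    have hcard : (univ.filter fun q => 0 < a q * a q + b q * b q).card = 1 := by omega
    have huniq : ∀ q, q ≠ p → a q = 0 ∧ b q = 0 := by
      intro q hq
      have : ¬ 0 < a q * a q + b q * b q := by
        intro hlt
        exact hq (card_le_one.1 hcard.le q (mem_filter.2 ⟨mem_univ _, hlt⟩) p
          (mem_filter.2 ⟨mem_univ _, hp⟩))
      have h0' := hoff q this
      constructor <;> nlinarith [mul_self_nonneg (a q), mul_self_nonneg (b q)]
    have hsq : a p * a p + b p * b p = 2 := hon p hp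
    have hap : (a p : ZMod 2) = 1 := by
      rcases (show ∀ z : ZMod 2, z = 0 ∨ z = 1 by decide) (a p : ZMod 2) with h | h
      · exfalso
        obtain ⟨k, hk⟩ := halves h
        have hb2 : (b p : ZMod 2) = 0 := by have := he p; rwa [h, zero_add] at this
        obtain ⟨l, hl⟩ := halves hb2
        have : (4 : ℤ) ∣ 2 := ⟨k * k + l * l, by rw [← hsq, hk, hl]; ring⟩
        norm_num at this
      · exact h
    have hbp : (b p : ZMod 2) = 1 := by
      have := he p; rw [hap] at this
      generalize (b p : ZMod 2) = y at this ⊢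
      revert y; decide
    have h := hW _ (single_data p).1
    rw [Finset.sum_eq_single p] at h
    · rw [hap, hbp, one_mul, one_mul, (single_data p).2] at h
      exact one_ne_zero h
    · intro q _ hq; simp [(huniq q hq).1, (huniq q hq).2]
    · simp
  · obtain ⟨p, hp⟩ := card_eq_one.1 h1
    obtain ⟨j, hj⟩ := pair_data.2.1 p
    have := hphi j
    rw [hp, sum_singleton, hj] at this
    exact one_ne_zero this
  · obtain ⟨p, q, hpq, hp⟩ := card_eq_two.1 h2
    obtain ⟨j, hj⟩ := pair_data.2.2 p q hpq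
    have := hphi j
    rw [hp, sum_pair hpq, hj] at this
    exact one_ne_zero this

theorem block_sum (f : Fin 56 → ZMod 4) (n : Fin 7)
    (hf : ∀ c : Fin 56, c.val / 8 ≠ n.val → f c = 0) :
    ∑ c, f c = ∑ k : Fin 8, f ⟨8 * n + k, by omega⟩ := by
  rw [← (finProdFinEquiv (m := 7) (n := 8)).sum_comp (fun c : Fin (7 * 8) => f c),
    Fintype.sum_prod_type, Finset.sum_eq_single n]
  · exact sum_congr rfl fun k _ => congrArg f (Fin.ext (by simp [finProdFinEquiv]; ring))
  · intro n' _ hn'
    refine sum_eq_zero fun k _ => hf _ ?_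
    have hv : ((finProdFinEquiv (n', k) : Fin (7 * 8)) : ℕ) = k + 8 * n' := rfl
    intro e
    apply hn'
    apply Fin.ext
    have : ((finProdFinEquiv (n', k) : Fin (7 * 8)) : ℕ) / 8 = n.val := e
    omega
  · intro h
    exact absurd (mem_univ n) h

theorem block_cast (f : Fin 56 → ℤ) (a : ℕ × ℕ) (n : Fin 7) (m : ℕ)
    (hm : ∀ k : Fin 8, m.testBit k = decide (f ⟨8 * n + k, by omega⟩ = -1))
    (h1 : ∀ k : Fin 8, f ⟨8 * n + k, by omega⟩ = 1 ∨ f ⟨8 * n + k, by omega⟩ = -1)
    (h0 : ∀ c : Fin 56, c.val / 8 ≠ n.val → f c = 0)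
    (h : (∑ c : Fin 56, (f c : ZMod 4) * (gv a c : ZMod 4)) = 0) :
    (∑ k : Fin 8, (if m.testBit k then 3 else 1) * gv a (8 * n + k)) % 4 = 0 := by
  rw [block_sum _ n (fun c hc => by rw [h0 c hc, Int.cast_zero, zero_mul])] at h
  refine Nat.mod_eq_zero_of_dvd ?_
  apply (ZMod.natCast_eq_zero_iff _ 4).1
  rw [← h, Nat.cast_sum]
  refine sum_congr rfl fun k _ => ?_
  rw [Nat.cast_mul, hm k]
  rcases h1 k with hk | hk
  · rw [hk]; simp
  · rw [hk]
    simp only [decide_true, if_true, Int.cast_neg, Int.cast_one]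
    rw [show ((3 : ℕ) : ZMod 4) = -1 by decide]

theorem exists_ofBits {k : ℕ} (f : Fin k → Bool) :
    ∃ s : Fin (2 ^ k), ∀ i : Fin k, s.val.testBit i = f i := by
  refine ⟨⟨Nat.ofBits f, Nat.ofBits_lt_two_pow f⟩, fun i => ?_⟩
  exact Nat.testBit_ofBits_lt f i.val i.isLt

/-- No vector is a multiple of `1 + i` by units supported on one block. -/
theorem no_block {v : Spor.RuVec} (hv : v ∈ Spor.ruLattice) (n : Fin 7)
    (hin : ∀ p : Fin 28, p.val / 4 = n.val →
      (reZ v p = 1 ∨ reZ v p = -1) ∧ (imZ v p = 1 ∨ imZ v p = -1))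
    (hout : ∀ p : Fin 28, p.val / 4 ≠ n.val → reZ v p = 0 ∧ imZ v p = 0) : False := by
  obtain ⟨s, hs⟩ : ∃ s : Fin (2 ^ 8), ∀ k : Fin 8,
      s.val.testBit k = decide (flatZ v ⟨8 * n + k, by omega⟩ = -1) :=
    exists_ofBits (fun k : Fin 8 => decide (flatZ v ⟨8 * n + k, by omega⟩ = -1))
  obtain ⟨i, hi, hne⟩ := block_data n s
  generalize row (blockRows.get i) = a at hi hne
  have h1 : ∀ k : Fin 8,
      flatZ v ⟨8 * n + k, by omega⟩ = 1 ∨ flatZ v ⟨8 * n + k, by omega⟩ = -1 := by
    intro k
    have hp := hin ⟨(8 * n + k) / 2, by omega⟩ (by simp only; omega)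
    unfold flatZ
    split_ifs
    · exact hp.1
    · exact hp.2
  have h0 : ∀ c : Fin 56, c.val / 8 ≠ n.val → flatZ v c = 0 := by
    intro c hc
    have hp := hout ⟨c / 2, by omega⟩ (by simp only; omega)
    unfold flatZ
    split_ifs
    · exact hp.1
    · exact hp.2
  have h : (∑ c : Fin 56, (flatZ v c : ZMod 4) * (gv a c : ZMod 4)) = 0 :=
    ip_zero (red_mem_W4 hv) (inW_sound hi)
  exact hne (block_cast (flatZ v) a n s.val hs h1 h0 h)

theorem norm_ne_eight {v : Spor.RuVec} (hv : v ∈ Spor.ruLattice) : Spor.ruNorm v ≠ 8 := by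
  intro hv8
  rw [ruNorm_eq] at hv8
  have hN : ∀ p, 0 ≤ reZ v p * reZ v p + imZ v p * imZ v p := fun p =>
    add_nonneg (mul_self_nonneg _) (mul_self_nonneg _)
  obtain ⟨m, hm⟩ := systematic 9 zeroPhi zeroGen zeroFree
    (fun p => (reZ v p : ZMod 2) + imZ v p) zero_systematic_data (by decide) (fun p => by
      have h := even_dvd hv (zero_mask_data p).1
      rw [← h]
      refine sum_congr rfl fun q _ => ?_
      rw [((zero_mask_data p).2 q).1, ((zero_mask_data p).2 q).2]
      ring)
  have hfil : (univ.filter fun p : Fin 28 => wordBit zeroGen m 9 p = 1)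
      = univ.filter fun p => (reZ v p : ZMod 2) + imZ v p = 1 :=
    filter_congr fun p _ => by rw [wordBit, ← hm p]
  obtain ⟨hle, heq⟩ := card_le_of_norm
    (P := fun p => (reZ v p : ZMod 2) + imZ v p = 1) (c := 1) hN (fun p h => sq_parity h) hv8
  rcases zero_words m (by rw [hfil]; omega) with h0 | ⟨j, hcard, hsupp⟩
  · -- all coordinates divisible by 1 + i
    have he : ∀ p, (reZ v p : ZMod 2) = imZ v p := fun p => by
      have := h0 p
      rw [wordBit, ← hm p] at this
      generalize (reZ v p : ZMod 2) = x at this ⊢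
      generalize (imZ v p : ZMod 2) = y at this ⊢
      revert x y; decide
    obtain ⟨m1, hm1⟩ := systematic 10 onePhi oneGen oneFree (fun p => (reZ v p : ZMod 2))
      one_systematic_data (by decide) (fun p => by
        have h := even_dvd hv (one_mask_data p).1
        rw [← h]
        refine sum_congr rfl fun q _ => ?_
        rw [← (one_mask_data p).2 q, ← he q]
        ring)
    have hfil1 : (univ.filter fun p : Fin 28 => wordBit oneGen m1 10 p = 1)
        = univ.filter fun p => (reZ v p : ZMod 2) = 1 :=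
      filter_congr fun p _ => by rw [wordBit, ← hm1 p]
    have hodd2 : ∀ p, (reZ v p : ZMod 2) = 1 → 2 ≤ reZ v p * reZ v p + imZ v p * imZ v p := by
      intro p h
      have h1 : 1 ≤ reZ v p * reZ v p := by
        have := sq_parity (a := reZ v p) (b := 0) (by simp [h])
        simpa using this
      have h2 : 1 ≤ imZ v p * imZ v p := by
        have := sq_parity (a := imZ v p) (b := 0) (by simp [← he p, h])
        simpa using this
      omega
    obtain ⟨hle1, heq1⟩ := card_le_of_norm
      (P := fun p => (reZ v p : ZMod 2) = 1) (c := 2) hN hodd2 hv8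
    rcases one_words m1 (by rw [hfil1]; omega) with h1 | ⟨n, hcard, hsupp⟩
    · have hr : ∀ p, (reZ v p : ZMod 2) = 0 := fun p => by
        have := h1 p; rwa [wordBit, ← hm1 p] at this
      choose a ha using fun p => halves (hr p)
      choose b hb using fun p => halves ((he p).symm.trans (hr p))
      refine no_double_root hv a b ha hb ?_
      have e : ∑ p, (reZ v p * reZ v p + imZ v p * imZ v p)
          = 4 * ∑ p, (a p * a p + b p * b p) := by
        rw [mul_sum]
        exact sum_congr rfl fun p _ => by rw [ha, hb]; ring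
      omega
    · -- units times 1 + i on one block
      rw [hfil1] at hcard
      obtain ⟨hon, hoff⟩ := heq1 (by rw [hcard]; norm_num)
      have hin : ∀ p : Fin 28, p.val / 4 = n.val →
          (reZ v p = 1 ∨ reZ v p = -1) ∧ (imZ v p = 1 ∨ imZ v p = -1) := by
        intro p hp
        have h := hsupp p
        rw [wordBit, ← hm1 p, if_pos hp] at h
        have h2 := hon p h
        have hr : 1 ≤ reZ v p * reZ v p := by
          have := sq_parity (a := reZ v p) (b := 0) (by simp [h])
          simpa using this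
        have hi : 1 ≤ imZ v p * imZ v p := by
          have := sq_parity (a := imZ v p) (b := 0) (by simp [← he p, h])
          simpa using this
        exact ⟨int_eq_of_sq (by omega) h, int_eq_of_sq (by omega) ((he p).symm.trans h)⟩
      have hout : ∀ p : Fin 28, p.val / 4 ≠ n.val → reZ v p = 0 ∧ imZ v p = 0 := by
        intro p hp
        have h := hsupp p
        rw [wordBit, ← hm1 p, if_neg hp] at h
        have h0' := hoff p (by rw [h]; decide)
        constructor <;> nlinarith [mul_self_nonneg (reZ v p), mul_self_nonneg (imZ v p)]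
      exact no_block hv n (fun p hp => hin p hp) (fun p hp => hout p hp)
  · -- units on one octad of coordinates
    rw [hfil] at hcard
    obtain ⟨hon, hoff⟩ := heq (by rw [hcard]; norm_num)
    obtain ⟨hW, heqbit, hodd⟩ := oct_data j
    have h := even_dvd hv hW
    refine one_ne_zero (α := ZMod 2) (hodd.symm.trans (Eq.trans ?_ h))
    refine sum_congr rfl fun p _ => ?_
    rcases (show ∀ z : ZMod 2, z = 0 ∨ z = 1 by decide) (bz (octSupport.getD j (0, 0)).1 p)
      with hS | hS
    · have hs := hsupp p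
      rw [wordBit, ← hm p, hS] at hs
      have h0' := hoff p (by rw [hs]; decide)
      have hr : reZ v p = 0 := by nlinarith [mul_self_nonneg (reZ v p), mul_self_nonneg (imZ v p)]
      have hi : imZ v p = 0 := by nlinarith [mul_self_nonneg (reZ v p), mul_self_nonneg (imZ v p)]
      rw [hS, hr, hi]
      simp
    · have hs := hsupp p
      rw [wordBit, ← hm p, hS] at hs
      rw [hS, ← heqbit p hS, one_mul, ← add_mul, hs, one_mul]

end CfsgLib.Sporadic.Rudvalis
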