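import Mathlib
import Cfsg.Agent.Lib.Sporadic.Simplicity

/-!
# Sharply four- and five-fold transitive groups of degree 11 and 12
-/

set_option autoImplicit false

namespace CfsgLib.Sporadic.Sharp

open MulAction

variable {G α : Type*} [Group G] [MulAction G α]

theorem isSimple_degree_eleven [Finite G] [Finite α] [FaithfulSMul G α] [IsPretransitive G α]
    (hα : Nat.card α = 11) (hG : Nat.card G = 7920) : IsSimpleGroup G := by
  haveI : Fact (Nat.Prime 11) := ⟨by norm_num⟩
  obtain ⟨P⟩ : Nonempty (Sylow 11 G) := inferInstance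
  have hPc : Nat.card (P : Subgroup G) = 11 := by
    rw [P.card_eq_multiplicity, hG, show (7920 : ℕ) = 11 * 720 by norm_num,
      Nat.factorization_mul (by norm_num) (by norm_num), Finsupp.add_apply,
      Nat.Prime.factorization_self (by norm_num),
      Nat.factorization_eq_zero_of_not_dvd (show ¬ 11 ∣ 720 by norm_num), pow_one]
  obtain ⟨d, m, hd, hN, hc, hm⟩ := Simplicity.exists_card_normalizer hα P hPc
  have hd5 : d = 5 := by
    have hdm : d * m = 720 := by
      rw [hG, mul_assoc] at hc
      omega
    have h10 : d ∣ 10 := hd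
    have := Nat.le_of_dvd (by norm_num) h10
    interval_cases d <;> omega
  exact Simplicity.isSimpleGroup_of_prime_degree (q := 5) (by norm_num) hα P hPc (hd5 ▸ hN)
    (by rw [hG]; norm_num)

/-- The order of a sharply `k`-fold transitive group. -/
theorem card_eq_of_sharp [Fintype α] {k : ℕ} (h : IsMultiplyPretransitive G α k)
    (hk : k ≤ Fintype.card α) (hsharp : ∀ x : Fin k ↪ α, stabilizer G x = ⊥) :
    Nat.card G = (Fintype.card α).descFactorial k := by
  obtain ⟨x⟩ : Nonempty (Fin k ↪ α) := by
    rw [Function.Embedding.nonempty_iff_card_le]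
    simpa using hk
  haveI : IsPretransitive G (Fin k ↪ α) := h
  have := index_stabilizer_of_transitive G x
  rw [hsharp x, Subgroup.index_bot, Nat.card_eq_fintype_card (α := Fin k ↪ α),
    Fintype.card_embedding_eq, Fintype.card_fin] at this
  exact this

theorem isM11_of_sharp [Fintype α] [Finite G] [FaithfulSMul G α] (hα : Fintype.card α = 11)
    (h : IsMultiplyPretransitive G α 4) (hsharp : ∀ x : Fin 4 ↪ α, stabilizer G x = ⊥) :
    IsSimpleGroup G ∧ Nat.card G = 7920 := by
  have hG : Nat.card G = 7920 := by
    rw [card_eq_of_sharp h (by omega) hsharp, hα]; decide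
  have h2 : IsMultiplyPretransitive G α 2 :=
    isMultiplyPretransitive_of_le (G := G) (α := α) (m := 2) (n := 4) (by norm_num)
      (by rw [Nat.card_eq_fintype_card, hα]; norm_num)
  haveI := is_one_pretransitive_iff.1 (isMultiplyPretransitive_of_le (G := G) (α := α) (m := 1) (n := 4)
    (by norm_num) (by rw [Nat.card_eq_fintype_card, hα]; norm_num))
  exact ⟨isSimple_degree_eleven (α := α) (by rw [Nat.card_eq_fintype_card, hα]) hG, hG⟩

theorem isM12_of_sharp [Fintype α] [DecidableEq α] [Finite G] [FaithfulSMul G α]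
    (hα : Fintype.card α = 12) (h : IsMultiplyPretransitive G α 5)
    (hsharp : ∀ x : Fin 5 ↪ α, stabilizer G x = ⊥) : IsSimpleGroup G ∧ Nat.card G = 95040 := by
  have hG : Nat.card G = 95040 := by
    rw [card_eq_of_sharp h (by omega) hsharp, hα]; decide
  have hle : 5 ≤ Nat.card α := by
    rw [Nat.card_eq_fintype_card, hα]; norm_num
  have h2 : IsMultiplyPretransitive G α 2 :=
    isMultiplyPretransitive_of_le (G := G) (α := α) (m := 2) (n := 5) (by norm_num) hle
  haveI := is_one_pretransitive_iff.1
    (isMultiplyPretransitive_of_le (G := G) (α := α) (m := 1) (n := 5) (by norm_num) hle)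
  obtain ⟨a⟩ : Nonempty α := Fintype.card_pos_iff.1 (by omega)
  let act : MulAction (stabilizer G a) {x // x ≠ a} :=
    { smul := fun g x => ⟨(g : G) • x.1, fun e => x.2 (MulAction.injective (g : G) (e.trans g.2.symm))⟩
      one_smul := fun x => Subtype.ext (one_smul G x.1)
      mul_smul := fun g k x => Subtype.ext (mul_smul (g : G) (k : G) x.1) }
  letI := act
  haveI : FaithfulSMul (stabilizer G a) {x // x ≠ a} := ⟨fun {g k} e => Subtype.ext
    (eq_of_smul_eq_smul (α := α) fun x => by
      by_cases hx : x = a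
      · rw [hx, g.2, k.2]
      · exact congrArg Subtype.val (e ⟨x, hx⟩))⟩
  haveI : IsPretransitive (stabilizer G a) {x // x ≠ a} := ⟨fun x y => by
    obtain ⟨g, h1, h2⟩ := is_two_pretransitive_iff.1 h2 x.2.symm y.2.symm
    exact ⟨⟨g, h1⟩, Subtype.ext h2⟩⟩
  have hSt : Nat.card (stabilizer G a) = 7920 := by
    have := Subgroup.card_mul_index (stabilizer G a)
    rw [index_stabilizer_of_transitive, Nat.card_eq_fintype_card (α := α), hα, hG] at this
    omega
  have hS := isSimple_degree_eleven (α := {x // x ≠ a}) (by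
    rw [Nat.card_eq_fintype_card, Fintype.card_subtype_compl, hα, Fintype.card_subtype_eq]) hSt
  refine ⟨Simplicity.isSimpleGroup_of_stabilizer h2 a hS (p := 2) (q := 3) (by norm_num)
    (by norm_num) (by norm_num) ?_ ?_, hG⟩ <;>
  · rw [Nat.card_eq_fintype_card, hα]; norm_num

end CfsgLib.Sporadic.Sharp
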