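import Cfsg.Agent.Lib.Sporadic.Bits
import Cfsg.Agent.Lib.Sporadic.QuadrangleTwo
import Cfsg.Agent.Lib.Sporadic.SrgSeventySevenData

/-!
# The strongly regular graph with parameters (77, 16, 0, 4) is unique

The integral matrix `22 - 11 A + 2 J` squares to 88 times itself, so it is positive semidefinite and every
isotropic vector lies in its kernel.  For two neighbours `a`, `b` of a vertex `v` this gives one linear identity
on the blocks (neighbour quadruples of non-neighbours of `v`); it determines blocks and adjacency.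
-/

set_option autoImplicit false
set_option maxRecDepth 100000

namespace CfsgLib.Sporadic.SrgSS

open Finset CfsgLib.Sporadic

variable {V : Type*} [Fintype V] [DecidableEq V] (G : SimpleGraph V) [DecidableRel G.Adj]

/-- The integral semidefinite matrix. -/
def ent (x y : V) : ℤ := 22 * (if x = y then 1 else 0) - 11 * (if G.Adj x y then 1 else 0) + 2

/-- The neighbours. -/
def nb (x : V) : Finset V := univ.filter fun y => G.Adj x y

/-- Indicator. -/
def ind (S : Finset V) (x : V) : ℤ := if x ∈ S then 1 else 0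

/-- The row of `x` against a weight vector. -/
def row (z : V → ℤ) (x : V) : ℤ := ∑ y, ent G x y * z y

variable {G}

theorem mem_nb {x y : V} : y ∈ nb G x ↔ G.Adj x y := by simp [nb]

theorem nb_card (hG : G.IsSRGWith 77 16 0 4) (x : V) : (nb G x).card = 16 := by
  rw [← hG.regular x, ← SimpleGraph.card_neighborFinset_eq_degree]
  congr 1
  ext y
  simp [nb]

theorem nb_inter (hG : G.IsSRGWith 77 16 0 4) (x y : V) :
    (nb G x ∩ nb G y).card = if x = y then 16 else if G.Adj x y then 0 else 4 := by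
  split_ifs with h h'
  · subst h; rw [inter_self]; exact nb_card hG x
  · rw [← hG.of_adj x y h', ← Set.toFinset_card]
    congr 1
    ext z
    simp [nb, SimpleGraph.mem_commonNeighbors]
  · have h4 : Fintype.card (G.commonNeighbors x y) = 4 := hG.of_not_adj h h'
    rw [← h4, ← Set.toFinset_card]
    congr 1
    ext z
    simp [nb, SimpleGraph.mem_commonNeighbors]

theorem no_adj_of_common (hG : G.IsSRGWith 77 16 0 4) {x y c : V} (hxy : x ≠ y) (hx : G.Adj x c)
    (hy : G.Adj y c) : ¬ G.Adj x y := fun h => by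
  have := nb_inter hG x y
  rw [if_neg hxy, if_pos h, card_eq_zero] at this
  exact (eq_empty_iff_forall_notMem.1 this) c (mem_inter.2 ⟨mem_nb.2 hx, mem_nb.2 hy⟩)

theorem ent_symm (x y : V) : ent G x y = ent G y x := by
  simp only [ent, G.adj_comm x y, eq_comm (a := x)]

theorem ent_sq (hG : G.IsSRGWith 77 16 0 4) (x y : V) :
    ∑ w, ent G w x * ent G w y = 88 * ent G x y := by
  have hd : ∀ (a : V) (f : V → ℤ), ∑ w, (if w = a then (1 : ℤ) else 0) * f w = f a := fun a f => by simp
  have hA : ∀ a : V, ∑ w, (if G.Adj w a then (1 : ℤ) else 0) = 16 := fun a => by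
    rw [sum_boole]
    rw [show (univ.filter fun w => G.Adj w a) = nb G a by ext w; simp [nb, G.adj_comm], nb_card hG]
    rfl
  have hAA : ∑ w, (if G.Adj w x then (1 : ℤ) else 0) * (if G.Adj w y then 1 else 0) =
      ((nb G x ∩ nb G y).card : ℤ) := by
    simp only [mul_ite, mul_one, mul_zero, ← ite_and]
    rw [sum_boole]
    congr 2
    ext w
    simp [nb, G.adj_comm, and_comm]
  have hexp : ∀ w, ent G w x * ent G w y =
      (if w = x then (1 : ℤ) else 0) * (22 * ent G w y) -
      (if w = y then (1 : ℤ) else 0) * (242 * (if G.Adj w x then 1 else 0) - 44) +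
      121 * ((if G.Adj w x then (1 : ℤ) else 0) * (if G.Adj w y then 1 else 0)) -
      22 * (if G.Adj w x then (1 : ℤ) else 0) - 22 * (if G.Adj w y then (1 : ℤ) else 0) + 4 := fun w => by
    simp only [ent]; ring
  rw [sum_congr rfl fun w _ => hexp w]
  simp only [sum_add_distrib, sum_sub_distrib, ← mul_sum, hd, hA, hAA, sum_const, card_univ, hG.card,
    nb_inter hG x y, ent]
  by_cases hxy : x = y
  · subst hxy; simp
  · by_cases h : G.Adj x y
    · simp [hxy, h, G.adj_comm y x, Ne.symm hxy]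
    · simp [hxy, h, G.adj_comm y x, Ne.symm hxy]

theorem sq_eq (hG : G.IsSRGWith 77 16 0 4) (z : V → ℤ) :
    ∑ w, row G z w ^ 2 = 88 * ∑ x, z x * row G z x := by
  calc ∑ w, row G z w ^ 2 = ∑ w, ∑ x, ∑ y, (z x * z y) * (ent G w x * ent G w y) := by
        refine sum_congr rfl fun w _ => ?_
        rw [row, pow_two, sum_mul_sum]
        exact sum_congr rfl fun x _ => sum_congr rfl fun y _ => by ring
    _ = ∑ x, ∑ y, (z x * z y) * ∑ w, ent G w x * ent G w y := by
        rw [sum_comm]
        refine sum_congr rfl fun x _ => ?_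
        rw [sum_comm]
        exact sum_congr rfl fun y _ => (mul_sum _ _ _).symm
    _ = _ := by
        simp only [ent_sq hG, row, mul_sum]
        exact sum_congr rfl fun x _ => sum_congr rfl fun y _ => by ring

theorem kernel_of (hG : G.IsSRGWith 77 16 0 4) {z : V → ℤ} (h : ∀ x, z x ≠ 0 → row G z x = 0) (w : V) :
    row G z w = 0 := by
  have h0 : ∑ x, z x * row G z x = 0 := sum_eq_zero fun x _ => by
    by_cases hx : z x = 0
    · rw [hx, zero_mul]
    · rw [h x hx, mul_zero]
  have := sq_eq hG z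
  rw [h0, mul_zero] at this
  have hw := (sum_eq_zero_iff_of_nonneg fun x _ => sq_nonneg _).1 this w (mem_univ w)
  exact pow_eq_zero_iff (two_ne_zero) |>.1 hw

theorem form_nonneg (hG : G.IsSRGWith 77 16 0 4) (z : V → ℤ) : 0 ≤ ∑ x, z x * row G z x := by
  have := sq_eq hG z
  have h2 : 0 ≤ ∑ w, row G z w ^ 2 := sum_nonneg fun w _ => sq_nonneg _
  linarith

theorem sum_ind (S : Finset V) (f : V → ℤ) : ∑ x, ind S x * f x = ∑ x ∈ S, f x := by
  simp [ind, ite_mul]

theorem row_ind (S : Finset V) (x : V) :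
    ∑ y, ent G x y * ind S y = 22 * ind S x - 11 * ((S ∩ nb G x).card : ℤ) + 2 * (S.card : ℤ) := by
  simp only [mul_comm (ent G x _), sum_ind]
  simp only [ent, sum_add_distrib, sum_sub_distrib, ← mul_sum, sum_ite_eq, sum_boole, sum_const, ind,
    show S.filter (fun y => G.Adj x y) = S ∩ nb G x by ext; simp [nb]]
  ring

/-- Non-neighbours of `v`. -/
def blocks (G : SimpleGraph V) [DecidableRel G.Adj] (v : V) : Finset V := univ.filter fun w => w ≠ v ∧ ¬ G.Adj v w

/-- The neighbours shared with `v`. -/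
def quad (G : SimpleGraph V) [DecidableRel G.Adj] (v w : V) : Finset V := nb G v ∩ nb G w

/-- The blocks on two neighbours. -/
def onPair (G : SimpleGraph V) [DecidableRel G.Adj] (v a b : V) : Finset V := (nb G a ∩ nb G b).erase v

/-- The further points of the blocks on a pair. -/
def sixOf (G : SimpleGraph V) [DecidableRel G.Adj] (v a b : V) : Finset V :=
  (onPair G v a b).biUnion fun w => quad G v w \ {a, b}

variable {v : V}

theorem mem_blocks {w : V} : w ∈ blocks G v ↔ w ≠ v ∧ ¬ G.Adj v w := by simp [blocks]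

theorem not_adj_nb (hG : G.IsSRGWith 77 16 0 4) {a b : V} (ha : a ∈ nb G v) (hb : b ∈ nb G v) :
    ¬ G.Adj a b := fun h => by
  rw [mem_nb] at ha hb
  exact no_adj_of_common hG h.ne (G.adj_symm ha) (G.adj_symm hb) h

theorem quad_card (hG : G.IsSRGWith 77 16 0 4) {w : V} (hw : w ∈ blocks G v) : (quad G v w).card = 4 := by
  rw [mem_blocks] at hw
  rw [quad, nb_inter hG, if_neg (Ne.symm hw.1), if_neg hw.2]

theorem mem_onPair (hG : G.IsSRGWith 77 16 0 4) {a b w : V} (ha : a ∈ nb G v) (hb : b ∈ nb G v) :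
    w ∈ onPair G v a b ↔ w ∈ blocks G v ∧ a ∈ quad G v w ∧ b ∈ quad G v w := by
  simp only [onPair, quad, mem_erase, mem_inter, mem_nb, mem_blocks]
  rw [mem_nb] at ha hb
  constructor
  · rintro ⟨h1, h2, h3⟩
    exact ⟨⟨h1, no_adj_of_common hG (Ne.symm h1) ha (G.adj_symm h2)⟩, ⟨ha, G.adj_symm h2⟩, hb, G.adj_symm h3⟩
  · rintro ⟨⟨h1, -⟩, ⟨-, h2⟩, -, h3⟩
    exact ⟨h1, G.adj_symm h2, G.adj_symm h3⟩

theorem onPair_card (hG : G.IsSRGWith 77 16 0 4) {a b : V} (ha : a ∈ nb G v) (hb : b ∈ nb G v) (hab : a ≠ b) :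
    (onPair G v a b).card = 3 := by
  rw [onPair, card_erase_of_mem (mem_inter.2 ⟨mem_nb.2 (G.adj_symm (mem_nb.1 ha)), mem_nb.2 (G.adj_symm (mem_nb.1 hb))⟩),
    nb_inter hG, if_neg hab, if_neg (not_adj_nb hG ha hb)]

theorem inter_nb_of_indep {S : Finset V} {x : V} (h : ∀ y ∈ S, ¬ G.Adj x y) : (S ∩ nb G x).card = 0 := by
  rw [card_eq_zero, eq_empty_iff_forall_notMem]
  intro y hy
  rw [mem_inter, mem_nb] at hy
  exact h y hy.1 hy.2

theorem blocks_not_adj (hG : G.IsSRGWith 77 16 0 4) {w w' c : V} (hc : c ∈ quad G v w) (hc' : c ∈ quad G v w') :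
    ¬ G.Adj w w' := fun h => by
  simp only [quad, mem_inter, mem_nb] at hc hc'
  exact no_adj_of_common hG h.ne hc.2 hc'.2 h

/-- Two blocks share at most two points. -/
theorem inter_le_two (hG : G.IsSRGWith 77 16 0 4) {B C : V} (hB : B ∈ blocks G v) (hC : C ∈ blocks G v)
    (hne : B ≠ C) : (quad G v B ∩ quad G v C).card ≤ 2 := by
  by_contra hlt
  set D := quad G v B ∩ quad G v C with hD
  have hD4 : D.card ≤ 4 := (card_le_card inter_subset_left).trans (le_of_eq (quad_card hG hB))
  obtain ⟨c, hc⟩ : D.Nonempty := card_pos.1 (by omega)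
  have hBC := blocks_not_adj hG (mem_inter.1 hc).1 (mem_inter.1 hc).2
  rw [mem_blocks] at hB hC
  have hqv : ∀ w, ∀ x ∈ quad G v w, G.Adj v x ∧ G.Adj w x := fun w x hx => by
    simpa [quad, mem_nb] using hx
  have hxx : ∀ w w' x y, x ∈ quad G v w → y ∈ quad G v w' → ¬ G.Adj x y := fun w w' x y hx hy =>
    not_adj_nb hG (mem_inter.1 hx).1 (mem_inter.1 hy).1
  -- neighbours inside the configuration
  let T : Finset V := {v, B, C}
  have hTc : T.card = 3 := by
    rw [card_insert_of_notMem (by simp [hB.1.symm, hC.1.symm]), card_pair hne]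
  have hTD : Disjoint T D := by
    rw [Finset.disjoint_left]
    intro x hx hxD
    obtain ⟨h1, h2⟩ := hqv B x (mem_inter.1 hxD).1
    simp only [T, mem_insert, mem_singleton] at hx
    rcases hx with rfl | rfl | rfl
    · exact G.irrefl h1
    · exact hB.2 h1
    · exact hC.2 h1
  have hTT : ∀ x ∈ T, (T ∩ nb G x).card = 0 := by
    intro x hx
    refine inter_nb_of_indep fun y hy => ?_
    simp only [T, mem_insert, mem_singleton] at hx hy
    rcases hx with rfl | rfl | rfl <;> rcases hy with rfl | rfl | rfl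
    exacts [G.irrefl, hB.2, hC.2, fun h => hB.2 (G.adj_symm h), G.irrefl, hBC, fun h => hC.2 (G.adj_symm h),
      fun h => hBC (G.adj_symm h), G.irrefl]
  have hTx : ∀ x ∈ D, T ⊆ nb G x := fun x hx y hy => by
    rw [mem_nb]
    simp only [T, mem_insert, mem_singleton] at hy
    rcases hy with e | e | e <;> rw [e]
    exacts [G.adj_symm (hqv B x (mem_inter.1 hx).1).1, G.adj_symm (hqv B x (mem_inter.1 hx).1).2,
      G.adj_symm (hqv C x (mem_inter.1 hx).2).2]
  have hDx : ∀ x ∈ T, D ⊆ nb G x := fun x hx y hy => mem_nb.2 (G.adj_symm (mem_nb.1 (hTx y hy hx)))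
  rcases (show D.card = 4 ∨ D.card = 3 by omega) with h4 | h3
  · -- three vertices with four common neighbours
    let z : V → ℤ := ind (T ∪ D)
    have hU : (T ∪ D).card = 7 := by rw [card_union_of_disjoint hTD, hTc, h4]
    have hrT : ∀ x ∈ T, row G z x = -8 := fun x hx => by
      have e : ((T ∪ D) ∩ nb G x).card = 4 := by
        rw [union_inter_distrib_right, card_union_of_disjoint
          (hTD.mono inter_subset_left inter_subset_left), hTT x hx, inter_eq_left.2 (hDx x hx), h4]
      show ∑ y, ent G x y * ind (T ∪ D) y = _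
      rw [row_ind, e, hU, ind, if_pos (mem_union_left _ hx)]
      norm_num
    have hrD : ∀ x ∈ D, row G z x = 3 := fun x hx => by
      have e : ((T ∪ D) ∩ nb G x).card = 3 := by
        rw [union_inter_distrib_right, card_union_of_disjoint
          (hTD.mono inter_subset_left inter_subset_left), inter_eq_left.2 (hTx x hx), hTc,
          inter_nb_of_indep fun y hy => hxx B B x y (mem_inter.1 hx).1 (mem_inter.1 hy).1]
      show ∑ y, ent G x y * ind (T ∪ D) y = _
      rw [row_ind, e, hU, ind, if_pos (mem_union_right _ hx)]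
      norm_num
    have := form_nonneg hG z
    rw [sum_ind (T ∪ D) (row G z), sum_union hTD, sum_congr rfl hrT, sum_congr rfl hrD, sum_const, sum_const,
      hTc, h4] at this
    norm_num at this
  · -- exactly three shared points
    obtain ⟨d, hd⟩ := card_eq_one.1 (show (quad G v B \ D).card = 1 by
      rw [card_sdiff_of_subset inter_subset_left, quad_card hG (mem_blocks.2 hB), h3])
    obtain ⟨e, he⟩ := card_eq_one.1 (show (quad G v C \ D).card = 1 by
      rw [card_sdiff_of_subset inter_subset_right, quad_card hG (mem_blocks.2 hC), h3])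
    obtain ⟨hdB, hdD⟩ := mem_sdiff.1 (hd.symm.subset (mem_singleton_self d))
    obtain ⟨heC, heD⟩ := mem_sdiff.1 (he.symm.subset (mem_singleton_self e))
    have hdC : d ∉ quad G v C := fun h => hdD (mem_inter.2 ⟨hdB, h⟩)
    have heB : e ∉ quad G v B := fun h => heD (mem_inter.2 ⟨h, heC⟩)
    have hde : d ≠ e := fun h => hdC (h ▸ heC)
    have hndC : ¬ G.Adj C d := fun h => hdC (mem_inter.2 ⟨(mem_inter.1 hdB).1, mem_nb.2 h⟩)
    have hneB : ¬ G.Adj B e := fun h => heB (mem_inter.2 ⟨(mem_inter.1 heC).1, mem_nb.2 h⟩)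
    let z : V → ℤ := fun y => 2 * ind (T ∪ D) y + ind {d, e} y
    have hS : (T ∪ D).card = 6 := by rw [card_union_of_disjoint hTD, hTc, h3]
    have hrow : ∀ x, row G z x = 2 * (22 * ind (T ∪ D) x - 11 * (((T ∪ D) ∩ nb G x).card : ℤ) + 12) +
        (22 * ind {d, e} x - 11 * ((({d, e} : Finset V) ∩ nb G x).card : ℤ) + 4) := fun x => by
      show ∑ y, ent G x y * (2 * ind (T ∪ D) y + ind {d, e} y) = _
      simp only [mul_add, sum_add_distrib, mul_left_comm (ent G x _) 2, ← mul_sum, row_ind, hS, card_pair hde]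
      norm_num
    have hsplit : ∀ x, ((T ∪ D) ∩ nb G x).card = (T ∩ nb G x).card + (D ∩ nb G x).card := fun x => by
      rw [union_inter_distrib_right, card_union_of_disjoint (hTD.mono inter_subset_left inter_subset_left)]
    have hde_not : ∀ x, x = d ∨ x = e → x ∉ T ∪ D := by
      rintro x hx h
      rcases mem_union.1 h with h' | h'
      · have hadj : G.Adj v x := by
          rcases hx with rfl | rfl
          exacts [(hqv B _ hdB).1, (hqv C _ heC).1]
        simp only [T, mem_insert, mem_singleton] at h'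
        rcases h' with rfl | rfl | rfl
        exacts [G.irrefl hadj, hB.2 hadj, hC.2 hadj]
      · rcases hx with rfl | rfl
        exacts [hdD h', heD h']
    have hnot_de : ∀ x ∈ T ∪ D, x ∉ ({d, e} : Finset V) := fun x hx h =>
      hde_not x (by simpa using h) hx
    have rT : ∀ x ∈ T, (D ∩ nb G x).card = 3 := fun x hx => by rw [inter_eq_left.2 (hDx x hx), h3]
    have rv : row G z v = -16 := by
      have e : (({d, e} : Finset V) ∩ nb G v).card = 2 := by
        rw [inter_eq_left.2, card_pair hde]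
        simp [insert_subset_iff, mem_nb, (hqv B d hdB).1, (hqv C e heC).1]
      rw [hrow, hsplit, hTT v (by simp [T]), rT v (by simp [T]), e, ind, ind,
        if_pos (mem_union_left _ (by simp [T])), if_neg (hnot_de _ (mem_union_left _ (by simp [T])))]
      norm_num
    have rB : row G z B = -5 := by
      have e : (({d, e} : Finset V) ∩ nb G B).card = 1 := by
        rw [show ({d, e} : Finset V) ∩ nb G B = {d} by
          ext y; simp only [mem_inter, mem_insert, mem_singleton, mem_nb]
          constructor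
          · rintro ⟨rfl | rfl, h⟩
            exacts [rfl, absurd h hneB]
          · rintro rfl; exact ⟨Or.inl rfl, (hqv B _ hdB).2⟩, card_singleton]
      rw [hrow, hsplit, hTT B (by simp [T]), rT B (by simp [T]), e, ind, ind,
        if_pos (mem_union_left _ (by simp [T])), if_neg (hnot_de _ (mem_union_left _ (by simp [T])))]
      norm_num
    have rC : row G z C = -5 := by
      have e : (({d, e} : Finset V) ∩ nb G C).card = 1 := by
        rw [show ({d, e} : Finset V) ∩ nb G C = {e} by
          ext y; simp only [mem_inter, mem_insert, mem_singleton, mem_nb]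
          constructor
          · rintro ⟨rfl | rfl, h⟩
            exacts [absurd h hndC, rfl]
          · rintro rfl; exact ⟨Or.inr rfl, (hqv C _ heC).2⟩, card_singleton]
      rw [hrow, hsplit, hTT C (by simp [T]), rT C (by simp [T]), e, ind, ind,
        if_pos (mem_union_left _ (by simp [T])), if_neg (hnot_de _ (mem_union_left _ (by simp [T])))]
      norm_num
    have rD : ∀ x ∈ D, row G z x = 6 := fun x hx => by
      have e0 : (({d, e} : Finset V) ∩ nb G x).card = 0 := inter_nb_of_indep fun y hy => by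
        rcases mem_insert.1 hy with rfl | hy
        · exact hxx B B x y (mem_inter.1 hx).1 hdB
        · rw [mem_singleton] at hy; subst hy; exact hxx B C x y (mem_inter.1 hx).1 heC
      rw [hrow, hsplit, inter_eq_left.2 (hTx x hx), hTc,
        inter_nb_of_indep fun y hy => hxx B B x y (mem_inter.1 hx).1 (mem_inter.1 hy).1, e0, ind, ind,
        if_pos (mem_union_right _ hx), if_neg (hnot_de _ (mem_union_right _ hx))]
      norm_num
    have rd : ∀ x, (x = d ∨ x = e) → row G z x = 6 := by
      intro x hx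
      have hT2 : (T ∩ nb G x).card = 2 := by
        rcases hx with rfl | rfl
        · rw [show T ∩ nb G x = {v, B} by
            ext y; simp only [T, mem_inter, mem_insert, mem_singleton, mem_nb]
            constructor
            · rintro ⟨rfl | rfl | rfl, h⟩
              exacts [Or.inl rfl, Or.inr rfl, absurd (G.adj_symm h) hndC]
            · rintro (rfl | rfl)
              exacts [⟨Or.inl rfl, G.adj_symm (hqv B _ hdB).1⟩, ⟨Or.inr (Or.inl rfl), G.adj_symm (hqv _ _ hdB).2⟩],
            card_pair hB.1.symm]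
        · rw [show T ∩ nb G x = {v, C} by
            ext y; simp only [T, mem_inter, mem_insert, mem_singleton, mem_nb]
            constructor
            · rintro ⟨rfl | rfl | rfl, h⟩
              exacts [Or.inl rfl, absurd (G.adj_symm h) hneB, Or.inr rfl]
            · rintro (rfl | rfl)
              exacts [⟨Or.inl rfl, G.adj_symm (hqv C _ heC).1⟩, ⟨Or.inr (Or.inr rfl), G.adj_symm (hqv _ _ heC).2⟩],
            card_pair hC.1.symm]
      have hxN : ∃ w, x ∈ quad G v w := by
        rcases hx with rfl | rfl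
        exacts [⟨B, hdB⟩, ⟨C, heC⟩]
      obtain ⟨w, hw⟩ := hxN
      have e0 : (({d, e} : Finset V) ∩ nb G x).card = 0 := inter_nb_of_indep fun y hy => by
        rcases mem_insert.1 hy with rfl | hy
        · exact hxx w B x y hw hdB
        · rw [mem_singleton] at hy; subst hy; exact hxx w C x y hw heC
      rw [hrow, hsplit, hT2, inter_nb_of_indep (S := D) fun y hy => hxx w B x y hw (mem_inter.1 hy).1, e0,
        ind, ind, if_neg (hde_not x hx), if_pos (show x ∈ ({d, e} : Finset V) by simpa using hx)]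
      norm_num
    have := form_nonneg hG z
    simp only [z, add_mul, sum_add_distrib, mul_assoc, ← mul_sum] at this
    rw [sum_ind (T ∪ D) (row G z), sum_ind {d, e} (row G z), sum_union hTD, sum_congr rfl rD, sum_pair hde,
      rd d (Or.inl rfl), rd e (Or.inr rfl), sum_const, h3] at this
    simp only [T] at this
    rw [sum_insert (by simp [hB.1.symm, hC.1.symm]), sum_pair hne, rv, rB, rC] at this
    norm_num at this

theorem quad_injOn (hG : G.IsSRGWith 77 16 0 4) : Set.InjOn (quad G v) (blocks G v : Set V) :=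
  fun B hB C hC h => by
    by_contra hne
    have := inter_le_two hG hB hC hne
    rw [h, inter_self, quad_card hG hC] at this
    omega

theorem mem_sixOf {a b c : V} :
    c ∈ sixOf G v a b ↔ ∃ w ∈ onPair G v a b, c ∈ quad G v w ∧ c ≠ a ∧ c ≠ b := by
  simp [sixOf]

theorem pair_inter (hG : G.IsSRGWith 77 16 0 4) {a b : V} (ha : a ∈ nb G v) (hb : b ∈ nb G v) (hab : a ≠ b)
    {w w' : V} (hw : w ∈ onPair G v a b) (hw' : w' ∈ onPair G v a b) (hne : w ≠ w') :
    quad G v w ∩ quad G v w' = {a, b} := by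
  obtain ⟨h1, h2, h3⟩ := (mem_onPair hG ha hb).1 hw
  obtain ⟨h1', h2', h3'⟩ := (mem_onPair hG ha hb).1 hw'
  refine (eq_of_subset_of_card_le ?_ ?_).symm
  · simp [insert_subset_iff, h2, h3, h2', h3']
  · rw [card_pair hab]; exact inter_le_two hG h1 h1' hne

/-- The identity of a pair of neighbours. -/
theorem pair_identity (hG : G.IsSRGWith 77 16 0 4) {a b : V} (ha : a ∈ nb G v) (hb : b ∈ nb G v) (hab : a ≠ b)
    {w : V} (hw : w ∈ blocks G v) (hwT : w ∉ onPair G v a b) :
    2 * (onPair G v a b ∩ nb G w).card + 3 * (({a, b} : Finset V) ∩ quad G v w).card +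
      (sixOf G v a b ∩ quad G v w).card = 4 := by
  set T := onPair G v a b with hT
  set S := sixOf G v a b with hS
  have hT3 : T.card = 3 := onPair_card hG ha hb hab
  have hTm : ∀ u ∈ T, u ∈ blocks G v ∧ a ∈ quad G v u ∧ b ∈ quad G v u := fun u hu =>
    (mem_onPair hG ha hb).1 hu
  have hSN : ∀ c ∈ S, c ∈ nb G v ∧ c ∉ ({a, b} : Finset V) := fun c hc => by
    obtain ⟨u, -, hcu, h1, h2⟩ := mem_sixOf.1 hc
    exact ⟨(mem_inter.1 hcu).1, by simp [h1, h2]⟩
  have hS6 : S.card = 6 := by
    rw [hS, sixOf, card_biUnion]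
    · rw [sum_const_nat (m := 2) fun u hu => ?_, hT3]
      rw [card_sdiff_of_subset (by simp [insert_subset_iff, (hTm u hu).2.1, (hTm u hu).2.2]),
        quad_card hG (hTm u hu).1, card_pair hab]
    · intro u hu u' hu' hne
      rw [Function.onFun, Finset.disjoint_left]
      intro c hc hc'
      rw [mem_sdiff] at hc hc'
      exact hc.2 (pair_inter hG ha hb hab hu hu' hne ▸ mem_inter.2 ⟨hc.1, hc'.1⟩)
  have hab2 : ({a, b} : Finset V) ⊆ nb G v := by simp [insert_subset_iff, ha, hb]
  let z : V → ℤ := fun y => 4 * ind {v} y + 2 * ind T y + 3 * ind {a, b} y + ind S y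
  have hrow : ∀ x, row G z x = 4 * (22 * ind {v} x - 11 * ((({v} : Finset V) ∩ nb G x).card : ℤ) + 2) +
      2 * (22 * ind T x - 11 * ((T ∩ nb G x).card : ℤ) + 6) +
      3 * (22 * ind {a, b} x - 11 * ((({a, b} : Finset V) ∩ nb G x).card : ℤ) + 4) +
      (22 * ind S x - 11 * ((S ∩ nb G x).card : ℤ) + 12) := fun x => by
    show ∑ y, ent G x y * (4 * ind {v} y + 2 * ind T y + 3 * ind {a, b} y + ind S y) = _
    simp only [mul_add, sum_add_distrib, mul_left_comm (ent G x _) 4, mul_left_comm (ent G x _) 2,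
      mul_left_comm (ent G x _) 3, ← mul_sum, row_ind, hT3, hS6, card_pair hab, card_singleton]
    norm_num
  have hvT : v ∉ T := notMem_erase v _
  have hvN : v ∉ nb G v := fun h => G.irrefl (mem_nb.1 h)
  have hTN : ∀ u ∈ T, u ∉ nb G v := fun u hu h => (mem_blocks.1 (hTm u hu).1).2 (mem_nb.1 h)
  have hindep : ∀ x ∈ nb G v, ∀ y ∈ nb G v, ¬ G.Adj x y := fun x hx y hy => not_adj_nb hG hx hy
  have one_v : ∀ x ∈ nb G v, (({v} : Finset V) ∩ nb G x).card = 1 := fun x hx => by
    rw [inter_eq_left.2 (singleton_subset_iff.2 (mem_nb.2 (G.adj_symm (mem_nb.1 hx)))), card_singleton]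
  have key : ∀ x, z x ≠ 0 → row G z x = 0 := by
    intro x hx
    have hcase : x = v ∨ x ∈ T ∨ x ∈ ({a, b} : Finset V) ∨ x ∈ S := by
      by_contra hno
      simp only [not_or, mem_insert, mem_singleton] at hno
      simp [z, ind, hno] at hx
    rw [hrow]
    rcases hcase with rfl | h | h | h
    · rw [show ind {x} x = 1 by simp [ind], show ind T x = 0 by simp [ind, hvT],
        show ind {a, b} x = 0 from if_neg fun h => hvN (hab2 h),
        show ind S x = 0 from if_neg fun h => hvN (hSN x h).1,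
        inter_nb_of_indep (S := {x}) (fun y hy => by rw [mem_singleton] at hy; subst hy; exact G.irrefl),
        inter_nb_of_indep (S := T) (fun y hy hyx => hTN y hy (mem_nb.2 hyx)),
        inter_eq_left.2 hab2, card_pair hab, inter_eq_left.2 (fun y hy => (hSN y hy).1), hS6]
      norm_num
    · have e1 : (({a, b} : Finset V) ∩ nb G x).card = 2 := by
        rw [inter_eq_left.2, card_pair hab]
        simp [insert_subset_iff, (mem_inter.1 (hTm x h).2.1).2, (mem_inter.1 (hTm x h).2.2).2]
      have e2 : (S ∩ nb G x).card = 2 := by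
        have : S ∩ nb G x = quad G v x \ {a, b} := by
          ext c
          rw [mem_inter, mem_sdiff]
          constructor
          · rintro ⟨hcS, hcx⟩
            exact ⟨mem_inter.2 ⟨(hSN c hcS).1, hcx⟩, (hSN c hcS).2⟩
          · rintro ⟨hcq, hcn⟩
            simp only [mem_insert, mem_singleton, not_or] at hcn
            exact ⟨mem_sixOf.2 ⟨x, h, hcq, hcn.1, hcn.2⟩, (mem_inter.1 hcq).2⟩
        rw [this, card_sdiff_of_subset (by simp [insert_subset_iff, (hTm x h).2.1, (hTm x h).2.2]),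
          quad_card hG (hTm x h).1, card_pair hab]
      rw [show ind {v} x = 0 from if_neg fun e => hvT (by rw [mem_singleton] at e; exact e ▸ h),
        show ind T x = 1 by simp [ind, h],
        show ind {a, b} x = 0 from if_neg fun e => hTN x h (hab2 e),
        show ind S x = 0 from if_neg fun e => hTN x h (hSN x e).1,
        inter_nb_of_indep (S := {v}) (fun y hy hxy => by
          rw [mem_singleton] at hy; subst hy; exact hTN x h (mem_nb.2 (G.adj_symm hxy))),
        inter_nb_of_indep (S := T) (fun y hy => blocks_not_adj hG (hTm x h).2.1 (hTm y hy).2.1), e1, e2]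
      norm_num
    · have hxN := hab2 h
      rw [show ind {v} x = 0 from if_neg fun e => hvN (by rw [mem_singleton] at e; exact e ▸ hxN),
        show ind T x = 0 from if_neg fun e => hTN x e hxN, show ind {a, b} x = 1 by simp [ind, h],
        show ind S x = 0 from if_neg fun e => (hSN x e).2 h, one_v x hxN,
        inter_eq_left.2 (fun u hu => ?_), hT3, inter_nb_of_indep fun y hy => hindep x hxN y (hab2 hy),
        inter_nb_of_indep fun y hy => hindep x hxN y (hSN y hy).1]
      · norm_num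
      · rcases mem_insert.1 h with rfl | h'
        · exact mem_nb.2 (G.adj_symm (mem_nb.1 (mem_inter.1 (hTm u hu).2.1).2))
        · rw [mem_singleton] at h'; subst h'
          exact mem_nb.2 (G.adj_symm (mem_nb.1 (mem_inter.1 (hTm u hu).2.2).2))
    · have hxN := (hSN x h).1
      have e1 : (T ∩ nb G x).card = 1 := by
        obtain ⟨u, hu, hxu, -, -⟩ := mem_sixOf.1 h
        rw [card_eq_one]
        refine ⟨u, eq_singleton_iff_unique_mem.2
          ⟨mem_inter.2 ⟨hu, mem_nb.2 (G.adj_symm (mem_nb.1 (mem_inter.1 hxu).2))⟩, fun u' hu' => ?_⟩⟩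
        rw [mem_inter, mem_nb] at hu'
        by_contra hne
        exact (hSN x h).2 (pair_inter hG ha hb hab hu'.1 hu hne ▸
          mem_inter.2 ⟨mem_inter.2 ⟨hxN, mem_nb.2 (G.adj_symm hu'.2)⟩, hxu⟩)
      rw [show ind {v} x = 0 from if_neg fun e => hvN (by rw [mem_singleton] at e; exact e ▸ hxN),
        show ind T x = 0 from if_neg fun e => hTN x e hxN,
        show ind {a, b} x = 0 from if_neg (hSN x h).2, show ind S x = 1 by simp [ind, h], one_v x hxN, e1,
        inter_nb_of_indep fun y hy => hindep x hxN y (hab2 hy),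
        inter_nb_of_indep fun y hy => hindep x hxN y (hSN y hy).1]
      norm_num
  have h0 := kernel_of hG key w
  rw [hrow] at h0
  have hwv := (mem_blocks.1 hw)
  have hwN : w ∉ nb G v := fun h => hwv.2 (mem_nb.1 h)
  rw [show ind {v} w = 0 from if_neg fun e => hwv.1 (mem_singleton.1 e),
    show ind T w = 0 from if_neg hwT, show ind {a, b} w = 0 from if_neg fun e => hwN (hab2 e),
    show ind S w = 0 from if_neg fun e => hwN (hSN w e).1,
    inter_nb_of_indep (S := {v}) (fun y hy h => hwv.2 (by rw [mem_singleton] at hy; subst hy; exact G.adj_symm h))] at h0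
  have ea : ({a, b} : Finset V) ∩ quad G v w = {a, b} ∩ nb G w := by
    rw [quad, ← inter_assoc, inter_eq_left.2 hab2]
  have eS : S ∩ quad G v w = S ∩ nb G w := by
    rw [quad, ← inter_assoc, inter_eq_left.2 fun c hc => (hSN c hc).1]
  rw [ea, eS]
  omega

/-! ### the labelling -/

/-- The points of a block of the model. -/
def mset (k : Fin 60) : Finset (Fin 16) := univ.filter fun i => (blockMasks.getD k.val 0).testBit i.val

/-- The number of the first block's points among the further points of the pair. -/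
noncomputable def witCount (C : ℕ) (t : ℕ × ℕ × ℕ × ℕ × ℕ) : ℕ :=
  popc (Nat.land (blockMasks.getD C 0) (Nat.lor (blockMasks.getD t.1 0)
    (Nat.lor (blockMasks.getD t.2.2.2.1 0) (blockMasks.getD t.2.2.2.2 0))))

/-- Adjacency of two blocks of the model. -/
noncomputable def madj (C D : Fin 60) : Bool :=
  (blockWit.getD C.val []).any fun t => Nat.beq t.1 D.val && Nat.beq (witCount C.val t) 2

theorem mset_std : ∀ k : Fin 15, mset ⟨k.val, by omega⟩ =
    insert 0 (((QuadTwo.stdLines.getD k.val []).toFinset).image Fin.succ) := by decide +kernel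

theorem mset_pairs : ∀ l ∈ QuadTwo.stdLines, ∀ m ∈ QuadTwo.stdLines, ∀ i : Fin 15, i ∈ l → i ∈ m → l ≠ m →
    ∃ k : Fin 60, mset k = ((l.toFinset ∪ m.toFinset).erase i).image Fin.succ := by decide +kernel

theorem wit_total : ∀ C : Fin 60, ∀ D : Fin 60, C ≠ D → mset C ∩ mset D = ∅ →
    ∃ t ∈ blockWit.getD C.val [], t.1 = D.val := by decide +kernel

theorem wit_check : ∀ C : Fin 60, ∀ t ∈ blockWit.getD C.val [], ∃ (a b : Fin 16) (D E F : Fin 60),
    t.1 = D.val ∧ t.2.2.2.1 = E.val ∧ t.2.2.2.2 = F.val ∧ a ≠ b ∧ D ≠ E ∧ D ≠ F ∧ E ≠ F ∧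
    {a, b} ⊆ mset D ∩ mset E ∩ mset F ∧ mset C ∩ mset D = ∅ ∧ (mset C ∩ mset E).Nonempty ∧
    (mset C ∩ mset F).Nonempty ∧ a ∉ mset C ∧ b ∉ mset C ∧
    witCount C.val t = (mset C ∩ (mset D ∪ mset E ∪ mset F)).card := by
  intro C t ht
  have key : ∀ C : Fin 60, ∀ t ∈ blockWit.getD C.val [],
      t.1 < 60 ∧ t.2.1 < 16 ∧ t.2.2.1 < 16 ∧ t.2.2.2.1 < 60 ∧ t.2.2.2.2 < 60 := by decide +kernel
  obtain ⟨h1, h2, h3, h4, h5⟩ := key C t ht
  refine ⟨⟨_, h2⟩, ⟨_, h3⟩, ⟨_, h1⟩, ⟨_, h4⟩, ⟨_, h5⟩, rfl, rfl, rfl, ?_⟩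
  have key' : ∀ C : Fin 60, ∀ t ∈ blockWit.getD C.val [],
      ∀ a : Fin 16, a.val = t.2.1 → ∀ b : Fin 16, b.val = t.2.2.1 → ∀ D : Fin 60, D.val = t.1 →
      ∀ E : Fin 60, E.val = t.2.2.2.1 → ∀ F : Fin 60, F.val = t.2.2.2.2 →
      a ≠ b ∧ D ≠ E ∧ D ≠ F ∧ E ≠ F ∧ {a, b} ⊆ mset D ∩ mset E ∩ mset F ∧ mset C ∩ mset D = ∅ ∧
      (mset C ∩ mset E).Nonempty ∧ (mset C ∩ mset F).Nonempty ∧ a ∉ mset C ∧ b ∉ mset C ∧
      witCount C.val t = (mset C ∩ (mset D ∪ mset E ∪ mset F)).card := by decide +kernel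
  exact key' C t ht _ rfl _ rfl _ rfl _ rfl _ rfl

theorem quad_at (hG : G.IsSRGWith 77 16 0 4) {a : V} (ha : a ∈ nb G v) :
    QuadTwo.IsQuadTwo ((nb G v).erase a)
      (((blocks G v).filter fun w => a ∈ quad G v w).image fun w => (quad G v w).erase a) := by
  classical
  set W := (blocks G v).filter fun w => a ∈ quad G v w with hW
  have hinj : Set.InjOn (fun w => (quad G v w).erase a) (W : Set V) := fun x hx y hy e => by
    rw [mem_coe, hW, mem_filter] at hx hy
    refine quad_injOn hG (mem_coe.2 hx.1) (mem_coe.2 hy.1) ?_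
    rw [← insert_erase hx.2, ← insert_erase hy.2]
    exact congrArg (insert a) e
  have hWc : W.card = 15 := by
    have e : W = (nb G a).erase v := by
      ext w
      rw [hW, mem_filter, mem_erase, quad, mem_inter, mem_nb, mem_nb, mem_blocks, mem_nb]
      have ha' := mem_nb.1 ha
      constructor
      · rintro ⟨⟨h1, -⟩, -, h2⟩; exact ⟨h1, G.adj_symm h2⟩
      · rintro ⟨h1, h2⟩
        exact ⟨⟨h1, no_adj_of_common hG (Ne.symm h1) ha' (G.adj_symm h2)⟩, ha', G.adj_symm h2⟩
    rw [e, card_erase_of_mem (mem_nb.2 (G.adj_symm (mem_nb.1 ha))), nb_card hG]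
  refine ⟨by rw [card_erase_of_mem ha, nb_card hG], by rw [card_image_of_injOn hinj, hWc], ?_, ?_, ?_, ?_, ?_⟩
  · intro l hl
    obtain ⟨w, -, rfl⟩ := mem_image.1 hl
    exact erase_subset_erase _ inter_subset_left
  · intro l hl
    obtain ⟨w, hw, rfl⟩ := mem_image.1 hl
    rw [hW, mem_filter] at hw
    rw [card_erase_of_mem hw.2, quad_card hG hw.1]
  · intro x hx
    rw [mem_erase] at hx
    have e : ((W.image fun w => (quad G v w).erase a).filter fun l => x ∈ l) =
        (onPair G v a x).image fun w => (quad G v w).erase a := by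
      ext l
      simp only [mem_filter, mem_image, hW, mem_onPair hG ha hx.2]
      constructor
      · rintro ⟨⟨w, ⟨h1, h2⟩, rfl⟩, hxl⟩
        exact ⟨w, ⟨h1, h2, mem_of_mem_erase hxl⟩, rfl⟩
      · rintro ⟨w, ⟨h1, h2, h3⟩, rfl⟩
        exact ⟨⟨w, ⟨h1, h2⟩, rfl⟩, mem_erase.2 ⟨hx.1, h3⟩⟩
    rw [e, card_image_of_injOn (hinj.mono fun w hw => ?_), onPair_card hG ha hx.2 (Ne.symm hx.1)]
    obtain ⟨h1, h2, -⟩ := (mem_onPair hG ha hx.2).1 hw
    exact mem_coe.2 (mem_filter.2 ⟨h1, h2⟩)
  · intro l hl m hm x y hxy hxl hyl hxm hym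
    obtain ⟨w, hw, rfl⟩ := mem_image.1 hl
    obtain ⟨u, hu, rfl⟩ := mem_image.1 hm
    rw [hW, mem_filter] at hw hu
    by_contra hne
    have hwu : w ≠ u := fun e => hne (e ▸ rfl)
    have h3 : ({a, x, y} : Finset V) ⊆ quad G v w ∩ quad G v u := by
      simp [insert_subset_iff, hw.2, hu.2, mem_of_mem_erase hxl, mem_of_mem_erase hxm, mem_of_mem_erase hyl,
        mem_of_mem_erase hym]
    have := (card_le_card h3).trans (inter_le_two hG hw.1 hu.1 hwu)
    rw [card_insert_of_notMem (by simp [Ne.symm (ne_of_mem_erase hxl), Ne.symm (ne_of_mem_erase hyl)]),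
      card_pair hxy] at this
    omega
  · intro l hl x hx hxl
    obtain ⟨w, hw, rfl⟩ := mem_image.1 hl
    rw [hW, mem_filter] at hw
    rw [mem_erase] at hx
    have hxw : x ∉ quad G v w := fun h => hxl (mem_erase.2 ⟨hx.1, h⟩)
    have hid := pair_identity hG ha hx.2 (Ne.symm hx.1) hw.1
      fun h => hxw ((mem_onPair hG ha hx.2).1 h).2.2
    have e : ({a, x} : Finset V) ∩ quad G v w = {a} := by
      ext y; simp only [mem_inter, mem_insert, mem_singleton]
      constructor
      · rintro ⟨rfl | rfl, h⟩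
        exacts [rfl, absurd h hxw]
      · rintro rfl; exact ⟨Or.inl rfl, hw.2⟩
    rw [e, card_singleton] at hid
    obtain ⟨c, hc⟩ := card_eq_one.1 (show (sixOf G v a x ∩ quad G v w).card = 1 by omega)
    obtain ⟨hcS, hcw⟩ := mem_inter.1 (hc.symm.subset (mem_singleton_self c))
    obtain ⟨u, hu, hcu, hca, hcx⟩ := mem_sixOf.1 hcS
    obtain ⟨hu1, hu2, hu3⟩ := (mem_onPair hG ha hx.2).1 hu
    refine ⟨c, ⟨mem_erase.2 ⟨hca, hcw⟩, (quad G v u).erase a,
      mem_image.2 ⟨u, mem_filter.2 ⟨hu1, hu2⟩, rfl⟩, mem_erase.2 ⟨hx.1, hu3⟩,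
      mem_erase.2 ⟨hca, hcu⟩⟩, ?_⟩
    rintro d ⟨hdl, m, hm, hxm, hdm⟩
    obtain ⟨u', hu', rfl⟩ := mem_image.1 hm
    rw [hW, mem_filter] at hu'
    have hd : d ∈ sixOf G v a x ∩ quad G v w :=
      mem_inter.2 ⟨mem_sixOf.2 ⟨u', (mem_onPair hG ha hx.2).2 ⟨hu'.1, hu'.2, mem_of_mem_erase hxm⟩,
        mem_of_mem_erase hdm, ne_of_mem_erase hdm, fun e => hxw (e ▸ mem_of_mem_erase hdl)⟩,
        mem_of_mem_erase hdl⟩
    rw [hc, mem_singleton] at hd
    exact hd

theorem exists_labels (hG : G.IsSRGWith 77 16 0 4) (v : V) :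
    ∃ (ψ : Fin 16 → V) (β : Fin 60 → V), Function.Injective ψ ∧ univ.image ψ = nb G v ∧
      Function.Injective β ∧ univ.image β = blocks G v ∧ ∀ k, quad G v (β k) = (mset k).image ψ := by
  classical
  obtain ⟨a, ha⟩ : (nb G v).Nonempty := card_pos.1 (by rw [nb_card hG]; norm_num)
  have hQ := quad_at hG ha
  obtain ⟨φ, hφ, himg, hL⟩ := QuadTwo.labelling hQ
  let ψ : Fin 16 → V := Fin.cons a φ
  have hψs : ∀ i : Fin 15, ψ i.succ = φ i := fun i => rfl
  have hψ0 : ψ 0 = a := rfl
  have haφ : ∀ i, φ i ≠ a := fun i e => by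
    have : φ i ∈ (nb G v).erase a := himg ▸ mem_image_of_mem φ (mem_univ i)
    exact (ne_of_mem_erase this) e
  have hψ : Function.Injective ψ := Fin.cons_injective_iff.2 ⟨fun ⟨i, e⟩ => haφ i e, hφ⟩
  have hψimg : univ.image ψ = nb G v := by
    rw [← insert_erase ha, ← himg]
    ext x
    simp only [mem_image, mem_univ, true_and, mem_insert]
    constructor
    · rintro ⟨i, rfl⟩
      induction i using Fin.cases with
      | zero => exact Or.inl rfl
      | succ i => exact Or.inr ⟨i, rfl⟩
    · rintro (rfl | ⟨i, rfl⟩)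
      exacts [⟨0, rfl⟩, ⟨i.succ, rfl⟩]
  have hclass : ∀ w ∈ blocks G v, ∃ k, quad G v w = (mset k).image ψ := by
    intro w hw
    by_cases haw : a ∈ quad G v w
    · have hmem : (quad G v w).erase a ∈ (QuadTwo.stdLines.map fun l => l.toFinset.image φ).toFinset := by
        rw [← hL]; exact mem_image.2 ⟨w, mem_filter.2 ⟨hw, haw⟩, rfl⟩
      rw [List.mem_toFinset, List.mem_map] at hmem
      obtain ⟨l, hl, e⟩ := hmem
      obtain ⟨j, hj, rfl⟩ := List.getElem_of_mem hl
      have hj15 : j < 15 := hj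
      refine ⟨⟨j, by omega⟩, ?_⟩
      rw [mset_std ⟨j, hj15⟩, image_insert, image_image, hψ0, ← insert_erase haw, ← e,
        List.getD_eq_getElem _ _ hj]
      congr 1
    · have hsub : ∀ c ∈ quad G v w, c ∈ (nb G v).erase a := fun c hc =>
        mem_erase.2 ⟨fun e => haw (e ▸ hc), (mem_inter.1 hc).1⟩
      -- each point is joined to exactly one other point of the block
      have hmate : ∀ c ∈ quad G v w, ∃ d ∈ quad G v w, d ≠ c ∧
          ∀ e ∈ quad G v w, e ≠ c → (QuadTwo.Col
            (((blocks G v).filter fun u => a ∈ quad G v u).image fun u => (quad G v u).erase a) c e ↔ e = d) := by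
        intro c hc
        obtain ⟨hca, hcN⟩ := mem_erase.1 (hsub c hc)
        have hid := pair_identity hG ha hcN (Ne.symm hca) hw
          fun h => haw ((mem_onPair hG ha hcN).1 h).2.1
        have e : ({a, c} : Finset V) ∩ quad G v w = {c} := by
          ext y; simp only [mem_inter, mem_insert, mem_singleton]
          constructor
          · rintro ⟨rfl | rfl, h⟩
            exacts [absurd h haw, rfl]
          · rintro rfl; exact ⟨Or.inr rfl, hc⟩
        rw [e, card_singleton] at hid
        obtain ⟨d, hd⟩ := card_eq_one.1 (show (sixOf G v a c ∩ quad G v w).card = 1 by omega)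
        obtain ⟨hdS, hdw⟩ := mem_inter.1 (hd.symm.subset (mem_singleton_self d))
        obtain ⟨u, hu, hdu, hda, hdc⟩ := mem_sixOf.1 hdS
        refine ⟨d, hdw, hdc, fun f hf hfc => ⟨?_, ?_⟩⟩
        · rintro ⟨m, hm, hcm, hfm⟩
          obtain ⟨u', hu', rfl⟩ := mem_image.1 hm
          rw [mem_filter] at hu'
          have : f ∈ sixOf G v a c ∩ quad G v w :=
            mem_inter.2 ⟨mem_sixOf.2 ⟨u', (mem_onPair hG ha hcN).2 ⟨hu'.1, hu'.2, mem_of_mem_erase hcm⟩,
              mem_of_mem_erase hfm, ne_of_mem_erase hfm, hfc⟩, hf⟩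
          rw [hd, mem_singleton] at this
          exact this
        · rintro rfl
          obtain ⟨h1, h2, h3⟩ := (mem_onPair hG ha hcN).1 hu
          exact ⟨_, mem_image.2 ⟨u, mem_filter.2 ⟨h1, h2⟩, rfl⟩, mem_erase.2 ⟨hca, h3⟩,
            mem_erase.2 ⟨hda, hdu⟩⟩
      obtain ⟨c, hc⟩ : (quad G v w).Nonempty := card_pos.1 (by rw [quad_card hG hw]; norm_num)
      obtain ⟨d, hd, hdc, hcd⟩ := hmate c hc
      obtain ⟨x, y, hxy, hrest⟩ := card_eq_two.1 (show (((quad G v w).erase c).erase d).card = 2 by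
        rw [card_erase_of_mem (mem_erase.2 ⟨hdc, hd⟩), card_erase_of_mem hc, quad_card hG hw])
      have hx' := hrest.symm.subset (mem_insert_self x {y})
      have hy' := hrest.symm.subset (mem_insert_of_mem (mem_singleton_self y))
      simp only [mem_erase] at hx' hy'
      obtain ⟨hxd, hxc, hxq⟩ := hx'
      obtain ⟨hyd, hyc, hyq⟩ := hy'
      have hqeq : quad G v w = {c, d, x, y} := by
        symm
        refine eq_of_subset_of_card_le (by simp [insert_subset_iff, hc, hd, hxq, hyq]) ?_
        rw [quad_card hG hw, card_insert_of_notMem (by simp [hdc.symm, hxc.symm, hyc.symm]),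
          card_insert_of_notMem (by simp [hxd.symm, hyd.symm]), card_pair hxy]
      set L := ((blocks G v).filter fun u => a ∈ quad G v u).image fun u => (quad G v u).erase a with hLdef
      have hCcd : QuadTwo.Col L c d := (hcd d hd hdc).2 rfl
      have hCcx : ¬ QuadTwo.Col L c x := fun h => hxd ((hcd x hxq hxc).1 h)
      have hCcy : ¬ QuadTwo.Col L c y := fun h => hyd ((hcd y hyq hyc).1 h)
      obtain ⟨c', hc', hc'd, hdc'⟩ := hmate d hd
      have hc'c : c' = c := ((hdc' c hc hdc.symm).1 hCcd.symm).symm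
      have hCdx : ¬ QuadTwo.Col L d x := fun h => hxc (hc'c ▸ (hdc' x hxq hxd).1 h)
      have hCdy : ¬ QuadTwo.Col L d y := fun h => hyc (hc'c ▸ (hdc' y hyq hyd).1 h)
      obtain ⟨x', hx'q, hx'x, hxx'⟩ := hmate x hxq
      have hCxy : QuadTwo.Col L x y := by
        have : x' = c ∨ x' = d ∨ x' = x ∨ x' = y := by simpa [hqeq] using hx'q
        rcases this with rfl | rfl | rfl | rfl
        · exact absurd ((hxx' _ hx'q hx'x).2 rfl).symm hCcx
        · exact absurd ((hxx' _ hx'q hx'x).2 rfl).symm hCdx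
        · exact absurd rfl hx'x
        · exact (hxx' _ hx'q hx'x).2 rfl
      obtain ⟨l, hl, hcl, hdl⟩ := hCcd
      obtain ⟨b, hbc, hbd, hleq⟩ := QuadTwo.third hQ hl hdc.symm hcl hdl
      have hbl : b ∈ l := by rw [hleq]; simp
      have hjoin : ∀ z, z ∈ quad G v w → ¬ QuadTwo.Col L c z → ¬ QuadTwo.Col L d z →
          z ∉ l ∧ QuadTwo.Col L z b := by
        intro z hz h1 h2
        have hzl : z ∉ l := fun h => h1 ⟨l, hl, hcl, h⟩
        obtain ⟨u, ⟨hu, hcol⟩, -⟩ := hQ.one l hl z (hsub z hz) hzl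
        rw [hleq] at hu
        simp only [mem_insert, mem_singleton] at hu
        rcases hu with rfl | rfl | rfl
        exacts [absurd (QuadTwo.Col.symm hcol) h1, absurd (QuadTwo.Col.symm hcol) h2, ⟨hzl, hcol⟩]
      obtain ⟨hxl, hxb⟩ := hjoin x hxq hCcx hCdx
      obtain ⟨hyl, hyb⟩ := hjoin y hyq hCcy hCdy
      obtain ⟨m, hm, hxm, hym⟩ := hCxy
      have hbm : b ∈ m := QuadTwo.no_triangle hQ hm hxm hym hxy hxb.symm hyb.symm
      have hbx : b ≠ x := fun e => hxl (e ▸ hbl)
      have hby : b ≠ y := fun e => hyl (e ▸ hbl)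
      have hlm : l ≠ m := fun e => hxl (e ▸ hxm)
      have hmeq : m = {b, x, y} := by
        symm
        refine eq_of_subset_of_card_le (by simp [insert_subset_iff, hbm, hxm, hym]) ?_
        rw [hQ.card_line m hm, card_insert_of_notMem (by simp [hbx, hby]), card_pair hxy]
      have hq2 : quad G v w = (l ∪ m).erase b := by
        rw [hqeq, hleq, hmeq]
        ext z
        simp only [mem_erase, mem_union, mem_insert, mem_singleton]
        constructor
        · rintro (rfl | rfl | rfl | rfl)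
          exacts [⟨hbc.symm, by tauto⟩, ⟨hbd.symm, by tauto⟩, ⟨hbx.symm, by tauto⟩, ⟨hby.symm, by tauto⟩]
        · rintro ⟨h1, h2⟩; tauto
      rw [hL, List.mem_toFinset, List.mem_map] at hl hm
      obtain ⟨l0, hl0, rfl⟩ := hl
      obtain ⟨m0, hm0, rfl⟩ := hm
      obtain ⟨i, hil, hib⟩ := mem_image.1 hbl
      obtain ⟨i', him, hib'⟩ := mem_image.1 hbm
      obtain rfl : i' = i := hφ (hib'.trans hib.symm)
      obtain ⟨k, hk⟩ := mset_pairs l0 hl0 m0 hm0 i' (List.mem_toFinset.1 hil) (List.mem_toFinset.1 him)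
        (fun e => hlm (e ▸ rfl))
      refine ⟨k, ?_⟩
      rw [hk, image_image, hq2, show ψ ∘ Fin.succ = φ from rfl, image_erase hφ, image_union, hib]
  choose f hf using hclass
  have hM : (blocks G v).card = 60 := by
    have e : blocks G v = ((univ : Finset V).erase v) \ nb G v := by
      ext w; simp [blocks, nb]
    rw [e, card_sdiff_of_subset (fun x hx => mem_erase.2 ⟨fun h => G.irrefl (h ▸ mem_nb.1 hx), mem_univ _⟩),
      card_erase_of_mem (mem_univ v), card_univ, hG.card, nb_card hG]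
  let F : ↥(blocks G v) → Fin 60 := fun w => f w.1 w.2
  have hF : Function.Injective F := fun x y e => Subtype.ext <| quad_injOn hG x.2 y.2 <| by
    rw [hf x.1 x.2, hf y.1 y.2]; exact congrArg (fun k => (mset k).image ψ) e
  have hFb : Function.Bijective F := (Fintype.bijective_iff_injective_and_card F).2
    ⟨hF, by rw [Fintype.card_coe, hM, Fintype.card_fin]⟩
  let β : Fin 60 → V := fun k => ((Equiv.ofBijective F hFb).symm k).1
  have hβ : Function.Injective β := fun i j e =>
    (Equiv.ofBijective F hFb).symm.injective (Subtype.ext e)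
  refine ⟨ψ, β, hψ, hψimg, hβ, ?_, fun k => ?_⟩
  · refine eq_of_subset_of_card_le (fun w hw => ?_) ?_
    · obtain ⟨k, -, rfl⟩ := mem_image.1 hw
      exact ((Equiv.ofBijective F hFb).symm k).2
    · rw [card_image_of_injective _ hβ, card_univ, Fintype.card_fin, hM]
  · have h := hf ((Equiv.ofBijective F hFb).symm k).1 ((Equiv.ofBijective F hFb).symm k).2
    rw [show f ((Equiv.ofBijective F hFb).symm k).1 ((Equiv.ofBijective F hFb).symm k).2 = k from
      (Equiv.ofBijective F hFb).apply_symm_apply k] at h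
    exact h

/-- The vertices of the model. -/
abbrev Pt : Type := Unit ⊕ Fin 16 ⊕ Fin 60

/-- Adjacency in the model. -/
def modelAdj : Pt → Pt → Prop
  | .inl _, .inl _ => False
  | .inl _, .inr (.inl _) => True
  | .inl _, .inr (.inr _) => False
  | .inr (.inl _), .inl _ => True
  | .inr (.inl _), .inr (.inl _) => False
  | .inr (.inl i), .inr (.inr k) => i ∈ mset k
  | .inr (.inr _), .inl _ => False
  | .inr (.inr k), .inr (.inl i) => i ∈ mset k
  | .inr (.inr k), .inr (.inr l) => madj k l = true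

theorem exists_equiv (hG : G.IsSRGWith 77 16 0 4) :
    ∃ e : Pt ≃ V, ∀ x y, G.Adj (e x) (e y) ↔ modelAdj x y := by
  classical
  obtain ⟨v⟩ : Nonempty V := Fintype.card_pos_iff.1 (by rw [hG.card]; norm_num)
  obtain ⟨ψ, β, hψ, hψimg, hβ, hβimg, hq⟩ := exists_labels hG v
  have hN : ∀ i, ψ i ∈ nb G v := fun i => hψimg ▸ mem_image_of_mem ψ (mem_univ i)
  have hB : ∀ k, β k ∈ blocks G v := fun k => hβimg ▸ mem_image_of_mem β (mem_univ k)
  let e0 : Pt → V := Sum.elim (fun _ => v) (Sum.elim ψ β)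
  have hinj : Function.Injective e0 := by
    refine Function.Injective.sumElim (fun _ _ _ => Subsingleton.elim _ _) (hψ.sumElim hβ fun i k e => ?_)
      fun _ b e => ?_
    · exact (mem_blocks.1 (hB k)).2 (mem_nb.1 (e ▸ hN i))
    · rcases b with i | k
      · exact G.irrefl (v := v) (by have := mem_nb.1 (hN i); rwa [show ψ i = v from e.symm] at this)
      · exact (mem_blocks.1 (hB k)).1 e.symm
  have hbij : Function.Bijective e0 := (Fintype.bijective_iff_injective_and_card e0).2 ⟨hinj, by simp [hG.card]⟩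
  refine ⟨Equiv.ofBijective e0 hbij, fun x y => ?_⟩
  show G.Adj (e0 x) (e0 y) ↔ _
  have hmem : ∀ i k, G.Adj (ψ i) (β k) ↔ i ∈ mset k := fun i k => by
    have h : ψ i ∈ quad G v (β k) ↔ i ∈ mset k := by
      rw [hq k, hψ.mem_finset_image]
    rw [← h, quad, mem_inter, mem_nb (x := β k), G.adj_comm]
    exact ⟨fun h => ⟨hN i, h⟩, fun h => h.2⟩
  rcases x with _ | i | k <;> rcases y with _ | j | l <;> simp only [e0, Sum.elim_inl, Sum.elim_inr, modelAdj]
  · simp
  · exact iff_of_true (mem_nb.1 (hN j)) trivial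
  · exact iff_of_false (mem_blocks.1 (hB l)).2 id
  · exact iff_of_true (G.adj_symm (mem_nb.1 (hN i))) trivial
  · exact iff_of_false (not_adj_nb hG (hN i) (hN j)) id
  · exact hmem i l
  · exact iff_of_false (fun h => (mem_blocks.1 (hB k)).2 (G.adj_symm h)) id
  · rw [G.adj_comm]; exact hmem j k
  · constructor
    · intro hadj
      have hkl : k ≠ l := fun e => G.irrefl (e ▸ hadj)
      have hdis : mset k ∩ mset l = ∅ := by
        rw [eq_empty_iff_forall_notMem]
        intro i hi
        rw [mem_inter] at hi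
        refine blocks_not_adj hG (c := ψ i) (v := v) ?_ ?_ hadj
        · rw [hq k]; exact mem_image_of_mem ψ hi.1
        · rw [hq l]; exact mem_image_of_mem ψ hi.2
      obtain ⟨t, ht, ht1⟩ := wit_total k l hkl hdis
      obtain ⟨hw, hcnt⟩ := adj_iff_count hG hψ hψimg hβ hq hB ht
      have hl' : t.1 = l.val := ht1
      have := (hcnt l hl').1 hadj
      rw [madj, List.any_eq_true]
      exact ⟨t, ht, by simp [hl', this]⟩
    · intro h
      rw [madj, List.any_eq_true] at h
      obtain ⟨t, ht, h2⟩ := h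
      simp only [Bool.and_eq_true, Nat.beq_eq] at h2
      exact ((adj_iff_count hG hψ hψimg hβ hq hB ht).2 l h2.1).2 h2.2
where
  adj_iff_count (hG : G.IsSRGWith 77 16 0 4) {v : V} {ψ : Fin 16 → V} {β : Fin 60 → V}
      (hψ : Function.Injective ψ) (hψimg : univ.image ψ = nb G v) (hβ : Function.Injective β)
      (hq : ∀ k, quad G v (β k) = (mset k).image ψ) (hB : ∀ k, β k ∈ blocks G v)
      {k : Fin 60} {t : ℕ × ℕ × ℕ × ℕ × ℕ} (ht : t ∈ blockWit.getD k.val []) :
      True ∧ ∀ l : Fin 60, t.1 = l.val → (G.Adj (β k) (β l) ↔ witCount k.val t = 2) := by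
    refine ⟨trivial, fun l hl => ?_⟩
    obtain ⟨a, b, D, E, F, hD, -, -, hab, hDE, hDF, hEF, habs, hCD, hCE, hCF, haC, hbC, hcnt⟩ := wit_check k t ht
    obtain rfl : D = l := Fin.ext (hD.symm.trans hl)
    have hN : ∀ i, ψ i ∈ nb G v := fun i => hψimg ▸ mem_image_of_mem ψ (mem_univ i)
    simp only [insert_subset_iff, singleton_subset_iff, mem_inter] at habs
    obtain ⟨⟨⟨haD, haE⟩, haF⟩, ⟨⟨hbD, hbE⟩, hbF⟩⟩ := habs
    have hin : ∀ X, a ∈ mset X → b ∈ mset X → β X ∈ onPair G v (ψ a) (ψ b) := fun X h1 h2 =>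
      (mem_onPair hG (hN a) (hN b)).2 ⟨hB X, by rw [hq]; exact mem_image_of_mem ψ h1,
        by rw [hq]; exact mem_image_of_mem ψ h2⟩
    have hT : onPair G v (ψ a) (ψ b) = {β D, β E, β F} := by
      symm
      refine eq_of_subset_of_card_le ?_ ?_
      · simp [insert_subset_iff, hin D haD hbD, hin E haE hbE, hin F haF hbF]
      · rw [onPair_card hG (hN a) (hN b) (hψ.ne hab), card_insert_of_notMem (by simp [hβ.eq_iff, hDE, hDF]),
          card_pair (hβ.ne hEF)]
    have hkT : β k ∉ onPair G v (ψ a) (ψ b) := fun h => haC (by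
      have := ((mem_onPair hG (hN a) (hN b)).1 h).2.1
      rw [hq, hψ.mem_finset_image] at this
      exact this)
    have hid := pair_identity hG (hN a) (hN b) (hψ.ne hab) (hB k) hkT
    have hab0 : ({ψ a, ψ b} : Finset V) ∩ quad G v (β k) = ∅ := by
      rw [hq, eq_empty_iff_forall_notMem]
      intro x hx
      simp only [mem_inter, mem_insert, mem_singleton] at hx
      rcases hx with ⟨rfl | rfl, hx⟩
      exacts [haC (hψ.mem_finset_image.1 hx), hbC (hψ.mem_finset_image.1 hx)]
    have hsix : sixOf G v (ψ a) (ψ b) ∩ quad G v (β k) = (mset k ∩ (mset D ∪ mset E ∪ mset F)).image ψ := by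
      ext x
      rw [mem_inter, mem_sixOf, hT]
      simp only [mem_insert, mem_singleton, exists_eq_or_imp, exists_eq_left, hq, mem_image, mem_inter, mem_union]
      constructor
      · rintro ⟨h, i, hi, rfl⟩
        refine ⟨i, ⟨hi, ?_⟩, rfl⟩
        rcases h with ⟨⟨j, hj, e⟩, -⟩ | ⟨⟨j, hj, e⟩, -⟩ | ⟨⟨j, hj, e⟩, -⟩ <;> rw [← hψ e]
        exacts [Or.inl (Or.inl hj), Or.inl (Or.inr hj), Or.inr hj]
      · rintro ⟨i, ⟨hi, h⟩, rfl⟩
        have h1 : ψ i ≠ ψ a := fun e => haC (hψ e ▸ hi)
        have h2 : ψ i ≠ ψ b := fun e => hbC (hψ e ▸ hi)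
        refine ⟨?_, i, hi, rfl⟩
        rcases h with (h | h) | h
        exacts [Or.inl ⟨⟨i, h, rfl⟩, h1, h2⟩, Or.inr (Or.inl ⟨⟨i, h, rfl⟩, h1, h2⟩),
          Or.inr (Or.inr ⟨⟨i, h, rfl⟩, h1, h2⟩)]
    rw [hab0, card_empty, hsix, card_image_of_injective _ hψ, ← hcnt, hT] at hid
    have hno : ∀ X, (mset k ∩ mset X).Nonempty → ¬ G.Adj (β k) (β X) := fun X ⟨i, hi⟩ => by
      rw [mem_inter] at hi
      exact blocks_not_adj hG (c := ψ i) (v := v) (by rw [hq]; exact mem_image_of_mem ψ hi.1)
        (by rw [hq]; exact mem_image_of_mem ψ hi.2)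
    by_cases h : G.Adj (β k) (β D)
    · have e : ({β D, β E, β F} : Finset V) ∩ nb G (β k) = {β D} := by
        ext x; simp only [mem_inter, mem_insert, mem_singleton, mem_nb]
        constructor
        · rintro ⟨rfl | rfl | rfl, h'⟩
          exacts [rfl, absurd h' (hno E hCE), absurd h' (hno F hCF)]
        · rintro rfl; exact ⟨Or.inl rfl, h⟩
      rw [e, card_singleton] at hid
      exact iff_of_true h (by omega)
    · have e : ({β D, β E, β F} : Finset V) ∩ nb G (β k) = ∅ := by
        rw [eq_empty_iff_forall_notMem]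
        intro x hx
        simp only [mem_inter, mem_insert, mem_singleton, mem_nb] at hx
        rcases hx with ⟨rfl | rfl | rfl, h'⟩
        exacts [h h', hno E hCE h', hno F hCF h']
      rw [e, card_empty] at hid
      exact iff_of_false h (by omega)

theorem iso_of_srg {W : Type*} [Fintype W] [DecidableEq W] {H : SimpleGraph W} [DecidableRel H.Adj]
    (hG : G.IsSRGWith 77 16 0 4) (hH : H.IsSRGWith 77 16 0 4) : Nonempty (G ≃g H) := by
  obtain ⟨e, he⟩ := exists_equiv hG
  obtain ⟨f, hf⟩ := exists_equiv hH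
  refine ⟨⟨e.symm.trans f, ?_⟩⟩
  intro x y
  show H.Adj (f (e.symm x)) (f (e.symm y)) ↔ G.Adj x y
  rw [hf, ← he, e.apply_symm_apply, e.apply_symm_apply]

end CfsgLib.Sporadic.SrgSS
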