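import Cfsg.Agent.Lib.Sporadic.SteinerUnique

/-!
# `S(3,6,22)` through a code

Two extra points are put on every block.  A seven-set meeting every block oddly, with one of the two extra
points, completes the span to a good code of length 24, so the system is the set of octads through two points.
-/

set_option autoImplicit false

namespace CfsgLib.Sporadic.Hexad22

open Cfsg Module CfsgLib.Sporadic.Design CfsgLib.Sporadic.Uniq
open scoped Pointwise

local notation "F₂" => ZMod 2

variable {α : Type*} [Fintype α] [DecidableEq α] {B : Set (Finset α)}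

/-- A set with the two extra points. -/
def lift (b : Finset α) : Finset (Option (Option α)) := Finset.insertNone (Finset.insertNone b)

/-- The part away from the two extra points. -/
def core (t : Finset (Option (Option α))) : Finset α := Finset.eraseNone (Finset.eraseNone t)

omit [Fintype α] [DecidableEq α] in
theorem card_lift (b : Finset α) : (lift b).card = b.card + 2 := by
  rw [lift, Finset.card_insertNone, Finset.card_insertNone]

omit [Fintype α] in
theorem lift_inter (b : Finset α) (t : Finset (Option (Option α))) :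
    (lift b ∩ t).card =
      (b ∩ core t).card + (if some none ∈ t then 1 else 0) + (if none ∈ t then 1 else 0) := by
  rw [lift, insertNone_inter_right, insertNone_inter_right, core]
  simp only [Finset.mem_eraseNone]

omit [Fintype α] in
theorem card_core (t : Finset (Option (Option α))) :
    t.card = (core t).card + (if some none ∈ t then 1 else 0) + (if none ∈ t then 1 else 0) := by
  have h : ∀ {γ : Type _} [DecidableEq γ] (u : Finset (Option γ)),
      u.card = (Finset.eraseNone u).card + if none ∈ u then 1 else 0 := by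
    intro γ _ u
    by_cases hn : none ∈ u
    · rw [Finset.card_eraseNone_of_mem hn, if_pos hn]
      have := Finset.card_pos.2 ⟨_, hn⟩
      omega
    · rw [Finset.card_eraseNone_eq_card_erase, Finset.erase_eq_self.2 hn, if_neg hn, Nat.add_zero]
  rw [h t, h (Finset.eraseNone t), core]
  simp only [Finset.mem_eraseNone]

/-- The numbers of blocks meeting a set in each number of points, against the counts. -/
theorem moments (hα : Fintype.card α = 22) (hB : IsSteinerSystem 3 6 B) (s : Finset α) :
    ∃ n : ℕ → ℕ, (n 0 + n 1 + n 2 + n 3 + n 4 + n 5 + n 6 = 77) ∧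
      (n 1 + 2 * n 2 + 3 * n 3 + 4 * n 4 + 5 * n 5 + 6 * n 6 = 21 * s.card) ∧
      (n 2 + 3 * n 3 + 6 * n 4 + 10 * n 5 + 15 * n 6 = 5 * s.card.choose 2) ∧
      (n 3 + 4 * n 4 + 10 * n 5 + 20 * n 6 = s.card.choose 3) ∧
      ∀ i, 0 < n i → ∃ b ∈ B, (b ∩ s).card = i := by
  let n : ℕ → ℕ := fun i => ((blocks B).filter fun b => (b ∩ s).card = i).card
  have hfib : ∀ f : ℕ → ℕ, ∑ b ∈ blocks B, f (b ∩ s).card = ∑ i ∈ Finset.range 7, n i * f i := by
    intro f
    rw [← Finset.sum_fiberwise_of_maps_to (g := fun b : Finset α => (b ∩ s).card) (t := Finset.range 7)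
      fun b hb => Finset.mem_range.2 (by
        have := Finset.card_le_card (Finset.inter_subset_left (s₁ := b) (s₂ := s))
        rw [hB.1 b (mem_blocks.1 hb)] at this
        omega)]
    refine Finset.sum_congr rfl fun i _ => ?_
    rw [Finset.sum_congr rfl (g := fun _ => f i) fun b hb => by rw [(Finset.mem_filter.1 hb).2],
      Finset.sum_const, smul_eq_mul]
  have hlam : ∀ (i : ℕ), i ≤ 3 → ∀ u ⊆ s, u.card = i →
      ((blocks B).filter (u ⊆ ·)).card = [77, 21, 5, 1].getD i 0 := fun i hi u _ hu => by
    have := card_above22 hα hB (s := u) (by omega)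
    rw [hu] at this
    rw [← this]
    rfl
  refine ⟨n, ?_, ?_, ?_, ?_, fun i hi => ?_⟩
  · have h := hfib fun _ => 1
    have h0 : (above B (∅ : Finset α)).card = 77 := by rw [card_above22 hα hB (by simp)]; rfl
    rw [above_empty] at h0
    rw [Finset.sum_const, h0] at h
    simp [Finset.sum_range_succ] at h
    omega
  · have h := hfib fun j => j.choose 1
    rw [sum_choose_inter (blocks B) s 1 21 (hlam 1 (by norm_num))] at h
    simp [Finset.sum_range_succ] at h
    omega
  · have h := hfib fun j => j.choose 2
    rw [sum_choose_inter (blocks B) s 2 5 (hlam 2 (by norm_num))] at h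
    simp [Finset.sum_range_succ, Nat.choose] at h
    omega
  · have h := hfib fun j => j.choose 3
    rw [sum_choose_inter (blocks B) s 3 1 (hlam 3 le_rfl)] at h
    simp [Finset.sum_range_succ, Nat.choose] at h
    omega
  · obtain ⟨b, hb⟩ := Finset.card_pos.1 hi
    rw [Finset.mem_filter, mem_blocks] at hb
    exact ⟨b, hb⟩

/-- A set met by every block oddly has 7, 11 or 15 points, and above 7 some block meets it in five. -/
theorem all_odd (hα : Fintype.card α = 22) (hB : IsSteinerSystem 3 6 B) (s : Finset α)
    (h : ∀ b ∈ B, Odd (b ∩ s).card) :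
    s.card = 7 ∨ ((s.card = 11 ∨ s.card = 15) ∧ ∃ b ∈ B, (b ∩ s).card = 5) := by
  obtain ⟨n, e0, e1, e2, e3, hn⟩ := moments hα hB s
  have hz : ∀ i, i % 2 = 0 → n i = 0 := fun i hi => by
    by_contra hne
    obtain ⟨b, hb, e⟩ := hn i (Nat.pos_of_ne_zero hne)
    obtain ⟨j, hj⟩ := h b hb
    omega
  simp only [hz 0 rfl, hz 2 rfl, hz 4 rfl, hz 6 rfl] at e0 e1 e2 e3
  have h22 : s.card ≤ 22 := hα ▸ s.card_le_univ
  have key : s.card = 7 ∨ (s.card = 11 ∨ s.card = 15) ∧ 0 < n 5 := by
    generalize s.card = k at *
    interval_cases k <;> simp only [Nat.choose] at e2 e3 <;> omega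
  rcases key with h7 | ⟨h', h5⟩
  · exact Or.inl h7
  · exact Or.inr ⟨h', hn 5 h5⟩

/-- A small set met by every block evenly is empty or a block. -/
theorem all_even (hα : Fintype.card α = 22) (hB : IsSteinerSystem 3 6 B) (s : Finset α) (h7 : s.card ≤ 7)
    (h : ∀ b ∈ B, Even (b ∩ s).card) : s.card = 0 ∨ s ∈ B := by
  obtain ⟨n, e0, e1, e2, e3, hn⟩ := moments hα hB s
  have hz : ∀ i, i % 2 = 1 → n i = 0 := fun i hi => by
    by_contra hne
    obtain ⟨b, hb, e⟩ := hn i (Nat.pos_of_ne_zero hne)
    obtain ⟨j, hj⟩ := h b hb
    omega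
  simp only [hz 1 rfl, hz 3 rfl, hz 5 rfl] at e0 e1 e2 e3
  have key : s.card = 0 ∨ s.card = 6 ∧ 0 < n 6 := by
    generalize s.card = k at *
    interval_cases k <;> simp only [Nat.choose] at e2 e3 <;> omega
  rcases key with h0 | ⟨h6, hp⟩
  · exact Or.inl h0
  · obtain ⟨b, hb, e⟩ := hn 6 hp
    have h1 : b ∩ s = b := Finset.eq_of_subset_of_card_le Finset.inter_subset_left (by rw [hB.1 b hb, e])
    have h2 : b ∩ s = s := Finset.eq_of_subset_of_card_le Finset.inter_subset_right (by rw [e, h6])
    exact Or.inr (h2.symm.trans h1 ▸ hb)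

omit [Fintype α] in
theorem lift_inter_lift (b c : Finset α) : lift b ∩ lift c = lift (b ∩ c) := by
  rw [lift, lift, lift, insertNone_inter, insertNone_inter]

theorem even_inter (hα : Fintype.card α = 22) (hB : IsSteinerSystem 3 6 B) {b c : Finset α} (hb : b ∈ B)
    (hc : c ∈ B) : Even (b ∩ c).card := by
  by_cases h : b = c
  · subst h; rw [Finset.inter_self, hB.1 b hb]; decide
  · rcases inter22 hα hB hb hc h with e | e <;> rw [e] <;> decide

/-- Some set meets every block oddly. -/
theorem exists_all_odd (hα : Fintype.card α = 22) (hB : IsSteinerSystem 3 6 B) :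
    ∃ s : Finset α, ∀ b ∈ B, Odd (b ∩ s).card := by
  classical
  let Bf : LinearMap.BilinForm F₂ (Option (Option α) → F₂) :=
    Matrix.toBilin' (1 : Matrix (Option (Option α)) (Option (Option α)) F₂)
  have hBf : ∀ a b, Bf a b = ∑ i, a i * b i := fun a b => by
    simp [Bf, Matrix.toBilin'_apply, Matrix.one_apply]
  have hnd : Bf.Nondegenerate :=
    LinearMap.BilinForm.nondegenerate_toBilin'_of_det_ne_zero' _ (by simp)
  have hrefl : Bf.IsRefl := fun a b h => by
    rw [hBf] at h ⊢; rw [← h]; exact Finset.sum_congr rfl fun i _ => mul_comm _ _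
  set S := span (lift '' B)
  have horth : ∀ v ∈ S, ∀ w ∈ S, Bf v w = 0 := by
    intro v hv w hw
    induction hv using Submodule.span_induction with
    | mem x hx =>
      obtain ⟨_, ⟨b, hb, rfl⟩, rfl⟩ := hx
      induction hw using Submodule.span_induction with
      | mem y hy =>
        obtain ⟨_, ⟨c, hc, rfl⟩, rfl⟩ := hy
        rw [hBf, sum_ind, lift_inter_lift, card_lift, ZMod.natCast_eq_zero_iff_even]
        exact (even_inter hα hB hb hc).add (by decide)
      | zero => exact map_zero _
      | add x y _ _ hx hy => rw [map_add, hx, hy, add_zero]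
      | smul a x _ hx => rw [map_smul, hx, smul_zero]
    | zero => simp
    | add x y _ _ hx hy => rw [map_add, LinearMap.add_apply, hx, hy, add_zero]
    | smul a x _ hx => rw [map_smul, LinearMap.smul_apply, hx, smul_zero]
  have hfour : ∀ w ∈ S, 4 ∣ hammingNorm w := by
    intro w hw
    induction hw using Submodule.span_induction with
    | mem x hx =>
      obtain ⟨_, ⟨b, hb, rfl⟩, rfl⟩ := hx
      rw [norm_ind, card_lift, hB.1 b hb]; norm_num
    | zero => rw [hammingNorm_zero]; exact dvd_zero _
    | add x y hx' hy' hx hy =>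
      obtain ⟨s, rfl⟩ := exists_ind x
      obtain ⟨t, rfl⟩ := exists_ind y
      rw [← ind_symmDiff, norm_ind]
      rw [norm_ind] at hx hy
      refine norm_add_dvd hx hy ?_
      rw [← ZMod.natCast_eq_zero_iff_even, ← sum_ind, ← hBf]
      exact horth _ hx' _ hy'
    | smul a x _ hx =>
      rcases (by revert a; decide : ∀ a : F₂, a = 0 ∨ a = 1) a with e | e <;> subst e
      · rw [zero_smul, hammingNorm_zero]; exact dvd_zero _
      · rwa [one_smul]
  let E : Finset (Option (Option α)) := {none, some none}
  have hE : ind E ∉ S := fun h => by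
    have := hfour _ h
    rw [norm_ind, Finset.card_pair (by simp)] at this
    omega
  rw [← LinearMap.BilinForm.orthogonal_orthogonal hnd hrefl S, LinearMap.BilinForm.mem_orthogonal_iff] at hE
  push Not at hE
  obtain ⟨v, hv, hv1⟩ := hE
  obtain ⟨t, rfl⟩ := exists_ind v
  refine ⟨core t, fun b hb => ?_⟩
  have h0 : Bf (ind (lift b)) (ind t) = 0 := (LinearMap.BilinForm.mem_orthogonal_iff.1 hv) _
    (Submodule.subset_span ⟨_, ⟨b, hb, rfl⟩, rfl⟩)
  rw [hBf, sum_ind, lift_inter, ZMod.natCast_eq_zero_iff_even] at h0
  have h1 : ¬ Even (t ∩ E).card := by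
    rw [← ZMod.natCast_eq_zero_iff_even, ← sum_ind, ← hBf]
    exact hv1
  have hc : (t ∩ E).card = (if some none ∈ t then 1 else 0) + (if none ∈ t then 1 else 0) := by
    rw [Finset.inter_comm]
    by_cases a : none ∈ t <;> by_cases c : some none ∈ t <;>
      simp [E, Finset.insert_inter_of_mem, Finset.insert_inter_of_notMem, Finset.singleton_inter_of_mem,
        Finset.singleton_inter_of_notMem, a, c]
  rw [hc] at h1
  rw [add_assoc, Nat.even_add] at h0
  exact Nat.not_even_iff_odd.1 fun h => h1 (h0.1 h)

theorem exists_seven (hα : Fintype.card α = 22) (hB : IsSteinerSystem 3 6 B) :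
    ∃ s : Finset α, s.card = 7 ∧ ∀ b ∈ B, Odd (b ∩ s).card := by
  have down : ∀ s : Finset α, (∀ b ∈ B, Odd (b ∩ s).card) → ∀ c ∈ B, (c ∩ s).card = 5 →
      (symmDiff c s).card + 4 = s.card ∧ ∀ b ∈ B, Odd (b ∩ symmDiff c s).card := by
    intro s hs c hc h5
    refine ⟨?_, fun b hb => ?_⟩
    · have := card_symmDiff' c s
      rw [hB.1 c hc, h5] at this
      omega
    · rw [show b ∩ symmDiff c s = symmDiff (b ∩ c) (b ∩ s) from inf_symmDiff_distrib_left b c s]
      have h1 := card_symmDiff' (b ∩ c) (b ∩ s)
      obtain ⟨i, hi⟩ := even_inter hα hB hb hc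
      obtain ⟨j, hj⟩ := hs b hb
      rw [Nat.odd_iff]
      omega
  obtain ⟨s, hs⟩ := exists_all_odd hα hB
  rcases all_odd hα hB s hs with h7 | ⟨h', c, hc, h5⟩
  · exact ⟨s, h7, hs⟩
  obtain ⟨e, hodd⟩ := down s hs c hc h5
  rcases all_odd hα hB _ hodd with h7 | ⟨h'', d, hd, h5'⟩
  · exact ⟨_, h7, hodd⟩
  obtain ⟨e', hodd'⟩ := down _ hodd d hd h5'
  exact ⟨_, by omega, hodd'⟩

/-- The completing set. -/
def top (s : Finset α) : Finset (Option (Option α)) :=
  Finset.insertNone (s.map ⟨some, Option.some_injective α⟩)

omit [Fintype α] in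
theorem core_top (s : Finset α) : core (top s) = s ∧ none ∈ top s ∧ some none ∉ top s ∧
    (top s).card = s.card + 1 := by
  refine ⟨?_, by simp [top], by simp [top], by simp [top]⟩
  rw [core, top, Finset.eraseNone_insertNone]
  ext a; simp

theorem good22 (hα : Fintype.card α = 22) (hB : IsSteinerSystem 3 6 B) {s : Finset α} (h7 : s.card = 7)
    (hs : ∀ b ∈ B, Odd (b ∩ s).card) : Good (span (insert (top s) (lift '' B))) := by
  obtain ⟨c1, c2, c3, c4⟩ := core_top s
  have hlt : ∀ b ∈ B, Even (lift b ∩ top s).card := fun b hb => by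
    rw [lift_inter, c1, if_neg c3, if_pos c2]
    exact (hs b hb).add_one
  refine good_span (by simp [hα]) ?_ ?_ ?_
  · rintro g (rfl | ⟨b, hb, rfl⟩)
    · rw [c4, h7]
    · rw [card_lift, hB.1 b hb]
  · rintro g (rfl | ⟨b, hb, rfl⟩) g' (rfl | ⟨b', hb', rfl⟩)
    · rw [Finset.inter_self, c4, h7]; decide
    · rw [Finset.inter_comm]; exact hlt b' hb'
    · exact hlt b hb
    · rw [lift_inter_lift, card_lift]; exact (even_inter hα hB hb hb').add (by decide)
  · intro u h1 hu7
    by_contra hne
    push Not at hne
    have hu := card_core u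
    have hev : ∀ b ∈ B, Even ((b ∩ core u).card + (if some none ∈ u then 1 else 0) +
        (if none ∈ u then 1 else 0)) := fun b hb => by
      rw [← lift_inter]; exact Nat.not_odd_iff_even.1 (hne _ (Or.inr ⟨b, hb, rfl⟩))
    have ht := hne (top s) (Or.inl rfl)
    by_cases hsame : (none ∈ u ↔ some none ∈ u)
    · have hev' : ∀ b ∈ B, Even (b ∩ core u).card := fun b hb => by
        have := hev b hb
        by_cases hn : none ∈ u
        · rw [if_pos hn, if_pos (hsame.1 hn), add_assoc, Nat.even_add] at this
          exact this.2 (by decide)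
        · rw [if_neg hn, if_neg (mt hsame.2 hn), add_zero, add_zero] at this
          exact this
      rcases all_even hα hB (core u) (by omega) hev' with h0 | hmem
      · by_cases hn : none ∈ u
        · refine ht ?_
          have hu' : u = {none, some none} := by
            refine (Finset.eq_of_subset_of_card_le ?_ ?_).symm
            · simp [Finset.insert_subset_iff, hn, hsame.1 hn]
            · rw [hu, h0, if_pos hn, if_pos (hsame.1 hn), Finset.card_pair (by simp)]
          rw [hu', Finset.inter_comm, Finset.insert_inter_of_mem c2, Finset.singleton_inter_of_notMem c3]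
          simp
        · rw [if_neg hn, if_neg (mt hsame.2 hn), h0] at hu
          omega
      · have h6 := hB.1 _ hmem
        by_cases hn : none ∈ u
        · rw [if_pos hn, if_pos (hsame.1 hn)] at hu
          omega
        · refine ht ?_
          have e : top s ∩ u = (core u ∩ s).map
              ⟨fun a => some (some a), (Option.some_injective _).comp (Option.some_injective _)⟩ := by
            ext o
            rcases o with _ | _ | a
            · simp [hn]
            · simp [c3]
            · simp [top, core, Finset.mem_eraseNone, and_comm]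
          rw [e, Finset.card_map]
          exact hs _ hmem
    · have hodd : ∀ b ∈ B, Odd (b ∩ core u).card := fun b hb => by
        have := hev b hb
        by_cases hn : none ∈ u <;> by_cases hn' : some none ∈ u <;> simp_all [Nat.even_add_one]
      have := all_odd hα hB (core u) hodd
      by_cases hn : none ∈ u <;> by_cases hn' : some none ∈ u <;> simp_all <;> omega

theorem octads_through (p q : GolayPt) (h : p ≠ q) : (above octads {p, q}).card = 77 := by
  rw [card_above24 (by simp [GolayPt]) octads_steiner (by simp [Finset.card_pair h]), Finset.card_pair h]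
  rfl

theorem card_blocks22 (hα : Fintype.card α = 22) (hB : IsSteinerSystem 3 6 B) : (blocks B).card = 77 := by
  rw [← above_empty, card_above22 hα hB (by simp)]; rfl

/-- The identification with the octads through two points. -/
structure Frame (B : Set (Finset α)) (e : Option (Option α) ≃ GolayPt) : Prop where
  infty : e none = none
  zero : e (some none) = some 0
  mem : ∀ b : Finset α, (lift b).image e ∈ octads ↔ b ∈ B
  code : ∃ s : Finset α, Good (span (insert (top s) (lift '' B))) ∧ ∀ u : Finset (Option (Option α)),
    ind u ∈ span (insert (top s) (lift '' B)) ↔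
      u.image e ∈ supports (golayCode : Set (GolayPt → ZMod 2))

theorem exists_frame22 (hα : Fintype.card α = 22) (hB : IsSteinerSystem 3 6 B) :
    ∃ e, Frame B e := by
  obtain ⟨s, h7, hs⟩ := exists_seven hα hB
  have hgood := good22 hα hB h7 hs
  obtain ⟨e₀, he⟩ := code_unique hgood
  obtain ⟨g, hg, hg'⟩ := exists_map_two (p := e₀ none) (q := e₀ (some none)) (p' := none) (q' := some 0)
    (e₀.injective.ne (by simp)) (by simp)
  let e : Option (Option α) ≃ GolayPt := e₀.trans g.1
  have hcode : ∀ u : Finset (Option (Option α)), ind u ∈ span (insert (top s) (lift '' B)) ↔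
      u.image e ∈ supports (golayCode : Set (GolayPt → ZMod 2)) := by
    intro u
    have hgu : u.image e = g.1 • u.image e₀ := by
      rw [Finset.smul_finset_def, Finset.image_image]; rfl
    rw [hgu, smul_mem_supports g.2]
    constructor
    · intro h
      refine ⟨ind (u.image e₀), (he _).2 ?_, support₂_ind _⟩
      convert h using 1
      funext i; simp [ind]
    · rintro ⟨w, hw, hwu⟩
      have := (he w).1 hw
      convert this using 1
      funext i
      rw [← ind_support₂ w, hwu]
      simp [ind]
  have hsub : ∀ b ∈ B, (lift b).image e ∈ octads := fun b hb =>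
    ⟨(hcode _).1 (ind_mem_span (Set.mem_insert_of_mem _ ⟨b, hb, rfl⟩)), by
      rw [Finset.card_image_of_injective _ e.injective, card_lift, hB.1 b hb]⟩
  refine ⟨e, hg, hg', fun b => ⟨fun hb => ?_, hsub b⟩, s, hgood, hcode⟩
  have hinj : Function.Injective fun c : Finset α => (lift c).image e :=
    (Finset.image_injective e.injective).comp fun x y h => by
      have := congrArg core h
      simpa [lift, core] using this
  have himg : (blocks B).image (fun c => (lift c).image e) = above octads {none, some 0} := by
    refine Finset.eq_of_subset_of_card_le (fun o ho => ?_) ?_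
    · obtain ⟨c, hc, rfl⟩ := Finset.mem_image.1 ho
      refine mem_above.2 ⟨hsub c (mem_blocks.1 hc), ?_⟩
      simp only [Finset.insert_subset_iff, Finset.singleton_subset_iff, Finset.mem_image]
      exact ⟨⟨none, by simp [lift], hg⟩, ⟨some none, by simp [lift], hg'⟩⟩
    · rw [octads_through none (some 0) (by simp), Finset.card_image_of_injective _ hinj, card_blocks22 hα hB]
  have hmem : (lift b).image e ∈ above octads {none, some 0} := by
    refine mem_above.2 ⟨hb, ?_⟩
    simp only [Finset.insert_subset_iff, Finset.singleton_subset_iff, Finset.mem_image]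
    exact ⟨⟨none, by simp [lift], hg⟩, ⟨some none, by simp [lift], hg'⟩⟩
  rw [← himg] at hmem
  obtain ⟨c, hc, ec⟩ := Finset.mem_image.1 hmem
  exact hinj ec ▸ mem_blocks.1 hc

theorem steiner22 {β : Type*} [Fintype β] [DecidableEq β] (hα : Fintype.card α = 22) (hβ : Fintype.card β = 22)
    {B' : Set (Finset β)} (hB : IsSteinerSystem 3 6 B) (hB' : IsSteinerSystem 3 6 B') : SetSystemIso B B' := by
  obtain ⟨e, he⟩ := exists_frame22 hα hB
  obtain ⟨e', he'⟩ := exists_frame22 hβ hB'
  let h : Option (Option α) ≃ Option (Option β) := e.trans e'.symm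
  have h0 : h none = none := by simp [h, he.infty, Equiv.symm_apply_eq, he'.infty]
  have h1 : h (some none) = some none := by simp [h, he.zero, Equiv.symm_apply_eq, he'.zero]
  let h' : Option α ≃ Option β := Equiv.removeNone h
  have hsome : ∀ a, h (some a) = some (h' a) := fun a =>
    (Equiv.removeNone_some h (Option.ne_none_iff_exists'.1 fun x =>
      Option.some_ne_none a (h.injective (x.trans h0.symm)))).symm
  have h'0 : h' none = none := Option.some_injective _ ((hsome none).symm.trans h1)
  let f : α ≃ β := Equiv.removeNone h'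
  have hsome' : ∀ a, h' (some a) = some (f a) := fun a =>
    (Equiv.removeNone_some h' (Option.ne_none_iff_exists'.1 fun x =>
      Option.some_ne_none a (h'.injective (x.trans h'0.symm)))).symm
  have hlift : ∀ b : Finset α, (lift (b.image f)).image e' = (lift b).image e := fun b => by
    rw [lift, lift, ← map_insertNone, ← map_insertNone, Finset.image_image]
    refine Finset.image_congr fun o _ => ?_
    rcases o with _ | _ | a
    · simp [he.infty, he'.infty]
    · simp [he.zero, he'.zero]
    · have : h (some (some a)) = some (some (f a)) := by rw [hsome, hsome']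
      simp only [h, Equiv.trans_apply, Equiv.symm_apply_eq] at this
      simp [this]
  refine ⟨f, Set.ext fun c => ⟨?_, fun hc => ⟨c.image f.symm, ?_, by simp [Finset.image_image]⟩⟩⟩
  · rintro ⟨b, hb, rfl⟩
    rw [← he'.mem, hlift, he.mem]
    exact hb
  · rw [← he.mem, ← hlift, Finset.image_image]
    simpa [he'.mem] using hc

end CfsgLib.Sporadic.Hexad22
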