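import Cfsg.Prelude.Def_Classical

/-!
# Witt index of the two binary quadratic forms
-/

set_option autoImplicit false

namespace CfsgLib.Sporadic.Witt

open Cfsg Module

local notation "F₂" => ZMod 2

/-- The sign of a binary value. -/
def sgn (x : F₂) : ℤ := if x = 0 then 1 else -1

theorem sgn_add : ∀ x y : F₂, sgn (x + y) = sgn x * sgn y := by decide

variable {V : Type*} [AddCommGroup V] [Module F₂ V] [Finite V] {Q : V → F₂} (B : V →ₗ[F₂] V →ₗ[F₂] F₂)

theorem le_ker (hQ : ∀ u v, Q (u + v) = Q u + Q v + B u v) {U : Submodule F₂ V}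
    (hU : ∀ u ∈ U, Q u = 0) : U ≤ LinearMap.ker (U.dualRestrict ∘ₗ B) := by
  intro u hu
  rw [LinearMap.mem_ker]
  refine LinearMap.ext fun w => ?_
  have h := hQ u w.1
  rw [hU _ (U.add_mem hu w.2), hU u hu, hU _ w.2, zero_add, zero_add] at h
  exact h.symm

theorem ker_add (hB : Function.Injective B) (U : Submodule F₂ V) :
    finrank F₂ (LinearMap.ker (U.dualRestrict ∘ₗ B)) + finrank F₂ U = finrank F₂ V := by
  have hs : Function.Surjective B :=
    (LinearMap.injective_iff_surjective_of_finrank_eq_finrank Subspace.dual_finrank_eq.symm).1 hB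
  have hr : LinearMap.range (U.dualRestrict ∘ₗ B) = ⊤ :=
    LinearMap.range_eq_top.2 ((Subspace.dualRestrict_surjective (W := U)).comp hs)
  have := LinearMap.finrank_range_add_finrank_ker (U.dualRestrict ∘ₗ B)
  rw [hr, finrank_top, Subspace.dual_finrank_eq] at this
  omega

theorem two_mul_le (hQ : ∀ u v, Q (u + v) = Q u + Q v + B u v) (hB : Function.Injective B)
    {U : Submodule F₂ V} (hU : ∀ u ∈ U, Q u = 0) : 2 * finrank F₂ U ≤ finrank F₂ V := by
  have := Submodule.finrank_mono (le_ker B hQ hU)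
  have := ker_add B hB U
  omega

open Classical in
theorem sum_sgn [Fintype V] (hQ : ∀ u v, Q (u + v) = Q u + Q v + B u v) (hB : Function.Injective B)
    {U : Submodule F₂ V} (hU : ∀ u ∈ U, Q u = 0) (h2 : 2 * finrank F₂ U = finrank F₂ V) :
    ∑ v : V, sgn (Q v) = Nat.card U := by
  have hker : U = LinearMap.ker (U.dualRestrict ∘ₗ B) :=
    Submodule.eq_of_le_of_finrank_eq (le_ker B hQ hU) (by have := ker_add B hB U; omega)
  have inner : ∀ v, ∑ u : U, sgn (Q (v + u)) = if v ∈ U then (Nat.card U : ℤ) else 0 := by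
    intro v
    split_ifs with hv
    · rw [Finset.sum_eq_card_nsmul (b := 1) fun u _ => by
        rw [hU _ (U.add_mem hv u.2)]; rfl, nsmul_one, Finset.card_univ, Nat.card_eq_fintype_card]
    · have : v ∉ LinearMap.ker (U.dualRestrict ∘ₗ B) := hker ▸ hv
      rw [LinearMap.mem_ker] at this
      obtain ⟨w, hw⟩ := DFunLike.ne_iff.1 this
      have hw1 : B v w = 1 := (by decide : ∀ x : F₂, x ≠ 0 → x = 1) _ hw
      have key : ∑ u : U, sgn (Q (v + u)) = -∑ u : U, sgn (Q (v + u)) := by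
        conv_lhs => rw [← Equiv.sum_comp (Equiv.addRight w)]
        rw [← Finset.sum_neg_distrib]
        refine Finset.sum_congr rfl fun u _ => ?_
        simp only [Equiv.coe_addRight, Submodule.coe_add]
        rw [hQ v (_ + _), hU _ (U.add_mem u.2 w.2), hQ v u, hU _ u.2, map_add, hw1, add_zero,
          ← add_assoc, sgn_add (Q v + B v u) 1]
        show _ * -1 = _
        ring
      omega
  have h1 : (∑ v : V, sgn (Q v)) * (Nat.card U : ℤ) = (Nat.card U : ℤ) * Nat.card U := by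
    have : ∀ u : U, ∑ v : V, sgn (Q v) = ∑ v : V, sgn (Q (v + u)) := fun u =>
      (Equiv.sum_comp (Equiv.addRight (u : V)) fun v => sgn (Q v)).symm
    calc (∑ v : V, sgn (Q v)) * (Nat.card U : ℤ) = ∑ _u : U, ∑ v : V, sgn (Q v) := by
          rw [Finset.sum_const, Finset.card_univ, nsmul_eq_mul, Nat.card_eq_fintype_card, mul_comm]
      _ = ∑ u : U, ∑ v : V, sgn (Q (v + u)) := Finset.sum_congr rfl fun u _ => this u
      _ = ∑ v : V, ∑ u : U, sgn (Q (v + u)) := Finset.sum_comm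
      _ = _ := by
        simp only [inner]
        rw [Finset.sum_ite, Finset.sum_const_zero, add_zero, Finset.sum_const, nsmul_eq_mul,
          Nat.card_eq_fintype_card (α := U), Fintype.card_subtype]
  exact mul_right_cancel₀ (by exact_mod_cast Nat.card_pos.ne') h1

/-- The polar form of the plus form. -/
def bPlus (m : ℕ) : (Fin m ⊕ Fin m → F₂) →ₗ[F₂] (Fin m ⊕ Fin m → F₂) →ₗ[F₂] F₂ :=
  LinearMap.mk₂ F₂ (fun u v => ∑ i, (u (.inl i) * v (.inr i) + u (.inr i) * v (.inl i)))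
    (fun _ _ _ => by rw [← Finset.sum_add_distrib]; exact Finset.sum_congr rfl fun _ _ => by simp; ring)
    (fun _ _ _ => by rw [Finset.smul_sum]; exact Finset.sum_congr rfl fun _ _ => by simp; ring)
    (fun _ _ _ => by rw [← Finset.sum_add_distrib]; exact Finset.sum_congr rfl fun _ _ => by simp; ring)
    (fun _ _ _ => by rw [Finset.smul_sum]; exact Finset.sum_congr rfl fun _ _ => by simp; ring)

theorem plus_add (m : ℕ) (u v : Fin m ⊕ Fin m → F₂) :
    quadFormPlus m F₂ (u + v) = quadFormPlus m F₂ u + quadFormPlus m F₂ v + bPlus m u v := by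
  simp only [quadFormPlus, bPlus, LinearMap.mk₂_apply]
  rw [← Finset.sum_add_distrib, ← Finset.sum_add_distrib]
  exact Finset.sum_congr rfl fun _ _ => by simp; ring

theorem plus_inj (m : ℕ) : Function.Injective (bPlus m) := by
  intro u v h
  funext j
  rcases j with j | j
  · simpa [bPlus, Pi.single_apply] using LinearMap.congr_fun h (Pi.single (.inr j) 1)
  · simpa [bPlus, Pi.single_apply] using LinearMap.congr_fun h (Pi.single (.inl j) 1)

/-- The standard totally singular subspace. -/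
def halfPlus (m : ℕ) : Submodule F₂ (Fin m ⊕ Fin m → F₂) where
  carrier := {v | ∀ i, v (.inr i) = 0}
  zero_mem' := fun _ => rfl
  add_mem' := fun hu hv i => by simp [hu i, hv i]
  smul_mem' := fun c v hv i => by simp [hv i]

theorem halfPlus_singular (m : ℕ) : ∀ u ∈ halfPlus m, quadFormPlus m F₂ u = 0 := fun u hu =>
  Finset.sum_eq_zero fun i _ => by rw [hu i, mul_zero]

theorem finrank_halfPlus (m : ℕ) : finrank F₂ (halfPlus m) = m := by
  let e : halfPlus m ≃ₗ[F₂] (Fin m → F₂) :=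
    { toFun := fun v i => v.1 (.inl i)
      map_add' := fun _ _ => rfl
      map_smul' := fun _ _ => rfl
      invFun := fun x => ⟨Sum.elim x 0, fun _ => rfl⟩
      left_inv := fun v => Subtype.ext (funext fun j => by
        rcases j with j | j
        · rfl
        · exact (v.2 j).symm)
      right_inv := fun _ => rfl }
  rw [e.finrank_eq, finrank_fin_fun]

theorem plus_le (m : ℕ) (U : Submodule F₂ (Fin m ⊕ Fin m → F₂))
    (hU : ∀ u ∈ U, quadFormPlus m F₂ u = 0) : finrank F₂ U ≤ m := by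
  have := two_mul_le (bPlus m) (plus_add m) (plus_inj m) hU
  rw [finrank_fintype_fun_eq_card, Fintype.card_sum, Fintype.card_fin] at this
  omega

/-- The polar form of the minus form. -/
def bMinus (n : ℕ) : ((Fin n ⊕ Fin n) ⊕ Fin 2 → F₂) →ₗ[F₂] ((Fin n ⊕ Fin n) ⊕ Fin 2 → F₂) →ₗ[F₂] F₂ :=
  LinearMap.mk₂ F₂ (fun u v => bPlus n (u ∘ Sum.inl) (v ∘ Sum.inl) +
      (u (.inr 0) * v (.inr 1) + u (.inr 1) * v (.inr 0)))
    (fun a b c => by
      rw [show (a + b) ∘ Sum.inl = a ∘ Sum.inl + b ∘ Sum.inl from rfl, map_add, LinearMap.add_apply]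
      simp; ring)
    (fun k a c => by
      rw [show (k • a) ∘ Sum.inl = k • (a ∘ Sum.inl) from rfl, map_smul, LinearMap.smul_apply]
      simp; ring)
    (fun a b c => by
      rw [show (b + c) ∘ Sum.inl = b ∘ Sum.inl + c ∘ Sum.inl from rfl, map_add]
      simp; ring)
    (fun k a c => by
      rw [show (k • c) ∘ Sum.inl = k • (c ∘ Sum.inl) from rfl, map_smul]
      simp; ring)

theorem minus_eq (n : ℕ) (v : (Fin n ⊕ Fin n) ⊕ Fin 2 → F₂) :
    quadFormMinus n F₂ 1 1 v = quadFormPlus n F₂ (v ∘ Sum.inl) +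
      (v (.inr 0) ^ 2 + 1 * v (.inr 0) * v (.inr 1) + 1 * v (.inr 1) ^ 2) := rfl

theorem minus_add (n : ℕ) (u v : (Fin n ⊕ Fin n) ⊕ Fin 2 → F₂) :
    quadFormMinus n F₂ 1 1 (u + v) =
      quadFormMinus n F₂ 1 1 u + quadFormMinus n F₂ 1 1 v + bMinus n u v := by
  have two : (2 : F₂) = 0 := by decide
  rw [minus_eq, minus_eq, minus_eq,
    show (u + v) ∘ Sum.inl = u ∘ Sum.inl + v ∘ Sum.inl from rfl, plus_add]
  simp only [bMinus, LinearMap.mk₂_apply, Pi.add_apply]
  linear_combination (u (.inr 0) * v (.inr 0) + u (.inr 1) * v (.inr 1)) * two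

theorem minus_inj (n : ℕ) : Function.Injective (bMinus n) := by
  intro u v h
  funext j
  rcases j with j | j
  · exact congrFun (plus_inj n (LinearMap.ext fun w => by
      simpa [bMinus] using LinearMap.congr_fun h (Sum.elim w 0))) j
  · fin_cases j
    · simpa [bMinus, show (Pi.single (Sum.inr 1) 1 : (Fin n ⊕ Fin n) ⊕ Fin 2 → F₂) ∘ Sum.inl = 0 from
        funext fun _ => by simp] using LinearMap.congr_fun h (Pi.single (.inr 1) 1)
    · simpa [bMinus, show (Pi.single (Sum.inr 0) 1 : (Fin n ⊕ Fin n) ⊕ Fin 2 → F₂) ∘ Sum.inl = 0 from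
        funext fun _ => by simp] using LinearMap.congr_fun h (Pi.single (.inr 0) 1)

theorem minus_le (n : ℕ) (U : Submodule F₂ ((Fin n ⊕ Fin n) ⊕ Fin 2 → F₂))
    (hU : ∀ u ∈ U, quadFormMinus n F₂ 1 1 u = 0) : finrank F₂ U ≤ n := by
  have hle := two_mul_le (bMinus n) (minus_add n) (minus_inj n) hU
  have hdim : finrank F₂ ((Fin n ⊕ Fin n) ⊕ Fin 2 → F₂) = 2 * (n + 1) := by
    rw [finrank_fintype_fun_eq_card, Fintype.card_sum, Fintype.card_sum, Fintype.card_fin,
      Fintype.card_fin]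
    ring
  by_contra hc
  have heq : 2 * finrank F₂ U = finrank F₂ ((Fin n ⊕ Fin n) ⊕ Fin 2 → F₂) := by omega
  have h1 := sum_sgn (bMinus n) (minus_add n) (minus_inj n) hU heq
  have h2 := sum_sgn (bPlus n) (plus_add n) (plus_inj n) (halfPlus_singular n) (by
    rw [finrank_halfPlus, finrank_fintype_fun_eq_card, Fintype.card_sum, Fintype.card_fin]; ring)
  have h3 : ∑ v, sgn (quadFormMinus n F₂ 1 1 v) = -2 * ∑ a, sgn (quadFormPlus n F₂ a) := by
    rw [← Equiv.sum_comp (Equiv.sumArrowEquivProdArrow (Fin n ⊕ Fin n) (Fin 2) F₂).symm,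
      Fintype.sum_prod_type, Finset.mul_sum]
    refine Finset.sum_congr rfl fun a _ => ?_
    have hb : ∑ b : Fin 2 → F₂, sgn (b 0 ^ 2 + 1 * b 0 * b 1 + 1 * b 1 ^ 2) = -2 := by decide
    rw [← hb, Finset.sum_mul]
    refine Finset.sum_congr rfl fun b _ => ?_
    rw [minus_eq, sgn_add, mul_comm]
    rfl
  rw [h1, h2] at h3
  have : 0 < Nat.card U := Nat.card_pos
  have : 0 < Nat.card (halfPlus n) := Nat.card_pos
  omega

theorem exists_minus (n : ℕ) : ∃ U : Submodule F₂ ((Fin n ⊕ Fin n) ⊕ Fin 2 → F₂),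
    (∀ u ∈ U, quadFormMinus n F₂ 1 1 u = 0) ∧ finrank F₂ U = n := by
  let φ : (Fin n ⊕ Fin n → F₂) →ₗ[F₂] ((Fin n ⊕ Fin n) ⊕ Fin 2 → F₂) :=
    { toFun := fun v => Sum.elim v 0
      map_add' := fun _ _ => funext fun j => by rcases j with j | j <;> simp
      map_smul' := fun _ _ => funext fun j => by rcases j with j | j <;> simp }
  refine ⟨(halfPlus n).map φ, ?_, ?_⟩
  · rintro _ ⟨v, hv, rfl⟩
    rw [minus_eq]
    simp [φ, halfPlus_singular n v hv]
  · rw [(Submodule.equivMapOfInjective φ (fun a b h => funext fun j => congrFun h (.inl j))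
      (halfPlus n)).finrank_eq.symm, finrank_halfPlus]

theorem witt_index (m : ℕ) (hm : 1 ≤ m) :
    (∃ U : Submodule F₂ (Fin m ⊕ Fin m → F₂), (∀ u ∈ U, quadFormPlus m F₂ u = 0) ∧ finrank F₂ U = m) ∧
    (∀ U : Submodule F₂ (Fin m ⊕ Fin m → F₂), (∀ u ∈ U, quadFormPlus m F₂ u = 0) → finrank F₂ U ≤ m) ∧
    (∃ U : Submodule F₂ ((Fin (m - 1) ⊕ Fin (m - 1)) ⊕ Fin 2 → F₂),
      (∀ u ∈ U, quadFormMinus (m - 1) F₂ 1 1 u = 0) ∧ finrank F₂ U = m - 1) ∧
    ∀ U : Submodule F₂ ((Fin (m - 1) ⊕ Fin (m - 1)) ⊕ Fin 2 → F₂),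
      (∀ u ∈ U, quadFormMinus (m - 1) F₂ 1 1 u = 0) → finrank F₂ U ≤ m - 1 :=
  ⟨⟨halfPlus m, halfPlus_singular m, finrank_halfPlus m⟩, plus_le m, exists_minus _, minus_le _⟩

end CfsgLib.Sporadic.Witt
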